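import Groth.Statements.S9436
import Mathlib

set_option autoImplicit false
universe u
open CAlg

namespace Groth.Agent.S9436
open MvPolynomial TensorProduct Algebra
set_option backward.isDefEq.respectTransparency.types false

open TensorProduct in
/-- Étale algebras lift along surjections: for an ideal I of R and an étale (R/I)-algebra S̄ there is an
étale R-algebra S with (R/I) ⊗_R S ≅ S̄ over R/I. -/
theorem result (R : Type u) [CommRing R] (I : Ideal R) (Sb : Type u)
    [CommRing Sb] [Algebra (R ⧸ I) Sb] [Algebra.Etale (R ⧸ I) Sb] :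
    ∃ (S : Type u) (_ : CommRing S) (_ : Algebra R S), Algebra.Etale R S ∧
      Nonempty (((R ⧸ I) ⊗[R] S) ≃ₐ[R ⧸ I] Sb) := by
  classical
  obtain ⟨ι, σ, _, _, P, hdim⟩ := (Algebra.Etale.iff_isStandardSmoothOfRelativeDimension_zero.mp (inferInstance : Algebra.Etale (R ⧸ I) Sb)).out
  cases nonempty_fintype σ
  cases nonempty_fintype ι
  let π := Ideal.Quotient.mk I
  choose v hv using fun j => MvPolynomial.map_surjective π Ideal.Quotient.mk_surjective (P.relation j)
  let J := Ideal.span (Set.range v)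
  let P0 : PreSubmersivePresentation R (MvPolynomial ι R ⧸ J) ι σ :=
    PreSubmersivePresentation.naive P.map P.map_inj (Function.surjInv Ideal.Quotient.mk_surjective) (Function.surjInv_eq Ideal.Quotient.mk_surjective)
  let d : MvPolynomial ι R := (Matrix.of fun i j => MvPolynomial.pderiv (P.map i) (v j)).det
  let r := Ideal.Quotient.mk J d
  let S := Localization.Away r
  have hj0 : P0.jacobian = r := by
    rw [PreSubmersivePresentation.jacobian_eq_jacobiMatrix_det]
    have : P0.jacobiMatrix = Matrix.of fun i j => MvPolynomial.pderiv (P.map i) (v j) := by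
      refine Matrix.ext fun i j => ?_
      exact (PreSubmersivePresentation.jacobiMatrix_naive (v := v) P.map P.map_inj _ _ i j).trans rfl
    rw [this]
    rfl
  let P1 : SubmersivePresentation R S (Unit ⊕ ι) (Unit ⊕ σ) :=
    { toPreSubmersivePresentation := (PreSubmersivePresentation.localizationAway S r).comp P0
      jacobian_isUnit := by
        rw [PreSubmersivePresentation.comp_jacobian_eq_jacobian_smul_jacobian, Algebra.smul_def, PreSubmersivePresentation.localizationAway_jacobian, hj0]
        exact (IsLocalization.Away.algebraMap_isUnit r).mul (IsLocalization.Away.algebraMap_isUnit r) }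
  have hSdim : P1.dimension = 0 := by
    simp only [Algebra.Presentation.dimension, Nat.card_sum, Nat.card_unique] at hdim ⊢
    omega
  have hSsm : Algebra.IsStandardSmoothOfRelativeDimension 0 R S := ⟨⟨_, _, inferInstance, inferInstance, P1, hSdim⟩⟩
  refine ⟨S, inferInstance, inferInstance, Algebra.Etale.iff_isStandardSmoothOfRelativeDimension_zero.mpr hSsm, ?_⟩
  letI : Algebra R Sb := ((algebraMap (R ⧸ I) Sb).comp π).toAlgebra
  haveI : IsScalarTower R (R ⧸ I) Sb := IsScalarTower.of_algebraMap_eq fun x => rfl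
  have hmap : ∀ p : MvPolynomial ι R, MvPolynomial.aeval P.val (MvPolynomial.map π p) = MvPolynomial.aeval (R := R) P.val p := by
    intro p
    exact MvPolynomial.aeval_map_algebraMap (R ⧸ I) P.val p
  let e0 : (MvPolynomial ι R ⧸ J) →ₐ[R] Sb := Ideal.Quotient.liftₐ J (MvPolynomial.aeval P.val) (fun a ha => by
    refine (show J ≤ RingHom.ker (MvPolynomial.aeval (R := R) P.val) from ?_) ha
    rw [Ideal.span_le]
    rintro _ ⟨j, rfl⟩
    show MvPolynomial.aeval (R := R) P.val (v j) = 0
    rw [← hmap, hv]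
    exact P.aeval_val_relation j)
  have hr : IsUnit (e0 r) := by
    show IsUnit (MvPolynomial.aeval (R := R) P.val d)
    rw [← hmap]
    have : MvPolynomial.map π d = P.jacobiMatrix.det := by
      simp only [d, RingHom.map_det]
      congr 1
      ext i j
      simp [PreSubmersivePresentation.jacobiMatrix_apply, ← hv, MvPolynomial.pderiv_map]
    rw [this, ← P.algebraMap_apply, ← PreSubmersivePresentation.jacobian_eq_jacobiMatrix_det]
    exact P.jacobian_isUnit
  let e1 : S →ₐ[R] Sb := IsLocalization.liftAlgHom (M := Submonoid.powers r) (f := e0) (by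
    rintro ⟨_, n, rfl⟩; rw [map_pow]; exact hr.pow n)
  let F : (R ⧸ I) ⊗[R] S →ₐ[R ⧸ I] Sb := Algebra.TensorProduct.lift (Algebra.ofId _ _) e1 (fun _ _ => Commute.all _ _)
  let x : ι → (R ⧸ I) ⊗[R] S := fun i => (1 : R ⧸ I) ⊗ₜ[R] algebraMap (MvPolynomial ι R ⧸ J) S (Ideal.Quotient.mk J (MvPolynomial.X i))
  let g : MvPolynomial ι (R ⧸ I) →ₐ[R ⧸ I] (R ⧸ I) ⊗[R] S := MvPolynomial.aeval x
  let inc : MvPolynomial ι R →ₐ[R] (R ⧸ I) ⊗[R] S :=
    (Algebra.TensorProduct.includeRight).comp ((IsScalarTower.toAlgHom R (MvPolynomial ι R ⧸ J) S).comp (Ideal.Quotient.mkₐ R J))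
  have hinc : ∀ p, g (MvPolynomial.map π p) = inc p := by
    intro p
    have : (g.restrictScalars R).comp (MvPolynomial.mapAlgHom (Algebra.ofId R (R ⧸ I))) = inc := by
      apply MvPolynomial.algHom_ext; intro i
      simp [g, x, inc]
    exact AlgHom.congr_fun this p
  have hg : P.ker ≤ RingHom.ker g := by
    rw [← P.span_range_relation_eq_ker, Ideal.span_le]
    rintro _ ⟨j, rfl⟩
    show g (P.relation j) = 0
    rw [← hv, hinc]
    show (1 : R ⧸ I) ⊗ₜ[R] algebraMap (MvPolynomial ι R ⧸ J) S (Ideal.Quotient.mk J (v j)) = 0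
    rw [Ideal.Quotient.eq_zero_iff_mem.mpr (Ideal.subset_span ⟨j, rfl⟩ : v j ∈ J), map_zero, TensorProduct.tmul_zero]
  have hsurj : Function.Surjective (MvPolynomial.aeval (R := R ⧸ I) P.val) := fun s => ⟨P.σ s, P.aeval_val_σ s⟩
  let G : Sb →ₐ[R ⧸ I] (R ⧸ I) ⊗[R] S :=
    AlgHom.liftOfSurjective (MvPolynomial.aeval P.val) hsurj g (fun a ha => hg (by rw [P.ker_eq_ker_aeval_val]; exact ha))
  have hG : ∀ i, G (P.val i) = x i := fun i => by
    have := AlgHom.liftOfSurjective_apply (MvPolynomial.aeval (R := R ⧸ I) P.val) hsurj g (fun a ha => hg (by rw [P.ker_eq_ker_aeval_val]; exact ha)) (MvPolynomial.X i)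
    simpa [g, G] using this
  have hFx : ∀ i, F (x i) = P.val i := fun i => by
    simp [F, x, e1, e0]
  refine ⟨AlgEquiv.ofAlgHom F G ?_ ?_⟩
  · refine AlgHom.cancel_right hsurj |>.mp (MvPolynomial.algHom_ext fun i => ?_)
    simp [hG, hFx]
  · refine Algebra.TensorProduct.ext (Algebra.ext_id _ _ _) ?_
    refine IsLocalization.algHom_ext (Submonoid.powers r) ?_
    refine Ideal.Quotient.algHom_ext R (MvPolynomial.algHom_ext fun i => ?_)
    show G (F (x i)) = x i
    rw [hFx, hG]

end Groth.Agent.S9436
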