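import Groth.Statements.S10618
import Groth.Agent.Lib.AlgSpBasic

set_option autoImplicit false
set_option backward.isDefEq.respectTransparency.types false
universe u
open CategoryTheory CategoryTheory.Limits AlgebraicGeometry
open AlgSp

namespace Groth.Agent.S10618

/-- Let a : F ⟶ G and b : G ⟶ H be morphisms of fppf sheaves on (Sch/S) with b formally unramified. If a
≫ b is formally unramified, resp. formally etale, resp. formally smooth, then so is a. (The
published statement is for transformations of arbitrary presheaves of sets on (Sch/S)_fppf; this row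
takes fppf sheaves, the case of algebraic spaces.) -/
theorem result {S : Scheme.{u}} {F G H : AlgSp.Sp S} (a : F ⟶ G) (b : G ⟶ H)
    (hb : AlgSp.IsFormallyUnramifiedMor b) :
    (AlgSp.IsFormallyUnramifiedMor (a ≫ b) → AlgSp.IsFormallyUnramifiedMor a) ∧
    (AlgSp.IsFormallyEtaleMor (a ≫ b) → AlgSp.IsFormallyEtaleMor a) ∧
    (AlgSp.IsFormallySmoothMor (a ≫ b) → AlgSp.IsFormallySmoothMor a) := by
  have ex : (∀ q : InfSq (a ≫ b), q.HasLift) → ∀ sq : InfSq a, sq.HasLift := by
    intro h sq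
    let q : InfSq (a ≫ b) := { A := sq.A, I := sq.I, sq_zero := sq.sq_zero, str := sq.str, top := sq.top, bot := sq.bot ≫ b, comm := by rw [reassoc_of% sq.comm] }
    obtain ⟨l, h₁, h₂⟩ := h q
    refine ⟨l, h₁, ?_⟩
    refine hb { A := sq.A, I := sq.I, sq_zero := sq.sq_zero, str := sq.str, top := sq.top ≫ a, bot := sq.bot ≫ b, comm := by rw [Category.assoc, reassoc_of% sq.comm] } (l ≫ a) sq.bot
      ((Category.assoc _ _ _).symm.trans (congrArg (· ≫ a) h₁)) ((Category.assoc _ _ _).trans h₂)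
      sq.comm.symm rfl
  have uq : (∀ q : InfSq (a ≫ b), q.HasUniq) → ∀ sq : InfSq a, sq.HasUniq := by
    intro h sq l l' h₁ h₂ h₃ h₄
    exact h { A := sq.A, I := sq.I, sq_zero := sq.sq_zero, str := sq.str, top := sq.top, bot := sq.bot ≫ b, comm := by rw [reassoc_of% sq.comm] } l l' h₁ (by rw [reassoc_of% h₂]) h₃
      (by rw [reassoc_of% h₄])
  refine ⟨fun h => uq h, fun h sq => ?_, fun h => ex h⟩
  obtain ⟨l, hl⟩ := ex (fun q => (h q).exists) sq
  exact ⟨l, hl, fun l' hl' =>
    uq (fun q x y h₁ h₂ h₃ h₄ => (h q).unique ⟨h₁, h₂⟩ ⟨h₃, h₄⟩) sq l' l hl'.1 hl'.2 hl.1 hl.2⟩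

end Groth.Agent.S10618
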