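import Groth.Statements.S10619
import Groth.Agent.Lib.AlgSpBasic

set_option autoImplicit false
set_option backward.isDefEq.respectTransparency.types false
universe u
open CategoryTheory CategoryTheory.Limits AlgebraicGeometry
open AlgSp

namespace Groth.Agent.S10619

/-- A composition of formally smooth, resp. formally etale, resp. formally unramified morphisms of fppf
sheaves on (Sch/S) is again formally smooth, resp. formally etale, resp. formally unramified. (The
published statement is for transformations of arbitrary presheaves of sets on (Sch/S)_fppf; this row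
takes fppf sheaves, the case of algebraic spaces.) -/
theorem result {S : Scheme.{u}} {F G H : AlgSp.Sp S} (a : F ⟶ G) (b : G ⟶ H) :
    (AlgSp.IsFormallySmoothMor a → AlgSp.IsFormallySmoothMor b → AlgSp.IsFormallySmoothMor (a ≫ b)) ∧
    (AlgSp.IsFormallyEtaleMor a → AlgSp.IsFormallyEtaleMor b → AlgSp.IsFormallyEtaleMor (a ≫ b)) ∧
    (AlgSp.IsFormallyUnramifiedMor a → AlgSp.IsFormallyUnramifiedMor b → AlgSp.IsFormallyUnramifiedMor (a ≫ b)) := by
  have ex : (∀ q : InfSq a, q.HasLift) → (∀ q : InfSq b, q.HasLift) → ∀ sq : InfSq (a ≫ b), sq.HasLift := by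
    intro ha hb sq
    obtain ⟨m, h₁, h₂⟩ := hb { A := sq.A, I := sq.I, sq_zero := sq.sq_zero, str := sq.str, top := sq.top ≫ a, bot := sq.bot, comm := by rw [Category.assoc]; exact sq.comm }
    obtain ⟨l, h₃, h₄⟩ := ha { A := sq.A, I := sq.I, sq_zero := sq.sq_zero, str := sq.str, top := sq.top, bot := m, comm := h₁.symm }
    exact ⟨l, h₃, by rw [reassoc_of% h₄]; exact h₂⟩
  have uq : (∀ q : InfSq a, q.HasUniq) → (∀ q : InfSq b, q.HasUniq) → ∀ sq : InfSq (a ≫ b), sq.HasUniq := by
    intro ha hb sq l l' h₁ h₂ h₃ h₄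
    have e : l ≫ a = l' ≫ a := hb { A := sq.A, I := sq.I, sq_zero := sq.sq_zero, str := sq.str, top := sq.top ≫ a, bot := sq.bot, comm := by rw [Category.assoc]; exact sq.comm } _ _
      ((Category.assoc _ _ _).symm.trans (congrArg (· ≫ a) h₁)) ((Category.assoc _ _ _).trans h₂)
      ((Category.assoc _ _ _).symm.trans (congrArg (· ≫ a) h₃)) ((Category.assoc _ _ _).trans h₄)
    exact ha { A := sq.A, I := sq.I, sq_zero := sq.sq_zero, str := sq.str, top := sq.top, bot := l ≫ a, comm := by rw [← h₁]; simp [InfSq.j] } l l' h₁ rfl h₃ e.symm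
  refine ⟨fun ha hb => ex ha hb, fun ha hb sq => ?_, fun ha hb => uq ha hb⟩
  obtain ⟨l, hl⟩ := ex (fun q => (ha q).exists) (fun q => (hb q).exists) sq
  exact ⟨l, hl, fun l' hl' => uq (fun q x y h₁ h₂ h₃ h₄ => (ha q).unique ⟨h₁, h₂⟩ ⟨h₃, h₄⟩)
    (fun q x y h₁ h₂ h₃ h₄ => (hb q).unique ⟨h₁, h₂⟩ ⟨h₃, h₄⟩) sq l' l hl'.1 hl'.2 hl.1 hl.2⟩

end Groth.Agent.S10619
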