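import Groth.Statements.S6354
import Mathlib
import Groth.Agent.Lib.PureIdeals

set_option autoImplicit false
universe u
open Module TensorProduct PrimeSpectrum
open Groth.Agent.PureIdeals
open CAlg

namespace Groth.Agent.S6354

open PrimeSpectrum in
/-- For an ideal I of a commutative ring R these four conditions are equivalent: (1) I is finitely
generated and pure; (2) I = (e) for some idempotent e; (3) I is pure with V(I) open in Spec R; (4)
R/I is projective as an R-module. -/
theorem result (R : Type u) [CommRing R] (I : Ideal R) :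
    List.TFAE [I.Pure ∧ I.FG, ∃ e : R, IsIdempotentElem e ∧ I = Ideal.span {e},
      I.Pure ∧ IsOpen (zeroLocus (I : Set R)), Module.Projective R (R ⧸ I)] := by
  have hpure : ∀ e : R, IsIdempotentElem e → (Ideal.span {e}).Pure := fun e he =>
    Ideal.Pure.of_isIdempotentElem (Submodule.fg_span_singleton e)
      (by rw [IsIdempotentElem, Ideal.span_singleton_mul_span_singleton, he])
  tfae_have 1 → 2 := by
    rintro ⟨hp, hfg⟩
    haveI := hp
    exact (Ideal.isIdempotentElem_iff_of_fg _ hfg).mp I.isIdempotentElem_of_pure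
  tfae_have 2 → 3 := by
    rintro ⟨e, he, rfl⟩
    refine ⟨hpure e he, ?_⟩
    have : zeroLocus ((Ideal.span {e} : Ideal R) : Set R) = (basicOpen (1 - e) : Set (PrimeSpectrum R)) := by
      rw [PrimeSpectrum.zeroLocus_span]
      ext q
      simp only [mem_zeroLocus, Set.singleton_subset_iff, SetLike.mem_coe, mem_basicOpen]
      constructor
      · intro h h'
        exact q.2.ne_top ((Ideal.eq_top_iff_one _).mpr (by simpa using q.asIdeal.add_mem h' h))
      · intro h
        exact (q.2.mem_or_mem (show e * (1 - e) ∈ q.asIdeal by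
          rw [mul_sub, mul_one, he, sub_self]; exact zero_mem _)).resolve_right h
    rw [this]
    exact (basicOpen (1 - e)).isOpen
  tfae_have 3 → 2 := by
    rintro ⟨hp, ho⟩
    haveI := hp
    obtain ⟨e, he, hs⟩ := PrimeSpectrum.isClopen_iff.mp ⟨PrimeSpectrum.isClosed_zeroLocus _, ho⟩
    haveI := hpure (1 - e) he.one_sub
    refine ⟨1 - e, he.one_sub, (Ideal.zeroLocus_inj_of_pure).mp ?_⟩
    rw [hs, PrimeSpectrum.zeroLocus_span]
    ext q
    simp only [mem_zeroLocus, Set.singleton_subset_iff, SetLike.mem_coe, mem_basicOpen]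
    constructor
    · intro h
      exact (q.2.mem_or_mem (show e * (1 - e) ∈ q.asIdeal by
        rw [mul_sub, mul_one, he, sub_self]; exact zero_mem _)).resolve_left h
    · intro h h'
      exact q.2.ne_top ((Ideal.eq_top_iff_one _).mpr (by simpa using q.asIdeal.add_mem h' h))
  tfae_have 2 → 4 := by
    rintro ⟨e, he, rfl⟩
    refine Module.Projective.of_split (Submodule.liftQ _ (LinearMap.mulLeft R (1 - e)) ?_) (Submodule.mkQ (Ideal.span {e})) ?_
    · intro x hx
      obtain ⟨c, rfl⟩ := Ideal.mem_span_singleton'.mp hx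
      show (1 - e) * (c * e) = 0
      rw [show (1 - e) * (c * e) = c * (e - e * e) by ring, he, sub_self, mul_zero]
    · refine Submodule.linearMap_qext _ (LinearMap.ext fun x => ?_)
      refine (Submodule.Quotient.eq _).mpr (Ideal.mem_span_singleton'.mpr ⟨-x, ?_⟩)
      show -x * e = (1 - e) * x - x
      ring
  tfae_have 4 → 1 := by
    intro hp
    haveI := hp
    refine ⟨inferInstance, ?_⟩
    obtain ⟨σ, hσ⟩ := Module.projective_lifting_property (Submodule.mkQ I) LinearMap.id I.mkQ_surjective
    refine ⟨{1 - σ 1}, le_antisymm ?_ ?_⟩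
    · rw [Submodule.span_le, Finset.coe_singleton, Set.singleton_subset_iff]
      refine (Submodule.Quotient.mk_eq_zero I).mp ?_
      rw [Submodule.Quotient.mk_sub]
      exact sub_eq_zero.mpr (LinearMap.congr_fun hσ 1).symm
    · intro x hx
      rw [Finset.coe_singleton]
      refine Submodule.mem_span_singleton.mpr ⟨x, ?_⟩
      rw [smul_eq_mul, mul_sub, mul_one, ← smul_eq_mul x (σ 1), ← map_smul, Algebra.smul_def, mul_one,
        Ideal.Quotient.algebraMap_eq, Ideal.Quotient.eq_zero_iff_mem.mpr hx, map_zero, sub_zero]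
  tfae_finish

end Groth.Agent.S6354
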