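import Groth.Statements.S0344
import Mathlib
import Groth.Prelude.Def_CAlg
import Groth.Agent.Lib.InjDimResidue
import Groth.Agent.Lib.RegularLocalSerre
import Groth.Agent.Lib.GorensteinQuotient
import Groth.Agent.Lib.H2Depth
import Groth.Agent.Lib.GorensteinCM
import Groth.Agent.Lib.GorensteinFlatBase
import Groth.Agent.Lib.GorensteinFlat

set_option autoImplicit false
universe u v
open CategoryTheory
open Groth.Agent.InjDimResidue
open Groth.Agent.GorensteinQuotient
open Groth.Agent.GorensteinCM
open Groth.Agent.GorensteinFlatBase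
open TensorProduct
open Limits
open Groth.Agent.GorensteinFlat
open Goren

namespace Groth.Agent.S0344

/-- For a flat local homomorphism A → B of Noetherian local rings, B is Gorenstein exactly when A and
the closed fibre B/m_A B are. -/
theorem result (A : Type u) [CommRing A] [IsLocalRing A] [IsNoetherianRing A] (B : Type u) [CommRing B] [IsLocalRing B] [IsNoetherianRing B] [Algebra A B] [IsLocalHom (algebraMap A B)] [Module.Flat A B] : LocCoh.IsGorensteinLocalRing B ↔ (LocCoh.IsGorensteinLocalRing A ∧ LocCoh.IsGorensteinLocalRing (B ⧸ (IsLocalRing.maximalIdeal A).map (algebraMap A B))) := by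
  haveI : Nontrivial (B ⧸ (IsLocalRing.maximalIdeal A).map (algebraMap A B)) :=
    Submodule.Quotient.nontrivial_iff.mpr fun h =>
      (IsLocalRing.maximalIdeal.isMaximal B).ne_top (top_le_iff.mp (h ▸
        (Ideal.map_le_iff_le_comap.mpr fun a ha => map_nonunit (algebraMap A B) a ha)))
  haveI : IsLocalRing (B ⧸ (IsLocalRing.maximalIdeal A).map (algebraMap A B)) :=
    IsLocalRing.of_surjective' _ Ideal.Quotient.mk_surjective
  haveI : Module.FaithfullyFlat A B := Module.FaithfullyFlat.of_flat_of_isLocalHom
  rw [gor_iff, gor_iff, gor_iff]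
  constructor
  · rintro ⟨n, hn⟩
    have hA : InjD A A (n + 1 + 1) := by
      refine Groth.Agent.RegLocal.hasInjectiveDimensionLT_of_quotients (n + 1) _ fun I =>
        vanish_finite A (n + 1) (fun i hi => ?_) I _ (by omega)
      obtain ⟨j, rfl⟩ : ∃ j, i = j + 1 := ⟨i - 1, by omega⟩
      refine (ext_baseChange (B := B) j (IsLocalRing.ResidueField A)).2 inferInstance
        (ext_iso (Iso.refl _) (TensorProduct.AlgebraTensorModule.rid A B B).symm.toModuleIso _
          (hn.subsingleton _ _ (j + 1) hi _))
    obtain ⟨d, -, hd, hdim, -⟩ := gor_seq (n + 1) A hA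
    exact ⟨⟨d, hd⟩, (flat_gorenstein d A B hd hdim).mp ⟨n, hn⟩⟩
  · rintro ⟨⟨n, hn⟩, h⟩
    obtain ⟨d, -, hd, hdim, -⟩ := gor_seq n A hn
    exact (flat_gorenstein d A B hd hdim).mpr h

end Groth.Agent.S0344
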