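import Groth.Statements.S8948
import Mathlib
import Groth.Prelude.Def_CAlg
import Groth.Agent.Lib.InjDimResidue
import Groth.Agent.Lib.RegularLocalSerre
import Groth.Agent.Lib.GorensteinQuotient
import Groth.Agent.Lib.H2Depth
import Groth.Agent.Lib.GorensteinCM
import Groth.Agent.Lib.GorensteinFlatBase
import Groth.Agent.Lib.GorensteinFlat
import Groth.Agent.Lib.GorensteinRings

set_option autoImplicit false
universe u
open CategoryTheory
open Groth.Agent.GorensteinQuotient
open Groth.Agent.GorensteinCM
open Groth.Agent.GorensteinFlat
open TensorProduct
open Polynomial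
open IntermediateField
open Groth.Agent.GorensteinRings
open scoped TensorProduct
open Goren

namespace Groth.Agent.S8948

/-- Base change of the Gorenstein property along finitely generated field extensions. If R is a
(Noetherian) Gorenstein algebra over a field k and K/k is a finitely generated field extension, then
K ⊗_k R is a Gorenstein ring. -/
theorem result (k K R : Type u) [Field k] [Field K] [Algebra k K] (hK : ∃ s : Finset K, IntermediateField.adjoin k (s : Set K) = ⊤) [CommRing R] [Algebra k R] [LocCoh.IsGorensteinRing R] : LocCoh.IsGorensteinRing (K ⊗[k] R) := by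
  obtain ⟨s, hs⟩ := hK
  have key : LocCoh.IsGorensteinRing (IntermediateField.adjoin k (s : Set K) ⊗[k] R) := by
    refine IntermediateField.induction_on_adjoin_finset (P := fun E : IntermediateField k K => LocCoh.IsGorensteinRing ((E : Type u) ⊗[k] R)) s ?_ ?_
    · exact gorRing_of_ringEquiv (R' := R) ((Algebra.TensorProduct.congr (IntermediateField.botEquiv k K)
        (AlgEquiv.refl : R ≃ₐ[k] R)).trans (Algebra.TensorProduct.lid k R)).toRingEquiv inferInstance
    · intro E x _ hE
      haveI := hE
      have := gorRing_tensor_simple (k := E) (L := E⟮x⟯) (IntermediateField.AdjoinSimple.gen E x)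
        (IntermediateField.lift_injective _ (by
          rw [IntermediateField.lift_top, IntermediateField.lift_adjoin_simple, IntermediateField.AdjoinSimple.coe_gen]))
        (E ⊗[k] R)
      exact gorRing_of_ringEquiv (Algebra.TensorProduct.cancelBaseChange k E E E⟮x⟯ R).symm.toRingEquiv this
  exact gorRing_of_ringEquiv ((Algebra.TensorProduct.congr
    ((IntermediateField.equivOfEq hs).trans IntermediateField.topEquiv).symm AlgEquiv.refl)).toRingEquiv key

end Groth.Agent.S8948
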