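import Groth.Statements.S0817
import Mathlib
import Groth.Prelude.Def_Wider
import Groth.Prelude.Def_DRing3
import Groth.Agent.Lib.H2LCCd
import Groth.Agent.Lib.H2Artinian
import Groth.Agent.Lib.H2Depth

set_option autoImplicit false
universe u
open LocCoh

namespace Groth.Agent.S0817
open CategoryTheory Pointwise Groth.Agent.H2LC Groth.Agent.H2Artinian

/-- Take a Noetherian local ring (A, 𝔪) and a finitely generated A-module M. For each i, the local
cohomology module H^i_𝔪(M) is Artinian over A (its submodules satisfy the descending chain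
condition). (Part (2), about cohomology on the punctured spectrum, is not stated.) -/
theorem result (A : Type u) [CommRing A] [IsNoetherianRing A]
    [IsLocalRing A] (M : Type u) [AddCommGroup M] [Module A M] [Module.Finite A M] (i : ℕ) :
    IsArtinian A (LocCoh.H (IsLocalRing.maximalIdeal A) i M) := by
  set m := IsLocalRing.maximalIdeal A
  have hfin : ∀ (N : Type u) [AddCommGroup N] [Module A N] [Module.Finite A N],
      IsArtinian A (LocCoh.H m 0 N) := by
    intro N _ _ _
    haveI : IsArtinian A (DRing.torsionSub m N) := by
      refine isArtinian_of_torsionBy (IsNoetherian.noetherian m) (isPowerTorsion_torsionSub N) ?_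
      letI : Field (A ⧸ m) := Ideal.Quotient.field m
      let T := LocCoh.torsionBy m (DRing.torsionSub m N)
      have hT : Module.IsTorsionBySet A T (m : Set A) := Submodule.torsionBySet_isTorsionBySet _
      letI := hT.module
      haveI : IsScalarTower A (A ⧸ m) T := hT.isScalarTower
      haveI : Module.Finite (A ⧸ m) T := Module.Finite.of_restrictScalars_finite A (A ⧸ m) T
      have hart : IsArtinian (A ⧸ m) T := inferInstance
      haveI : RingHomSurjective (algebraMap A (A ⧸ m)) := ⟨Ideal.Quotient.mk_surjective⟩
      exact (LinearMap.isArtinian_iff_of_bijective (σ := algebraMap A (A ⧸ m))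
        ({ toFun := id, map_add' := fun _ _ => rfl,
           map_smul' := fun r t => (IsScalarTower.algebraMap_smul (A ⧸ m) r t).symm } : T →ₛₗ[algebraMap A (A ⧸ m)] T)
        Function.bijective_id).2 hart
    exact isArtinian_of_linearEquiv (torsionEquiv N).symm
  induction i generalizing M with
  | zero => exact hfin M
  | succ i ih =>
    let M' := M ⧸ DRing.torsionSub m M
    suffices h : IsArtinian A (LocCoh.H m (i + 1) M') by
      have hS := lseq_shortExact (DRing.torsionSub m M).injective_subtype (Submodule.mkQ_surjective _)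
        (LinearMap.exact_subtype_mkQ (DRing.torsionSub m M))
      haveI := h
      refine isArtinian_of_injective (cmap m (i + 1) (ModuleCat.ofHom (DRing.torsionSub m M).mkQ)) ?_
      rw [injective_iff_map_eq_zero]
      intro y hy
      obtain ⟨z, rfl⟩ := (exact_map hS (i + 1) y).1 hy
      rw [@Subsingleton.elim _ (subsingleton_of_isPowerTorsion i _ (isPowerTorsion_torsionSub M)) z 0]
      exact map_zero _
    obtain ⟨x, hxm, hx⟩ : ∃ x ∈ m, IsSMulRegular M' x := by
      by_contra hc
      push Not at hc
      obtain ⟨u, hu, hku⟩ := Groth.Agent.H2Depth.exists_killed_of_noReg (I := m) (M := M') hc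
      exact torsionSub_ne_bot_of_killed hu hku (torsionSub_quot_eq_bot M)
    refine isArtinian_of_torsion_elem x (fun y => ?_) ?_
    · obtain ⟨n, hn⟩ := isPowerTorsion (I := m) (i + 1) (ModuleCat.of A M') y
      exact ⟨n, hn _ (Ideal.pow_mem_pow hxm n)⟩
    obtain ⟨he, hS⟩ := quotSMulTop_shortExact hx
    haveI := ih (QuotSMulTop x M')
    have hr : ∀ q, dMap (I := m) hS i q ∈ Submodule.torsionBy A (LocCoh.H m (i + 1) M') x := fun q => by
      rw [Submodule.mem_torsionBy_iff]
      exact (cmap_smul_id (i + 1) x (ModuleCat.of A M') _).symm.trans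
        ((exact_dMap_map hS i _).2 ⟨q, rfl⟩)
    refine isArtinian_of_surjective (LocCoh.H m i (QuotSMulTop x M')) (LinearMap.codRestrict _ (dMap (I := m) hS i) hr) ?_
    rintro ⟨y, hy⟩
    obtain ⟨q, hq⟩ := (exact_dMap_map hS i y).1 ((cmap_smul_id (i + 1) x (ModuleCat.of A M') y).trans hy)
    exact ⟨q, Subtype.ext hq⟩

end Groth.Agent.S0817
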