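import Groth.Statements.S14424
import Mathlib
import Groth.Prelude.Def_CAlg
import Groth.Prelude.Def_Wider
import Groth.Agent.Lib.H2DepthLocal
import Groth.Agent.Lib.H2LCTop

set_option autoImplicit false
universe u
open LocCoh

namespace Groth.Agent.S14424
open CategoryTheory Pointwise RingTheory.Sequence Groth.Agent.H2Depth Groth.Agent.H2DepthMore Groth.Agent.H2DepthLocal Groth.Agent.H2LC

/-- Let R be a Noetherian ring. Then R is Cohen–Macaulay (every localization at a prime ideal is a
Cohen–Macaulay local ring) if and only if for every proper ideal a of R the a-depth of R equals the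
height (codimension) of a. (The published statement defines a Cohen–Macaulay ring by its
localizations at maximal ideals; this row uses all prime ideals, an equivalent definition because
Cohen–Macaulayness passes to localizations.) -/
theorem result (R : Type u) [CommRing R] [IsNoetherianRing R] :
    LocCoh.IsCohenMacaulayRing R ↔ ∀ a : Ideal R, a ≠ ⊤ → LocCoh.idealDepth a R = a.height := by
  have hiso : ∀ (p : Ideal R) [p.IsPrime], LocCoh.depth (Localization.AtPrime p) (LocalizedModule p.primeCompl R) =
      LocCoh.depth (Localization.AtPrime p) (Localization.AtPrime p) := fun p _ => rfl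
  have hdim : ∀ (p : Ideal R) [p.IsPrime], ringKrullDim (Localization.AtPrime p) = p.height := fun p _ =>
    IsLocalization.AtPrime.ringKrullDim_eq_height p _
  constructor
  · intro hCM a ha
    have hd : ∀ (p : Ideal R) [p.IsPrime], LocCoh.depth (Localization.AtPrime p) (Localization.AtPrime p) = p.height := fun p _ => by
      haveI := hCM.isCohenMacaulayLocalRing_localization p
      have h1 : (ringKrullDim (Localization.AtPrime p)) = ((LocCoh.depth (Localization.AtPrime p) (Localization.AtPrime p) : ℕ∞) : WithBot ℕ∞) :=
        (Module.supportDim_self_eq_ringKrullDim _).symm.trans LocCoh.IsCohenMacaulayLocalRing.supportDim_eq_depth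
      rw [hdim] at h1
      exact (WithBot.coe_inj.1 h1).symm
    rw [idealDepth_eq_iInf]
    refine le_antisymm ?_ (le_iInf₂ fun p hp => ?_)
    · obtain ⟨n, hn⟩ := ENat.ne_top_iff_exists.1 (Ideal.height_ne_top (I := a) ha)
      obtain ⟨q, hq, haq, hqn⟩ := Ideal.exists_isPrime_height_eq hn.symm
      refine (iInf₂_le (⟨q, hq⟩ : PrimeSpectrum R) haq).trans ?_
      rw [hiso, hd, hqn, hn]
    · rw [hiso, hd]
      exact Ideal.height_mono hp
  · intro h
    refine { isCohenMacaulayLocalRing_localization := fun p _ => ?_ }
    haveI : IsNoetherianRing (Localization.AtPrime p) := IsLocalization.isNoetherianRing p.primeCompl _ inferInstance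
    refine { supportDim_eq_depth := ?_ }
    rw [Module.supportDim_self_eq_ringKrullDim, hdim]
    refine le_antisymm ?_ ?_
    · rw [← h p (Ideal.IsPrime.ne_top ‹_›)]
      exact WithBot.coe_le_coe.2 ((idealDepth_le_depth (M := R) (le_refl p)).trans_eq (hiso p))
    · set A := Localization.AtPrime p
      obtain ⟨n, hn⟩ := ENat.ne_top_iff_exists.1 (Ideal.height_ne_top (I := p) (Ideal.IsPrime.ne_top ‹_›))
      rw [← hn, WithBot.coe_le_coe]
      by_contra hc
      have hle : (((n + 1 : ℕ)) : ℕ∞) ≤ LocCoh.depth A A := by
        rw [Nat.cast_succ]; exact Order.add_one_le_of_lt (not_le.1 hc)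
      have := le_idealDepth_iff.1 hle n n.lt_succ_self
      refine not_subsingleton_iff_nontrivial.2 (nontrivial_H_top n A ?_) this
      rw [Module.supportDim_self_eq_ringKrullDim, hdim, ← hn]; rfl

end Groth.Agent.S14424
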