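import Groth.Statements.S2087
import Mathlib
import Groth.Prelude.Def_DRing2
import Groth.Prelude.Def_DDual2
import Groth.Agent.Lib.H5DTen
import Groth.Agent.Lib.H5Perf
import Groth.Agent.Lib.H5Amp
import Groth.Agent.Lib.H7StupidGE
import Groth.Agent.Lib.PseudoCoherentRing

set_option autoImplicit false
universe u
open Groth.Agent.PseudoCoherentRing
open CategoryTheory Limits Pretriangulated HomologicalComplex Groth.Agent
open scoped ZeroObject
open CategoryTheory
attribute [local instance] HasDerivedCategory.standard
open CAlg

namespace Groth.Agent.S2087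

/-- `m`-pseudo-coherence of a complex of `R`-modules may be checked after base change to each `R_{f_i}`
for finitely many `f_i` generating the unit ideal (the base change is taken termwise on a chosen
complex, which is the derived base change since `R → R_{f_i}` is flat). -/
theorem result {R : Type u} [CommRing R] {r : ℕ} (f : Fin r → R)
    (hf : Ideal.span (Set.range f) = ⊤) (K : DRing.Cx R) (m : ℤ)
    (hK : ∀ i, DRing.IsPseudoCoherent (Localization.Away (f i)) m
      (DRing.toD (((ModuleCat.extendScalars (algebraMap R (Localization.Away (f i)))).mapHomologicalComplex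
        (ComplexShape.up ℤ)).obj K))) :
    DRing.IsPseudoCoherent R m (DRing.toD K) := by
  let φ := fun i => algebraMap R (Localization.Away (f i))
  have hflat : ∀ i, (φ i).Flat := fun i =>
    RingHom.flat_algebraMap_iff.2 (IsLocalization.flat _ (Submonoid.powers (f i)))
  choose Ni hNi hNv using fun i => exists_vanish (hK i)
  obtain ⟨N', hN'⟩ := Finite.exists_le Ni
  let N := max N' m
  have hN : Vanish N (DRing.toD K) := vanish_iff_exactAt.2 fun j hj => by
    rw [exactAt_iff_isZero_homology]
    refine isZero_of_extendScalars f hf _ fun i => ?_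
    obtain ⟨e⟩ := nonempty_homology_extCx (φ i) (hflat i) K j
    refine IsZero.of_iso ?_ e.symm
    rw [← exactAt_iff_isZero_homology]
    exact vanish_iff_exactAt.1 (hNv i) j ((hN' i).trans ((le_max_left _ _).trans hj))
  have hM : ∀ n : ℕ, m ≤ N - n → Nonempty (Model K N n) := by
    intro n
    induction n with
    | zero => exact fun _ => nonempty_model_zero hN
    | succ n ih =>
      intro hn
      obtain ⟨M⟩ := ih (by omega)
      have : Module.Finite R ((CochainComplex.mappingCone M.f).homology (N - (n + 1 : ℕ))) := by
        refine finite_of_extendScalars f hf _ fun i => ?_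
        obtain ⟨hv, hff⟩ := extCx_ff (φ i) M.van M.ff
        let e' := CochainComplex.mappingCone.mapHomologicalComplexIso M.f (ModuleCat.extendScalars.{u, u, u} (φ i))
        have hex : ∀ j, N - (n + 1 : ℕ) < j → Ex ((extCx (φ i)).map M.f) j := fun j hj =>
          (ex_iff _ j).2 ((exactAt_extCx (φ i) (hflat i) ((ex_iff M.f j).1 (M.ex j (by omega)))).of_iso e')
        have : Module.Finite (Localization.Away (f i))
            (((HomologicalComplex.homologyFunctor (ModuleCat.{u} (Localization.Away (f i))) (ComplexShape.up ℤ)
              (N - (n + 1 : ℕ))).obj (CochainComplex.mappingCone ((extCx (φ i)).map M.f)))) :=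
          finite_cone_homology ((extCx (φ i)).map M.f) hv hff hex (isPseudo_mono (hK i) hn)
        obtain ⟨e⟩ := nonempty_homology_extCx (φ i) (hflat i) (CochainComplex.mappingCone M.f) (N - (n + 1 : ℕ))
        exact Module.Finite.equiv
          (((HomologicalComplex.homologyFunctor _ _ (N - (n + 1 : ℕ))).mapIso e').symm ≪≫ e).toLinearEquiv
      obtain ⟨E', f', -, h1, h2, -, -, h5⟩ := exists_step (m := N - (n + 1 : ℕ)) M.f M.van M.ff
        (fun j hj => M.ex j (by omega))
      exact ⟨⟨E', f', fun i hi => h1 i (by omega), h2, h5⟩⟩
  obtain ⟨M⟩ := hM (N - m).toNat (by omega)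
  exact (isPseudo_iff m _).2 ⟨M.E, _, _, DerivedCategory.Q.map M.f, M.van, M.ff,
    (mI_iff_ex M.f m).2 fun j hj => M.ex j (by omega)⟩

end Groth.Agent.S2087
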