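import Groth.Statements.S0114
import Groth.Agent.S0112

set_option autoImplicit false
open CategoryTheory CategoryTheory.Limits AlgebraicGeometry Opposite
universe u
open EtBase

namespace Groth.Agent.S0114

theorem cancel_mono {X Y Z : Scheme.{u}} (h : X ⟶ Y) (b : Y ⟶ Z) [Mono b]
    [hc : LocallyOfFinitePresentation (h ≫ b)] : LocallyOfFinitePresentation h := by
  have h1 : IsPullback (𝟙 X) h h (𝟙 Y) := IsPullback.of_horiz_isIso ⟨by simp⟩
  have h2 : IsPullback (𝟙 Y) (𝟙 Y) b b := IsKernelPair.id_of_mono b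
  have h3 := h1.paste_vert h2
  exact MorphismProperty.of_isPullback (P := @LocallyOfFinitePresentation) (by simpa using h3) hc

open CategoryTheory.Limits in
theorem affine_case {X Y S : Scheme.{u}} [IsAffine Y] [IsAffine S] (f : X ⟶ Y) (q : Y ⟶ S) [Surjective f] [Flat f]
    [LocallyOfFinitePresentation f] [LocallyOfFinitePresentation (f ≫ q)] : LocallyOfFinitePresentation q := by
  obtain ⟨t, ht⟩ := (isCompact_univ (X := Y)).elim_finite_subcover
    (fun W : X.affineOpens => f '' (W.1 : Set _))
    (fun W => f.isOpenMap _ W.1.2) (fun v _ => by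
      obtain ⟨w, rfl⟩ := f.surjective v
      obtain ⟨W, hW, hwW, -⟩ := exists_isAffineOpen_mem_and_subset (X := X) (x := w) (U := ⊤) trivial
      exact Set.mem_iUnion.2 ⟨⟨W, hW⟩, w, hwW, rfl⟩)
  let W : (↑t : Set X.affineOpens) → Scheme.{u} := fun k => k.1.1
  have : ∀ k, IsAffine (W k) := fun k => k.1.2
  let d : (∐ W) ⟶ Y := Sigma.desc fun k => k.1.1.ι ≫ f
  have hd : ∀ k, Sigma.ι W k ≫ d = k.1.1.ι ≫ f := Sigma.ι_desc _
  haveI : Flat d := (IsZariskiLocalAtSource.iff_of_openCover (P := @Flat) (sigmaOpenCover _)).2 fun k => by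
    change Flat (Sigma.ι W k ≫ d)
    rw [hd]
    infer_instance
  haveI : LocallyOfFinitePresentation d :=
    (IsZariskiLocalAtSource.iff_of_openCover (P := @LocallyOfFinitePresentation) (sigmaOpenCover _)).2 fun k => by
    change LocallyOfFinitePresentation (Sigma.ι W k ≫ d)
    rw [hd]
    infer_instance
  haveI : LocallyOfFinitePresentation (d ≫ q) :=
    (IsZariskiLocalAtSource.iff_of_openCover (P := @LocallyOfFinitePresentation) (sigmaOpenCover _)).2 fun k => by
    change LocallyOfFinitePresentation (Sigma.ι W k ≫ d ≫ q)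
    rw [← Category.assoc, hd, Category.assoc]
    infer_instance
  haveI : Surjective d := ⟨fun v => by
    obtain ⟨k, hk, w, hw, rfl⟩ := Set.mem_iUnion₂.1 (ht (Set.mem_univ v))
    exact ⟨Sigma.ι W ⟨k, hk⟩ ⟨w, hw⟩, by rw [← Scheme.Hom.comp_apply, hd]; rfl⟩⟩
  have hff : d.appTop.hom.FaithfullyFlat := by
    rw [← flat_and_surjective_SpecMap_iff]
    exact ⟨(MorphismProperty.arrow_mk_iso_iff (@Flat : MorphismProperty Scheme.{u})
        (arrowIsoSpecΓOfIsAffine d)).1 inferInstance,
      (MorphismProperty.arrow_mk_iso_iff (@Surjective : MorphismProperty Scheme.{u})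
        (arrowIsoSpecΓOfIsAffine d)).1 inferInstance⟩
  have h1 : d.appTop.hom.FinitePresentation :=
    (HasRingHomProperty.iff_of_isAffine (P := @LocallyOfFinitePresentation)).mp inferInstance
  have h2 : (d ≫ q).appTop.hom.FinitePresentation :=
    (HasRingHomProperty.iff_of_isAffine (P := @LocallyOfFinitePresentation)).mp inferInstance
  rw [Scheme.Hom.comp_appTop, CommRingCat.hom_comp] at h2
  rw [HasRingHomProperty.iff_of_isAffine (P := @LocallyOfFinitePresentation)]
  algebraize [q.appTop.hom, d.appTop.hom, d.appTop.hom.comp q.appTop.hom]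
  exact Groth.Agent.S0112.result (B := Γ(∐ W, ⊤))

/-- Local finite presentation descends along an fppf cover of the source: if f is surjective, flat and
locally of finite presentation and f ≫ q is locally of finite presentation, then so is q. -/
theorem result {X Y S : Scheme.{u}} (f : X ⟶ Y) (q : Y ⟶ S) [Surjective f] [Flat f]
    [LocallyOfFinitePresentation f] [LocallyOfFinitePresentation (f ≫ q)] :
    LocallyOfFinitePresentation q := by
  haveI : MorphismProperty.RespectsRight (@LocallyOfFinitePresentation) IsOpenImmersion :=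
    ⟨fun i (_ : IsOpenImmersion i) g hg => MorphismProperty.comp_mem _ g i hg inferInstance⟩
  refine IsZariskiLocalAtSource.iff_exists_resLE.mpr fun y => ?_
  obtain ⟨U, hU, hyU, -⟩ := exists_isAffineOpen_mem_and_subset (X := S) (x := q y) (U := ⊤) trivial
  obtain ⟨V, hV, hyV, hVU⟩ := exists_isAffineOpen_mem_and_subset (X := Y) (x := y) (U := q ⁻¹ᵁ U) hyU
  have hVU' : V ≤ q ⁻¹ᵁ U := hVU
  refine ⟨U, V, hyV, hVU', ?_⟩
  haveI : IsAffine (U : Scheme.{u}) := hU
  haveI : IsAffine (V : Scheme.{u}) := hV
  haveI : LocallyOfFinitePresentation (((f ∣_ V) ≫ q.resLE U V hVU') ≫ U.ι) := by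
    rw [Category.assoc, Scheme.Hom.resLE_comp_ι, morphismRestrict_ι_assoc]
    infer_instance
  haveI : LocallyOfFinitePresentation ((f ∣_ V) ≫ q.resLE U V hVU') := cancel_mono _ U.ι
  haveI : Surjective (f ∣_ V) :=
    MorphismProperty.of_isPullback (P := @Surjective) (isPullback_morphismRestrict f V).flip inferInstance
  exact affine_case (f ∣_ V) (q.resLE U V hVU')

end Groth.Agent.S0114
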