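import Groth.Statements.S0547
import Mathlib
import Groth.Agent.Lib.CompleteNoetherian
import Groth.Agent.Lib.RegularLocalSerre
import Groth.Agent.Lib.CompletionDim

set_option autoImplicit false
universe u
open IsLocalRing
open Groth.Agent.CompletionDim
open CAlg

namespace Groth.Agent.S0547

/-- The completion of a Noetherian local ring at its maximal ideal has the same Krull dimension as the
ring. -/
theorem result (A : Type u) [CommRing A] [IsLocalRing A]
    [IsNoetherianRing A] :
    ringKrullDim (AdicCompletion (IsLocalRing.maximalIdeal A) A) = ringKrullDim A := by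
  haveI := completion_noetherian (A := A)
  let B := AdicCompletion (maximalIdeal A) A
  haveI : (maximalIdeal B).LiesOver (maximalIdeal A) := ⟨(IsLocalRing.maximalIdeal_comap (algebraMap A B)).symm⟩
  have h := Ideal.height_eq_height_add_of_liesOver_of_hasGoingDown (maximalIdeal A) (maximalIdeal B)
  have h0 : ((maximalIdeal B).map (Ideal.Quotient.mk ((maximalIdeal A).map (algebraMap A B)))).height = 0 := by
    rw [← AdicCompletion.maximalIdeal_eq_map, Ideal.map_quotient_self]
    haveI : Nontrivial (B ⧸ maximalIdeal B) := Ideal.Quotient.nontrivial_iff.mpr (maximalIdeal.isMaximal B).ne_top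
    exact Ideal.height_bot
  rw [h0, add_zero] at h
  rw [← IsLocalRing.maximalIdeal_height_eq_ringKrullDim, ← IsLocalRing.maximalIdeal_height_eq_ringKrullDim, h]

end Groth.Agent.S0547
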