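import Groth.Statements.S0548
import Mathlib
import Groth.Agent.Lib.CompleteNoetherian
import Groth.Agent.Lib.RegularLocalSerre
import Groth.Agent.Lib.CompletionDim
import Groth.Agent.S0547

set_option autoImplicit false
universe u
open IsLocalRing
open Groth.Agent.CompletionDim
open CAlg

namespace Groth.Agent.S0548

/-- A Noetherian local ring is regular exactly when its completion at the maximal ideal is a regular
local ring. -/
theorem result (A : Type u) [CommRing A] [IsLocalRing A]
    [IsNoetherianRing A] :
    IsRegularLocalRing A ↔ IsRegularLocalRing (AdicCompletion (IsLocalRing.maximalIdeal A) A) := by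
  haveI := completion_noetherian (A := A)
  constructor
  · intro h
    apply IsRegularLocalRing.of_spanFinrank_maximalIdeal_le
    rw [Groth.Agent.S0547.result, ← h.spanFinrank_maximalIdeal, AdicCompletion.maximalIdeal_eq_map, Nat.cast_le]
    exact Ideal.spanFinrank_map_le_of_fg _ (maximalIdeal A).fg_of_isNoetherianRing
  · intro h
    exact Groth.Agent.RegLocal.regular_of_flat (S := AdicCompletion (maximalIdeal A) A)

end Groth.Agent.S0548
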