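import Groth.Statements.S9318
import Groth.Prelude.Def_CAlgX
import Groth.Prelude.Def_EGA41
import Groth.Agent.Lib.H2AdicComplFS
import Mathlib

set_option autoImplicit false
universe u
open CAlg

namespace Groth.Agent.S9318
open IsLocalRing
set_option backward.isDefEq.respectTransparency.types false

/-- Let `R → S` be a ring map and `𝔫 ⊆ S` a finitely generated ideal, and let `S^` be the `𝔫`-adic
completion of `S`. Then `R → S` is formally smooth for the `𝔫`-adic topology if and only if `R → S^`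
is formally smooth for the adic topology of the extension of `𝔫` to `S^`. No Noetherian hypothesis
is made on `S`. -/
theorem result {R S : Type u} [CommRing R] [CommRing S]
    [Algebra R S] (𝔫 : Ideal S) (h𝔫 : 𝔫.FG) :
    CAlgX.IsAdicFormallySmooth R S 𝔫 ↔
      CAlgX.IsAdicFormallySmooth R (AdicCompletion 𝔫 S) (𝔫.map (algebraMap S (AdicCompletion 𝔫 S))) := by
  have hfg : 𝔫.FG := h𝔫
  constructor
  · intro h C _ _ J hJ  u hu
    obtain ⟨k, hk⟩ := hu
    obtain ⟨m, hm⟩ : ∃ m, J ^ m = ⊥ := ⟨2, hJ⟩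
    obtain ⟨v, hv⟩ := h C J hJ  (u.comp (IsScalarTower.toAlgHom R S _)) ⟨k, fun s hs => hk _ (Groth.Agent.H2AdicComplFS.algebraMap_mem hs)⟩
    have hvk : ∀ x ∈ 𝔫 ^ (k * m), v.toRingHom x = 0 := Groth.Agent.H2AdicComplFS.kill_of_quotient v.toRingHom J _ k m hm
      fun s hs => (AlgHom.congr_fun hv s).trans (hk _ (Groth.Agent.H2AdicComplFS.algebraMap_mem hs))
    obtain ⟨w, hw1, hw2⟩ := Groth.Agent.H2AdicComplFS.exists_extend hfg v.toRingHom (k * m) hvk
    let wA : AdicCompletion 𝔫 S →ₐ[R] C := { w with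
      commutes' := fun r => by
        show w (algebraMap R _ r) = _
        rw [IsScalarTower.algebraMap_apply R S (AdicCompletion 𝔫 S), hw1]
        exact v.commutes r }
    refine ⟨wA, AlgHom.ext fun x => ?_⟩
    have hext := Groth.Agent.H2AdicComplFS.hom_ext hfg (φ := (Ideal.Quotient.mk J).comp w) (ψ := u.toRingHom) (k * m + k)
      (fun x hx => by rw [RingHom.comp_apply, hw2 x (Ideal.pow_le_pow_right (Nat.le_add_right _ _) hx), map_zero])
      (fun x hx => hk x (Ideal.pow_le_pow_right (Nat.le_add_left _ _) hx))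
      (fun s => by rw [RingHom.comp_apply, hw1]; exact AlgHom.congr_fun hv s)
    exact RingHom.congr_fun hext x
  · intro h C _ _ J hJ  u hu
    obtain ⟨k, hk⟩ := hu
    obtain ⟨m, hm⟩ : ∃ m, J ^ m = ⊥ := ⟨2, hJ⟩
    obtain ⟨w, hw1, hw2⟩ := Groth.Agent.H2AdicComplFS.exists_extend hfg u.toRingHom k hk
    let wA : AdicCompletion 𝔫 S →ₐ[R] C ⧸ J := { w with
      commutes' := fun r => by
        show w (algebraMap R _ r) = _
        rw [IsScalarTower.algebraMap_apply R S (AdicCompletion 𝔫 S), hw1]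
        exact u.commutes r }
    obtain ⟨v, hv⟩ := h C J hJ  wA ⟨k, hw2⟩
    exact ⟨v.comp (IsScalarTower.toAlgHom R S _), AlgHom.ext fun s => (AlgHom.congr_fun hv _).trans (hw1 s)⟩

end Groth.Agent.S9318
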