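import Groth.Statements.S4535
import Groth.Prelude.Def_EGA41
import Groth.Agent.Lib.H2AdicLift
import Groth.Agent.Lib.H2PowerSeries
import Mathlib

set_option autoImplicit false
universe u
open EGA41

namespace Groth.Agent.S4535
open TensorProduct
open IsLocalRing
set_option backward.isDefEq.respectTransparency.types false

open TensorProduct in
/-- Let B (𝔟-adic) be formally smooth over A (𝔞-adic) and let A' (𝔞'-adic) be a topological A-algebra (a
power of 𝔞 maps into 𝔞'). Then the A'-algebra A' ⊗_A B, with the tensor product topology, i.e. the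
adic topology of the ideal generated by the images of 𝔞' and 𝔟, is formally smooth over A'. -/
theorem result {A B A' : Type u} [CommRing A] [CommRing B] [CommRing A'] [Algebra A B] [Algebra A A']
    (𝔞 : Ideal A) (𝔟 : Ideal B) (𝔞' : Ideal A') (hAA' : ∃ k : ℕ, (𝔞 ^ k).map (algebraMap A A') ≤ 𝔞')
    (hB : EGA41.IsFormallySmoothAdic A 𝔞 B 𝔟) :
    EGA41.IsFormallySmoothAdic A' 𝔞' (A' ⊗[A] B)
      (𝔞'.map (algebraMap A' (A' ⊗[A] B)) ⊔
        𝔟.map (Algebra.TensorProduct.includeRight : B →ₐ[A] A' ⊗[A] B).toRingHom) := by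
  intro C _ _ J hJ h𝔞 u hu
  obtain ⟨k, hk⟩ := hAA'
  obtain ⟨j, hj⟩ := h𝔞
  obtain ⟨m, hm⟩ := hu
  letI : Algebra A C := ((algebraMap A' C).comp (algebraMap A A')).toAlgebra
  haveI : IsScalarTower A A' C := IsScalarTower.of_algebraMap_eq' rfl
  let u' : B →ₐ[A] C ⧸ J := (u.restrictScalars A).comp Algebra.TensorProduct.includeRight
  have h1 : ∃ i, (𝔞 ^ i).map (algebraMap A C) = ⊥ := ⟨k * j, by
    refine le_bot_iff.1 ?_
    rw [IsScalarTower.algebraMap_eq A A' C, ← Ideal.map_map, ← hj, pow_mul, Ideal.map_pow]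
    exact Ideal.map_mono (Ideal.pow_right_mono hk j)⟩
  obtain ⟨v, hv⟩ := hB C J hJ h1 u' ⟨m, fun x hx => hm _ (by
    refine Ideal.pow_right_mono le_sup_right m ?_
    rw [← Ideal.map_pow]
    exact Ideal.mem_map_of_mem (Algebra.TensorProduct.includeRight : B →ₐ[A] A' ⊗[A] B).toRingHom hx)⟩
  refine ⟨Algebra.TensorProduct.lift (Algebra.ofId A' C) v (fun _ _ => Commute.all _ _), Algebra.TensorProduct.ext (by ext) ?_⟩
  refine AlgHom.ext fun b => ?_
  have := AlgHom.congr_fun hv b
  simpa [u'] using this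

end Groth.Agent.S4535
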