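import Groth.Statements.S4573
import Mathlib
import Groth.Prelude.Def_Found
import Groth.Prelude.Def_CAlg
import Groth.Prelude.Def_CAlgX
import Groth.Prelude.Def_EGA41
import Groth.Agent.Lib.H2GeomRegular
import Groth.Agent.Lib.H2PRadical

set_option autoImplicit false
universe u
open TensorProduct IsLocalRing
open EGA41

namespace Groth.Agent.S4573
open TensorProduct IsLocalRing
open EGA41
set_option backward.isDefEq.respectTransparency.types false

/-- Let k be a field of characteristic exponent p and A a Noetherian local k-algebra. Then A is formally
smooth over k for the adic topology of its maximal ideal if and only if, for every finite extension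
k' of k with k'^p ⊆ k, the ring k' ⊗_k A is regular. -/
theorem result {k A : Type u} [Field k] (p : ℕ)
    [ExpChar k p] [CommRing A] [IsLocalRing A] [IsNoetherianRing A] [Algebra k A] :
    CAlgX.IsAdicFormallySmooth k A (maximalIdeal A) ↔
      ∀ (k' : Type u) [Field k'] [Algebra k k'], Module.Finite k k' →
        (∀ x : k', x ^ p ∈ (algebraMap k k').range) → IsRegularRing (k' ⊗[k] A) := by
  refine ⟨fun h k' _ _ hf _ => Groth.Agent.H2GeomRegular.isRegularRing_of_adicFS h k', fun h => ?_⟩
  obtain hp | hp := expChar_is_prime_or_one k p
  · haveI := Fact.mk hp
    haveI : CharP k p := by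
      cases ‹ExpChar k p› with
      | zero => exact absurd hp Nat.not_prime_one
      | prime _ => infer_instance
    exact Groth.Agent.H2PRadical.adicFS_of_regular p k A fun k' _ _ hf hx => h k' hf fun x => hx x
  · subst hp
    haveI : CharZero k := by
      cases ‹ExpChar k 1› with
      | zero => infer_instance
      | prime hq => exact absurd hq Nat.not_prime_one
    haveI : IsRegularRing (k ⊗[k] A) := h k inferInstance fun x => ⟨x ^ 1, rfl⟩
    haveI : IsRegularRing A := IsRegularRing.of_ringEquiv (Algebra.TensorProduct.lid k A).toRingEquiv
    haveI : IsRegularLocalRing A := IsRegularLocalRing.of_isRegularRing_of_isLocalRing A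
    haveI : Algebra.FormallySmooth k (ResidueField A) := Groth.Agent.H2PerfectSmooth.formallySmooth k _
    exact Groth.Agent.H2AdicFSField.adicFS_of_regular

end Groth.Agent.S4573
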