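import Groth.Statements.S0602
import Mathlib
import Groth.Prelude.Def_CAlg
import Groth.Agent.Lib.RegularLocalBasic
import Groth.Agent.Lib.ReducedR0S1

set_option autoImplicit false
universe u
open RingTheory.Sequence
open Groth.Agent.ReducedR0S1
open CAlg

namespace Groth.Agent.S0602

/-- A Noetherian ring is reduced exactly when it satisfies the conditions R₀ and S₁. -/
theorem result (R : Type u) [CommRing R] [IsNoetherianRing R] :
    IsReduced R ↔ (LocCoh.HasRk 0 R ∧ LocCoh.HasSk 1 R R) := by
  constructor
  · intro hred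
    constructor
    · intro p hp hh
      have hd : ringKrullDim (Localization.AtPrime p) = 0 := by
        rw [IsLocalization.AtPrime.ringKrullDim_eq_height p]
        simp [nonpos_iff_eq_zero.mp hh]
      haveI : Ring.KrullDimLE 0 (Localization.AtPrime p) := Ring.krullDimLE_iff.mpr hd.le
      haveI : IsNoetherianRing (Localization.AtPrime p) := IsLocalization.isNoetherianRing p.primeCompl _ inferInstance
      letI := (Ring.KrullDimLE.isField_of_isReduced (R := Localization.AtPrime p)).toField
      infer_instance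
    · intro p hp
      rw [s1_iff]
      rcases eq_or_ne p.height 0 with h0 | h0
      · exact Or.inl h0
      refine Or.inr ?_
      have hne : ¬ (p : Set R) ⊆ ⋃ q ∈ (minimalPrimes R), (q : Set R) := by
        intro hsub
        obtain ⟨q, hq, hle⟩ := (Ideal.subset_union_prime_finite (minimalPrimes.finite_of_isNoetherianRing R) ⊤ ⊤
          (fun q hq _ _ => Ideal.minimalPrimes_isPrime hq)).mp hsub
        exact h0 (Ideal.height_eq_zero_iff.mpr (hq.2 ⟨hp, bot_le⟩ hle |>.antisymm hle ▸ hq))
      obtain ⟨r, hrp, hr⟩ := Set.not_subset.mp hne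
      simp only [Set.mem_iUnion, not_exists, SetLike.mem_coe] at hr
      refine ⟨algebraMap R _ r, (IsLocalization.AtPrime.to_map_mem_maximal_iff _ p r).mpr hrp, ?_⟩
      refine isSMulRegular_iff_right_eq_zero_of_smul.mpr fun z hz => ?_
      obtain ⟨⟨x, s⟩, rfl⟩ := IsLocalization.mk'_surjective p.primeCompl z
      change algebraMap R _ r * IsLocalization.mk' (Localization.AtPrime p) x s = 0 at hz
      rw [IsLocalization.mul_mk'_eq_mk'_of_mul, IsLocalization.mk'_eq_zero_iff] at hz
      obtain ⟨t, ht⟩ := hz
      have : (t : R) * x = 0 := by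
        apply IsReduced.eq_zero
        rw [nilpotent_iff_mem_prime]
        intro q hq
        obtain ⟨q', hq', hle⟩ := Ideal.exists_minimalPrimes_le (bot_le : ⊥ ≤ q)
        refine hle ((Ideal.minimalPrimes_isPrime hq').mem_or_mem (x := r) (y := t * x) ?_ |>.resolve_left (hr q' hq'))
        have : r * (t * x) = 0 := by linear_combination ht
        rw [this]; exact q'.zero_mem
      exact (IsLocalization.mk'_eq_zero_iff _ _).mpr ⟨t, this⟩
  · rintro ⟨hR0, hS1⟩
    refine ⟨fun x hx => ?_⟩
    by_contra hx0
    haveI : Nontrivial (Ideal.span {x} : Ideal R) :=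
      Submodule.nontrivial_iff_ne_bot.mpr (by simpa using hx0)
    obtain ⟨p, hp⟩ := associatedPrimes.nonempty R (Ideal.span {x} : Ideal R)
    have hpp : p.IsPrime := hp.isPrime
    obtain ⟨⟨y, hy⟩, hpy⟩ := (isAssociatedPrime_iff.mp hp).2
    have hyn : IsNilpotent y := by
      obtain ⟨c, rfl⟩ := Ideal.mem_span_singleton'.mp hy
      exact (Commute.all c x).isNilpotent_mul_left hx
    have hann : ∀ r, r ∈ p ↔ r * y = 0 := fun r => by
      rw [hpy, Submodule.mem_colon_singleton, Submodule.mem_bot, Subtype.ext_iff]
      rfl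
    have hy0 : algebraMap R (Localization.AtPrime p) y ≠ 0 := by
      rw [Ne, IsLocalization.map_eq_zero_iff p.primeCompl]
      rintro ⟨t, ht⟩
      exact t.2 ((hann t).mpr ht)
    rcases (s1_iff p).mp (hS1 p) with h0 | ⟨r, hr, hreg⟩
    · haveI := hR0 p h0.le
      haveI : IsDomain (Localization.AtPrime p) := Groth.Agent.RegLocal.isDomain
      exact hy0 (hyn.map (algebraMap R _)).eq_zero
    · obtain ⟨⟨a, s⟩, rfl⟩ := IsLocalization.mk'_surjective p.primeCompl r
      have ha : a ∈ p := (IsLocalization.AtPrime.mk'_mem_maximal_iff _ p a s).mp hr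
      refine hy0 (hreg.right_eq_zero_of_smul ?_)
      show IsLocalization.mk' (Localization.AtPrime p) a s * algebraMap R _ y = 0
      rw [mul_comm, IsLocalization.mul_mk'_eq_mk'_of_mul, IsLocalization.mk'_eq_zero_iff]
      exact ⟨1, by rw [OneMemClass.coe_one, one_mul, mul_comm]; exact (hann a).mp ha⟩

end Groth.Agent.S0602
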