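import Groth.Statements.S0601
import Groth.Agent.S0602
import Groth.Agent.Lib.H2SkRing
import Groth.Agent.Lib.H2RegNormal
import Groth.Agent.Lib.ReducedR0S1
import Mathlib

set_option autoImplicit false
universe u
open CAlg

namespace Groth.Agent.S0601

section aux
open IsLocalRing
open scoped Pointwise

theorem mem_span_of_depth_two {R : Type u} [CommRing R] [IsNoetherianRing R] (hR1 : LocCoh.HasRk 1 R)
    (hS2 : LocCoh.HasSk 2 R R) (p : Ideal R) [p.IsPrime] (a b : Localization.AtPrime p)
    (hb : b ∈ nonZeroDivisors (Localization.AtPrime p))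
    (h : ∀ (T : Type u) [CommRing T] [Algebra (Localization.AtPrime p) T] [IsDomain T] [IsIntegrallyClosed T],
      algebraMap (Localization.AtPrime p) T b ≠ 0 → algebraMap _ T a ∈ Ideal.span {algebraMap _ T b}) :
    a ∈ Ideal.span {b} := by
  classical
  haveI : IsNoetherianRing (Localization.AtPrime p) := IsLocalization.isNoetherianRing p.primeCompl _ inferInstance
  by_contra hab
  have hne : Ideal.Quotient.mk (Ideal.span {b}) a ≠ 0 := fun e => hab (Ideal.Quotient.eq_zero_iff_mem.mp e)
  obtain ⟨q, hq, hle⟩ := exists_le_isAssociatedPrime_of_isNoetherianRing (Localization.AtPrime p) _ hne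
  haveI hqp : q.IsPrime := hq.isPrime
  obtain ⟨-, u, hu⟩ := isAssociatedPrime_iff.mp hq
  obtain ⟨y, rfl⟩ := Ideal.Quotient.mk_surjective u
  have hqy : ∀ r, r ∈ q ↔ r * y ∈ Ideal.span {b} := fun r => by
    rw [hu, Submodule.mem_colon_singleton, Submodule.mem_bot]
    exact Ideal.Quotient.eq_zero_iff_mem (a := r * y)
  have hbq : b ∈ q := (hqy b).mpr (Ideal.mul_mem_right _ _ (Ideal.mem_span_singleton_self b))
  let q₀ := q.comap (algebraMap R (Localization.AtPrime p))
  let T := Localization.AtPrime q
  haveI : IsLocalization.AtPrime T q₀ :=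
    IsLocalization.isLocalization_atPrime_localization_atPrime p.primeCompl q
  let L := Localization.AtPrime q₀
  let e : T ≃+* L := (IsLocalization.algEquiv q₀.primeCompl T L).toRingEquiv
  let j := algebraMap (Localization.AtPrime p) T
  have hjb : j b ∈ nonZeroDivisors T := by
    refine mem_nonZeroDivisors_iff_right.mpr fun z hz => ?_
    obtain ⟨c, s, rfl⟩ := IsLocalization.exists_mk'_eq q.primeCompl z
    rw [mul_comm, IsLocalization.mul_mk'_eq_mk'_of_mul, IsLocalization.mk'_eq_zero_iff] at hz
    obtain ⟨t, ht⟩ := hz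
    refine (IsLocalization.mk'_eq_zero_iff c s).mpr ⟨t, ?_⟩
    exact mem_nonZeroDivisors_iff_right.mp hb _ (by linear_combination ht)
  have hloc : ∀ z : Localization.AtPrime p, j z ∈ Ideal.span {j b} → ∃ s, s ∉ q ∧ s * z ∈ Ideal.span {b} := fun z hz => by
    obtain ⟨w, hw⟩ := Ideal.mem_span_singleton'.mp hz
    obtain ⟨c, s, rfl⟩ := IsLocalization.exists_mk'_eq q.primeCompl w
    have h1 : j (c * b) = j (s.1 * z) := by
      rw [map_mul, map_mul, ← hw, ← mul_assoc, mul_comm (j s.1), IsLocalization.mk'_spec]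
    obtain ⟨t, ht⟩ := (IsLocalization.eq_iff_exists q.primeCompl T).mp h1
    refine ⟨t.1 * s.1, q.primeCompl.mul_mem t.2 s.2, Ideal.mem_span_singleton'.mpr ⟨t.1 * c, ?_⟩⟩
    linear_combination ht
  have hjy : j y ∉ Ideal.span {j b} := fun hy => by
    obtain ⟨s, hs, hsy⟩ := hloc y hy
    exact hs ((hqy s).mpr hsy)
  -- the height of `q₀` is at most one
  have hht : q₀.height ≤ 1 := by
    by_contra hgt
    have h2 := H2SkRing.hasReg hS2 q₀ le_rfl (Order.add_one_le_of_lt (not_le.mp hgt) : (1 + 1 : ℕ∞) ≤ q₀.height)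
    have hreg : IsSMulRegular L (e (j b)) := isSMulRegular_iff_right_eq_zero_of_smul.mpr fun z hz => by
      have h1 : e.symm z * j b = 0 := by
        apply e.injective
        rw [map_mul, e.apply_symm_apply, map_zero, mul_comm]
        exact hz
      have h2 := congrArg e (mem_nonZeroDivisors_iff_right.mp hjb _ h1)
      rwa [e.apply_symm_apply, map_zero] at h2
    have hbm : e (j b) ∈ maximalIdeal L := (IsLocalRing.mem_maximalIdeal _).mpr fun hu =>
      ((IsLocalization.AtPrime.isUnit_to_map_iff T q b).mp (by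
        have := hu.map e.symm; rwa [e.symm_apply_apply] at this) : b ∈ q.primeCompl) hbq
    have hmax : H2Depth.NoReg (maximalIdeal L) (L ⧸ (Ideal.ofList [e (j b)] • ⊤ : Submodule L L)) := by
      intro r hr hrr
      have hI : (Ideal.ofList [e (j b)] • ⊤ : Submodule L L) = Ideal.span {e (j b)} := by
        rw [Ideal.ofList_singleton, Ideal.smul_eq_mul, Ideal.mul_top]
      have hrm : e.symm r ∈ maximalIdeal T := (IsLocalRing.mem_maximalIdeal _).mpr fun hu => hr (by
        have := hu.map e; rwa [e.apply_symm_apply] at this)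
      rw [← Localization.AtPrime.map_eq_maximalIdeal] at hrm
      have h1 : e.symm r * j y ∈ Ideal.span {j b} := by
        have hle : q.map j ≤ (Ideal.span {j b}).colon ({j y} : Set T) := Ideal.map_le_iff_le_comap.mpr fun t ht => by
          rw [Ideal.mem_comap, Submodule.mem_colon_singleton, smul_eq_mul, ← map_mul]
          obtain ⟨c, hc⟩ := Ideal.mem_span_singleton'.mp ((hqy t).mp ht)
          exact Ideal.mem_span_singleton'.mpr ⟨j c, by rw [← map_mul, hc]⟩
        exact Submodule.mem_colon_singleton.mp (hle hrm)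
      have h2 : r • (Submodule.Quotient.mk (e (j y)) : L ⧸ (Ideal.ofList [e (j b)] • ⊤ : Submodule L L)) = 0 := by
        rw [← Submodule.Quotient.mk_smul, Submodule.Quotient.mk_eq_zero, hI, smul_eq_mul]
        obtain ⟨c, hc⟩ := Ideal.mem_span_singleton'.mp h1
        exact Ideal.mem_span_singleton'.mpr ⟨e c, by rw [← map_mul, hc, map_mul, e.apply_symm_apply]⟩
      have h3 := hrr.right_eq_zero_of_smul h2
      rw [Submodule.Quotient.mk_eq_zero, hI] at h3
      obtain ⟨c, hc⟩ := Ideal.mem_span_singleton'.mp h3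
      exact hjy (Ideal.mem_span_singleton'.mpr ⟨e.symm c, by
        apply e.injective; rw [map_mul, e.apply_symm_apply, hc]⟩)
    have := H2Depth.length_le_of_noReg (rs := [e (j b)]) ((RingTheory.Sequence.isWeaklyRegular_singleton_iff L _).mpr hreg)
      (by simpa using hbm) hmax h2
    simp at this
  haveI := hR1 q₀ hht
  haveI : IsRegularLocalRing T := IsRegularLocalRing.of_ringEquiv e.symm
  haveI : IsDomain T := RegLocal.isDomain
  haveI : IsIntegrallyClosed T := H2RegNormal.isIntegrallyClosed_of_regularLocal T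
  obtain ⟨s, hs, hsa⟩ := hloc a (h T (nonZeroDivisors.ne_zero hjb))
  refine hs (hle ?_)
  rw [Submodule.mem_colon_singleton, Submodule.mem_bot]
  exact (Ideal.Quotient.eq_zero_iff_mem (a := s * a)).mpr hsa

theorem isDomain_localization {R : Type u} [CommRing R] [IsNoetherianRing R] (hR1 : LocCoh.HasRk 1 R)
    (hS2 : LocCoh.HasSk 2 R R) (p : Ideal R) [p.IsPrime] : IsDomain (Localization.AtPrime p) := by
  classical
  haveI : IsReduced R := (Groth.Agent.S0602.result R).mpr
    ⟨fun q _ hq => hR1 q (hq.trans (by exact_mod_cast Nat.zero_le 1)), fun q _ => le_trans (min_le_min (by exact_mod_cast (by norm_num : (1 : ℕ) ≤ 2)) le_rfl) (hS2 q)⟩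
  let A := Localization.AtPrime p
  haveI : IsReduced A := isReduced_localizationPreserves p.primeCompl A inferInstance
  haveI : IsNoetherianRing A := IsLocalization.isNoetherianRing p.primeCompl _ inferInstance
  have hfin := minimalPrimes.finite_of_isNoetherianRing A
  obtain ⟨P, hP⟩ : ∃ P, P ∈ minimalPrimes A := by
    obtain ⟨P, hP, -⟩ := Ideal.exists_minimalPrimes_le (bot_le : (⊥ : Ideal A) ≤ maximalIdeal A)
    exact ⟨P, hP⟩
  haveI hPp : P.IsPrime := Ideal.minimalPrimes_isPrime hP
  suffices P = ⊥ by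
    haveI : (⊥ : Ideal A).IsPrime := this ▸ hPp
    exact IsDomain.of_bot_isPrime A
  by_contra hP0
  let s := hfin.toFinset.erase P
  have hsne : ∀ Q ∈ minimalPrimes A, Q ≠ P → Q ∈ s := fun Q hQ h => Finset.mem_erase.mpr ⟨h, hfin.mem_toFinset.mpr hQ⟩
  obtain ⟨a, has, haP⟩ : ∃ a ∈ s.inf id, a ∉ P := SetLike.not_le_iff_exists.mp fun hle => by
    obtain ⟨Q, hQ, hQP⟩ := (Ideal.IsPrime.inf_le' hPp).mp hle
    obtain ⟨hne, hQm⟩ := Finset.mem_erase.mp hQ
    exact hne (le_antisymm hQP (hP.2 (hfin.mem_toFinset.mp hQm).1 hQP))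
  have hsub : ¬ ((P : Set A) ⊆ ⋃ Q ∈ (↑s : Set (Ideal A)), (Q : Set A)) := fun hsub => by
    obtain ⟨Q, hQ, hPQ⟩ := (Ideal.subset_union_prime (f := fun Q : Ideal A => Q) ⊥ ⊥
      (fun Q hQ _ _ => Ideal.minimalPrimes_isPrime (hfin.mem_toFinset.mp (Finset.mem_erase.mp hQ).2))).mp hsub
    obtain ⟨hne, hQm⟩ := Finset.mem_erase.mp hQ
    exact hne (le_antisymm ((hfin.mem_toFinset.mp hQm).2 ⟨hPp, bot_le⟩ hPQ) hPQ)
  obtain ⟨c, hcP, hc⟩ := Set.not_subset.mp hsub
  simp only [Set.mem_iUnion, SetLike.mem_coe, not_exists] at hc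
  have hzero : ∀ z : A, (∀ Q ∈ minimalPrimes A, z ∈ Q) → z = 0 := fun z hz => by
    apply IsReduced.eq_zero
    rw [nilpotent_iff_mem_prime]
    intro Q hQ
    obtain ⟨Q', hQ', hle⟩ := Ideal.exists_minimalPrimes_le (bot_le : (⊥ : Ideal A) ≤ Q)
    exact hle (hz Q' hQ')
  have hac : a * c = 0 := hzero _ fun Q hQ => by
    by_cases h : Q = P
    · exact h ▸ Ideal.mul_mem_left _ _ hcP
    · exact Ideal.mul_mem_right _ _ ((Submodule.mem_finsetInf.mp has) Q (hsne Q hQ h))
  have hnzd : a + c ∈ nonZeroDivisors A := mem_nonZeroDivisors_iff_right.mpr fun z hz => hzero z fun Q hQ => by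
    haveI := Ideal.minimalPrimes_isPrime hQ
    refine ((inferInstance : Q.IsPrime).mem_or_mem (hz.symm ▸ Q.zero_mem : z * (a + c) ∈ Q)).resolve_right fun h => ?_
    by_cases hQP : Q = P
    · subst hQP; exact haP ((Ideal.add_mem_iff_left _ hcP).mp h)
    · exact hc Q (hsne Q hQ hQP) ((Ideal.add_mem_iff_right _ ((Submodule.mem_finsetInf.mp has) Q (hsne Q hQ hQP))).mp h)
  obtain ⟨d, hd⟩ := Ideal.mem_span_singleton'.mp (mem_span_of_depth_two hR1 hS2 p a (a + c) hnzd (by
    intro T _ _ _ _ hT
    have h1 : algebraMap A T a * algebraMap A T c = 0 := by rw [← map_mul, hac, map_zero]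
    rcases mul_eq_zero.mp h1 with h | h
    · rw [h]; exact zero_mem _
    · rw [map_add, h, add_zero]; exact Ideal.mem_span_singleton_self _))
  by_cases hdu : IsUnit d
  · -- then every other minimal prime contains a unit
    have h0 : ∀ Q ∈ minimalPrimes A, Q = P := fun Q hQ => by
      by_contra h
      haveI := Ideal.minimalPrimes_isPrime hQ
      have haQ := (Submodule.mem_finsetInf.mp has) Q (hsne Q hQ h)
      have h2 : d * (a + c) ∈ Q := hd.symm ▸ haQ
      rcases (inferInstance : Q.IsPrime).mem_or_mem h2 with h3 | h3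
      · exact (inferInstance : Q.IsPrime).ne_top (Ideal.eq_top_of_isUnit_mem _ h3 hdu)
      · exact hc Q (hsne Q hQ h) ((Ideal.add_mem_iff_right _ haQ).mp h3)
    exact hP0 (eq_bot_iff.mpr fun z hz => (Submodule.mem_bot A).mpr (hzero z fun Q hQ => (h0 Q hQ).symm ▸ hz))
  · have hu : IsUnit (1 - d) := (IsLocalRing.isUnit_or_isUnit_one_sub_self d).resolve_left hdu
    have h2 : a * a = 0 := hu.mul_right_eq_zero.mp (by linear_combination (-a) * hd + d * hac)
    exact haP ((hPp.mem_or_mem (h2.symm ▸ P.zero_mem : a * a ∈ P)).elim id id)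

theorem isIntegrallyClosed_localization {R : Type u} [CommRing R] [IsNoetherianRing R] (hR1 : LocCoh.HasRk 1 R)
    (hS2 : LocCoh.HasSk 2 R R) (p : Ideal R) [p.IsPrime] [IsDomain (Localization.AtPrime p)] :
    IsIntegrallyClosed (Localization.AtPrime p) := by
  let A := Localization.AtPrime p
  refine (isIntegrallyClosed_iff (FractionRing A)).mpr fun {x} hx => ?_
  obtain ⟨a, b, hb, hab⟩ := IsFractionRing.div_surjective A x
  have hmem := mem_span_of_depth_two hR1 hS2 p a b hb (by
    intro T _ _ _ _ hT
    let K := FractionRing T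
    let g : A →+* K := (algebraMap T K).comp (algebraMap A T)
    have hgu : ∀ z : nonZeroDivisors A, IsUnit (algebraMap A (FractionRing A) z) := fun z => IsLocalization.map_units _ z
    have hgb : g b ≠ 0 := fun h => hT ((IsFractionRing.injective T K) (h.trans (map_zero _).symm))
    obtain ⟨P, hP, hPx⟩ := hx
    have hi : IsIntegral T (g a / g b) := by
      have hPint : P.eval₂ g (g a / g b) = 0 := by
        have h0 : (Polynomial.scaleRoots P b).eval₂ (algebraMap A (FractionRing A)) (algebraMap A _ a) = 0 := by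
          have := Polynomial.scaleRoots_eval₂_mul (algebraMap A (FractionRing A)) (p := P) x b
          rw [← hab, mul_div_cancel₀ _ (fun h => nonZeroDivisors.ne_zero hb
            (IsFractionRing.injective A (FractionRing A) (h.trans (map_zero _).symm)))] at this
          rw [this, hab, show P.eval₂ (algebraMap A (FractionRing A)) x = 0 from hPx, mul_zero]
        have h1 : (Polynomial.scaleRoots P b).eval a = 0 := by
          apply IsFractionRing.injective A (FractionRing A)
          rw [map_zero, ← h0, Polynomial.eval, Polynomial.hom_eval₂, RingHom.comp_id]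
        have h2 : (Polynomial.scaleRoots P b).eval₂ g (g a) = 0 := by
          rw [Polynomial.eval₂_at_apply, h1, map_zero]
        have h3 := Polynomial.scaleRoots_eval₂_mul g (p := P) (g a / g b) b
        rw [mul_div_cancel₀ _ hgb, h2] at h3
        exact (mul_eq_zero.mp h3.symm).resolve_left (pow_ne_zero _ hgb)
      exact ⟨P.map (algebraMap A T), hP.map _, by rw [Polynomial.eval₂_map]; exact hPint⟩
    obtain ⟨t, ht⟩ := (isIntegrallyClosed_iff K).mp inferInstance hi
    refine Ideal.mem_span_singleton'.mpr ⟨t, IsFractionRing.injective T K ?_⟩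
    rw [map_mul, ht]
    exact div_mul_cancel₀ _ hgb)
  obtain ⟨c, hc⟩ := Ideal.mem_span_singleton'.mp hmem
  refine ⟨c, ?_⟩
  rw [← hab, ← hc, map_mul, mul_div_assoc, div_self, mul_one]
  exact fun h => nonZeroDivisors.ne_zero hb (IsFractionRing.injective A (FractionRing A) (h.trans (map_zero _).symm))

theorem depth_two {A : Type u} [CommRing A] [IsNoetherianRing A] [IsLocalRing A] [IsDomain A] [IsIntegrallyClosed A]
    (h2 : 1 < (maximalIdeal A).height) : H2Depth.HasReg (maximalIdeal A) A 2 := by
  classical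
  obtain ⟨x, hx, hx0⟩ : ∃ x ∈ maximalIdeal A, x ≠ 0 := Submodule.exists_mem_ne_zero_of_ne_bot fun h => by
    rw [h] at h2
    simp at h2
  have hxr : IsSMulRegular A x := fun a b h => mul_left_cancel₀ hx0 h
  suffices ∃ r ∈ maximalIdeal A, IsSMulRegular (QuotSMulTop x A) r by
    obtain ⟨r, hr, hrr⟩ := this
    exact H2Depth.HasReg.cons hx hxr (H2Depth.HasReg.cons hr hrr (H2Depth.HasReg.zero _))
  by_contra hno
  push Not at hno
  obtain ⟨u, hu0, hu⟩ := H2Depth.exists_killed_of_noReg hno
  obtain ⟨y, rfl⟩ := Submodule.Quotient.mk_surjective _ u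
  have hI : (x • ⊤ : Submodule A A) = Ideal.span {x} := by
    rw [← Submodule.ideal_span_singleton_smul, Ideal.smul_eq_mul, Ideal.mul_top]
  have hy : y ∉ Ideal.span {x} := fun h => hu0 ((Submodule.Quotient.mk_eq_zero _).mpr (hI ▸ h))
  have hmy : ∀ r ∈ maximalIdeal A, ∃ c, c * x = r * y := fun r hr => by
    have h := hu r hr
    rw [← Submodule.Quotient.mk_smul] at h
    exact Ideal.mem_span_singleton'.mp (hI ▸ (Submodule.Quotient.mk_eq_zero _).mp h)
  by_cases hunit : ∃ r ∈ maximalIdeal A, ∃ c, IsUnit c ∧ c * x = r * y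
  · obtain ⟨t, ht, c, ⟨c, rfl⟩, hc⟩ := hunit
    have hm : maximalIdeal A = Ideal.span {t} := by
      refine le_antisymm (fun s hs => ?_) ((Ideal.span_singleton_le_iff_mem _).mpr ht)
      obtain ⟨d, hd⟩ := hmy s hs
      refine Ideal.mem_span_singleton'.mpr ⟨d * (c⁻¹ : Aˣ), ?_⟩
      have hy0 : y ≠ 0 := fun h => hy (h ▸ zero_mem _)
      apply mul_right_cancel₀ hy0
      calc d * (c⁻¹ : Aˣ) * t * y = d * (c⁻¹ : Aˣ) * ((c : A) * x) := by rw [hc]; ring
        _ = d * x * ((c⁻¹ : Aˣ) * (c : A)) := by ring
        _ = s * y := by rw [Units.inv_mul, mul_one, hd]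
    have := Ideal.height_le_one_of_isPrincipal_of_mem_minimalPrimes (Ideal.span {t}) (maximalIdeal A)
      (by rw [← hm]; exact ⟨⟨inferInstance, le_rfl⟩, fun Q hQ _ => hQ.2⟩)
    exact absurd this (not_le.mpr h2)
  · push Not at hunit
    let K := FractionRing A
    have hxK : algebraMap A K x ≠ 0 := fun h => hx0 (IsFractionRing.injective A K (h.trans (map_zero _).symm))
    let z : K := algebraMap A K y / algebraMap A K x
    let N : Submodule A K := Submodule.map (Algebra.linearMap A K) (maximalIdeal A)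
    have hz : IsIntegral A z := by
      refine isIntegral_of_smul_mem_submodule N (fun h => hxK ?_) ((IsNoetherian.noetherian _).map _) z ?_
      · have hmem : Algebra.linearMap A K x ∈ N := Submodule.mem_map_of_mem hx
        rw [h] at hmem
        exact (Submodule.mem_bot A).mp hmem
      · rintro _ ⟨r, hr, rfl⟩
        obtain ⟨c, hc⟩ := hmy r hr
        refine ⟨c, ?_, ?_⟩
        · exact (IsLocalRing.mem_maximalIdeal _).mpr fun hu => hunit r hr c hu hc
        · show algebraMap A K c = z * algebraMap A K r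
          rw [div_mul_eq_mul_div, eq_div_iff hxK, ← map_mul, ← map_mul, hc, mul_comm]
    obtain ⟨d, hd⟩ := (isIntegrallyClosed_iff K).mp inferInstance hz
    refine hy (Ideal.mem_span_singleton'.mpr ⟨d, IsFractionRing.injective A K ?_⟩)
    rw [map_mul, hd]
    exact div_mul_cancel₀ _ hxK

end aux


/-- A Noetherian ring has all its local rings integrally closed domains exactly when it satisfies the
regularity condition R₁ and the depth condition S₂. -/
theorem result (R : Type u) [CommRing R] [IsNoetherianRing R] :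
    (∀ (p : Ideal R) [p.IsPrime], IsDomain (Localization.AtPrime p) ∧
      IsIntegrallyClosed (Localization.AtPrime p)) ↔ (LocCoh.HasRk 1 R ∧ LocCoh.HasSk 2 R R) := by
  classical
  constructor
  · intro h
    refine ⟨fun p hp hh => ?_, fun p hp => ?_⟩
    · obtain ⟨hdom, hic⟩ := h p
      haveI := hdom
      haveI := hic
      haveI : IsNoetherianRing (Localization.AtPrime p) := IsLocalization.isNoetherianRing p.primeCompl _ inferInstance
      have hmax : ∀ P : Ideal (Localization.AtPrime p), P ≠ ⊥ → P.IsPrime → P = IsLocalRing.maximalIdeal _ := by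
        intro P hP hPp
        by_contra hne
        have h1 := Ideal.height_strict_mono_of_isPrime_of_isPrime
          (lt_of_le_of_ne (IsLocalRing.le_maximalIdeal hPp.ne_top) hne)
        have h2 := Ideal.height_strict_mono_of_isPrime_of_isPrime (bot_lt_iff_ne_bot.mpr hP)
        have h3 : (IsLocalRing.maximalIdeal (Localization.AtPrime p)).height ≤ 1 := by
          rw [← WithBot.coe_le_coe, IsLocalRing.maximalIdeal_height_eq_ringKrullDim,
            IsLocalization.AtPrime.ringKrullDim_eq_height p, WithBot.coe_le_coe]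
          exact hh
        exact absurd (lt_of_lt_of_le h1 h3) (not_lt.mpr (Order.one_le_iff_pos.mpr (lt_of_le_of_lt bot_le h2)))
      haveI : IsPrincipalIdealRing (Localization.AtPrime p) :=
        ((tfae_of_isNoetherianRing_of_isLocalRing_of_isDomain (R := Localization.AtPrime p)).out 3 0 :
          (IsIntegrallyClosed (Localization.AtPrime p) ∧ ∀ P : Ideal (Localization.AtPrime p), P ≠ ⊥ → P.IsPrime →
            P = IsLocalRing.maximalIdeal (Localization.AtPrime p)) ↔ IsPrincipalIdealRing (Localization.AtPrime p)).mp ⟨hic, hmax⟩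
      infer_instance
    · obtain ⟨hdom, hic⟩ := h p
      haveI := hdom
      haveI := hic
      haveI : IsNoetherianRing (Localization.AtPrime p) := IsLocalization.isNoetherianRing p.primeCompl _ inferInstance
      rw [Module.supportDim_eq_of_equiv (Groth.Agent.ReducedR0S1.selfEquiv p), Module.supportDim_self_eq_ringKrullDim,
        IsLocalization.AtPrime.ringKrullDim_eq_height p, Groth.Agent.ReducedR0S1.depth_congr_self (Groth.Agent.ReducedR0S1.selfEquiv p)]
      have hm : (IsLocalRing.maximalIdeal (Localization.AtPrime p)).height = p.height := by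
        apply WithBot.coe_injective
        rw [IsLocalRing.maximalIdeal_height_eq_ringKrullDim, IsLocalization.AtPrime.ringKrullDim_eq_height p]
      rcases lt_or_ge 1 p.height with h2 | h2
      · refine le_trans (min_le_left _ _) ?_
        have := H2Depth.le_idealDepth (depth_two (hm.symm ▸ h2))
        exact WithBot.coe_le_coe.mpr this
      · refine le_trans (min_le_right _ _) (WithBot.coe_le_coe.mpr ?_)
        rcases eq_or_ne p.height 0 with h0 | h0
        · rw [h0]; exact bot_le
        · obtain ⟨x, hx, hx0⟩ : ∃ x ∈ IsLocalRing.maximalIdeal (Localization.AtPrime p), x ≠ 0 :=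
            Submodule.exists_mem_ne_zero_of_ne_bot fun e => h0 (by rw [← hm, e, Ideal.height_bot])
          exact le_trans h2 (Groth.Agent.ReducedR0S1.one_le_depth_of_regular hx fun a b hab => mul_left_cancel₀ hx0 hab)
  · rintro ⟨hR1, hS2⟩ p hp
    haveI := isDomain_localization hR1 hS2 p
    exact ⟨inferInstance, isIntegrallyClosed_localization hR1 hS2 p⟩

end Groth.Agent.S0601
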