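import Groth.Statements.S0341
import Mathlib
import Groth.Prelude.Def_CAlg
import Groth.Agent.Lib.RegularLocalSerre
import Groth.Agent.Lib.InjDimResidue
import Groth.Agent.Lib.GorensteinQuotient
import Groth.Agent.Lib.H2Depth
import Groth.Agent.Lib.GorensteinCM

set_option autoImplicit false
universe u v
open CategoryTheory
open Groth.Agent.InjDimResidue
open Groth.Agent.GorensteinQuotient
open Pointwise
open Groth.Agent.GorensteinCM
open Goren

namespace Groth.Agent.S0341

/-- A Gorenstein local ring is Cohen–Macaulay. -/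
theorem result (A : Type u) [CommRing A] [LocCoh.IsGorensteinLocalRing A] : LocCoh.IsCohenMacaulayLocalRing A := by
  obtain ⟨n, hn⟩ := LocCoh.IsGorensteinLocalRing.exists_hasInjectiveDimensionLT (A := A)
  obtain ⟨d, -, -, hd, hreg⟩ := gor_seq n A (hasInjectiveDimensionLT_of_ge (ModuleCat.of A A) n (n + 1) (by omega))
  refine { supportDim_eq_depth := ?_ }
  rw [Module.supportDim_self_eq_ringKrullDim, hd]
  have hne : IsLocalRing.maximalIdeal A • (⊤ : Submodule A A) ≠ ⊤ := by
    rw [Ideal.smul_eq_mul, Ideal.mul_top]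
    exact (IsLocalRing.maximalIdeal.isMaximal A).ne_top
  have h1 := Groth.Agent.H2Depth.le_idealDepth hreg
  obtain ⟨ss, hs1, hs2, -, hs4⟩ := Groth.Agent.H2Depth.exists_idealDepth_eq hne
  obtain ⟨p, hp⟩ := associatedPrimes.nonempty A A
  have h2 : (ss.length : WithBot ℕ∞) ≤ d :=
    (Groth.Agent.H2Depth.hasReg_le_dim_quotient ⟨ss, rfl, hs1, hs2⟩ p hp).trans
      ((ringKrullDim_quotient_le p).trans hd.le)
  rw [show LocCoh.depth A A = LocCoh.idealDepth (IsLocalRing.maximalIdeal A) A from rfl, hs4]
  rw [hs4] at h1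
  have : d = ss.length := le_antisymm (by exact_mod_cast h1) (by exact_mod_cast h2)
  subst this
  rfl

end Groth.Agent.S0341
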