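import Groth.Statements.S9295
import Mathlib
import Groth.Prelude.Def_Found
import Groth.Prelude.Def_CAlgX
import Groth.Prelude.Def_EtRam
import Groth.Agent.Lib.H2GeomRegBase
import Groth.Agent.Lib.H2DerFinite
import Groth.Agent.Lib.RegularLocalBasic
import Groth.Agent.S2451

set_option autoImplicit false
universe u
open CAlg

namespace Groth.Agent.S9295
open TensorProduct IsLocalRing
open Groth.Agent.H2GeomRegMore Groth.Agent.H2GeomRegBase
set_option backward.isDefEq.respectTransparency.types false
set_option synthInstance.maxHeartbeats 400000
set_option maxHeartbeats 1000000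

/-- For ring maps A → B → C, if the composite A → C is a regular map and C is flat over B with every
prime of B lying under a prime of C (that is, B → C is faithfully flat), then A → B is a regular
map. -/
theorem result (A B C : Type u) [CommRing A] [CommRing B] [CommRing C]
    [Algebra A B] [Algebra B C] [Algebra A C] [IsScalarTower A B C]
    (hAC : CAlg.IsRegularHom A C) [Module.Flat B C]
    (hsurj : Function.Surjective (PrimeSpectrum.comap (algebraMap B C))) :
    CAlg.IsRegularHom A B := by
  haveI := hAC.1
  haveI : Module.FaithfullyFlat B C := Module.FaithfullyFlat.of_comap_surjective hsurj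
  refine ⟨?_, fun p _ => ?_⟩
  · rw [Module.Flat.iff_lTensor_injective']
    intro J
    let F := TensorProduct.AlgebraTensorModule.lTensor B B J.subtype
    have hF : Function.Injective F := by
      rw [← Module.FaithfullyFlat.lTensor_injective_iff_injective B C F]
      have key : ∀ z, TensorProduct.AlgebraTensorModule.cancelBaseChange A B B C A (F.lTensor C z) =
          J.subtype.lTensor C (TensorProduct.AlgebraTensorModule.cancelBaseChange A B B C J z) := fun z => by
        induction z with
        | zero => simp
        | add x y hx hy => simp only [map_add, hx, hy]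
        | tmul c w =>
          induction w with
          | zero => simp
          | add x y hx hy => simp only [TensorProduct.tmul_add, map_add, hx, hy]
          | tmul b j => simp [F]
      intro z w hzw
      refine (TensorProduct.AlgebraTensorModule.cancelBaseChange A B B C J).injective ?_
      refine Module.Flat.lTensor_preserves_injective_linearMap (M := C) J.subtype J.injective_subtype ?_
      rw [← key, ← key, hzw]
    exact hF
  · obtain ⟨hN, hg⟩ := hAC.2 p
    haveI := hN
    have desc : ∀ (k' : Type u) [Field k'] [Algebra A k'], Module.FaithfullyFlat (B ⊗[A] k') ((B ⊗[A] k') ⊗[B] C) ∧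
        Nonempty (((B ⊗[A] k') ⊗[B] C) ≃+* k' ⊗[A] C) := fun k' _ _ =>
      ⟨inferInstance, ⟨(Algebra.TensorProduct.comm B (B ⊗[A] k') C).toRingEquiv.trans
        ((Algebra.TensorProduct.cancelBaseChange A B C C k').toRingEquiv.trans (Algebra.TensorProduct.comm A C k').toRingEquiv)⟩⟩
    refine ⟨?_, fun k' _ _ hf => ?_⟩
    · obtain ⟨hff, ⟨e⟩⟩ := desc p.ResidueField
      haveI := hff
      haveI : IsNoetherianRing ((B ⊗[A] p.ResidueField) ⊗[B] C) := isNoetherianRing_of_ringEquiv _ e.symm
      haveI : IsNoetherianRing (B ⊗[A] p.ResidueField) :=
        Groth.Agent.H2RegNormal.isNoetherian_descent (S := (B ⊗[A] p.ResidueField) ⊗[B] C)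
      exact isNoetherianRing_of_ringEquiv _ (Algebra.TensorProduct.comm A B p.ResidueField).toRingEquiv
    · letI : Algebra A k' := ((algebraMap p.ResidueField k').comp (algebraMap A p.ResidueField)).toAlgebra
      haveI : IsScalarTower A p.ResidueField k' := IsScalarTower.of_algebraMap_eq' rfl
      haveI := hg k' hf
      haveI : IsRegularRing (k' ⊗[A] C) := IsRegularRing.of_ringEquiv (Algebra.TensorProduct.cancelBaseChange A p.ResidueField k' k' C).toRingEquiv
      obtain ⟨hff, ⟨e⟩⟩ := desc k'
      haveI := hff
      haveI : IsRegularRing ((B ⊗[A] k') ⊗[B] C) := IsRegularRing.of_ringEquiv e.symm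
      haveI : IsRegularRing (B ⊗[A] k') := Groth.Agent.H2RegDescend.isRegularRing_descend (S := (B ⊗[A] k') ⊗[B] C)
      exact IsRegularRing.of_ringEquiv ((Algebra.TensorProduct.comm A B k').toRingEquiv.trans
        (Algebra.TensorProduct.cancelBaseChange A p.ResidueField k' k' B).symm.toRingEquiv)

end Groth.Agent.S9295
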