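import Groth.Statements.S5752
import Mathlib
import Groth.Agent.Lib.H2Depth


set_option autoImplicit false
universe u
open EGA41

namespace Groth.Agent.S5752

/-- Let A be a Noetherian local ring with maximal ideal m and M a finitely generated A-module. Then M
has depth 0 if and only if m is an associated prime of M, i.e. if and only if M contains a copy of
the residue field. (For M = 0 the depth is ⊤ and there are no associated primes.) -/
theorem result (A : Type u) [CommRing A] [IsLocalRing A]
    [IsNoetherianRing A] (M : Type u) [AddCommGroup M] [Module A M] [Module.Finite A M] :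
    LocCoh.depth A M = 0 ↔ IsLocalRing.maximalIdeal A ∈ associatedPrimes A M := by
  haveI := ‹Module.Finite A M›
  rw [LocCoh.depth]
  rcases subsingleton_or_nontrivial M with hM | hM
  · rw [LocCoh.idealDepth, if_pos (Subsingleton.elim _ _)]
    refine iff_of_false (by simp) ?_
    rw [associatedPrimes.eq_empty_of_subsingleton]
    exact Set.notMem_empty _
  · have hIM : IsLocalRing.maximalIdeal A • (⊤ : Submodule A M) ≠ ⊤ := fun h =>
      (top_ne_bot : (⊤ : Submodule A M) ≠ ⊥) (Submodule.eq_bot_of_le_smul_of_le_jacobson_bot _ ⊤
        Module.Finite.fg_top h.ge (IsLocalRing.maximalIdeal_le_jacobson _))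
    constructor
    · intro h
      by_contra hm
      obtain ⟨r, hr, hreg⟩ := H2Depth.exists_regular_of_forall_not_le (M := M)
        (IsLocalRing.maximalIdeal A) (fun p hp hle => hm (by
          rwa [(IsLocalRing.maximalIdeal.isMaximal A).eq_of_le hp.isPrime.ne_top hle]))
      have := H2Depth.le_idealDepth (k := 1) (H2Depth.HasReg.cons hr hreg (H2Depth.HasReg.zero _))
      rw [h] at this
      simp at this
    · intro h
      have := H2Depth.idealDepth_eq_length hIM (RingTheory.Sequence.IsWeaklyRegular.nil A M)
        (by simp) (fun r hr hreg => ?_)
      · simpa using this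
      · have hreg' : IsSMulRegular M r := by
          have e := (Submodule.quotEquivOfEqBot (Ideal.ofList ([] : List A) • (⊤ : Submodule A M))
            (by simp))
          exact (e.isSMulRegular_congr r).mp hreg
        exact H2Depth.exists_notMem_of_hasRegElem (IsLocalRing.maximalIdeal A) hr hreg' _ h le_rfl

end Groth.Agent.S5752
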