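import Groth.Statements.S0426
import Mathlib

set_option autoImplicit false
universe u
open FlatMor

namespace Groth.Agent.S0426
open TensorProduct
set_option maxHeartbeats 1000000
set_option synthInstance.maxHeartbeats 100000

/-- A field extension L/K such that L is weakly étale over K (equivalently the multiplication map of L
⊗_K L is flat) is algebraic and separable. -/
theorem result {K L : Type u} [Field K] [Field L] [Algebra K L] [Algebra.WeaklyEtale K L] : Algebra.IsSeparable K L := by
  have key : ∀ {R S : Type u} [CommRing R] [CommRing S] (φ : R →+* S), φ.Flat → ∀ (x : R) (s : S), φ x * s = 0 →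
      s ∈ Ideal.span (φ '' {r : R | x * r = 0}) := by
    intro R S _ _ φ hφ x s h
    algebraize [φ]
    obtain ⟨k, a, y, hy, ha⟩ := Module.Flat.isTrivialRelation_of_sum_smul_eq_zero (R := R) (M := S)
      (f := fun _ : Fin 1 => x) (x := fun _ => s) (by simpa [Algebra.smul_def] using! h)
    have hs : s = ∑ j, a 0 j • y j := hy 0
    rw [hs]
    refine Ideal.sum_mem _ fun j _ => ?_
    rw [Algebra.smul_def]
    exact Ideal.mul_mem_right _ _ (Ideal.subset_span ⟨a 0 j, by simpa using ha j, rfl⟩)
  have hflat : (Algebra.TensorProduct.lmul' K (S := L)).Flat := Algebra.WeaklyEtale.flat_lmul' K L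
  constructor
  intro z
  let F := IntermediateField.adjoin K ({z} : Set L)
  haveI : Algebra.EssFiniteType K F := by
    rw [IntermediateField.essFiniteType_iff]
    exact ⟨{z}, by simp [F]⟩
  let μF := Algebra.TensorProduct.lmul' K (S := F)
  let φ : F ⊗[K] F →ₐ[K] L ⊗[K] L := Algebra.TensorProduct.map F.val F.val
  have hφ : RingHom.Flat (R := F ⊗[K] F) (S := L ⊗[K] L) φ := by
    have h1 : F.val.Flat := Module.Flat.of_free (R := F) (M := L)
    exact RingHom.Flat.tensorProductMap h1 h1
  have hsq : KaehlerDifferential.ideal K F ≤ KaehlerDifferential.ideal K F ^ 2 := by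
    intro x hx
    have hx0 : μF x = 0 := hx
    have hcomp : ∀ t, Algebra.TensorProduct.lmul' K (S := L) (φ t) = (μF t : L) := by
      intro t
      induction t using TensorProduct.induction_on with
      | zero => simp
      | tmul a b => simp [φ, μF]
      | add a b ha hb => simp [map_add, ha, hb]
    have h1 := key (R := L ⊗[K] L) (S := L) (Algebra.TensorProduct.lmul' K (S := L)) hflat (φ x) 1 (by rw [mul_one]; show Algebra.TensorProduct.lmul' K (φ x) = 0; rw [hcomp, hx0]; rfl)
    obtain ⟨a, ha, ha'⟩ : ∃ a, φ x * a = 0 ∧ Algebra.TensorProduct.lmul' K (S := L) a ≠ 0 := by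
      by_contra hc
      push Not at hc
      have hle : Ideal.span ((Algebra.TensorProduct.lmul' K (S := L)).toRingHom '' {r | φ x * r = 0}) ≤ ⊥ := by
        rw [Ideal.span_le]; rintro _ ⟨r, hr, rfl⟩; exact hc r hr
      exact one_ne_zero ((Submodule.mem_bot _).mp (hle h1))
    have h2 := key (R := F ⊗[K] F) (S := L ⊗[K] L) φ hφ x a ha
    obtain ⟨j, hj, hj'⟩ : ∃ j, x * j = 0 ∧ μF j ≠ 0 := by
      by_contra hc
      push Not at hc
      apply ha'
      have hle : Ideal.span (φ.toRingHom '' {r | x * r = 0}) ≤ RingHom.ker (Algebra.TensorProduct.lmul' K (S := L)).toRingHom := by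
        rw [Ideal.span_le]; rintro _ ⟨r, hr, rfl⟩
        show Algebra.TensorProduct.lmul' K (φ r) = 0
        rw [hcomp, hc r hr]; rfl
      exact hle h2
    let j' := j * ((μF j)⁻¹ ⊗ₜ[K] (1 : F))
    have hj1 : 1 - j' ∈ KaehlerDifferential.ideal K F := by
      show μF (1 - j') = 0
      simp [j', μF, hj']
    have e : x = x * (1 - j') := by
      rw [mul_sub, mul_one, ← mul_assoc, hj, zero_mul, sub_zero]
    rw [e, pow_two]
    exact Ideal.mul_mem_mul hx hj1
  haveI : Subsingleton (Ω[F⁄K]) := by
    show Subsingleton (KaehlerDifferential.ideal K F).Cotangent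
    exact (Ideal.cotangent_subsingleton_iff _).mpr (le_antisymm (by rw [pow_two]; exact Ideal.mul_le_left) hsq |>.symm |> fun e => by rw [IsIdempotentElem, ← pow_two]; exact e.symm)
  haveI : Algebra.FormallyUnramified K F := ⟨inferInstance⟩
  haveI := Algebra.FormallyUnramified.isSeparable K F
  have h3 : (minpoly K (⟨z, IntermediateField.mem_adjoin_simple_self K z⟩ : F)).Separable := Algebra.IsSeparable.isSeparable K _
  show (minpoly K z).Separable
  rw [IntermediateField.minpoly_eq] at h3
  exact h3

end Groth.Agent.S0426
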