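import Groth.Statements.S1970
import Mathlib
import Groth.Agent.S0426

set_option autoImplicit false
universe u
open EtAlg

namespace Groth.Agent.S1970


section helpers
open TensorProduct

theorem flat_of_we (R E T : Type u) [CommRing R] [CommRing E] [CommRing T] [Algebra R E] [Algebra R T]
    [Algebra E T] [IsScalarTower R E T] [Algebra.WeaklyEtale R E] [Module.Flat R T] : Module.Flat E T := by
  let μ : T ⊗[R] E →ₐ[T] T := Algebra.TensorProduct.lift (AlgHom.id T T) (IsScalarTower.toAlgHom R E T) fun _ _ => Commute.all _ _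
  have hμ : μ.Flat := by
    have h1 : (Algebra.TensorProduct.lmul'' (S := E) R).Flat := Algebra.WeaklyEtale.flat_lmul' R E
    have h2 := RingHom.Flat.lTensor (R := E) (S := T) T h1
    let e₁ := Algebra.TensorProduct.cancelBaseChange R E T T E
    let e₂ := Algebra.TensorProduct.rid E T T
    have he : (μ : T ⊗[R] E →+* T) = ((e₂ : T ⊗[E] E →+* T).comp (Algebra.TensorProduct.lTensor (S := T) T (Algebra.TensorProduct.lmul'' (S := E) R)).toRingHom).comp (e₁.symm : T ⊗[R] E →+* T ⊗[E] (E ⊗[R] E)) := by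
      have hm : ∀ a b : E, Algebra.TensorProduct.lmul'' (S := E) R (a ⊗ₜ[R] b) = a * b := fun _ _ => rfl
      ext x <;> simp [μ, e₁, e₂, Algebra.smul_def, hm]
    show (μ : T ⊗[R] E →+* T).Flat
    rw [he]
    exact (RingHom.Flat.of_bijective e₁.symm.bijective).comp (h2.comp (RingHom.Flat.of_bijective e₂.bijective))
  have h0 : (Algebra.TensorProduct.includeRight : E →ₐ[R] T ⊗[R] E).Flat := by
    have : ((Algebra.TensorProduct.includeRight : E →ₐ[R] T ⊗[R] E) : E →+* T ⊗[R] E) =
      ((Algebra.TensorProduct.comm R E T : E ⊗[R] T ≃ₐ[R] T ⊗[R] E) : E ⊗[R] T →+* T ⊗[R] E).comp (algebraMap E (E ⊗[R] T)) := by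
      ext x; simp
    show ((Algebra.TensorProduct.includeRight : E →ₐ[R] T ⊗[R] E) : E →+* T ⊗[R] E).Flat
    rw [this]
    exact (RingHom.flat_algebraMap_iff.2 inferInstance).comp (RingHom.Flat.of_bijective (Algebra.TensorProduct.comm R E T).bijective)
  rw [← RingHom.flat_algebraMap_iff]
  convert h0.comp hμ using 1
  ext x; simp [μ]

variable {K : Type u} [Field K] {B : Type u} [CommRing B] [Algebra K B]

theorem we_quotient [Algebra.WeaklyEtale K B] (I : Ideal B) : Algebra.WeaklyEtale K (B ⧸ I) := by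
  haveI : Module.Flat B (B ⧸ I) := flat_of_we K B (B ⧸ I)
  haveI : Algebra.WeaklyEtale B (B ⧸ I) := by
    refine { flat_lmul' := ?_ }
    refine RingHom.Flat.of_bijective ⟨?_, fun y => ⟨y ⊗ₜ[B] 1, by simp⟩⟩
    have h : ∀ z : (B ⧸ I) ⊗[B] (B ⧸ I), z = (Algebra.TensorProduct.lmul' B z) ⊗ₜ[B] (1 : B ⧸ I) := by
      intro z
      induction z using TensorProduct.induction_on with
      | zero => simp
      | add a b ha hb => rw [map_add, TensorProduct.add_tmul, ← ha, ← hb]
      | tmul a b =>
        obtain ⟨b, rfl⟩ := Ideal.Quotient.mk_surjective b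
        have hb : (Ideal.Quotient.mk I b : B ⧸ I) = b • 1 := by
          rw [Algebra.smul_def, mul_one]; rfl
        rw [Algebra.TensorProduct.lmul'_apply_tmul, hb, TensorProduct.tmul_smul, mul_smul_comm, mul_one,
          TensorProduct.smul_tmul']
    intro a b hab
    rw [h a, h b]
    exact congrArg (fun w => w ⊗ₜ[B] (1 : B ⧸ I)) hab
  exact Algebra.WeaklyEtale.trans K B (B ⧸ I)

theorem regular_elem [Algebra.WeaklyEtale K B] (z : B) : ∃ w, z = z * z * w := by
  haveI : (Ideal.span ({z} : Set B)).Pure := flat_of_we K B (B ⧸ Ideal.span ({z} : Set B))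
  obtain ⟨y, hy, hzy⟩ := Ideal.exists_eq_mul_of_pure (Ideal.mem_span_singleton_self z)
  obtain ⟨w, rfl⟩ := Ideal.mem_span_singleton'.mp hy
  exact ⟨w, by linear_combination hzy⟩

theorem isField_quotient [Algebra.WeaklyEtale K B] (q : Ideal B) [q.IsPrime] : IsField (B ⧸ q) :=
  { exists_pair_ne := ⟨0, 1, zero_ne_one⟩
    mul_comm := mul_comm
    mul_inv_cancel := fun {a} ha => by
      obtain ⟨a, rfl⟩ := Ideal.Quotient.mk_surjective a
      obtain ⟨w, hw⟩ := regular_elem (K := K) a
      refine ⟨Ideal.Quotient.mk q w, mul_left_cancel₀ ha ?_⟩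
      rw [← mul_assoc, mul_one, ← map_mul, ← map_mul, ← hw] }

open Polynomial in
theorem exists_separable_root [Algebra.WeaklyEtale K B] (x : B) :
    ∃ P : K[X], P.Separable ∧ aeval x P = 0 := by
  classical
  have hsep : ∀ (q : Ideal B), q.IsPrime → (minpoly K (Ideal.Quotient.mk q x)).Separable ∧
      IsIntegral K (Ideal.Quotient.mk q x) := by
    intro q _
    haveI := we_quotient (K := K) q
    letI := (isField_quotient (K := K) q).toField
    haveI : Algebra.IsSeparable K (B ⧸ q) := Groth.Agent.S0426.result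
    exact ⟨Algebra.IsSeparable.isSeparable K (Ideal.Quotient.mk q x), Algebra.IsIntegral.isIntegral _⟩
  obtain ⟨P0, hP0, hP0x⟩ : ∃ P0 : K[X], P0 ≠ 0 ∧ aeval x P0 = 0 := by
    by_contra h
    push Not at h
    have hinj : Function.Injective (aeval x : K[X] →ₐ[K] B) :=
      (injective_iff_map_eq_zero _).mpr fun p hp => by_contra fun hne => h p hne hp
    obtain ⟨q, hq, hqc⟩ := Ideal.exists_comap_eq_of_mem_minimalPrimes_of_injective (f := (aeval x : K[X] →ₐ[K] B).toRingHom) hinj
      (⊥ : Ideal K[X]) ⟨⟨Ideal.isPrime_bot, le_rfl⟩, fun _ _ _ => bot_le⟩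
    obtain ⟨hm, hint⟩ := hsep q hq
    have hmem : minpoly K (Ideal.Quotient.mk q x) ∈ q.comap (aeval x : K[X] →ₐ[K] B).toRingHom := by
      rw [Ideal.mem_comap, ← Ideal.Quotient.eq_zero_iff_mem]
      show Ideal.Quotient.mkₐ K q (aeval x _) = 0
      rw [← aeval_algHom_apply]
      exact minpoly.aeval _ _
    rw [hqc, Ideal.mem_bot] at hmem
    exact minpoly.ne_zero hint hmem
  let S : Finset K[X] := (UniqueFactorizationMonoid.normalizedFactors P0).toFinset.filter fun m => m.Separable
  refine ⟨∏ m ∈ S, m, ?_, ?_⟩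
  · refine Polynomial.separable_prod' (fun a ha b hb hab => ?_) (fun a ha => (Finset.mem_filter.mp ha).2)
    have ha' := UniqueFactorizationMonoid.irreducible_of_normalized_factor a (Multiset.mem_toFinset.mp (Finset.mem_filter.mp ha).1)
    have hb' := UniqueFactorizationMonoid.irreducible_of_normalized_factor b (Multiset.mem_toFinset.mp (Finset.mem_filter.mp hb).1)
    refine ha'.coprime_iff_not_dvd.mpr fun hdvd => hab ?_
    have := (ha'.associated_of_dvd hb' hdvd)
    have hna := UniqueFactorizationMonoid.normalize_normalized_factor a (Multiset.mem_toFinset.mp (Finset.mem_filter.mp ha).1)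
    have hnb := UniqueFactorizationMonoid.normalize_normalized_factor b (Multiset.mem_toFinset.mp (Finset.mem_filter.mp hb).1)
    rw [← hna, ← hnb]
    exact normalize_eq_normalize_iff_associated.mpr this
  · have hnil : IsNilpotent (aeval x (∏ m ∈ S, m)) := by
      rw [← mem_nilradical, nilradical_eq_sInf]
      refine Submodule.mem_sInf.mpr fun (q : Ideal B) (hq : q.IsPrime) => ?_
      obtain ⟨hm, hint⟩ := hsep q hq
      have hdvd : minpoly K (Ideal.Quotient.mk q x) ∣ P0 := by
        refine minpoly.dvd _ _ ?_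
        show aeval (Ideal.Quotient.mkₐ K q x) P0 = 0
        rw [aeval_algHom_apply, hP0x, map_zero]
      haveI : IsDomain (B ⧸ q) := Ideal.Quotient.isDomain q
      have hmS : minpoly K (Ideal.Quotient.mk q x) ∈ S := Finset.mem_filter.mpr ⟨Multiset.mem_toFinset.mpr
        ((Polynomial.mem_normalizedFactors_iff hP0).mpr ⟨minpoly.irreducible hint, minpoly.monic hint, hdvd⟩), hm⟩
      rw [map_prod]
      refine Ideal.IsPrime.prod_mem_iff.mpr ⟨_, hmS, ?_⟩
      rw [← Ideal.Quotient.eq_zero_iff_mem]
      show Ideal.Quotient.mkₐ K q (aeval x _) = 0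
      rw [← aeval_algHom_apply]
      exact minpoly.aeval _ _
    obtain ⟨w, hw⟩ := regular_elem (K := K) (aeval x (∏ m ∈ S, m))
    have hpow : ∀ n, aeval x (∏ m ∈ S, m) = aeval x (∏ m ∈ S, m) * (aeval x (∏ m ∈ S, m) * w) ^ n := by
      intro n
      induction n with
      | zero => simp
      | succ n ih =>
        rw [pow_succ, ← mul_assoc, ← ih]
        linear_combination hw
    obtain ⟨n, hn⟩ := hnil
    rw [hpow n, mul_pow, hn, zero_mul, mul_zero]

open Polynomial in
theorem we_subalgebra [Algebra.WeaklyEtale K B] (S : Subalgebra K B) : Algebra.WeaklyEtale K S := by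
  refine { flat := inferInstance, flat_lmul' := ?_ }
  let J := KaehlerDifferential.ideal K S
  have hJ : ∀ z ∈ J, ∃ e ∈ J, z = z * e := by
    intro z hz
    have hz' : z ∈ Ideal.span (Set.range fun s : S => (1 : S) ⊗ₜ[K] s - s ⊗ₜ[K] (1 : S)) := by
      rw [KaehlerDifferential.span_range_eq_ideal]; exact hz
    induction hz' using Submodule.span_induction with
    | mem u hu =>
      obtain ⟨s, rfl⟩ := hu
      obtain ⟨P, hP, hPs⟩ := exists_separable_root (K := K) (s : B)
      have hPs' : aeval s P = 0 := Subtype.ext (by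
        rw [← Subalgebra.coe_val, ← aeval_algHom_apply]; simpa using hPs)
      let fl : S →ₐ[K] S ⊗[K] S := Algebra.TensorProduct.includeLeft
      let fr : S →ₐ[K] S ⊗[K] S := Algebra.TensorProduct.includeRight
      obtain ⟨a, b, hab⟩ := hP
      obtain ⟨r, hr⟩ := (P.map (algebraMap K (S ⊗[K] S))).binomExpansion (fl s) (fr s - fl s)
      have h0 : ∀ f : S →ₐ[K] S ⊗[K] S, eval (f s) (P.map (algebraMap K (S ⊗[K] S))) = 0 := fun f => by
        rw [eval_map_algebraMap, aeval_algHom_apply, hPs', map_zero]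
      rw [add_sub_cancel, h0, h0, derivative_map, eval_map_algebraMap] at hr
      have hc : aeval (fl s) b * aeval (fl s) (derivative P) = 1 := by
        have := congrArg (aeval (fl s)) hab
        rw [map_add, map_mul, map_mul, map_one, aeval_algHom_apply fl s P, hPs', map_zero, mul_zero, zero_add] at this
        exact this
      refine ⟨-(aeval (fl s) b) * r * (fr s - fl s), Ideal.mul_mem_left _ _ ?_, ?_⟩
      · show Algebra.TensorProduct.lmul' K (fr s - fl s) = 0
        simp [fl, fr]
      · show fr s - fl s = (fr s - fl s) * _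
        linear_combination (-(fr s - fl s)) * hc - aeval (fl s) b * hr
    | zero => exact ⟨0, J.zero_mem, by simp⟩
    | add a b ha hb iha ihb =>
      have ha' : a ∈ J := (KaehlerDifferential.span_range_eq_ideal K S).le ha
      have hb' : b ∈ J := (KaehlerDifferential.span_range_eq_ideal K S).le hb
      obtain ⟨e1, he1, h1⟩ := iha ha'
      obtain ⟨e2, he2, h2⟩ := ihb hb'
      refine ⟨e1 + e2 - e1 * e2, J.sub_mem (J.add_mem he1 he2) (J.mul_mem_left _ he2), ?_⟩
      linear_combination (1 - e2) * h1 + (1 - e1) * h2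
    | smul c a ha iha =>
      have ha' : a ∈ J := (KaehlerDifferential.span_range_eq_ideal K S).le ha
      obtain ⟨e1, he1, h1⟩ := iha ha'
      refine ⟨e1, he1, ?_⟩
      rw [smul_eq_mul]
      linear_combination c * h1
  haveI hpure : J.Pure := Ideal.Pure.of_inf_eq_mul J fun I _ => le_antisymm (fun z hz => by
    obtain ⟨e, he, h⟩ := hJ z hz.1
    rw [h, mul_comm z e]
    exact Ideal.mul_mem_mul he hz.2) Ideal.mul_le_inf
  have hsurj : Function.Surjective (Algebra.TensorProduct.lmul' K : S ⊗[K] S →ₐ[K] S) :=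
    fun y => ⟨y ⊗ₜ[K] 1, by simp⟩
  let e := RingHom.quotientKerEquivOfSurjective (f := (Algebra.TensorProduct.lmul' K : S ⊗[K] S →ₐ[K] S).toRingHom) hsurj
  have : (Algebra.TensorProduct.lmul' K : S ⊗[K] S →ₐ[K] S).toRingHom = e.toRingHom.comp (Ideal.Quotient.mk J) := rfl
  show ((Algebra.TensorProduct.lmul' K : S ⊗[K] S →ₐ[K] S).toRingHom).Flat
  rw [this]
  refine RingHom.Flat.comp (f := Ideal.Quotient.mk J) (g := e.toRingHom) ?_ (RingHom.Flat.of_bijective e.bijective)
  show (algebraMap (S ⊗[K] S) ((S ⊗[K] S) ⧸ J)).Flat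
  exact RingHom.flat_algebraMap_iff.2 hpure

end helpers

/-- Over a field K, every K-subalgebra and every quotient K-algebra of a weakly etale K-algebra is again
weakly etale over K. -/
theorem result (K : Type u) [Field K] (B : Type u) [CommRing B] [Algebra K B]
    [Algebra.WeaklyEtale K B] :
    (∀ S : Subalgebra K B, Algebra.WeaklyEtale K S) ∧ ∀ I : Ideal B, Algebra.WeaklyEtale K (B ⧸ I) := by
  exact ⟨fun S => we_subalgebra S, fun I => we_quotient I⟩

end Groth.Agent.S1970
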