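import Groth.Statements.S7129
import Mathlib


set_option autoImplicit false
universe u
open EtAlg

namespace Groth.Agent.S7129

theorem isField_of_vnr {A : Type u} [CommRing A] (h : ∀ a : A, ∃ b, a * a * b = a)
    (p : Ideal A) [p.IsPrime] : IsField (Localization.AtPrime p) := by
  rw [IsLocalRing.isField_iff_maximalIdeal_eq, eq_bot_iff]
  intro x hx
  obtain ⟨a, s, rfl⟩ := IsLocalization.exists_mk'_eq p.primeCompl x
  have ha : a ∈ p := (IsLocalization.AtPrime.mk'_mem_maximal_iff _ p a s).1 hx
  obtain ⟨b, hb⟩ := h a
  have hs : 1 - a * b ∈ p.primeCompl := fun hc => ‹p.IsPrime›.ne_top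
    ((Ideal.eq_top_iff_one _).2 (by simpa using p.add_mem hc (p.mul_mem_right b ha)))
  rw [Ideal.mem_bot, IsLocalization.mk'_eq_zero_iff]
  exact ⟨⟨_, hs⟩, by linear_combination -hb⟩

theorem flat_of_isField_localization {A : Type u} [CommRing A]
    (h : ∀ (p : Ideal A) [p.IsPrime], IsField (Localization.AtPrime p))
    (M : Type u) [AddCommGroup M] [Module A M] : Module.Flat A M := by
  refine Module.flat_of_localized_maximal _ fun P _ => ?_
  haveI : Module.Flat (Localization.AtPrime P) (LocalizedModule P.primeCompl M) := by
    letI := (h P).toField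
    exact Module.Flat.of_free
  exact Module.Flat.trans A (Localization.AtPrime P) _


/-- Every module over a product of fields ∏ K_i is flat over it (the product is an absolutely flat
ring). -/
theorem result (ι : Type u) (K : ι → Type u) [∀ i, Field (K i)] (M : Type u)
    [AddCommGroup M] [Module (∀ i, K i) M] : Module.Flat (∀ i, K i) M := by
  refine flat_of_isField_localization (fun p _ => isField_of_vnr (fun a => ⟨fun i => (a i)⁻¹, funext fun i => ?_⟩) p) M
  rcases eq_or_ne (a i) 0 with h | h
  · simp [h]
  · simp [mul_assoc, h]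

end Groth.Agent.S7129
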