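import Groth.Statements.S0115
import Groth.Agent.S0114
import Groth.Agent.S2805

set_option autoImplicit false
open CategoryTheory CategoryTheory.Limits AlgebraicGeometry Opposite
universe u
open EtBase

namespace Groth.Agent.S0115

/-- Smoothness descends along fppf coverings: if f : X ⟶ Y is surjective, flat and locally of finite
presentation and q : Y ⟶ S is a morphism such that f ≫ q is smooth, then q is smooth. -/
theorem result {X Y S : Scheme.{u}} (f : X ⟶ Y) (q : Y ⟶ S) [Surjective f] [Flat f]
    [LocallyOfFinitePresentation f] [Smooth (f ≫ q)] : Smooth q := by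
  haveI : LocallyOfFinitePresentation q := Groth.Agent.S0114.result f q
  rw [← Scheme.Hom.smoothLocus_eq_top_iff]
  refine top_le_iff.mp fun y _ => ?_
  obtain ⟨x, rfl⟩ := f.surjective y
  obtain ⟨V, hxV, hV⟩ := Groth.Agent.S2805.result q (f ≫ q) f rfl x (Flat.stalkMap f x)
    ⟨⊤, trivial, inferInstance⟩
  exact Groth.Agent.S2805.mem_smoothLocus_of_nhd q _ ⟨V, hxV, hV⟩

end Groth.Agent.S0115
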