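import Groth.Statements.S9205
import Groth.Agent.Lib.H6.SubtrFT2

set_option autoImplicit false
set_option linter.all false
universe u
open CategoryTheory CategoryTheory.Limits AlgebraicGeometry
open Lim

namespace Groth.Agent.S9205

/-- Let f : X → S be a quasi-compact morphism of schemes. Then: f is universally closed if and only if,
whenever g : S' → S is a morphism locally of finite presentation, the projection X ×_S S' → S' is a
closed map; and f is universally closed if and only if for every natural number n the base change X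
×_S A^n_S → A^n_S to affine n-space over S is closed. -/
theorem result {X S : Scheme.{u}} (f : X ⟶ S) [QuasiCompact f] :
    (UniversallyClosed f ↔ ∀ (S' : Scheme.{u}) (g : S' ⟶ S), LocallyOfFinitePresentation g →
        IsClosedMap (pullback.snd f g).base) ∧
      (UniversallyClosed f ↔ ∀ n : ℕ, IsClosedMap (pullback.snd f (𝔸(ULift.{u} (Fin n); S) ↘ S)).base) := by
  have key : (∀ n : ℕ, IsClosedMap (pullback.snd f (𝔸(ULift.{u} (Fin n); S) ↘ S)).base) → UniversallyClosed f := by
    intro h
    refine H6.SubtrFT.universallyClosed_of_finiteType f fun W hW C _ _ hC => ?_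
    obtain ⟨s, hs⟩ := hC.out
    classical
    let e := s.equivFin
    let v : ULift.{u} (Fin s.card) → C := fun i => ((e.symm i.down : s) : C)
    let ψ : MvPolynomial (ULift.{u} (Fin s.card)) Γ(S, W) →ₐ[Γ(S, W)] C := MvPolynomial.aeval v
    have hψ : Function.Surjective ψ := by
      rw [← AlgHom.range_eq_top, eq_top_iff, ← hs, Algebra.adjoin_le_iff]
      intro c hc
      refine ⟨MvPolynomial.X ⟨e ⟨c, hc⟩⟩, ?_⟩
      show ψ _ = c
      rw [MvPolynomial.aeval_X]
      simp [v]
    let j : Spec (CommRingCat.of C) ⟶ AffineSpace (ULift.{u} (Fin s.card)) S :=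
      Spec.map (CommRingCat.ofHom ψ.toRingHom) ≫ (AffineSpace.SpecIso _ Γ(S, W)).inv ≫ AffineSpace.map _ hW.fromSpec
    haveI : IsOpenImmersion (AffineSpace.map (ULift.{u} (Fin s.card)) hW.fromSpec) :=
      MorphismProperty.of_isPullback (AffineSpace.isPullback_map hW.fromSpec).flip inferInstance
    haveI : IsClosedImmersion (Spec.map (CommRingCat.ofHom ψ.toRingHom)) :=
      IsClosedImmersion.spec_of_surjective _ hψ
    haveI : IsPreimmersion j := inferInstanceAs (IsPreimmersion (_ ≫ _ ≫ _))
    have hj : j ≫ (AffineSpace (ULift.{u} (Fin s.card)) S ↘ S) = H6.PullAff.base hW.fromSpec C := by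
      simp only [j, Category.assoc, AffineSpace.map_over, AffineSpace.SpecIso_inv_over_assoc, ← Spec.map_comp_assoc]
      congr 2
      ext a
      exact ψ.commutes a
    let m : pullback f (H6.PullAff.base hW.fromSpec C) ⟶ pullback f (AffineSpace (ULift.{u} (Fin s.card)) S ↘ S) :=
      pullback.lift (pullback.fst _ _) (pullback.snd _ _ ≫ j) (by rw [pullback.condition, Category.assoc, hj])
    have hm : IsPullback m (pullback.snd f (H6.PullAff.base hW.fromSpec C)) (pullback.snd f (AffineSpace (ULift.{u} (Fin s.card)) S ↘ S)) j := by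
      refine IsPullback.of_right ?_ (pullback.lift_snd _ _ _) (IsPullback.of_hasPullback f _)
      rw [pullback.lift_fst, hj]
      exact IsPullback.of_hasPullback _ _
    haveI : IsPreimmersion m := MorphismProperty.of_isPullback (P := @IsPreimmersion) hm.flip inferInstance
    intro z₁ b hb
    have hb' : pullback.snd f (AffineSpace (ULift.{u} (Fin s.card)) S ↘ S) (m z₁) ⤳ j b := by
      rw [← Scheme.Hom.comp_apply, pullback.lift_snd, Scheme.Hom.comp_apply]
      exact (show _ ⤳ b from hb).map j.continuous
    obtain ⟨x, hx, hxb⟩ := (h s.card).specializingMap hb'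
    obtain ⟨z, hz, hzb⟩ := Scheme.exists_preimage_of_isPullback hm x b hxb
    refine ⟨z, m.isEmbedding.isInducing.specializes_iff.1 ?_, hzb⟩
    rw [hz]
    exact hx
  refine ⟨⟨fun h S' g _ => (pullback.snd f g).isClosedMap, fun h => key fun n => ?_⟩,
    ⟨fun h n => (pullback.snd f _).isClosedMap, key⟩⟩
  exact h _ _ inferInstance

end Groth.Agent.S9205
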