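import Groth.Statements.S6936
import Mathlib
import Groth.Prelude.Def_DRing2
import Groth.Prelude.Def_DDual2
import Groth.Agent.Lib.H5DTen
import Groth.Agent.Lib.H5Perf
import Groth.Agent.Lib.H5Amp
import Groth.Agent.Lib.H5WayOut
import Groth.Agent.Lib.CoherentRings
import Groth.Agent.Lib.UnivInjective
import Groth.Agent.Lib.PseudoCoherentRing
import Groth.Agent.Lib.H7StupidGE
import Groth.Agent.S2087
import Groth.Agent.Lib.PseudoCoherentRingMore

set_option autoImplicit false
universe u
open Groth.Agent.PseudoCoherentRingMore
open CategoryTheory Limits Pretriangulated HomologicalComplex Groth.Agent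
open scoped ZeroObject
open Groth.Agent.PseudoCoherentRing
open CategoryTheory CategoryTheory.Limits
attribute [local instance] HasDerivedCategory.standard
open DRing

namespace Groth.Agent.S6936

/-- Let R be a commutative ring, m an integer and K an object of D(R). If H^i(K) = 0 for every i > m +
1, H^(m+1)(K) is a finitely presented R-module and H^m(K) is a finitely generated R-module, then K
is m-pseudo-coherent. -/
theorem result (R : Type u) [CommRing R]
    (m : ℤ) (K : Dual.D R) (hvan : ∀ i : ℤ, m + 1 < i → Subsingleton (Dual.HD R K i))
    (hfp : Module.FinitePresentation R (Dual.HD R K (m + 1))) (hfin : Module.Finite R (Dual.HD R K m)) :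
    DRing.IsPseudoCoherent R m K := by
  let e := DerivedCategory.Q.objObjPreimageIso K
  let K₀ := DerivedCategory.Q.objPreimage K
  have hN : Vanish (m + 2) (DRing.toD K₀) := vanish_iff_subsingleton.2 fun i hi =>
    have := hvan i (by omega)
    (((HF R i).mapIso e).toLinearEquiv.toEquiv).subsingleton
  have hfp' : ∀ j, m < j → Module.FinitePresentation R ((HF R j).obj (DRing.toD K₀)) := fun j hj => by
    rcases eq_or_lt_of_le (show m + 1 ≤ j by omega) with rfl | hj'
    · exact Module.FinitePresentation.of_equiv ((HF R (m + 1)).mapIso e).toLinearEquiv.symm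
    · have : Subsingleton ((HF R j).obj (DRing.toD K₀)) :=
        ModuleCat.subsingleton_of_isZero (hN j (by omega))
      exact Module.finitePresentation_of_projective R _
  refine isPseudo_of_iso e (isPseudo_of_homology (N := m + 2) (by omega) hN (fun j hj => ?_) hfp' ?_)
  · rcases eq_or_lt_of_le hj with rfl | hj'
    · exact Module.Finite.equiv ((HF R m).mapIso e).toLinearEquiv.symm
    · have := hfp' j hj'; infer_instance
  · intro j hj E a b f hv hff hMI
    exact (homology_finite (m := j) (fun i hi => hv i (Or.inr hi))
      (fun i => ⟨(hff i).1, have := (hff i).2; inferInstance⟩)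
      (fun i hi => exactAt_of_mI hMI hi (hN i (by omega)))).1

end Groth.Agent.S6936
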