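import Groth.Statements.S6935
import Mathlib
import Groth.Prelude.Def_DRing2
import Groth.Prelude.Def_DDual2
import Groth.Agent.Lib.H5DTen
import Groth.Agent.Lib.H5Perf
import Groth.Agent.Lib.H5Amp
import Groth.Agent.Lib.H5WayOut
import Groth.Agent.Lib.CoherentRings
import Groth.Agent.Lib.UnivInjective
import Groth.Agent.Lib.PseudoCoherentRing
import Groth.Agent.Lib.H7StupidGE
import Groth.Agent.S2087
import Groth.Agent.Lib.PseudoCoherentRingMore
import Groth.Agent.S6936

set_option autoImplicit false
universe u
open Groth.Agent.PseudoCoherentRingMore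
open CategoryTheory Limits Pretriangulated HomologicalComplex Groth.Agent
open scoped ZeroObject
open Groth.Agent.PseudoCoherentRing
open CategoryTheory CategoryTheory.Limits
attribute [local instance] HasDerivedCategory.standard
open DRing

namespace Groth.Agent.S6935

/-- Let R be a commutative ring and M an R-module, viewed as the complex M[0] in D(R). Then M[0] is
0-pseudo-coherent exactly when M is finitely generated over R, and M[0] is (-1)-pseudo-coherent
exactly when M admits a finite presentation over R. -/
theorem result (R : Type u) [CommRing R]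
    (M : Type u) [AddCommGroup M] [Module R M] :
    (DRing.IsPseudoCoherentModule R 0 M ↔ Module.Finite R M) ∧
      (DRing.IsPseudoCoherentModule R (-1) M ↔ Module.FinitePresentation R M) := by
  obtain ⟨e⟩ := nonempty_H0_inD (R := R) M
  have hv : ∀ m : ℤ, 0 < m → Vanish m (Dual.inD R M) := fun m hm => vanish_single (ModuleCat.of R M) hm
  refine ⟨⟨fun h => ?_, fun h => ?_⟩, ⟨fun h => ?_, fun h => ?_⟩⟩
  · have := finite_top (m := 0) h (hv _ (by omega))
    exact Module.Finite.equiv e.toLinearEquiv
  · refine Groth.Agent.S6936.result R 0 _ (fun i hi => ModuleCat.subsingleton_of_isZero (hv 1 one_pos i (by omega))) ?_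
      (Module.Finite.equiv e.toLinearEquiv.symm)
    have : Subsingleton ((HF R (0 + 1)).obj (Dual.inD R M)) :=
      ModuleCat.subsingleton_of_isZero (hv 1 one_pos _ (by omega))
    exact Module.finitePresentation_of_projective R ((HF R (0 + 1)).obj (Dual.inD R M))
  · obtain ⟨E, a, b, α, hE, hE', hα⟩ := (isPseudo_iff (-1) (Dual.inD R M)).1 h
    have := (homology_finite (m := 0) (fun i hi => hE i (Or.inr hi))
      (fun i => ⟨(hE' i).1, have := (hE' i).2; inferInstance⟩)
      (fun i hi => exactAt_of_mI hα (by omega) (hv 1 one_pos i (by omega)))).2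
    have := hα.1 0 (by omega)
    exact Module.FinitePresentation.of_equiv ((asIso ((HF R 0).map α)) ≪≫ e).toLinearEquiv
  · refine Groth.Agent.S6936.result R (-1) _ (fun i hi => ModuleCat.subsingleton_of_isZero (hv 1 one_pos i (by omega)))
      (Module.FinitePresentation.of_equiv e.toLinearEquiv.symm) ?_
    have : Subsingleton ((HF R (-1)).obj (Dual.inD R M)) :=
      ModuleCat.subsingleton_of_isZero (vanish_inD_neg M (by omega))
    exact (inferInstance : Module.Finite R ((HF R (-1)).obj (Dual.inD R M)))

end Groth.Agent.S6935
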