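import Groth.Statements.S0584
import Mathlib
import Groth.Prelude.Def_Found
import Groth.Prelude.Def_CAlgX
import Groth.Agent.Lib.MittagLeffler
import Groth.Agent.Lib.UnivInjective
import Groth.Agent.Lib.KaplanskyProjective
import Groth.Agent.Lib.MittagLefflerProjective

set_option autoImplicit false
universe u
open TensorProduct Groth.Agent.MittagLeffler
open scoped Classical
open Groth.Agent.MittagLefflerProjective
open scoped Classical
open CAlg

namespace Groth.Agent.S0584

/-- Projectivity of a module is equivalent to the conjunction of three conditions — flatness, the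
Mittag-Leffler property, and being an internal direct sum of countably generated submodules. -/
theorem result (R : Type u) [CommRing R] (M : Type u)
    [AddCommGroup M] [Module R M] :
    Module.Projective R M ↔ (Module.Flat R M ∧ CAlg.IsMittagLeffler R M ∧
      ∃ (ι : Type u) (N : ι → Submodule R M), DirectSum.IsInternal N ∧
        ∀ i, CAlg.IsCountablyGenerated R (N i)) := by
  classical
  constructor
  · intro hM
    obtain ⟨s, hs⟩ := Module.projective_def'.mp hM
    let p : (M →₀ R) →ₗ[R] M := Finsupp.linearCombination R id
    have hps : p ∘ₗ s = LinearMap.id := hs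
    let one : M → Submodule R (M →₀ R) := fun x => LinearMap.range (Finsupp.lsingle x)
    have hfree : CAlg.IsMittagLeffler R (M →₀ R) := by
      have h1 : CAlg.IsMittagLeffler R R := ml_fp R
      have h2 : CAlg.IsMittagLeffler R (DirectSum M fun _ => R) := by
        refine of_zero fun κ Q _ _ z hz => ?_
        apply (TensorProduct.directSumLeft R R (fun _ : M => R) (∀ k, Q k)).injective
        rw [map_zero]
        refine DirectSum.ext_component R fun i => ?_
        have hc : ∀ z : DirectSum M (fun _ => R) ⊗[R] (∀ k, Q k),
            DirectSum.component R M (fun _ => R ⊗[R] (∀ k, Q k)) i (TensorProduct.directSumLeft R R (fun _ : M => R) (∀ k, Q k) z) =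
              (DirectSum.component R M (fun _ => R) i).rTensor _ z := by
          intro z
          induction z with
          | zero => simp
          | tmul a b =>
            induction a using DirectSum.induction_on with
            | zero => simp
            | of j x =>
              rw [← DirectSum.lof_eq_of R, TensorProduct.directSumLeft_tmul_lof, LinearMap.rTensor_tmul]
              rcases eq_or_ne j i with rfl | hji
              · rw [DirectSum.component.lof_self, DirectSum.component.lof_self]
              · rw [DirectSum.component.of, DirectSum.component.of, dif_neg hji, dif_neg hji, zero_tmul]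
            | add a c ha hc => simp only [add_tmul, map_add, ha, hc]
          | add a b ha hb => simp only [map_add, ha, hb]
        rw [hc, map_zero]
        exact zero_of h1 fun k => by rw [pr_nat, hz k, map_zero]
      exact ml_of_ui (finsuppLEquivDirectSum R R M).toLinearMap
        (ui_of_retraction _ (finsuppLEquivDirectSum R R M).symm.toLinearMap
          (LinearEquiv.symm_comp _)) h2
    refine ⟨inferInstance, ml_of_ui s (ui_of_retraction s p hps) hfree, ?_⟩
    have hone : DirectSum.IsInternal one := by
      refine (DirectSum.isInternal_submodule_iff_iSupIndep_and_iSup_eq_top one).mpr ⟨?_, ?_⟩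
      · intro x
        rw [disjoint_iff, eq_bot_iff]
        rintro y ⟨⟨c, rfl⟩, hy⟩
        have hle : (⨆ (z : M) (_ : z ≠ x), one z) ≤ LinearMap.ker (Finsupp.lapply x : (M →₀ R) →ₗ[R] R) := by
          refine iSup₂_le fun z hz => ?_
          rintro _ ⟨d, rfl⟩
          simp [Finsupp.single_eq_of_ne' hz]
        have := hle hy
        simp at this
        simp [this]
      · rw [eq_top_iff]
        intro y _
        rw [← Finsupp.sum_single y]
        exact Submodule.sum_mem _ fun x _ => le_iSup one x ⟨y x, rfl⟩
    obtain ⟨L, hL, hLc⟩ := Groth.Agent.Kap.exists_internal_countable one hone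
      (fun x => ⟨{⟨Finsupp.single x 1, ⟨1, rfl⟩⟩}, Set.countable_singleton _, by
        rw [eq_top_iff]
        rintro ⟨_, c, rfl⟩ -
        exact Submodule.mem_span_singleton.mpr ⟨c, Subtype.ext (by simp)⟩⟩)
      (LinearMap.range s) (s ∘ₗ p) (fun x => ⟨p x, rfl⟩) (by
        rintro _ ⟨y, rfl⟩
        show s (p (s y)) = s y
        rw [← LinearMap.comp_apply p s, hps, LinearMap.id_apply])
    have hsinj : Function.Injective s := fun a b h => by
      have := congrArg p h
      rwa [← LinearMap.comp_apply, ← LinearMap.comp_apply, hps] at this
    let e : LinearMap.range s ≃ₗ[R] M := (LinearEquiv.ofInjective s hsinj).symm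
    refine ⟨M, fun i => (L i).map e.toLinearMap, (DirectSum.isInternal_submodule_iff_iSupIndep_and_iSup_eq_top _).mpr ⟨?_, ?_⟩, fun i => ?_⟩
    · exact hL.submodule_iSupIndep.map_orderIso (f := Submodule.orderIsoMapComap e)
    · rw [← Submodule.map_iSup, hL.submodule_iSup_eq_top, Submodule.map_top, LinearEquiv.range]
    · obtain ⟨t, htc, htspan⟩ := hLc i
      let em : L i ≃ₗ[R] (L i).map e.toLinearMap := e.submoduleMap (L i)
      exact ⟨em '' t, htc.image _, by rw [← LinearEquiv.coe_coe, ← Submodule.map_span, htspan, Submodule.map_top, LinearEquiv.range]⟩
  · rintro ⟨hflat, hML, ι, N, hN, hc⟩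
    let e := LinearEquiv.ofBijective (DirectSum.coeLinearMap N) hN
    have hproj : ∀ i, Module.Projective R (N i) := by
      intro i
      let r : M →ₗ[R] N i := DirectSum.component R ι (fun i => N i) i ∘ₗ e.symm.toLinearMap
      have hr : r ∘ₗ (N i).subtype = LinearMap.id := LinearMap.ext fun x => by
        show DirectSum.component R ι (fun i => N i) i (e.symm (x : M)) = x
        rw [show e.symm (x : M) = DirectSum.lof R ι (fun i => N i) i x from e.symm_apply_eq.mpr
          (DirectSum.coeLinearMap_of N i x).symm, DirectSum.component.lof_self]
      haveI : Module.Flat R (N i) := Module.Flat.of_retract (N i).subtype r hr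
      exact projective_of_countable (ml_of_ui (N i).subtype (ui_of_retraction _ r hr) hML) (hc i)
    haveI := hproj
    exact Module.Projective.of_equiv e

end Groth.Agent.S0584
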