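import Groth.Statements.S0586
import Mathlib
import Groth.Prelude.Def_Found
import Groth.Prelude.Def_CAlgX
import Groth.Agent.Lib.MittagLeffler
import Groth.Agent.Lib.MittagLefflerBaseChange

set_option autoImplicit false
universe u
open TensorProduct Groth.Agent.MittagLeffler
open Groth.Agent.MittagLefflerBaseChange
open CAlg

namespace Groth.Agent.S0586

/-- Let `R → S` be faithfully flat and `M` an `R`-module. If `S ⊗ M` is a Mittag-Leffler `S`-module then
`M` is a Mittag-Leffler `R`-module. -/
theorem result (R : Type u) [CommRing R] (S : Type u)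
    [CommRing S] [Algebra R S] [Module.FaithfullyFlat R S] (M : Type u) [AddCommGroup M] [Module R M]
    (h : CAlg.IsMittagLeffler S (TensorProduct R S M)) : CAlg.IsMittagLeffler R M := by
  refine ml_of_dom_free fun n f => ?_
  haveI : Module.FinitePresentation S (S ⊗[R] (Fin n → R)) := Module.finitePresentation_of_projective S _
  obtain ⟨Q', _, _, _, g', h', hgh', hdom⟩ := exists_dom h (f.baseChange S)
  obtain ⟨Q, i1, i2, i3, g, hh, h'', hgh, hg''⟩ := descend_dom f g' h' hgh'
  refine ⟨Q, i1, i2, g, ml_fp Q, fun N _ _ => le_antisymm (fun x hx => ?_) ?_⟩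
  · let d := fun (P : Type u) (_ : AddCommGroup P) (_ : Module R P) =>
      AlgebraTensorModule.distribBaseChange R S P N
    have hnat : ∀ {A B : Type u} [AddCommGroup A] [Module R A] [AddCommGroup B] [Module R B] (φ : A →ₗ[R] B)
        (y : S ⊗[R] (A ⊗[R] N)), (φ.baseChange S).rTensor (S ⊗[R] N) (d A inferInstance inferInstance y) =
          d B inferInstance inferInstance ((φ.rTensor N).lTensor S y) := by
      intro A B _ _ _ _ φ y
      induction y with
      | zero => simp
      | tmul a b =>
        induction b with
        | zero => simp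
        | tmul c v => simp [d]
        | add u v hu hv => simp only [tmul_add, map_add, hu, hv]
      | add a b ha hb => simp only [map_add, ha, hb]
    let t := d (Fin n → R) inferInstance inferInstance ((1 : S) ⊗ₜ[R] x)
    have ht : t ∈ LinearMap.ker ((f.baseChange S).rTensor (S ⊗[R] N)) := by
      rw [LinearMap.mem_ker, hnat, LinearMap.lTensor_tmul, LinearMap.mem_ker.mp hx, tmul_zero, map_zero]
    rw [hdom, LinearMap.mem_ker] at ht
    have h2 : (g.baseChange S).rTensor (S ⊗[R] N) t = 0 := by
      rw [← hg'', LinearMap.rTensor_comp, LinearMap.comp_apply, ht, map_zero]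
    rw [hnat, LinearEquiv.map_eq_zero_iff, LinearMap.lTensor_tmul] at h2
    exact (Module.FaithfullyFlat.one_tmul_eq_zero_iff R _ _).mp h2
  · rw [← hgh, LinearMap.rTensor_comp]
    exact LinearMap.ker_le_ker_comp _ _

end Groth.Agent.S0586
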