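import Groth.Statements.S0585
import Mathlib
import Groth.Prelude.Def_Found
import Groth.Agent.Lib.MittagLeffler
import Groth.Agent.Lib.MittagLefflerProjective
import Groth.Agent.Lib.MittagLefflerBaseChange
import Groth.Agent.Lib.KaplanskyProjective
import Groth.Agent.S0584
import Groth.Agent.S0586
import Groth.Agent.Lib.ProjectiveDescent

set_option autoImplicit false
universe u
open TensorProduct
open scoped Classical
open Groth.Agent.ProjectiveDescent
open CAlg

namespace Groth.Agent.S0585

/-- Let `R → S` be faithfully flat and `M` an `R`-module. If `S ⊗ M` is a projective `S`-module then `M`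
is a projective `R`-module. -/
theorem result (R : Type u) [CommRing R] (S : Type u) [CommRing S]
    [Algebra R S] [Module.FaithfullyFlat R S] (M : Type u) [AddCommGroup M] [Module R M]
    [Module.Projective S (TensorProduct R S M)] : Module.Projective R M := by
  obtain ⟨-, -, ι, N, hN, hc⟩ := (Groth.Agent.S0584.result S (S ⊗[R] M)).mp inferInstance
  let good : Set (Set (Submodule R M)) :=
    {W | sSupIndep W ∧ (∀ C ∈ W, Module.Projective R C) ∧ ∃ J, im S (sSup W) = Groth.Agent.Kap.part N J}
  obtain ⟨W, hW⟩ := zorn_subset good fun c hcgood hchain => by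
    refine ⟨⋃₀ c, ⟨?_, ?_, ?_⟩, fun s hs => Set.subset_sUnion_of_mem hs⟩
    · rw [Set.sUnion_eq_iUnion]
      exact sSupIndep_iUnion_of_directed hchain.directed fun i => (hcgood i.2).1
    · rintro C ⟨s, hs, hC⟩
      exact (hcgood hs).2.1 C hC
    · choose J hJ using fun s : c => (hcgood s.2).2.2
      refine ⟨⋃ s, J s, le_antisymm ?_ ((Groth.Agent.Kap.part_le_iff N).mpr fun i hi => ?_)⟩
      · rw [im_le_iff]
        refine sSup_le ?_
        rintro C ⟨s, hs, hC⟩
        refine (le_sSup hC).trans (im_le_iff.mp ?_)
        rw [hJ ⟨s, hs⟩]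
        exact (Groth.Agent.Kap.part_le_iff N).mpr fun i hi => Groth.Agent.Kap.le_part N (Set.mem_iUnion.mpr ⟨_, hi⟩)
      · obtain ⟨s, hi⟩ := Set.mem_iUnion.mp hi
        refine (Groth.Agent.Kap.le_part N hi).trans ((hJ s).ge.trans ?_)
        rw [im_le_iff]
        exact (sSup_le_sSup (Set.subset_sUnion_of_mem s.2)).trans (im_le_iff.mp le_rfl)
  obtain ⟨⟨hind, hproj, J, hJ⟩, hmax⟩ := hW
  have htop : sSup W = ⊤ := by
    by_contra hne
    obtain ⟨x, -, hx⟩ := SetLike.exists_of_lt (lt_top_iff_ne_top.mpr hne)
    obtain ⟨C, J', hCproj, hdisj, hxC, hJ'⟩ := step N hN hc (sSup W) J hJ x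
    have hgood : insert C W ∈ good := by
      refine ⟨?_, ?_, J', by rw [sSup_insert, sup_comm]; exact hJ'⟩
      · intro a ha
        rcases ha with rfl | ha
        · refine hdisj.symm.mono_right (sSup_le_sSup ?_)
          rintro b ⟨hb, hba⟩
          exact hb.resolve_left hba
        · by_cases haC : a = C
          · subst haC
            refine hdisj.symm.mono_right (sSup_le_sSup ?_)
            rintro b ⟨hb, hba⟩
            exact hb.resolve_left hba
          have h1 : sSup (insert C W \ {a}) ≤ sSup (W \ {a}) ⊔ C := sSup_le fun b ⟨hb, hba⟩ =>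
            hb.elim (fun h => h ▸ le_sup_right) (fun h => (le_sSup (show b ∈ W \ {a} from ⟨h, hba⟩)).trans le_sup_left)
          refine Disjoint.mono_right h1 ?_
          refine Disjoint.disjoint_sup_right_of_disjoint_sup_left (hind ha) ?_
          exact hdisj.mono_left (sup_le (le_sSup ha) (sSup_le_sSup Set.diff_subset))
      · rintro D (rfl | hD)
        · exact hCproj
        · exact hproj D hD
    have hCW : C ∈ W := hmax hgood (Set.subset_insert C W) (Set.mem_insert C W)
    exact hx (sup_le le_rfl (le_sSup hCW) hxC)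
  have hint : DirectSum.IsInternal (fun C : W => (C : Submodule R M)) :=
    (DirectSum.isInternal_submodule_iff_iSupIndep_and_iSup_eq_top _).mpr
      ⟨(sSupIndep_iff W).mp hind, by rw [← sSup_eq_iSup']; exact htop⟩
  haveI : ∀ C : W, Module.Projective R (C : Submodule R M) := fun C => hproj C C.2
  exact Module.Projective.of_equiv (LinearEquiv.ofBijective (DirectSum.coeLinearMap (fun C : W => (C : Submodule R M))) hint)

end Groth.Agent.S0585
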