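import Groth.Statements.S6942
import Mathlib
import Groth.Prelude.Def_DRing2
import Groth.Prelude.Def_DDual2
import Groth.Agent.Lib.H5DTen
import Groth.Agent.Lib.H5Perf
import Groth.Agent.Lib.H5Amp
import Groth.Agent.Lib.H5WayOut
import Groth.Agent.Lib.CoherentRings
import Groth.Agent.Lib.UnivInjective
import Groth.Agent.Lib.PseudoCoherentRing
import Groth.Agent.Lib.H7StupidGE
import Groth.Agent.S2087
import Groth.Agent.Lib.PseudoCoherentRingMore
import Groth.Agent.S6935

set_option autoImplicit false
universe u
open Groth.Agent.PseudoCoherentRingMore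
open CategoryTheory Limits Pretriangulated HomologicalComplex Groth.Agent
open scoped ZeroObject
open Groth.Agent.PseudoCoherentRing
open CategoryTheory CategoryTheory.Limits
attribute [local instance] HasDerivedCategory.standard
open DRing

namespace Groth.Agent.S6942

/-- Let R be a Noetherian commutative ring and m an integer. An object K of D(R) is m-pseudo-coherent
exactly when H^i(K) = 0 for all large i and H^i(K) is a finitely generated R-module for each i ≥ m.
Every finitely generated R-module M is pseudo-coherent, and conversely. -/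
theorem result (R : Type u) [CommRing R]
    [IsNoetherianRing R] (m : ℤ) (K : Dual.D R) (M : Type u) [AddCommGroup M] [Module R M] :
    (DRing.IsPseudoCoherent R m K ↔
      (∃ b : ℤ, ∀ i : ℤ, b < i → Subsingleton (Dual.HD R K i)) ∧ ∀ i : ℤ, m ≤ i → Module.Finite R (Dual.HD R K i)) ∧
      (DRing.IsPseudoCoherentModule' R M ↔ Module.Finite R M) := by
  have hR : ∀ I : Ideal R, I.FG → Module.FinitePresentation R I := fun I hI =>
    have := Module.Finite.iff_fg.2 hI
    Module.finitePresentation_of_finite R I
  have key : ∀ (m : ℤ) (K : Dual.D R), DRing.IsPseudoCoherent R m K ↔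
      (∃ b : ℤ, ∀ i : ℤ, b < i → Subsingleton (Dual.HD R K i)) ∧ ∀ i : ℤ, m ≤ i → Module.Finite R (Dual.HD R K i) := by
    intro m K
    constructor
    · intro h
      obtain ⟨b, -, hb⟩ := exists_vanish h
      have hb' : ∃ b : ℤ, ∀ i : ℤ, b < i → Subsingleton ((HF R i).obj K) :=
        ⟨b, fun i hi => ModuleCat.subsingleton_of_isZero (hb i hi.le)⟩
      refine ⟨hb', fun i hi => ?_⟩
      exact ((coherent_iff hR K hb' i).1 (isPseudo_mono h hi)).1
    · rintro ⟨hb, h⟩
      exact (coherent_iff hR K hb m).2 ⟨h m le_rfl, fun i hi =>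
        have : Module.Finite R ((HF R i).obj K) := h i hi.le
        Module.finitePresentation_of_finite R ((HF R i).obj K)⟩
  refine ⟨key m K, fun h => (Groth.Agent.S6935.result R M).1.1 (isPseudo'_iff.1 h 0), fun h => isPseudo'_iff.2 fun m => ?_⟩
  obtain ⟨e⟩ := nonempty_H0_inD (R := R) M
  refine (key m (Dual.inD R M)).2 ⟨⟨0, fun i hi => ModuleCat.subsingleton_of_isZero
    (vanish_single (ModuleCat.of R M) (m := i) hi i le_rfl)⟩, fun i _ => ?_⟩
  rcases lt_trichotomy i 0 with hi | rfl | hi
  · have : Subsingleton (Dual.HD R (Dual.inD R M) i) := ModuleCat.subsingleton_of_isZero (vanish_inD_neg M hi)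
    infer_instance
  · exact Module.Finite.equiv e.toLinearEquiv.symm
  · have : Subsingleton (Dual.HD R (Dual.inD R M) i) :=
      ModuleCat.subsingleton_of_isZero (vanish_single (ModuleCat.of R M) (m := i) hi i le_rfl)
    infer_instance

end Groth.Agent.S6942
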