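import Groth.Statements.S19232
import Mathlib

set_option autoImplicit false
set_option backward.isDefEq.respectTransparency.types false
set_option maxHeartbeats 1000000
set_option linter.all false
universe u v
open SigmaLin

namespace Groth.Agent.S19232
open Groth.Agent

/-- Let k be a field with a ring endomorphism σ, and assume that for every n and every tuple (b_0, …,
b_n) of elements of k, not all zero, the equation x = Σ_{i=0}^{n} σ^{i+1}(x) σ^{i}(b_{n-i}) has a
nonzero solution x in k. Let V be a finite-dimensional k-vector space, T : V → V additive with T (c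
• v) = σ c • T v, and e ∈ V a vector no iterate of T sends to 0. Then the k-span of the orbit e, T
e, T² e, … contains a nonzero vector v with T v = v. -/
theorem result
    (k : Type u) [Field k] (σ : k →+* k)
    (V : Type v) [AddCommGroup V] [Module k V] [FiniteDimensional k V] (T : V →ₛₗ[σ] V)
    (h2 : ∀ (n : ℕ) (b : Fin (n + 1) → k), b ≠ 0 →
      ∃ x : k, x ≠ 0 ∧ x = ∑ i : Fin (n + 1), (⇑σ)^[i.val + 1] x * (⇑σ)^[i.val] (b (Fin.rev i)))
    (e : V) (he : ∀ m : ℕ, (⇑T)^[m] e ≠ 0) :
    ∃ v ∈ Submodule.span k (Set.range (fun m : ℕ => (⇑T)^[m] e)), v ≠ 0 ∧ T v = v := by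
  classical
  set E : ℕ → V := fun m => (⇑T)^[m] e with hE
  have hex : ∃ n, ¬ LinearIndependent k (fun i : Fin (n + 1) => E i) := by
    refine ⟨Module.finrank k V, fun h => ?_⟩
    have := h.fintype_card_le_finrank
    simp at this
  obtain ⟨n, hn⟩ : ∃ n, Nat.find hex = n + 1 := by
    rcases Nat.eq_zero_or_pos (Nat.find hex) with h | h
    · have := Nat.find_spec hex
      rw [h] at this
      exact absurd (LinearIndependent.of_subsingleton (0 : Fin 1) (he 0)) this
    · exact ⟨Nat.find hex - 1, by omega⟩
  have hind : LinearIndependent k (fun i : Fin (n + 1) => E i) := not_not.1 (Nat.find_min hex (by omega))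
  have hdep := Nat.find_spec hex
  rw [hn, linearIndependent_fin_succ'] at hdep
  have hmem : E (n + 1) ∈ Submodule.span k (Set.range fun i : Fin (n + 1) => E i) := by
    by_contra hc
    exact hdep ⟨by simpa [Fin.init] using! hind, by simpa [Fin.init] using! hc⟩
  obtain ⟨b, hb⟩ := (Submodule.mem_span_range_iff_exists_fun k).1 hmem
  have hb0 : b ≠ 0 := by
    rintro rfl
    simp at hb
    exact he (n + 1) hb.symm
  obtain ⟨x, hx0, hx⟩ := h2 n b hb0
  let β : ℕ → k := fun i => if h : i < n + 1 then b ⟨i, h⟩ else 0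
  let c : ℕ → k := fun i => ∑ j ∈ Finset.range (i + 1), (⇑σ)^[j + 1] x * (⇑σ)^[j] (β (i - j))
  have hc0 : c 0 = σ x * β 0 := by simp [c]
  have hcs : ∀ i, c (i + 1) = σ (c i) + σ x * β (i + 1) := by
    intro i
    simp only [c]
    rw [Finset.sum_range_succ' _ (i + 1), map_sum]
    congr 1
    refine Finset.sum_congr rfl fun j hj => ?_
    rw [map_mul, Function.iterate_succ_apply' (⇑σ) (j + 1), Function.iterate_succ_apply' (⇑σ) j, Nat.add_sub_add_right]
    simp [← Function.iterate_succ_apply']
  have hcn : c n = x := by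
    conv_rhs => rw [hx]
    simp only [c]
    rw [← Fin.sum_univ_eq_sum_range (fun j => (⇑σ)^[j + 1] x * (⇑σ)^[j] (β (n - j))) (n + 1)]
    refine Finset.sum_congr rfl fun j _ => ?_
    have hlt : n - (j : ℕ) < n + 1 := by omega
    simp only [β, dif_pos hlt]
    congr 3
    exact Fin.ext (by simp [Fin.val_rev])
  refine ⟨∑ i ∈ Finset.range (n + 1), c i • E i, Submodule.sum_mem _ fun i _ => Submodule.smul_mem _ _ (Submodule.subset_span ⟨i, rfl⟩), ?_, ?_⟩
  · intro h
    rw [← Fin.sum_univ_eq_sum_range (fun i => c i • E i)] at h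
    have := Fintype.linearIndependent_iff.1 hind _ h (Fin.last n)
    rw [Fin.val_last, hcn] at this
    exact hx0 this
  · have hT : ∀ i, T (E i) = E (i + 1) := fun i => (Function.iterate_succ_apply' (⇑T) i e).symm
    have hbs : E (n + 1) = ∑ i ∈ Finset.range (n + 1), β i • E i := by
      rw [← hb, ← Fin.sum_univ_eq_sum_range (fun i => β i • E i)]
      refine Finset.sum_congr rfl fun i _ => ?_
      simp only [β, dif_pos i.isLt]
    rw [map_sum]
    simp only [LinearMap.map_smulₛₗ, hT]
    rw [Finset.sum_range_succ, hbs, hcn, Finset.smul_sum, Finset.sum_range_succ' _ n, Finset.sum_range_succ' (fun i => c i • E i) n, hc0, ← add_assoc, ← Finset.sum_add_distrib]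
    simp only [smul_smul, hcs, add_smul]

end Groth.Agent.S19232
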