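import Groth.Statements.S9392
import Mathlib
import Groth.Prelude.Def_Found
import Groth.Agent.Lib.JapaneseBasic

set_option autoImplicit false
universe u
open Groth.Agent.JapaneseBasic
open CAlg

namespace Groth.Agent.S9392

/-- A localization of an N-2 (Japanese) domain which is again a domain is N-2. -/
theorem result (R : Type u) [CommRing R] [IsDomain R] (M : Submonoid R)
    (S : Type u) [CommRing S] [IsDomain S] [Algebra R S] [IsLocalization M S]
    (h : CAlg.IsN2 R) : CAlg.IsN2 S := by
  intro L _ _ _ _ hfin
  let K' := FractionRing S
  haveI : IsFractionRing R K' := fractionRing_restrict (S := S) M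
  let e := FractionRing.algEquiv R K'
  letI : Algebra R L := Algebra.compHom L (algebraMap R S)
  haveI : IsScalarTower R S L := IsScalarTower.of_algebraMap_eq' rfl
  letI : Algebra (FractionRing R) L := Algebra.compHom L (e.toRingEquiv : FractionRing R →+* K')
  haveI : IsScalarTower R (FractionRing R) L := IsScalarTower.of_algebraMap_eq' (RingHom.ext fun r => by
    show algebraMap S L (algebraMap R S r) = algebraMap K' L (e (algebraMap R _ r))
    rw [e.commutes, IsScalarTower.algebraMap_apply R S K', ← IsScalarTower.algebraMap_apply S K' L])
  haveI : FiniteDimensional (FractionRing R) L := by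
    obtain ⟨G, hG⟩ := hfin.fg_top
    refine ⟨⟨G, Submodule.eq_top_iff'.mpr fun x => ?_⟩⟩
    have hx : x ∈ Submodule.span K' (G : Set L) := hG ▸ Submodule.mem_top
    induction hx using Submodule.span_induction with
    | mem y hy => exact Submodule.subset_span hy
    | zero => exact zero_mem _
    | add y z _ _ hy hz => exact add_mem hy hz
    | smul c y _ hy =>
      have : c • y = e.symm c • y := by
        rw [Algebra.smul_def, Algebra.smul_def]
        show algebraMap K' L c * y = algebraMap K' L (e (e.symm c)) * y
        rw [e.apply_symm_apply]
      rw [this]
      exact Submodule.smul_mem _ _ hy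
  exact intcl_finite_localization M (h L inferInstance)

end Groth.Agent.S9392
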