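import Groth.Statements.S4562
import Mathlib
import Groth.Prelude.Def_Found
import Groth.Agent.Lib.JapanesePurelyInsep

set_option autoImplicit false
universe u
open Groth.Agent.JapanesePurelyInsep
open CAlg

namespace Groth.Agent.S4562

/-- Let A be a Noetherian domain with fraction field K. If the integral closure of A in every finite
purely inseparable extension of K is a finitely generated A-module, then A is Japanese (N-2). -/
theorem result (A : Type u) [CommRing A] [IsDomain A]
    [IsNoetherianRing A]
    (h : ∀ (K' : Type u) [Field K'] [Algebra A K'] [Algebra (FractionRing A) K']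
      [IsScalarTower A (FractionRing A) K'], FiniteDimensional (FractionRing A) K' →
      IsPurelyInseparable (FractionRing A) K' → Module.Finite A (integralClosure A K')) :
    CAlg.IsN2 A := by
  intro L _ _ _ _ hfin
  haveI := hfin
  let K := FractionRing A
  let Lbar := AlgebraicClosure L
  let M := IntermediateField.normalClosure K L Lbar
  haveI : Algebra.IsAlgebraic K Lbar := Algebra.IsAlgebraic.trans K L Lbar
  haveI : IsAlgClosed Lbar := inferInstance
  haveI : Normal K M := inferInstance
  haveI : FiniteDimensional K M := inferInstance
  let j : L →ₐ[K] M := (IntermediateField.inclusion (AlgHom.fieldRange_le_normalClosure (IsScalarTower.toAlgHom K L Lbar))).comp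
    (AlgEquiv.ofInjectiveField (IsScalarTower.toAlgHom K L Lbar)).toAlgHom
  let H : Subgroup (M ≃ₐ[K] M) := ⊤
  let F := IntermediateField.fixedField H
  haveI : IsPurelyInseparable K F := pi_fixed
  haveI : Algebra.IsSeparable F M := FixedPoints.isSeparable H M
  haveI : IsScalarTower A F M := IsScalarTower.of_algebraMap_eq' rfl
  haveI : Module.Finite A (integralClosure A M) := intcl_finite_tower K F M (h F inferInstance inferInstance)
  let g := (j.restrictScalars A).mapIntegralClosure
  exact Module.Finite.of_injective g.toLinearMap fun x y hxy => Subtype.ext (j.toRingHom.injective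
    (congrArg Subtype.val hxy))

end Groth.Agent.S4562
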