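import Groth.Statements.S0415
import Mathlib
import Groth.Prelude.Def_MoreMor
import Groth.Prelude.Def_Flat

set_option autoImplicit false
universe u
open FlatMor

namespace Groth.Agent.S0415
open AlgebraicGeometry CategoryTheory Limits
set_option backward.isDefEq.respectTransparency.types false

open AlgebraicGeometry CategoryTheory Limits in
/-- A morphism of schemes is a universal homeomorphism if and only if it is integral, universally
injective and surjective. -/
theorem result {X Y : Scheme.{u}} (f : X ⟶ Y) :
    FlatMor.IsUnivHomeo f ↔ IsIntegralHom f ∧ UniversallyInjective f ∧ Surjective f := by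
  constructor
  · intro h
    have h1 : UniversallyClosed f := ⟨MorphismProperty.universally_mono (fun A B g hg => hg.isClosedMap) _ h⟩
    have h2 : UniversallyInjective f := ⟨MorphismProperty.universally_mono (fun A B g hg => hg.injective) _ h⟩
    have h3 : IsHomeomorph f := h _ _ _ .of_id_snd
    have : IsAffineHom f := isAffineHom_of_isInducing f h3.isInducing (by
      rw [h3.surjective.range_eq]; exact isClosed_univ)
    exact ⟨IsIntegralHom.iff_universallyClosed_and_isAffineHom.2 ⟨h1, this⟩, h2, ⟨h3.surjective⟩⟩
  · rintro ⟨h1, h2, h3⟩ A B i j g hc
    have hs : Surjective g := MorphismProperty.of_isPullback hc.flip h3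
    have hu : UniversallyClosed f := inferInstance
    exact (isHomeomorph_iff_continuous_isClosedMap_bijective).2 ⟨g.continuous, hu.universally_isClosedMap _ _ _ hc,
      h2.universally_injective _ _ _ hc, hs.surj⟩

end Groth.Agent.S0415
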