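import Groth.Statements.S6960
import Mathlib
import Groth.Prelude.Def_DRing2
import Groth.Prelude.Def_DDual2
import Groth.Agent.Lib.H5DTen
import Groth.Agent.Lib.H5Perf
import Groth.Agent.Lib.H5Amp
import Groth.Agent.Lib.H5WayOut
import Groth.Agent.Lib.CoherentRings
import Groth.Agent.Lib.UnivInjective
import Groth.Agent.Lib.PseudoCoherentRing
import Groth.Agent.Lib.H7StupidGE
import Groth.Agent.S2087
import Groth.Agent.Lib.PseudoCoherentRingMore

set_option autoImplicit false
universe u
open Groth.Agent.PseudoCoherentRingMore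
open CategoryTheory Limits Pretriangulated HomologicalComplex Groth.Agent
open scoped ZeroObject
open Groth.Agent.PseudoCoherentRing
open CategoryTheory CategoryTheory.Limits
attribute [local instance] HasDerivedCategory.standard
open DRing

namespace Groth.Agent.S6960

/-- Let R be a commutative ring, f_1, ..., f_r elements generating the unit ideal and K a cochain
complex of R-modules. If for every i the termwise localization K ⊗_R R_(f_i) is a perfect object of
D(R_(f_i)), then K is a perfect object of D(R). -/
theorem result {R : Type u} [CommRing R] {r : ℕ} (f : Fin r → R)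
    (hf : Ideal.span (Set.range f) = ⊤) (K : DRing.Cx R)
    (hK : ∀ i, DRing.IsPerfect (Localization.Away (f i))
      (DRing.toD (((ModuleCat.extendScalars (algebraMap R (Localization.Away (f i)))).mapHomologicalComplex
        (ComplexShape.up ℤ)).obj K))) :
    DRing.IsPerfect R (DRing.toD K) := by
  let φ := fun i => algebraMap R (Localization.Away (f i))
  have hflat : ∀ i, (φ i).Flat := fun i =>
    RingHom.flat_algebraMap_iff.2 (IsLocalization.flat _ (Submonoid.powers (f i)))
  obtain ⟨E, c, hc, hE, ⟨e⟩⟩ : DRing.IsPseudoCoherent' R (DRing.toD K) :=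
    isPseudo'_iff.2 fun m => Groth.Agent.S2087.result f hf K m (fun i => isPseudo_of_isPerfect (hK i) m)
  obtain ⟨q, hq⟩ := exists_quasiIso_model hc hE e
  have := hq
  choose P ai bi hP1 hP2 hP3 using hK
  obtain ⟨a', ha'⟩ := Finite.exists_le (fun i => -ai i)
  obtain ⟨b', hb'⟩ := Finite.exists_le bi
  let a := -a'
  let b := max (max b' c) a
  have key : ∀ i, ∃ g : (extCx (φ i)).obj E ⟶ P i, QuasiIso g := fun i => by
    have hqi : IsIso (DerivedCategory.Q.map ((extCx (φ i)).map q)) := by
      rw [DerivedCategory.isIso_Q_map_iff_quasiIso]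
      refine ⟨fun j => ?_⟩
      rw [quasiIsoAt_iff_isIso_homologyMap]
      have h := mI_extCx (φ i) (hflat i) q (mI_of_isIso (j - 1) (DerivedCategory.Q.map q))
      exact (NatIso.isIso_map_iff (DerivedCategory.homologyFunctorFactors _ j) _).1 (h.1 j (by omega))
    exact exists_quasiIso_model (b := c) (fun j hj => (ModuleCat.extendScalars.{u, u, u} (φ i)).map_isZero (hc j hj))
      (fun j => have := (hE j).1; have := (hE j).2; extend_finite_free (φ i) (E.X j))
      (asIso (DerivedCategory.Q.map ((extCx (φ i)).map q)) ≪≫ (hP3 i).some.symm)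
  choose g hg using key
  have hlow : ∀ j, j < a → E.ExactAt j := fun j hj => by
    rw [exactAt_iff_isZero_homology]
    refine isZero_of_extendScalars f hf _ fun i => ?_
    have := hg i
    obtain ⟨ei⟩ := nonempty_homology_extCx (φ i) (hflat i) E j
    refine IsZero.of_iso ?_ ei.symm
    rw [← exactAt_iff_isZero_homology]
    exact (exactAt_iff_of_quasiIsoAt (g i) j).2
      (ShortComplex.exact_of_isZero_X₂ _ (hP1 i j (Or.inl (by have := ha' i; omega))))
  have hop : Module.Flat R (E.sc' (a - 1) a (a + 1)).opcycles := by
    refine flat_of_extendScalars f hf _ fun i => ?_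
    have := hg i
    have h := flat_opcycles (g i) (a := a) (b := b)
      (fun j => have := (hE j).2; extend_flat (φ i) (E.X j))
      (fun j => have := (hP2 i j).2; inferInstance)
      (fun j hj => (ModuleCat.extendScalars.{u, u, u} (φ i)).map_isZero (hc j (by omega)))
      (fun j hj => hP1 i j (by have := ha' i; have := hb' i; omega))
    have := ModuleCat.preservesFiniteLimits_extendScalars_of_flat.{u} (hflat i)
    have : PreservesColimitsOfSize.{0, 0} (ModuleCat.extendScalars.{u, u, u} (φ i)) :=
      (ModuleCat.extendRestrictScalarsAdj (φ i)).leftAdjoint_preservesColimits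
    exact @Module.Flat.of_linearEquiv _ _ _ _ _ _ _ _ h
      ((E.sc' (a - 1) a (a + 1)).mapOpcyclesIso (ModuleCat.extendScalars.{u, u, u} (φ i))).symm.toLinearEquiv
  obtain ⟨Q, hQ1, hQ2, ⟨eQ⟩⟩ := perfect_rep_of_flat_opcycles (le_max_right (max b' c) a)
    (fun j hj => hc j (by omega)) hE hlow hop
  exact ⟨Q, a, b, hQ1, hQ2, ⟨eQ ≪≫ e⟩⟩

end Groth.Agent.S6960
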