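import Groth.Statements.S9426
import Mathlib

set_option autoImplicit false
set_option linter.all false
universe u
open OmegaSh

namespace Groth.Agent.S9426

open TensorProduct in
theorem exists_thickening (R S : Type u) [CommRing R] [CommRing S] [Algebra R S] [Algebra.FormallyUnramified R S]
    (σ : Type u) (π : MvPolynomial σ R →ₐ[R] S) (hπ : Function.Surjective π) :
    ∃ (S' : Type u) (_ : CommRing S') (_ : Algebra R S') (π : S' →ₐ[R] S),
      OmegaSh.IsUnivThickeningRing R S S' π := by
  letI : Algebra (MvPolynomial σ R) S := π.toRingHom.toAlgebra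
  haveI : IsScalarTower R (MvPolynomial σ R) S := IsScalarTower.of_algebraMap_eq fun r => (π.commutes r).symm
  let P := MvPolynomial σ R
  let b := (KaehlerDifferential.mvPolynomialBasis R σ).baseChange S
  have hf : ∀ x : σ, ∃ f ∈ RingHom.ker (algebraMap P S), (1 : S) ⊗ₜ[P] KaehlerDifferential.D R P f = b x := fun x => by
    obtain ⟨c, hc⟩ := (KaehlerDifferential.exact_kerCotangentToTensor_mapBaseChange R P S hπ (b x)).1 (Subsingleton.elim _ _)
    obtain ⟨⟨f, hf⟩, rfl⟩ := Ideal.toCotangent_surjective _ c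
    exact ⟨f, hf, (KaehlerDifferential.kerCotangentToTensor_toCotangent R P S ⟨f, hf⟩).symm.trans hc⟩
  choose f hfk hf using hf
  let K : Ideal P := RingHom.ker (algebraMap P S) ^ 2 ⊔ Ideal.span (Set.range f)
  have hK : K ≤ RingHom.ker (algebraMap P S) := sup_le (Ideal.pow_le_self two_ne_zero) (Ideal.span_le.2 (by rintro _ ⟨x, rfl⟩; exact hfk x))
  refine ⟨P ⧸ K, inferInstance, inferInstance, Ideal.Quotient.liftₐ K π (fun x hx => hK hx), ?_, ?_, ?_⟩
  · intro s
    obtain ⟨p, rfl⟩ := hπ s
    exact ⟨Ideal.Quotient.mk K p, rfl⟩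
  · rw [sq, eq_bot_iff, Ideal.mul_le]
    intro x hx y hy
    obtain ⟨x, rfl⟩ := Ideal.Quotient.mk_surjective x
    obtain ⟨y, rfl⟩ := Ideal.Quotient.mk_surjective y
    rw [Submodule.mem_bot, ← map_mul, Ideal.Quotient.eq_zero_iff_mem]
    exact Ideal.mem_sup_left (by rw [sq]; exact Ideal.mul_mem_mul hx hy)
  intro A _ _ I hI a
  have hII : ∀ x ∈ I, ∀ y ∈ I, x * y = 0 := fun x hx y hy => by
    have : x * y ∈ I ^ 2 := by rw [sq]; exact Ideal.mul_mem_mul hx hy
    rw [hI] at this
    exact this
  -- lifts of the generators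
  choose l hl using fun x : σ => Ideal.Quotient.mk_surjective (I := I) (a (π (MvPolynomial.X x)))
  let φ₀ : P →ₐ[R] A := MvPolynomial.aeval l
  have hφ₀ : (Ideal.Quotient.mkₐ R I).comp φ₀ = a.comp π := MvPolynomial.algHom_ext fun x => by simp [φ₀, hl]
  have hφ₀' : ∀ p, Ideal.Quotient.mk I (φ₀ p) = a (π p) := fun p => congrArg (fun k => k p) hφ₀
  -- the kernel as a module over S
  letI : Module P I := Module.compHom I φ₀.toRingHom
  choose sec hsec using hπ
  have hwell : ∀ (p q : P) (m : I), π p = π q → φ₀ p * (m : A) = φ₀ q * (m : A) := fun p q m e => by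
    rw [← sub_eq_zero, ← sub_mul]
    exact hII _ (Ideal.Quotient.eq.1 (by rw [hφ₀', hφ₀', e])) _ m.2
  letI : SMul S I := ⟨fun s m => ⟨φ₀ (sec s) * (m : A), I.mul_mem_left _ m.2⟩⟩
  have hsmul : ∀ (p : P) (m : I), ((π p • m : I) : A) = φ₀ p * (m : A) := fun p m => hwell _ _ m (hsec _)
  letI : Module S I :=
    { one_smul := fun m => Subtype.ext (by rw [← map_one π, hsmul, map_one, one_mul])
      mul_smul := fun s t m => Subtype.ext (by rw [← hsec s, ← hsec t, ← map_mul, hsmul, hsmul, hsmul, map_mul, mul_assoc])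
      smul_zero := fun s => Subtype.ext (mul_zero _)
      smul_add := fun s m n => Subtype.ext (mul_add _ _ _)
      add_smul := fun s t m => Subtype.ext (by
        rw [← hsec s, ← hsec t, ← map_add, hsmul, Submodule.coe_add, hsmul, hsmul, map_add, add_mul])
      zero_smul := fun m => Subtype.ext (by rw [← map_zero π, hsmul, map_zero, zero_mul]; rfl) }
  haveI : IsScalarTower P S I := ⟨fun p s m => by
    apply Subtype.ext
    rw [Algebra.smul_def, ← hsec s]
    show ((π p * π (sec s)) • m : I).1 = φ₀ p * ((π (sec s) • m : I) : A)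
    rw [← map_mul, hsmul, hsmul, map_mul, mul_assoc]⟩
  haveI : IsScalarTower R P I := ⟨fun r p m => by
    apply Subtype.ext
    show φ₀ (r • p) * (m : A) = r • (φ₀ p * (m : A))
    rw [map_smul, smul_mul_assoc]⟩
  have hfI : ∀ x, φ₀ (f x) ∈ I := fun x => by
    rw [← Ideal.Quotient.eq_zero_iff_mem, hφ₀', show π (f x) = 0 from hfk x, map_zero]
  let L : S ⊗[P] Ω[P⁄R] →ₗ[S] I := b.constr S fun x => -(⟨φ₀ (f x), hfI x⟩ : I)
  let D : Derivation R P I :=
    (((L.restrictScalars P).comp (TensorProduct.mk P S Ω[P⁄R] 1)).compDer (KaehlerDifferential.D R P))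
  let φ : P →ₐ[R] A :=
    { toFun := fun p => φ₀ p + (D p : A)
      map_one' := by simp
      map_mul' := fun p q => by
        simp only [map_mul, D.leibniz, Submodule.coe_add]
        have h1 : ((p • D q : I) : A) = φ₀ p * (D q : A) := rfl
        have h2 : ((q • D p : I) : A) = φ₀ q * (D p : A) := rfl
        rw [h1, h2]
        linear_combination -(hII _ (D p).2 _ (D q).2)
      map_zero' := by simp
      map_add' := fun p q => by simp only [map_add, Submodule.coe_add]; ring
      commutes' := fun r => by simp }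
  have hφ : ∀ p, φ p = φ₀ p + (D p : A) := fun p => rfl
  have hφπ : ∀ p, Ideal.Quotient.mk I (φ p) = a (π p) := fun p => by
    rw [hφ, map_add, hφ₀', Ideal.Quotient.eq_zero_iff_mem.2 (D p).2, add_zero]
  have hDf : ∀ x, D (f x) = -(⟨φ₀ (f x), hfI x⟩ : I) := fun x => by
    show L ((1 : S) ⊗ₜ[P] KaehlerDifferential.D R P (f x)) = _
    rw [hf, Module.Basis.constr_basis]
  have hφK : ∀ p ∈ K, φ p = 0 := fun p hp => by
    refine (sup_le ?_ (Ideal.span_le.2 ?_) : K ≤ RingHom.ker φ.toRingHom) hp
    · rw [sq, Ideal.mul_le]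
      intro x hx y hy
      show φ (x * y) = 0
      rw [map_mul]
      refine hII _ ?_ _ ?_
      · rw [← Ideal.Quotient.eq_zero_iff_mem, hφπ, show π x = 0 from hx, map_zero]
      · rw [← Ideal.Quotient.eq_zero_iff_mem, hφπ, show π y = 0 from hy, map_zero]
    · rintro _ ⟨x, rfl⟩
      show φ (f x) = 0
      rw [hφ, hDf, Submodule.coe_neg]
      exact add_neg_cancel _
  refine ⟨Ideal.Quotient.liftₐ K φ hφK, Ideal.Quotient.algHom_ext _ (AlgHom.ext hφπ), fun g hg => ?_⟩
  apply Ideal.Quotient.algHom_ext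
  apply AlgHom.ext
  intro p
  show g (Ideal.Quotient.mk K p) = φ p
  -- the difference is a derivation killing every `f x`
  let ψ : P →ₐ[R] A := g.comp (Ideal.Quotient.mkₐ R K)
  have hψπ : ∀ q, Ideal.Quotient.mk I (ψ q) = a (π q) := fun q => congrArg (fun k => k (Ideal.Quotient.mk K q)) hg
  have hmem : ∀ q, ψ q - φ₀ q ∈ I := fun q => by
    rw [← Ideal.Quotient.eq_zero_iff_mem, map_sub, hψπ, hφ₀', sub_self]
  let D' : Derivation R P I := Derivation.mk'
    { toFun := fun q => (⟨ψ q - φ₀ q, hmem q⟩ : I)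
      map_add' := fun q r => Subtype.ext (by simp [add_sub_add_comm])
      map_smul' := fun c q => Subtype.ext (by simp [smul_sub]) }
    (fun q r => Subtype.ext (by
      show ψ (q * r) - φ₀ (q * r) = φ₀ q * (ψ r - φ₀ r) + φ₀ r * (ψ q - φ₀ q)
      simp only [map_mul]
      linear_combination hII _ (hmem q) _ (hmem r)))
  let L' : S ⊗[P] Ω[P⁄R] →ₗ[S] I := D'.liftKaehlerDifferential.liftBaseChange S
  have hL : L' = L := b.ext fun x => by
    rw [Module.Basis.constr_basis, ← hf x]
    show L' ((1 : S) ⊗ₜ[P] KaehlerDifferential.D R P (f x)) = _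
    rw [LinearMap.liftBaseChange_tmul, one_smul, Derivation.liftKaehlerDifferential_comp_D]
    refine Subtype.ext ?_
    show ψ (f x) - φ₀ (f x) = -φ₀ (f x)
    have hfK : f x ∈ K := Ideal.mem_sup_right (Ideal.subset_span (Set.mem_range_self x))
    rw [show ψ (f x) = g (Ideal.Quotient.mk K (f x)) from rfl, Ideal.Quotient.eq_zero_iff_mem.2 hfK, map_zero, zero_sub]
  have h1 : D' p = D p := by
    show D' p = L ((1 : S) ⊗ₜ[P] KaehlerDifferential.D R P p)
    rw [← hL, LinearMap.liftBaseChange_tmul, one_smul, Derivation.liftKaehlerDifferential_comp_D]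
  have h2 : ψ p - φ₀ p = (D p : A) := congrArg Subtype.val h1
  rw [hφ]
  exact (sub_eq_iff_eq_add'.1 h2)

/-- A formally unramified R-algebra S admits a universal first order thickening: an R-algebra surjection
S' → S with square-zero kernel through which every R-algebra map from S into a square-zero quotient
A/I lifts uniquely to A. -/
theorem result (R : Type u) [CommRing R]
    (S : Type u) [CommRing S] [Algebra R S] [Algebra.FormallyUnramified R S] :
    ∃ (S' : Type u) (_ : CommRing S') (_ : Algebra R S') (π : S' →ₐ[R] S),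
      OmegaSh.IsUnivThickeningRing R S S' π := by
  obtain ⟨π, hπ⟩ : ∃ π : MvPolynomial S R →ₐ[R] S, Function.Surjective π :=
    ⟨MvPolynomial.aeval id, fun s => ⟨MvPolynomial.X s, MvPolynomial.aeval_X _ _⟩⟩
  exact exists_thickening R S S π hπ

end Groth.Agent.S9426
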