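import Groth.Statements.S2925
import Groth.Agent.Lib.H6.Quot
import Groth.Agent.Lib.H6.UnivThick

set_option autoImplicit false
set_option backward.isDefEq.respectTransparency.types false
set_option linter.all false
open CategoryTheory CategoryTheory.Limits AlgebraicGeometry
universe u
open SGA1

namespace Groth.Agent.S2925

/-- Let a finite group G act on a scheme X and let p : X ⟶ Y be a quotient of X by G. Then every
G-invariant morphism X ⟶ Z factors uniquely through p. -/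
theorem result {X Y : Scheme.{u}} {G : Type u} [Group G] [Finite G] (ρ : G →* Aut X)
    (p : X ⟶ Y) (hp : SGA1.IsQuot ρ p) (Z : Scheme.{u}) (h : X ⟶ Z) (hh : ∀ g : G, (ρ g).hom ≫ h = h) :
    ∃! h' : Y ⟶ Z, p ≫ h' = h := by
  let ι := {V : Y.Opens // IsAffineOpen V ∧ ∃ W : Z.Opens, IsAffineOpen W ∧ p ⁻¹ᵁ V ≤ h ⁻¹ᵁ W}
  choose k hk using fun V : ι => H6.Quot.exists_desc_affine hp h hh V.2.1 V.2.2.choose_spec.1 V.2.2.choose_spec.2
  have hcov : ∀ y : Y, ∃ V : ι, y ∈ V.1 := fun y => by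
    obtain ⟨V, hV, hy, -, hW⟩ := H6.Quot.exists_nhd hp h hh y ⊤ trivial
    exact ⟨⟨V, hV, hW⟩, hy⟩
  obtain ⟨h', hh'⟩ := H6.UnivThick.exists_glue (fun V : ι => V.1) hcov (fun V V' => V.1 ≤ V'.1) (fun _ _ e => e)
    (fun V V' y hy hy' => by
      obtain ⟨U, hU, hyU, hle, hW⟩ := H6.Quot.exists_nhd hp h hh y (V.1 ⊓ V'.1) ⟨hy, hy'⟩
      exact ⟨⟨U, hU, hW⟩, fun z hz => (hle hz).1, fun z hz => (hle hz).2, hyU⟩)
    k (fun V V' e => by
      refine H6.Quot.restrict_hom_ext hp V.1 ?_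
      rw [hk]
      have : (p ∣_ V.1) ≫ Y.homOfLE e = X.homOfLE (Scheme.Hom.preimage_mono p e) ≫ (p ∣_ V'.1) := by
        simp [← cancel_mono V'.1.ι]
      rw [reassoc_of% this, hk, Scheme.homOfLE_ι_assoc])
  have hp' : p ≫ h' = h := by
    refine Scheme.hom_ext_of_forall _ _ fun x => ?_
    obtain ⟨V, hV⟩ := hcov (p x)
    exact ⟨p ⁻¹ᵁ V.1, hV, by rw [← morphismRestrict_ι_assoc, hh', hk]⟩
  exact ⟨h', hp', fun h'' e => H6.Quot.hom_ext hp (e.trans hp'.symm)⟩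

end Groth.Agent.S2925
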