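import Groth.Statements.S13785
import Mathlib
import Groth.Agent.Lib.H2Decay

set_option autoImplicit false
universe u
open CAlg

namespace Groth.Agent.S13785
open scoped TensorProduct
set_option linter.style.haveILetI false

/-- For any commutative ring A, the determinant of the generic n × n matrix is a nonzerodivisor of the
polynomial ring over A in the n² matrix entries. -/
theorem result (A : Type u) [CommRing A] (n : ℕ) :
    (Matrix.mvPolynomialX (Fin n) (Fin n) A).det ∈ nonZeroDivisors (MvPolynomial (Fin n × Fin n) A) := by
  rw [mem_nonZeroDivisors_iff_right]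
  intro f hf
  classical
  let ψ : MvPolynomial (Fin n × Fin n) A →ₐ[A] Polynomial (MvPolynomial (Fin n × Fin n) A) :=
    MvPolynomial.aeval fun ij => Polynomial.C (MvPolynomial.X ij) + if ij.1 = ij.2 then Polynomial.X else 0
  have hdet : ψ (Matrix.mvPolynomialX (Fin n) (Fin n) A).det = (-(Matrix.mvPolynomialX (Fin n) (Fin n) A)).charpoly := by
    rw [AlgHom.map_det, Matrix.charpoly]
    congr 1
    ext i j
    rcases eq_or_ne i j with h | h
    · subst h; simp [ψ, Matrix.mvPolynomialX_apply, Matrix.charmatrix_apply_eq, add_comm]
    · simp [ψ, h, Matrix.mvPolynomialX_apply, Matrix.charmatrix_apply_ne _ _ _ h]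
  have h1 : ψ f = 0 := by
    have h2 := congrArg ψ hf
    rw [map_mul, map_zero, hdet] at h2
    exact (Matrix.charpoly_monic _).mem_nonZeroDivisors.2 _ h2
  have h3 : ((Polynomial.aeval (0 : MvPolynomial (Fin n × Fin n) A)).restrictScalars A).comp ψ = AlgHom.id A _ := by
    refine MvPolynomial.algHom_ext fun ij => ?_
    simp only [ψ, AlgHom.comp_apply, MvPolynomial.aeval_X, AlgHom.id_apply, AlgHom.restrictScalars_apply, map_add]
    split_ifs <;> simp
  simpa [h1] using (AlgHom.congr_fun h3 f).symm

end Groth.Agent.S13785
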