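import Groth.Statements.S6485
import Mathlib


set_option autoImplicit false
universe u
open IntMult

namespace Groth.Agent.S6485

open Polynomial in
theorem irreducible_det (k : Type u) [Field k] (n : ℕ) (hn : 1 ≤ n) :
    Irreducible (Matrix.mvPolynomialX (Fin n) (Fin n) k).det := by
  classical
  let M := Matrix.mvPolynomialX (Fin n) (Fin n) k
  let scR : Fin n → (MvPolynomial (Fin n × Fin n) k) →+* Polynomial (MvPolynomial (Fin n × Fin n) k) := fun r => MvPolynomial.eval₂Hom
    (Polynomial.C.comp MvPolynomial.C) fun p => if p.1 = r then Polynomial.X * Polynomial.C (MvPolynomial.X p) else Polynomial.C (MvPolynomial.X p)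
  let scC : Fin n → (MvPolynomial (Fin n × Fin n) k) →+* Polynomial (MvPolynomial (Fin n × Fin n) k) := fun r => MvPolynomial.eval₂Hom
    (Polynomial.C.comp MvPolynomial.C) fun p => if p.2 = r then Polynomial.X * Polynomial.C (MvPolynomial.X p) else Polynomial.C (MvPolynomial.X p)
  let z : (Fin n × Fin n → Prop) → (MvPolynomial (Fin n × Fin n) k) →ₐ[k] (MvPolynomial (Fin n × Fin n) k) := fun P => MvPolynomial.aeval fun p =>
    if P p then 0 else MvPolynomial.X p
  have hMC : M.map Polynomial.C = Matrix.of fun i j => Polynomial.C (MvPolynomial.X (i, j) : (MvPolynomial (Fin n × Fin n) k)) := rfl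
  have hRdet : ∀ r, scR r M.det = Polynomial.X * Polynomial.C M.det := fun r => by
    rw [RingHom.map_det, RingHom.map_det (Polynomial.C), RingHom.mapMatrix_apply, RingHom.mapMatrix_apply]
    have : M.map (scR r) = (M.map Polynomial.C).updateRow r ((Polynomial.X : Polynomial (MvPolynomial (Fin n × Fin n) k)) • (M.map Polynomial.C) r) := by
      refine Matrix.ext fun i j => ?_
      by_cases h : i = r
      · subst h; simp [scR, M, Matrix.mvPolynomialX]
      · simp [scR, M, Matrix.mvPolynomialX, h]
    rw [this, Matrix.det_updateRow_smul, Matrix.updateRow_eq_self]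
  have hCdet : ∀ r, scC r M.det = Polynomial.X * Polynomial.C M.det := fun r => by
    rw [RingHom.map_det, RingHom.map_det (Polynomial.C), RingHom.mapMatrix_apply, RingHom.mapMatrix_apply]
    have : M.map (scC r) = (M.map Polynomial.C).updateCol r ((Polynomial.X : Polynomial (MvPolynomial (Fin n × Fin n) k)) • fun i => (M.map Polynomial.C) i r) := by
      refine Matrix.ext fun i j => ?_
      by_cases h : j = r
      · subst h; simp [scC, M, Matrix.mvPolynomialX]
      · simp [scC, M, Matrix.mvPolynomialX, h]
    rw [this, Matrix.det_updateCol_smul, Matrix.updateCol_eq_self]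
  have hdet0 : M.det ≠ 0 := Matrix.det_mvPolynomialX_ne_zero (Fin n) k
  -- evaluation at `T = 1` and `T = 0`
  have h1R : ∀ r g, (scR r g).eval 1 = g := fun r g => by
    have : (Polynomial.evalRingHom (1 : (MvPolynomial (Fin n × Fin n) k))).comp (scR r) = RingHom.id (MvPolynomial (Fin n × Fin n) k) := by
      refine MvPolynomial.ringHom_ext (fun a => by simp [scR]) fun p => ?_
      by_cases h : p.1 = r <;> simp [scR, h]
    exact RingHom.congr_fun this g
  have h1C : ∀ r g, (scC r g).eval 1 = g := fun r g => by
    have : (Polynomial.evalRingHom (1 : (MvPolynomial (Fin n × Fin n) k))).comp (scC r) = RingHom.id (MvPolynomial (Fin n × Fin n) k) := by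
      refine MvPolynomial.ringHom_ext (fun a => by simp [scC]) fun p => ?_
      by_cases h : p.2 = r <;> simp [scC, h]
    exact RingHom.congr_fun this g
  have h0R : ∀ r g, (scR r g).eval 0 = z (fun p => p.1 = r) g := fun r g => by
    have : (Polynomial.evalRingHom (0 : (MvPolynomial (Fin n × Fin n) k))).comp (scR r) = (z fun p => p.1 = r).toRingHom := by
      refine MvPolynomial.ringHom_ext (fun a => by simp [scR, z]) fun p => ?_
      by_cases h : p.1 = r <;> simp [scR, z, h]
    exact RingHom.congr_fun this g
  have h0C : ∀ r g, (scC r g).eval 0 = z (fun p => p.2 = r) g := fun r g => by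
    have : (Polynomial.evalRingHom (0 : (MvPolynomial (Fin n × Fin n) k))).comp (scC r) = (z fun p => p.2 = r).toRingHom := by
      refine MvPolynomial.ringHom_ext (fun a => by simp [scC, z]) fun p => ?_
      by_cases h : p.2 = r <;> simp [scC, z, h]
    exact RingHom.congr_fun this g
  have hsplitR : ∀ f g, M.det = f * g → ∀ r,
      z (fun p => p.1 = r) f = f ∨ z (fun p => p.1 = r) g = g := by
    intro f g hfg r
    have h := congrArg Polynomial.natDegree (hRdet r)
    rw [hfg, map_mul, natDegree_mul, natDegree_X_mul (by rwa [ne_eq, C_eq_zero, ← hfg]), natDegree_C] at h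
    · rcases Nat.eq_zero_or_pos (scR r f).natDegree with h' | h'
      · refine Or.inl ?_
        obtain ⟨c, hc⟩ := natDegree_eq_zero.mp h'
        rw [← h0R]
        conv_rhs => rw [← h1R r f]
        rw [← hc]; simp
      · refine Or.inr ?_
        obtain ⟨c, hc⟩ := natDegree_eq_zero.mp (show (scR r g).natDegree = 0 by omega)
        rw [← h0R]
        conv_rhs => rw [← h1R r g]
        rw [← hc]; simp
    all_goals
      intro h0
      refine hdet0 ?_
      have := congrArg (Polynomial.eval 1) h0
      rw [h1R, Polynomial.eval_zero] at this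
      simp [M, hfg, this]
  have hsplitC : ∀ f g, M.det = f * g → ∀ r,
      z (fun p => p.2 = r) f = f ∨ z (fun p => p.2 = r) g = g := by
    intro f g hfg r
    have h := congrArg Polynomial.natDegree (hCdet r)
    rw [hfg, map_mul, natDegree_mul, natDegree_X_mul (by rwa [ne_eq, C_eq_zero, ← hfg]), natDegree_C] at h
    · rcases Nat.eq_zero_or_pos (scC r f).natDegree with h' | h'
      · refine Or.inl ?_
        obtain ⟨c, hc⟩ := natDegree_eq_zero.mp h'
        rw [← h0C]
        conv_rhs => rw [← h1C r f]
        rw [← hc]; simp
      · refine Or.inr ?_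
        obtain ⟨c, hc⟩ := natDegree_eq_zero.mp (show (scC r g).natDegree = 0 by omega)
        rw [← h0C]
        conv_rhs => rw [← h1C r g]
        rw [← hc]; simp
    all_goals
      intro h0
      refine hdet0 ?_
      have := congrArg (Polynomial.eval 1) h0
      rw [h1C, Polynomial.eval_zero] at this
      simp [M, hfg, this]
  have hmix : ∀ f g, M.det = f * g → ∀ r c, z (fun p => p.1 = r) f = f →
      z (fun p => p.2 = c) g = g → False := by
    intro f g hfg r c hf hg
    have hzz : ∀ P : Fin n × Fin n → Prop, P (r, c) → ∀ x,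
        z (fun p => p = (r, c)) (z P x) = z P x := fun P hP x => by
      have : (z fun p => p = (r, c)).comp (z P) = z P := by
        refine MvPolynomial.algHom_ext fun p => ?_
        by_cases h : P p
        · simp [z, h]
        · simp [z, h, show p ≠ (r, c) from fun e => h (e ▸ hP)]
      exact AlgHom.congr_fun this x
    have hinv : z (fun p => p = (r, c)) M.det = M.det := by
      rw [hfg, map_mul, ← hf, hzz (fun p => p.1 = r) rfl, ← hg, hzz (fun p => p.2 = c) rfl, hf, hg]
    let σ := Equiv.swap r c
    let v : Fin n × Fin n → k := fun p => if p.2 = σ p.1 then 1 else 0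
    have h := congrArg (MvPolynomial.eval v) hinv
    have hval : MvPolynomial.eval v M.det = (σ.toPEquiv.toMatrix : Matrix (Fin n) (Fin n) k).det := by
      rw [RingHom.map_det, RingHom.mapMatrix_apply]
      congr 1
      ext i j
      simp [M, v, Matrix.mvPolynomialX, PEquiv.toMatrix_apply, eq_comm]
    rw [hval, Matrix.det_permutation] at h
    have h' : MvPolynomial.eval v (z (fun p => p = (r, c)) M.det) = 0 := by
      rw [AlgHom.map_det, AlgHom.mapMatrix_apply, RingHom.map_det, RingHom.mapMatrix_apply]
      refine Matrix.det_eq_zero_of_row_eq_zero r fun j => ?_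
      by_cases hj : j = c
      · simp [z, M, Matrix.mvPolynomialX, hj]
      · simp [z, v, σ, M, Matrix.mvPolynomialX, hj]
    rw [h'] at h
    rcases Int.units_eq_one_or (Equiv.Perm.sign σ) with hs | hs <;> simp [hs] at h
  have hconst : ∀ f, M.det = M.det → (∀ r, z (fun p => p.1 = r) f = f) →
      f = MvPolynomial.C (MvPolynomial.eval 0 f) := by
    intro f _ hf
    have : ∀ s : Finset (Fin n), z (fun p => p.1 ∈ s) f = f := by
      intro s
      induction s using Finset.induction with
      | empty =>
        simp [z]
      | insert a s _ ih =>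
        have : z (fun p => p.1 ∈ insert a s) = (z fun p => p.1 = a).comp (z fun p => p.1 ∈ s) := by
          refine MvPolynomial.algHom_ext fun p => ?_
          by_cases h1 : p.1 ∈ s <;> by_cases h2 : p.1 = a <;> simp_all [z]
        rw [this, AlgHom.comp_apply, ih, hf]
    have hu := this Finset.univ
    conv_lhs => rw [← hu]
    have : z (fun p => p.1 ∈ (Finset.univ : Finset (Fin n))) =
        (Algebra.ofId k (MvPolynomial (Fin n × Fin n) k)).comp (MvPolynomial.aeval 0) :=
      MvPolynomial.algHom_ext fun p => by simp [z]
    rw [this]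
    simp [MvPolynomial.aeval_def, MvPolynomial.eval₂_zero_apply, MvPolynomial.algebraMap_eq,
      MvPolynomial.eval_zero]
  refine ⟨fun hu => ?_, fun f g hfg => ?_⟩
  · have h := (hu.map (MvPolynomial.eval (0 : Fin n × Fin n → k)))
    rw [RingHom.map_det, RingHom.mapMatrix_apply, Matrix.det_eq_zero_of_row_eq_zero ⟨0, hn⟩
      fun j => by simp [Matrix.mvPolynomialX]] at h
    exact not_isUnit_zero h
  have hgf : M.det = g * f := by rw [show M.det = f * g from hfg, mul_comm]
  have unit_of : ∀ f g, M.det = f * g → (∀ r, z (fun p => p.1 = r) f = f) → IsUnit f := by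
    intro f g hfg hf
    rw [hconst f rfl hf]
    refine (isUnit_iff_ne_zero.mpr fun h0 => hdet0 ?_).map MvPolynomial.C
    rw [hfg, hconst f rfl hf, h0, map_zero, zero_mul]
  rcases hsplitC f g hfg ⟨0, hn⟩ with h | h
  · refine Or.inl (unit_of f g hfg fun r => ?_)
    exact (hsplitR f g hfg r).resolve_right fun h' => hmix g f hgf r _ h' h
  · refine Or.inr (unit_of g f hgf fun r => ?_)
    exact (hsplitR f g hfg r).resolve_left fun h' => hmix f g hfg r _ h' h

/-- Let k be a field and n ≥ 1. Then the determinant of the generic matrix (x_{ij})_{1 ≤ i, j ≤ n} is an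
irreducible element of the polynomial ring k[x_{ij}] (Mathlib's Matrix.mvPolynomialX is the generic
matrix over MvPolynomial (Fin n × Fin n) k). -/
theorem result (k : Type u) [Field k] (n : ℕ) (hn : 1 ≤ n) : Irreducible (Matrix.mvPolynomialX (Fin n) (Fin n) k).det := by
  exact irreducible_det k n hn

end Groth.Agent.S6485
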