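import Groth.Statements.S6938
import Mathlib
import Groth.Prelude.Def_DRing2
import Groth.Prelude.Def_DDual2
import Groth.Agent.Lib.H5DTen
import Groth.Agent.Lib.H5Perf
import Groth.Agent.Lib.H5Amp
import Groth.Agent.Lib.H5WayOut
import Groth.Agent.Lib.CoherentRings
import Groth.Agent.Lib.UnivInjective
import Groth.Agent.Lib.PseudoCoherentRing
import Groth.Agent.Lib.H7StupidGE
import Groth.Agent.S2087
import Groth.Agent.Lib.PseudoCoherentRingMore

set_option autoImplicit false
universe u
open Groth.Agent.PseudoCoherentRingMore
open CategoryTheory Limits Pretriangulated HomologicalComplex Groth.Agent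
open scoped ZeroObject
open Groth.Agent.PseudoCoherentRing
open CategoryTheory CategoryTheory.Limits
attribute [local instance] HasDerivedCategory.standard
open DRing

namespace Groth.Agent.S6938

/-- Let R be a commutative ring, m an integer and K a bounded above cochain complex of R-modules. If the
module K^i is (m - i)-pseudo-coherent for every i, then K is m-pseudo-coherent in D(R). If every K^i
is a pseudo-coherent module, then K is pseudo-coherent. -/
theorem result (R : Type u) [CommRing R] (m : ℤ)
    (K : DRing.Cx R) (b : ℤ) (hb : DRing.VanishesAbove K b) :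
    ((∀ i : ℤ, DRing.IsPseudoCoherentModule R (m - i) (K.X i)) → DRing.IsPseudoCoherent R m (DRing.toD K)) ∧
      ((∀ i : ℤ, DRing.IsPseudoCoherentModule' R (K.X i)) → DRing.IsPseudoCoherent' R (DRing.toD K)) := by
  have key : ∀ m : ℤ, (∀ i : ℤ, DRing.IsPseudoCoherentModule R (m - i) (K.X i)) →
      DRing.IsPseudoCoherent R m (DRing.toD K) := by
    intro m h
    refine isPseudo_of_mI (mI_trunc K m) (term_induction (DRing.IsPseudoCoherent R m) (fun e => isPseudo_of_iso e)
      (fun X hX => isPseudo_zero m hX) (fun T hT => isPseudo₂ T hT) ((b - m).toNat + 1) _ m b (by omega) (fun i hi => ?_) (fun i hi _ => ?_))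
    · by_cases h : m ≤ i
      · exact (hb i (by omega)).of_iso (eqToIso (H7StupidGE.X_eq h))
      · exact H7StupidGE.isZero_below (by omega)
    · exact isPseudo_of_iso ((shiftFunctor (Dual.D R) (-i)).mapIso
        ((DerivedCategory.singleFunctor (ModuleCat.{u} R) 0).mapIso (eqToIso (H7StupidGE.X_eq hi).symm)))
        (isPseudo_shift (h i) (-i) m (by omega))
  exact ⟨key m, fun h => isPseudo'_iff.2 fun m => key m fun i => isPseudo'_iff.1 (h i) (m - i)⟩

end Groth.Agent.S6938
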