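import Groth.Statements.S6939
import Mathlib
import Groth.Prelude.Def_DRing2
import Groth.Prelude.Def_DDual2
import Groth.Agent.Lib.H5DTen
import Groth.Agent.Lib.H5Perf
import Groth.Agent.Lib.H5Amp
import Groth.Agent.Lib.H5WayOut
import Groth.Agent.Lib.CoherentRings
import Groth.Agent.Lib.UnivInjective
import Groth.Agent.Lib.PseudoCoherentRing
import Groth.Agent.Lib.H7StupidGE
import Groth.Agent.S2087
import Groth.Agent.Lib.PseudoCoherentRingMore

set_option autoImplicit false
universe u
open Groth.Agent.PseudoCoherentRingMore
open CategoryTheory Limits Pretriangulated HomologicalComplex Groth.Agent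
open scoped ZeroObject
open Groth.Agent.PseudoCoherentRing
open CategoryTheory CategoryTheory.Limits
attribute [local instance] HasDerivedCategory.standard
open DRing

namespace Groth.Agent.S6939

/-- Let R be a commutative ring, m an integer and K an object of D(R) whose cohomology vanishes in large
degrees. If the module H^i(K) is (m - i)-pseudo-coherent for every i, then K is m-pseudo-coherent;
if every H^i(K) is a pseudo-coherent module, then K is pseudo-coherent. -/
theorem result (R : Type u) [CommRing R] (m : ℤ)
    (K : Dual.D R) (hb : ∃ b : ℤ, ∀ i : ℤ, b < i → Subsingleton (Dual.HD R K i)) :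
    ((∀ i : ℤ, DRing.IsPseudoCoherentModule R (m - i) (Dual.HD R K i)) → DRing.IsPseudoCoherent R m K) ∧
      ((∀ i : ℤ, DRing.IsPseudoCoherentModule' R (Dual.HD R K i)) → DRing.IsPseudoCoherent' R K) := by
  have key : ∀ m : ℤ, (∀ i : ℤ, DRing.IsPseudoCoherentModule R (m - i) (Dual.HD R K i)) →
      DRing.IsPseudoCoherent R m K := by
    intro m h
    obtain ⟨B, hmB, hB⟩ := vanish_of_bound hb m
    have hT := DerivedCategory.TStructure.t.triangleLTGE_distinguished m K
    refine isPseudo₂ _ hT (isPseudo_of_vanish fun i hi => ?_) ?_
    · have : DerivedCategory.IsLE ((DerivedCategory.TStructure.t.triangleLTGE m).obj K).obj₁ (m - 1) :=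
        inferInstance
      exact DerivedCategory.isZero_of_isLE _ (m - 1) i (by omega)
    · have : DerivedCategory.IsLE K B := (DerivedCategory.isLE_iff _ _).2 fun i hi => hB i hi.le
      have h1 : DerivedCategory.IsGE ((DerivedCategory.TStructure.t.truncGE m).obj K) m := inferInstance
      have h2 : DerivedCategory.IsLE ((DerivedCategory.TStructure.t.truncGE m).obj K) B := inferInstance
      exact cohom_induction (DRing.IsPseudoCoherent R m) (fun e => isPseudo_of_iso e)
        (fun X hX => isPseudo_zero m hX) (fun T hT => isPseudo₂ T hT) ((B - m).toNat + 1)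
        ((DerivedCategory.TStructure.t.truncGE m).obj K) m B (by omega) h1 h2 (fun i hi _ =>
          isPseudo_of_iso ((shiftFunctor (Dual.D R) (-i)).mapIso ((DerivedCategory.singleFunctor (ModuleCat.{u} R) 0).mapIso
            (H5WayOut.H_truncGE_iso K m i hi).some)) (isPseudo_shift (h i) (-i) m (by omega)))
  exact ⟨key m, fun h => isPseudo'_iff.2 fun m => key m fun i => isPseudo'_iff.1 (h i) (m - i)⟩

end Groth.Agent.S6939
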