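import Groth.Statements.S2978
import Mathlib

set_option autoImplicit false
universe u
open SGA3b

namespace Groth.Agent.S2978

/-- Let A be a Noetherian ring, M a set and a : M × M → A a family vanishing off the diagonal which is a
finite sum of decomposable families: a(m, m') = Σ_i b_i(m) c_i(m') for finitely many b_i, c_i : M →
A. Then a has finite support. -/
theorem result (A : Type u) [CommRing A] [IsNoetherianRing A] (M : Type u)
    (a : M × M → A) (hdiag : ∀ m m', m ≠ m' → a (m, m') = 0)
    (ι : Type u) [Fintype ι] (b c : ι → M → A) (hdec : ∀ m m', a (m, m') = ∑ i, b i m * c i m') :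
    Set.Finite {p : M × M | a p ≠ 0} := by
  classical
  let w : M → (M → A) := fun m => Pi.single m (a (m, m))
  have hrow : ∀ m, w m ∈ Submodule.span A (Set.range c) := by
    intro m
    have : w m = ∑ i, b i m • c i := by
      funext m'
      by_cases hm : m' = m
      · subst hm; simp [w, ← hdec]
      · rw [show w m m' = 0 by simp [w, hm]]
        simp [← hdec, hdiag m m' (Ne.symm hm)]
    rw [this]
    exact Submodule.sum_mem _ fun i _ => Submodule.smul_mem _ _ (Submodule.subset_span ⟨i, rfl⟩)
  haveI : Module.Finite A (Submodule.span A (Set.range c)) :=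
    Module.Finite.span_of_finite A (Set.finite_range c)
  obtain ⟨s, hs⟩ := (isNoetherian_of_isNoetherianRing_of_finite A (Submodule.span A (Set.range c))).noetherian
    (Submodule.span A (Set.range fun m => (⟨w m, hrow m⟩ : Submodule.span A (Set.range c))))
  have hmem : ∀ x ∈ s, ∃ F : Finset M, ∀ m, (x : M → A) m ≠ 0 → m ∈ F := by
    intro x hx
    have hx' : x ∈ Submodule.span A (Set.range fun m => (⟨w m, hrow m⟩ : Submodule.span A (Set.range c))) := by
      rw [← hs]; exact Submodule.subset_span hx
    clear hx
    induction hx' using Submodule.span_induction with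
    | mem y hy =>
      obtain ⟨m, rfl⟩ := hy
      exact ⟨{m}, fun m' hm' => by by_contra hne; simp at hne; simp [w, hne] at hm'⟩
    | zero => exact ⟨∅, by simp⟩
    | add y z _ _ hy hz =>
      obtain ⟨F, hF⟩ := hy
      obtain ⟨G, hG⟩ := hz
      refine ⟨F ∪ G, fun m hm => ?_⟩
      rw [Submodule.coe_add, Pi.add_apply] at hm
      by_cases h1 : (y : M → A) m = 0
      · rw [h1, zero_add] at hm; exact Finset.mem_union_right _ (hG m hm)
      · exact Finset.mem_union_left _ (hF m h1)
    | smul r y _ hy =>
      obtain ⟨F, hF⟩ := hy
      exact ⟨F, fun m hm => hF m fun h0 => hm (by simp [h0])⟩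
  choose F hF using hmem
  let F' : Finset M := s.attach.biUnion fun x => F x.1 x.2
  have hall : ∀ y ∈ Submodule.span A (s : Set (Submodule.span A (Set.range c))), ∀ m, (y : M → A) m ≠ 0 → m ∈ F' := by
    intro y hy
    induction hy using Submodule.span_induction with
    | mem z hz => exact fun m hm => Finset.mem_biUnion.mpr ⟨⟨z, hz⟩, Finset.mem_attach _ _, hF z hz m hm⟩
    | zero => simp
    | add y z _ _ hy hz =>
      intro m hm
      by_cases h1 : (y : M → A) m = 0
      · exact hz m (by simpa [h1] using hm)
      · exact hy m h1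
    | smul r y _ hy => exact fun m hm => hy m fun h0 => hm (by simp [h0])
  refine Set.Finite.subset (F'.image fun m => (m, m)).finite_toSet ?_
  rintro ⟨m, m'⟩ hp
  have hmm : m = m' := by by_contra h; exact hp (hdiag m m' h)
  subst hmm
  have hw : (⟨w m, hrow m⟩ : Submodule.span A (Set.range c)) ∈
      Submodule.span A (s : Set (Submodule.span A (Set.range c))) := by
    rw [hs]; exact Submodule.subset_span ⟨m, rfl⟩
  exact Finset.mem_image.mpr ⟨m, hall _ hw m (by simpa [w] using hp), rfl⟩

end Groth.Agent.S2978
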