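import Groth.Statements.S0534
import Mathlib
import Groth.Agent.Lib.H4HenselFinite


set_option autoImplicit false
universe u
open Hensel

namespace Groth.Agent.S0534

/-- If `R` is Henselian at `I`, every finitely generated projective `R/I`-module is the base change of a
finitely generated projective `R`-module. -/
theorem result (R : Type u) [CommRing R] (I : Ideal R)
    [HenselianRing R I] (Q : Type u) [AddCommGroup Q] [Module (R ⧸ I) Q] [Module.Finite (R ⧸ I) Q]
    [Module.Projective (R ⧸ I) Q] :
    ∃ (P : Type u) (_ : AddCommGroup P) (_ : Module R P), Module.Finite R P ∧ Module.Projective R P ∧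
      Nonempty (TensorProduct R (R ⧸ I) P ≃ₗ[R ⧸ I] Q) := by
  classical
  let : Module R Q := Module.compHom Q (Ideal.Quotient.mk I)
  have : IsScalarTower R (R ⧸ I) Q := ⟨fun r a x => by
    show (r • a) • x = Ideal.Quotient.mk I r • (a • x)
    rw [Algebra.smul_def, mul_smul]; rfl⟩
  obtain ⟨n, π, hπ⟩ := Module.Finite.exists_fin' (R ⧸ I) Q
  obtain ⟨ι, hι⟩ := π.exists_rightInverse_of_surjective (LinearMap.range_eq_top.mpr hπ)
  let M := Fin n → R
  let mkM : M →ₗ[R] (Fin n → R ⧸ I) := (Algebra.linearMap R (R ⧸ I)).compLeft (Fin n)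
  have hmk : ∀ x, mkM x = 0 → x ∈ I • (⊤ : Submodule R M) := fun x hx => by
    rw [pi_eq_sum_univ x]
    refine Submodule.sum_mem _ fun i _ => Submodule.smul_mem_smul ?_ trivial
    exact Ideal.Quotient.eq_zero_iff_mem.mp (congrFun hx i)
  have hmk' : ∀ x ∈ I • (⊤ : Submodule R M), mkM x = 0 := fun x hx => by
    refine Submodule.smul_induction_on hx (fun r hr y _ => funext fun i => ?_) ?_
    · exact Ideal.Quotient.eq_zero_iff_mem.mpr (I.mul_mem_right _ hr)
    · intro a b ha hb; rw [map_add, ha, hb, add_zero]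
  have hmksurj : Function.Surjective mkM := fun y => by
    choose r hr using fun i => Ideal.Quotient.mk_surjective (y i)
    exact ⟨r, funext hr⟩
  obtain ⟨b, hb⟩ := Module.projective_lifting_property mkM
    (((ι.comp π).restrictScalars R).comp mkM) hmksurj
  have hb' : ∀ x, mkM (b x) = ι (π (mkM x)) := fun x => LinearMap.congr_fun hb x
  have hπι : ∀ q, π (ι q) = q := fun q => LinearMap.congr_fun hι q
  obtain ⟨e, he, heb⟩ := H4HenselPair.exists_idempotent_end_lift I b fun x => hmk _ (by
    rw [map_sub, hb', hb', hπι, sub_self])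
  let P : Submodule R M := LinearMap.range e
  have : Module.Projective R P := Module.Projective.of_split P.subtype e.rangeRestrict (by
    refine LinearMap.ext fun ⟨y, z, hz⟩ => Subtype.ext ?_
    show e y = y
    rw [← hz, ← Module.End.mul_apply, he.eq])
  have : Module.Finite R P := Module.Finite.range e
  have hmke : ∀ x, mkM (e x) = ι (π (mkM x)) := fun x => by
    rw [← hb', ← sub_eq_zero, ← map_sub]; exact hmk' _ (heb x)
  let g : P →ₗ[R] Q := ((π.restrictScalars R).comp mkM).comp P.subtype
  refine ⟨P, inferInstance, inferInstance, inferInstance, inferInstance,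
    ⟨LinearEquiv.ofBijective (g.liftBaseChange (R ⧸ I)) ⟨?_, ?_⟩⟩⟩
  · rw [injective_iff_map_eq_zero]
    intro z hz
    have hrep : ∀ z : TensorProduct R (R ⧸ I) P, ∃ x : P, z = (1 : R ⧸ I) ⊗ₜ[R] x := by
      intro z
      induction z with
      | zero => exact ⟨0, by simp⟩
      | tmul k x =>
        obtain ⟨r, rfl⟩ := Ideal.Quotient.mk_surjective k
        exact ⟨r • x, by rw [← TensorProduct.smul_tmul, Algebra.smul_def, mul_one]; rfl⟩
      | add a b ha hb =>
        obtain ⟨x, rfl⟩ := ha
        obtain ⟨y, rfl⟩ := hb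
        exact ⟨x + y, by rw [TensorProduct.tmul_add]⟩
    obtain ⟨⟨x, x', rfl⟩, rfl⟩ := hrep z
    rw [LinearMap.liftBaseChange_tmul, one_smul] at hz
    have h0 : mkM (e x') = 0 := by
      have h1 : π (mkM (e x')) = 0 := hz
      have h2 := hmke (e x')
      rw [← Module.End.mul_apply, he.eq, h1, map_zero] at h2
      exact h2
    have h3 := Submodule.mem_map_of_mem (f := e.rangeRestrict) (hmk _ h0)
    rw [Submodule.map_smul''] at h3
    have h4 : (⟨e x', x', rfl⟩ : P) ∈ I • (⊤ : Submodule R P) := by
      refine Submodule.smul_mono le_rfl (le_top : (⊤ : Submodule R M).map e.rangeRestrict ≤ ⊤) ?_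
      convert h3 using 1
      apply Subtype.ext
      show e x' = e (e x')
      rw [← Module.End.mul_apply, he.eq]
    refine Submodule.smul_induction_on h4 (fun r hr y _ => ?_) ?_
    · rw [← TensorProduct.smul_tmul, Algebra.smul_def, mul_one, Ideal.Quotient.algebraMap_eq,
        Ideal.Quotient.eq_zero_iff_mem.mpr hr, TensorProduct.zero_tmul]
    · intro a b ha hb; rw [TensorProduct.tmul_add, ha, hb, add_zero]
  · intro q
    obtain ⟨x, hx⟩ := hmksurj (ι q)
    refine ⟨(1 : R ⧸ I) ⊗ₜ[R] (⟨e x, x, rfl⟩ : P), ?_⟩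
    rw [LinearMap.liftBaseChange_tmul, one_smul]
    show π (mkM (e x)) = q
    rw [hmke, hx, hπι, hπι]

end Groth.Agent.S0534
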