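import Groth.Statements.S0495
import Groth.Agent.Lib.H4Hensel


set_option autoImplicit false
universe u
open Hensel

namespace Groth.Agent.S0495

/-- A local ring whose Krull dimension is zero is henselian. -/
theorem result (R : Type u) [CommRing R] [IsLocalRing R]
    (h : ringKrullDim R = 0) : HenselianLocalRing R := by
  have : Ring.KrullDimLE 0 R := by
    rw [Ring.KrullDimLE, Order.krullDimLE_iff]
    exact_mod_cast h.le
  have hnil : ∀ x ∈ IsLocalRing.maximalIdeal R, IsNilpotent x := by
    intro x hx
    rw [← Ring.KrullDimLE.nilradical_eq_maximalIdeal R] at hx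
    exact hx
  have H := H4Hensel.of_locally_nilpotent _ hnil
  exact ⟨fun f hf a₀ h1 h2 => H.is_henselian f hf a₀ h1 (h2.map _)⟩

end Groth.Agent.S0495
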