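import Groth.Statements.S0505
import Mathlib
import Groth.Agent.S0526
import Groth.Agent.S11952
import Groth.Agent.S0495


set_option autoImplicit false
universe u
open Hensel

namespace Groth.Agent.S0505

/-- A local ring which is finitely generated as a module over a henselian local ring is itself
henselian. -/
theorem result (R : Type u) [CommRing R] [HenselianLocalRing R]
    (S : Type u) [CommRing S] [IsLocalRing S] [Algebra R S] [Module.Finite R S] :
    HenselianLocalRing S := by
  let J := (IsLocalRing.maximalIdeal R).map (algebraMap R S)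
  have : HenselianRing S J := S0526.result R (IsLocalRing.maximalIdeal R) S
  have hJ : J ≤ IsLocalRing.maximalIdeal S :=
    (HenselianRing.jac (R := S) (I := J)).trans (IsLocalRing.jacobson_eq_maximalIdeal ⊥ bot_ne_top).le
  have : Nontrivial (S ⧸ J) :=
    Ideal.Quotient.nontrivial_iff.mpr fun h => (IsLocalRing.maximalIdeal.isMaximal S).ne_top
      (top_le_iff.mp (h ▸ hJ))
  have : IsLocalRing (S ⧸ J) := IsLocalRing.of_surjective' _ Ideal.Quotient.mk_surjective
  have : Module.Finite (R ⧸ IsLocalRing.maximalIdeal R) (S ⧸ J) :=
    Module.Finite.of_restrictScalars_finite R _ _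
  have : IsArtinianRing (R ⧸ IsLocalRing.maximalIdeal R) := by
    let := Ideal.Quotient.field (IsLocalRing.maximalIdeal R)
    infer_instance
  have : IsArtinianRing (S ⧸ J) := IsArtinianRing.of_finite (R ⧸ IsLocalRing.maximalIdeal R) (S ⧸ J)
  have hd : ringKrullDim (S ⧸ J) = 0 := ringKrullDimZero_iff_ringKrullDim_eq_zero.mp inferInstance
  have : HenselianLocalRing (S ⧸ J) := S0495.result _ hd
  exact S11952.result S J

end Groth.Agent.S0505
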