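import Groth.Statements.S0518
import Mathlib


set_option autoImplicit false
universe u
open Hensel

namespace Groth.Agent.S0518

open Polynomial TensorProduct IsLocalRing in
theorem exists_lift_field (R : Type u) [CommRing R] [IsLocalRing R] (L : Type u) [Field L]
    [Algebra (ResidueField R) L] [FiniteDimensional (ResidueField R) L]
    [Algebra.IsSeparable (ResidueField R) L] :
    ∃ g : R[X], Module.Finite R (AdjoinRoot g) ∧ Algebra.Etale R (AdjoinRoot g) ∧
      Nonempty (ResidueField R ⊗[R] AdjoinRoot g ≃ₐ[ResidueField R] L) := by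
  let pb := Field.powerBasisOfFiniteOfSeparable (ResidueField R) L
  let p := minpoly (ResidueField R) pb.gen
  have hp : p.Monic := minpoly.monic (Algebra.IsIntegral.isIntegral _)
  obtain ⟨g, hg, -, hgm⟩ := Polynomial.lifts_and_degree_eq_and_monic
    (f := residue R) (p := p) (Polynomial.map_surjective _ residue_surjective p) hp
  have hfin : Module.Finite R (AdjoinRoot g) := hgm.finite_adjoinRoot
  have hco : IsCoprime g (derivative g) := by
    rw [← Ideal.isCoprime_span_singleton_iff, Ideal.isCoprime_iff_sup_eq, ← Ideal.span_insert]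
    set J : Ideal R[X] := Ideal.span {g, derivative g}
    let π : AdjoinRoot g →ₐ[R] R[X] ⧸ J :=
      Ideal.Quotient.liftₐ _ (Ideal.Quotient.mkₐ R J) fun a ha =>
        Ideal.Quotient.eq_zero_iff_mem.mpr
          (Ideal.span_mono (Set.singleton_subset_iff.mpr (Set.mem_insert _ _)) ha)
    have : Module.Finite R (R[X] ⧸ J) := Module.Finite.of_surjective π.toLinearMap fun y => by
      obtain ⟨q, rfl⟩ := Ideal.Quotient.mk_surjective y
      exact ⟨AdjoinRoot.mk g q, rfl⟩
    obtain ⟨a, b, hab⟩ : IsCoprime p (derivative p) :=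
      (Algebra.IsSeparable.isSeparable (ResidueField R) pb.gen)
    obtain ⟨a', rfl⟩ := Polynomial.map_surjective (residue R) residue_surjective a
    obtain ⟨b', rfl⟩ := Polynomial.map_surjective (residue R) residue_surjective b
    have h1 : ∀ n, (a' * g + b' * derivative g - 1).coeff n ∈ maximalIdeal R := fun n => by
      rw [← residue_eq_zero_iff, ← coeff_map]
      simp [hg, ← derivative_map, hab]
    have h2 : (Ideal.Quotient.mk J (a' * g + b' * derivative g - 1)) ∈
        maximalIdeal R • (⊤ : Submodule R (R[X] ⧸ J)) := by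
      rw [(a' * g + b' * derivative g - 1).as_sum_support_C_mul_X_pow, map_sum]
      refine Submodule.sum_mem _ fun n _ => ?_
      rw [← smul_eq_C_mul, ← Ideal.Quotient.mkₐ_eq_mk R, map_smul]
      exact Submodule.smul_mem_smul (h1 n) trivial
    rw [map_sub, map_one, Ideal.Quotient.eq_zero_iff_mem.mpr (Ideal.add_mem _
      (J.mul_mem_left _ (Ideal.subset_span (Set.mem_insert _ _)))
      (J.mul_mem_left _ (Ideal.subset_span (Set.mem_insert_of_mem _ rfl)))), zero_sub] at h2
    have hbot : (⊤ : Submodule R (R[X] ⧸ J)) = ⊥ := by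
      refine Submodule.eq_bot_of_le_smul_of_le_jacobson_bot (maximalIdeal R) ⊤
        Module.Finite.fg_top ?_ (maximalIdeal_le_jacobson _)
      intro x _
      obtain ⟨q, rfl⟩ := Ideal.Quotient.mk_surjective x
      have h3 : ∀ y ∈ maximalIdeal R • (⊤ : Submodule R (R[X] ⧸ J)),
          Ideal.Quotient.mk J q * y ∈ maximalIdeal R • (⊤ : Submodule R (R[X] ⧸ J)) := by
        intro y hy
        refine Submodule.smul_induction_on hy (fun r hr z _ => ?_) fun z w hz hw => ?_
        · rw [mul_smul_comm]; exact Submodule.smul_mem_smul hr trivial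
        · rw [mul_add]; exact add_mem hz hw
      simpa using h3 _ (Submodule.neg_mem _ h2)
    have h4 : (Ideal.Quotient.mk J 1) = 0 :=
      (Submodule.mem_bot R).mp (hbot ▸ Submodule.mem_top)
    rw [Ideal.eq_top_iff_one]
    exact Ideal.Quotient.eq_zero_iff_mem.mp h4
  obtain ⟨a, b, hab⟩ := hco
  let P : StandardEtalePair R :=
    ⟨g, hgm, 1, b, a, 0, by rw [pow_zero, ← hab]; ring⟩
  have hP : IsUnit (AdjoinRoot.mk P.f P.g) := by simp [P]
  let e : P.Ring ≃ₐ[R] AdjoinRoot g :=
    P.equivAwayAdjoinRoot.trans ((IsLocalization.atUnits (AdjoinRoot P.f)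
      (Submonoid.powers (AdjoinRoot.mk P.f P.g)) (S := Localization.Away (AdjoinRoot.mk P.f P.g))
      (Submonoid.powers_le.mpr hP)).restrictScalars R).symm
  refine ⟨g, hfin, Algebra.Etale.of_equiv e, ⟨?_⟩⟩
  refine (AdjoinRoot.tensorAlgEquiv (R := R) (T := ResidueField R) g _ rfl).trans ?_
  refine (AdjoinRoot.mapAlgEquiv (Algebra.TensorProduct.rid R (ResidueField R) (ResidueField R)) _ p
    ?_).trans (AdjoinRoot.equiv' p pb ?_ (minpoly.aeval _ _))
  · rw [Polynomial.map_map, ← hg]
    refine Associated.of_eq (congrArg (Polynomial.map · g) (RingHom.ext fun r => ?_))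
    simp [Algebra.algebraMap_eq_smul_one]; exact (Algebra.algebraMap_eq_smul_one r).symm
  · exact AdjoinRoot.aeval_eq p ▸ AdjoinRoot.mk_self

/-- Over a henselian local ring `R` with residue field `κ`, every finite étale `κ`-algebra is the base
change of some finite étale `R`-algebra. -/
theorem result (R : Type u) [CommRing R]
    [HenselianLocalRing R] (A : Type u) [CommRing A] [Algebra (IsLocalRing.ResidueField R) A]
    [Module.Finite (IsLocalRing.ResidueField R) A] [Algebra.Etale (IsLocalRing.ResidueField R) A] :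
    ∃ (S : Type u) (_ : CommRing S) (_ : Algebra R S), Module.Finite R S ∧ Algebra.Etale R S ∧
      Nonempty (TensorProduct R (IsLocalRing.ResidueField R) S ≃ₐ[IsLocalRing.ResidueField R] A) := by
  classical
  obtain ⟨ι, _, L, _, _, e, hL⟩ :=
    (Algebra.FormallyEtale.iff_exists_algEquiv_prod (IsLocalRing.ResidueField R) A).mp inferInstance
  have : ∀ i, Module.Finite (IsLocalRing.ResidueField R) (L i) := fun i =>
    Module.Finite.of_surjective (LinearMap.proj i ∘ₗ e.toLinearMap)
      ((Function.surjective_eval i).comp e.surjective)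
  have := Fintype.ofFinite ι
  choose g hg hge he using fun i => exists_lift_field R (L i)
  refine ⟨∀ i, AdjoinRoot (g i), inferInstance, inferInstance, inferInstance,
    ⟨(Algebra.FormallyEtale.pi_iff _).mpr fun i => inferInstance, ?_⟩, ⟨?_⟩⟩
  · exact Algebra.FinitePresentation.pi (R := R) (fun i => AdjoinRoot (g i))
  · exact ((Algebra.TensorProduct.piRight R (IsLocalRing.ResidueField R) (IsLocalRing.ResidueField R)
      fun i => AdjoinRoot (g i)).trans (AlgEquiv.piCongrRight fun i => (he i).some)).trans e.symm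

end Groth.Agent.S0518
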