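import Groth.Statements.S1488
import Mathlib
import Groth.Agent.Lib.H8SmoothLift

set_option autoImplicit false
universe u
open FlatMor

namespace Groth.Agent.S1488

open AlgebraicGeometry CategoryTheory Limits in
lemma formallySmooth_appLE {X S : Scheme.{u}} (f : X ⟶ S) (hf : MoreMor.IsFormallySmoothHom f)
    {V : S.Opens} (hV : IsAffineOpen V) {U : X.Opens} (hU : IsAffineOpen U) (e : U ≤ f ⁻¹ᵁ V) :
    (f.appLE V U e).hom.FormallySmooth := by
  letI : Algebra Γ(S, V) Γ(X, U) := (f.appLE V U e).hom.toAlgebra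
  show Algebra.FormallySmooth Γ(S, V) Γ(X, U)
  refine Algebra.FormallySmooth.of_comp_surjective fun C _ _ I hI φ => ?_
  let b : Spec (CommRingCat.of C) ⟶ S := Spec.map (CommRingCat.ofHom (algebraMap Γ(S, V) C)) ≫ hV.fromSpec
  let a : Spec (CommRingCat.of (C ⧸ I)) ⟶ X := Spec.map (CommRingCat.ofHom φ.toRingHom) ≫ hU.fromSpec
  obtain ⟨l, hl1, hl2⟩ := hf C I hI a b (by
    simp only [a, b, Category.assoc]
    rw [← IsAffineOpen.SpecMap_appLE_fromSpec f hV hU e, ← Spec.map_comp_assoc, ← Spec.map_comp_assoc]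
    congr 2
    exact CommRingCat.hom_ext (RingHom.ext fun r => (φ.commutes r).symm))
  have hs : Function.Surjective (Spec.map (CommRingCat.ofHom (Ideal.Quotient.mk I))) := fun z => by
    refine (range_comap_of_surjective _ _ Ideal.Quotient.mk_surjective).ge ?_
    rw [Ideal.mk_ker]
    intro r hr
    refine z.isPrime.mem_of_pow_mem 2 ?_
    have := Ideal.pow_mem_pow hr 2
    rw [hI, Ideal.mem_bot] at this
    rw [this]
    exact zero_mem _
  have hr : Set.range l ⊆ Set.range hU.fromSpec := by
    rintro _ ⟨z, rfl⟩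
    obtain ⟨z, rfl⟩ := hs z
    rw [← Scheme.Hom.comp_apply, hl1]
    exact ⟨_, rfl⟩
  obtain ⟨ψ, hψ⟩ : ∃ ψ : Γ(X, U) ⟶ CommRingCat.of C, Spec.map ψ = IsOpenImmersion.lift hU.fromSpec l hr :=
    ⟨_, Spec.map_preimage _⟩
  have hψl : Spec.map ψ ≫ hU.fromSpec = l := by rw [hψ, IsOpenImmersion.lift_fac]
  have h1 : f.appLE V U e ≫ ψ = CommRingCat.ofHom (algebraMap Γ(S, V) C) := by
    apply Spec.map_injective
    rw [← cancel_mono hV.fromSpec, Spec.map_comp, Category.assoc, IsAffineOpen.SpecMap_appLE_fromSpec f hV hU e,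
      ← Category.assoc, hψl, hl2]
  have h2 : ψ ≫ CommRingCat.ofHom (Ideal.Quotient.mk I) = CommRingCat.ofHom φ.toRingHom := by
    apply Spec.map_injective
    rw [← cancel_mono hU.fromSpec, Spec.map_comp, Category.assoc, hψl, hl1]
  exact ⟨{ ψ.hom with commutes' := fun r => congrArg (fun F : Γ(S, V) ⟶ CommRingCat.of C => F.hom r) h1 },
    AlgHom.ext fun x => congrArg (fun F : Γ(X, U) ⟶ CommRingCat.of (C ⧸ I) => F.hom x) h2⟩

open AlgebraicGeometry CategoryTheory Limits in
/-- A morphism f : X → S is smooth if and only if it is locally of finite presentation and formally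
smooth, i.e. has the lifting property against first order thickenings of affine schemes (rings in
the same universe). -/
theorem result {X S : Scheme.{u}} (f : X ⟶ S) :
    Smooth f ↔ LocallyOfFinitePresentation f ∧ MoreMor.IsFormallySmoothHom f := by
  constructor
  · intro h
    exact ⟨inferInstance, H8SmoothLift.formallySmooth_of_smooth f⟩
  · rintro ⟨h, hf⟩
    refine ⟨fun {V} hV {U} hU e => ?_⟩
    algebraize [(f.appLE V U e).hom]
    haveI : Algebra.FormallySmooth Γ(S, V) Γ(X, U) := formallySmooth_appLE f hf hV hU e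
    haveI : Algebra.FinitePresentation Γ(S, V) Γ(X, U) := f.finitePresentation_appLE hV hU e
    show Algebra.Smooth Γ(S, V) Γ(X, U)
    exact ⟨inferInstance, inferInstance⟩

end Groth.Agent.S1488
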