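import Groth.Statements.S9612
import Mathlib

set_option autoImplicit false
universe u
open CAlg

namespace Groth.Agent.S9612
open AlgebraicGeometry CategoryTheory Limits TensorProduct
set_option backward.isDefEq.respectTransparency.types false
set_option linter.style.haveILetI false

/-- A finite type ℤ-algebra is a Jacobson ring. -/
theorem result {S : Type u} [CommRing S] [Algebra.FiniteType ℤ S] :
    IsJacobsonRing S := by
  haveI : IsJacobsonRing ℤ := by
    rw [isJacobsonRing_iff_sInf_maximal]
    intro P hP
    by_cases h : P = ⊥
    · subst h
      refine ⟨{M | M.IsMaximal}, fun J hJ => Or.inl hJ, ?_⟩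
      symm
      rw [eq_bot_iff]
      intro n hn
      simp only [Submodule.mem_sInf, Set.mem_setOf_eq] at hn
      obtain ⟨q, hq, hqp⟩ := Nat.exists_infinite_primes (n.natAbs + 1)
      haveI := Fact.mk hqp
      have := hn (Ideal.span {(q : ℤ)}) (Int.ideal_span_isMaximal_of_prime q)
      rw [Ideal.mem_span_singleton] at this
      by_contra hne
      have h0 : n ≠ 0 := by simpa using hne
      have := Int.natAbs_dvd_natAbs.2 this
      simp at this
      have := Nat.le_of_dvd (by omega) this
      omega
    · refine ⟨{P}, fun J hJ => Or.inl (hJ ▸ hP.isMaximal h), by simp⟩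
  exact isJacobsonRing_of_finiteType (A := ℤ)

end Groth.Agent.S9612
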