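import Groth.Statements.S10519
import Groth.Agent.Lib.AlgSpTop

set_option autoImplicit false
universe u
open CategoryTheory CategoryTheory.Limits AlgebraicGeometry
open AlgSp

namespace Groth.Agent.S10519

/-- The property of morphisms of algebraic spaces over S given by f is quasi-compact is fpqc local on
the base: for an fpqc covering of an algebraic space Y by algebraic spaces Y_i, a morphism f : X ⟶ Y
of algebraic spaces and cartesian squares X_i = Y_i ×_Y X, f has the property if and only if every
X_i ⟶ Y_i has it. -/
theorem result (S : Scheme.{u}) :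
    AlgSp.IsLocalOnBase (AlgSp.IsFpqcCover (S := S)) AlgSp.IsQuasiCompactMor := by
  intro ι Y Yi g hY _ hτ X f hX Xi p q _ sq
  exact ⟨fun h i => Groth.Agent.ASp.isQuasiCompactMor_baseChange (sq i) h,
    fun h => Groth.Agent.ASp.isQuasiCompactMor_of_refines hX hY hτ.2 sq h⟩

end Groth.Agent.S10519
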