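import Groth.Statements.S0300
import Groth.Prelude.Def_Wider
import Groth.Agent.Lib.InjHullBasic
import Mathlib

set_option autoImplicit false
universe u v
open InjHull

namespace Groth.Agent.S0300

/-- Over a Noetherian ring, injectivity of modules is preserved under arbitrary direct sums. -/
theorem result (R : Type u) [CommRing R] [IsNoetherianRing R] {ι : Type u} (E : ι → Type u) [∀ i, AddCommGroup (E i)] [∀ i, Module R (E i)] (hE : ∀ i, Module.Injective R (E i)) : Module.Injective R (DirectSum ι E) := by
  classical
  refine Module.Baer.injective ?_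
  intro J g
  choose h hh using fun i => Module.Baer.of_injective (hE i) J ((DirectSum.component R ι E i) ∘ₗ g)
  obtain ⟨s, hs⟩ := (isNoetherian_def.mp inferInstance J : J.FG)
  let t : Finset ι := (Finset.univ : Finset s).biUnion (fun j => DFinsupp.support (g ⟨j, hs ▸ Submodule.subset_span j.2⟩))
  have hsupp : ∀ a : J, ∀ i ∉ t, g a i = 0 := by
    intro a i hi
    let K : Submodule R J := LinearMap.ker ((DirectSum.component R ι E i) ∘ₗ g)
    suffices K = ⊤ by
      have ha : a ∈ K := this ▸ trivial
      exact ha
    rw [eq_top_iff]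
    rintro ⟨b, hb⟩ -
    have : b ∈ Submodule.map J.subtype K := by
      rw [← hs] at hb
      refine Submodule.span_le.mpr ?_ hb
      intro j hj
      refine ⟨⟨j, hs ▸ Submodule.subset_span hj⟩, ?_, rfl⟩
      show g _ i = 0
      by_contra hne
      exact hi (Finset.mem_biUnion.mpr ⟨⟨j, hj⟩, Finset.mem_univ _, DFinsupp.mem_support_toFun _ _ |>.mpr hne⟩)
    obtain ⟨b', hb', rfl⟩ := this
    exact hb'
  refine ⟨∑ i ∈ t, DirectSum.lof R ι E i ∘ₗ h i, fun a ha => ?_⟩
  refine DirectSum.ext_component R (fun i => ?_)
  rw [LinearMap.sum_apply, map_sum]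
  by_cases hi : i ∈ t
  · rw [Finset.sum_eq_single i]
    · rw [LinearMap.comp_apply, DirectSum.component.lof_self]
      exact hh i a ha
    · intro j _ hj
      rw [LinearMap.comp_apply, DirectSum.component.of, dif_neg hj]
    · exact fun h => absurd hi h
  · rw [Finset.sum_eq_zero]
    · exact (hsupp ⟨a, ha⟩ i hi).symm
    · intro j hj
      rw [LinearMap.comp_apply, DirectSum.component.of, dif_neg (fun h : j = i => hi (h ▸ hj))]

end Groth.Agent.S0300
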