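import Groth.Statements.S0305
import Mathlib
import Groth.Prelude.Def_Wider
import Groth.Agent.Lib.MatlisDuality

set_option autoImplicit false
universe u v
open InjHull

namespace Groth.Agent.S0305

/-- Let R be a commutative ring, p a prime ideal, and E an injective hull of R/p. Then E is
indecomposable, and E is also an injective hull of the residue field κ(p). -/
theorem result (R : Type u) [CommRing R] (p : Ideal R) [p.IsPrime] (E : Type u) [AddCommGroup E] [Module R E] (f : (R ⧸ p) →ₗ[R] E) (hf : InjHull.IsInjectiveHull f) : InjHull.IsIndecomposable R E ∧ ∃ g : p.ResidueField →ₗ[R] E, InjHull.IsInjectiveHull g := by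
  refine ⟨⟨⟨f 1, 0, fun h => one_ne_zero (hf.injective (h.trans (map_zero f).symm))⟩, ?_⟩, ?_⟩
  · intro N N' hc
    by_contra hne
    push Not at hne
    obtain ⟨_, ⟨hN, a, rfl⟩, ha⟩ := Submodule.exists_mem_ne_zero_of_ne_bot (hf.essential N hne.1)
    obtain ⟨_, ⟨hN', b, rfl⟩, hb⟩ := Submodule.exists_mem_ne_zero_of_ne_bot (hf.essential N' hne.2)
    obtain ⟨r, rfl⟩ := Ideal.Quotient.mk_surjective a
    obtain ⟨s, rfl⟩ := Ideal.Quotient.mk_surjective b
    have h1 : f (Ideal.Quotient.mk p (r * s)) ∈ N := by
      rw [show Ideal.Quotient.mk p (r * s) = s • Ideal.Quotient.mk p r by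
        rw [Algebra.smul_def, map_mul, mul_comm]; rfl, map_smul]
      exact N.smul_mem s hN
    have h2 : f (Ideal.Quotient.mk p (r * s)) ∈ N' := by
      rw [show Ideal.Quotient.mk p (r * s) = r • Ideal.Quotient.mk p s by
        rw [Algebra.smul_def, map_mul]; rfl, map_smul]
      exact N'.smul_mem r hN'
    have h3 := Submodule.disjoint_def.mp hc.disjoint _ h1 h2
    have h4 : Ideal.Quotient.mk p (r * s) = 0 := hf.injective (h3.trans (map_zero f).symm)
    rw [map_mul, mul_eq_zero] at h4
    rcases h4 with h4 | h4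
    · exact ha (by rw [h4, map_zero])
    · exact hb (by rw [h4, map_zero])
  · let j : (R ⧸ p) →ₗ[R] p.ResidueField := (IsScalarTower.toAlgHom R (R ⧸ p) p.ResidueField).toLinearMap
    have hj : Function.Injective j := IsFractionRing.injective (R ⧸ p) p.ResidueField
    obtain ⟨g, hg⟩ := Groth.Agent.IH.extend_to_injective hf.isInjective j hj f
    have hessj : Groth.Agent.IH.Ess (LinearMap.range j) := by
      intro x hx
      obtain ⟨a, b, hb, rfl⟩ := IsFractionRing.div_surjective (R ⧸ p) x
      obtain ⟨r, rfl⟩ := Ideal.Quotient.mk_surjective b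
      have hr0 : algebraMap (R ⧸ p) p.ResidueField (Ideal.Quotient.mk p r) ≠ 0 :=
        IsFractionRing.to_map_ne_zero_of_mem_nonZeroDivisors hb
      have heq : r • (algebraMap (R ⧸ p) p.ResidueField a / algebraMap (R ⧸ p) p.ResidueField (Ideal.Quotient.mk p r)) = algebraMap (R ⧸ p) p.ResidueField a := by
        rw [Algebra.smul_def, IsScalarTower.algebraMap_apply R (R ⧸ p) p.ResidueField,
          Ideal.Quotient.algebraMap_eq, mul_div_cancel₀ _ hr0]
      refine ⟨r, ⟨a, heq.symm⟩, fun h => hx ?_⟩
      rw [heq] at h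
      rw [h, zero_div]
    have hginj : Function.Injective g :=
      Groth.Agent.IH.injective_of_comp hessj (by rw [hg]; exact hf.injective)
    refine ⟨g, ⟨hginj, fun N hN h => hf.essential N hN ?_⟩, hf.isInjective⟩
    rw [← hg]
    exact eq_bot_iff.mpr ((inf_le_inf_left _ (LinearMap.range_comp_le_range j g)).trans h.le)

end Groth.Agent.S0305
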