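import Groth.Statements.S1402
import Mathlib
import Groth.Prelude.Def_MoreMor
import Groth.Agent.Lib.H2QuasiAffine

set_option autoImplicit false
universe u
open FlatMor

namespace Groth.Agent.S1402
open CategoryTheory Limits AlgebraicGeometry

open AlgebraicGeometry CategoryTheory Limits in
/-- A separated, locally quasi-finite morphism is ind-quasi-affine. -/
theorem result {X Y : Scheme.{u}} (f : X ⟶ Y) [IsSeparated f] [LocallyQuasiFinite f] [LocallyOfFiniteType f] :
    MoreMor.IsIndQuasiAffineHom f := by
  intro V hV U hU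
  haveI : IsAffine (V : Scheme.{u}) := hV
  haveI : CompactSpace (U : Scheme.{u}) := isCompact_iff_compactSpace.1 hU
  haveI : LocallyQuasiFinite (f ∣_ V) := MorphismProperty.of_isPullback (P := @LocallyQuasiFinite) (isPullback_morphismRestrict f V).flip ‹_›
  haveI : LocallyOfFiniteType (f ∣_ V) := MorphismProperty.of_isPullback (P := @LocallyOfFiniteType) (isPullback_morphismRestrict f V).flip ‹_›
  haveI : IsSeparated (f ∣_ V) := MorphismProperty.of_isPullback (P := @IsSeparated) (isPullback_morphismRestrict f V).flip ‹_›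
  haveI : QuasiCompact (U.ι ≫ f ∣_ V) := quasiCompact_iff_compactSpace _ |>.2 ‹_›
  exact Groth.Agent.H2QuasiAffine.quasiAffine_of_qf (U.ι ≫ f ∣_ V)

end Groth.Agent.S1402
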