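import Groth.Statements.S1398
import Mathlib
import Groth.Prelude.Def_MoreMor
import Groth.Agent.Lib.H2QuasiAffine
import Groth.Agent.S1402

set_option autoImplicit false
universe u
open FlatMor

namespace Groth.Agent.S1398
open CategoryTheory Limits AlgebraicGeometry

open AlgebraicGeometry CategoryTheory Limits in
/-- An immersion is ind-quasi-affine, and so is any quasi-affine morphism. -/
theorem result {X Y : Scheme.{u}} (f : X ⟶ Y) :
    (IsImmersion f → MoreMor.IsIndQuasiAffineHom f) ∧ (MoreMor.IsQuasiAffineHom f → MoreMor.IsIndQuasiAffineHom f) := by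
  refine ⟨fun _ => Groth.Agent.S1402.result f, fun hf V hV U hU => ?_⟩
  haveI := hf.2 V hV
  haveI : CompactSpace (U : Scheme.{u}) := isCompact_iff_compactSpace.1 hU
  exact Scheme.IsQuasiAffine.of_isImmersion U.ι

end Groth.Agent.S1398
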