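import Groth.Statements.S0008
import Groth.Agent.Lib.LQcoh

set_option autoImplicit false
universe u
open Coherent

namespace Groth.Agent.S0008

open AlgebraicGeometry in
/-- For a ring A, an A-module M and elements f_1, …, f_n generating the unit ideal, the Čech cohomology
of the associated module on Spec A with respect to the covering by the basic opens D(f_i) vanishes
in every positive degree. -/
theorem result (A : Type u) [CommRing A] (M : ModuleCat.{u} A)
    (n : ℕ) (f : ULift.{u} (Fin n) → A) (hf : Ideal.span (Set.range f) = ⊤) (p : ℕ) (hp : 0 < p) :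
    CategoryTheory.Limits.IsZero (CohB1.cechH (fun i => PrimeSpectrum.basicOpen (f i)) (tilde (R := CommRingCat.of A) M) p) := by
  obtain ⟨p, rfl⟩ : ∃ q, p = q + 1 := ⟨p - 1, by omega⟩
  let X := Spec (CommRingCat.of A)
  let g : ULift.{u} (Fin n) → Γ(X, ⊤) := fun i => (Scheme.ΓSpecIso (CommRingCat.of A)).inv (f i)
  have hg : Ideal.span (Set.range g) = ⊤ := by
    rw [show g = (Scheme.ΓSpecIso (CommRingCat.of A)).inv.hom ∘ f from rfl, Set.range_comp, ← Ideal.map_span, hf, Ideal.map_top]
  have hU : (fun i => PrimeSpectrum.basicOpen (f i)) = fun i => X.basicOpen (g i) :=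
    funext fun i => (basicOpen_eq_of_affine (R := CommRingCat.of A) (f i)).symm
  have h := Groth.Agent.LQcoh.good_qcoh (tilde (R := CommRingCat.of A) M) ⊤ (isAffineOpen_top X) (ULift.{u} (Fin n))
    (fun i => X.basicOpen (g i)) ⟨inferInstance, isAffineOpen_top X, g, hg, rfl⟩ p
  rw [← hU] at h
  exact h.isZero_homology

end Groth.Agent.S0008
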