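import Groth.Statements.S0015
import Mathlib

set_option autoImplicit false
universe u
open Coherent

namespace Groth.Agent.S0015

open CategoryTheory AlgebraicGeometry TopologicalSpace

theorem P_basic {X : Scheme.{u}} (P : X.Opens → Prop) (h₁ : ∀ U : X.Opens, IsAffineOpen U → P U)
    (h₂ : ∀ U V : X.Opens, IsCompact (U : Set X) → IsAffineOpen V → P U → P V → P (U ⊓ V) → P (U ⊔ V))
    {V : X.Opens} (hV : IsAffineOpen V) : ∀ l : List Γ(X, V), P ((l.map (fun g => X.basicOpen g)).foldr (· ⊔ ·) ⊥) := by
  intro l
  induction hn : l.length generalizing l with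
  | zero =>
    rw [List.length_eq_zero_iff] at hn
    subst hn
    exact h₁ _ (isAffineOpen_bot X)
  | succ n ih =>
    match l, hn with
    | g :: l', hn =>
      simp only [List.map_cons, List.foldr_cons]
      rw [sup_comm]
      simp only [List.length_cons, Nat.add_right_cancel_iff] at hn
      refine h₂ _ _ ?_ (hV.basicOpen g) (ih l' hn) (h₁ _ (hV.basicOpen g)) ?_
      · clear ih hn
        induction l' with
        | nil => simp
        | cons a t iht =>
          simp only [List.map_cons, List.foldr_cons, TopologicalSpace.Opens.coe_sup]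
          exact (hV.basicOpen a).isCompact.union iht
      · have e : ∀ l : List Γ(X, V), (l.map (fun g => X.basicOpen g)).foldr (· ⊔ ·) ⊥ ⊓ X.basicOpen g =
            ((l.map (· * g)).map (fun g => X.basicOpen g)).foldr (· ⊔ ·) ⊥ := by
          intro l
          induction l with
          | nil => simp
          | cons a t iht => simp only [List.map_cons, List.foldr_cons, inf_sup_right, iht, Scheme.basicOpen_mul]
        rw [e l']
        exact ih _ (by simp [hn])

theorem P_le {X : Scheme.{u}} (P : X.Opens → Prop) (h₁ : ∀ U : X.Opens, IsAffineOpen U → P U)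
    (h₂ : ∀ U V : X.Opens, IsCompact (U : Set X) → IsAffineOpen V → P U → P V → P (U ⊓ V) → P (U ⊔ V))
    {V : X.Opens} (hV : IsAffineOpen V) {W : X.Opens} (hW : IsCompact (W : Set X)) (hWV : W ≤ V) : P W := by
  classical
  choose g hg hxg using fun x : W => hV.exists_basicOpen_le x (hWV x.2)
  obtain ⟨t, ht⟩ := hW.elim_finite_subcover (fun x : W => (X.basicOpen (g x) : Set X))
    (fun x => (X.basicOpen (g x)).2) (fun x hx => Set.mem_iUnion.2 ⟨⟨x, hx⟩, hxg ⟨x, hx⟩⟩)
  have e : W = ((t.toList.map g).map (fun g => X.basicOpen g)).foldr (· ⊔ ·) ⊥ := by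
    have hs : ∀ (l : List W) (y : X), y ∈ ((l.map g).map (fun g => X.basicOpen g)).foldr (· ⊔ ·) ⊥ ↔ ∃ x ∈ l, y ∈ X.basicOpen (g x) := by
      intro l y
      induction l with
      | nil => exact ⟨fun h => (Set.notMem_empty y h).elim, by rintro ⟨x, hx, -⟩; cases hx⟩
      | cons a t iht =>
        simp only [List.map_cons, List.foldr_cons, List.mem_cons, exists_eq_or_imp]
        exact or_congr Iff.rfl iht
    ext y
    constructor
    · intro hy
      obtain ⟨x, hx, hyx⟩ := Set.mem_iUnion₂.1 (ht hy)
      exact (hs _ y).2 ⟨x, Finset.mem_toList.2 hx, hyx⟩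
    · intro hy
      obtain ⟨x, -, hyx⟩ := (hs _ y).1 hy
      exact hg x hyx
  rw [e]
  exact P_basic P h₁ h₂ hV _

open AlgebraicGeometry in
/-- Let X be quasi-compact and quasi-separated and P a property of opens of X. If P holds for affine
opens, and P(U ∪ V) follows from P(U), P(V), P(U ∩ V) whenever U is quasi-compact open and V affine
open, then P holds for every quasi-compact open, in particular for X. -/
theorem result (X : Scheme.{u}) [CompactSpace X] [QuasiSeparatedSpace X]
    (P : X.Opens → Prop) (h₁ : ∀ U : X.Opens, IsAffineOpen U → P U)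
    (h₂ : ∀ U V : X.Opens, IsCompact (U : Set X) → IsAffineOpen V → P U → P V → P (U ⊓ V) →
      P (U ⊔ V))
    (U : X.Opens) (hU : IsCompact (U : Set X)) : P U := by
  refine compact_open_induction_on U hU (h₁ _ (isAffineOpen_bot X)) fun S hS W hP => ?_
  refine h₂ S W.1 hS W.2 hP (h₁ _ W.2) (P_le P h₁ h₂ W.2 ?_ inf_le_right)
  exact QuasiSeparatedSpace.inter_isCompact _ _ S.2 hS W.1.2 W.2.isCompact

end Groth.Agent.S0015
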