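import Groth.Statements.S0020
import Groth.Agent.Lib.LSupp

set_option autoImplicit false
universe u
open Coherent

namespace Groth.Agent.S0020

open AlgebraicGeometry in
/-- On a scheme X, the set of points at which the stalk of a finite type 𝒪_X-module M is nonzero (the
support of M) is closed. -/
theorem result (X : Scheme.{u}) (M : X.Modules) (hM : CohB1.IsFT M) :
    IsClosed (CohB1.support M) := by
  haveI : SheafOfModules.IsFiniteType (R := X.ringCatSheaf) M := hM
  exact Groth.Agent.LSupp.isClosed_support M

end Groth.Agent.S0020
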