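import Groth.Statements.S0047
import Groth.Agent.Lib.LCartan
import Groth.Agent.Lib.LShift
import Groth.Agent.Lib.LSupp
import Groth.Agent.Lib.LCoh

set_option autoImplicit false
universe u
open Coherent

namespace Groth.Agent.S0047

theorem finite_of_closed_points {V : Type u} [TopologicalSpace V] [TopologicalSpace.NoetherianSpace V] [QuasiSober V]
    {C : Set V} (hC : IsClosed C) (h : ∀ c ∈ C, IsClosed ({c} : Set V)) : C.Finite := by
  obtain ⟨S, hSfin, hS1, hS2, rfl⟩ := TopologicalSpace.NoetherianSpace.exists_finite_set_isClosed_irreducible hC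
  refine hSfin.sUnion fun Z hZ => Set.Subsingleton.finite ?_
  intro a ha b hb
  obtain ⟨η, hη⟩ := QuasiSober.sober (hS2 Z hZ) (hS1 Z hZ)
  have : Z = {η} := hη.def.symm.trans (h η ⟨Z, hZ, hη.mem⟩).closure_eq
  rw [this] at ha hb
  exact ha.trans hb.symm


open AlgebraicGeometry in
/-- On a locally Noetherian scheme, a coherent module whose support consists of closed points (i.e. has
dimension ≤ 0) satisfies H^i(X, F) = 0 for all i > 0. (Global generation is not stated.) -/
theorem result (X : Scheme.{u}) [IsLocallyNoetherian X]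
    (M : X.Modules) (hM : Coh.IsCoh M) (h0 : ∀ x ∈ CohB1.support M, IsClosed ({x} : Set X))
    (i : ℕ) (hi : 0 < i) : Subsingleton (Coh.HH X M i) := by
  open Groth.Agent Groth.Agent.LCech CategoryTheory Opposite TopologicalSpace in
  classical
  haveI := hM.1
  haveI := hM.2
  have hS : IsClosed (CohB1.support M) := LSupp.isClosed_support M
  have hnb : ∀ x : X, ∃ W : X.Opens, x ∈ W ∧ ∀ q ∈ W, q ∈ CohB1.support M → q = x := by
    intro x
    obtain ⟨_, ⟨V, hV, rfl⟩, hxV, -⟩ := X.isBasis_affineOpens.exists_subset_of_mem_open (Set.mem_univ x) isOpen_univ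
    haveI : IsAffine V := hV
    haveI : IsNoetherian (V : Scheme.{u}) := { }
    let ιV := Scheme.Opens.ι (X := X) V
    let C : Set (V : Scheme.{u}) := ιV.base ⁻¹' CohB1.support M
    have hC : IsClosed C := hS.preimage ιV.continuous
    have hfin : C.Finite := finite_of_closed_points hC (fun c hc => by
      have : ({c} : Set (V : Scheme.{u})) = ιV.base ⁻¹' {ιV.base c} := by
        ext z
        exact ⟨fun h => congrArg _ h, fun h => ιV.injective h⟩
      rw [this]
      exact (h0 _ hc).preimage ιV.continuous)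
    let F0 : Set X := (ιV.base '' C) \ {x}
    have hF0 : IsClosed F0 := by
      rw [← Set.biUnion_of_singleton F0]
      refine Set.Finite.isClosed_biUnion ((hfin.image _).subset Set.diff_subset) ?_
      rintro _ ⟨⟨c, hc, rfl⟩, -⟩
      exact h0 _ hc
    refine ⟨⟨(V : Set X) \ F0, V.2.sdiff hF0⟩, ⟨hxV, fun h => h.2 rfl⟩, fun q hq hqs => ?_⟩
    by_contra hne
    exact hq.2 ⟨⟨⟨q, hq.1⟩, hqs, rfl⟩, hne⟩
  let F : Shf X.toTopCat := Coh.toAb M
  have hz : ∀ q : X, q ∉ CohB1.support M → Subsingleton (stalks F q : AddCommGrpCat.{u}) := fun q hq => not_not.1 hq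
  have hbij : ∀ V : (Opens X.toTopCat)ᵒᵖ, Function.Bijective ((toGod F).hom.app V) := by
    intro V
    refine ⟨fun a b h => TopCat.Presheaf.section_ext (C := AddCommGrpCat.{u}) F V.unop a b
      fun q hq => congrArg (fun f => f q ⟨hq⟩) h, fun f => ?_⟩
    have hloc : ∀ q : V.unop, ∃ (W : X.Opens) (_ : q.1 ∈ W) (_ : W ≤ V.unop) (t : F.obj.obj (op W)),
        ∀ r (hr : r ∈ W) (hrV : r ∈ V.unop), TopCat.Presheaf.germ F.obj W r hr t = f r ⟨hrV⟩ := by
      rintro ⟨q, hq⟩
      obtain ⟨W, hW, hWs⟩ := hnb q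
      obtain ⟨W1, hW1, t, ht⟩ := TopCat.Presheaf.exists_germ_eq F.obj (f q ⟨hq⟩)
      refine ⟨W ⊓ W1 ⊓ V.unop, ⟨⟨hW, hW1⟩, hq⟩, inf_le_right,
        F.obj.map (homOfLE (inf_le_left.trans inf_le_right)).op t, fun r hr hrV => ?_⟩
      by_cases hrs : r ∈ CohB1.support M
      · obtain rfl := hWs r hr.1.1 hrs
        rw [TopCat.Presheaf.germ_res_apply]
        exact ht
      · haveI := hz r hrs
        exact @Subsingleton.elim _ (hz r hrs) _ _
    choose W hqW hWV t ht using hloc
    obtain ⟨s, hs, -⟩ := TopCat.Sheaf.existsUnique_gluing' (C := AddCommGrpCat.{u}) F W V.unop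
      (fun q => homOfLE (hWV q)) (fun r hr => Opens.mem_iSup.2 ⟨⟨r, hr⟩, hqW _⟩) t
      (fun q p => TopCat.Presheaf.section_ext (C := AddCommGrpCat.{u}) F _ _ _ fun r hr => by
        rw [TopCat.Presheaf.germ_res_apply, TopCat.Presheaf.germ_res_apply, ht q r hr.1 (hWV q hr.1), ht p r hr.2 (hWV q hr.1)])
    refine ⟨s, funext fun q => funext fun hq => ?_⟩
    show TopCat.Presheaf.germ F.obj V.unop q hq.down s = f q hq
    rw [← TopCat.Presheaf.germ_res_apply F.obj (homOfLE (hWV ⟨q, hq.down⟩)) q (hqW ⟨q, hq.down⟩) s, hs ⟨q, hq.down⟩]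
    exact ht _ q (hqW ⟨q, hq.down⟩) hq.down
  haveI : ∀ V, IsIso ((toGod F).hom.app V) := fun V => (ConcreteCategory.isIso_iff_bijective _).2 (hbij V)
  haveI : IsIso (toGod F).hom := NatIso.isIso_of_isIso_app _
  obtain ⟨n, rfl⟩ : ∃ n, i = n + 1 := ⟨i - 1, by omega⟩
  refine subsingleton_H_succ (allSys X.toTopCat) trivial n F fun _ _ _ U _ => ?_
  letI := (asIso (toGod F).hom)
  exact Acyclic.retract U _ (acyclic_god _ _ U) (toGod F).hom (asIso (toGod F).hom).inv (asIso (toGod F).hom).hom_inv_id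

end Groth.Agent.S0047
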