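import Groth.Statements.S0048
import Groth.Agent.Lib.LCoh
import Groth.Agent.Lib.LSupp

set_option autoImplicit false
universe u
open Coherent

namespace Groth.Agent.S0048

open AlgebraicGeometry in
/-- Let U ⊆ X be open and T ⊆ U a subset closed in X. If F is a coherent (quasi-coherent of finite type,
i.e. `Coh.IsCoh`) module on U with support contained in T, then its direct image along U ↪ X is
again coherent in the same sense. (The published statement is for coherent modules in the usual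
sense; here both hypothesis and conclusion use the notion `Coh.IsCoh`.) -/
theorem result (X : Scheme.{u}) (U : X.Opens) (T : Set X)
    (hT : IsClosed T) (hTU : T ⊆ (U : Set X)) (F : (↑U : Scheme.{u}).Modules) (hF : Coh.IsCoh F)
    (hs : ∀ x : ↥U, x ∈ CohB1.support F → (x : X) ∈ T) : Coh.IsCoh ((Coh.push U.ι).obj F) := by
  open Groth.Agent Groth.Agent.LQcoh CategoryTheory Opposite in
  haveI := hF.1
  obtain ⟨-, hfin⟩ := (isCoh_iff_finite F).1 hF
  let G : X.Modules := (Coh.push U.ι).obj F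
  let I := {V : X.affineOpens // V.1 ≤ U ∨ ∀ x ∈ V.1, x ∉ T}
  have hcov : iSup (fun i : I => i.1.1) = ⊤ := by
    refine eq_top_iff.2 fun x _ => TopologicalSpace.Opens.mem_iSup.2 ?_
    by_cases hx : x ∈ (U : Set X)
    · obtain ⟨_, ⟨V, hV, rfl⟩, hxV, hVU⟩ := X.isBasis_affineOpens.exists_subset_of_mem_open hx U.2
      exact ⟨⟨⟨V, hV⟩, Or.inl hVU⟩, hxV⟩
    · obtain ⟨_, ⟨V, hV, rfl⟩, hxV, hVU⟩ := X.isBasis_affineOpens.exists_subset_of_mem_open
        (show x ∈ Tᶜ from fun h => hx (hTU h)) hT.isOpen_compl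
      exact ⟨⟨⟨V, hV⟩, Or.inr fun y hy => hVU hy⟩, hxV⟩
  have hzero : ∀ W : X.Opens, (∀ x ∈ W, x ∉ T) → ∀ a : Γ(G, W), a = 0 := fun W hW a => by
    refine TopCat.Presheaf.section_ext (C := AddCommGrpCat.{u}) ((LQcoh.toShf _).obj F) (U.ι ⁻¹ᵁ W) a 0 fun y hy => ?_
    refine ((LSupp.notMem_support_iff F y).1 (fun h => hW _ hy (hs y h)) _ hy a).trans ?_
    exact (map_zero (F.presheaf.germ (U.ι ⁻¹ᵁ W) y hy).hom).symm
  have haff : ∀ V : X.Opens, IsAffineOpen V → V ≤ U → IsAffineOpen (U.ι ⁻¹ᵁ V) := fun V hV hVU =>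
    hV.preimage_of_isOpenImmersion U.ι (by rw [Scheme.Opens.opensRange_ι]; exact hVU)
  have hloc : ∀ i : I, LQcoh.LocAt G i.1.1 := by
    rintro ⟨⟨V, hV⟩, h | h⟩ g
    swap
    · refine ⟨fun c => ⟨0, 0, ?_⟩, fun y _ => ⟨0, by rw [hzero V h y, smul_zero]⟩⟩
      rw [hzero (X.basicOpen g) (fun x hx => h x (X.basicOpen_le g hx)) c, smul_zero]
      exact map_zero _
    obtain ⟨h1, h2⟩ := LQcoh.exists_pow_of_affine (haff V hV h) F (U.ι.app V g)
    have hD : (U : Scheme.{u}).basicOpen (U.ι.app V g) = U.ι ⁻¹ᵁ X.basicOpen g := (U.ι.preimage_basicOpen g).symm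
    constructor
    · intro c
      obtain ⟨N, y, hy⟩ := h1 (LQcoh.res F hD.le c)
      refine ⟨N, y, ?_⟩
      have := congrArg (LQcoh.res F hD.ge) hy
      erw [LQcoh.res_res, LQcoh.res_smul, LQcoh.res_res, LQcoh.resO_resO] at this
      rw [show LQcoh.res F (hD.le.trans' hD.ge) c = c from LCech.rs_self F.presheaf le_rfl c] at this
      refine this.trans ?_
      refine congrArg (· • (show Γ(F, U.ι ⁻¹ᵁ X.basicOpen g) from c)) ?_
      rw [← map_pow]
      exact (congr($(U.ι.naturality (homOfLE (LQcoh.basicOpen_le_open g)).op) (g ^ N))).symm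
    · intro y hy
      obtain ⟨N, hN⟩ := h2 y
        ((LQcoh.res_res F (U.ι.preimage_mono (LQcoh.basicOpen_le_open g)) hD.le y).symm.trans
          ((congrArg (LQcoh.res F hD.le) hy).trans (map_zero _)))
      exact ⟨N, by rw [← map_pow] at hN; exact hN⟩
  haveI hq : G.IsQuasicoherent := LQcoh.isQuasicoherent_of_locAt G (fun i : I => i.1.1) (fun i => i.1.2) hcov hloc
  refine ⟨hq, LQcoh.isFiniteType_of_finite G (fun i : I => i.1.1) (fun i => i.1.2) hcov ?_⟩
  rintro ⟨⟨V, hV⟩, h | h⟩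
  swap
  · exact ⟨⟨∅, eq_top_iff.2 fun a _ => by rw [hzero V h a]; exact zero_mem _⟩⟩
  haveI := hfin _ (haff V hV h)
  letI := (U.ι.app V).hom.toAlgebra
  letI : Module Γ(X, V) Γ(F, U.ι ⁻¹ᵁ V) := Module.compHom _ (U.ι.app V).hom
  haveI : IsScalarTower Γ(X, V) Γ((U : Scheme.{u}), U.ι ⁻¹ᵁ V) Γ(F, U.ι ⁻¹ᵁ V) :=
    IsScalarTower.of_algebraMap_smul fun _ _ => rfl
  haveI : Module.Finite Γ(X, V) Γ((U : Scheme.{u}), U.ι ⁻¹ᵁ V) := by
    refine Module.Finite.of_surjective (Algebra.linearMap Γ(X, V) Γ((U : Scheme.{u}), U.ι ⁻¹ᵁ V)) ?_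
    haveI : IsIso (U.ι.app V) := Scheme.Hom.isIso_app U.ι V (by rw [Scheme.Opens.opensRange_ι]; exact h)
    exact ((ConcreteCategory.isIso_iff_bijective (U.ι.app V)).1 inferInstance).2
  have hf : Module.Finite Γ(X, V) Γ(F, U.ι ⁻¹ᵁ V) := Module.Finite.trans Γ((U : Scheme.{u}), U.ι ⁻¹ᵁ V) _
  exact hf

end Groth.Agent.S0048
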