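import Groth.Statements.S0063
import Mathlib

set_option autoImplicit false
set_option backward.isDefEq.respectTransparency.types false
open CategoryTheory CategoryTheory.Limits AlgebraicGeometry Opposite
universe u
open EtBase

namespace Groth.Agent.S0063

/-- Rigidity of maps into an unramified separated scheme — two maps from a connected scheme over the
base that agree at one point, including on residue fields, coincide. -/
theorem result {X S Y : Scheme.{u}} (π : X ⟶ S)
    [FormallyUnramified π] [LocallyOfFiniteType π] [IsSeparated π]
    (h : Y ⟶ S) [ConnectedSpace Y] (f g : Y ⟶ X) (hf : f ≫ π = h) (hg : g ≫ π = h)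
    (y : Y) (hy : Y.fromSpecResidueField y ≫ f = Y.fromSpecResidueField y ≫ g) : f = g := by
  let c := Limits.pullback.lift f g (hf.trans hg.symm)
  let Zi := Limits.pullback.snd (Limits.pullback.diagonal π) c
  haveI : IsClosedImmersion Zi := MorphismProperty.pullback_snd _ _ inferInstance
  haveI : IsOpenImmersion (Limits.pullback.diagonal π) := inferInstance
  haveI : IsOpenImmersion Zi := inferInstance
  have hA : c ≫ Limits.pullback.fst π π = f := Limits.pullback.lift_fst _ _ _
  have hB : c ≫ Limits.pullback.snd π π = g := Limits.pullback.lift_snd _ _ _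
  let l : Spec (Y.residueField y) ⟶ Limits.pullback (Limits.pullback.diagonal π) c :=
    Limits.pullback.lift (Y.fromSpecResidueField y ≫ f) (Y.fromSpecResidueField y)
      (by apply Limits.pullback.hom_ext <;> simp [hA, hB, hy])
  have hs : Set.range Zi = Set.univ := by
    refine IsClopen.eq_univ ⟨Zi.isClosedEmbedding.isClosed_range, Zi.isOpenEmbedding.isOpen_range⟩ ⟨y, l (IsLocalRing.closedPoint (Y.residueField y)), ?_⟩
    rw [← Scheme.Hom.comp_apply, Limits.pullback.lift_snd, Scheme.fromSpecResidueField_apply]
  haveI : Surjective Zi := ⟨Set.range_eq_univ.1 hs⟩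
  haveI : IsIso Zi := (isIso_iff_isOpenImmersion_and_surjective Zi).2 ⟨inferInstance, inferInstance⟩
  rw [← cancel_epi Zi]
  have h := Limits.pullback.condition (f := Limits.pullback.diagonal π) (g := c)
  have h1 := congrArg (· ≫ Limits.pullback.fst π π) h
  have h2 := congrArg (· ≫ Limits.pullback.snd π π) h
  simp [hA, hB] at h1 h2
  exact h1.symm.trans h2

end Groth.Agent.S0063
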