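import Groth.Statements.S0064
import Mathlib

set_option autoImplicit false
set_option backward.isDefEq.respectTransparency.types false
open CategoryTheory CategoryTheory.Limits AlgebraicGeometry Opposite
universe u
open EtBase

namespace Groth.Agent.S0064

/-- Let S be a Noetherian scheme, X → S a quasi-compact, separated, unramified morphism (formally
unramified and locally of finite type), and Y a Noetherian scheme with a morphism Y → S. Then there
are only finitely many S-morphisms Y → X. The published statement does not assume X → S separated;
it is stated here in the separated case. -/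
theorem result {X S Y : Scheme.{u}} [IsNoetherian S] [IsNoetherian Y]
    (π : X ⟶ S) [FormallyUnramified π] [LocallyOfFiniteType π] [QuasiCompact π] [IsSeparated π]
    (h : Y ⟶ S) : Set.Finite {f : Y ⟶ X | f ≫ π = h} := by
  classical
  let p := pullback.snd π h
  haveI : TopologicalSpace.NoetherianSpace ↥(pullback π h) := by
    haveI : IsLocallyNoetherian (pullback π h) := LocallyOfFiniteType.isLocallyNoetherian p
    haveI : CompactSpace ↥(pullback π h) := QuasiCompact.compactSpace_of_compactSpace p
    haveI : AlgebraicGeometry.IsNoetherian (pullback π h) := {}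
    infer_instance
  let s : {f : Y ⟶ X | f ≫ π = h} → (Y ⟶ pullback π h) := fun f => pullback.lift f.1 (𝟙 Y) (by rw [f.2, Category.id_comp])
  have hs : ∀ f, s f ≫ p = 𝟙 Y := fun f => pullback.lift_snd _ _ _
  have hcl : ∀ f, IsClosedImmersion (s f) := fun f => by
    haveI : IsClosedImmersion (s f ≫ p) := by rw [hs f]; infer_instance
    exact IsClosedImmersion.of_comp (s f) p
  haveI : MorphismProperty.HasOfPostcompProperty @IsOpenImmersion (MorphismProperty.diagonal @IsOpenImmersion) :=
    MorphismProperty.hasOfPostcompProperty_iff_le_diagonal.2 le_rfl
  haveI : FormallyUnramified p := MorphismProperty.pullback_snd (P := @FormallyUnramified) π h inferInstance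
  haveI : LocallyOfFiniteType p := MorphismProperty.pullback_snd (P := @LocallyOfFiniteType) π h inferInstance
  have hop : ∀ f, IsOpenImmersion (s f) := fun f =>
    MorphismProperty.of_postcomp (W := @IsOpenImmersion) (W' := MorphismProperty.diagonal @IsOpenImmersion) (s f) p
      (inferInstanceAs (IsOpenImmersion (pullback.diagonal p))) (by rw [hs f]; infer_instance)
  let C : Set (Set ↥(pullback π h)) := irreducibleComponents _
  have hC : C.Finite := TopologicalSpace.NoetherianSpace.finite_irreducibleComponents
  haveI : Finite C := hC.to_subtype
  refine Set.finite_coe_iff.1 (Finite.of_injective (fun f (Z : C) => Set.Nonempty (Z.1 ∩ Set.range (s f))) fun f g hfg => ?_)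
  have hclopen : ∀ f, IsClopen (Set.range (s f)) := fun f => by
    haveI := hcl f
    haveI := hop f
    exact ⟨(s f).isClosedEmbedding.isClosed_range, (s f).isOpenEmbedding.isOpen_range⟩
  have hsub : ∀ f g, (fun Z : C => Set.Nonempty (Z.1 ∩ Set.range (s f))) = (fun Z : C => Set.Nonempty (Z.1 ∩ Set.range (s g))) →
      Set.range (s f) ⊆ Set.range (s g) := by
    intro f g hfg x hx
    have hZ := irreducibleComponent_mem_irreducibleComponents x
    have hne : Set.Nonempty (irreducibleComponent x ∩ Set.range (s g)) :=
      (congrFun hfg ⟨_, hZ⟩).mp ⟨x, mem_irreducibleComponent, hx⟩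
    exact isIrreducible_irreducibleComponent.isConnected.isPreconnected.subset_isClopen (hclopen g) hne mem_irreducibleComponent
  have hr : Set.range (s f) ⊆ Set.range (s g) := hsub f g hfg
  haveI := hop g
  let e := IsOpenImmersion.lift (s g) (s f) hr
  have he : e ≫ s g = s f := IsOpenImmersion.lift_fac _ _ _
  have he1 : e = 𝟙 Y := by
    calc e = e ≫ s g ≫ p := by rw [hs g, Category.comp_id]
      _ = _ := by rw [← Category.assoc, he, hs]
  have hsf : s f = s g := by rw [← he, he1, Category.id_comp]
  exact Subtype.ext ((pullback.lift_fst _ _ _).symm.trans ((congrArg (· ≫ pullback.fst π h) hsf).trans (pullback.lift_fst _ _ _)))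

end Groth.Agent.S0064
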