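import Groth.Statements.S0066
import Mathlib
import Groth.Agent.Lib.LSmoothNormal

set_option autoImplicit false
open CategoryTheory CategoryTheory.Limits AlgebraicGeometry Opposite
universe u
open EtBase

namespace Groth.Agent.S0066

/-- For an étale morphism f : X → Y with Y locally Noetherian and a point x of X, the local ring O_{X,x}
is a normal domain (a domain which is integrally closed in its fraction field) if and only if
O_{Y,f(x)} is. -/
theorem result {X Y : Scheme.{u}} (f : X ⟶ Y) [AlgebraicGeometry.Etale f]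
    [IsLocallyNoetherian Y] (x : X) :
    (IsDomain (X.presheaf.stalk x) ∧ IsIntegrallyClosed (X.presheaf.stalk x)) ↔
      (IsDomain (Y.presheaf.stalk (f.base x)) ∧ IsIntegrallyClosed (Y.presheaf.stalk (f.base x))) := by
  obtain ⟨_, ⟨V, hV, rfl⟩, hyV, -⟩ := Y.isBasis_affineOpens.exists_subset_of_mem_open (Set.mem_univ (f.base x)) isOpen_univ
  obtain ⟨_, ⟨U, hU, rfl⟩, hxU, hUV⟩ := X.isBasis_affineOpens.exists_subset_of_mem_open (show x ∈ ((f ⁻¹ᵁ V : X.Opens) : Set X) from hyV) (f ⁻¹ᵁ V).2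
  have he : (f.appLE V U hUV).hom.Etale := HasRingHomProperty.appLE @AlgebraicGeometry.Etale f ‹_› ⟨V, hV⟩ ⟨U, hU⟩ hUV
  algebraize [(f.appLE V U hUV).hom]
  haveI : Algebra.Smooth Γ(Y, V) Γ(X, U) := inferInstance
  let q := (hU.primeIdealOf ⟨x, hxU⟩).asIdeal
  let p := (hV.primeIdealOf ⟨f x, hyV⟩).asIdeal
  haveI := hU.isLocalization_stalk ⟨x, hxU⟩
  haveI := hV.isLocalization_stalk ⟨f x, hyV⟩
  letI := X.presheaf.algebra_section_stalk ⟨x, hxU⟩
  letI := Y.presheaf.algebra_section_stalk ⟨f x, hyV⟩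
  let eX : ↑(X.presheaf.stalk x) ≃+* Localization.AtPrime q :=
    (IsLocalization.algEquiv q.primeCompl _ _).toRingEquiv
  let eY : ↑(Y.presheaf.stalk (f.base x)) ≃+* Localization.AtPrime p :=
    (IsLocalization.algEquiv p.primeCompl _ _).toRingEquiv
  have hpq : q.comap (algebraMap Γ(Y, V) Γ(X, U)) = p :=
    congrArg PrimeSpectrum.asIdeal (IsAffineOpen.comap_primeIdealOf_appLE V hV U hU hUV hxU)
  have key0 : ∀ (p' : Ideal Γ(Y, V)) [p'.IsPrime], q.comap (algebraMap Γ(Y, V) Γ(X, U)) = p' →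
      ((IsDomain (Localization.AtPrime q) ∧ IsIntegrallyClosed (Localization.AtPrime q)) ↔
        (IsDomain (Localization.AtPrime p') ∧ IsIntegrallyClosed (Localization.AtPrime p'))) := by
    intro p' _ h
    subst h
    exact Groth.Agent.LSmoothNormal.atPrime_iff Γ(Y, V) Γ(X, U) q
  have key := key0 p hpq
  constructor
  · rintro ⟨h1, h2⟩
    haveI := eX.symm.toMulEquiv.isDomain_iff.2 h1
    haveI := @IsIntegrallyClosed.of_equiv _ (Localization.AtPrime q) _ _ eX h2
    obtain ⟨h3, h4⟩ := key.1 ⟨inferInstance, inferInstance⟩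
    exact ⟨eY.toMulEquiv.isDomain_iff.2 h3, @IsIntegrallyClosed.of_equiv (Localization.AtPrime p) _ _ _ eY.symm h4⟩
  · rintro ⟨h1, h2⟩
    have h3 : IsDomain (Localization.AtPrime p) := eY.symm.toMulEquiv.isDomain_iff.2 h1
    have h4 : IsIntegrallyClosed (Localization.AtPrime p) := @IsIntegrallyClosed.of_equiv _ (Localization.AtPrime p) _ _ eY h2
    obtain ⟨h5, h6⟩ := key.2 ⟨h3, h4⟩
    exact ⟨eX.toMulEquiv.isDomain_iff.2 h5, @IsIntegrallyClosed.of_equiv (Localization.AtPrime q) _ _ _ eX.symm h6⟩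

end Groth.Agent.S0066
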