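import Groth.Statements.S0068
import Mathlib
import Groth.Agent.Lib.LEtExtStalk

set_option autoImplicit false
open CategoryTheory CategoryTheory.Limits AlgebraicGeometry Opposite
universe u
open EtBase

namespace Groth.Agent.S0068

/-- Part (2), second half — an abelian étale sheaf is a pushforward from a closed subscheme exactly when
its sections vanish over every étale scheme mapping into the open complement. -/
theorem result {Z X : Scheme.{u}} (i : Z ⟶ X) [IsClosedImmersion i] [EtCoh.BCCont i]
    (F : EtCoh.Ab X) :
    (EtCoh.push i).essImage F ↔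
      ∀ U : X.Etale, Disjoint (Set.range U.hom.base) (Set.range i.base) → IsZero (F.obj.obj (op U)) := by
  constructor
  · rintro ⟨G, ⟨e⟩⟩ U hU
    have hE : IsEmpty ((EtCoh.bc i).obj U).left := ⟨fun (w : (Limits.pullback U.hom i : Scheme.{u})) =>
      Set.disjoint_left.1 hU ⟨(pullback.fst U.hom i) w, rfl⟩ ⟨(pullback.snd U.hom i) w,
        (Scheme.Hom.comp_apply _ i w).symm.trans ((congrArg (fun s : _ ⟶ X => s w) pullback.condition.symm).trans
          (Scheme.Hom.comp_apply _ U.hom w))⟩⟩
    have := Groth.Agent.LEtImm.subsingleton_sect (G := G) _ hE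
    exact (AddCommGrpCat.isZero_of_subsingleton (G.obj.obj (op ((EtCoh.bc i).obj U)))).of_iso
      (((sheafToPresheaf _ _).mapIso e.symm).app (op U))
  · intro h
    have : IsIso ((EtCoh.pullPushAdj i).unit.app F) := by
      rw [Groth.Agent.LEtStalk.isIso_iff]
      intro Ω _ _ ξ
      by_cases hd : Disjoint (Set.range ξ) (Set.range i)
      · refine IsZero.isIso ?_ (Groth.Agent.LEtImm.isZero_stalk_push i i.isClosedEmbedding.isClosed_range _ ξ hd) _
        suffices hs : Subsingleton ((EtCoh.stalk ξ).obj F) from @AddCommGrpCat.isZero_of_subsingleton _ hs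
        refine subsingleton_of_forall_eq 0 fun p => ?_
        let Φ := Scheme.pointSmallEtale ξ
        obtain ⟨V, v, z, rfl⟩ := Φ.toPresheafFiber_jointly_surjective (P := F.obj) p
        let O : V.left.Opens := ⟨V.hom ⁻¹' (Set.range i)ᶜ, i.isClosedEmbedding.isClosed_range.isOpen_compl.preimage V.hom.continuous⟩
        have : Etale (O.ι ≫ V.hom) := MorphismProperty.comp_mem @Etale O.ι V.hom inferInstance V.prop
        let V' : X.Etale := Scheme.Etale.mk (O.ι ≫ V.hom)
        let g : V' ⟶ V := MorphismProperty.Over.homMk O.ι rfl trivial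
        haveI hO : IsOpenImmersion O.ι := inferInstance
        have hv : Set.range v.left ⊆ Set.range O.ι := by
          intro a ha
          obtain ⟨t, rfl⟩ := ha
          refine (Set.ext_iff.1 (Scheme.Opens.range_ι O) _).2 ?_
          have e : V.hom (v.left t) = ξ t :=
            (Scheme.Hom.comp_apply v.left V.hom t).symm.trans (congrArg (fun s : Spec _ ⟶ X => s t) (Over.w v))
          exact fun h => Set.disjoint_left.1 hd ⟨t, e.symm⟩ h
        let v' : Φ.fiber.obj V' := Over.homMk (@IsOpenImmersion.lift _ _ _ O.ι v.left hO hv)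
          ((Category.assoc _ _ _).symm.trans ((congrArg (· ≫ V.hom) (@IsOpenImmersion.lift_fac _ _ _ O.ι v.left hO hv)).trans (Over.w v)))
        have hv' : Φ.fiber.map g v' = v := Over.OverMorphism.ext (@IsOpenImmersion.lift_fac _ _ _ O.ι v.left hO hv)
        have hd' : Disjoint (Set.range V'.hom.base) (Set.range i.base) := by
          refine Set.disjoint_left.2 ?_
          intro a ha hb
          obtain ⟨t, rfl⟩ := ha
          exact t.2 hb
        have := AddCommGrpCat.subsingleton_of_isZero (h V' hd')
        rw [← hv', ← Φ.toPresheafFiber_w_apply g v' F.obj z, Subsingleton.elim (F.obj.map g.op z) 0]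
        exact map_zero (Φ.toPresheafFiber V' v' F.obj).hom
      · obtain ⟨ζ, rfl⟩ := Groth.Agent.LEtExtStalk.exists_factor_closed i ξ hd
        have := Groth.Agent.LEtClosed.isIso_counit i ((EtCoh.pull i).obj F)
        have : IsIso ((EtCoh.pull i).map ((EtCoh.pullPushAdj i).unit.app F) ≫ (EtCoh.pullPushAdj i).counit.app ((EtCoh.pull i).obj F)) := by
          rw [(EtCoh.pullPushAdj i).left_triangle_components F]
          exact IsIso.id _
        have : IsIso ((EtCoh.pull i).map ((EtCoh.pullPushAdj i).unit.app F)) :=
          IsIso.of_isIso_comp_right _ ((EtCoh.pullPushAdj i).counit.app ((EtCoh.pull i).obj F))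
        exact (NatIso.isIso_map_iff (Groth.Agent.LEtStalkPull.stalkPullIso i ζ) _).1
          (inferInstanceAs (IsIso ((EtCoh.stalk ζ).map ((EtCoh.pull i).map ((EtCoh.pullPushAdj i).unit.app F)))))
    exact ⟨(EtCoh.pull i).obj F, ⟨(asIso ((EtCoh.pullPushAdj i).unit.app F)).symm⟩⟩

end Groth.Agent.S0068
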