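import Groth.Statements.S0077
import Groth.Agent.Lib.H4FrobLang

set_option autoImplicit false
set_option backward.isDefEq.respectTransparency.types false
universe u
open EtBase

namespace Groth.Agent.S0077

/-- First half — on a finite-dimensional vector space over an algebraically closed field of
characteristic p, any additive p-semilinear map F has F − id surjective. -/
theorem result {k V : Type u} [Field k] [IsAlgClosed k] (p : ℕ) [Fact p.Prime] [CharP k p]
    [AddCommGroup V] [Module k V] [FiniteDimensional k V] (F : V →+ V)
    (hF : ∀ (c : k) (v : V), F (c • v) = c ^ p • F v) :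
    Function.Surjective fun v => F v - v := by
  suffices key : ∀ (n : ℕ) (W : Type u) [AddCommGroup W] [Module k W] [FiniteDimensional k W] (G : W →+ W),
      (∀ (c : k) (v : W), G (c • v) = c ^ p • G v) → Module.finrank k W = n → Function.Surjective fun v => G v - v from
    key _ V F hF rfl
  intro n
  induction n using Nat.strong_induction_on with
  | _ n ih =>
    intro W _ _ _ G hG hn
    by_cases hspan : Submodule.span k (Set.range G) = ⊤
    · exact (Groth.Agent.H4FrobLang.field_main p G hG hspan).1
    · let W' := Submodule.span k (Set.range G)
      let G' : W' →+ W' :=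
        { toFun := fun w => ⟨G w.1, Submodule.subset_span ⟨w.1, rfl⟩⟩
          map_zero' := Subtype.ext (map_zero G)
          map_add' := fun a b => Subtype.ext (map_add G a.1 b.1) }
      have hlt : Module.finrank k W' < n := hn ▸ Submodule.finrank_lt hspan
      intro v
      obtain ⟨w, hw⟩ := ih _ hlt W' G' (fun c x => Subtype.ext (hG c x.1)) rfl ⟨G v, Submodule.subset_span ⟨v, rfl⟩⟩
      have hw' : G w.1 - w.1 = G v := congrArg Subtype.val hw
      refine ⟨-v + w.1, ?_⟩
      show G (-v + w.1) - (-v + w.1) = v
      rw [map_add, map_neg, ← hw']
      abel

end Groth.Agent.S0077
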