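import Groth.Statements.S19230
import Mathlib

set_option autoImplicit false
set_option backward.isDefEq.respectTransparency.types false
set_option maxHeartbeats 1000000
set_option linter.all false
universe u v
open SigmaLin

namespace Groth.Agent.S19230
open Groth.Agent

/-- Let k be a field, σ a surjective ring endomorphism of k, V a finite-dimensional k-vector space and T
: V → V additive with T (c • v) = σ c • T v. Then the set of vectors killed by some iterate of T is
a k-subspace on which a single iterate of T vanishes, it is a complement of the intersection over n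
of the k-spans of the images of the n-th iterates, and T restricts to a bijection of that
intersection onto itself. -/
theorem result
    (k : Type u) [Field k] (σ : k →+* k) (hσ : Function.Surjective σ)
    (V : Type v) [AddCommGroup V] [Module k V] [FiniteDimensional k V] (T : V →ₛₗ[σ] V) :
    (∃ W : Submodule k V, (W : Set V) = {v : V | ∃ n : ℕ, (⇑T)^[n] v = 0} ∧
      (∃ N : ℕ, ∀ v ∈ W, (⇑T)^[N] v = 0) ∧
      IsCompl W (⨅ n : ℕ, Submodule.span k (Set.range ((⇑T)^[n])))) ∧
    Set.BijOn (⇑T) (⋂ n : ℕ, (Submodule.span k (Set.range ((⇑T)^[n])) : Set V))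
      (⋂ n : ℕ, (Submodule.span k (Set.range ((⇑T)^[n])) : Set V)) := by
  classical
  have hit : ∀ (n : ℕ) (c : k) (v : V), (⇑T)^[n] (c • v) = (⇑σ)^[n] c • (⇑T)^[n] v := by
    intro n
    induction n with
    | zero => simp
    | succ n ih => intro c v; rw [Function.iterate_succ_apply', ih, LinearMap.map_smulₛₗ, Function.iterate_succ_apply', Function.iterate_succ_apply']
  have hadd : ∀ (n : ℕ) (v w : V), (⇑T)^[n] (v + w) = (⇑T)^[n] v + (⇑T)^[n] w := fun n => iterate_map_add T n
  have hz : ∀ n : ℕ, (⇑T)^[n] 0 = 0 := fun n => iterate_map_zero T n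
  let Wn : ℕ →o Submodule k V :=
    ⟨fun n => { carrier := {v | (⇑T)^[n] v = 0}
                add_mem' := fun {a b} ha hb => by simp only [Set.mem_setOf_eq] at *; rw [hadd, ha, hb, add_zero]
                zero_mem' := hz n
                smul_mem' := fun c v hv => by simp only [Set.mem_setOf_eq] at *; rw [hit, hv, smul_zero] },
     fun m n h v hv => by
      show (⇑T)^[n] v = 0
      obtain ⟨d, rfl⟩ := Nat.exists_eq_add_of_le h
      rw [add_comm, Function.iterate_add_apply, show (⇑T)^[m] v = 0 from hv, hz]⟩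
  have hsp : ∀ n v, v ∈ Submodule.span k (Set.range ((⇑T)^[n])) ↔ ∃ w, (⇑T)^[n] w = v := by
    intro n v
    refine ⟨fun h => ?_, fun ⟨w, hw⟩ => Submodule.subset_span ⟨w, hw⟩⟩
    induction h using Submodule.span_induction with
    | mem x hx => exact hx
    | zero => exact ⟨0, hz n⟩
    | add x y _ _ hx hy => obtain ⟨a, rfl⟩ := hx; obtain ⟨b, rfl⟩ := hy; exact ⟨a + b, hadd n a b⟩
    | smul c x _ hx =>
      obtain ⟨a, rfl⟩ := hx
      obtain ⟨c', rfl⟩ := hσ.iterate n c
      exact ⟨c' • a, hit n c' a⟩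
  let Un : ℕ →o (Submodule k V)ᵒᵈ :=
    ⟨fun n => OrderDual.toDual (Submodule.span k (Set.range ((⇑T)^[n]))), fun m n h => by
      show Submodule.span k (Set.range ((⇑T)^[n])) ≤ Submodule.span k (Set.range ((⇑T)^[m]))
      intro v hv
      obtain ⟨w, rfl⟩ := (hsp n v).1 hv
      obtain ⟨d, rfl⟩ := Nat.exists_eq_add_of_le h
      rw [Function.iterate_add_apply]
      exact (hsp m _).2 ⟨_, rfl⟩⟩
  obtain ⟨N₁, hN₁⟩ := monotone_stabilizes_iff_noetherian.2 (inferInstance : IsNoetherian k V) Wn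
  obtain ⟨N₂, hN₂⟩ := IsArtinian.monotone_stabilizes Un
  set N := max N₁ N₂ with hN
  have hW : ∀ n v, (⇑T)^[n] v = 0 → (⇑T)^[N] v = 0 := by
    intro n v hv
    rcases le_total n N with h | h
    · exact Wn.monotone h hv
    · have : Wn N = Wn n := (hN₁ N (le_max_left _ _)).symm.trans (hN₁ n (le_trans (le_max_left _ _) h))
      exact (show v ∈ Wn N from this ▸ hv)
  have hU : ∀ n v, (∃ w, (⇑T)^[N] w = v) → ∃ w, (⇑T)^[n] w = v := by
    intro n v hv
    rw [← hsp] at hv ⊢
    rcases le_total n N with h | h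
    · exact Un.monotone h hv
    · have : Un N = Un n := (hN₂ N (le_max_right _ _)).symm.trans (hN₂ n (le_trans (le_max_right _ _) h))
      exact (congrArg OrderDual.ofDual this).le hv
  have hinf : ∀ v, v ∈ (⨅ n : ℕ, Submodule.span k (Set.range ((⇑T)^[n]))) ↔ ∃ w, (⇑T)^[N] w = v := by
    intro v
    rw [Submodule.mem_iInf]
    exact ⟨fun h => (hsp N v).1 (h N), fun h n => (hsp n v).2 (hU n v h)⟩
  have hdisj : ∀ v n, (∃ w, (⇑T)^[N] w = v) → (⇑T)^[n] v = 0 → v = 0 := by
    rintro v n ⟨w, rfl⟩ h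
    rw [← Function.iterate_add_apply] at h
    exact hW _ _ h
  refine ⟨⟨Wn N, ?_, ⟨N, fun v hv => hv⟩, ?_, ?_⟩, ?_⟩
  · ext v
    exact ⟨fun h => ⟨N, h⟩, fun ⟨n, hn⟩ => hW n v hn⟩
  · rw [Submodule.disjoint_def]
    intro v h1 h2
    exact hdisj v N ((hinf v).1 h2) h1
  · rw [codisjoint_iff, Submodule.eq_top_iff']
    intro v
    obtain ⟨w, hw⟩ := hU (N + N) ((⇑T)^[N] v) ⟨v, rfl⟩
    have hsub : v - (⇑T)^[N] w ∈ Wn N := by
      show (⇑T)^[N] (v - (⇑T)^[N] w) = 0
      rw [iterate_map_sub, ← Function.iterate_add_apply, hw, sub_self]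
    rw [show v = (v - (⇑T)^[N] w) + (⇑T)^[N] w by abel]
    exact Submodule.add_mem_sup hsub ((hinf _).2 ⟨w, rfl⟩)
  · have hmem : ∀ v, v ∈ (⋂ n : ℕ, (Submodule.span k (Set.range ((⇑T)^[n])) : Set V)) ↔ ∃ w, (⇑T)^[N] w = v := by
      intro v
      rw [← hinf, Submodule.mem_iInf]
      simp [Set.mem_iInter]
    refine ⟨?_, ?_, ?_⟩
    · intro v hv
      obtain ⟨w, rfl⟩ := (hmem v).1 hv
      exact (hmem _).2 ⟨T w, by rw [← Function.iterate_succ_apply, Function.iterate_succ_apply']⟩
    · intro a ha b hb hab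
      obtain ⟨a', rfl⟩ := (hmem a).1 ha
      obtain ⟨b', rfl⟩ := (hmem b).1 hb
      rw [← sub_eq_zero]
      refine hdisj _ 1 ⟨a' - b', iterate_map_sub T N a' b'⟩ ?_
      rw [Function.iterate_one, map_sub, hab, sub_self]
    · intro v hv
      obtain ⟨w, hw⟩ := hU (N + 1) v ((hmem v).1 hv)
      exact ⟨(⇑T)^[N] w, (hmem _).2 ⟨w, rfl⟩, by rw [← hw, Function.iterate_succ_apply']⟩

end Groth.Agent.S19230
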