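import Groth.Statements.S19234
import Mathlib
import Groth.Agent.Lib.H6.SigLin
import Groth.Agent.S19230

set_option autoImplicit false
set_option backward.isDefEq.respectTransparency.types false
set_option maxHeartbeats 1000000
set_option linter.all false
universe u v
open SigmaLin

namespace Groth.Agent.S19234
open Groth.Agent

/-- Let k be a field with a surjective ring endomorphism σ such that (i) for every n and every tuple
(b_0, …, b_n) in k, not all zero, the equation x = Σ_{i=0}^{n} σ^{i+1}(x) σ^{i}(b_{n-i}) has a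
nonzero solution x in k, and (ii) for every c in k there is y with σ(y) − y + c = 0. Let V be a
finite-dimensional k-vector space and T : V → V additive with T (c • v) = σ c • T v (no further
condition on T). Then v ↦ v − T v is surjective on V, and the intersection over n of the k-spans of
the images of the iterates of T (the part of V on which T is bijective) admits a k-basis of vectors
fixed by T; in particular the fixed vectors of T span that intersection over k. -/
theorem result
    (k : Type u) [Field k] (σ : k →+* k) (hσ : Function.Surjective σ)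
    (V : Type v) [AddCommGroup V] [Module k V] [FiniteDimensional k V] (T : V →ₛₗ[σ] V)
    (h2 : ∀ (n : ℕ) (b : Fin (n + 1) → k), b ≠ 0 →
      ∃ x : k, x ≠ 0 ∧ x = ∑ i : Fin (n + 1), (⇑σ)^[i.val + 1] x * (⇑σ)^[i.val] (b (Fin.rev i)))
    (h3 : ∀ c : k, ∃ y : k, σ y - y + c = 0) :
    Function.Surjective (fun v : V => v - T v) ∧
    ∃ b : Module.Basis (Fin (Module.finrank k ↥(⨅ n : ℕ, Submodule.span k (Set.range ((⇑T)^[n]))))) k ↥(⨅ n : ℕ, Submodule.span k (Set.range ((⇑T)^[n]))),
      ∀ i, T (b i : V) = (b i : V) := by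
  classical
  obtain ⟨⟨W, hW, ⟨N, hN⟩, hc⟩, hmaps, hinj, hsur⟩ := Groth.Agent.S19230.result k σ hσ V T
  set U := ⨅ n : ℕ, Submodule.span k (Set.range ((⇑T)^[n])) with hU
  have hset : (⋂ n : ℕ, (Submodule.span k (Set.range ((⇑T)^[n])) : Set V)) = (U : Set V) := by
    rw [hU, Submodule.coe_iInf]
  rw [hset] at hmaps hsur
  have hUT : U ≤ U.comap T := fun x hx => hmaps hx
  let TU : U →ₛₗ[σ] U := { toFun := fun x => ⟨T x, hmaps x.2⟩, map_add' := fun x y => Subtype.ext (map_add T _ _), map_smul' := fun c x => Subtype.ext (LinearMap.map_smulₛₗ T c _) }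
  have h1 : Submodule.span k (Set.range ⇑TU) = ⊤ := by
    rw [eq_top_iff]
    intro x _
    obtain ⟨y, hy, hyx⟩ := hsur x.2
    exact Submodule.subset_span ⟨⟨y, hy⟩, Subtype.ext hyx⟩
  obtain ⟨⟨b, hb⟩, hs⟩ := H6SigLin.main k σ U TU h1 h2 h3
  refine ⟨fun v => ?_, b, fun i => congrArg Subtype.val (hb i)⟩
  have hv : v ∈ W ⊔ U := by rw [hc.sup_eq_top]; trivial
  obtain ⟨w, hw, u, hu, rfl⟩ := Submodule.mem_sup.1 hv
  obtain ⟨x, hx⟩ := hs ⟨u, hu⟩
  refine ⟨(∑ i ∈ Finset.range N, (⇑T)^[i] w) + x, ?_⟩
  have hx' : (x : V) - T x = u := congrArg Subtype.val hx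
  have hw' : (∑ i ∈ Finset.range N, (⇑T)^[i] w) - T (∑ i ∈ Finset.range N, (⇑T)^[i] w) = w := by
    rw [map_sum, ← Finset.sum_sub_distrib]
    simp only [← Function.iterate_succ_apply' (⇑T)]
    rw [Finset.sum_range_sub' (fun i => (⇑T)^[i] w), hN w hw]
    simp
  simp only [map_add]
  rw [add_sub_add_comm, hw', hx']

end Groth.Agent.S19234
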