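import Groth.Statements.S0078
import Mathlib
import Groth.Agent.Lib.H6.ArtSchreier
import Groth.Agent.S19234

set_option autoImplicit false
set_option backward.isDefEq.respectTransparency.types false
set_option maxHeartbeats 1000000
set_option linter.all false
universe u
open EtBase

namespace Groth.Agent.S0078
open Groth.Agent

/-- Second half — for such an F the fixed vectors F v = v form a finite set of size at most p ^ dim V
(an F_p-space of dimension at most dim V). -/
theorem result {k V : Type u} [Field k] [IsAlgClosed k] (p : ℕ) [Fact p.Prime] [CharP k p]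
    [AddCommGroup V] [Module k V] [FiniteDimensional k V] (F : V →+ V)
    (hF : ∀ (c : k) (v : V), F (c • v) = c ^ p • F v) :
    Set.Finite {v : V | F v = v} ∧ Nat.card {v : V | F v = v} ≤ p ^ Module.finrank k V := by
  classical
  haveI : ExpChar k p := ExpChar.prime Fact.out
  let σ : k →+* k := frobenius k p
  have hσ : ∀ x, σ x = x ^ p := fun x => rfl
  let T : V →ₛₗ[σ] V := { F with map_smul' := fun c v => hF c v }
  have hsurj : Function.Surjective σ := fun y => by
    obtain ⟨z, hz⟩ := IsAlgClosed.exists_pow_nat_eq y (Fact.out : p.Prime).pos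
    exact ⟨z, hz⟩
  have hq : 1 < p := (Fact.out : p.Prime).one_lt
  have hq0 : (p : k) = 0 := CharP.cast_eq_zero k p
  set U : Submodule k V := ⨅ n : ℕ, Submodule.span k (Set.range ((⇑T)^[n]))
  obtain ⟨-, b, hb⟩ := Groth.Agent.S19234.result k σ hsurj V T (H6AS.h2 k σ p hq hq0 hσ) (H6AS.h3 k σ p hq hq0 hσ)
  let S : Finset k := (Polynomial.X ^ p - Polynomial.X : Polynomial k).roots.toFinset
  have hS : S.card ≤ p := by
    refine (Multiset.toFinset_card_le _).trans ((Polynomial.card_roots' _).trans ?_)
    rw [FiniteField.X_pow_card_sub_X_natDegree_eq k hq]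
  have hne : (Polynomial.X ^ p - Polynomial.X : Polynomial k) ≠ 0 := FiniteField.X_pow_card_sub_X_ne_zero k hq
  have hfix : ∀ v : V, F v = v → v ∈ U := fun v hv => Submodule.mem_iInf _ |>.2 fun n => Submodule.subset_span ⟨v, by
    induction n with
    | zero => rfl
    | succ n ih => rw [Function.iterate_succ_apply', ih]; exact hv⟩
  have hco : ∀ v : {v : V | F v = v}, ∀ i, b.repr ⟨v.1, hfix v.1 v.2⟩ i ∈ S := by
    intro v i
    set w : U := ⟨v.1, hfix v.1 v.2⟩
    have h1 : w = ∑ j, (b.repr w j) ^ p • b j := by
      apply Subtype.ext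
      conv_lhs => rw [show (w : V) = v.1 from rfl, show v.1 = F v.1 from v.2.symm, show v.1 = ((∑ j, b.repr w j • b j : U) : V) by rw [b.sum_repr]]
      simp only [Submodule.coe_sum, Submodule.coe_smul, map_sum]
      exact Finset.sum_congr rfl fun j _ => by rw [hF]; exact congrArg _ (hb j)
    have h2 := congrArg (fun w => b.repr w i) h1
    simp only [b.repr_sum_self] at h2
    rw [Multiset.mem_toFinset, Polynomial.mem_roots hne, Polynomial.IsRoot, Polynomial.eval_sub, Polynomial.eval_pow, Polynomial.eval_X, sub_eq_zero]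
    exact h2.symm
  let g : {v : V | F v = v} → (Fin (Module.finrank k U) → S) := fun v i => ⟨_, hco v i⟩
  have hg : Function.Injective g := by
    intro v w h
    have : (⟨v.1, hfix v.1 v.2⟩ : U) = ⟨w.1, hfix w.1 w.2⟩ := b.ext_elem fun i => congrArg Subtype.val (congrFun h i)
    exact Subtype.ext (congrArg (fun z : U => (z : V)) this :)
  haveI : Finite {v : V | F v = v} := Finite.of_injective g hg
  refine ⟨Set.toFinite _, (Nat.card_le_card_of_injective g hg).trans ?_⟩
  rw [Nat.card_fun, Nat.card_fin, Nat.card_eq_finsetCard]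
  exact (Nat.pow_le_pow_left hS _).trans (Nat.pow_le_pow_right (by omega) (Submodule.finrank_le U))

end Groth.Agent.S0078
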