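import Groth.Statements.S0098
import Mathlib
import Groth.Agent.Lib.LUnramPoint

set_option autoImplicit false
open CategoryTheory CategoryTheory.Limits AlgebraicGeometry Opposite
universe u
open EtBase

namespace Groth.Agent.S0098

/-- A finite étale morphism whose fibre over a point s is a single point with the same residue field is
an isomorphism over an open neighbourhood of s. -/
theorem result {X S : Scheme.{u}} (f : X ⟶ S) [IsFinite f] [AlgebraicGeometry.Etale f] (s : S) (x : X)
    (hx : f.base ⁻¹' {s} = {x}) (hκ : Function.Surjective (f.residueFieldMap x)) :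
    ∃ U : S.Opens, s ∈ U ∧ IsIso (f ∣_ U) := by
  obtain ⟨U, hsU, h⟩ := Groth.Agent.LUnramPoint.exists_closedImmersion f s x hx hκ
  let U' : S.Opens := U ⊓ ⟨Set.range f.base, f.isOpenMap.isOpen_range⟩
  have hs : s ∈ U' := by
    refine ⟨hsU, x, ?_⟩
    have : x ∈ f.base ⁻¹' {s} := hx ▸ Set.mem_singleton x
    simpa using this
  refine ⟨U', hs, ?_⟩
  have := h U' inf_le_left
  have : Surjective (f ∣_ U') := ⟨fun y => by
    obtain ⟨z, hz⟩ := y.2.2
    have hz' : f.base z = y.1 := hz
    exact ⟨⟨z, show f.base z ∈ U' by rw [hz']; exact y.2⟩, Subtype.ext (by rw [morphismRestrict_base_coe]; exact hz')⟩⟩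
  exact Flat.isIso_of_surjective_of_mono (f ∣_ U')

end Groth.Agent.S0098
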