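import Groth.Statements.S0102
import Mathlib

set_option autoImplicit false
set_option backward.isDefEq.respectTransparency.types false
open CategoryTheory CategoryTheory.Limits AlgebraicGeometry Opposite
universe u
open EtBase

namespace Groth.Agent.S0102

/-- A section of an abelian étale sheaf over an étale scheme U vanishes on pullback to an étale V → U
exactly when V maps into a certain largest open subset of U. -/
theorem result {S : Scheme.{u}} (F : EtCoh.Ab S) (U : S.Etale) (σ : EtCoh.sect F U) :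
    ∃ W : U.left.Opens, ∀ (V : S.Etale) (φ : V ⟶ U),
      F.obj.map φ.op σ = 0 ↔ Set.range φ.left.base ⊆ (W : Set U.left) := by
  classical
  let J := {p : (V : S.Etale) × (V ⟶ U) // F.obj.map p.2.op σ = 0}
  have ho : IsOpen (⋃ p : J, Set.range p.1.2.left) := isOpen_iUnion fun p => by
    haveI : Etale p.1.2.left := inferInstance
    exact p.1.2.left.isOpenMap.isOpen_range
  refine ⟨⟨_, ho⟩, fun V φ => ⟨fun h => fun y hy => Set.mem_iUnion.2 ⟨⟨⟨V, φ⟩, h⟩, hy⟩, fun h => ?_⟩⟩
  have hcase : ∀ v : V.left, ∃ (Z : S.Etale) (a : Z ⟶ V), v ∈ Set.range a.left ∧ F.obj.map (a ≫ φ).op σ = 0 := fun v => by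
    obtain ⟨p, w, hw⟩ := Set.mem_iUnion.1 (h ⟨v, rfl⟩)
    haveI : Etale p.1.2.left := inferInstance
    haveI : Etale V.hom := V.prop
    let Z := Scheme.Etale.mk (Limits.pullback.fst φ.left p.1.2.left ≫ V.hom)
    let a : Z ⟶ V := MorphismProperty.Over.homMk (Limits.pullback.fst φ.left p.1.2.left) rfl
    let b : Z ⟶ p.1.1 := MorphismProperty.Over.homMk (Limits.pullback.snd φ.left p.1.2.left) (by
      show Limits.pullback.snd φ.left p.1.2.left ≫ p.1.1.hom = Limits.pullback.fst φ.left p.1.2.left ≫ V.hom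
      rw [← MorphismProperty.Over.w φ, ← MorphismProperty.Over.w p.1.2, ← Category.assoc, ← Category.assoc, Limits.pullback.condition])
    obtain ⟨z, hz, -⟩ := Scheme.Pullback.exists_preimage_pullback (f := φ.left) (g := p.1.2.left) v w hw.symm
    refine ⟨Z, a, ⟨z, hz⟩, ?_⟩
    have e : a ≫ φ = b ≫ p.1.2 := MorphismProperty.Over.Hom.ext Limits.pullback.condition
    rw [e, op_comp, Functor.map_comp, ConcreteCategory.comp_apply, p.2, map_zero]
  choose Z a hv h0 using hcase
  have hc : Sieve.ofArrows _ a ∈ S.smallEtaleTopology V := by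
    rw [Scheme.ofArrows_mem_smallEtaleTopology_iff, Set.eq_univ_iff_forall]
    exact fun y => Set.mem_iUnion.2 ⟨y, hv y⟩
  have hsep := (((isSheaf_iff_isSheaf_of_type _ _).1 ((sheafCompose S.smallEtaleTopology (forget AddCommGrpCat.{u + 1})).obj F).property) _ hc).isSeparatedFor
  refine hsep.ext fun W f hf => ?_
  rw [Sieve.ofArrows, Sieve.generate_apply] at hf
  obtain ⟨_, b, _, ⟨v⟩, rfl⟩ := hf
  show F.obj.map (b ≫ a v).op (F.obj.map φ.op σ) = F.obj.map (b ≫ a v).op 0
  rw [map_zero, ← ConcreteCategory.comp_apply, ← Functor.map_comp, ← op_comp, Category.assoc, op_comp, Functor.map_comp, ConcreteCategory.comp_apply, h0, map_zero]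

end Groth.Agent.S0102
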