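import Groth.Statements.S0119
import Groth.Agent.Lib.H6.EtaleReduced

set_option autoImplicit false
set_option linter.all false
open CategoryTheory CategoryTheory.Limits AlgebraicGeometry Opposite
universe u
open EtBase

namespace Groth.Agent.S0119

/-- Let f : X → Y be an étale morphism of schemes with Y locally Noetherian, and let x ∈ X. Then the
local ring O_{X,x} is reduced if and only if the local ring O_{Y,f(x)} is reduced. -/
theorem result {X Y : Scheme.{u}} (f : X ⟶ Y) [AlgebraicGeometry.Etale f]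
    [IsLocallyNoetherian Y] (x : X) :
    _root_.IsReduced (X.presheaf.stalk x) ↔ _root_.IsReduced (Y.presheaf.stalk (f.base x)) := by
  constructor
  · intro hx
    refine isReduced_of_injective (f.stalkMap x).hom ?_
    letI := (f.stalkMap x).hom.toAlgebra
    haveI : Module.FaithfullyFlat (Y.presheaf.stalk (f x)) (X.presheaf.stalk x) :=
      @Module.FaithfullyFlat.of_flat_of_isLocalHom _ _ _ _ _ _ _ (Flat.stalkMap f x) (f.toLRSHom.prop x)
    exact FaithfulSMul.algebraMap_injective (Y.presheaf.stalk (f x)) (X.presheaf.stalk x)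
  · intro hy
    obtain ⟨W, hW, hxW, -⟩ := exists_isAffineOpen_mem_and_subset (X := Y) (x := f x) (U := ⊤) trivial
    obtain ⟨U, hU, hxU, hUW⟩ := exists_isAffineOpen_mem_and_subset (X := X) (x := x) (U := f ⁻¹ᵁ W) hxW
    have hle : U ≤ f ⁻¹ᵁ W := hUW
    algebraize [(f.appLE W U hle).hom]
    haveI : Algebra.Etale Γ(Y, W) Γ(X, U) := f.etale_appLE hW hU hle
    letI := TopCat.Presheaf.algebra_section_stalk Y.presheaf ⟨f x, hxW⟩
    haveI := hW.isLocalization_stalk ⟨f x, hxW⟩
    letI := TopCat.Presheaf.algebra_section_stalk X.presheaf ⟨x, hxU⟩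
    haveI := hU.isLocalization_stalk ⟨x, hxU⟩
    letI := (f.stalkMap x).hom.toAlgebra
    letI : Algebra Γ(Y, W) (X.presheaf.stalk x) := ((algebraMap Γ(X, U) (X.presheaf.stalk x)).comp (algebraMap Γ(Y, W) Γ(X, U))).toAlgebra
    haveI : IsScalarTower Γ(Y, W) Γ(X, U) (X.presheaf.stalk x) := IsScalarTower.of_algebraMap_eq fun a => rfl
    haveI : IsScalarTower Γ(Y, W) (Y.presheaf.stalk (f x)) (X.presheaf.stalk x) := IsScalarTower.of_algebraMap_eq fun a => by
      show X.presheaf.germ U x hxU (f.appLE W U hle a) = f.stalkMap x (Y.presheaf.germ W (f x) hxW a)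
      rw [f.germ_stalkMap_apply W x hxW, Scheme.Hom.appLE, CommRingCat.comp_apply]
      exact X.presheaf.germ_res_apply _ x hxU _
    let T := TensorProduct Γ(Y, W) (Y.presheaf.stalk (f x)) Γ(X, U)
    haveI : _root_.IsReduced T := H6.EtaleReduced.isReduced_of_etale (Y.presheaf.stalk (f x)) T
    let φ : T →ₐ[Y.presheaf.stalk (f x)] X.presheaf.stalk x :=
      Algebra.TensorProduct.lift (Algebra.ofId _ _) (IsScalarTower.toAlgHom Γ(Y, W) Γ(X, U) _) fun _ _ => mul_comm _ _
    refine ⟨fun z hz => ?_⟩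
    obtain ⟨a, s, rfl⟩ := IsLocalization.exists_mk'_eq (hU.primeIdealOf ⟨x, hxU⟩).asIdeal.primeCompl z
    obtain ⟨n, hn⟩ := hz
    rw [← IsLocalization.mk'_pow, IsLocalization.mk'_eq_zero_iff] at hn
    obtain ⟨m, hm⟩ := hn
    have hw : IsNilpotent ((1 : Y.presheaf.stalk (f x)) ⊗ₜ[Γ(Y, W)] ((m : Γ(X, U)) * a) : T) := by
      refine ⟨n + 1, ?_⟩
      rw [Algebra.TensorProduct.tmul_pow, mul_pow, pow_succ (m : Γ(X, U)), pow_succ a, show (m : Γ(X, U)) ^ n * m * (a ^ n * a) = (m : Γ(X, U)) ^ n * a * (m * a ^ n) by ring, hm, mul_zero, TensorProduct.tmul_zero]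
    have := congrArg φ hw.eq_zero
    rw [map_zero, Algebra.TensorProduct.lift_tmul, map_one, one_mul] at this
    change algebraMap Γ(X, U) (X.presheaf.stalk x) ((m : Γ(X, U)) * a) = 0 at this
    rw [map_mul] at this
    rw [IsLocalization.mk'_eq_mul_mk'_one, (IsLocalization.map_units (X.presheaf.stalk x) m).mul_right_eq_zero.1 this, zero_mul]

end Groth.Agent.S0119
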