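import Groth.Statements.S0175
import Mathlib
import Groth.Agent.Lib.LEtExtStalk

set_option autoImplicit false
universe u
open CategoryTheory CategoryTheory.Limits AlgebraicGeometry Opposite
open EtPBC

namespace Groth.Agent.S0175

/-- Let i : Z → X be a closed immersion of schemes with open complement j : U → X, and I an injective
abelian sheaf on X_ét. Then the subsheaf H_Z(I) of sections supported on Z (the kernel of I → j_*
j^* I), viewed on Z_ét via i^*, is an injective abelian sheaf on Z_ét. -/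
theorem result {Z X U : Scheme.{u}} (i : Z ⟶ X) [IsClosedImmersion i]
    (j : U ⟶ X) [IsOpenImmersion j] (hZU : Set.range j = (Set.range i)ᶜ)
    [EtCoh.BCCont i] [EtCoh.BCCont j] (I : EtCoh.Ab X) [Injective I] :
    Injective ((EtCoh.pull i).obj (kernel ((EtCoh.pullPushAdj j).unit.app I))) := by
  let K := kernel ((EtCoh.pullPushAdj j).unit.app I)
  have hd : Disjoint (Set.range i) (Set.range j) := by rw [hZU]; exact disjoint_compl_right
  have hzero : ∀ (Ω : Type u) [Field Ω] [IsSepClosed Ω] (ξ : Spec (CommRingCat.of Ω) ⟶ X),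
      Disjoint (Set.range ξ) (Set.range i) → IsZero ((EtCoh.stalk ξ).obj K) := by
    intro Ω _ _ ξ h
    have h' : ¬ Disjoint (Set.range ξ) (Set.range j) := fun h' => by
      rw [hZU] at h'
      exact Set.disjoint_left.1 h' ⟨default, rfl⟩ (fun hc => Set.disjoint_left.1 h ⟨default, rfl⟩ hc)
    obtain ⟨ζ, rfl⟩ := Groth.Agent.LEtExtStalk.exists_factor_open j ξ h'
    have h1 : IsIso ((EtCoh.pull j).map ((EtCoh.pullPushAdj j).unit.app I) ≫ (EtCoh.pullPushAdj j).counit.app ((EtCoh.pull j).obj I)) := by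
      rw [(EtCoh.pullPushAdj j).left_triangle_components I]
      exact IsIso.id _
    have h2 : IsIso ((EtCoh.pull j).map ((EtCoh.pullPushAdj j).unit.app I)) :=
      IsIso.of_isIso_comp_right _ ((EtCoh.pullPushAdj j).counit.app ((EtCoh.pull j).obj I))
    have h3 : IsIso ((EtCoh.stalk (ζ ≫ j)).map ((EtCoh.pullPushAdj j).unit.app I)) :=
      (NatIso.isIso_map_iff (Groth.Agent.LEtStalkPull.stalkPullIso j ζ) _).1
        (inferInstanceAs (IsIso ((EtCoh.stalk ζ).map ((EtCoh.pull j).map ((EtCoh.pullPushAdj j).unit.app I)))))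
    have h5 : (EtCoh.stalk (ζ ≫ j)).map (kernel.ι ((EtCoh.pullPushAdj j).unit.app I)) = 0 := by
      have : (EtCoh.stalk (ζ ≫ j)).map (kernel.ι ((EtCoh.pullPushAdj j).unit.app I)) ≫
          (EtCoh.stalk (ζ ≫ j)).map ((EtCoh.pullPushAdj j).unit.app I) = 0 := by
        rw [← Functor.map_comp, kernel.condition, Functor.map_zero]
      exact (cancel_mono ((EtCoh.stalk (ζ ≫ j)).map ((EtCoh.pullPushAdj j).unit.app I))).1 (this.trans zero_comp.symm)
    exact IsZero.of_mono_eq_zero ((EtCoh.stalk (ζ ≫ j)).map (kernel.ι ((EtCoh.pullPushAdj j).unit.app I))) h5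
  have hiso : IsIso ((EtCoh.pullPushAdj i).unit.app K) := by
    rw [Groth.Agent.LEtStalk.isIso_iff]
    intro Ω _ _ ξ
    by_cases h : Disjoint (Set.range ξ) (Set.range i)
    · exact IsZero.isIso (hzero Ω ξ h) (Groth.Agent.LEtImm.isZero_stalk_push i i.isClosedEmbedding.isClosed_range _ ξ h) _
    · obtain ⟨ζ, rfl⟩ := Groth.Agent.LEtExtStalk.exists_factor_closed i ξ h
      have := Groth.Agent.LEtClosed.isIso_counit i ((EtCoh.pull i).obj K)
      have : IsIso ((EtCoh.pull i).map ((EtCoh.pullPushAdj i).unit.app K) ≫ (EtCoh.pullPushAdj i).counit.app ((EtCoh.pull i).obj K)) := by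
        rw [(EtCoh.pullPushAdj i).left_triangle_components K]
        exact IsIso.id _
      have : IsIso ((EtCoh.pull i).map ((EtCoh.pullPushAdj i).unit.app K)) :=
        IsIso.of_isIso_comp_right _ ((EtCoh.pullPushAdj i).counit.app ((EtCoh.pull i).obj K))
      exact (NatIso.isIso_map_iff (Groth.Agent.LEtStalkPull.stalkPullIso i ζ) _).1
        (inferInstanceAs (IsIso ((EtCoh.stalk ζ).map ((EtCoh.pull i).map ((EtCoh.pullPushAdj i).unit.app K)))))
  have := hiso
  have := (Groth.Agent.LEtClosed.full_faithful i).1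
  have := (Groth.Agent.LEtClosed.full_faithful i).2
  have : (EtCoh.push i).IsRightAdjoint := (EtCoh.pullPushAdj i).isRightAdjoint
  refine ⟨fun {A B} φ m _ => ?_⟩
  let e : K ≅ (EtCoh.push i).obj ((EtCoh.pull i).obj K) := asIso ((EtCoh.pullPushAdj i).unit.app K)
  let ψ := Injective.factorThru ((EtCoh.push i).map φ ≫ e.inv ≫ kernel.ι _) ((EtCoh.push i).map m)
  have hψ : ψ ≫ (EtCoh.pullPushAdj j).unit.app I = 0 := by
    apply ((EtCoh.pullPushAdj j).homEquiv _ _).symm.injective
    exact (Groth.Agent.LEtExtStalk.isZero_pull_push i j hd B).eq_of_src _ _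
  obtain ⟨χ, hχ⟩ := (EtCoh.push i).map_surjective (kernel.lift _ ψ hψ ≫ e.hom)
  refine ⟨χ, (EtCoh.push i).map_injective ?_⟩
  rw [Functor.map_comp, hχ, ← Category.assoc, ← Iso.eq_comp_inv]
  refine (cancel_mono (kernel.ι _)).1 ?_
  rw [Category.assoc, kernel.lift_ι, Category.assoc]
  exact Injective.comp_factorThru _ _

end Groth.Agent.S0175
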