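import Groth.Statements.S0191
import Groth.Agent.Lib.H7CSAModule

set_option autoImplicit false
universe u v w
open scoped TensorProduct
open Curves

namespace Groth.Agent.S0191

/-- If K is a skew field with center k, every two-sided ideal of A ⊗ K is generated by the elements a ⊗
1 it contains. -/
theorem result (k : Type u) [Field k] (A : Type v) [Ring A] [Algebra k A]
    (K : Type w) [DivisionRing K] [Algebra k K] [Algebra.IsCentral k K]
    (I : TwoSidedIdeal (A ⊗[k] K)) :
    I = TwoSidedIdeal.span ((fun a : A => a ⊗ₜ[k] (1 : K)) '' {a : A | a ⊗ₜ[k] (1 : K) ∈ I}) := by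
  classical
  set s := {a : A | a ⊗ₜ[k] (1 : K) ∈ I} with hs
  set I' := TwoSidedIdeal.span ((fun a : A => a ⊗ₜ[k] (1 : K)) '' s) with hI'
  have hI'I : I' ≤ I := by
    rw [hI', TwoSidedIdeal.span_le]
    rintro _ ⟨a, ha, rfl⟩
    exact ha
  refine le_antisymm ?_ hI'I
  let J : Submodule k A :=
    { carrier := s
      add_mem' := fun {a b} ha hb => by
        change (a + b) ⊗ₜ[k] (1 : K) ∈ I
        rw [TensorProduct.add_tmul]; exact I.add_mem ha hb
      zero_mem' := by
        change (0 : A) ⊗ₜ[k] (1 : K) ∈ I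
        rw [TensorProduct.zero_tmul]; exact I.zero_mem
      smul_mem' := fun c a ha => by
        change (c • a) ⊗ₜ[k] (1 : K) ∈ I
        rw [← TensorProduct.smul_tmul', ← smul_one_mul c (a ⊗ₜ[k] (1 : K))]
        exact I.mul_mem_left _ _ ha }
  obtain ⟨C, hC⟩ := J.exists_isCompl
  have hdec : ∀ z : A ⊗[k] K, ∃ y : (↥C) ⊗[k] K, z - LinearMap.rTensor K C.subtype y ∈ I' := by
    intro z
    induction z using TensorProduct.induction_on with
    | zero => exact ⟨0, by simpa using I'.zero_mem⟩
    | tmul a b =>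
      obtain ⟨j, hj, c, hc, rfl⟩ := Submodule.mem_sup.mp (hC.sup_eq_top ▸ Submodule.mem_top : a ∈ J ⊔ C)
      refine ⟨(⟨c, hc⟩ : C) ⊗ₜ b, ?_⟩
      rw [LinearMap.rTensor_tmul, Submodule.subtype_apply, TensorProduct.add_tmul, add_sub_cancel_right]
      have : j ⊗ₜ[k] (1 : K) ∈ I' := TwoSidedIdeal.subset_span ⟨j, hj, rfl⟩
      have h := I'.mul_mem_left ((1 : A) ⊗ₜ[k] b) _ this
      rwa [Algebra.TensorProduct.tmul_mul_tmul, one_mul, mul_one] at h
    | add p q hp hq =>
      obtain ⟨y, hy⟩ := hp
      obtain ⟨y', hy'⟩ := hq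
      refine ⟨y + y', ?_⟩
      rw [map_add, show p + q - (LinearMap.rTensor K C.subtype y + LinearMap.rTensor K C.subtype y') =
        (p - LinearMap.rTensor K C.subtype y) + (q - LinearMap.rTensor K C.subtype y') by abel]
      exact I'.add_mem hy hy'
  intro z hz
  obtain ⟨y, hy⟩ := hdec z
  suffices hy0 : y = 0 by simpa [hy0] using hy
  by_contra hne
  let e := Module.Basis.ofVectorSpace k C
  set b := TensorProduct.equivFinsuppOfBasisLeft (N := K) e y with hb
  have hyb : (b.sum fun i x => e i ⊗ₜ[k] x) = y := by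
    have := TensorProduct.equivFinsuppOfBasisLeft_symm_apply (N := K) e b
    rw [← this, hb, LinearEquiv.symm_apply_apply]
  have hmem : (b.sum fun i x => ((e i : C) : A) ⊗ₜ[k] x) ∈ I := by
    have h1 : LinearMap.rTensor K C.subtype y ∈ I := by
      have := I.sub_mem hz (hI'I hy)
      rwa [sub_sub_cancel] at this
    rw [← hyb, map_finsuppSum] at h1
    simpa using h1
  obtain ⟨c, hc, hcI⟩ := H7CSA.exists_scalar_family (fun i => ((e i : C) : A)) I b
    (fun h => hne (by rw [← hyb, h, Finsupp.sum_zero_index])) hmem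
  have hcC : (c.sum fun i x => x • ((e i : C) : A)) ∈ C :=
    Submodule.sum_mem _ fun i _ => Submodule.smul_mem _ _ (e i).2
  have h0 : (c.sum fun i x => x • ((e i : C) : A)) = 0 :=
    Submodule.disjoint_def.mp hC.disjoint _ hcI hcC
  apply hc
  apply linearIndependent_iff.mp (e.linearIndependent.map' C.subtype C.ker_subtype) c
  rw [Finsupp.linearCombination_apply]
  exact h0

end Groth.Agent.S0191
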