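import Groth.Statements.S0195
import Groth.Agent.Lib.H7CSAEmbed

set_option autoImplicit false
universe u v w
open scoped TensorProduct
open Curves

namespace Groth.Agent.S0195

/-- A finite extension k' of k splits a finite central simple algebra A exactly when some algebra
similar to A contains k' with dim equal to [k':k]^2. Uses Mathlib's bundled CSA and Brauer
equivalence. -/
theorem result (k : Type u) [Field k] (A : CSA.{u, u} k)
    (k' : Type u) [Field k'] [Algebra k k'] [FiniteDimensional k k'] :
    Curves.Splits k A k' ↔ ∃ (B : CSA.{u, u} k) (_ : k' →ₐ[k] B), IsBrauerEquivalent A B ∧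
      Module.finrank k B = Module.finrank k k' ^ 2 := by
  constructor
  · intro hA
    have : IsArtinianRing A := IsArtinianRing.of_finite k A
    obtain ⟨r, hr, D, _, _, _, ⟨e⟩⟩ := IsSimpleRing.exists_algEquiv_matrix_divisionRing_finite k A
    have : Algebra.IsCentral k (Matrix (Fin r) (Fin r) D) := Algebra.IsCentral.of_algEquiv k A _ e
    have : Algebra.IsCentral k D := ⟨fun z hz => by
      rw [Subalgebra.mem_center_iff] at hz
      have hm : Matrix.scalar (Fin r) z ∈ Subalgebra.center k (Matrix (Fin r) (Fin r) D) :=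
        Subalgebra.mem_center_iff.mpr fun M => by ext i j; simp [hz (M i j)]
      obtain ⟨c, hc⟩ := Algebra.mem_bot.mp (Algebra.IsCentral.out hm)
      refine Algebra.mem_bot.mpr ⟨c, ?_⟩
      have := congrFun (congrFun hc 0) 0
      simpa [Matrix.algebraMap_eq_diagonal] using this⟩
    have hD : Curves.Splits k D k' := H7CSA.splits_of_splits_matrix hr.out (H7CSA.splits_congr e hA)
    obtain ⟨s, hs, ⟨ι⟩, hdim, -⟩ := H7CSA.exists_algHom_matrix_of_splits D k' hD
    have : NeZero s := ⟨hs⟩
    let B : CSA.{u, u} k := { toAlgCat := AlgCat.of k (Matrix (Fin s) (Fin s) D) }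
    refine ⟨B, ι, ⟨s, r, hs, hr.out, ⟨?_⟩⟩, hdim⟩
    exact e.mapMatrix.trans ((Matrix.compAlgEquiv _ _ _ _).trans
      ((Matrix.reindexAlgEquiv k D (Equiv.prodComm (Fin s) (Fin r))).trans
        (Matrix.compAlgEquiv _ _ _ _).symm))
  · rintro ⟨B, ι, ⟨n, m, hn, hm, ⟨e⟩⟩, hdim⟩
    exact H7CSA.splits_of_splits_matrix hn
      (H7CSA.splits_congr e.symm (H7CSA.splits_matrix hm (H7CSA.splits_of_algHom_self ι hdim)))

end Groth.Agent.S0195
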