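import Groth.Statements.S0226
import Groth.Agent.Lib.H1RegUFD
import Mathlib

set_option autoImplicit false
universe u
open Curves

namespace Groth.Agent.S0226

/-- In a regular local ring of dimension two, an ideal inside the maximal ideal with reduced quotient is
zero, the maximal ideal, or principal. -/
theorem result (A : Type u) [CommRing A] [IsRegularLocalRing A] (hdim : ringKrullDim A = 2)
    (I : Ideal A) (hI : I ≤ IsLocalRing.maximalIdeal A) [IsReduced (A ⧸ I)] :
    I = ⊥ ∨ I = IsLocalRing.maximalIdeal A ∨ ∃ f ∈ IsLocalRing.maximalIdeal A, f ≠ 0 ∧ I = Ideal.span {f} := by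
  classical
  obtain ⟨hdom, hufd⟩ := Groth.Agent.H1RegUFD.ufd A
  haveI := hdom
  haveI := hufd
  have hrad : I.radical = I := ((Ideal.isRadical_iff_quotient_reduced I).mpr inferInstance).radical
  by_cases h0 : I = ⊥
  · exact Or.inl h0
  by_cases hm : I = IsLocalRing.maximalIdeal A
  · exact Or.inr (Or.inl hm)
  right; right
  have hfin := Ideal.finite_minimalPrimes_of_isNoetherianRing A I
  have hprinc : ∀ P ∈ I.minimalPrimes, ∃ p : A, Prime p ∧ P = Ideal.span {p} := by
    intro P hP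
    haveI := hP.1.1
    have hPm : P ≠ IsLocalRing.maximalIdeal A := fun h => hm (le_antisymm hI (by
      rw [← hrad, Ideal.radical_eq_sInf]
      refine le_sInf fun J hJ => ?_
      haveI := hJ.2
      have hJ' : P ≤ J := hP.2 ⟨hJ.2, hJ.1⟩ (h ▸ IsLocalRing.le_maximalIdeal hJ.2.ne_top)
      exact h ▸ hJ'))
    have hP0 : P ≠ ⊥ := fun h => h0 (eq_bot_iff.mpr (h ▸ hP.1.2))
    obtain ⟨p, hp, hpp⟩ := hP.1.1.exists_mem_prime_of_ne_bot hP0
    refine ⟨p, hpp, le_antisymm ?_ ((Ideal.span_singleton_le_iff_mem _).mpr hp)⟩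
    by_contra hne
    haveI := (Ideal.span_singleton_prime hpp.ne_zero).mpr hpp
    have h1 := Ideal.height_strict_mono_of_isPrime_of_isPrime
      (lt_of_le_not_ge ((Ideal.span_singleton_le_iff_mem _).mpr hp) hne)
    have h2 := Ideal.height_strict_mono_of_isPrime_of_isPrime
      (bot_lt_iff_ne_bot.mpr (by simpa using hpp.ne_zero) : (⊥ : Ideal A) < Ideal.span {p})
    have h3 := Ideal.height_strict_mono_of_isPrime_of_isPrime
      (lt_of_le_of_ne (IsLocalRing.le_maximalIdeal hP.1.1.ne_top) hPm)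
    have h4 : (IsLocalRing.maximalIdeal A).height ≤ (2 : ℕ∞) := by
      rw [← WithBot.coe_le_coe, IsLocalRing.maximalIdeal_height_eq_ringKrullDim, hdim]; rfl
    have h5 := Order.add_one_le_of_lt h2
    have h6 := Order.add_one_le_of_lt h1
    have h7 := lt_of_lt_of_le h3 h4
    have : ((⊥ : Ideal A).height + 1 + 1 : ℕ∞) < 2 := lt_of_le_of_lt ((add_le_add h5 le_rfl).trans h6) h7
    rw [show (2 : ℕ∞) = 0 + 1 + 1 by norm_num] at this
    exact absurd this (not_lt.mpr (by gcongr; exact bot_le))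
  have key : ∀ s : Finset (Ideal A), (∀ P ∈ s, P ∈ I.minimalPrimes) → ∃ f : A, f ≠ 0 ∧ s.inf id = Ideal.span {f} := by
    intro s
    induction s using Finset.induction_on with
    | empty => intro _; exact ⟨1, one_ne_zero, by simp [Ideal.span_singleton_one]⟩
    | insert P s hPs ih =>
      intro hs
      obtain ⟨f, hf0, hf⟩ := ih fun Q hQ => hs Q (Finset.mem_insert_of_mem hQ)
      have hP := hs P (Finset.mem_insert_self P s)
      obtain ⟨p, hpp, rfl⟩ := hprinc P hP
      have hnd : ¬ p ∣ f := by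
        intro hd
        have hle : s.inf id ≤ Ideal.span {p} := by
          rw [hf, Ideal.span_singleton_le_span_singleton]; exact hd
        obtain ⟨Q, hQ, hQP⟩ := (Ideal.IsPrime.inf_le' hP.1.1).mp hle
        have hQm := hs Q (Finset.mem_insert_of_mem hQ)
        exact hPs (le_antisymm (hP.2 ⟨hQm.1.1, hQm.1.2⟩ hQP) hQP ▸ hQ)
      refine ⟨f * p, mul_ne_zero hf0 hpp.ne_zero, ?_⟩
      rw [Finset.inf_insert, hf]
      refine le_antisymm (fun x hx => ?_) (le_inf ?_ ?_)
      · obtain ⟨⟨a, rfl⟩, h2⟩ := (⟨Ideal.mem_span_singleton.mp hx.2, Ideal.mem_span_singleton.mp hx.1⟩ : f ∣ x ∧ p ∣ x)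
        obtain ⟨b, rfl⟩ := (hpp.dvd_or_dvd h2).resolve_left hnd
        exact Ideal.mem_span_singleton.mpr ⟨b, by ring⟩
      · exact Ideal.span_singleton_le_span_singleton.mpr ⟨f, mul_comm _ _⟩
      · exact Ideal.span_singleton_le_span_singleton.mpr ⟨p, rfl⟩
  obtain ⟨f, hf0, hf⟩ := key hfin.toFinset fun P hP => hfin.mem_toFinset.mp hP
  have hIf : I = Ideal.span {f} := by
    conv_lhs => rw [← hrad, ← Ideal.sInf_minimalPrimes]
    rw [← hf, Finset.inf_id_eq_sInf, Set.Finite.coe_toFinset]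
  exact ⟨f, hI (hIf ▸ Ideal.mem_span_singleton_self f), hf0, hIf⟩

end Groth.Agent.S0226
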