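import Groth.Statements.S0237
import Mathlib.AlgebraicGeometry.Morphisms.UniversallyOpen
import Mathlib.AlgebraicGeometry.PullbackCarrier

set_option autoImplicit false
set_option linter.all false
set_option backward.isDefEq.respectTransparency.types false
universe u
open Pi1 CategoryTheory.Limits

namespace Groth.Agent.S0237

open AlgebraicGeometry CategoryTheory in
/-- If a morphism of schemes has dense image, pulling back finite etale covers along it is faithful. -/
theorem result {X Y : Scheme.{u}} (f : X ⟶ Y)
    (h : DenseRange f.base) : (FEt.restrict f).Faithful := by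
    refine ⟨fun {A B} φ ψ e => ?_⟩
    haveI : AlgebraicGeometry.IsFinite B.hom := B.prop.1
    haveI : Etale B.hom := B.prop.2
    haveI : Etale A.hom := A.prop.2
    let p : A.left ⟶ pullback B.hom B.hom := pullback.lift φ.left ψ.left
      ((MorphismProperty.Over.w φ).trans (MorphismProperty.Over.w ψ).symm)
    let ε := pullback.fst p (pullback.diagonal B.hom)
    haveI : IsOpenImmersion ε := inferInstance
    haveI : IsClosedImmersion ε := inferInstance
    have he := congrArg (fun g => g.left ≫ pullback.fst B.hom f) e
    change pullback.lift (pullback.fst A.hom f ≫ φ.left) _ _ ≫ _ = pullback.lift (pullback.fst A.hom f ≫ ψ.left) _ _ ≫ _ at he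
    rw [pullback.lift_fst, pullback.lift_fst] at he
    have hsub : Set.range (pullback.fst A.hom f).base ⊆ Set.range ε.base := by
      rintro _ ⟨z, rfl⟩
      let l : pullback A.hom f ⟶ pullback p (pullback.diagonal B.hom) :=
        pullback.lift (pullback.fst A.hom f) (pullback.fst A.hom f ≫ φ.left) (by
          apply pullback.hom_ext
          · exact (Category.assoc _ _ _).trans ((congrArg (pullback.fst A.hom f ≫ ·) (pullback.lift_fst _ _ _)).trans
              (((congrArg ((pullback.fst A.hom f ≫ φ.left) ≫ ·) (pullback.diagonal_fst B.hom)).trans (Category.comp_id _)).symm.trans (Category.assoc _ _ _).symm))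
          · exact (Category.assoc _ _ _).trans ((congrArg (pullback.fst A.hom f ≫ ·) (pullback.lift_snd _ _ _)).trans (he.symm.trans
              (((congrArg ((pullback.fst A.hom f ≫ φ.left) ≫ ·) (pullback.diagonal_snd B.hom)).trans (Category.comp_id _)).symm.trans (Category.assoc _ _ _).symm))))
      exact ⟨l.base z, congrArg (fun g : pullback A.hom f ⟶ A.left => g.base z) (pullback.lift_fst _ _ _)⟩
    have hd : Dense (Set.range (pullback.fst A.hom f).base) := by
      rw [show Set.range (pullback.fst A.hom f).base = _ from Scheme.Pullback.range_fst A.hom f]
      exact Dense.preimage h A.hom.isOpenMap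
    haveI : Surjective ε := ⟨fun a => by
      have : closure (Set.range ε.base) = Set.univ := (hd.mono hsub).closure_eq
      rw [ε.isClosedEmbedding.isClosed_range.closure_eq] at this
      have ha : a ∈ Set.range ε.base := this ▸ Set.mem_univ a
      exact ha⟩
    haveI : IsIso ε := (isIso_iff_isOpenImmersion_and_surjective _).mpr ⟨inferInstance, inferInstance⟩
    have hc := pullback.condition (f := p) (g := pullback.diagonal B.hom)
    have h1 : ε ≫ φ.left = pullback.snd _ _ := by
      have := congrArg (· ≫ pullback.fst B.hom B.hom) hc
      simp only [p, Category.assoc, pullback.lift_fst, pullback.diagonal_fst, Category.comp_id] at this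
      exact this
    have h2 : ε ≫ ψ.left = pullback.snd _ _ := by
      have := congrArg (· ≫ pullback.snd B.hom B.hom) hc
      simp only [p, Category.assoc, pullback.lift_snd, pullback.diagonal_snd, Category.comp_id] at this
      exact this
    exact MorphismProperty.Over.Hom.ext ((cancel_epi ε).1 (h1.trans h2.symm))

end Groth.Agent.S0237
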