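import Groth.Statements.S0246
import Mathlib
import Groth.Agent.Lib.LSmoothNormal
import Groth.Agent.Lib.LSchFin

set_option autoImplicit false
universe u
open Pi1

namespace Groth.Agent.S0246

open AlgebraicGeometry CategoryTheory CategoryTheory.Limits in
/-- If Y is finite etale over a normal integral scheme X and Y is connected, then Y is an integral
scheme all of whose local rings are integrally closed domains. -/
theorem result {X : Scheme.{u}} [IsIntegral X] (hX : Pi1.IsNormalScheme X) (Y : FEt.Cat X)
    [ConnectedSpace Y.left] : IsIntegral Y.left ∧ Pi1.IsNormalScheme Y.left := by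
  have hp := Y.prop
  haveI : IsFinite Y.hom := hp.1
  haveI : AlgebraicGeometry.Etale Y.hom := hp.2
  have hN : Pi1.IsNormalScheme Y.left := fun y => (Groth.Agent.LSmoothNormal.stalk_iff Y.hom y).2 (hX _)
  refine ⟨?_, hN⟩
  haveI : IsReduced Y.left := by
    haveI : ∀ y : Y.left, _root_.IsReduced (Y.left.presheaf.stalk y) := fun y => by
      haveI := (hN y).1; infer_instance
    exact isReduced_of_isReduced_stalk _
  have huniq : ∀ y : Y.left, ∀ Z ∈ irreducibleComponents (Y.left : Type u), ∀ Z' ∈ irreducibleComponents (Y.left : Type u),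
      y ∈ Z → y ∈ Z' → Z = Z' := fun y Z hZ Z' hZ' h h' => by
    refine Groth.Agent.LSchFin.exists_unique_component_of_nilradical_prime y ?_ hZ hZ' h h'
    haveI := (hN y).1
    rw [nilradical_eq_zero]; exact Ideal.isPrime_bot
  have hfin : (irreducibleComponents (Y.left : Type u)).Finite := by
    refine Set.Finite.subset ((IsFinite.finite_preimage_singleton Y.hom (genericPoint X)).image fun ξ => closure {ξ}) fun Z hZ => ?_
    obtain ⟨ξ, hξ⟩ := QuasiSober.sober hZ.1 (isClosed_of_mem_irreducibleComponents Z hZ)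
    obtain ⟨ξ', hs, hξ'⟩ := Flat.generalizingMap Y.hom ((genericPoint_spec X).specializes (Set.mem_univ (Y.hom ξ)))
    have hle : Z ⊆ closure {ξ'} := hξ.def ▸ specializes_iff_closure_subset.1 hs
    exact ⟨ξ', hξ', le_antisymm (hZ.2 isIrreducible_singleton.closure hle) hle⟩
  obtain ⟨y₀⟩ := (inferInstance : Nonempty Y.left)
  let Z₀ : Set Y.left := irreducibleComponent y₀
  have hZ₀ := irreducibleComponent_mem_irreducibleComponents y₀
  have hrest : IsClosed (⋃ Z ∈ irreducibleComponents (Y.left : Type u) \ {Z₀}, Z) :=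
    (hfin.subset Set.diff_subset).isClosed_biUnion fun Z hZ => isClosed_of_mem_irreducibleComponents Z hZ.1
  have hcompl : Z₀ᶜ = ⋃ Z ∈ irreducibleComponents (Y.left : Type u) \ {Z₀}, Z := by
    ext y
    simp only [Set.mem_compl_iff, Set.mem_iUnion, Set.mem_diff, Set.mem_singleton_iff, exists_prop]
    refine ⟨fun h => ⟨_, ⟨irreducibleComponent_mem_irreducibleComponents y, fun e => h (e ▸ mem_irreducibleComponent)⟩, mem_irreducibleComponent⟩,
      fun ⟨Z, ⟨hZ, hne⟩, hy⟩ hy₀ => hne (huniq y Z hZ Z₀ hZ₀ hy hy₀)⟩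
  have hclopen : IsClopen Z₀ := ⟨isClosed_irreducibleComponent, isClosed_compl_iff.1 (hcompl ▸ hrest)⟩
  have huniv : Z₀ = Set.univ := (isClopen_iff.1 hclopen).resolve_left (Set.nonempty_iff_ne_empty.1 ⟨y₀, mem_irreducibleComponent⟩)
  haveI : IrreducibleSpace (Y.left : Type u) := by
    refine (irreducibleSpace_def _).2 ?_
    rw [Set.top_eq_univ, ← huniv]; exact isIrreducible_irreducibleComponent
  exact isIntegral_of_irreducibleSpace_of_isReduced _

end Groth.Agent.S0246
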