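import Groth.Statements.S0254
import Groth.Agent.Lib.H6.SepClosedNormal

set_option autoImplicit false
set_option linter.all false
universe u
open Pi1

namespace Groth.Agent.S0254

open AlgebraicGeometry CategoryTheory CategoryTheory.Limits in
/-- An integrally closed local domain whose fraction field is separably closed is henselian with
separably closed residue field (i.e. strictly henselian). -/
theorem result (A : Type u) [CommRing A] [IsDomain A] [IsLocalRing A] [IsIntegrallyClosed A]
    [IsSepClosed (FractionRing A)] :
    HenselianLocalRing A ∧ IsSepClosed (IsLocalRing.ResidueField A) := by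
    refine ⟨Groth.Agent.H6.SepClosedNormal.henselian A (FractionRing A), ?_⟩
    by_cases h : IsLocalRing.maximalIdeal A = ⊥
    · have hf : IsField A := IsLocalRing.isField_iff_maximalIdeal_eq.2 h
      letI := hf.toField
      have hb : Function.Bijective (algebraMap A (FractionRing A)) :=
        ⟨IsFractionRing.injective A _, fun x => by
          obtain ⟨a, b, hb, rfl⟩ := IsFractionRing.div_surjective A x
          exact ⟨a * b⁻¹, by rw [map_mul, map_inv₀, div_eq_mul_inv]⟩⟩
      have hr : Function.Bijective (IsLocalRing.residue A) := ⟨(IsLocalRing.residue A).injective, IsLocalRing.residue_surjective⟩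
      let e : IsLocalRing.ResidueField A ≃+* FractionRing A := (RingEquiv.ofBijective _ hr).symm.trans (RingEquiv.ofBijective _ hb)
      refine IsSepClosed.of_exists_root _ fun q hq hirr hsep => ?_
      obtain ⟨x, hx⟩ := IsSepClosed.exists_root (q.map e.toRingHom)
        (by rw [Polynomial.degree_map]; exact hirr.degree_pos.ne') (hsep.map)
      refine ⟨e.symm x, e.injective ?_⟩
      rw [map_zero, ← hx.eq_zero]
      conv_rhs => rw [← e.apply_symm_apply x]
      exact (Polynomial.eval_map_apply (f := e.toRingHom) (e.symm x)).symm
    · haveI := Groth.Agent.H6.SepClosedNormal.isAlgClosed_residue A (FractionRing A) h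
      infer_instance

end Groth.Agent.S0254
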