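import Groth.Statements.S0258
import Groth.Agent.Lib.H6.Hartogs2
import Mathlib.AlgebraicGeometry.Noetherian
import Mathlib.AlgebraicGeometry.Stalk

set_option autoImplicit false
set_option linter.all false
set_option backward.isDefEq.respectTransparency.types false
universe u
open Pi1

namespace Groth.Agent.S0258

open AlgebraicGeometry CategoryTheory CategoryTheory.Limits in
/-- For a Noetherian local ring A of depth at least 2, the functor restricting finite étale covers of
Spec A to the punctured spectrum is fully faithful (full and faithful). The published statement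
assumes instead that the punctured spectrum of the strict henselization of A is connected; depth at
least 2 is a sufficient condition for this, and the result is stated here under that hypothesis. -/
theorem result (A : Type u) [CommRing A] [IsNoetherianRing A] [IsLocalRing A] (hA : (2 : ℕ∞) ≤ LocCoh.depth A A) :
    (FEt.restrict (FEt.puncturedSpec A).ι).Full ∧ (FEt.restrict (FEt.puncturedSpec A).ι).Faithful := by
    haveI : IsNoetherianRing (CommRingCat.of A) := ‹IsNoetherianRing A›
    let U := FEt.puncturedSpec A
    haveI : IsNoetherian (Spec (CommRingCat.of A)) := inferInstance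
    haveI : QuasiCompact U.ι := inferInstance
    have hp : Groth.Agent.H6.Hartogs.PairOff U := fun z hz => by
      have hz' : z = IsLocalRing.closedPoint A := not_not.1 hz
      subst hz'
      obtain ⟨a, b, ha, hb, hab⟩ := Groth.Agent.H6.Hartogs.pair_of_depth hA
      let e : A ≃+* (Spec (CommRingCat.of A)).presheaf.stalk (IsLocalRing.closedPoint A) :=
        (stalkClosedPointIso (CommRingCat.of A)).symm.commRingCatIsoToRingEquiv
      have hm' : ∀ y ∈ IsLocalRing.maximalIdeal A,
          e y ∈ IsLocalRing.maximalIdeal ((Spec (CommRingCat.of A)).presheaf.stalk (IsLocalRing.closedPoint A)) := fun y hy => by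
        rw [IsLocalRing.mem_maximalIdeal, mem_nonunits_iff] at hy ⊢
        exact fun h => hy ((isUnit_map_iff e y).1 h)
      refine ⟨e a, e b, hm' a ha, hm' b hb, (AddEquiv.isWeaklyRegular_congr (e := e.toAddEquiv) ?_).1 hab⟩
      exact .cons (fun m => map_mul e a m) (.cons (fun m => map_mul e b m) .nil)
    refine ⟨⟨fun {P Q} φ => ?_⟩, ⟨fun {P Q} φ ψ e => ?_⟩⟩
    · haveI : Flat P.hom := by haveI := P.prop.2; infer_instance
      haveI : IsAffineHom Q.hom := by haveI := Q.prop.1; infer_instance
      have hi : (P.hom ⁻¹ᵁ U).ι ≫ P.hom = (P.hom ∣_ U) ≫ U.ι := (morphismRestrict_ι _ _).symm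
      let j : (P.hom ⁻¹ᵁ U).toScheme ⟶ pullback P.hom U.ι := pullback.lift (P.hom ⁻¹ᵁ U).ι (P.hom ∣_ U) hi
      let φ' : pullback P.hom U.ι ⟶ pullback Q.hom U.ι := φ.left
      have hw : φ' ≫ pullback.snd Q.hom U.ι = pullback.snd P.hom U.ι := MorphismProperty.Over.w φ
      obtain ⟨s, ⟨hs1, hs2⟩, -⟩ := Groth.Agent.H6.Hartogs.extend_over P.hom Q.hom U hp (j ≫ φ' ≫ pullback.fst Q.hom U.ι) (by
        simp only [Category.assoc, pullback.condition]
        rw [reassoc_of% hw, pullback.lift_snd_assoc]
        exact hi.symm)
      refine ⟨MorphismProperty.Over.homMk s hs1 trivial, ?_⟩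
      apply MorphismProperty.Over.Hom.ext
      show pullback.lift (pullback.fst P.hom U.ι ≫ s) (pullback.snd P.hom U.ι) _ = φ'
      apply pullback.hom_ext
      · rw [pullback.lift_fst]
        haveI : IsIso j := by
          have : j = (isPullback_morphismRestrict P.hom U).flip.isoPullback.hom := by
            apply pullback.hom_ext
            · exact (pullback.lift_fst _ _ _).trans (IsPullback.isoPullback_hom_fst _).symm
            · exact (pullback.lift_snd _ _ _).trans (IsPullback.isoPullback_hom_snd _).symm
          rw [this]; infer_instance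
        refine (cancel_epi j).1 ?_
        rw [← Category.assoc]
        exact (congrArg (· ≫ s) (pullback.lift_fst _ _ _)).trans hs2
      · rw [pullback.lift_snd]
        exact hw.symm
    · haveI : Flat P.hom := by haveI := P.prop.2; infer_instance
      haveI : IsAffineHom Q.hom := by haveI := Q.prop.1; infer_instance
      have he := congrArg (fun g => g.left ≫ pullback.fst Q.hom U.ι) e
      change pullback.lift (pullback.fst P.hom U.ι ≫ φ.left) _ _ ≫ _ = pullback.lift (pullback.fst P.hom U.ι ≫ ψ.left) _ _ ≫ _ at he
      rw [pullback.lift_fst, pullback.lift_fst] at he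
      let j : (P.hom ⁻¹ᵁ U).toScheme ⟶ pullback P.hom U.ι :=
        pullback.lift (P.hom ⁻¹ᵁ U).ι (P.hom ∣_ U) (morphismRestrict_ι _ _).symm
      have hj : j ≫ pullback.fst P.hom U.ι = (P.hom ⁻¹ᵁ U).ι := pullback.lift_fst _ _ _
      obtain ⟨s, -, hu⟩ := Groth.Agent.H6.Hartogs.extend_over P.hom Q.hom U hp ((P.hom ⁻¹ᵁ U).ι ≫ φ.left)
        (by rw [Category.assoc, MorphismProperty.Over.w φ])
      apply MorphismProperty.Over.Hom.ext
      refine (hu φ.left ⟨MorphismProperty.Over.w φ, rfl⟩).trans (hu ψ.left ⟨MorphismProperty.Over.w ψ, ?_⟩).symm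
      rw [← hj, Category.assoc, Category.assoc, he]

end Groth.Agent.S0258
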