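import Groth.Statements.S0259
import Groth.Agent.Lib.H6.Hartogs2
import Mathlib.AlgebraicGeometry.Noetherian

set_option autoImplicit false
set_option linter.all false
set_option backward.isDefEq.respectTransparency.types false
universe u
open Pi1

namespace Groth.Agent.S0259

open AlgebraicGeometry CategoryTheory CategoryTheory.Limits in
/-- Let X be a Noetherian scheme and U ⊆ X a dense open subscheme such that at every point x outside U
the local ring 𝒪_{X,x} has depth at least 2. Then the functor restricting finite étale covers of X
to U is full and faithful. (The published statement assumes instead that the punctured spectra of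
the strict henselizations of X at the points outside U are connected; depth at least 2 is a
sufficient condition for this and is what is assumed here.) -/
theorem result {X : Scheme.{u}} [IsNoetherian X] (U : X.Opens) (hU : Dense (U : Set X))
    (h : ∀ x : X, x ∉ U → (2 : ℕ∞) ≤ LocCoh.depth (X.presheaf.stalk x) (X.presheaf.stalk x)) :
    (FEt.restrict U.ι).Full ∧ (FEt.restrict U.ι).Faithful := by
    haveI : QuasiCompact U.ι := inferInstance
    have hp := Groth.Agent.H6.Hartogs.pairOff_of_depth U h
    refine ⟨⟨fun {A B} φ => ?_⟩, ⟨fun {A B} φ ψ e => ?_⟩⟩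
    · haveI : Flat A.hom := by haveI := A.prop.2; infer_instance
      haveI : IsAffineHom B.hom := by haveI := B.prop.1; infer_instance
      have hi : (A.hom ⁻¹ᵁ U).ι ≫ A.hom = (A.hom ∣_ U) ≫ U.ι := (morphismRestrict_ι _ _).symm
      let j : (A.hom ⁻¹ᵁ U).toScheme ⟶ pullback A.hom U.ι := pullback.lift (A.hom ⁻¹ᵁ U).ι (A.hom ∣_ U) hi
      let φ' : pullback A.hom U.ι ⟶ pullback B.hom U.ι := φ.left
      have hw : φ' ≫ pullback.snd B.hom U.ι = pullback.snd A.hom U.ι := MorphismProperty.Over.w φ
      obtain ⟨s, ⟨hs1, hs2⟩, -⟩ := Groth.Agent.H6.Hartogs.extend_over A.hom B.hom U hp (j ≫ φ' ≫ pullback.fst B.hom U.ι) (by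
        simp only [Category.assoc, pullback.condition]
        rw [reassoc_of% hw, pullback.lift_snd_assoc]
        exact hi.symm)
      refine ⟨MorphismProperty.Over.homMk s hs1 trivial, ?_⟩
      apply MorphismProperty.Over.Hom.ext
      show pullback.lift (pullback.fst A.hom U.ι ≫ s) (pullback.snd A.hom U.ι) _ = φ'
      apply pullback.hom_ext
      · rw [pullback.lift_fst]
        haveI : IsIso j := by
          have : j = (isPullback_morphismRestrict A.hom U).flip.isoPullback.hom := by
            apply pullback.hom_ext
            · exact (pullback.lift_fst _ _ _).trans (IsPullback.isoPullback_hom_fst _).symm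
            · exact (pullback.lift_snd _ _ _).trans (IsPullback.isoPullback_hom_snd _).symm
          rw [this]; infer_instance
        refine (cancel_epi j).1 ?_
        rw [← Category.assoc]
        exact (congrArg (· ≫ s) (pullback.lift_fst _ _ _)).trans hs2
      · rw [pullback.lift_snd]
        exact hw.symm
    · haveI : Flat A.hom := by haveI := A.prop.2; infer_instance
      haveI : IsAffineHom B.hom := by haveI := B.prop.1; infer_instance
      have he := congrArg (fun g => g.left ≫ pullback.fst B.hom U.ι) e
      change pullback.lift (pullback.fst A.hom U.ι ≫ φ.left) _ _ ≫ _ = pullback.lift (pullback.fst A.hom U.ι ≫ ψ.left) _ _ ≫ _ at he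
      rw [pullback.lift_fst, pullback.lift_fst] at he
      let j : (A.hom ⁻¹ᵁ U).toScheme ⟶ pullback A.hom U.ι :=
        pullback.lift (A.hom ⁻¹ᵁ U).ι (A.hom ∣_ U) (morphismRestrict_ι _ _).symm
      have hj : j ≫ pullback.fst A.hom U.ι = (A.hom ⁻¹ᵁ U).ι := pullback.lift_fst _ _ _
      obtain ⟨s, -, hu⟩ := Groth.Agent.H6.Hartogs.extend_over A.hom B.hom U hp ((A.hom ⁻¹ᵁ U).ι ≫ φ.left)
        (by rw [Category.assoc, MorphismProperty.Over.w φ])
      apply MorphismProperty.Over.Hom.ext
      refine (hu φ.left ⟨MorphismProperty.Over.w φ, rfl⟩).trans (hu ψ.left ⟨MorphismProperty.Over.w ψ, ?_⟩).symm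
      rw [← hj, Category.assoc, Category.assoc, he]

end Groth.Agent.S0259
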