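import Groth.Statements.S0267
import Groth.Agent.Lib.H6.GaloisX

set_option autoImplicit false
set_option linter.all false
universe u v
open Pi1

namespace Groth.Agent.S0267

open CategoryTheory CategoryTheory.Limits in
/-- For an exact functor H between Galois categories, H is fully faithful exactly when it carries
connected objects to connected objects (both are equivalent to surjectivity of the induced map on
fundamental groups). -/
theorem result {C : Type u} [Category.{v} C]
    [GaloisCategory C] {D : Type u} [Category.{v} D] [GaloisCategory D]
    (H : C ⥤ D) [PreservesFiniteLimits H] [PreservesFiniteColimits H] :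
    (H.Full ∧ H.Faithful) ↔
      ∀ X : C, PreGaloisCategory.IsConnected X → PreGaloisCategory.IsConnected (H.obj X) := by
    open PreGaloisCategory Groth.Agent.H6.GaloisX in
    let F := GaloisCategory.getFiberFunctor C
    let F'' := GaloisCategory.getFiberFunctor D
    haveI : PreservesFiniteLimits (H ⋙ F'') := comp_preservesFiniteLimits H F''
    open Groth.Agent.H6.GaloisX PreGaloisCategory in
    obtain ⟨e⟩ := nonempty_iso F (H ⋙ F'') (fun X hX => nonempty_of_epi F (H ⋙ F'') X hX)
    haveI := Groth.Agent.H6.GaloisX.fiberFunctor_of_iso e
    open Groth.Agent.H6.GaloisX PreGaloisCategory in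
    exact ⟨fun ⟨_, _⟩ X hX => by
        haveI := hX
        haveI := pretransitive_of_full H F'' X
        haveI : Nonempty (F''.obj (H.obj X)) := nonempty_fiber_of_isConnected (H ⋙ F'') X
        exact isConnected_of_pretransitive F'' (H.obj X),
      fun h => ⟨full_of_surjective H F'' (surjective_of_pretransitive H F'' fun X hX => by
        haveI := h X hX
        infer_instance), faithful_of_fiber H F''⟩⟩

end Groth.Agent.S0267
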