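import Groth.Statements.S0291
import Groth.Agent.Lib.H6.Hartogs2
import Mathlib.AlgebraicGeometry.Noetherian
import Mathlib.RingTheory.Ideal.GoingUp

set_option autoImplicit false
set_option linter.all false
universe u
open Pi1

namespace Groth.Agent.S0291

open AlgebraicGeometry CategoryTheory CategoryTheory.Limits in
/-- Let A be a Noetherian local ring and B a finite A-algebra such that the local rings of Spec B at all
closed points have depth at least 2. Then restriction from global sections of Spec B to sections
over the preimage of the punctured spectrum of A is an isomorphism. -/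
theorem result (A B : Type u) [CommRing A] [IsNoetherianRing A] [IsLocalRing A] [CommRing B] [Algebra A B]
    [Module.Finite A B]
    (h : ∀ (m : Ideal B) (_ : m.IsMaximal), (2 : ℕ∞) ≤ LocCoh.depth (Localization.AtPrime m) (Localization.AtPrime m)) :
    IsIso ((Spec (CommRingCat.of B)).presheaf.map (homOfLE (le_top :
      Spec.map (CommRingCat.ofHom (algebraMap A B)) ⁻¹ᵁ FEt.puncturedSpec A ≤ ⊤)).op) := by
    haveI : IsNoetherianRing B := isNoetherian_of_tower A (inferInstanceAs (IsNoetherian A B))
    let ψ := Spec.map (CommRingCat.ofHom (algebraMap A B))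
    let U := ψ ⁻¹ᵁ FEt.puncturedSpec A
    haveI : IsNoetherianRing (CommRingCat.of B) := ‹IsNoetherianRing B›
    haveI : IsNoetherian (Spec (CommRingCat.of B)) := inferInstance
    have hp : Groth.Agent.H6.Hartogs.PairOff U := fun z hz => by
      have hcl : ψ.base z = IsLocalRing.closedPoint A := by
        by_contra h'; exact hz h'
      let P : PrimeSpectrum B := z
      haveI : Algebra.IsIntegral A B := Algebra.IsIntegral.of_finite A B
      have hc : P.asIdeal.comap (algebraMap A B) = IsLocalRing.maximalIdeal A := congrArg PrimeSpectrum.asIdeal hcl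
      haveI : (P.asIdeal.comap (algebraMap A B)).IsMaximal := hc ▸ IsLocalRing.maximalIdeal.isMaximal A
      have hm : P.asIdeal.IsMaximal := Ideal.isMaximal_of_isIntegral_of_isMaximal_comap P.asIdeal ‹_›
      obtain ⟨a, b, ha, hb, hab⟩ := Groth.Agent.H6.Hartogs.pair_of_depth (R := Localization.AtPrime P.asIdeal) (h P.asIdeal hm)
      let e : Localization.AtPrime P.asIdeal ≃+* (Spec (CommRingCat.of B)).presheaf.stalk z :=
        (StructureSheaf.stalkIso B P).toRingEquiv
      have hm' : ∀ y ∈ IsLocalRing.maximalIdeal (Localization.AtPrime P.asIdeal),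
          e y ∈ IsLocalRing.maximalIdeal ((Spec (CommRingCat.of B)).presheaf.stalk z) := fun y hy => by
        rw [IsLocalRing.mem_maximalIdeal, mem_nonunits_iff] at hy ⊢
        exact fun h => hy ((isUnit_map_iff e y).1 h)
      refine ⟨e a, e b, hm' a ha, hm' b hb, (AddEquiv.isWeaklyRegular_congr (e := e.toAddEquiv) ?_).1 hab⟩
      exact .cons (fun m => map_mul e a m) (.cons (fun m => map_mul e b m) .nil)
    rw [ConcreteCategory.isIso_iff_bijective]
    exact Groth.Agent.H6.Hartogs.restrict_bijective (Spec (CommRingCat.of B)) U hp

end Groth.Agent.S0291
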