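import Groth.Statements.S0294
import Mathlib.AlgebraicGeometry.Morphisms.Finite
import Mathlib.RingTheory.Finiteness.Basic
import Mathlib.LinearAlgebra.FreeModule.Finite.Basic
import Mathlib.RingTheory.AlgebraicIndependent.Defs
import Mathlib.FieldTheory.Tower

set_option autoImplicit false
set_option linter.all false
universe u
open Pi1

namespace Groth.Agent.S0294

open AlgebraicGeometry CategoryTheory CategoryTheory.Limits in
/-- For a finite étale cover Y of a scheme X and a point ξ : Spec Ω → X with values in a field Ω, the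
fibre of Y over ξ (the set of Ω-valued points of Y lying over ξ) is finite. -/
theorem result {X : Scheme.{u}} {Ω : Type u} [Field Ω] (ξ : Spec (CommRingCat.of Ω) ⟶ X) (Y : FEt.Cat X) :
    Finite (FEt.fiberObj ξ Y) := by
    let P := pullback Y.hom ξ
    let g := pullback.snd Y.hom ξ
    haveI : AlgebraicGeometry.IsFinite Y.hom := Y.prop.1
    haveI : AlgebraicGeometry.IsFinite g := MorphismProperty.pullback_snd (P := @AlgebraicGeometry.IsFinite) _ _ inferInstance
    haveI : IsAffine P := isAffine_of_isAffineHom g
    let ι := (Scheme.ΓSpecIso (CommRingCat.of Ω))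
    letI : Algebra Ω Γ(P, ⊤) := (ι.inv ≫ g.appTop).hom.toAlgebra
    haveI : Module.Finite Ω Γ(P, ⊤) := by
      have h1 : g.appTop.hom.Finite := AlgebraicGeometry.IsFinite.finite_app g ⊤ (isAffineOpen_top _)
      have h2 : ι.inv.hom.Finite := RingHom.Finite.of_surjective _ ι.commRingCatIsoToRingEquiv.symm.surjective
      exact h1.comp h2
    let sec : FEt.fiberObj ξ Y → (Γ(P, ⊤) →ₐ[Ω] Ω) := fun s =>
      { ((pullback.lift s.1 (𝟙 _) (by rw [Category.id_comp]; exact s.2) : Spec (CommRingCat.of Ω) ⟶ P).appTop ≫ ι.hom).hom with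
        commutes' := fun a => by
          have h : g.appTop ≫ (pullback.lift s.1 (𝟙 _) (by rw [Category.id_comp]; exact s.2) : Spec (CommRingCat.of Ω) ⟶ P).appTop = 𝟙 _ := by
            rw [← Scheme.Hom.comp_appTop, pullback.lift_snd]; exact Scheme.Hom.id_appTop
          have h' : (ι.inv ≫ g.appTop) ≫ (pullback.lift s.1 (𝟙 _) (by rw [Category.id_comp]; exact s.2) : Spec (CommRingCat.of Ω) ⟶ P).appTop ≫ ι.hom = 𝟙 _ := by
            rw [Category.assoc, reassoc_of% h, Iso.inv_hom_id]
          exact ConcreteCategory.congr_hom h' a }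
    refine Finite.of_injective sec fun s t h => Subtype.ext ?_
    have h1 : (pullback.lift s.1 (𝟙 _) (by rw [Category.id_comp]; exact s.2) : Spec (CommRingCat.of Ω) ⟶ P) =
        pullback.lift t.1 (𝟙 _) (by rw [Category.id_comp]; exact t.2) := by
      apply ext_of_isAffine
      refine (cancel_mono ι.hom).1 ?_
      exact CommRingCat.hom_ext (congrArg AlgHom.toRingHom h)
    have := congrArg (· ≫ pullback.fst Y.hom ξ) h1
    exact ((pullback.lift_fst _ _ _).symm.trans this).trans (pullback.lift_fst _ _ _)

end Groth.Agent.S0294
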