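import Groth.Statements.S0301
import Groth.Prelude.Def_Wider
import Groth.Agent.Lib.InjHullBasic
import Mathlib

set_option autoImplicit false
universe u v
open InjHull

namespace Groth.Agent.S0301

/-- Over a Noetherian ring, the submodule of an injective module consisting of the elements killed by
some power of a given ideal is again injective. -/
theorem result (R : Type u) [CommRing R] [IsNoetherianRing R] (I : Type u) [AddCommGroup I] [Module R I] (hI : Module.Injective R I) (J : Ideal R) : Module.Injective R ↥(⨆ n : ℕ, Submodule.torsionBySet R I ((J ^ n : Ideal R) : Set R)) := by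
  classical
  set T : ℕ → Submodule R I := fun n => Submodule.torsionBySet R I ((J ^ n : Ideal R) : Set R) with hT
  have hmono : Monotone T := fun m n hmn => Submodule.torsionBySet_le_torsionBySet_of_subset
    (fun x hx => Ideal.pow_le_pow_right hmn hx)
  refine Module.Baer.injective ?_
  intro a g
  have hfg : a.FG := isNoetherian_def.mp inferInstance a
  let g' : a →ₗ[R] I := (⨆ n, T n).subtype ∘ₗ g
  -- a power of J kills the image
  obtain ⟨n, hn⟩ : ∃ n, ∀ x : a, g' x ∈ T n := by
    have hP : (LinearMap.range g').FG := by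
      rw [LinearMap.range_eq_map]
      exact ((Submodule.fg_top _).mpr hfg).map _
    obtain ⟨s, hs⟩ := hP
    have : ∀ j : s, ∃ n, (j : I) ∈ T n := fun j => by
      obtain ⟨x, hx⟩ : (j : I) ∈ LinearMap.range g' := hs ▸ Submodule.subset_span j.2
      exact (Submodule.mem_iSup_of_directed _ hmono.directed_le).mp (hx ▸ (g x).2)
    choose n hn using this
    refine ⟨(Finset.univ : Finset s).sup n, fun x => ?_⟩
    have hx : g' x ∈ Submodule.span R (s : Set I) := hs.symm ▸ LinearMap.mem_range_self g' x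
    exact Submodule.span_le.mpr
      (fun j hj => hmono (Finset.le_sup (f := n) (Finset.mem_univ (⟨j, hj⟩ : s))) (hn ⟨j, hj⟩)) hx
  obtain ⟨k, hk⟩ := Ideal.exists_pow_inf_eq_pow_smul J (a : Submodule R R)
  -- g' vanishes on a ⊓ J^(n+k)
  have hvan : ∀ x : a, (x : R) ∈ J ^ (n + k) → g' x = 0 := by
    intro x hx
    have h1 : (x : R) ∈ J ^ (n + k) • (⊤ : Submodule R R) ⊓ a := ⟨by simpa using hx, x.2⟩
    rw [hk (n + k) (by omega), Nat.add_sub_cancel] at h1
    have h2 : ∀ y, ∀ hy : y ∈ J ^ n • ((J ^ k • (⊤ : Submodule R R)) ⊓ a), ∃ hya : y ∈ a, g' ⟨y, hya⟩ = 0 := by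
      intro y hy
      refine Submodule.smul_induction_on hy (fun r hr z hz => ?_) (fun y z hy hz => ?_)
      · refine ⟨Submodule.smul_mem _ r hz.2, ?_⟩
        have : g' (r • ⟨z, hz.2⟩) = 0 := by
          rw [map_smul]
          exact (Submodule.mem_torsionBySet_iff _ _).mp (hn ⟨z, hz.2⟩) ⟨r, hr⟩
        exact this
      · obtain ⟨hya, h1⟩ := hy
        obtain ⟨hza, h2⟩ := hz
        refine ⟨add_mem hya hza, ?_⟩
        rw [show (⟨y + z, add_mem hya hza⟩ : a) = ⟨y, hya⟩ + ⟨z, hza⟩ from rfl, map_add, h1, h2, add_zero]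
    exact (h2 _ h1).2
  -- extend to a + J^(n+k), zero on J^(n+k)
  let A : R →ₗ.[R] I := ⟨a, g'⟩
  let B : R →ₗ.[R] I := ⟨J ^ (n + k), 0⟩
  have hAB : ∀ (x : A.domain) (y : B.domain), (x : R) = y → A x = B y := by
    intro x y h
    exact hvan x (h ▸ y.2)
  let C := A.sup B hAB
  obtain ⟨φ, hφ⟩ := Module.Baer.of_injective hI C.domain C.toFun
  have hφa : ∀ x (hx : x ∈ a), φ x = g' ⟨x, hx⟩ := by
    intro x hx
    have hxC : x ∈ C.domain := Submodule.mem_sup_left hx
    rw [hφ x hxC]
    exact (LinearPMap.sup_apply hAB ⟨x, hx⟩ ⟨0, zero_mem _⟩ ⟨x, hxC⟩ (by simp)).trans (by simp [A, B])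
  have hφJ : ∀ x ∈ J ^ (n + k), φ x = 0 := by
    intro x hx
    have hxC : x ∈ C.domain := Submodule.mem_sup_right hx
    rw [hφ x hxC]
    exact (LinearPMap.sup_apply hAB ⟨0, zero_mem _⟩ ⟨x, hx⟩ ⟨x, hxC⟩ (by simp)).trans (by simp only [A, B]; exact (add_eq_left.mpr rfl).trans (map_zero g'))
  have hmem : φ 1 ∈ ⨆ n, T n := by
    refine Submodule.mem_iSup_of_mem (n + k) ((Submodule.mem_torsionBySet_iff _ _).mpr ?_)
    rintro ⟨r, hr⟩
    show r • φ 1 = 0
    rw [← map_smul, smul_eq_mul, mul_one]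
    exact hφJ r hr
  refine ⟨LinearMap.toSpanSingleton R _ ⟨φ 1, hmem⟩, fun x hx => Subtype.ext ?_⟩
  show x • φ 1 = _
  rw [← map_smul, smul_eq_mul, mul_one]
  exact hφa x hx

end Groth.Agent.S0301
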