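import Groth.Statements.S0304
import Groth.Prelude.Def_Wider
import Groth.Agent.Lib.InjHullBasic
import Mathlib

set_option autoImplicit false
universe u v
open InjHull

namespace Groth.Agent.S0304

/-- Let R be a commutative ring and E an indecomposable injective R-module. Then any two nonzero
submodules of E have nonzero intersection, and the set of elements r ∈ R such that r·x = 0 for some
nonzero x ∈ E is a prime ideal of R. -/
theorem result (R : Type u) [CommRing R] (E : Type u) [AddCommGroup E] [Module R E] (hE : InjHull.IsIndecomposable R E) (hinj : Module.Injective R E) : (∀ N N' : Submodule R E, N ≠ ⊥ → N' ≠ ⊥ → N ⊓ N' ≠ ⊥) ∧ ∃ p : Ideal R, p.IsPrime ∧ (p : Set R) = {r : R | ∃ x : E, x ≠ 0 ∧ r • x = 0} := by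
  have hU : ∀ N N' : Submodule R E, N ≠ ⊥ → N' ≠ ⊥ → N ⊓ N' ≠ ⊥ :=
    fun N N' h h' => Groth.Agent.IH.uniform_of_indecomposable hE.2 hinj h h'
  refine ⟨hU, ?_⟩
  obtain ⟨hnt, -⟩ := hE
  obtain ⟨x₀, hx₀⟩ := exists_ne (0 : E)
  let p : Ideal R :=
    { carrier := {r : R | ∃ x : E, x ≠ 0 ∧ r • x = 0}
      zero_mem' := ⟨x₀, hx₀, zero_smul R x₀⟩
      add_mem' := by
        rintro a b ⟨x, hx, hax⟩ ⟨y, hy, hby⟩
        obtain ⟨z, ⟨hz1, hz2⟩, hz0⟩ := Submodule.exists_mem_ne_zero_of_ne_bot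
          (hU (Submodule.span R {x}) (Submodule.span R {y}) (by simpa using hx) (by simpa using hy))
        obtain ⟨c, rfl⟩ := Submodule.mem_span_singleton.mp hz1
        obtain ⟨d, hd⟩ := Submodule.mem_span_singleton.mp hz2
        refine ⟨c • x, hz0, ?_⟩
        rw [add_smul, smul_comm a c x, hax, smul_zero, zero_add, ← hd, smul_comm b d y, hby, smul_zero]
      smul_mem' := by
        rintro c a ⟨x, hx, hax⟩
        exact ⟨x, hx, by rw [smul_eq_mul, mul_smul, hax, smul_zero]⟩ }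
  refine ⟨p, ⟨?_, ?_⟩, rfl⟩
  · intro h
    obtain ⟨x, hx, h1⟩ := (Ideal.eq_top_iff_one p).mp h
    exact hx (by simpa using h1)
  · rintro a b ⟨x, hx, hab⟩
    by_cases hbx : b • x = 0
    · exact Or.inr ⟨x, hx, hbx⟩
    · exact Or.inl ⟨b • x, hbx, by rw [← mul_smul]; exact hab⟩

end Groth.Agent.S0304
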