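import Groth.Statements.S0306
import Mathlib
import Groth.Prelude.Def_Wider
import Groth.Agent.Lib.InjHullPrime
import Groth.Agent.Lib.MatlisDuality
import Groth.Agent.S0305
import Groth.Agent.S0300
import Groth.Agent.S11664

set_option autoImplicit false
universe u v
open InjHull

namespace Groth.Agent.S0306

/-- Over a Noetherian ring every indecomposable injective module is an injective hull of the residue
field of some prime. -/
theorem result (R : Type u) [CommRing R] [IsNoetherianRing R] (E : Type u) [AddCommGroup E] [Module R E] (hE : InjHull.IsIndecomposable R E) (hinj : Module.Injective R E) : ∃ (p : Ideal R) (_ : p.IsPrime) (g : p.ResidueField →ₗ[R] E), InjHull.IsInjectiveHull g := by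
  have hnt := hE.1
  obtain ⟨p, hp, φ, hφ, -⟩ := Groth.Agent.IH.exists_prime_embedding (R := R) (N := (⊤ : Submodule R E)) (by simp)
  have hφ0 : LinearMap.range φ ≠ ⊥ := by
    intro h
    have h1 : φ 1 ∈ LinearMap.range φ := LinearMap.mem_range_self φ 1
    rw [h, Submodule.mem_bot] at h1
    exact one_ne_zero (hφ (h1.trans (map_zero φ).symm))
  have hess : InjHull.IsInjectiveHull φ :=
    ⟨⟨hφ, fun N hN => Groth.Agent.IH.uniform_of_indecomposable hE.2 hinj hN hφ0⟩, hinj⟩
  obtain ⟨-, g, hg⟩ := Groth.Agent.S0305.result R p E φ hess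
  exact ⟨p, hp, g, hg⟩

end Groth.Agent.S0306
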