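import Groth.Statements.S0307
import Mathlib
import Groth.Prelude.Def_Wider
import Groth.Agent.Lib.InjHullPrime
import Groth.Agent.Lib.MatlisDuality
import Groth.Agent.S0305
import Groth.Agent.S0300
import Groth.Agent.S11664

set_option autoImplicit false
universe u v
open InjHull

namespace Groth.Agent.S0307

open Classical in
/-- Over a Noetherian ring every injective module is an internal direct sum of indecomposable injective
submodules. -/
theorem result (R : Type u) [CommRing R] [IsNoetherianRing R] (I : Type u) [AddCommGroup I] [Module R I] (hI : Module.Injective R I) : ∃ (ι : Type u) (E : ι → Submodule R I), DirectSum.IsInternal E ∧ ∀ i, InjHull.IsIndecomposable R ↥(E i) ∧ Module.Injective R ↥(E i) := by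
  classical
  obtain ⟨s, -, hs⟩ := zorn_subset_nonempty
    {s : Set (Submodule R I) | sSupIndep s ∧ ∀ a ∈ s, InjHull.IsIndecomposable R ↥a ∧ Module.Injective R ↥a}
    (fun c hc hchain _ => ⟨⋃₀ c, ⟨iSupIndep_sUnion_of_directed hchain.directedOn (fun a ha => (hc ha).1),
      fun a ⟨t, ht, hat⟩ => (hc ht).2 a hat⟩, fun z hz => Set.subset_sUnion_of_mem hz⟩)
    ∅ ⟨sSupIndep_empty, fun a ha => absurd ha (Set.notMem_empty a)⟩
  obtain ⟨⟨hind, hgood⟩, hmax⟩ := hs
  have hind' : iSupIndep ((↑) : s → Submodule R I) := (sSupIndep_iff s).mp hind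
  have hU : Module.Injective R ↥(⨆ a : s, (a : Submodule R I)) := by
    have h1 : Module.Injective R (DirectSum s fun a => ↥(a : Submodule R I)) :=
      Groth.Agent.S0300.result R _ (fun a => (hgood a a.2).2)
    let e := LinearEquiv.ofInjective _ hind'.dfinsupp_lsum_injective ≪≫ₗ
      LinearEquiv.ofEq _ _ (Submodule.iSup_eq_range_dfinsupp_lsum (fun a : s => (a : Submodule R I))).symm
    exact Groth.Agent.IH.injective_congr h1 e.symm
  set U := ⨆ a : s, (a : Submodule R I) with hUdef
  obtain ⟨q, hq⟩ := Groth.Agent.IH.exists_retraction U hU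
  have hC := LinearMap.isCompl_of_proj hq
  refine ⟨s, fun a => a, @DirectSum.isInternal_submodule_of_iSupIndep_of_iSup_eq_top R _ s (fun a b => Classical.propDecidable (a = b)) I _ _ _ hind' ?_,
    fun a => hgood a a.2⟩
  show U = ⊤
  by_contra hne
  have hC0 : LinearMap.ker q ≠ ⊥ := fun h => hne (by simpa [h] using hC.sup_eq_top)
  obtain ⟨p, hp, φ, hφ, hφC⟩ := Groth.Agent.IH.exists_prime_embedding hC0
  have hCinj : Module.Injective R ↥(LinearMap.ker q) :=
    Groth.Agent.IH.injective_of_retract hI (LinearMap.ker q).subtype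
      ((LinearMap.id - U.subtype ∘ₗ q).codRestrict (LinearMap.ker q) (fun x => by
        simp [LinearMap.mem_ker, map_sub, hq]))
      (fun x => Subtype.ext (by simp [show q x = 0 from x.2]))
  -- hull inside the complement
  let φ' : (R ⧸ p) →ₗ[R] ↥(LinearMap.ker q) := φ.codRestrict _ (fun x => hφC ⟨x, rfl⟩)
  have hφ' : Function.Injective φ' := fun a b h => hφ (congrArg Subtype.val h)
  obtain ⟨H, hle, hH, hess⟩ := Groth.Agent.IH.exists_hull_submodule hCinj (LinearMap.range φ')
  let ψ : (R ⧸ p) →ₗ[R] H := φ'.codRestrict H (fun x => hle ⟨x, rfl⟩)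
  have hψess : Groth.Agent.IH.Ess (LinearMap.range ψ) := by
    intro x hx
    obtain ⟨r, ⟨m, hm⟩, hr0⟩ := hess x.1 x.2 (fun h => hx (Subtype.ext h))
    exact ⟨r, ⟨m, Subtype.ext hm⟩, fun h => hr0 (congrArg Subtype.val h)⟩
  have hindec : InjHull.IsIndecomposable R ↥H :=
    Groth.Agent.IH.indecomposable_of_ess_prime (fun a b h => hφ' (congrArg Subtype.val h)) hψess
  let H' : Submodule R I := H.map (LinearMap.ker q).subtype
  let eH : H ≃ₗ[R] H' := Submodule.equivMapOfInjective _ (LinearMap.ker q).injective_subtype H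
  have hH'C : H' ≤ LinearMap.ker q := Submodule.map_subtype_le _ _
  have hH'ind : InjHull.IsIndecomposable R ↥H' := by
    have := hindec.1
    refine ⟨eH.injective.nontrivial, fun N N' hc => ?_⟩
    rcases hindec.2 (N.map eH.symm.toLinearMap) (N'.map eH.symm.toLinearMap)
      (hc.map (Submodule.orderIsoMapComap eH.symm)) with h | h
    · exact Or.inl (Submodule.map_injective_of_injective eH.symm.injective (h.trans (Submodule.map_bot _).symm))
    · exact Or.inr (Submodule.map_injective_of_injective eH.symm.injective (h.trans (Submodule.map_bot _).symm))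
  have hH'0 : H' ≠ ⊥ := fun h => by
    have := hH'ind.1
    obtain ⟨x, hx⟩ := exists_ne (0 : ↥H')
    exact hx (Subtype.ext ((Submodule.eq_bot_iff _).mp h x.1 x.2))
  have hdisj : Disjoint U H' := hC.disjoint.mono_right hH'C
  have hnot : H' ∉ s := fun h => hH'0 (by
    have : H' ≤ U := le_iSup (fun a : s => (a : Submodule R I)) ⟨H', h⟩
    exact hdisj.eq_bot_of_ge this)
  refine hnot (hmax (y := insert H' s) ⟨?_, ?_⟩ (Set.subset_insert _ _) (Set.mem_insert _ _))
  · intro a ha
    rcases Set.mem_insert_iff.mp ha with rfl | ha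
    · refine hdisj.symm.mono_right (sSup_le fun b hb => ?_)
      rcases hb with ⟨hb | hb, hne'⟩
      · exact absurd hb hne'
      · exact le_iSup (fun a : s => (a : Submodule R I)) ⟨b, hb⟩
    · rw [Submodule.disjoint_def]
      intro x hxa hx
      have hsub : sSup (insert H' s \ {a}) ≤ H' ⊔ sSup (s \ {a}) := sSup_le fun b hb => by
        rcases hb with ⟨rfl | hb, hne'⟩
        · exact le_sup_left
        · exact le_sup_of_le_right (le_sSup ⟨hb, hne'⟩)
      obtain ⟨h, hh, u, hu, rfl⟩ := Submodule.mem_sup.mp (hsub hx)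
      have huU : u ∈ U := (sSup_le fun b hb => le_iSup (fun a : s => (a : Submodule R I)) ⟨b, hb.1⟩ : sSup (s \ {a}) ≤ U) hu
      have haU : h + u ∈ U := le_iSup (fun a : s => (a : Submodule R I)) ⟨a, ha⟩ hxa
      have hh0 : h = 0 := Submodule.disjoint_def.mp hdisj h (by simpa using U.sub_mem haU huU) hh
      rw [hh0, zero_add] at hxa ⊢
      exact Submodule.disjoint_def.mp (hind ha) u hxa hu
  · intro a ha
    rcases Set.mem_insert_iff.mp ha with rfl | ha
    · exact ⟨hH'ind, Groth.Agent.IH.injective_congr hH eH.symm⟩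
    · exact hgood a ha

end Groth.Agent.S0307
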