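import Groth.Statements.S0312
import Mathlib
import Groth.Prelude.Def_CAlg
import Groth.Prelude.Def_Wider
import Groth.Agent.Lib.InjHullBasic
import Groth.Agent.Lib.InjHullLocal
import Groth.Agent.Lib.InjDimResidue
import Groth.Agent.Lib.GorensteinQuotient
import Groth.Agent.Lib.GorensteinCM
import Groth.Agent.Lib.GorensteinFlatBase
import Groth.Agent.Lib.GorensteinFlat
import Groth.Agent.Lib.GorensteinRings
import Groth.Agent.Lib.InjHullBaseChange

set_option autoImplicit false
universe u v
open CategoryTheory
open InjHull
open Groth.Agent.GorensteinQuotient
open Groth.Agent.GorensteinCM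
open Groth.Agent.GorensteinFlatBase
open Groth.Agent.GorensteinFlat
open Groth.Agent.GorensteinRings
open TensorProduct
open Groth.Agent.InjHullBaseChange
open Matlis

namespace Groth.Agent.S0312

/-- For a flat local homomorphism A → B of Noetherian local rings with m_A B equal to the maximal ideal
of B, tensoring an injective hull of the residue field of A with B gives an injective hull of the
residue field of B. -/
theorem result (A : Type u) [CommRing A] [IsLocalRing A] [IsNoetherianRing A] (B : Type u) [CommRing B] [IsLocalRing B] [IsNoetherianRing B] [Algebra A B] [IsLocalHom (algebraMap A B)] [Module.Flat A B] (hm : (IsLocalRing.maximalIdeal A).map (algebraMap A B) = IsLocalRing.maximalIdeal B) (E : Type u) [AddCommGroup E] [Module A E] (f : IsLocalRing.ResidueField A →ₗ[A] E) (hf : InjHull.IsInjectiveHull f) : ∃ g : IsLocalRing.ResidueField B →ₗ[B] TensorProduct A B E, InjHull.IsInjectiveHull g := by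
  refine hull_baseChange A B ?_ ?_ E f hf
  · rw [hm]
    exact (gorRing_field (IsLocalRing.ResidueField B)).1 |> fun _ => gor_of_regular (IsLocalRing.ResidueField B)
  · rw [hm]
    exact inferInstanceAs (IsArtinianRing (IsLocalRing.ResidueField B))

end Groth.Agent.S0312
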