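import Groth.Statements.S0315
import Mathlib
import Groth.Prelude.Def_Wider
import Groth.Agent.Lib.MatlisDuality

set_option autoImplicit false
universe u v
open Matlis

namespace Groth.Agent.S0315

/-- Over a Noetherian local ring a module has the descending chain condition exactly when it is killed
elementwise by powers of the maximal ideal and its socle is finite-dimensional over the residue
field. -/
theorem result (R : Type u) [CommRing R] [IsLocalRing R] [IsNoetherianRing R] (M : Type u) [AddCommGroup M] [Module R M] : IsArtinian R M ↔ (LocCoh.IsPowerTorsion (IsLocalRing.maximalIdeal R) M ∧ Module.Finite (R ⧸ IsLocalRing.maximalIdeal R) ↥(LocCoh.torsionBy (IsLocalRing.maximalIdeal R) M)) := by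
  constructor
  · intro h
    exact ⟨Groth.Agent.Matlis.isPowerTorsion_of_isArtinian M, Groth.Agent.Matlis.finite_socle_of_isArtinian M⟩
  · rintro ⟨hM, hfin⟩
    obtain ⟨E, _, _, f, hf, hess, hE⟩ := Groth.Agent.IH.exists_hull R (IsLocalRing.ResidueField R)
    have hf' : InjHull.IsInjectiveHull f := ⟨⟨hf, (Groth.Agent.IH.ess_iff _).mp hess⟩, hE⟩
    obtain ⟨g, hg⟩ := Groth.Agent.Matlis.exists_embedding hf' M hM _ rfl
    have := Groth.Agent.Matlis.isArtinian_pi hf' (Module.finrank (R ⧸ IsLocalRing.maximalIdeal R) ↥(LocCoh.torsionBy (IsLocalRing.maximalIdeal R) M))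
    exact isArtinian_of_injective g hg

end Groth.Agent.S0315
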