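import Groth.Statements.S0318
import Mathlib
import Groth.Prelude.Def_Wider
import Groth.Prelude.Def_DRing3
import Groth.Agent.Lib.H2LCShift
import Groth.Agent.Lib.H2Depth

set_option autoImplicit false
universe u v
open LocCoh

namespace Groth.Agent.S0318
open CategoryTheory Pointwise
open Groth.Agent.H2LC Groth.Agent.H2Depth

/-- Part (1): =(3): for a finite module M over a Noetherian ring and an ideal I with IM ≠ M, the I-depth
of M is the least degree in which the local cohomology of M with support in I is nonzero. -/
theorem result (R : Type u) [CommRing R] [IsNoetherianRing R] (I : Ideal R) (M : Type u) [AddCommGroup M] [Module R M] [Module.Finite R M] (hIM : I • (⊤ : Submodule R M) ≠ ⊤) (n : ℕ) : LocCoh.idealDepth I M = n ↔ ((∀ i : ℕ, i < n → Subsingleton (LocCoh.H I i M)) ∧ Nontrivial (LocCoh.H I n M)) := by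
  obtain ⟨ss, h1, h2, h3, h4⟩ := exists_idealDepth_eq hIM
  have hv : ∀ i, i < ss.length → Subsingleton (LocCoh.H I i M) :=
    subsingleton_of_hasReg ⟨ss, rfl, h1, h2⟩
  have hn : Nontrivial (LocCoh.H I ss.length M) := nontrivial_of_maximal h1 h2 h3
  rw [h4, Nat.cast_inj]
  constructor
  · rintro rfl
    exact ⟨hv, hn⟩
  · rintro ⟨a, b⟩
    rcases lt_trichotomy ss.length n with h | h | h
    · exact absurd (a _ h) (not_subsingleton_iff_nontrivial.2 hn)
    · exact h
    · exact absurd (hv _ h) (not_subsingleton_iff_nontrivial.2 b)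

end Groth.Agent.S0318
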