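import Groth.Statements.S0319
import Mathlib
import Groth.Prelude.Def_CAlg
import Groth.Agent.Lib.H2Ischebeck

set_option autoImplicit false
universe u v
open CategoryTheory
open LocCoh

namespace Groth.Agent.S0319
open CategoryTheory Abelian Pointwise RingTheory.Sequence

/-- Part (1): =(2): for a finite module M over a Noetherian ring and an ideal I with IM ≠ M, the I-depth
of M is the least i with Ext^i(R/I, M) nonzero. (Close to Mathlib's Rees criterion; kept at low
weight to pin our depth to Mathlib's Ext.) -/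
theorem result (R : Type u) [CommRing R] [IsNoetherianRing R] (I : Ideal R) (M : Type u) [AddCommGroup M] [Module R M] [Module.Finite R M] (hIM : I • (⊤ : Submodule R M) ≠ ⊤) (n : ℕ) : LocCoh.idealDepth I M = n ↔ ((∀ i : ℕ, i < n → Subsingleton (Abelian.Ext (ModuleCat.of R (R ⧸ I)) (ModuleCat.of R M) i)) ∧ Nontrivial (Abelian.Ext (ModuleCat.of R (R ⧸ I)) (ModuleCat.of R M) n)) := by
  have key : ∀ k : ℕ, (k : ℕ∞) ≤ LocCoh.idealDepth I M ↔
      ∀ i : ℕ, i < k → Subsingleton (Abelian.Ext (ModuleCat.of R (R ⧸ I)) (ModuleCat.of R M) i) := by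
    intro k
    rw [← Groth.Agent.H2Depth.hasReg_iff_le_idealDepth hIM]
    have hsupp : Module.support R (R ⧸ I) = PrimeSpectrum.zeroLocus I := by
      rw [Module.support_eq_zeroLocus, Ideal.annihilator_quotient]
    refine ⟨fun h i hi => Groth.Agent.H2Ischebeck.subsingleton_ext_of_hasReg hIM h hsupp.subset i hi, fun h => ?_⟩
    obtain ⟨rs, hl, hmem, hreg⟩ := ModuleCat.exists_isRegular_of_exists_subsingleton_ext I k (ModuleCat.of R M) hIM.lt_top
      (ModuleCat.of R (R ⧸ I)) hsupp h
    exact ⟨rs, hl, hreg.1, hmem⟩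
  obtain ⟨ss, -, -, -, hD⟩ := Groth.Agent.H2Depth.exists_idealDepth_eq hIM
  rw [← not_subsingleton_iff_nontrivial]
  constructor
  · intro h
    refine ⟨(key n).1 h.ge, fun hn => ?_⟩
    have h1 := (key (n + 1)).2 (fun i hi => (Nat.lt_succ_iff_lt_or_eq.1 hi).elim ((key n).1 h.ge i) (fun e => e ▸ hn))
    rw [h] at h1
    have : n + 1 ≤ n := by exact_mod_cast h1
    omega
  · rintro ⟨h1, h2⟩
    have hle := (key n).2 h1
    rw [hD] at hle ⊢
    by_contra hne
    have hle' : n ≤ ss.length := by exact_mod_cast hle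
    refine h2 ((key (n + 1)).1 ?_ n (Nat.lt_succ_self n))
    rw [hD]
    have : ss.length ≠ n := fun e => hne (congrArg _ e)
    exact_mod_cast (show n + 1 ≤ ss.length by omega)

end Groth.Agent.S0319
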