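import Groth.Statements.S0321
import Mathlib
import Groth.Prelude.Def_CAlg
import Groth.Prelude.Def_Wider
import Groth.Agent.Lib.H2DepthLocal
import Groth.Agent.Lib.H2LCTop

set_option autoImplicit false
universe u v
open LocCoh

namespace Groth.Agent.S0321
open CategoryTheory Pointwise RingTheory.Sequence Groth.Agent.H2Depth Groth.Agent.H2DepthMore Groth.Agent.H2DepthLocal Groth.Agent.H2LC

/-- Depth inequalities along a short exact sequence 0 → N' → N → N'' → 0 of finite modules over a
Noetherian ring: depth N ≥ min(depth N', depth N''), depth N'' ≥ min(depth N, depth N' − 1), depth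
N' ≥ min(depth N, depth N'' + 1). -/
theorem result (R : Type u) [CommRing R] [IsNoetherianRing R] (I : Ideal R) (N' : Type u) [AddCommGroup N'] [Module R N'] [Module.Finite R N'] (N : Type u) [AddCommGroup N] [Module R N] [Module.Finite R N] (N'' : Type u) [AddCommGroup N''] [Module R N''] [Module.Finite R N''] (f : N' →ₗ[R] N) (g : N →ₗ[R] N'') (hf : Function.Injective f) (hg : Function.Surjective g) (hfg : Function.Exact f g) : min (LocCoh.idealDepth I N') (LocCoh.idealDepth I N'') ≤ LocCoh.idealDepth I N ∧ min (LocCoh.idealDepth I N) (LocCoh.idealDepth I N' - 1) ≤ LocCoh.idealDepth I N'' ∧ min (LocCoh.idealDepth I N) (LocCoh.idealDepth I N'' + 1) ≤ LocCoh.idealDepth I N' := by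
  have hS := lseq_shortExact hf hg hfg
  refine ⟨ENat.forall_natCast_le_iff_le.1 fun k hk => ?_, ENat.forall_natCast_le_iff_le.1 fun k hk => ?_,
    ENat.forall_natCast_le_iff_le.1 fun k hk => ?_⟩
  · rw [le_min_iff] at hk
    exact le_idealDepth_iff.2 fun i hi => subsingleton_mid hf hg hfg i (le_idealDepth_iff.1 hk.1 i hi)
      (le_idealDepth_iff.1 hk.2 i hi)
  · rw [le_min_iff] at hk
    refine le_idealDepth_iff.2 fun i hi => subsingleton_right hf hg hfg i (le_idealDepth_iff.1 hk.1 i hi) ?_
    refine (le_idealDepth_iff (k := i + 2)).1 ?_ (i + 1) (by omega)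
    have h2 : ((i + 1 : ℕ) : ℕ∞) ≤ LocCoh.idealDepth I N' - 1 := le_trans (by exact_mod_cast hi) hk.2
    revert h2
    generalize LocCoh.idealDepth I N' = d
    induction d using ENat.recTopCoe with
    | top => simp
    | coe d =>
      intro h2
      have h3 : i + 1 ≤ d - 1 := by exact_mod_cast h2
      exact_mod_cast (by omega : i + 2 ≤ d)
  · rw [le_min_iff] at hk
    refine le_idealDepth_iff.2 fun i hi => ?_
    obtain _ | i := i
    · have hN := le_idealDepth_iff.1 hk.1 0 hi
      rw [subsingleton_H0_iff] at hN ⊢
      rw [eq_bot_iff]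
      intro m hm
      have h1 := DRing.map_mem_torsionSub I f hm
      rw [hN, Submodule.mem_bot] at h1
      exact (Submodule.mem_bot R).2 (hf (h1.trans (map_zero f).symm))
    · refine subsingleton_left hf hg hfg i ?_ (le_idealDepth_iff.1 hk.1 _ hi)
      refine (le_idealDepth_iff (k := i + 1)).1 ?_ i i.lt_succ_self
      have h2 : ((i + 2 : ℕ) : ℕ∞) ≤ LocCoh.idealDepth I N'' + 1 := le_trans (by exact_mod_cast hi) hk.2
      revert h2
      generalize LocCoh.idealDepth I N'' = d
      induction d using ENat.recTopCoe with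
      | top => simp
      | coe d =>
        intro h2
        have h3 : i + 2 ≤ d + 1 := by exact_mod_cast h2
        exact_mod_cast (by omega : i + 1 ≤ d)

end Groth.Agent.S0321
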