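import Groth.Statements.S0322
import Mathlib
import Groth.Agent.Lib.H2DepthMore
import Groth.Prelude.Def_DRing3

set_option autoImplicit false
universe u v
open LocCoh

namespace Groth.Agent.S0322
set_option linter.style.haveILetI false
open TensorProduct RingTheory.Sequence Groth.Agent.H2Depth Groth.Agent.H2DepthMore
open scoped Pointwise

/-- For a finite Cohen–Macaulay module M over a Noetherian local ring and a proper ideal I, the I-depth
of M equals dim Supp(M) minus dim Supp(M/IM); stated additively. -/
theorem result (R : Type u) [CommRing R] [IsLocalRing R] [IsNoetherianRing R] (I : Ideal R) (hI : I ≠ ⊤) (M : Type u) [AddCommGroup M] [Module R M] [Module.Finite R M] (hM : LocCoh.IsCohenMacaulayModule R M) : Module.supportDim R M = Module.supportDim R (M ⧸ (I • (⊤ : Submodule R M))) + ((LocCoh.idealDepth I M : ℕ∞) : WithBot ℕ∞) := by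
  unfold LocCoh.IsCohenMacaulayModule at hM
  rcases subsingleton_or_nontrivial M with hs | hs
  · rw [Module.supportDim_eq_bot_of_subsingleton] at hM
    exact absurd hM.symm WithBot.coe_ne_bot
  obtain ⟨xs, h1, h2, h3, h4⟩ := exists_idealDepth_eq (smul_top_ne_top (M := M) (le_refl (IsLocalRing.maximalIdeal R)))
  have hd : Module.supportDim R M = ((xs.length : ℕ) : WithBot ℕ∞) := by
    rw [hM, LocCoh.depth, h4]; rfl
  obtain ⟨rs, -, -, hle, hdep, -, hq⟩ := exists_seq_cm hd ⟨xs, rfl, h1, h2⟩ (IsLocalRing.le_maximalIdeal hI)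
  rw [hd, hdep, hq, show (((rs.length : ℕ∞)) : WithBot ℕ∞) = ((rs.length : ℕ) : WithBot ℕ∞) from rfl,
    ← Nat.cast_add, Nat.sub_add_cancel hle]

end Groth.Agent.S0322
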