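import Groth.Statements.S0328
import Mathlib
import Groth.Prelude.Def_Wider
import Groth.Prelude.Def_DRing3
import Groth.Prelude.Def_W4bk5brsh16IT
import Groth.Agent.Lib.H2LCFinite
import Groth.Agent.Lib.H2LCTop
import Groth.Agent.Lib.H2LCMono
import Groth.Agent.Lib.H2LCFlat
import Groth.Agent.Lib.H2DTExact

set_option autoImplicit false
universe u v
open LocCoh

namespace Groth.Agent.S0328
open CategoryTheory CategoryTheory.Limits Opposite
open LocCoh
open scoped BigOperators TensorProduct
open Groth.Agent Groth.Agent.H2LC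

/-- In a Noetherian local ring, if a prime p and a proper ideal I together have radical the maximal
ideal and dim R/p = d ≥ 1, then local cohomology with support in I does not vanish in all degrees ≥
d. -/
theorem result (R : Type u) [CommRing R] [IsLocalRing R] [IsNoetherianRing R] (I : Ideal R) (hI : I ≠ ⊤) (p : Ideal R) [p.IsPrime] (hpI : (p ⊔ I).radical = IsLocalRing.maximalIdeal R) (d : ℕ) (hd : ringKrullDim (R ⧸ p) = d) (hd1 : 1 ≤ d) : ¬ LocCoh.CdLE R I (d - 1) := by
  intro hcd
  haveI := hcd (R ⧸ p) d (by omega)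
  obtain ⟨e⟩ := exists_supEquiv (I := I) (J := p) d (R ⧸ p) (isPowerTorsion_quotient_self p)
  obtain ⟨e'⟩ := exists_radicalEquiv (show (I ⊔ p).radical = (IsLocalRing.maximalIdeal R).radical by
    rw [sup_comm, hpI, (IsLocalRing.maximalIdeal.isMaximal R).isPrime.radical]) d (R ⧸ p)
  exact not_nontrivial_iff_subsingleton.2 ((e'.symm.trans e).injective.subsingleton)
    (nontrivial_H_top d (R ⧸ p) ((Module.supportDim_quotient_eq_ringKrullDim p).trans hd))

end Groth.Agent.S0328
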