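import Groth.Statements.S0330
import Mathlib
import Groth.Prelude.Def_Wider
import Groth.Prelude.Def_DRing3
import Groth.Prelude.Def_W4bk5brsh16IT
import Groth.Agent.Lib.H2LCFinite
import Groth.Agent.Lib.H2LCTop
import Groth.Agent.Lib.H2LCMono
import Groth.Agent.Lib.H2LCFlat
import Groth.Agent.Lib.H2DTExact

set_option autoImplicit false
universe u v
open LocCoh

namespace Groth.Agent.S0330
open CategoryTheory CategoryTheory.Limits Opposite
open LocCoh
open scoped BigOperators TensorProduct
open Groth.Agent Groth.Agent.H2LC

/-- For a finite module M over a Noetherian ring, finiteness of the local cohomology modules H^i_I(M)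
for i ≤ n can be checked after localizing at each prime. -/
theorem result (R : Type u) [CommRing R] [IsNoetherianRing R] (I : Ideal R) (M : Type u) [AddCommGroup M] [Module R M] [Module.Finite R M] (n : ℕ) : (∀ i : ℕ, i ≤ n → Module.Finite R (LocCoh.H I i M)) ↔ ∀ (p : Ideal R) [p.IsPrime], ∀ i : ℕ, i ≤ n → Module.Finite (Localization.AtPrime p) (LocalizedModule p.primeCompl (LocCoh.H I i M)) := by
  refine ⟨fun h p _ i hi => ?_, fun h i hi => finite_of_locFinite i M fun j hj p hp => h p j (hj.trans hi)⟩
  haveI := h i hi
  infer_instance

end Groth.Agent.S0330
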