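import Groth.Statements.S0331
import Mathlib
import Groth.Prelude.Def_Wider
import Groth.Prelude.Def_DRing3
import Groth.Prelude.Def_W4bk5brsh16IT
import Groth.Agent.Lib.H2LCFinite
import Groth.Agent.Lib.H2LCTop
import Groth.Agent.Lib.H2LCMono
import Groth.Agent.Lib.H2LCFlat
import Groth.Agent.Lib.H2DTExact

set_option autoImplicit false
universe u v
open LocCoh

namespace Groth.Agent.S0331
open CategoryTheory CategoryTheory.Limits Opposite
open LocCoh
open scoped BigOperators TensorProduct
open Groth.Agent Groth.Agent.H2LC

/-- Over a Noetherian ring, if H^i_I(R) is finitely generated for i ≤ n, then so is H^i_I(M) for i ≤ n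
for every finite module M that becomes finite projective after inverting any single element of I. -/
theorem result (R : Type u) [CommRing R] [IsNoetherianRing R] (I : Ideal R) (n : ℕ) (hR : ∀ i : ℕ, i ≤ n → Module.Finite R (LocCoh.H I i R)) (M : Type u) [AddCommGroup M] [Module R M] [Module.Finite R M] (hM : ∀ f ∈ I, Module.Projective (Localization.Away f) (LocalizedModule (Submonoid.powers f) M)) (i : ℕ) (hi : i ≤ n) : Module.Finite R (LocCoh.H I i M) := by
  exact finite_of_projective_punctured hR M hM hi

end Groth.Agent.S0331
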