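import Groth.Statements.S0333
import Mathlib
import Groth.Prelude.Def_Wider
import Groth.Prelude.Def_CAlg
import Groth.Agent.Lib.H2LCMono
import Groth.Agent.Lib.H2LCFlat
import Groth.Agent.Lib.H2DepthMore

set_option autoImplicit false
universe u v
open LocCoh

namespace Groth.Agent.S0333
open CategoryTheory TensorProduct Groth.Agent.H2LC

/-- Over a Noetherian ring of dimension d, if H^d_I(M) = 0 for one finite module M whose support
contains every minimal prime p with dim R/p = d, then H^i_I vanishes in degrees ≥ d on all modules. -/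
theorem result (R : Type u) [CommRing R] [IsNoetherianRing R] (I : Ideal R) (d : ℕ) (hd : ringKrullDim R = d) (M : Type u) [AddCommGroup M] [Module R M] [Module.Finite R M] (hsupp : ∀ p ∈ minimalPrimes R, ringKrullDim (R ⧸ p) = d → ∀ hp : p.IsPrime, (⟨p, hp⟩ : PrimeSpectrum R) ∈ Module.support R M) (hvan : Subsingleton (LocCoh.H I d M)) (N : Type u) [AddCommGroup N] [Module R N] (i : ℕ) (hi : d ≤ i) : Subsingleton (LocCoh.H I i N) := by
  have hlt : ∀ (N : Type u) [AddCommGroup N] [Module R N] (i : ℕ), d < i → Subsingleton (LocCoh.H I i N) :=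
    fun N _ _ i hi => subsingleton_of_supportDim_lt
      (lt_of_le_of_lt ((Module.supportDim_le_ringKrullDim R N).trans hd.le) (by exact_mod_cast hi))
  rcases hi.eq_or_lt with h | h
  swap; · exact hlt N i h
  subst h
  have hprime : ∀ p : PrimeSpectrum R, Subsingleton (LocCoh.H I d (R ⧸ p.asIdeal)) := by
    intro p
    by_cases hpd : ringKrullDim (R ⧸ p.asIdeal) = d
    · obtain ⟨q, hq, hqp⟩ := Ideal.exists_minimalPrimes_le (show (⊥ : Ideal R) ≤ p.asIdeal from bot_le)
      haveI := hq.isPrime
      have hqd : ringKrullDim (R ⧸ q) = d := le_antisymm ((ringKrullDim_quotient_le q).trans hd.le)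
        (hpd ▸ ringKrullDim_le_of_surjective _ (Ideal.Quotient.factor_surjective hqp))
      exact subsingleton_quotient_prime hd.le hvan (Module.mem_support_mono hqp (hsupp q hq hqd hq.isPrime))
    · refine subsingleton_of_supportDim_lt (lt_of_le_of_ne ?_ ?_)
      · exact (Module.supportDim_le_ringKrullDim R _).trans hd.le
      · rwa [Module.supportDim_quotient_eq_ringKrullDim]
  have hfin : ∀ (L : Type u) [AddCommGroup L] [Module R L] [Module.Finite R L], Subsingleton (LocCoh.H I d L) := by
    intro L _ _ hL
    induction hL using IsNoetherianRing.induction_on_isQuotientEquivQuotientPrime R with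
    | subsingleton L => exact subsingleton_of_subsingleton _
    | quotient L p e => exact subsingleton_congr e.symm d (hprime p)
    | exact L₁ L₂ L₃ f g hf hg hfg h₁ h₃ => exact subsingleton_mid hf hg hfg d h₁ h₃
  classical
  let π : (Π₀ _ : N, R) →ₗ[R] N := DFinsupp.lsum ℕ fun m => LinearMap.toSpanSingleton R N m
  have hπ : Function.Surjective π := fun m => ⟨DFinsupp.single m 1, by simp [π]⟩
  exact subsingleton_of_surjective π hπ d (subsingleton_dfinsupp d (fun _ : N => R) fun _ => hfin R)
    (hlt _ _ d.lt_succ_self)

end Groth.Agent.S0333
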