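import Groth.Statements.S0334
import Mathlib
import Groth.Prelude.Def_Wider
import Groth.Prelude.Def_CAlg
import Groth.Agent.Lib.H2LCMono
import Groth.Agent.Lib.H2LCFlat
import Groth.Agent.Lib.H2DepthMore

set_option autoImplicit false
universe u v
open LocCoh

namespace Groth.Agent.S0334
open CategoryTheory TensorProduct Groth.Agent.H2LC

/-- Over a Noetherian local ring of dimension d, multiplication by an element lying in no minimal prime
p with dim R/p = d is surjective on H^d_I(M) for every finite module M and every ideal I. -/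
theorem result (R : Type u) [CommRing R] [IsLocalRing R] [IsNoetherianRing R] (I : Ideal R) (d : ℕ) (hd : ringKrullDim R = d) (f : R) (hf : ∀ p ∈ minimalPrimes R, ringKrullDim (R ⧸ p) = d → f ∉ p) (M : Type u) [AddCommGroup M] [Module R M] [Module.Finite R M] : Function.Surjective (fun x : LocCoh.H I d M => f • x) := by
  let φ : M →ₗ[R] M := f • LinearMap.id
  have hlt : Module.supportDim R (M ⧸ LinearMap.range φ) < ((d : ℕ) : WithBot ℕ∞) := by
    by_contra hc
    obtain ⟨l, hl⟩ := Order.le_krullDim_iff.1 (not_lt.1 hc)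
    have hfl : ∀ i, f ∈ (l i).1.asIdeal := fun i => by
      by_contra hfi
      obtain ⟨m, hm⟩ := Module.mem_support_iff'.1 (l i).2
      obtain ⟨m, rfl⟩ := Submodule.Quotient.mk_surjective _ m
      exact hm f hfi ((Submodule.Quotient.mk_smul _ _ _).symm.trans ((Submodule.Quotient.mk_eq_zero _).2 ⟨m, rfl⟩))
    obtain ⟨q, hq, hqp⟩ := Ideal.exists_minimalPrimes_le (show (⊥ : Ideal R) ≤ l.head.1.asIdeal from bot_le)
    haveI := hq.isPrime
    have hdim : (d : WithBot ℕ∞) ≤ ringKrullDim (R ⧸ l.head.1.asIdeal) := by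
      rw [ringKrullDim_quotient]
      exact Order.le_krullDim_iff.2 ⟨⟨l.length, fun i => ⟨(l i).1, LTSeries.head_le l i⟩, fun i => l.step i⟩, hl⟩
    have hqd : ringKrullDim (R ⧸ q) = d := le_antisymm ((ringKrullDim_quotient_le q).trans hd.le)
      (hdim.trans (ringKrullDim_le_of_surjective _ (Ideal.Quotient.factor_surjective hqp)))
    refine hf q hq hqd ?_
    have hh : l.head.1.asIdeal = q := by
      refine le_antisymm ?_ hqp
      by_contra hne
      have hlt' : (⟨q, hq.isPrime⟩ : PrimeSpectrum R) < l.head.1 := lt_of_le_of_ne hqp fun e => hne (le_of_eq (congrArg PrimeSpectrum.asIdeal e).symm)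
      let l' : LTSeries (PrimeSpectrum R) := ⟨l.length, fun i => (l i).1, fun i => l.step i⟩
      have h1 := (Order.LTSeries.length_le_krullDim (l'.cons ⟨q, hq.isPrime⟩ hlt')).trans hd.le
      have h2 : (l'.cons ⟨q, hq.isPrime⟩ hlt').length = d + 1 := by
        exact (RelSeries.cons_length _ _ _).trans (congrArg (· + 1) hl)
      rw [h2] at h1
      exact absurd h1 (not_le.2 (by exact_mod_cast d.lt_succ_self))
    exact hh ▸ hfl 0
  have hS1 := lseq_shortExact (LinearMap.ker φ.rangeRestrict).injective_subtype φ.surjective_rangeRestrict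
    (LinearMap.exact_subtype_ker_map φ.rangeRestrict)
  have hS2 := lseq_shortExact (LinearMap.range φ).injective_subtype (Submodule.mkQ_surjective _)
    (LinearMap.exact_subtype_mkQ _)
  intro y
  obtain ⟨z, hz⟩ := (exact_map hS2 d y).1 (@Subsingleton.elim _ (subsingleton_of_supportDim_lt hlt) _ _)
  obtain ⟨w, rfl⟩ := (exact_map_dMap hS1 d z).1 (@Subsingleton.elim _
    (subsingleton_of_supportDim_lt (lt_of_le_of_lt ((Module.supportDim_le_ringKrullDim R _).trans hd.le)
      (by exact_mod_cast d.lt_succ_self))) _ _)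
  refine ⟨w, ?_⟩
  show f • w = y
  rw [← hz, ← cmap_smul_id d f (ModuleCat.of R M) w, ← LinearMap.comp_apply (g := cmap I d _),
    ← ModuleCat.hom_comp, ← Functor.map_comp]
  rfl

end Groth.Agent.S0334
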