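import Groth.Statements.S0337
import Mathlib

set_option autoImplicit false
universe u v
open CategoryTheory
open LocCoh

namespace Groth.Agent.S0337
open CategoryTheory IsLocalRing
set_option backward.isDefEq.respectTransparency.types false

/-- Over a Noetherian local ring of prime characteristic p, a finite module isomorphic to its own base
change along Frobenius is free. -/
theorem result (p : ℕ) [Fact p.Prime] (R : Type u) [CommRing R] [IsLocalRing R] [IsNoetherianRing R] [CharP R p] (M : Type u) [AddCommGroup M] [Module R M] [Module.Finite R M] (h : Nonempty ((ModuleCat.extendScalars (frobenius R p)).obj (ModuleCat.of R M) ≅ ModuleCat.of R M)) : Module.Free R M := by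
  classical
  obtain ⟨iso⟩ := h
  let f := frobenius R p
  let adj := ModuleCat.extendRestrictScalarsAdj.{u} f
  let X := (ModuleCat.extendScalars f).obj (ModuleCat.of R M)
  let ηh := adj.unit.app (ModuleCat.of R M)
  let η : M → X := fun m => ηh.hom m
  have ηadd : ∀ a b, η (a + b) = η a + η b := fun a b => map_add ηh.hom a b
  have ηsmul : ∀ (a : R) m, η (a • m) = f a • η m := fun a m => map_smul ηh.hom a m
  obtain ⟨s, hscard, hsspan⟩ := (Module.Finite.fg_top (R := R) (M := M)).exists_span_finset_card_eq_spanFinrank
  let n := s.card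
  let v : Fin n → M := fun i => (s.equivFin.symm i : M)
  have hvr : Set.range v = (s : Set M) := by
    ext x; constructor
    · rintro ⟨i, rfl⟩; exact (s.equivFin.symm i).2
    · intro hx; exact ⟨s.equivFin ⟨x, hx⟩, by simp [v]⟩
  let π := Fintype.linearCombination R v
  have hπs : Function.Surjective π := by
    rw [← LinearMap.range_eq_top, Fintype.range_linearCombination, hvr, hsspan]
  have hmin : ∀ w ∈ LinearMap.ker π, ∀ i, w i ∈ maximalIdeal R := by
    intro w hw i
    by_contra hu
    rw [mem_maximalIdeal, mem_nonunits_iff, not_not] at hu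
    obtain ⟨u, hu⟩ := hu
    have hvi : v i ∈ Submodule.span R (v '' ({i} : Set (Fin n))ᶜ) := by
      have hsum : π w = 0 := hw
      rw [Fintype.linearCombination_apply, ← Finset.add_sum_erase _ _ (Finset.mem_univ i)] at hsum
      have h2 : w i • v i ∈ Submodule.span R (v '' ({i} : Set (Fin n))ᶜ) := by
        rw [eq_neg_of_add_eq_zero_left hsum]
        exact Submodule.neg_mem _ (Submodule.sum_mem _ fun j hj => Submodule.smul_mem _ _ (Submodule.subset_span ⟨j, by simpa using (Finset.mem_erase.mp hj).1, rfl⟩))
      have := Submodule.smul_mem _ (↑u⁻¹ : R) h2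
      rwa [smul_smul, ← hu, Units.inv_mul, one_smul] at this
    have htop : Submodule.span R (v '' ({i} : Set (Fin n))ᶜ) = ⊤ := by
      rw [eq_top_iff, ← hsspan, ← hvr, Submodule.span_le]
      rintro _ ⟨j, rfl⟩
      by_cases hj : j = i
      · subst hj; exact hvi
      · exact Submodule.subset_span ⟨j, hj, rfl⟩
    have := Submodule.spanFinrank_span_le_ncard_of_finite (R := R) (Set.toFinite (v '' ({i} : Set (Fin n))ᶜ))
    rw [htop, ← hscard] at this
    have h3 := le_trans this (Set.ncard_image_le (Set.toFinite _))
    rw [Set.ncard_compl, Set.ncard_singleton, Nat.card_eq_fintype_card, Fintype.card_fin] at h3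
    have := i.2
    omega
  -- the presentation of the Frobenius pullback
  let π'' := Fintype.linearCombination R (fun i => η (v i))
  have hπ''s : Function.Surjective π'' := by
    intro x
    let N := LinearMap.range π''
    have hη : ∀ m, η m ∈ N := by
      intro m
      obtain ⟨a, rfl⟩ := hπs m
      refine ⟨fun i => f (a i), ?_⟩
      have hsum : ∀ (S : Finset (Fin n)), η (∑ i ∈ S, a i • v i) = ∑ i ∈ S, f (a i) • η (v i) := by
        intro S
        induction S using Finset.induction_on with
        | empty => simp [η]; rfl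
        | insert j S hj ih => rw [Finset.sum_insert hj, Finset.sum_insert hj, ηadd, ηsmul, ih]
      simp only [π'', π, Fintype.linearCombination_apply, hsum]
    have hq : ModuleCat.ofHom (N.mkQ) = (0 : X ⟶ ModuleCat.of R (X ⧸ N)) := by
      apply (adj.homEquiv _ _).injective
      rw [Adjunction.homEquiv_unit, Adjunction.homEquiv_unit]
      ext m
      show N.mkQ (η m) = 0
      exact (Submodule.Quotient.mk_eq_zero N).mpr (hη m)
    have : N.mkQ x = 0 := congrArg (fun g : X ⟶ ModuleCat.of R (X ⧸ N) => g.hom x) hq
    exact (Submodule.Quotient.mk_eq_zero N).mp this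
  let L : Submodule R (Fin n → R) := Submodule.span R ((fun w => fun i => f (w i)) '' (LinearMap.ker π : Set (Fin n → R)))
  have hker : LinearMap.ker π'' ≤ L := by
    intro w hw
    let σ := Function.surjInv hπs
    let g0 : M → (Fin n → R) ⧸ L := fun m => L.mkQ (fun i => f (σ m i))
    have hwd : ∀ a b : Fin n → R, π a = π b → L.mkQ (fun i => f (a i)) = L.mkQ (fun i => f (b i)) := by
      intro a b hab
      rw [← sub_eq_zero, ← map_sub, Submodule.mkQ_apply, Submodule.Quotient.mk_eq_zero]
      refine Submodule.subset_span ⟨a - b, by simp [hab], ?_⟩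
      funext i; exact map_sub f (a i) (b i)
    have hσ : ∀ m, π (σ m) = m := Function.surjInv_eq hπs
    have g0add : ∀ a b, g0 (a + b) = g0 a + g0 b := by
      intro a b
      rw [show g0 a + g0 b = L.mkQ (fun i => f ((σ a + σ b) i)) by
        simp only [g0, ← map_add]; congr 1; funext i; exact (map_add f _ _).symm]
      exact hwd _ _ (by rw [map_add, hσ, hσ, hσ])
    have g0smul : ∀ (a : R) m, g0 (a • m) = f a • g0 m := by
      intro a m
      rw [show f a • g0 m = L.mkQ (fun i => f ((a • σ m) i)) by
        simp only [g0, ← map_smul]; congr 1; funext i; exact (map_mul f _ _).symm]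
      exact hwd _ _ (by rw [map_smul, hσ, hσ])
    let g : ModuleCat.of R M ⟶ (ModuleCat.restrictScalars f).obj (ModuleCat.of R ((Fin n → R) ⧸ L)) :=
      ModuleCat.ofHom (Y := (ModuleCat.restrictScalars f).obj (ModuleCat.of R ((Fin n → R) ⧸ L)))
        { toFun := g0, map_add' := g0add, map_smul' := g0smul }
    let G := (adj.homEquiv _ _).symm g
    have hG : ∀ m, G.hom (η m) = g0 m := by
      intro m
      have := (adj.homEquiv _ _).apply_symm_apply g
      rw [Adjunction.homEquiv_unit] at this
      exact congrArg (fun q : ModuleCat.of R M ⟶ (ModuleCat.restrictScalars f).obj (ModuleCat.of R ((Fin n → R) ⧸ L)) => q.hom m) this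
    have h0 : G.hom (π'' w) = L.mkQ w := by
      simp only [π'', Fintype.linearCombination_apply, map_sum, map_smul, hG]
      conv_rhs => rw [pi_eq_sum_univ w, map_sum]
      refine Finset.sum_congr rfl fun i _ => ?_
      rw [map_smul]
      congr 1
      refine (hwd (σ (v i)) (fun j => if i = j then 1 else 0) ?_).trans ?_
      · rw [hσ]; simp [π, Fintype.linearCombination_apply]
      · congr 1; funext j; split_ifs <;> simp
    rw [show π'' w = 0 from hw, map_zero] at h0
    exact (Submodule.Quotient.mk_eq_zero L).mp h0.symm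
  let π' : (Fin n → R) →ₗ[R] M := iso.toLinearEquiv.toLinearMap.comp π''
  obtain ⟨ψ, hψ⟩ := Module.projective_lifting_property π π' hπs
  have hψs : Function.Surjective ψ := by
    rw [← LinearMap.range_eq_top, eq_top_iff]
    refine Submodule.le_of_le_smul_of_le_jacobson_bot Module.Finite.fg_top
      (I := maximalIdeal R) (IsLocalRing.maximalIdeal_le_jacobson _) ?_
    intro x _
    obtain ⟨y, hy⟩ := iso.toLinearEquiv.surjective.comp hπ''s (π x)
    have hk : x - ψ y ∈ LinearMap.ker π := by
      rw [LinearMap.mem_ker, map_sub, ← LinearMap.comp_apply π ψ, hψ]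
      exact sub_eq_zero.mpr hy.symm
    have hx : x - ψ y ∈ maximalIdeal R • (⊤ : Submodule R (Fin n → R)) := by
      rw [pi_eq_sum_univ (x - ψ y)]
      exact Submodule.sum_mem _ fun i _ => Submodule.smul_mem_smul (hmin _ hk i) trivial
    rw [show x = ψ y + (x - ψ y) by abel]
    exact Submodule.add_mem_sup ⟨y, rfl⟩ hx
  have hKle : ∀ w ∈ LinearMap.ker π, ∃ z ∈ L, ψ z = w := by
    intro w hw
    obtain ⟨z, rfl⟩ := hψs w
    refine ⟨z, hker ?_, rfl⟩
    rw [LinearMap.mem_ker, ← LinearMap.comp_apply π ψ, hψ] at hw
    exact iso.toLinearEquiv.map_eq_zero_iff.mp hw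
  let c : Ideal R := Ideal.span {r | ∃ w ∈ LinearMap.ker π, ∃ i, w i = r}
  have hL : ∀ z ∈ L, ∀ i, z i ∈ maximalIdeal R * c := by
    intro z hz
    induction hz using Submodule.span_induction with
    | mem z hz =>
      obtain ⟨w, hw, rfl⟩ := hz
      intro i
      show w i ^ p ∈ _
      obtain ⟨q, hq⟩ : ∃ q, p = q + 2 := ⟨p - 2, by have := (Fact.out : p.Prime).two_le; omega⟩
      rw [hq, show w i ^ (q + 2) = (w i ^ q * w i) * w i by ring]
      exact Ideal.mul_mem_mul (Ideal.mul_mem_left _ _ (hmin w hw i)) (Ideal.subset_span ⟨w, hw, i, rfl⟩)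
    | zero => intro i; simp
    | add a b _ _ ha hb => intro i; exact add_mem (ha i) (hb i)
    | smul a b _ hb => intro i; exact Ideal.mul_mem_left _ _ (hb i)
  have hc : c ≤ maximalIdeal R • c := by
    refine Ideal.span_le.mpr ?_
    rintro _ ⟨w, hw, i, rfl⟩
    obtain ⟨z, hz, rfl⟩ := hKle w hw
    rw [SetLike.mem_coe, smul_eq_mul, pi_eq_sum_univ z, map_sum, Finset.sum_apply]
    refine Submodule.sum_mem _ fun j _ => ?_
    rw [map_smul]
    exact Ideal.mul_mem_right _ _ (hL z hz j)
  have hc0 : c = ⊥ := Submodule.eq_bot_of_le_smul_of_le_jacobson_bot _ c (IsNoetherian.noetherian c) hc (IsLocalRing.maximalIdeal_le_jacobson _)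
  have hinj : Function.Injective π := by
    rw [injective_iff_map_eq_zero]
    intro w hw
    funext i
    have : w i ∈ c := Ideal.subset_span ⟨w, hw, i, rfl⟩
    rwa [hc0, Ideal.mem_bot] at this
  exact Module.Free.of_equiv (LinearEquiv.ofBijective π ⟨hinj, hπs⟩)

end Groth.Agent.S0337
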