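import Groth.Statements.S0342
import Mathlib
import Groth.Prelude.Def_CAlg
import Groth.Agent.Lib.RegularLocalSerre

set_option autoImplicit false
universe u v
open CategoryTheory
open Goren

namespace Groth.Agent.S0342

/-- Regular local rings have finite injective dimension over themselves, i.e. are Gorenstein. -/
theorem result (A : Type u) [CommRing A] [IsRegularLocalRing A] : LocCoh.IsGorensteinLocalRing A := by
  refine { exists_hasInjectiveDimensionLT := ⟨(IsLocalRing.maximalIdeal A).spanFinrank + 1, ?_⟩ }
  refine Groth.Agent.RegLocal.hasInjectiveDimensionLT_of_quotients _ _ fun I => ?_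
  have := Groth.Agent.RegLocal.pdLT_of_regular_finite (IsLocalRing.maximalIdeal A).spanFinrank A rfl (A ⧸ I)
  exact HasProjectiveDimensionLT.subsingleton (ModuleCat.of A (A ⧸ I)) _ _ le_rfl _

end Groth.Agent.S0342
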