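import Groth.Statements.S0343
import Mathlib
import Groth.Prelude.Def_CAlg
import Groth.Agent.Lib.RegularLocalSerre
import Groth.Agent.Lib.InjDimResidue
import Groth.Agent.Lib.GorensteinQuotient

set_option autoImplicit false
universe u v
open CategoryTheory
open Groth.Agent.InjDimResidue
open Groth.Agent.GorensteinQuotient
open Goren

namespace Groth.Agent.S0343

/-- For a Noetherian local ring A and a non-zero-divisor f in the maximal ideal, A is Gorenstein exactly
when A/(f) is. -/
theorem result (A : Type u) [CommRing A] [IsLocalRing A] [IsNoetherianRing A] (f : A) (hf : f ∈ IsLocalRing.maximalIdeal A) (hreg : IsSMulRegular A f) : LocCoh.IsGorensteinLocalRing A ↔ LocCoh.IsGorensteinLocalRing (A ⧸ Ideal.span {f}) := by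
  haveI : Nontrivial (A ⧸ Ideal.span {f}) := Submodule.Quotient.nontrivial_iff.mpr fun h =>
    (IsLocalRing.maximalIdeal.isMaximal A).ne_top (top_le_iff.mp (h ▸ (Ideal.span_singleton_le_iff_mem _).mpr hf))
  haveI : IsLocalRing (A ⧸ Ideal.span {f}) := IsLocalRing.of_surjective' _ Ideal.Quotient.mk_surjective
  constructor
  · intro h
    obtain ⟨n, hn⟩ := h.exists_hasInjectiveDimensionLT
    refine { exists_hasInjectiveDimensionLT := ⟨n + 1, ?_⟩ }
    exact injD_quotient hreg n (hasInjectiveDimensionLT_of_ge (ModuleCat.of A A) n (n + 2) (by omega))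
  · intro h
    obtain ⟨n, hn⟩ := h.exists_hasInjectiveDimensionLT
    have hQ : InjD A (A ⧸ Ideal.span {f}) (n + 2) :=
      injD_restrict (f := f) n (A ⧸ Ideal.span {f}) hreg
        (hasInjectiveDimensionLT_of_ge (ModuleCat.of (A ⧸ Ideal.span {f}) (A ⧸ Ideal.span {f})) n (n + 1) (by omega))
    refine { exists_hasInjectiveDimensionLT := ⟨n + 2 + 1, ?_⟩ }
    refine Groth.Agent.RegLocal.hasInjectiveDimensionLT_of_quotients (n + 2) _ fun I =>
      vanish_finite A (n + 2) (fun i hi => subsingleton_of_forall_eq 0 fun e => ?_) I (n + 2 + 1) (by omega)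
    let m : A →ₗ[A] A := f • LinearMap.id
    have hS := shortExact_mk m (Ideal.span {f}).mkQ (fun a b hab => hreg (by simpa [m] using hab))
      (Submodule.mkQ_surjective _) (fun a => by
        rw [Submodule.mkQ_apply, Submodule.Quotient.mk_eq_zero, Ideal.mem_span_singleton']
        simp [m, mul_comm, eq_comm])
    have h0 := hQ.subsingleton _ _ i hi (ModuleCat.of A (IsLocalRing.ResidueField A))
    obtain ⟨e', rfl⟩ := Abelian.Ext.covariant_sequence_exact₂ _ hS e (h0.elim _ _)
    have hk : f ∈ Module.annihilator A (ModuleCat.of A (IsLocalRing.ResidueField A)) := by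
      rw [Module.mem_annihilator]
      intro x
      change f • (x : IsLocalRing.ResidueField A) = 0
      rw [Algebra.smul_def, IsLocalRing.ResidueField.algebraMap_eq, (IsLocalRing.residue_eq_zero_iff f).mpr hf, zero_mul]
    have hz := Abelian.Ext.postcomp_smul_id_eq_zero_of_mem_annihilator (M := ModuleCat.of A A) hk i
    have := DFunLike.congr_fun (congrArg AddCommGrpCat.Hom.hom hz) e'
    exact this

end Groth.Agent.S0343
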