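import Groth.Statements.S0345
import Mathlib
import Groth.Prelude.Def_CAlg
import Groth.Agent.Lib.RegularLocalSerre
import Groth.Agent.Lib.InjDimResidue
import Groth.Agent.Lib.GorensteinQuotient
import Groth.Agent.Lib.H2Depth
import Groth.Agent.Lib.GorensteinCM

set_option autoImplicit false
universe u v
open CategoryTheory
open Groth.Agent.InjDimResidue
open Groth.Agent.GorensteinQuotient
open Pointwise
open Groth.Agent.GorensteinCM
open Goren

namespace Groth.Agent.S0345

/-- For a Noetherian ring A, the A-module A has finite injective dimension exactly when every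
localization of A at a prime is Gorenstein and A has finite Krull dimension. -/
theorem result (A : Type u) [CommRing A] [IsNoetherianRing A] : (∃ n : ℕ, CategoryTheory.HasInjectiveDimensionLT (ModuleCat.of A A) n) ↔ (LocCoh.IsGorensteinRing A ∧ ringKrullDim A < ⊤) := by
  constructor
  · rintro ⟨n, hn⟩
    have h1 : ∀ p : PrimeSpectrum A, InjD (Localization.AtPrime p.1) (Localization.AtPrime p.1) (n + 1) := by
      intro p
      exact (injD_localization p.1.primeCompl n).mpr
        ((ModuleCat.hasInjectiveDimensionLE_iff_forall_primeSpectrum n (ModuleCat.of A A)).mp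
          (hasInjectiveDimensionLT_of_ge (ModuleCat.of A A) n (n + 1) (by omega)) p)
    have h2 : ∀ p : PrimeSpectrum A, (p.1.height : ℕ∞) ≤ n := by
      intro p
      obtain ⟨d, hdn, -, hd, -⟩ := gor_seq n _ (h1 p)
      rw [IsLocalization.AtPrime.ringKrullDim_eq_height p.1 (Localization.AtPrime p.1)] at hd
      have : p.1.height = (d : ℕ∞) := by exact_mod_cast hd
      rw [this]
      exact_mod_cast hdn
    refine ⟨{ isGorensteinLocalRing_localization := fun p hp =>
      { exists_hasInjectiveDimensionLT := ⟨n + 1, h1 ⟨p, hp⟩⟩ } }, ?_⟩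
    refine lt_of_le_of_lt ((ringKrullDim_le_iff_isMaximal_height_le (n := (n : WithBot ℕ∞))).mpr
      fun p hp => by exact_mod_cast h2 ⟨p, hp.isPrime⟩) ?_
    exact WithBot.coe_lt_coe.mpr (ENat.coe_lt_top n)
  · rintro ⟨hG, hdim⟩
    obtain ⟨N, hN⟩ : ∃ N : ℕ, ringKrullDim A ≤ N := by
      cases h : ringKrullDim A with
      | bot => exact ⟨0, bot_le⟩
      | coe a =>
        cases a with
        | top => rw [h] at hdim; exact absurd hdim (lt_irrefl _)
        | coe a => exact ⟨a, le_rfl⟩
    refine ⟨N + 1, (ModuleCat.hasInjectiveDimensionLE_iff_forall_primeSpectrum N (ModuleCat.of A A)).mpr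
      fun p => (injD_localization p.1.primeCompl N).mp ?_⟩
    obtain ⟨n, hn⟩ := (hG.isGorensteinLocalRing_localization p.1).exists_hasInjectiveDimensionLT
    obtain ⟨d, -, hd1, hd, -⟩ := gor_seq n (Localization.AtPrime p.1)
      (hasInjectiveDimensionLT_of_ge (ModuleCat.of _ (Localization.AtPrime p.1)) n (n + 1) (by omega))
    have hle : (d : WithBot ℕ∞) ≤ N := hd ▸ (le_trans (le_of_eq (IsLocalization.AtPrime.ringKrullDim_eq_height p.1 _))
      ((Ideal.height_le_ringKrullDim_of_ne_top p.2.ne_top).trans hN))
    have : d ≤ N := by exact_mod_cast hle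
    exact hasInjectiveDimensionLT_of_ge (ModuleCat.of _ (Localization.AtPrime p.1)) (d + 1) (N + 1) (by omega)

end Groth.Agent.S0345
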