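import Groth.Statements.S0346
import Mathlib

set_option autoImplicit false
universe u v
open CategoryTheory MonoidalCategory CartesianMonoidalCategory MonObj GrpObj AlgebraicGeometry
open GrpSch

namespace Groth.Agent.S0346

open CategoryTheory Limits AlgebraicGeometry MonoidalCategory CartesianMonoidalCategory MonObj in
set_option backward.defeqAttrib.useBackward true in
set_option backward.isDefEq.respectTransparency false in
theorem property_diagonal_iff_unit (P : MorphismProperty Scheme.{u}) [P.IsStableUnderBaseChange]
    {S : Scheme.{u}} (G : Over S) [GrpObj G] :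
    P (pullback.diagonal G.hom) ↔ P η[G].left := by
  have hu : ∀ {T : Over S} (a : T ⟶ 𝟙_ _), a ≫ η[G] = 1 := fun a => by
    rw [Hom.one_def, Subsingleton.elim a (toUnit _)]
  let d : G ⊗ G ⟶ G := fst G G * (snd G G)⁻¹
  let Δ : G ⟶ G ⊗ G := lift (𝟙 G) (𝟙 G)
  have h1 : IsPullback Δ (toUnit G) d η[G] := by
    refine IsPullback.of_isLimit' ⟨by simp [Δ, d, comp_mul, GrpObj.comp_inv, hu]⟩
      (PullbackCone.IsLimit.mk _ (fun s => s.fst ≫ fst G G) (fun s => ?_)
        (fun s => Subsingleton.elim _ _) fun s m hm _ => by simp [← hm, Δ])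
    have := s.condition
    rw [hu, comp_mul, GrpObj.comp_inv, mul_inv_eq_one] at this
    ext <;> simp [Δ, this]
  have h2 : IsPullback η[G] η[G] (lift (𝟙 G) 1) Δ := by
    refine IsPullback.of_isLimit' ⟨by ext <;> simp [Δ, ← hu (𝟙 (𝟙_ (Over S))), MonObj.comp_one]⟩
      (PullbackCone.IsLimit.mk _ (fun s => toUnit _) (fun s => ?_) (fun s => ?_)
        fun s m _ _ => Subsingleton.elim _ _)
    · have e1 := congrArg (· ≫ fst G G) s.condition
      have e2 := congrArg (· ≫ snd G G) s.condition
      simp only [Δ, Category.assoc, lift_fst, lift_snd, Category.comp_id, MonObj.comp_one] at e1 e2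
      rw [hu, e1, ← e2]
    · have e2 := congrArg (· ≫ snd G G) s.condition
      simp only [Δ, Category.assoc, lift_snd, Category.comp_id, MonObj.comp_one] at e2
      rw [hu, ← e2]
  have hΔ : Δ.left = pullback.diagonal G.hom := by
    apply pullback.hom_ext <;> simp [Δ]
  constructor
  · intro h
    exact P.of_isPullback (h2.map (Over.forget S)).flip (show P Δ.left by rw [hΔ]; exact h)
  · intro h
    exact hΔ ▸ (P.of_isPullback (h1.map (Over.forget S)).flip h : P Δ.left)

open CategoryTheory AlgebraicGeometry MonObj in
theorem grp_isSeparated {K : Type u} [Field K] (G : Over (Spec (CommRingCat.of K))) [GrpObj G] :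
    IsSeparated G.hom :=
  ⟨(property_diagonal_iff_unit @IsClosedImmersion G).mpr inferInstance⟩

/-- A group scheme over any base scheme is separated over the base exactly when its unit section is a
closed immersion, and quasi-separated exactly when the unit section is quasi-compact. -/
theorem result (S : Scheme.{u}) (G : Over S) [GrpObj G] : (IsSeparated G.hom ↔ IsClosedImmersion η[G].left) ∧ (QuasiSeparated G.hom ↔ QuasiCompact η[G].left) := by
  exact ⟨⟨fun h => (property_diagonal_iff_unit @IsClosedImmersion G).mp h.diagonal_isClosedImmersion,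
    fun h => ⟨(property_diagonal_iff_unit @IsClosedImmersion G).mpr h⟩⟩,
    ⟨fun h => (property_diagonal_iff_unit @QuasiCompact G).mp h.quasiCompact_diagonal,
    fun h => ⟨(property_diagonal_iff_unit @QuasiCompact G).mpr h⟩⟩⟩

end Groth.Agent.S0346
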