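import Groth.Statements.S0349
import Mathlib
import Groth.Agent.Lib.H8Shear

set_option autoImplicit false
universe u v
open CategoryTheory MonoidalCategory CartesianMonoidalCategory MonObj GrpObj AlgebraicGeometry
open GrpSch

namespace Groth.Agent.S0349

open CategoryTheory MonoidalCategory CartesianMonoidalCategory AlgebraicGeometry MonObj Limits in
set_option backward.isDefEq.respectTransparency false in
theorem compact_of_irreducible {K : Type u} [Field K] (G : Over (Spec (CommRingCat.of K))) [GrpObj G]
    [IrreducibleSpace G.left] : CompactSpace G.left := by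
  obtain ⟨x⟩ : Nonempty G.left := inferInstance
  obtain ⟨_, ⟨U₀, hU, rfl⟩, hxU, -⟩ :=
    G.left.isBasis_affineOpens.exists_subset_of_mem_open (Set.mem_univ x) isOpen_univ
  let U : G.left.Opens := U₀
  have hd : Dense (U : Set G.left) := U.isOpen.dense ⟨x, hxU⟩
  let j : pullback (U.ι ≫ G.hom) (U.ι ≫ G.hom) ⟶ (G ⊗ G).left :=
    pullback.map _ _ G.hom G.hom U.ι U.ι (𝟙 _) (Category.comp_id _) (Category.comp_id _)
  have : IsAffine (U : Scheme) := hU
  have : IsAffine (pullback (U.ι ≫ G.hom) (U.ι ≫ G.hom)) := inferInstance
  constructor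
  rw [← H8Shear.mul_image_dense U U hd hd]
  refine IsCompact.image ?_ μ[G].left.continuous
  have e : Set.range j = (fst G G).left ⁻¹' (U : Set G.left) ∩ (snd G G).left ⁻¹' (U : Set G.left) := by
    show Set.range (pullback.map _ _ G.hom G.hom U.ι U.ι (𝟙 _) _ _) = _
    rw [Scheme.Pullback.range_map, Scheme.Opens.range_ι]
    rfl
  rw [← e]
  exact isCompact_range j.continuous

/-- An irreducible group scheme over a field is quasi-compact. -/
theorem result (K : Type u) [Field K] (G : Over (Spec (CommRingCat.of K))) [GrpObj G] [IrreducibleSpace G.left] : CompactSpace G.left := by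
  exact compact_of_irreducible G

end Groth.Agent.S0349
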