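import Groth.Statements.S0350
import Mathlib
import Groth.Agent.Lib.H8IdComp

set_option autoImplicit false
universe u v
open CategoryTheory MonoidalCategory CartesianMonoidalCategory MonObj GrpObj AlgebraicGeometry
open GrpSch

namespace Groth.Agent.S0350

/-- Let G be a group scheme over a field K. Then for every point x of G the local ring O_{G,x} has at
most one (hence exactly one) minimal prime, and there is exactly one irreducible component of G
passing through the identity point. The published statement also asserts that this component is
geometrically irreducible, which is not asserted here. -/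
theorem result (K : Type u) [Field K] (G : Over (Spec (CommRingCat.of K))) [GrpObj G] : (∀ x : G.left, (minimalPrimes (G.left.presheaf.stalk x)).Subsingleton) ∧ ∃! Z : Set G.left, Z ∈ irreducibleComponents (G.left : Type u) ∧ η[G].left (IsLocalRing.closedPoint K) ∈ Z := by
  refine ⟨fun x => ?_, closure {Groth.Agent.H8Component.gen₀ G}, ⟨⟨isIrreducible_singleton.closure, ?_⟩,
    specializes_iff_mem_closure.mp (Groth.Agent.H8Component.gen_specializes G _)⟩, ?_⟩
  · have key : ∀ p ∈ minimalPrimes (G.left.presheaf.stalk x), ∃ q : PrimeSpectrum (G.left.presheaf.stalk x),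
        q.asIdeal = p ∧ G.left.fromSpecStalk x q = Groth.Agent.H8Component.gen G x := by
      intro p hp
      let q : PrimeSpectrum (G.left.presheaf.stalk x) := ⟨p, hp.1.1⟩
      refine ⟨q, rfl, Groth.Agent.H8Component.eq_gen G (fun y hy => ?_) ?_⟩
      · have hyx : y ⤳ x := hy.trans ?_
        · obtain ⟨r, rfl⟩ : y ∈ Set.range (G.left.fromSpecStalk x) := by
            rw [Scheme.range_fromSpecStalk]; exact hyx
          have hr := (G.left.fromSpecStalk x).isEmbedding.isInducing.specializes_iff.mp hy
          have hle : PrimeSpectrum.asIdeal r ≤ p := (PrimeSpectrum.le_iff_specializes r q).mpr hr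
          exact congrArg _ (PrimeSpectrum.ext (le_antisymm hle (hp.2 ⟨PrimeSpectrum.isPrime r, bot_le⟩ hle)))
        · exact (Scheme.range_fromSpecStalk (x := x)).le ⟨q, rfl⟩
      · exact (Scheme.range_fromSpecStalk (x := x)).le ⟨q, rfl⟩
    intro p hp p' hp'
    obtain ⟨q, rfl, hq⟩ := key p hp
    obtain ⟨q', rfl, hq'⟩ := key p' hp'
    exact congrArg PrimeSpectrum.asIdeal ((G.left.fromSpecStalk x).isEmbedding.injective (hq.trans hq'.symm))
  · intro Z hZ hle
    obtain ⟨z, hz⟩ := QuasiSober.sober hZ.closure isClosed_closure
    have hzy : z ⤳ Groth.Agent.H8Component.gen₀ G := hz.specializes (subset_closure (hle (subset_closure rfl)))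
    intro w hw
    rw [← (show z = Groth.Agent.H8Component.gen₀ G from Groth.Agent.H8Component.isMaxPt_gen G _ z hzy), hz.def]
    exact subset_closure hw
  · rintro Z ⟨hZ, he⟩
    obtain ⟨c, hc⟩ := QuasiSober.sober hZ.prop (isClosed_of_mem_irreducibleComponents _ hZ)
    have hmax : Groth.Agent.H8GenPoint.IsMaxPt c := by
      intro y hy
      have hsub : Z ⊆ closure {y} := by
        rw [← hc.def]
        exact closure_minimal (Set.singleton_subset_iff.mpr hy.mem_closure) isClosed_closure
      exact (hy.antisymm (hc.specializes ((hZ.2 isIrreducible_singleton.closure hsub)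
        (subset_closure rfl)))).eq
    have hc0 : c = Groth.Agent.H8Component.gen₀ G :=
      Groth.Agent.H8Component.eq_gen G hmax (hc.specializes he)
    rw [← hc0]
    exact hc.def.symm

end Groth.Agent.S0350
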