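import Groth.Statements.S7495
import Mathlib

set_option autoImplicit false
universe u
open CategoryTheory MonoidalCategory CartesianMonoidalCategory MonObj GrpObj AlgebraicGeometry
open GrpSch

namespace Groth.Agent.S7495
open CategoryTheory Limits AlgebraicGeometry MonObj MonoidalCategory CartesianMonoidalCategory in
set_option backward.defeqAttrib.useBackward true in
set_option backward.isDefEq.respectTransparency false in
theorem smooth_of_nonempty_smoothLocus {K : Type u} [Field K] [IsAlgClosed K] {G : Scheme.{u}}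
    (f : G ⟶ Spec (.of K)) [LocallyOfFiniteType f] [GrpObj (Over.mk f)]
    (hne : (f.smoothLocus : Set G).Nonempty) : Smooth f := by
  have := LocallyOfFiniteType.jacobsonSpace f
  rw [← Scheme.Hom.smoothLocus_eq_top_iff, ← TopologicalSpace.Opens.coe_eq_univ,
    ← not_ne_iff, ← Set.nonempty_compl]
  intro H
  obtain ⟨x, hx, hxc⟩ :=
    nonempty_inter_closedPoints H f.smoothLocus.2.isClosed_compl.isLocallyClosed
  obtain ⟨y, hy : y ∈ f.smoothLocus, hyc⟩ := nonempty_inter_closedPoints hne f.smoothLocus.2.isLocallyClosed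
  let x' : 𝟙_ _ ⟶ Over.mk f := Over.homMk _ ((pointEquivClosedPoint f).symm ⟨x, hxc⟩).2
  let y' : 𝟙_ _ ⟶ Over.mk f := Over.homMk _ ((pointEquivClosedPoint f).symm ⟨y, hyc⟩).2
  let α := (GrpObj.mulRight (A := Over.mk f) x').symm ≪≫
    (GrpObj.mulRight (A := Over.mk f) y')
  have hα : x' ≫ α.hom = y' := by
    dsimp only [Iso.trans_hom, Iso.symm_hom, α]
    rw [← Category.assoc, ← Iso.eq_comp_inv]
    simp [comp_lift_assoc]
  have hα' : α.hom.left x = y := by
    simpa [x', y', pointEquivClosedPoint] using congr(($hα).left (IsLocalRing.closedPoint K))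
  rw! [← hα', ← α.hom.left.mem_preimage, Scheme.Hom.preimage_smoothLocus_eq,
    show α.hom.left ≫ f = f from α.hom.w] at hy
  exact hx hy

open CategoryTheory Limits AlgebraicGeometry MonObj MonoidalCategory CartesianMonoidalCategory in
theorem smooth_perfect {K : Type u} [Field K] [PerfectField K] {G : Scheme.{u}}
    (f : G ⟶ Spec (.of K)) [LocallyOfFiniteType f] [GrpObj (Over.mk f)] [IsReduced G] : Smooth f := by
  have : Nonempty G := ⟨η[Over.mk f].left (IsLocalRing.closedPoint K)⟩
  let Ω : Type u := AlgebraicClosure K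
  let g : Spec (.of Ω) ⟶ Spec (.of K) := Spec.map (CommRingCat.ofHom <| algebraMap K Ω)
  apply MorphismProperty.of_pullback_snd_of_descendsAlong
    (Q := @Surjective ⊓ @Flat ⊓ @QuasiCompact) (g := g)
  · exact ⟨⟨inferInstance, inferInstance⟩, inferInstance⟩
  let : GrpObj (Over.mk (pullback.snd f g)) := Over.grpObjMkPullbackSnd
  refine smooth_of_nonempty_smoothLocus _ ?_
  obtain ⟨x, hx⟩ := f.dense_smoothLocus_of_perfectField.nonempty
  let U := f.smoothLocus
  have hUtop : Smooth (U.ι ≫ f) := by
    rw [← Scheme.Hom.smoothLocus_eq_top_iff, ← Scheme.Hom.preimage_smoothLocus_eq, Scheme.Opens.ι_preimage_self]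
  let j : pullback (U.ι ≫ f) g ⟶ pullback f g := pullback.map (U.ι ≫ f) g f g U.ι (𝟙 _) (𝟙 _) (by simp) (by simp)
  have hj : IsOpenImmersion j := inferInstance
  have hjs : j ≫ pullback.snd f g = pullback.snd (U.ι ≫ f) g := by
    simp only [j, pullback.map, Category.comp_id]
    exact pullback.lift_snd _ _ _
  obtain ⟨z, -⟩ := (pullback.fst (U.ι ≫ f) g).surjective ⟨x, hx⟩
  refine ⟨j z, ?_⟩
  show z ∈ j ⁻¹ᵁ (pullback.snd f g).smoothLocus
  have hsm : Smooth (j ≫ pullback.snd f g) := by rw [hjs]; infer_instance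
  have htop := Scheme.Hom.smoothLocus_eq_top_iff.mpr hsm
  rw [Scheme.Hom.preimage_smoothLocus_eq, htop]
  trivial

/-- Let k be a perfect field of positive characteristic and G a group scheme locally of finite type over
k whose underlying scheme is reduced. Then G -> Spec k is smooth. -/
theorem result (K : Type u) [Field K] [PerfectField K] (hK : ringChar K ≠ 0) (G : Over (Spec (CommRingCat.of K))) [GrpObj G] [LocallyOfFiniteType G.hom] [IsReduced G.left] : Smooth G.hom := by
  let : GrpObj (Over.mk G.hom) := ‹GrpObj G›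
  exact smooth_perfect G.hom

end Groth.Agent.S7495
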