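import Groth.Statements.S0353
import Mathlib
import Groth.Agent.Lib.H8Cartier
import Groth.Agent.S7495

set_option autoImplicit false
universe u v
open CategoryTheory MonoidalCategory CartesianMonoidalCategory MonObj GrpObj AlgebraicGeometry
open GrpSch

namespace Groth.Agent.S0353

open CategoryTheory Limits AlgebraicGeometry in
theorem smooth_charZero {K : Type u} [Field K] [CharZero K] {G : Scheme.{u}}
    (f : G ⟶ Spec (.of K)) [LocallyOfFiniteType f] [GrpObj (Over.mk f)] : Smooth f := by
  let Ω : Type u := AlgebraicClosure K
  have : CharZero Ω := charZero_of_injective_algebraMap (algebraMap K Ω).injective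
  let g : Spec (.of Ω) ⟶ Spec (.of K) := Spec.map (CommRingCat.ofHom <| algebraMap K Ω)
  apply MorphismProperty.of_pullback_snd_of_descendsAlong
    (Q := @Surjective ⊓ @Flat ⊓ @QuasiCompact) (g := g)
  · exact ⟨⟨inferInstance, inferInstance⟩, inferInstance⟩
  let : GrpObj (Over.mk (pullback.snd f g)) := Over.grpObjMkPullbackSnd
  have := Groth.Agent.H8Cartier.isReduced_of_isAlgClosed (pullback.snd f g)
  exact Groth.Agent.S7495.smooth_perfect _


/-- A group scheme locally of finite type over a field of characteristic zero is smooth over the field. -/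
theorem result (K : Type u) [Field K] (G : Over (Spec (CommRingCat.of K))) [GrpObj G] [CharZero K] [LocallyOfFiniteType G.hom] : Smooth G.hom := by
  let : GrpObj (Over.mk G.hom) := ‹GrpObj G›
  exact Groth.Agent.S0353.smooth_charZero G.hom

end Groth.Agent.S0353
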