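import Groth.Statements.S0380
import Mathlib
import Groth.Prelude.Def_Wider
import Groth.Agent.Lib.H2LCFlat
import Groth.Agent.Lib.H2LCTop
import Groth.Agent.S11618

set_option autoImplicit false
universe u v
open LocCoh

namespace Groth.Agent.S0380
open CategoryTheory TensorProduct Groth.Agent.H2LC

/-- Local cohomology with support in I vanishes above degree d on all modules exactly when, for every
prime p, local cohomology over A_p with support in I A_p vanishes above degree d on all A_p-modules. -/
theorem result (R : Type u) [CommRing R] [IsNoetherianRing R] (I : Ideal R) (d : ℕ) : LocCoh.CdLE R I d ↔ ∀ (p : Ideal R) [p.IsPrime], LocCoh.CdLE (Localization.AtPrime p) (I.map (algebraMap R (Localization.AtPrime p))) d := by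
  constructor
  · intro h p _ N _ _ i hi
    letI : Module R N := Module.compHom N (algebraMap R (Localization.AtPrime p))
    haveI : IsScalarTower R (Localization.AtPrime p) N := IsScalarTower.of_algebraMap_smul fun r n => rfl
    haveI : IsNoetherianRing (Localization.AtPrime p) := IsLocalization.isNoetherianRing p.primeCompl _ inferInstance
    obtain ⟨φ, -⟩ := exists_baseEquiv (R' := Localization.AtPrime p) I i N
    haveI := h N i hi
    exact φ.toEquiv.subsingleton
  · intro h M _ _ i hi
    rw [← Module.support_eq_empty_iff (R := R)]
    rw [Set.eq_empty_iff_forall_notMem]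
    intro P
    rw [Module.notMem_support_iff]
    obtain ⟨e⟩ := Groth.Agent.S11618.result R I P.asIdeal.primeCompl M i
    haveI := h P.asIdeal (LocalizedModule P.asIdeal.primeCompl M) i hi
    exact e.toEquiv.subsingleton

end Groth.Agent.S0380
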