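import Groth.Statements.S0382
import Mathlib
import Groth.Agent.Lib.H8PowEtale

set_option autoImplicit false
universe u v
open CategoryTheory MonoidalCategory CartesianMonoidalCategory MonObj GrpObj AlgebraicGeometry
open GrpSch

namespace Groth.Agent.S0382

/-- On an abelian variety of positive dimension over a field K (a proper, geometrically integral group
scheme over K), multiplication by an integer d is étale exactly when d is nonzero in K.
Multiplication by d is written as the d-th power of the identity morphism in the group Hom(A, A),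
whose multiplication is pointwise, induced by the group structure of A. -/
theorem result (K : Type u) [Field K] (A : Over (Spec (CommRingCat.of K))) [GrpObj A] [IsProper A.hom] [GeometricallyIntegral A.hom] (hA : 0 < topologicalKrullDim A.left) (d : ℤ) : Etale ((𝟙 A ^ d).left) ↔ ((d : K) ≠ 0) := by
  haveI : IsCommMonObj A := isCommMonObj_of_isProper_of_geometricallyIntegral A
  have hinv : ∀ h : A ⟶ A, (h⁻¹ : A ⟶ A) = h ≫ (𝟙 A)⁻¹ := fun h => by
    rw [GrpObj.comp_inv, Category.comp_id]
  haveI : IsIso ((𝟙 A)⁻¹ : A ⟶ A) := ⟨(𝟙 A)⁻¹, by rw [← hinv, _root_.inv_inv], by rw [← hinv, _root_.inv_inv]⟩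
  haveI : IsIso ((𝟙 A)⁻¹ : A ⟶ A).left :=
    ((CategoryTheory.Over.forget _).mapIso (asIso ((𝟙 A)⁻¹ : A ⟶ A))).isIso_hom
  have key : ∀ n : ℕ, Etale ((𝟙 A : A ⟶ A) ^ n).left ↔ (n : K) ≠ 0 := by
    intro n
    refine ⟨fun het hn => ?_, fun hn => Groth.Agent.H8PowEtale.etale_pow A n hn⟩
    have hfld := Groth.Agent.H8PowEtale.isField_of_etale A n hn
    haveI : IsIntegral A.left := GeometricallyIntegral.isIntegral_of_subsingleton A.hom
    let e : A.left := Groth.Agent.H8PowTangent.org A
    have hclosed : IsClosed ({e} : Set A.left) := by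
      let u : Spec (CommRingCat.of K) ⟶ A.left := (Groth.Agent.H8PowTangent.one₀ A).left
      have hu : u ≫ A.hom = 𝟙 _ := by
        refine (CategoryTheory.Over.w (Groth.Agent.H8PowTangent.one₀ A)).trans ?_
        exact Spec.map_id _
      haveI : IsClosedImmersion u := isClosedImmersion_of_comp_eq_id A.hom u hu
      have := u.isClosedEmbedding.isClosedMap _ (isClosed_singleton (x := IsLocalRing.closedPoint K))
      convert this using 1
      exact (Set.image_singleton (f := fun x => u x)).symm
    have hgen : genericPoint A.left = e := by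
      have hs : genericPoint A.left ⤳ e :=
        ((genericPoint_spec A.left).specializes (Set.mem_univ e))
      obtain ⟨q, hq⟩ : genericPoint A.left ∈ Set.range (A.left.fromSpecStalk e) := by
        rw [Scheme.range_fromSpecStalk]; exact hs
      letI := hfld.toField
      haveI : Subsingleton ↥(Spec (A.left.presheaf.stalk e)) :=
        inferInstanceAs (Subsingleton (PrimeSpectrum (A.left.presheaf.stalk e)))
      rw [← hq, Subsingleton.elim q (IsLocalRing.closedPoint _)]
      exact Scheme.fromSpecStalk_closedPoint
    have huniv : ∀ y : A.left, y = e := by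
      intro y
      have h := (genericPoint_spec A.left).def ▸ Set.mem_univ y
      rw [hgen, hclosed.closure_eq] at h
      exact h
    haveI : Subsingleton ↥A.left := ⟨fun a b => (huniv a).trans (huniv b).symm⟩
    refine hA.not_ge ?_
    haveI : Subsingleton (TopologicalSpace.IrreducibleCloseds ↥A.left) := ⟨fun a b => by
      ext y
      obtain ⟨za, hza⟩ := a.isIrreducible.nonempty
      obtain ⟨zb, hzb⟩ := b.isIrreducible.nonempty
      exact ⟨fun _ => Subsingleton.elim zb y ▸ hzb, fun _ => Subsingleton.elim za y ▸ hza⟩⟩
    exact Order.krullDim_nonpos_of_subsingleton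
  rcases d.eq_nat_or_neg with ⟨n, rfl | rfl⟩
  · rw [zpow_natCast, Int.cast_natCast]; exact key n
  · rw [zpow_neg, zpow_natCast, hinv, Int.cast_neg, Int.cast_natCast, neg_ne_zero,
      CategoryTheory.Over.comp_left]
    exact (MorphismProperty.cancel_right_of_respectsIso (P := @Etale) _ _).trans (key n)

end Groth.Agent.S0382
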