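import Mathlib
import Groth.Agent.Lib.H4FlatDescentExist
import Groth.Statements.S0387
-- import your own Groth.Agent.* helpers here

set_option autoImplicit false
universe u
open FlatMor

namespace Groth.Agent.S0387

/-- Openness of the flat locus, algebra form: for a ring map of finite presentation and a finitely
presented module over the target, the primes at which the localized module is flat over the base
ring form an open subset of the spectrum. -/
theorem result {R S M : Type u} [CommRing R] [CommRing S] [Algebra R S] [Algebra.FinitePresentation R S] [AddCommGroup M] [Module S M] [Module R M] [IsScalarTower R S M] [Module.FinitePresentation S M] :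
    IsOpen {q : PrimeSpectrum S | Module.Flat R (LocalizedModule q.asIdeal.primeCompl M)} := by
  obtain ⟨R₀, _, _, S₀, _, _, _, _, _, _, M₀, _, _, _, _, _, _, _, _, _, f, h1, h2, h3, h4, h5⟩ :=
    Groth.Agent.H4FlatDescent.exists_model R S M
  haveI := h1; haveI := h2; haveI := h3; haveI := h4
  haveI : IsNoetherianRing R₀ := Algebra.FiniteType.isNoetherianRing ℤ R₀
  refine isOpen_iff_forall_mem_open.2 fun q hq => ?_
  haveI : Module.Flat R (LocalizedModule q.asIdeal.primeCompl M) := hq
  obtain ⟨b, hb, h⟩ := Groth.Agent.H4FlatDescent.exists_basicOpen_flat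
    (Groth.Agent.H4FlatDescent.isBaseChange_base (R₀ := R₀) (T := R) h5)
    (Groth.Agent.H4FlatDescent.rho_surjective (R₀ := R₀) (T := R) (S₀ := S₀) (B := S)) q.asIdeal
  exact ⟨PrimeSpectrum.basicOpen b, fun q' hq' => h q'.asIdeal.primeCompl hq', (PrimeSpectrum.basicOpen b).isOpen, hb⟩

end Groth.Agent.S0387
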