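import Groth.Statements.S0390
import Mathlib
import Groth.Prelude
import Groth.Agent.Lib.H2LocalCrit

set_option autoImplicit false
universe u
open FlatMor

namespace Groth.Agent.S0390
open TensorProduct
set_option backward.isDefEq.respectTransparency.types false

open TensorProduct in
/-- Local criterion for flatness: for a local homomorphism of Noetherian local rings and a finite module
over the target, if tensoring the inclusion of the maximal ideal of the base with the module gives
an injective map (the first Tor against the residue field vanishes) then the module is flat over the
base. -/
theorem result {R S M : Type u} [CommRing R] [CommRing S] [IsLocalRing R] [IsLocalRing S] [IsNoetherianRing R] [IsNoetherianRing S] [Algebra R S] [IsLocalHom (algebraMap R S)]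
    [AddCommGroup M] [Module R M] [Module S M] [IsScalarTower R S M] [Module.Finite S M]
    (h : Function.Injective (LinearMap.rTensor M (Submodule.subtype (IsLocalRing.maximalIdeal R)))) : Module.Flat R M := by
  refine Groth.Agent.H2LocalCrit.flat_of_jacobson (S := S) (IsLocalRing.maximalIdeal R) ?_ h ?_
  · rw [IsLocalRing.jacobson_eq_maximalIdeal ⊥ bot_ne_top]
    exact ((IsLocalRing.local_hom_TFAE (algebraMap R S)).out 0 2).mp ‹_›
  · letI := Ideal.Quotient.field (IsLocalRing.maximalIdeal R)
    infer_instance

end Groth.Agent.S0390
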