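import Groth.Statements.S0393
import Mathlib
import Groth.Agent.Lib.H2LocalCrit
import Groth.Agent.Lib.H2FibreInj

set_option autoImplicit false
universe u
open FlatMor

namespace Groth.Agent.S0393
open TensorProduct LinearMap

open TensorProduct in
/-- For a local homomorphism of local rings R → S with S Noetherian, an R-linear map u from a finite
S-module N to a flat R-module M whose reduction modulo the maximal ideal of R is injective is itself
injective, and its cokernel is flat over R. -/
theorem result {R S M N : Type u} [CommRing R] [CommRing S] [IsLocalRing R] [IsLocalRing S] [IsNoetherianRing S] [Algebra R S] [IsLocalHom (algebraMap R S)]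
    [AddCommGroup M] [Module R M] [Module.Flat R M]
    [AddCommGroup N] [Module R N] [Module S N] [IsScalarTower R S N] [Module.Finite S N]
    (u : N →ₗ[R] M) (h : Function.Injective (LinearMap.lTensor (IsLocalRing.ResidueField R) u)) :
    Function.Injective u ∧ Module.Flat R (M ⧸ LinearMap.range u) := by
  exact ⟨Groth.Agent.H2FibreInj.injective (S := S) u h, Groth.Agent.H2FibreInj.flat_quotient (S := S) u h⟩

end Groth.Agent.S0393
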