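import Groth.Statements.S0395
import Mathlib
import Groth.Agent.Lib.H2LocalCrit
import Groth.Agent.Lib.H2FibreInj

set_option autoImplicit false
universe u
open FlatMor

namespace Groth.Agent.S0395
open TensorProduct LinearMap

open TensorProduct nonZeroDivisors in
/-- For a flat local homomorphism R → S of Noetherian local rings and an element f of S that is regular
on the fibre ring S/mS, the quotient of S by f is again R-flat and f is regular on S. -/
theorem result {R S : Type u} [CommRing R] [CommRing S] [IsLocalRing R] [IsLocalRing S] [IsNoetherianRing R] [IsNoetherianRing S] [Algebra R S] [IsLocalHom (algebraMap R S)] [Module.Flat R S]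
    (f : S) (hf : Ideal.Quotient.mk ((IsLocalRing.maximalIdeal R).map (algebraMap R S)) f ∈ nonZeroDivisors (S ⧸ ((IsLocalRing.maximalIdeal R).map (algebraMap R S)))) :
    Module.Flat R (S ⧸ Ideal.span {f}) ∧ f ∈ nonZeroDivisors S := by
  let m := IsLocalRing.maximalIdeal R
  let u : S →ₗ[R] S := (Algebra.lsmul R R S) f
  let T := IsLocalRing.ResidueField R ⊗[R] S
  let e : (R ⧸ m) ⊗[R] S ≃ₗ[R] S ⧸ (m • ⊤ : Submodule R S) := TensorProduct.quotTensorEquivQuotSMul S m
  have hinj : Function.Injective (u.lTensor (IsLocalRing.ResidueField R)) := by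
    rw [injective_iff_map_eq_zero]
    intro z hz
    obtain ⟨s, rfl⟩ := TensorProduct.mk_surjective R S (R ⧸ m) Ideal.Quotient.mk_surjective z
    have hz' : ((1 : R ⧸ m) ⊗ₜ[R] (f * s)) = 0 := hz
    have key : ∀ t : S, ((1 : R ⧸ m) ⊗ₜ[R] t) = 0 ↔ t ∈ m.map (algebraMap R S) := fun t => by
      rw [← e.map_eq_zero_iff, show (1 : R ⧸ m) = Ideal.Quotient.mk m 1 from rfl, TensorProduct.quotTensorEquivQuotSMul_mk_tmul,
        one_smul, Submodule.Quotient.mk_eq_zero, Ideal.smul_top_eq_map]
      rfl
    refine (key s).2 (Ideal.Quotient.eq_zero_iff_mem.1 ((mem_nonZeroDivisors_iff.1 hf).1 _ ?_))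
    rw [← map_mul, Ideal.Quotient.eq_zero_iff_mem]
    exact (key _).1 hz'
  have hq := Groth.Agent.H2FibreInj.flat_quotient (S := S) u hinj
  have hr : LinearMap.range u = (Ideal.span {f}).restrictScalars R := by
    ext x
    simp [u, Ideal.mem_span_singleton', mul_comm]
  refine ⟨?_, ?_⟩
  · exact Module.Flat.of_linearEquiv (((Submodule.quotEquivOfEq _ _ hr).trans (Submodule.Quotient.restrictScalarsEquiv R (Ideal.span {f}))).symm)
  · have hi := Groth.Agent.H2FibreInj.injective (S := S) u hinj
    refine mem_nonZeroDivisors_iff.2 ⟨fun x hx => hi ?_, fun x hx => hi ?_⟩ <;> simp [u, hx, mul_comm f x]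

end Groth.Agent.S0395
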