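import Groth.Statements.S16707
import Mathlib

set_option autoImplicit false
universe u v
open CAlg

namespace Groth.Agent.S16707
open AlgebraicGeometry CategoryTheory Limits TensorProduct
set_option backward.isDefEq.respectTransparency.types false
set_option linter.style.haveILetI false

open TensorProduct in
/-- Let A be a commutative ring, I a nilpotent ideal of A and f : M → N a homomorphism of A-modules with
N flat over A (no finiteness assumption on M or N). If the base change of f to A/I, that is M/IM →
N/IN, is bijective, then f is bijective. -/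
theorem result (A : Type u) [CommRing A] (I : Ideal A)
    (hI : IsNilpotent I) (M N : Type v) [AddCommGroup M] [Module A M] [AddCommGroup N] [Module A N]
    [Module.Flat A N] (f : M →ₗ[A] N)
    (hf : Function.Bijective (f.baseChange (A ⧸ I))) :
    Function.Bijective f := by
  obtain ⟨n, hn⟩ := hI
  have key : ∀ {P : Type v} [AddCommGroup P] [Module A P] (Q : Submodule A P), Q ⊔ I • ⊤ = ⊤ → Q = ⊤ := by
    intro P _ _ Q h
    have : ∀ k, Q ⊔ I ^ k • ⊤ = ⊤ := by
      intro k; induction k with
      | zero => simp
      | succ k ih =>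
        rw [eq_top_iff]
        calc ⊤ = Q ⊔ I ^ k • ⊤ := ih.symm
          _ = Q ⊔ I ^ k • (Q ⊔ I • ⊤) := by rw [h]
          _ ≤ Q ⊔ I ^ (k+1) • ⊤ := by
            rw [Submodule.smul_sup, pow_succ, Submodule.mul_smul]
            exact sup_le le_sup_left (sup_le (Submodule.smul_le_right.trans le_sup_left) le_sup_right)
    simpa [hn] using this n
  have hbc : ⇑(f.baseChange (A ⧸ I)) = ⇑(f.lTensor (A ⧸ I)) := rfl
  rw [hbc] at hf
  have hsurj : Function.Surjective f := by
    rw [← LinearMap.range_eq_top]
    apply key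
    have h1 : Subsingleton ((A ⧸ I) ⊗[A] (N ⧸ LinearMap.range f)) := by
      have := lTensor_exact (A ⧸ I) (LinearMap.exact_map_mkQ_range f) (Submodule.mkQ_surjective _)
      refine ⟨fun a b => ?_⟩
      obtain ⟨a, rfl⟩ := LinearMap.lTensor_surjective (A ⧸ I) (Submodule.mkQ_surjective (LinearMap.range f)) a
      obtain ⟨b, rfl⟩ := LinearMap.lTensor_surjective (A ⧸ I) (Submodule.mkQ_surjective (LinearMap.range f)) b
      rw [(this a).2 (hf.2 a), (this b).2 (hf.2 b)]
    rw [eq_top_iff]
    intro x _
    have h2 : Subsingleton ((N ⧸ LinearMap.range f) ⧸ (I • ⊤ : Submodule A _)) :=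
      (TensorProduct.quotTensorEquivQuotSMul _ I).symm.toEquiv.subsingleton
    have h3 : Submodule.Quotient.mk x ∈ (I • ⊤ : Submodule A (N ⧸ LinearMap.range f)) := by
      rw [← Submodule.Quotient.mk_eq_zero]; exact Subsingleton.elim _ _
    rw [show (I • ⊤ : Submodule A (N ⧸ LinearMap.range f)) = Submodule.map (LinearMap.range f).mkQ (I • ⊤) by
      rw [Submodule.map_smul'', Submodule.map_top, Submodule.range_mkQ]] at h3
    obtain ⟨y, hy, hxy⟩ := h3
    rw [Submodule.mkQ_apply, Submodule.Quotient.eq] at hxy
    rw [← sub_sub_cancel y x]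
    exact Submodule.sub_mem _ (Submodule.mem_sup_right hy) (Submodule.mem_sup_left hxy)
  refine ⟨?_, hsurj⟩
  have hinj := LinearMap.lTensor_injective_of_exact_of_flat f hsurj (LinearMap.ker f).subtype (Submodule.injective_subtype _)
    (LinearMap.exact_subtype_ker_map f) (A ⧸ I)
  have h1 : Subsingleton ((A ⧸ I) ⊗[A] LinearMap.ker f) := by
    refine subsingleton_iff.2 fun a b => hinj (hf.1 ?_)
    simp only [← LinearMap.lTensor_comp_apply, LinearMap.comp_ker_subtype, LinearMap.lTensor_zero, LinearMap.zero_apply]
  rw [← LinearMap.ker_eq_bot, ← Submodule.subsingleton_iff_eq_bot]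
  have h2 : Subsingleton ((LinearMap.ker f) ⧸ (I • ⊤ : Submodule A _)) :=
    (TensorProduct.quotTensorEquivQuotSMul _ I).symm.toEquiv.subsingleton
  have h3 := key (⊥ : Submodule A (LinearMap.ker f)) (by
    rw [bot_sup_eq]; exact Submodule.Quotient.subsingleton_iff.1 h2)
  exact (Submodule.subsingleton_iff A).1 (subsingleton_iff_bot_eq_top.1 h3)

end Groth.Agent.S16707
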