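import Groth.Statements.S0397
import Mathlib
import Groth.Agent.S16707

set_option autoImplicit false
universe u
open FlatMor

namespace Groth.Agent.S0397
open AlgebraicGeometry CategoryTheory Limits TensorProduct
set_option backward.isDefEq.respectTransparency.types false
set_option linter.style.haveILetI false

/-- Over a local ring whose maximal ideal is nilpotent, every flat module (not necessarily finitely
generated) is free. -/
theorem result {R M : Type u} [CommRing R] [IsLocalRing R] (hR : IsNilpotent (IsLocalRing.maximalIdeal R))
    [AddCommGroup M] [Module R M] [Module.Flat R M] : Module.Free R M := by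
  let k := R ⧸ IsLocalRing.maximalIdeal R
  letI : Field k := Ideal.Quotient.field _
  let b := Module.Free.chooseBasis k (k ⊗[R] M)
  have hs : Function.Surjective (TensorProduct.mk R k M 1) :=
    TensorProduct.mk_surjective R M k Ideal.Quotient.mk_surjective
  choose v hv using fun i => hs (b i)
  let F := (Module.Free.ChooseBasisIndex k (k ⊗[R] M)) →₀ R
  let f : F →ₗ[R] M := Finsupp.linearCombination R v
  have hf : Function.Bijective (f.baseChange k) := by
    let e : k ⊗[R] F ≃ₗ[k] k ⊗[R] M := ((Finsupp.basisSingleOne).baseChange k).equiv b (Equiv.refl _)
    have : f.baseChange k = e.toLinearMap := by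
      apply ((Finsupp.basisSingleOne).baseChange k).ext
      intro i
      simp only [LinearEquiv.coe_coe, e, Module.Basis.equiv_apply, Equiv.refl_apply]
      rw [Module.Basis.baseChange_apply, LinearMap.baseChange_tmul]
      exact Eq.trans (congrArg (fun z => (1 : k) ⊗ₜ[R] z) ((Finsupp.linearCombination_single R 1 i).trans (one_smul R _))) (hv i)
    rw [this]; exact e.bijective
  exact .of_equiv (LinearEquiv.ofBijective f (Groth.Agent.S16707.result R _ hR _ _ f hf))

end Groth.Agent.S0397
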