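import Groth.Statements.S0398
import Mathlib
import Groth.Agent.Lib.H2ArtFlat

set_option autoImplicit false
universe u
open FlatMor

namespace Groth.Agent.S0398
open TensorProduct

open TensorProduct in
/-- For an injective ring map R → S with R Artinian and an R-module M, if S ⊗ M is flat over S then M is
flat over R. -/
theorem result {R S M : Type u} [CommRing R] [CommRing S] [IsArtinianRing R] [Algebra R S] (hinj : Function.Injective (algebraMap R S))
    [AddCommGroup M] [Module R M] [Module.Flat S (S ⊗[R] M)] : Module.Flat R M := by
  exact Groth.Agent.H2ArtFlat.flat_of_baseChange hinj

end Groth.Agent.S0398
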