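import Groth.Statements.S0399
import Mathlib
import Groth.Agent.Lib.H2LocalCrit
import Groth.Agent.Lib.H2FibreInj

set_option autoImplicit false
universe u
open FlatMor

namespace Groth.Agent.S0399
open TensorProduct LinearMap

open TensorProduct in
/-- For a ring A, a module M and an element f that is a nonzerodivisor on A and on M, if M_f is flat
over A_f and M/fM is flat over A/fA then M is flat over A (the source's companion statement for
faithful flatness is not stated). -/
theorem result {A M : Type u} [CommRing A] [AddCommGroup M] [Module A M] (f : A) (hA : f ∈ nonZeroDivisors A) (hM : IsSMulRegular M f)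
    [Module.Flat (Localization.Away f) (LocalizedModule (Submonoid.powers f) M)]
    [Module.Flat (A ⧸ Ideal.span {f}) ((A ⧸ Ideal.span {f}) ⊗[A] M)] : Module.Flat A M := by
  have hfM : ∀ n, IsSMulRegular M (f ^ n) := fun n => hM.pow n
  have h1 : Function.Injective ((Ideal.span {f}).subtype.rTensor M) := by
    let e : A →ₗ[A] Ideal.span {f} :=
      (LinearMap.toSpanSingleton A A f).codRestrict _ fun a => Ideal.mem_span_singleton'.2 ⟨a, rfl⟩
    have he : Function.Surjective e := fun ⟨y, hy⟩ => by
      obtain ⟨a, ha⟩ := Ideal.mem_span_singleton'.1 hy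
      exact ⟨a, Subtype.ext ha⟩
    rw [injective_iff_map_eq_zero]
    intro z hz
    obtain ⟨w, rfl⟩ := rTensor_surjective M he z
    obtain ⟨x, rfl⟩ := (TensorProduct.lid A M).symm.surjective w
    have := congrArg (TensorProduct.lid A M) hz
    simp [e] at this
    have hx : x = 0 := hM (this.trans (smul_zero f).symm)
    simp [hx]
  haveI : Module.Flat A (LocalizedModule (Submonoid.powers f) M) := by
    haveI := IsLocalization.flat (Localization.Away f) (Submonoid.powers f)
    exact Module.Flat.trans A (Localization.Away f) _
  rw [Module.Flat.iff_lTensor_injective']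
  intro J
  rw [injective_iff_map_eq_zero]
  intro x hx
  let j := LocalizedModule.mkLinearMap (Submonoid.powers f) M
  let g := TensorProduct.AlgebraTensorModule.rTensor A (J : Submodule A A) j
  have h2 : g x = 0 := by
    refine Module.Flat.lTensor_preserves_injective_linearMap (M := LocalizedModule (Submonoid.powers f) M) J.subtype J.injective_subtype ?_
    have e : ∀ z : M ⊗[A] J, J.subtype.lTensor _ (g z) = j.rTensor A (J.subtype.lTensor M z) := by
      intro z
      induction z using TensorProduct.induction_on with
      | zero => simp
      | add a b ha hb => simp only [map_add, ha, hb]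
      | tmul a b => simp [g]
    rw [map_zero, e, hx, map_zero]
  obtain ⟨⟨c, n, rfl⟩, hc⟩ := (IsLocalizedModule.eq_zero_iff (Submonoid.powers f) g).1 h2
  have hc' : (f ^ n) • x = 0 := hc
  let μ : J →ₗ[A] J := LinearMap.lsmul A J (f ^ n)
  have hμ : Function.Injective μ := by
    intro a b hab
    have h3 : (f ^ n) * (a : A) = f ^ n * (b : A) := congrArg Subtype.val hab
    exact Subtype.ext (((mul_cancel_left_mem_nonZeroDivisors (pow_mem hA n)).1 h3))
  have hμt : Function.Injective (μ.rTensor M) := by
    refine ((Groth.Agent.H2LocalCrit.Inj.of_killed_pow (Ideal.span {f}) h1 n (J ⧸ LinearMap.range μ) ?_)).of_exact hμ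
      (LinearMap.exact_map_mkQ_range μ) (Submodule.mkQ_surjective _)
    intro a ha z
    obtain ⟨z, rfl⟩ := Submodule.mkQ_surjective _ z
    obtain ⟨b, rfl⟩ := Ideal.mem_span_singleton'.1 (Ideal.span_singleton_pow f n ▸ ha)
    rw [← map_smul, Submodule.mkQ_apply, Submodule.Quotient.mk_eq_zero]
    exact ⟨b • z, by simp [μ, mul_smul, smul_comm b]⟩
  have h4 : μ.rTensor M (TensorProduct.comm A M J x) = 0 := by
    have : ∀ z : J ⊗[A] M, μ.rTensor M z = (f ^ n) • z := by
      intro z
      induction z using TensorProduct.induction_on with
      | zero => simp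
      | add a b ha hb => simp only [map_add, smul_add, ha, hb]
      | tmul a b => simp [μ, smul_tmul']
    rw [this, ← map_smul, hc', map_zero]
  exact (TensorProduct.comm A M J).map_eq_zero_iff.1 (hμt (h4.trans (map_zero _).symm))

end Groth.Agent.S0399
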