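import Groth.Statements.S0400
import Mathlib
import Groth.Prelude
import Groth.Agent.Lib.H2LocalCrit

set_option autoImplicit false
universe u
open FlatMor

namespace Groth.Agent.S0400
open TensorProduct
set_option backward.isDefEq.respectTransparency.types false

open TensorProduct in
/-- Fibrewise criterion of flatness, nilpotent form: let R → S be a ring map, I a nilpotent ideal of R,
and M an S-module that is flat over R and such that M/IM is flat over S/IS. Then M is flat over S.
The published statement also determines the primes of S at which S is flat over R; that part is not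
stated here. -/
theorem result {R S M : Type u} [CommRing R] [CommRing S] [Algebra R S] (I : Ideal R) (hI : IsNilpotent I)
    [AddCommGroup M] [Module S M] [Module R M] [IsScalarTower R S M] [Module.Flat R M]
    (h : Module.Flat (S ⧸ I.map (algebraMap R S)) ((S ⧸ I.map (algebraMap R S)) ⊗[S] M)) : Module.Flat S M := by
  set J := I.map (algebraMap R S)
  have hJ : Function.Injective (J.subtype.rTensor M) := by
    let j : I →ₗ[R] J :=
      { toFun := fun a => ⟨algebraMap R S a, Ideal.mem_map_of_mem _ a.2⟩
        map_add' := fun a b => by ext; simp
        map_smul' := fun r a => by ext; simp [Algebra.smul_def] }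
    let θ : (I ⊗[R] M) →ₗ[R] (J ⊗[S] M) :=
      TensorProduct.lift (LinearMap.mk₂ R (fun a m => j a ⊗ₜ[S] m)
        (fun a b m => by rw [map_add, TensorProduct.add_tmul])
        (fun r a m => by rw [map_smul, TensorProduct.smul_tmul'])
        (fun a m n => by rw [TensorProduct.tmul_add])
        (fun r a m => by rw [TensorProduct.tmul_smul]))
    have hθ : ∀ z : J ⊗[S] M, z ∈ LinearMap.range θ := by
      intro z
      induction z using TensorProduct.induction_on with
      | zero => exact zero_mem _
      | add a b ha hb => exact add_mem ha hb
      | tmul w m =>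
        obtain ⟨w, hw⟩ := w
        have hw' : w ∈ Ideal.span (algebraMap R S '' (I : Set R)) := hw
        induction hw' using Submodule.span_induction generalizing m with
        | mem w hw' => obtain ⟨a, ha, rfl⟩ := hw'; exact ⟨⟨a, ha⟩ ⊗ₜ m, rfl⟩
        | zero => rw [show (⟨(0:S), hw⟩ : J) = 0 from rfl, TensorProduct.zero_tmul]; exact zero_mem _
        | add u v hu hv ihu ihv =>
          rw [show (⟨u + v, hw⟩ : J) = ⟨u, hu⟩ + ⟨v, hv⟩ from rfl, TensorProduct.add_tmul]
          exact add_mem (ihu m hu) (ihv m hv)
        | smul c u hu ihu =>
          rw [show (⟨c • u, hw⟩ : J) = c • (⟨u, hu⟩ : J) from rfl, TensorProduct.smul_tmul]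
          exact ihu (c • m) hu
    have hinj : Function.Injective (I.subtype.rTensor M) := Module.Flat.rTensor_preserves_injective_linearMap _ I.injective_subtype
    rw [injective_iff_map_eq_zero]
    intro z hz
    obtain ⟨w, rfl⟩ := hθ z
    have e : ∀ w, TensorProduct.lid S M (J.subtype.rTensor M (θ w)) = TensorProduct.lid R M (I.subtype.rTensor M w) := by
      intro w
      induction w using TensorProduct.induction_on with
      | zero => simp
      | tmul a m => simp [θ, j]
      | add a b ha hb => simp [map_add, ha, hb]
    have h0 := e w
    rw [hz, map_zero] at h0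
    have : w = 0 := hinj (by rw [map_zero]; exact (TensorProduct.lid R M).map_eq_zero_iff.mp h0.symm)
    rw [this, map_zero]
  obtain ⟨n, hn⟩ := hI
  have hJn : J ^ n = ⊥ := by rw [← Ideal.map_pow, hn]; exact Ideal.map_bot
  rw [Module.Flat.iff_rTensor_injective']
  intro K
  have hK := Groth.Agent.H2LocalCrit.Inj.of_killed_pow (M := M) J hJ n (S ⧸ K) (fun a ha x => by rw [hJn, Ideal.mem_bot] at ha; rw [ha, zero_smul]) S K.mkQ K.mkQ_surjective
  rw [Submodule.ker_mkQ] at hK
  exact hK

end Groth.Agent.S0400
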