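import Groth.Statements.S0401
import Mathlib

set_option autoImplicit false
universe u
open FlatMor

namespace Groth.Agent.S0401


/-- For a finite type ring map R → S quasi-finite at a prime q lying over p, the dimension of S_q is at
most the dimension of R_p. -/
theorem result {R S : Type u} [CommRing R] [CommRing S] [Algebra R S] [Algebra.FiniteType R S] (q : Ideal S) [q.IsPrime] [Algebra.QuasiFiniteAt R q] :
    ringKrullDim (Localization.AtPrime q) ≤ ringKrullDim (Localization.AtPrime (q.under R)) := by
  set Sq := Localization.AtPrime q
  set φ : Localization.AtPrime (q.under R) →+* Sq := Localization.localRingHom (q.under R) q (algebraMap R S) rfl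
  refine Order.krullDim_le_of_strictMono (PrimeSpectrum.comap φ) (fun P Q hlt => lt_of_le_of_ne (Ideal.comap_mono hlt.le) ?_)
  intro he
  have hc : φ.comp (algebraMap R (Localization.AtPrime (q.under R))) = algebraMap R Sq := by
    refine RingHom.ext fun r => ?_
    show φ (algebraMap R (Localization.AtPrime (q.under R)) r) = _
    rw [IsScalarTower.algebraMap_apply R S Sq r]
    exact Localization.localRingHom_to_map (q.under R) q (algebraMap R S) rfl r
  have hu : P.asIdeal.under R = Q.asIdeal.under R := by
    have := congrArg (fun x : PrimeSpectrum (Localization.AtPrime (q.under R)) => x.asIdeal.comap (algebraMap R (Localization.AtPrime (q.under R)))) he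
    simp only [PrimeSpectrum.comap_asIdeal, Ideal.comap_comap, hc] at this
    exact this
  exact hlt.ne (PrimeSpectrum.ext (Algebra.QuasiFinite.eq_of_le_of_under_eq _ _ hlt.le hu))

end Groth.Agent.S0401
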