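import Groth.Statements.S0411
import Mathlib
import Groth.Prelude.Def_MoreMor
import Groth.Agent.Lib.H2QuasiAffine

set_option autoImplicit false
universe u
open FlatMor

namespace Groth.Agent.S0411
open CategoryTheory Limits AlgebraicGeometry

open AlgebraicGeometry CategoryTheory Limits in
/-- For a separated, locally quasi-finite morphism (locally of finite type with discrete fibres) to an
affine scheme, every finite set of points of the source lies in an affine open. -/
theorem result {X Y : Scheme.{u}} (f : X ⟶ Y) [IsAffine Y] [IsSeparated f] [LocallyQuasiFinite f] [LocallyOfFiniteType f] (T : Finset ↑X) :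
    ∃ U : X.Opens, IsAffineOpen U ∧ ∀ x ∈ T, x ∈ U := by
  classical
  choose W hW hxW using fun x : X => (show ∃ W : X.Opens, IsAffineOpen W ∧ x ∈ W by
    obtain ⟨_, ⟨W, hW, rfl⟩, hx, -⟩ := (Scheme.isBasis_affineOpens X).exists_subset_of_mem_open (Set.mem_univ x) isOpen_univ
    exact ⟨W, hW, hx⟩)
  let U : X.Opens := T.sup W
  have hUc : IsCompact (U : Set X) := by
    rw [show (U : Set X) = ⋃ x ∈ T, (W x : Set X) by simp [U, TopologicalSpace.Opens.coe_finset_sup, Finset.sup_eq_iSup]]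
    exact T.isCompact_biUnion fun x _ => (hW x).isCompact
  haveI : CompactSpace (U : Scheme.{u}) := isCompact_iff_compactSpace.1 hUc
  haveI : QuasiCompact (U.ι ≫ f) := (quasiCompact_iff_compactSpace _).mpr inferInstance
  haveI : (U : Scheme.{u}).IsQuasiAffine := Groth.Agent.H2QuasiAffine.quasiAffine_of_qf (U.ι ≫ f)
  let j := (U : Scheme.{u}).toSpecΓ
  let O : Set (Spec Γ((U : Scheme.{u}), ⊤)) := Set.range j
  have hO : IsOpen O := j.isOpenEmbedding.isOpen_range
  obtain ⟨I, hI⟩ := (PrimeSpectrum.isClosed_iff_zeroLocus_ideal _).1 hO.isClosed_compl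
  have hxU : ∀ x ∈ T, x ∈ U := fun x hx => (Finset.le_sup (f := W) hx : W x ≤ U) (hxW x)
  let P : X → Ideal Γ((U : Scheme.{u}), ⊤) := fun x =>
    if hx : x ∈ T then (j ⟨x, hxU x hx⟩).asIdeal else ⊤
  obtain ⟨r, hrI, hr⟩ : ∃ r ∈ I, ∀ x ∈ T, r ∉ P x := by
    by_contra hcon
    push Not at hcon
    have hsub : (I : Set Γ((U : Scheme.{u}), ⊤)) ⊆ ⋃ x ∈ (↑T : Set X), (P x : Set Γ((U : Scheme.{u}), ⊤)) := fun r hr => by
      obtain ⟨x, hx, hrx⟩ := hcon r hr
      exact Set.mem_iUnion₂.2 ⟨x, hx, hrx⟩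
    by_cases hne : T.Nonempty
    · obtain ⟨x0, hx0⟩ := hne
      obtain ⟨x, hx, hle⟩ := (Ideal.subset_union_prime x0 x0 fun i hi _ _ => by
        simp only [P, dif_pos hi]; exact (j ⟨i, hxU i hi⟩).isPrime).1 hsub
      simp only [P, dif_pos (show x ∈ T from hx)] at hle
      have hmem : j ⟨x, hxU x hx⟩ ∈ Oᶜ := by rw [hI]; exact hle
      exact hmem ⟨_, rfl⟩
    · exact hne ⟨_, (hcon 0 I.zero_mem).choose_spec.1⟩
  let D : (Spec Γ((U : Scheme.{u}), ⊤)).Opens := PrimeSpectrum.basicOpen r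
  have hDO : D ≤ j.opensRange := fun p hp => by
    by_contra h
    exact hp ((show p ∈ PrimeSpectrum.zeroLocus (I : Set Γ((U : Scheme.{u}), ⊤)) by rw [← hI]; exact h) hrI)
  have hD : IsAffineOpen D := IsAffineOpen.Spec_basicOpen r
  refine ⟨U.ι ''ᵁ (j ⁻¹ᵁ D), (hD.preimage_of_isOpenImmersion j hDO).image_of_isOpenImmersion U.ι, fun x hx => ?_⟩
  refine ⟨⟨x, hxU x hx⟩, ?_, rfl⟩
  show j ⟨x, hxU x hx⟩ ∈ PrimeSpectrum.basicOpen r
  have := hr x hx
  simp only [P, dif_pos hx] at this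
  exact this

end Groth.Agent.S0411
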