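import Groth.Statements.S0414
import Mathlib
import Groth.Agent.Lib.H2GenericFlatSch

set_option autoImplicit false
universe u
open FlatMor

namespace Groth.Agent.S0414
open CategoryTheory AlgebraicGeometry

open AlgebraicGeometry CategoryTheory Limits in
/-- Generic flatness: a morphism X → S of finite type with S reduced is flat and locally of finite
presentation over some dense open subscheme of S. (Stated for the structure sheaf; the published
statement also treats a quasi-coherent O_X-module of finite type.) -/
theorem result {X S : Scheme.{u}} (f : X ⟶ S) [IsReduced S] [LocallyOfFiniteType f] [QuasiCompact f] :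
    ∃ U : S.Opens, Dense (U : Set ↑S) ∧ Flat (f ∣_ U) ∧ LocallyOfFinitePresentation (f ∣_ U) := by
  exact Groth.Agent.H2GenericFlatSch.generic_flatness f

end Groth.Agent.S0414
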