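import Groth.Statements.S0416
import Mathlib
import Groth.Prelude.Def_MoreMor
import Groth.Prelude.Def_Flat

set_option autoImplicit false
universe u
open FlatMor

namespace Groth.Agent.S0416
open AlgebraicGeometry CategoryTheory Limits
set_option backward.isDefEq.respectTransparency.types false

open AlgebraicGeometry CategoryTheory Limits in
/-- When a composite of two morphisms is a universal homeomorphism and so is either factor, the
remaining factor is a universal homeomorphism as well. -/
theorem result {X Y Z : Scheme.{u}} (g : X ⟶ Y) (h : Y ⟶ Z) :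
    (FlatMor.IsUnivHomeo (g ≫ h) → FlatMor.IsUnivHomeo g → FlatMor.IsUnivHomeo h) ∧
    (FlatMor.IsUnivHomeo (g ≫ h) → FlatMor.IsUnivHomeo h → FlatMor.IsUnivHomeo g) := by
  constructor
  · intro hgh hg T T' a b h' H
    have h1 : IsHomeomorph _ := hgh _ _ _ ((IsPullback.of_hasPullback a g).paste_horiz H)
    have h2 : IsHomeomorph (pullback.fst a g) := hg _ _ _ (IsPullback.of_hasPullback a g)
    rw [Scheme.Hom.comp_base, TopCat.coe_comp] at h1
    obtain ⟨e, he⟩ := isHomeomorph_iff_exists_homeomorph.1 h2
    show IsHomeomorph h'
    refine isHomeomorph_iff_exists_homeomorph.2 ⟨e.symm.trans h1.homeomorph, funext fun x => ?_⟩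
    show h' (pullback.fst a g (e.symm x)) = h' x
    rw [← he, e.apply_symm_apply]
  · intro hgh hh T' T a b g' H
    haveI : UniversallyInjective h := ⟨fun _ _ p q h' H' => (hh p q h' H' : IsHomeomorph h').injective⟩
    have hsurj : Surjective (pullback.diagonal h) := (UniversallyInjective.iff_diagonal h).1 ‹_›
    let m := pullback.map b g (b ≫ h) (g ≫ h) (𝟙 _) (𝟙 _) h (Category.id_comp _).symm (Category.id_comp _).symm
    haveI : IsImmersion m := MorphismProperty.of_isPullback (P := @IsImmersion) (pullback_map_diagonal_isPullback b g h) (inferInstanceAs (IsImmersion (pullback.diagonal h)))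
    haveI : Surjective m := MorphismProperty.of_isPullback (P := @Surjective) (pullback_map_diagonal_isPullback b g h) hsurj
    have hm : IsHomeomorph m := isHomeomorph_iff_isEmbedding_surjective.2 ⟨m.isEmbedding, m.surjective⟩
    have hfst : IsHomeomorph (pullback.fst (b ≫ h) (g ≫ h)) := hgh _ _ _ (IsPullback.of_hasPullback (b ≫ h) (g ≫ h))
    have h1 : IsHomeomorph (pullback.fst b g) := by
      have : pullback.fst b g = m ≫ pullback.fst (b ≫ h) (g ≫ h) := by
        simp only [m, pullback.map]; erw [pullback.lift_fst]; exact (Category.comp_id _).symm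
      rw [this, Scheme.Hom.comp_base, TopCat.coe_comp]
      exact hfst.comp hm
    show IsHomeomorph g'
    rw [← H.isoPullback_hom_fst, Scheme.Hom.comp_base, TopCat.coe_comp]
    exact h1.comp H.isoPullback.hom.homeomorph.isHomeomorph

end Groth.Agent.S0416
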