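import Groth.Statements.S0423
import Mathlib

set_option autoImplicit false
universe u
open FlatMor

namespace Groth.Agent.S0423
open AlgebraicGeometry CategoryTheory Limits TensorProduct
set_option backward.isDefEq.respectTransparency.types false
set_option linter.style.haveILetI false

open AlgebraicGeometry CategoryTheory Limits in
/-- A weakly étale morphism of schemes (flat with flat diagonal) is formally unramified. -/
theorem result {X Y : Scheme.{u}} (f : X ⟶ Y) [WeaklyEtale f] : FormallyUnramified f := by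
  rw [formallyUnramified_iff]
  intro U hU V hV e
  haveI : WeaklyEtale (Spec.map (f.appLE U V e) ≫ hU.fromSpec) := by
    rw [IsAffineOpen.SpecMap_appLE_fromSpec f hU hV e]; infer_instance
  have hw : WeaklyEtale (Spec.map (f.appLE U V e)) := WeaklyEtale.of_comp _ hU.fromSpec
  algebraize [(f.appLE U V e).hom]
  have h2 : Flat (pullback.diagonal (Spec.map (CommRingCat.ofHom (algebraMap Γ(Y, U) Γ(X, V))))) :=
    hw.flat_diagonal
  rw [diagonal_SpecMap, MorphismProperty.cancel_right_of_respectsIso (P := @Flat)] at h2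
  rw [Flat.SpecMap_iff] at h2
  simp only [RingHom.FormallyUnramified]
  refine ⟨?_⟩
  rw [show Subsingleton Ω[Γ(X, V)⁄Γ(Y, U)] ↔ IsIdempotentElem (KaehlerDifferential.ideal Γ(Y, U) Γ(X, V)) from
    Ideal.cotangent_subsingleton_iff _]
  let φ := (Algebra.TensorProduct.lmul' Γ(Y, U) (S := Γ(X, V))).toRingHom
  have hsurj : Function.Surjective φ := fun x => ⟨x ⊗ₜ 1, by simp [φ]⟩
  have h2' : φ.Flat := h2
  algebraize [(Algebra.TensorProduct.lmul' Γ(Y, U) (S := Γ(X, V))).toRingHom]
  haveI : (KaehlerDifferential.ideal Γ(Y, U) Γ(X, V)).Pure :=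
    .of_linearEquiv (Ideal.quotientKerAlgEquivOfSurjective (f := Algebra.ofId (Γ(X, V) ⊗[Γ(Y, U)] Γ(X, V)) Γ(X, V)) hsurj).toLinearEquiv
  exact Ideal.isIdempotentElem_of_pure _

end Groth.Agent.S0423
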