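import Groth.Statements.S0425
import Mathlib

set_option autoImplicit false
universe u
open FlatMor

namespace Groth.Agent.S0425

open AlgebraicGeometry CategoryTheory Limits in
/-- A weakly étale universal homeomorphism is an isomorphism. -/
theorem result {X Y : Scheme.{u}} (f : X ⟶ Y) [WeaklyEtale f] (h : FlatMor.IsUnivHomeo f) : IsIso f := by
  have hqc : ∀ {A B : Scheme.{u}} (g : A ⟶ B), IsHomeomorph g → QuasiCompact g := fun g hg =>
    ⟨fun U _ hU' => hg.homeomorph.isCompact_preimage.mpr hU'⟩
  have h0 : IsHomeomorph f := h _ _ f (IsPullback.of_id_snd)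
  haveI := hqc f h0
  haveI : Surjective f := ⟨h0.surjective⟩
  have h1 : IsHomeomorph (pullback.fst f f) := h (pullback.snd f f) f (pullback.fst f f) (IsPullback.of_hasPullback f f)
  have hd : Function.Surjective (pullback.diagonal f) := fun z =>
    ⟨pullback.fst f f z, h1.injective (by rw [← Scheme.Hom.comp_apply, pullback.diagonal_fst]; rfl)⟩
  haveI : Surjective (pullback.diagonal f) := ⟨hd⟩
  haveI := hqc (pullback.diagonal f)
    (isHomeomorph_iff_isEmbedding_surjective.mpr ⟨(pullback.diagonal f).isEmbedding, hd⟩)
  haveI : IsIso (pullback.diagonal f) := Flat.isIso_of_surjective_of_mono _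
  haveI : Mono f := (pullback.isIso_diagonal_iff f).mp inferInstance
  exact Flat.isIso_of_surjective_of_mono f

end Groth.Agent.S0425
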