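import Groth.Statements.S0443
import Mathlib

set_option autoImplicit false
universe u
open FlatMor

namespace Groth.Agent.S0443

open AlgebraicGeometry CategoryTheory Limits in
/-- For a finite morphism π : X → Y and a point x of X that is the only point of its fibre, the induced
homomorphism of local rings O_{Y,π(x)} → O_{X,x} is finite. (The published lemma has further parts,
not stated here.) -/
theorem result {X Y : Scheme.{u}} (π : X ⟶ Y) [IsFinite π] (x : X) (hx : ∀ x' : ↑X, π x' = π x → x' = x) :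
    (π.stalkMap x).hom.Finite := by
  obtain ⟨U, hU, hxU, -⟩ := exists_isAffineOpen_mem_and_subset (X := Y) (x := π x) (U := ⊤) trivial
  have hV : IsAffineOpen (π ⁻¹ᵁ U) := IsAffineHom.isAffine_preimage U hU
  set V := π ⁻¹ᵁ U with hVdef
  have hfin : (π.appLE U V le_rfl).hom.Finite := by
    have := IsFinite.finite_app π U hU
    rwa [Scheme.Hom.app_eq_appLE] at this
  algebraize [(π.appLE U V le_rfl).hom]
  set P := hU.primeIdealOf ⟨π x, hxU⟩ with hP
  set Q := hV.primeIdealOf ⟨x, hxU⟩ with hQ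
  have hQP : PrimeSpectrum.comap (algebraMap Γ(Y, U) Γ(X, V)) Q = P :=
    IsAffineOpen.comap_primeIdealOf_appLE U hU V hV le_rfl hxU
  haveI : Q.asIdeal.LiesOver P.asIdeal := ⟨(congrArg PrimeSpectrum.asIdeal hQP).symm⟩
  have hq : P.asIdeal.primesOver Γ(X, V) = {Q.asIdeal} := by
    refine Set.eq_singleton_iff_unique_mem.mpr ⟨⟨inferInstance, inferInstance⟩, ?_⟩
    rintro Q' ⟨hQ'1, hQ'2⟩
    let z : PrimeSpectrum Γ(X, V) := ⟨Q', hQ'1⟩
    have hz : PrimeSpectrum.comap (algebraMap Γ(Y, U) Γ(X, V)) z = P := PrimeSpectrum.ext hQ'2.over.symm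
    have e1 : π (hV.fromSpec z) = π x := by
      rw [← Scheme.Hom.comp_apply, ← IsAffineOpen.SpecMap_appLE_fromSpec π hU hV le_rfl, Scheme.Hom.comp_apply]
      exact (congrArg _ hz).trans (hU.fromSpec_primeIdealOf _)
    have e2 : z = Q := hV.fromSpec.isOpenEmbedding.injective ((hx _ e1).trans (hV.fromSpec_primeIdealOf ⟨x, hxU⟩).symm)
    exact congrArg PrimeSpectrum.asIdeal e2
  let := Localization.AtPrime.algebraOfLiesOver P.asIdeal Q.asIdeal
  haveI := Localization.finite_of_primesOver_eq_singleton hq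
  rw [RingHom.finite_respectsIso.arrow_mk_iso_iff (IsAffineOpen.arrowStalkMapIso π U hU V hV le_rfl hxU)]
  exact RingHom.finite_algebraMap.mpr ‹Module.Finite (Localization.AtPrime P.asIdeal) (Localization.AtPrime Q.asIdeal)›

end Groth.Agent.S0443
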