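import Groth.Statements.S0445
import Mathlib

set_option autoImplicit false
universe u
open FlatMor

namespace Groth.Agent.S0445
open AlgebraicGeometry CategoryTheory Limits TensorProduct
set_option backward.isDefEq.respectTransparency.types false
set_option linter.style.haveILetI false

open AlgebraicGeometry CategoryTheory Limits in
/-- Two morphisms over S into an S-scheme unramified over S which agree at a point and induce the same
map on residue fields there agree on an open neighbourhood of that point. -/
theorem result {X Y S : Scheme.{u}} (p : Y ⟶ S) [FormallyUnramified p] [LocallyOfFiniteType p] (f g : X ⟶ Y) (hfg : f ≫ p = g ≫ p)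
    (x : X) (h1 : f x = g x) (h2 : f.residueFieldMap x = (Y.residueFieldCongr h1).hom ≫ g.residueFieldMap x) :
    ∃ U : X.Opens, x ∈ U ∧ U.ι ≫ f = U.ι ≫ g := by
  let l : X ⟶ pullback p p := pullback.lift f g hfg
  let d := pullback.diagonal p
  refine ⟨l ⁻¹ᵁ d.opensRange, ?_, ?_⟩
  · have e : X.fromSpecResidueField x ≫ f = X.fromSpecResidueField x ≫ g := by
      rw [← Scheme.Hom.SpecMap_residueFieldMap_fromSpecResidueField, h2, Spec.map_comp, Category.assoc,
        Scheme.residueFieldCongr_fromSpecResidueField, Scheme.Hom.SpecMap_residueFieldMap_fromSpecResidueField]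
    have e2 : X.fromSpecResidueField x ≫ l = (X.fromSpecResidueField x ≫ f) ≫ d := by
      apply pullback.hom_ext <;> simp only [l, d, Category.assoc, pullback.lift_fst, pullback.lift_snd, pullback.diagonal_fst, pullback.diagonal_snd, Category.comp_id, e]
    refine ⟨(X.fromSpecResidueField x ≫ f) (IsLocalRing.closedPoint _), ?_⟩
    have := congr($e2 (IsLocalRing.closedPoint _))
    simp only [Scheme.Hom.comp_apply] at this ⊢
    rw [← this, Scheme.fromSpecResidueField_apply]
  · let U := l ⁻¹ᵁ d.opensRange
    let k := IsOpenImmersion.lift d (U.ι ≫ l) (by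
      rintro _ ⟨a, rfl⟩; exact a.2)
    have hk : k ≫ d = U.ι ≫ l := IsOpenImmersion.lift_fac _ _ _
    have ha := congr($hk ≫ pullback.fst p p)
    have hb := congr($hk ≫ pullback.snd p p)
    simp only [l, d, Category.assoc, pullback.lift_fst, pullback.lift_snd, pullback.diagonal_fst, pullback.diagonal_snd, Category.comp_id] at ha hb
    exact ha.symm.trans hb

end Groth.Agent.S0445
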