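import Groth.Statements.S0448
import Mathlib
import Groth.Agent.Lib.H2UnivInjLocal

set_option autoImplicit false
universe u
open FlatMor

namespace Groth.Agent.S0448
open scoped TensorProduct
set_option linter.style.haveILetI false

open TensorProduct in
/-- Over a local ring, a linear map from a projective module to a flat module which is injective modulo
the maximal ideal is universally injective (injective after tensoring with any module). -/
theorem result {R M N : Type u} [CommRing R] [IsLocalRing R] [AddCommGroup M] [Module R M] [Module.Projective R M]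
    [AddCommGroup N] [Module R N] [Module.Flat R N] (u : M →ₗ[R] N)
    (h : Function.Injective (LinearMap.lTensor (IsLocalRing.ResidueField R) u)) :
    ∀ (Q : Type u) [AddCommGroup Q] [Module R Q], Function.Injective (LinearMap.rTensor Q u) := by
  classical
  intro Q _ _
  obtain ⟨i, hi⟩ := Module.projective_def'.1 (inferInstance : Module.Projective R M)
  set s := Finsupp.linearCombination R (id : M → M)
  let v : (M →₀ R) →ₗ[R] N × (M →₀ R) := (u ∘ₗ s).prod (LinearMap.id - i ∘ₗ s)
  haveI : Module.Flat R (N × (M →₀ R)) := Groth.Agent.H2UnivInjLocal.flat_prod _ _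
  have hv : Function.Injective (v.lTensor (IsLocalRing.ResidueField R)) := by
    refine (injective_iff_map_eq_zero _).2 fun y hy => ?_
    have h1 := congrArg ((LinearMap.fst R N (M →₀ R)).lTensor (IsLocalRing.ResidueField R)) hy
    have h2 := congrArg ((LinearMap.snd R N (M →₀ R)).lTensor (IsLocalRing.ResidueField R)) hy
    rw [← LinearMap.lTensor_comp_apply, LinearMap.fst_prod, LinearMap.lTensor_comp_apply, map_zero] at h1
    rw [← LinearMap.lTensor_comp_apply, LinearMap.snd_prod, LinearMap.lTensor_sub, LinearMap.sub_apply,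
      LinearMap.lTensor_id, LinearMap.id_apply, LinearMap.lTensor_comp_apply, map_zero, sub_eq_zero] at h2
    rw [h2, h (h1.trans (map_zero _).symm), map_zero]
  have hvQ : Function.Injective (v.rTensor Q) := by
    refine (injective_iff_map_eq_zero _).2 fun z hz => ?_
    obtain ⟨F₀, hF₀fin, hF₀⟩ := TensorProduct.exists_finite_submodule_left_of_setFinite {z} (Set.finite_singleton z)
    obtain ⟨z₀, hz₀⟩ := hF₀ rfl
    obtain ⟨G, hG⟩ : F₀.FG := Module.Finite.iff_fg.1 hF₀fin
    let J : Finset M := G.sup Finsupp.support
    let π : (M →₀ R) →ₗ[R] ({n // n ∈ J} →₀ R) := Finsupp.lcomapDomain Subtype.val Subtype.val_injective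
    let ι : ({n // n ∈ J} →₀ R) →ₗ[R] (M →₀ R) := Finsupp.lmapDomain R R Subtype.val
    have hπι : π ∘ₗ ι = LinearMap.id := LinearMap.ext fun y =>
      Finsupp.comapDomain_mapDomain _ Subtype.val_injective y
    have hιπ : ∀ y ∈ F₀, ι (π y) = y := by
      intro y hy
      rw [← hG] at hy
      refine (LinearMap.eqLocus (ι ∘ₗ π) LinearMap.id).mem_carrier.1 ?_
      refine (Submodule.span_le.2 ?_) hy
      intro g hg
      show Finsupp.mapDomain Subtype.val (Finsupp.comapDomain Subtype.val g Subtype.val_injective.injOn) = g
      exact Finsupp.mapDomain_comapDomain _ Subtype.val_injective _ fun a ha => ⟨⟨a, Finset.le_sup (f := Finsupp.support) hg ha⟩, rfl⟩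
    let w := (π ∘ₗ F₀.subtype).rTensor Q z₀
    have hw : ι.rTensor Q w = z := by
      rw [← hz₀, ← LinearMap.rTensor_comp_apply,
        show ι ∘ₗ π ∘ₗ F₀.subtype = F₀.subtype from LinearMap.ext fun y => hιπ y.1 y.2]
    rw [← hw, ← LinearMap.rTensor_comp_apply] at hz
    set x := v ∘ₗ ι
    have hx : Function.Injective (x.lTensor (IsLocalRing.ResidueField R)) := by
      rw [LinearMap.lTensor_comp]
      refine hv.comp (Function.LeftInverse.injective (g := π.lTensor (IsLocalRing.ResidueField R)) fun y => ?_)
      rw [← LinearMap.lTensor_comp_apply, hπι, LinearMap.lTensor_id, LinearMap.id_apply]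
    rw [← hw, Groth.Agent.H2UnivInjLocal.rTensor_injective_of_finite_free x hx Q (hz.trans (map_zero _).symm), map_zero]
  refine (injective_iff_map_eq_zero _).2 fun z hz => ?_
  have h1 : v.rTensor Q (i.rTensor Q z) = 0 := by
    rw [← LinearMap.rTensor_comp_apply,
      show v ∘ₗ i = (LinearMap.inl R N (M →₀ R)) ∘ₗ u from LinearMap.ext fun m => by
        show (u (s (i m)), i m - i (s (i m))) = (u m, 0)
        rw [show s (i m) = m from LinearMap.congr_fun hi m, sub_self],
      LinearMap.rTensor_comp_apply, hz, map_zero]
  have h2 := congrArg (s.rTensor Q) (hvQ (h1.trans (map_zero _).symm))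
  rwa [← LinearMap.rTensor_comp_apply, hi, LinearMap.rTensor_id, LinearMap.id_apply, map_zero] at h2

end Groth.Agent.S0448
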