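import Groth.Statements.S0466
import Groth.Agent.Lib.H5TopCoh

set_option autoImplicit false
universe u
open CategoryTheory
open CohTop

namespace Groth.Agent.S0466

open TopologicalSpace Opposite in
/-- Consider a short exact sequence of abelian sheaves with kernel F, middle term G and quotient H, and
an open U. If every open covering of U admits a refinement on which the first Cech cohomology of F
vanishes, then sections of G over U map onto sections of H over U. -/
theorem result {X : TopCat.{u}}
    (S : CategoryTheory.ShortComplex (CohTop.Ab X)) (hS : S.ShortExact) (U : Opens X)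
    (h : ∀ (ι : Type u) (V : ι → Opens X), iSup V = U →
      ∃ (κ : Type u) (W : κ → Opens X) (r : κ → ι), iSup W = U ∧ (∀ k, W k ≤ V (r k)) ∧
        CategoryTheory.Limits.IsZero (CohTop.cechH S.X₁.obj W 1)) :
    Function.Surjective (S.g.hom.app (op U)) := by
  refine H5TopCoh.surjective_of_refine S hS fun κ W hW => ?_
  obtain ⟨ι, V, r, hV, hle, hz⟩ := h κ (fun k => W k ⊓ U) (by rw [← iSup_inf_eq]; exact inf_eq_right.2 hW)
  exact ⟨ι, V, hV, fun i => ⟨r i, (hle i).trans inf_le_left⟩, (HomologicalComplex.exactAt_iff_isZero_homology _ _).2 hz⟩

end Groth.Agent.S0466
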