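import Groth.Statements.S0488
import Groth.Agent.Lib.LOverExtZero

set_option autoImplicit false
universe u
open CohTop

namespace Groth.Agent.S0488

open TopologicalSpace in
/-- For an open U of X, restriction to U sends K-injective complexes of abelian sheaves on X to
K-injective complexes on U. -/
theorem result {X : TopCat.{u}} (U : Opens X) (I : CochainComplex (CohTop.Ab X) ℤ)
    (h : I.IsKInjective) :
    CochainComplex.IsKInjective (((CohTop.restrFunctor U).mapHomologicalComplex (ComplexShape.up ℤ)).obj I) := by
  let E := (U.sheafEquivOver (A := AddCommGrpCat.{u}))
  haveI : E.functor.Additive := CategoryTheory.Functor.additive_of_preserves_binary_products _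
  haveI : E.inverse.Additive := CategoryTheory.Functor.additive_of_preserves_binary_products _
  haveI : E.symm.functor.Additive := inferInstanceAs E.inverse.Additive
  haveI : E.symm.inverse.Additive := inferInstanceAs E.functor.Additive
  have h1 := Groth.Agent.LOverExtZero.isKInjective_restrict U (Opens.grothendieckTopology X) I h
  exact Groth.Agent.H5KApps.isKInjective_map_rightAdjoint E.symm.toAdjunction _ h1

end Groth.Agent.S0488
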