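import Groth.Statements.S0496
import Mathlib
import Groth.Agent.Lib.H4HenselSections


set_option autoImplicit false
universe u
open Hensel

namespace Groth.Agent.S0496

/-- If every factorization of the reduction of a monic polynomial into two coprime factors over the
residue field lifts to a factorization over the local ring, then the local ring is henselian. -/
theorem result (R : Type u) [CommRing R] [IsLocalRing R]
    (h : ∀ f : Polynomial R, f.Monic →
      ∀ g₀ h₀ : Polynomial (IsLocalRing.ResidueField R), IsCoprime g₀ h₀ →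
      Polynomial.map (IsLocalRing.residue R) f = g₀ * h₀ →
      ∃ g h : Polynomial R, f = g * h ∧ Polynomial.map (IsLocalRing.residue R) g = g₀ ∧
        Polynomial.map (IsLocalRing.residue R) h = h₀) :
    HenselianLocalRing R := by
  refine H4HenselPair.henselianLocalRing_of_henselianRing
    ⟨(IsLocalRing.jacobson_eq_maximalIdeal ⊥ bot_ne_top).ge, fun f hf a₀ h1 h2 => ?_⟩
  let k := IsLocalRing.ResidueField R
  let res := IsLocalRing.residue R
  set ā := res a₀
  set F := f.map res
  set q := F /ₘ (Polynomial.X - Polynomial.C ā)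
  have hroot : F.IsRoot ā := by
    show F.eval ā = 0
    rw [Polynomial.eval_map_apply]
    exact (IsLocalRing.residue_eq_zero_iff _).mpr h1
  have hFq : (Polynomial.X - Polynomial.C ā) * q = F :=
    Polynomial.mul_divByMonic_eq_iff_isRoot.mpr hroot
  have hqm : q.Monic := (Polynomial.monic_X_sub_C ā).of_mul_monic_left (by rw [hFq]; exact hf.map _)
  have hqu : q.eval ā ≠ 0 := by
    have := congrArg (fun p => (Polynomial.derivative p).eval ā) hFq
    simp [Polynomial.derivative_mul, F, ā, Polynomial.derivative_map, Polynomial.eval_map_apply] at this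
    rw [this]
    exact h2.ne_zero
  have hco : IsCoprime (Polynomial.X - Polynomial.C ā) q := by
    refine ((Polynomial.irreducible_X_sub_C ā).coprime_iff_not_dvd).mpr fun hd => ?_
    exact hqu (Polynomial.dvd_iff_isRoot.mp hd)
  obtain ⟨g, h', hgh, hgmap, hhmap⟩ := h f hf _ q hco hFq.symm
  have hg1 : IsUnit (g.coeff 1) := by
    refine (IsLocalRing.residue_ne_zero_iff_isUnit _).mp ?_
    rw [← Polynomial.coeff_map, hgmap]
    simp
  have hnil : ∀ j, 2 ≤ j → IsNilpotent (g.coeff j) := by
    intro j hj
    rw [← mem_nilradical, nilradical_eq_sInf, Submodule.mem_sInf]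
    intro P hP'
    have hP : Ideal.IsPrime P := hP'
    have hPm : P ≤ IsLocalRing.maximalIdeal R := IsLocalRing.le_maximalIdeal hP.ne_top
    let π := Ideal.Quotient.mk P
    rw [← Ideal.Quotient.eq_zero_iff_mem]
    show π (g.coeff j) = 0
    have hg' : (g.map π).coeff 1 ≠ 0 := by
      rw [Polynomial.coeff_map]; exact (hg1.map π).ne_zero
    have hh' : (h'.map π).coeff q.natDegree ≠ 0 := by
      rw [Polynomial.coeff_map]
      intro h0
      have h3 : h'.coeff q.natDegree ∈ IsLocalRing.maximalIdeal R :=
        hPm (Ideal.Quotient.eq_zero_iff_mem.mp h0)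
      rw [← IsLocalRing.residue_eq_zero_iff, ← Polynomial.coeff_map, hhmap, hqm.coeff_natDegree] at h3
      exact one_ne_zero h3
    have hprod : g.map π * h'.map π = f.map π := by rw [← Polynomial.map_mul, ← hgh]
    have hd := congrArg Polynomial.natDegree hprod
    rw [Polynomial.natDegree_mul (fun h0 => hg' (by rw [h0]; simp)) (fun h0 => hh' (by rw [h0]; simp)),
      hf.natDegree_map] at hd
    have hdf : f.natDegree = 1 + q.natDegree := by
      rw [← hf.natDegree_map res, show f.map res = F from rfl, ← hFq,
        (Polynomial.monic_X_sub_C ā).natDegree_mul hqm, Polynomial.natDegree_X_sub_C]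
    have h4 := Polynomial.le_natDegree_of_ne_zero hg'
    have h5 := Polynomial.le_natDegree_of_ne_zero hh'
    by_contra h6
    have h7 : j ≤ (g.map π).natDegree :=
      Polynomial.le_natDegree_of_ne_zero (by rw [Polynomial.coeff_map]; exact h6)
    omega
  have hN : HenselianRing R (nilradical R) :=
    H4Hensel.of_locally_nilpotent _ fun x hx => hx
  have hNm : nilradical R ≤ IsLocalRing.maximalIdeal R :=
    IsLocalRing.le_maximalIdeal fun h0 => by
      have h1 : (1 : R) ∈ nilradical R := h0 ▸ Submodule.mem_top
      exact not_isNilpotent_one (mem_nilradical.mp h1)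
  obtain ⟨v, hv⟩ := hg1.exists_left_inv
  set a₁ := -(v * g.coeff 0)
  have h8 : g.eval a₁ ∈ nilradical R := by
    have : g.eval a₁ = g.eval a₁ - (g.coeff 0 + g.coeff 1 * a₁) := by
      rw [show g.coeff 0 + g.coeff 1 * a₁ = 0 by
        simp only [a₁]; linear_combination (-g.coeff 0) * hv, sub_zero]
    rw [this, Polynomial.eval_eq_sum_range' (n := g.natDegree + 2) (by omega)]
    rw [show g.natDegree + 2 = (g.natDegree + 1) + 1 from rfl, Finset.sum_range_succ', Finset.sum_range_succ']
    have hs : ∑ i ∈ Finset.range g.natDegree, g.coeff (i + 1 + 1) * a₁ ^ (i + 1 + 1) ∈ nilradical R :=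
      sum_mem fun i _ => Ideal.mul_mem_right _ _ (hnil _ (by omega))
    convert hs using 1
    simp; ring
  have h9 : IsUnit (g.derivative.eval a₁) := by
    refine (IsLocalRing.residue_ne_zero_iff_isUnit _).mp ?_
    rw [← Polynomial.eval_map_apply, ← Polynomial.derivative_map, hgmap]
    simp
  obtain ⟨a, ha, ha'⟩ := H4Hensel.exists_root (nilradical R) g a₁ h8 (h9.map _)
  refine ⟨a, ?_, ?_⟩
  · show f.eval a = 0
    rw [hgh, Polynomial.eval_mul, ha.eq_zero, zero_mul]
  · rw [← IsLocalRing.residue_eq_zero_iff, map_sub]
    have h10 := (ha.map (f := res)).eq_zero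
    rw [hgmap] at h10
    simpa [res, ā] using h10

end Groth.Agent.S0496
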