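import Groth.Statements.S0497
import Groth.Agent.Lib.H4HenselSmooth

set_option autoImplicit false
universe u
open Hensel

namespace Groth.Agent.S0497

open MvPolynomial in
theorem snd_eval' {R k : Type*} [CommRing R] [CommRing k] [Algebra R k] {d : ℕ} (a e : Fin d → k) (j : Fin d)
    (he : e j = 1) (he' : ∀ i, i ≠ j → e i = 0) (p : MvPolynomial (Fin d) R) :
    TrivSqZeroExt.fst (aeval (fun i => TrivSqZeroExt.inl (a i) + TrivSqZeroExt.inr (e i)) p : DualNumber k)
        = aeval a p ∧
      TrivSqZeroExt.snd (aeval (fun i => TrivSqZeroExt.inl (a i) + TrivSqZeroExt.inr (e i)) p : DualNumber k)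
        = aeval a (pderiv j p) := by
  induction p using MvPolynomial.induction_on with
  | C c => simp [TrivSqZeroExt.algebraMap_eq_inl']
  | add p q hp hq => simp [-DualNumber.inr_eq_smul_eps, hp.1, hp.2, hq.1, hq.2]
  | mul_X p i hp =>
    refine ⟨by simp [-DualNumber.inr_eq_smul_eps, hp.1], ?_⟩
    rcases eq_or_ne i j with rfl | hij
    · simp [-DualNumber.inr_eq_smul_eps, hp.1, hp.2, he, pderiv_X_self]; ring
    · simp [-DualNumber.inr_eq_smul_eps, hp.1, hp.2, he' i hij, pderiv_X_of_ne hij]; ring

theorem snd_eval {R k : Type*} [CommRing R] [CommRing k] [Algebra R k] {d : ℕ} (a : Fin d → k) (j : Fin d)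
    (p : MvPolynomial (Fin d) R) :
    TrivSqZeroExt.fst (MvPolynomial.aeval (fun i => TrivSqZeroExt.inl (a i) + TrivSqZeroExt.inr (if i = j then (1 : k) else 0)) p : DualNumber k)
        = MvPolynomial.aeval a p ∧
      TrivSqZeroExt.snd (MvPolynomial.aeval (fun i => TrivSqZeroExt.inl (a i) + TrivSqZeroExt.inr (if i = j then (1 : k) else 0)) p : DualNumber k)
        = MvPolynomial.aeval a (MvPolynomial.pderiv j p) :=
  snd_eval' a (fun i => if i = j then (1 : k) else 0) j (if_pos rfl) (fun _ h => if_neg h) p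

/-- Over a henselian local ring, any factorization of the reduction of a polynomial (not necessarily
monic) into a monic factor and a factor coprime to it lifts to a factorization over the ring in
which the lift of the monic factor is again monic (so it has the same degree as its reduction). -/
theorem result (R : Type u) [CommRing R] [HenselianLocalRing R]
    (f : Polynomial R) (g₀ h₀ : Polynomial (IsLocalRing.ResidueField R)) (hg : g₀.Monic)
    (hc : IsCoprime g₀ h₀) (hf : Polynomial.map (IsLocalRing.residue R) f = g₀ * h₀) :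
    ∃ g h : Polynomial R, f = g * h ∧ g.Monic ∧ Polynomial.map (IsLocalRing.residue R) g = g₀ ∧
      Polynomial.map (IsLocalRing.residue R) h = h₀ := by
  classical
  haveI : HenselianRing R (IsLocalRing.maximalIdeal R) :=
    ⟨(IsLocalRing.jacobson_eq_maximalIdeal ⊥ bot_ne_top).ge, fun p hp a₀ h1 h2 =>
      HenselianLocalRing.is_henselian p hp a₀ h1 (by
        rw [← IsLocalRing.residue_ne_zero_iff_isUnit]; exact h2.ne_zero)⟩
  let k := IsLocalRing.ResidueField R
  let res := IsLocalRing.residue R
  obtain ⟨gt, hgt, -, hgtm⟩ := Polynomial.lifts_and_degree_eq_and_monic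
    ((Polynomial.mem_lifts _).mpr (Polynomial.map_surjective res IsLocalRing.residue_surjective g₀)) hg
  set d := g₀.natDegree
  let S := MvPolynomial (Fin d) R
  let G : Polynomial S := Polynomial.X ^ d + ∑ i : Fin d, Polynomial.C (MvPolynomial.X i) * Polynomial.X ^ (i : ℕ)
  have hlt : (∑ i : Fin d, Polynomial.C (MvPolynomial.X (R := R) i) * Polynomial.X ^ (i : ℕ)).degree < (d : WithBot ℕ) :=
    Polynomial.degree_sum_fin_lt _
  have hGm : G.Monic := Polynomial.monic_X_pow_add hlt
  let P : Fin d → S := fun i => ((f.map MvPolynomial.C) %ₘ G).coeff i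
  let a₀ : Fin d → R := fun i => gt.coeff i
  have hev : ∀ {T : Type u} [CommRing T] (φ : S →+* T), G.map φ =
      Polynomial.X ^ d + ∑ i : Fin d, Polynomial.C (φ (MvPolynomial.X i)) * Polynomial.X ^ (i : ℕ) := by
    intro T _ φ
    simp [G, Polynomial.map_sum]
  have hg₀ : g₀ = Polynomial.X ^ d + ∑ i : Fin d, Polynomial.C (res (a₀ i)) * Polynomial.X ^ (i : ℕ) := by
    conv_lhs => rw [hg.as_sum]
    rw [Finset.sum_range]
    simp only [a₀, ← Polynomial.coeff_map, hgt, res]
    rfl
  have hmap : ∀ {T : Type u} [CommRing T] (φ : S →+* T) (i : Fin d),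
      φ (P i) = ((f.map (φ.comp MvPolynomial.C)) %ₘ G.map φ).coeff i := by
    intro T _ φ i
    simp only [P]
    rw [← Polynomial.coeff_map, Polynomial.map_modByMonic _ hGm, Polynomial.map_map]
  have h0 : ∀ i, MvPolynomial.eval a₀ (P i) ∈ IsLocalRing.maximalIdeal R := by
    intro i
    rw [← IsLocalRing.residue_eq_zero_iff, ← RingHom.comp_apply, hmap, hev]
    have : (res.comp (MvPolynomial.eval a₀)).comp MvPolynomial.C = res := by ext; simp
    rw [show (IsLocalRing.residue R).comp (MvPolynomial.eval a₀) = res.comp (MvPolynomial.eval a₀) from rfl, this, hf]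
    simp only [RingHom.comp_apply, show ∀ l, MvPolynomial.eval a₀ (MvPolynomial.X l) = a₀ l from fun l => MvPolynomial.eval_X l]
    rw [← hg₀, (Polynomial.modByMonic_eq_zero_iff_dvd hg).mpr (dvd_mul_right _ _), Polynomial.coeff_zero]
  have hD : ∀ i j, res (MvPolynomial.eval a₀ (MvPolynomial.pderiv j (P i))) =
      -((h₀ * Polynomial.X ^ (j : ℕ)) %ₘ g₀).coeff i := by
    intro i j
    have h1 := (snd_eval (R := R) (fun l => res (a₀ l)) j (P i)).2
    have h2 : MvPolynomial.aeval (fun l => res (a₀ l)) (MvPolynomial.pderiv j (P i)) =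
        res (MvPolynomial.eval a₀ (MvPolynomial.pderiv j (P i))) := by
      rw [MvPolynomial.map_eval]
      exact MvPolynomial.aeval_def _ _ |>.trans (by rw [MvPolynomial.eval_map]; rfl)
    rw [← h2, ← h1]
    set ψ := MvPolynomial.aeval (R := R) (fun l => (TrivSqZeroExt.inl (res (a₀ l)) + TrivSqZeroExt.inr (if l = j then (1 : k) else 0) : DualNumber k))
    rw [show ψ (P i) = ψ.toRingHom (P i) from rfl, hmap, hev]
    set q := (h₀ * Polynomial.X ^ (j : ℕ)) /ₘ g₀
    set r := (h₀ * Polynomial.X ^ (j : ℕ)) %ₘ g₀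
    let ι : k →+* DualNumber k := TrivSqZeroExt.inlHom k k
    let e : Polynomial (DualNumber k) := Polynomial.C (TrivSqZeroExt.inr 1)
    have hee : e * e = 0 := by simp [e, ← Polynomial.C_mul]
    have hψC : ψ.toRingHom.comp MvPolynomial.C = ι.comp res := by
      refine RingHom.ext fun c => ?_
      simp [ψ, ι, res, TrivSqZeroExt.algebraMap_eq_inl']
      rfl
    have hG' : (Polynomial.X ^ d + ∑ l : Fin d, Polynomial.C (ψ.toRingHom (MvPolynomial.X l)) * Polynomial.X ^ (l : ℕ)) =
        g₀.map ι + e * Polynomial.X ^ (j : ℕ) := by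
      conv_rhs => rw [hg₀]
      simp only [AlgHom.toRingHom_eq_coe, RingHom.coe_coe, ψ, MvPolynomial.aeval_X, map_add, Polynomial.map_add,
        Polynomial.map_pow, Polynomial.map_X, Polynomial.map_sum, Polynomial.map_mul, Polynomial.map_C, add_mul,
        Finset.sum_add_distrib, add_assoc, ι, TrivSqZeroExt.inlHom_apply, e]
      congr 2
      rw [Finset.sum_eq_single j (fun l _ hl => by simp [hl]) (fun h => absurd (Finset.mem_univ _) h)]
      rw [if_pos rfl]
    rw [hψC, ← Polynomial.map_map, hf, hG']
    have hdeg : (g₀.map ι + e * Polynomial.X ^ (j : ℕ)).Monic := by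
      rw [← hG', ← hev]; exact hGm.map _
    have key : (g₀.map ι + e * Polynomial.X ^ (j : ℕ)) * (h₀.map ι - e * q.map ι) + (-(e * r.map ι)) = (g₀ * h₀).map ι := by
      have h3 : h₀.map ι * Polynomial.X ^ (j : ℕ) = g₀.map ι * q.map ι + r.map ι := by
        rw [← Polynomial.map_X (f := ι), ← Polynomial.map_pow, ← Polynomial.map_mul, ← Polynomial.map_mul, ← Polynomial.map_add]
        rw [add_comm, Polynomial.modByMonic_add_div]
      rw [Polynomial.map_mul]
      linear_combination e * h3 - Polynomial.X ^ (j : ℕ) * q.map ι * hee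
    rw [← key, Polynomial.add_modByMonic, (Polynomial.modByMonic_eq_zero_iff_dvd hdeg).mpr (dvd_mul_right _ _), zero_add,
      (Polynomial.modByMonic_eq_self_iff hdeg).mpr]
    · simp [e, ι, Polynomial.coeff_C_mul, r]
    · rw [Polynomial.degree_neg, ← hG', Polynomial.degree_add_eq_left_of_degree_lt (by
        rw [Polynomial.degree_X_pow]; exact Polynomial.degree_sum_fin_lt _), Polynomial.degree_X_pow]
      refine lt_of_le_of_lt ((Polynomial.degree_mul_le _ _).trans (add_le_add Polynomial.degree_C_le Polynomial.degree_map_le)) ?_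
      rw [zero_add]
      exact (Polynomial.degree_modByMonic_lt _ hg).trans_le Polynomial.degree_le_natDegree
  have hJ : IsUnit (Ideal.Quotient.mk (IsLocalRing.maximalIdeal R)
      (Matrix.of fun i j => MvPolynomial.eval a₀ (MvPolynomial.pderiv j (P i))).det) := by
    show IsUnit (res _)
    rw [isUnit_iff_ne_zero, RingHom.map_det]
    intro h0'
    obtain ⟨v, hv, hv0⟩ := Matrix.exists_mulVec_eq_zero_iff.mpr h0'
    let V : Polynomial k := ∑ j : Fin d, Polynomial.C (v j) * Polynomial.X ^ (j : ℕ)
    have hVd : V.degree < (d : WithBot ℕ) := Polynomial.degree_sum_fin_lt _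
    have h1 : (h₀ * V) %ₘ g₀ = 0 := by
      refine Polynomial.ext fun n => ?_
      rw [Polynomial.coeff_zero]
      rcases lt_or_ge n d with hn | hn
      · have h4 := congrFun hv0 ⟨n, hn⟩
        simp only [Matrix.mulVec, dotProduct, RingHom.mapMatrix_apply, Matrix.map_apply, Matrix.of_apply, hD,
          Pi.zero_apply, neg_mul, Finset.sum_neg_distrib, neg_eq_zero] at h4
        rw [← h4, show h₀ * V = ∑ j : Fin d, v j • (h₀ * Polynomial.X ^ (j : ℕ)) by
          rw [Finset.mul_sum]; exact Finset.sum_congr rfl fun j _ => by rw [Polynomial.smul_eq_C_mul]; ring,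
          ← Polynomial.modByMonicHom_apply, map_sum, Polynomial.finsetSum_coeff]
        exact Finset.sum_congr rfl fun j _ => by rw [map_smul, Polynomial.coeff_smul, smul_eq_mul, mul_comm]; rfl
      · exact Polynomial.coeff_eq_zero_of_degree_lt ((Polynomial.degree_modByMonic_lt _ hg).trans_le
          (Polynomial.degree_le_natDegree.trans (by exact_mod_cast hn)))
    have h2 : V = 0 := by
      by_contra hV
      have h3 := Polynomial.degree_le_of_dvd (hc.dvd_of_dvd_mul_left ((Polynomial.modByMonic_eq_zero_iff_dvd hg).mp h1)) hV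
      rw [Polynomial.degree_eq_natDegree hg.ne_zero] at h3
      exact absurd (h3.trans_lt hVd) (lt_irrefl _)
    refine hv (funext fun j => ?_)
    have h5 := congrArg (fun p => Polynomial.coeff p (j : ℕ)) h2
    simpa [V, Polynomial.coeff_C_mul, Polynomial.coeff_X_pow, Fin.val_inj] using h5
  obtain ⟨a, ha, haa⟩ := H4HenselPair.exists_root_mv (IsLocalRing.maximalIdeal R) P a₀ h0 hJ
  let g := G.map (MvPolynomial.eval a)
  have hgm : g.Monic := hGm.map _
  have hgres : g.map res = g₀ := by
    rw [Polynomial.map_map, hev, hg₀]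
    refine congrArg _ (Finset.sum_congr rfl fun i _ => ?_)
    congr 2
    rw [RingHom.comp_apply, MvPolynomial.eval_X]
    exact Ideal.Quotient.eq.mpr (haa i)
  have hdg : g.natDegree = d := by rw [← hgm.natDegree_map res, hgres]
  have hfg : f %ₘ g = 0 := by
    refine Polynomial.ext fun n => ?_
    rw [Polynomial.coeff_zero]
    rcases lt_or_ge n d with hn | hn
    · have h4 := ha ⟨n, hn⟩
      rw [hmap] at h4
      have : (MvPolynomial.eval a).comp MvPolynomial.C = RingHom.id R := by ext; simp
      rwa [this, Polynomial.map_id] at h4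
    · exact Polynomial.coeff_eq_zero_of_degree_lt ((Polynomial.degree_modByMonic_lt _ hgm).trans_le
        (Polynomial.degree_le_natDegree.trans (by exact_mod_cast hdg.trans_le hn)))
  refine ⟨g, f /ₘ g, ?_, hgm, hgres, ?_⟩
  · conv_lhs => rw [← Polynomial.modByMonic_add_div f g, hfg, zero_add]
  · rw [Polynomial.map_divByMonic _ hgm, hgres, hf]
    exact Polynomial.mul_divByMonic_cancel_left _ hg

end Groth.Agent.S0497
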