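import Groth.Statements.S0502
import Mathlib
import Groth.Agent.Lib.H4HenselSections


set_option autoImplicit false
universe u
open Hensel

namespace Groth.Agent.S0502

/-- A local ring `R` is henselian as soon as every étale `R`-algebra having a prime over the maximal
ideal with trivial residue field extension admits an `R`-algebra retraction to `R`. -/
theorem result (R : Type u) [CommRing R] [IsLocalRing R]
    (h : ∀ (S : Type u) [CommRing S] [Algebra R S] [Algebra.Etale R S] (q : Ideal S) [q.IsPrime],
      q.LiesOver (IsLocalRing.maximalIdeal R) → Function.Surjective (algebraMap R q.ResidueField) →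
      Nonempty (S →ₐ[R] R)) :
    HenselianLocalRing R := by
  refine H4HenselPair.of_standardEtale fun P σ hσ => ?_
  have hsurj : Function.Surjective σ := fun z => by
    obtain ⟨r, rfl⟩ := IsLocalRing.residue_surjective z
    exact ⟨algebraMap R P.Ring r, σ.commutes r⟩
  let q := RingHom.ker (σ : P.Ring →+* IsLocalRing.ResidueField R)
  have hq : q.IsMaximal := RingHom.ker_isMaximal_of_surjective _ hsurj
  refine h P.Ring q ⟨?_⟩ ?_
  · ext r
    rw [Ideal.under, Ideal.mem_comap, RingHom.mem_ker, AlgHom.coe_toRingHom, AlgHom.commutes]
    exact (IsLocalRing.residue_eq_zero_iff r).symm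
  · intro z
    obtain ⟨s, rfl⟩ := q.algebraMap_residueField_surjective z
    obtain ⟨r, hr⟩ := IsLocalRing.residue_surjective (σ s)
    refine ⟨r, ?_⟩
    rw [IsScalarTower.algebraMap_apply R P.Ring q.ResidueField, ← sub_eq_zero, ← map_sub,
      Ideal.algebraMap_residueField_eq_zero, RingHom.mem_ker, map_sub, sub_eq_zero]
    exact (σ.commutes r).trans hr

end Groth.Agent.S0502
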