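import Groth.Statements.S0508
import Mathlib
import Groth.Agent.Lib.H4HenzProps


set_option autoImplicit false
universe u
open Hensel

namespace Groth.Agent.S0508

/-- The henselization of a local ring induces an isomorphism on residue fields. -/
theorem result (R : Type u) [CommRing R] [IsLocalRing R] (S : Type u) [CommRing S] [IsLocalRing S]
    [Algebra R S] [IsLocalHom (algebraMap R S)] [Hensel.IsHenselization R S] :
    Function.Bijective (IsLocalRing.ResidueField.map (algebraMap R S)) := by
  refine ⟨RingHom.injective _, fun y => ?_⟩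
  obtain ⟨e⟩ := H4Henzn.exists_algEquiv_henselization R S
  obtain ⟨b, rfl⟩ := IsLocalRing.residue_surjective y
  obtain ⟨q, hq⟩ := (H4Henzn.quotient_pow_bijective R e 1).2 (Ideal.Quotient.mk _ b)
  obtain ⟨a, rfl⟩ := Ideal.Quotient.mk_surjective q
  refine ⟨IsLocalRing.residue R a, ?_⟩
  rw [Ideal.quotientMap_mk, Ideal.Quotient.eq, pow_one, H4Henzn.map_maximalIdeal_of_equiv e] at hq
  exact Ideal.Quotient.eq.mpr hq

end Groth.Agent.S0508
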