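import Groth.Statements.S0509
import Mathlib
import Groth.Agent.Lib.H4HenzProps


set_option autoImplicit false
universe u
open Hensel

namespace Groth.Agent.S0509

/-- The henselization of a local ring R is faithfully flat over R: if R → S is a local homomorphism of
local rings exhibiting S as a henselization of R, then S is a faithfully flat R-module. -/
theorem result (R : Type u) [CommRing R] [IsLocalRing R] (S : Type u) [CommRing S] [IsLocalRing S]
    [Algebra R S] [IsLocalHom (algebraMap R S)] [Hensel.IsHenselization R S] :
    Module.FaithfullyFlat R S := by
  obtain ⟨e⟩ := H4Henzn.exists_algEquiv_henselization R S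
  exact H4Henzn.faithfullyFlat_of_equiv e

end Groth.Agent.S0509
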