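import Groth.Statements.S0516
import Mathlib
import Groth.Agent.Lib.H4HenselSplit
import Groth.Agent.Lib.H4HenselApps


set_option autoImplicit false
universe u
open Hensel

namespace Groth.Agent.S0516

theorem surjective_of_unramified (R A : Type u) [CommRing R] [IsLocalRing R]
    [IsSepClosed (IsLocalRing.ResidueField R)] [CommRing A] [IsLocalRing A] [Algebra R A]
    [Module.Finite R A] [Algebra.FormallyUnramified R A] :
    Function.Surjective (algebraMap R A) := by
  have : IsLocalHom (algebraMap R A) :=
    ((IsLocalRing.local_hom_TFAE _).out 0 4 rfl rfl).mpr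
      (IsLocalRing.eq_maximalIdeal
        (Ideal.isMaximal_comap_of_isIntegral_of_isMaximal (R := R) (IsLocalRing.maximalIdeal A)))
  have hm := Algebra.FormallyUnramified.map_maximalIdeal (R := R) (S := A)
  have hκ := IsSepClosed.algebraMap_surjective (IsLocalRing.ResidueField R) (IsLocalRing.ResidueField A)
  have key : (⊤ : Submodule R A) ≤ LinearMap.range (Algebra.linearMap R A) := by
    refine Submodule.le_of_le_smul_of_le_jacobson_bot Module.Finite.fg_top
      (IsLocalRing.maximalIdeal_le_jacobson _) ?_
    intro x _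
    obtain ⟨c, hc⟩ := hκ (IsLocalRing.residue A x)
    obtain ⟨r, rfl⟩ := IsLocalRing.residue_surjective c
    rw [← add_sub_cancel (algebraMap R A r) x]
    refine add_mem (Submodule.mem_sup_left ⟨r, rfl⟩) (Submodule.mem_sup_right ?_)
    rw [Ideal.smul_top_eq_map, Submodule.restrictScalars_mem, hm,
      ← IsLocalRing.residue_eq_zero_iff, map_sub, sub_eq_zero, ← hc]
    rfl
  exact fun x => key trivial

/-- An unramified algebra `S` (formally unramified of finite type) over a strictly henselian local ring
`R` is isomorphic over `R` to a product of finitely many quotient rings of `R` and an `R`-algebra in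
which the maximal ideal of `R` generates the unit ideal. -/
theorem result (R : Type u) [CommRing R]
    [HenselianLocalRing R] [IsSepClosed (IsLocalRing.ResidueField R)] (S : Type u) [CommRing S] [Algebra R S]
    [Algebra.Unramified R S] :
    ∃ (ι : Type u) (_ : Fintype ι) (A : ι → Type u) (_ : ∀ i, CommRing (A i))
      (_ : ∀ i, Algebra R (A i)) (B : Type u) (_ : CommRing B) (_ : Algebra R B),
      (∀ i, Function.Surjective (algebraMap R (A i))) ∧
      Ideal.map (algebraMap R B) (IsLocalRing.maximalIdeal R) = ⊤ ∧
      Nonempty (S ≃ₐ[R] ((∀ i, A i) × B)) := by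
  obtain ⟨e, he, hfin, hq⟩ := H4HenselSplit.exists_split R S
  obtain ⟨ι, hι, A, _, hA, ⟨e₁⟩⟩ :=
    H4HenselPair.exists_pi_local R (S ⧸ Ideal.span ({1 - e} : Set S))
  let _ : ∀ i, Algebra R (A i) := fun i =>
    ((Pi.evalRingHom A i).comp (e₁.toRingHom.comp (algebraMap R _))).toAlgebra
  let e₂ : (S ⧸ Ideal.span ({1 - e} : Set S)) ≃ₐ[R] (∀ i, A i) :=
    AlgEquiv.ofRingEquiv (f := e₁) fun r => rfl
  have hun : Algebra.FormallyUnramified R (S ⧸ Ideal.span ({1 - e} : Set S)) :=
    Algebra.FormallyUnramified.of_surjective (Ideal.Quotient.mkₐ R _) Ideal.Quotient.mk_surjective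
  have hsurj : ∀ i, Function.Surjective ((Pi.evalAlgHom R A i).comp e₂.toAlgHom) := fun i =>
    (Function.surjective_eval i).comp e₂.surjective
  refine ⟨ι, hι, A, inferInstance, inferInstance, S ⧸ Ideal.span ({e} : Set S), inferInstance,
    inferInstance, fun i => ?_, ?_, ⟨?_⟩⟩
  · have := hA i
    have : Module.Finite R (A i) := Module.Finite.of_surjective
      ((Pi.evalAlgHom R A i).comp e₂.toAlgHom).toLinearMap (hsurj i)
    have : Algebra.FormallyUnramified R (A i) := Algebra.FormallyUnramified.of_surjective _ (hsurj i)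
    exact surjective_of_unramified R (A i)
  · by_contra hne
    obtain ⟨M, hM, hle⟩ := Ideal.exists_le_maximal _ hne
    have hlo : M.LiesOver (IsLocalRing.maximalIdeal R) :=
      ⟨((IsLocalRing.maximalIdeal.isMaximal R).eq_of_le (Ideal.comap_ne_top _ hM.ne_top)
        (Ideal.map_le_iff_le_comap.mp hle))⟩
    exact hq M hlo inferInstance
  · exact (AlgEquiv.prodQuotientOfIsIdempotentElem R he.one_sub he (sub_add_cancel 1 e)
      (by rw [sub_mul, one_mul, he.eq, sub_self])).trans (AlgEquiv.prodCongr e₂ AlgEquiv.refl)

end Groth.Agent.S0516
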