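import Groth.Statements.S0517
import Mathlib
import Groth.Agent.Lib.H4HenselSections


set_option autoImplicit false
universe u
open Hensel

namespace Groth.Agent.S0517

open TensorProduct IsLocalRing in
theorem points_in_image (R S : Type u) [CommRing R] [IsLocalRing R] [IsSepClosed (ResidueField R)]
    [Field S] [Algebra R S] [Algebra (ResidueField R) S] (hT : ∀ r, algebraMap R S r = algebraMap (ResidueField R) S (residue R r))
    (C : Type u) [CommRing C] [Algebra R C] [Algebra.Etale R C] (f : C →ₐ[R] S) :
    ∃ g : C →ₐ[R] ResidueField R, ∀ c, algebraMap (ResidueField R) S (g c) = f c := by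
  have : IsScalarTower R (ResidueField R) S := .of_algebraMap_eq hT
  let F : ResidueField R ⊗[R] C →ₐ[ResidueField R] S :=
    Algebra.TensorProduct.lift (Algebra.ofId _ _) f fun _ _ => .all _ _
  let q := RingHom.ker F.toRingHom
  have : q.IsPrime := RingHom.ker_isPrime _
  have : q.IsMaximal :=
    have := Algebra.FormallyUnramified.finite_of_free (ResidueField R) (ResidueField R ⊗[R] C)
    have : IsArtinianRing (ResidueField R ⊗[R] C) := IsArtinianRing.of_finite (ResidueField R) _
    inferInstance
  let := Ideal.Quotient.field q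
  have hs := IsSepClosed.algebraMap_surjective (ResidueField R) ((ResidueField R ⊗[R] C) ⧸ q)
  have hc : ∀ c, ∃ a, algebraMap (ResidueField R) S a = f c := fun c => by
    obtain ⟨a, ha⟩ := hs (Ideal.Quotient.mk q (1 ⊗ₜ c))
    refine ⟨a, ?_⟩
    have h := Ideal.Quotient.eq.mp (show Ideal.Quotient.mk q (algebraMap _ _ a) = _ from ha)
    have h' : F (algebraMap _ _ a - 1 ⊗ₜ c) = 0 := h
    rw [map_sub, AlgHom.commutes, sub_eq_zero] at h'
    simpa [F] using h'
  choose g hg using hc
  have hinj := (algebraMap (ResidueField R) S).injective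
  refine ⟨{ toFun := g, map_one' := hinj (by simp [hg]), map_mul' := fun a b => hinj (by simp [hg])
            map_zero' := hinj (by simp [hg]), map_add' := fun a b => hinj (by simp [hg])
            commutes' := fun r => hinj ((hg _).trans ((f.commutes r).trans (IsScalarTower.algebraMap_apply R (ResidueField R) S r))) }, ?_⟩
  exact hg
open IsLocalRing in
theorem bijOn_points (R : Type u) [CommRing R] [HenselianLocalRing R] [IsSepClosed (ResidueField R)]
    (S : Type u) [CommRing S] [HenselianLocalRing S] [Algebra R S] [IsLocalHom (algebraMap R S)]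
    (C : Type u) [CommRing C] [Algebra R C] [Algebra.Etale R C] :
    Function.Bijective (fun g : C →ₐ[R] R => (Algebra.ofId R S).comp g) := by
  have : IsScalarTower R (ResidueField R) (ResidueField S) := .of_algebraMap_eq fun r => rfl
  have hR := H4HenselPair.algHom_bijective_of_etale (A := R) R (maximalIdeal R) C
  have hS := H4HenselPair.algHom_bijective_of_etale (A := R) S (maximalIdeal S) C
  have hcompat : ∀ g : C →ₐ[R] R, (Ideal.Quotient.mkₐ R (maximalIdeal S)).comp
      ((Algebra.ofId R S).comp g) = (IsScalarTower.toAlgHom R (ResidueField R) (ResidueField S)).comp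
        ((Ideal.Quotient.mkₐ R (maximalIdeal R)).comp g) := fun g => AlgHom.ext fun c => by
    show residue S (algebraMap R S (g c)) = algebraMap (ResidueField R) (ResidueField S) (residue R (g c))
    rfl
  refine ⟨fun g g' h => hR.injective (AlgHom.ext fun c => ?_), fun ψ => ?_⟩
  · have h1 := AlgHom.congr_fun (hcompat g) c
    have h2 := AlgHom.congr_fun (hcompat g') c
    simp only at h
    rw [h] at h1
    exact (algebraMap (ResidueField R) (ResidueField S)).injective (h1.symm.trans h2)
  · obtain ⟨g₀, hg₀⟩ := points_in_image R (ResidueField S) (fun r => rfl) C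
      ((Ideal.Quotient.mkₐ R (maximalIdeal S)).comp ψ)
    obtain ⟨g, hg⟩ := hR.surjective g₀
    refine ⟨g, hS.injective ?_⟩
    show (Ideal.Quotient.mkₐ R (maximalIdeal S)).comp _ = _
    rw [hcompat, show (Ideal.Quotient.mkₐ R (maximalIdeal R)).comp g = g₀ from hg]
    exact AlgHom.ext hg₀

/-- Given strictly henselian local rings `R` and `S`, a local ring map `φ` between them, and a square
system of `n` polynomial equations in `n` unknowns over `R` whose quotient algebra is étale over
`R`, applying `φ` coordinatewise matches the solutions of the system in `Rⁿ` bijectively with the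
solutions of the transported system in `Sⁿ`. -/
theorem result (R : Type u) [CommRing R]
    [HenselianLocalRing R] [IsSepClosed (IsLocalRing.ResidueField R)] (S : Type u) [CommRing S]
    [HenselianLocalRing S] [IsSepClosed (IsLocalRing.ResidueField S)] (φ : R →+* S) [IsLocalHom φ] (n : ℕ)
    (P : Fin n → MvPolynomial (Fin n) R)
    [Algebra.Etale R (MvPolynomial (Fin n) R ⧸ Ideal.span (Set.range P))] :
    Set.BijOn (fun r : Fin n → R => φ ∘ r)
      {r : Fin n → R | ∀ i, MvPolynomial.eval r (P i) = 0}
      {s : Fin n → S | ∀ i, MvPolynomial.eval s (MvPolynomial.map φ (P i)) = 0} := by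
  let : Algebra R S := φ.toAlgebra
  have : IsLocalHom (algebraMap R S) := ‹IsLocalHom φ›
  obtain ⟨hinj, hsurj⟩ := bijOn_points R S (MvPolynomial (Fin n) R ⧸ Ideal.span (Set.range P))
  have hzero : ∀ (T : Type u) [CommRing T] [Algebra R T] (x : Fin n → T),
      (∀ i, MvPolynomial.aeval x (P i) = 0) → ∀ a ∈ Ideal.span (Set.range P),
        MvPolynomial.aeval (R := R) x a = 0 := fun T _ _ x hx a ha => by
    have : Ideal.span (Set.range P) ≤ RingHom.ker (MvPolynomial.aeval (R := R) x).toRingHom :=
      Ideal.span_le.mpr (by rintro _ ⟨i, rfl⟩; exact hx i)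
    exact this ha
  have haev : ∀ (r : Fin n → R) (p : MvPolynomial (Fin n) R),
      MvPolynomial.aeval r p = MvPolynomial.eval r p := fun r p => rfl
  have hmap : ∀ (s : Fin n → S) (p : MvPolynomial (Fin n) R),
      MvPolynomial.eval s (MvPolynomial.map φ p) = MvPolynomial.aeval s p := fun s p => by
    rw [MvPolynomial.eval_map]; rfl
  let pt : ∀ (T : Type u) [CommRing T] [Algebra R T] (x : Fin n → T),
      (∀ i, MvPolynomial.aeval x (P i) = 0) →
        ((MvPolynomial (Fin n) R ⧸ Ideal.span (Set.range P)) →ₐ[R] T) := fun T _ _ x hx =>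
    Ideal.Quotient.liftₐ _ (MvPolynomial.aeval x) (hzero T x hx)
  refine ⟨fun r hr i => ?_, fun r hr r' hr' h => funext fun j => ?_, fun s hs => ?_⟩
  · show MvPolynomial.eval (φ ∘ r) (MvPolynomial.map φ (P i)) = 0
    rw [MvPolynomial.eval_map, ← MvPolynomial.eval₂_comp, show MvPolynomial.eval r (P i) = 0 from hr i, map_zero]
  · have := hinj (a₁ := pt R r hr) (a₂ := pt R r' hr') (Ideal.Quotient.algHom_ext _
      (MvPolynomial.algHom_ext fun k => by simpa [pt, RingHom.algebraMap_toAlgebra, Algebra.ofId_apply] using congrFun h k))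
    simpa [pt] using AlgHom.congr_fun this (Ideal.Quotient.mk _ (MvPolynomial.X j))
  · obtain ⟨g, hg⟩ := hsurj (pt S s fun i => by rw [← hmap]; exact hs i)
    refine ⟨fun j => g (Ideal.Quotient.mk _ (MvPolynomial.X j)), fun i => ?_, funext fun j => ?_⟩
    · rw [← haev]
      have : MvPolynomial.aeval (fun j => g (Ideal.Quotient.mk _ (MvPolynomial.X j))) =
          g.comp (Ideal.Quotient.mkₐ R _) := MvPolynomial.algHom_ext fun k => by simp
      rw [this, AlgHom.comp_apply, Ideal.Quotient.mkₐ_eq_mk,
        Ideal.Quotient.eq_zero_iff_mem.mpr (Ideal.subset_span (Set.mem_range_self i)), map_zero]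
    · have h := AlgHom.congr_fun hg (Ideal.Quotient.mk _ (MvPolynomial.X j))
      exact h.trans (MvPolynomial.aeval_X s j)

end Groth.Agent.S0517
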