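import Groth.Statements.S0520
import Mathlib
import Groth.Agent.Lib.H4HenselPair


set_option autoImplicit false
universe u
open Hensel

namespace Groth.Agent.S0520

/-- A ring `A` is Henselian at an ideal `I` in Mathlib's sense (simple roots lift) exactly when `I` lies
in the Jacobson radical and every factorization of the reduction of a monic polynomial into two
comaximal monic factors over `A/I` lifts to a factorization into monic polynomials over `A`. -/
theorem result (A : Type u) [CommRing A] (I : Ideal A) :
    HenselianRing A I ↔ (I ≤ Ideal.jacobson ⊥ ∧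
      ∀ f : Polynomial A, f.Monic → ∀ g₀ h₀ : Polynomial (A ⧸ I), g₀.Monic → h₀.Monic →
        IsCoprime g₀ h₀ → Polynomial.map (Ideal.Quotient.mk I) f = g₀ * h₀ →
        ∃ g h : Polynomial A, g.Monic ∧ h.Monic ∧ f = g * h ∧
          Polynomial.map (Ideal.Quotient.mk I) g = g₀ ∧ Polynomial.map (Ideal.Quotient.mk I) h = h₀) := by
  constructor
  · intro _
    refine ⟨HenselianRing.jac, fun f hf g₀ h₀ hg hh hc hm => ?_⟩
    rcases subsingleton_or_nontrivial (A ⧸ I) with hAI | hAI
    · have h1 : (1 : A) ∈ I := Ideal.Quotient.eq_zero_iff_mem.mp (Subsingleton.elim _ _)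
      have hu := Ideal.mem_jacobson_bot.mp (HenselianRing.jac (R := A) h1) (-1)
      have : Subsingleton A := by
        rw [one_mul, neg_add_cancel] at hu
        exact subsingleton_of_zero_eq_one (isUnit_zero_iff.mp hu)
      exact ⟨1, 1, Polynomial.monic_one, Polynomial.monic_one, Subsingleton.elim _ _,
        Subsingleton.elim _ _, Subsingleton.elim _ _⟩
    · obtain ⟨G, H, hG, hH, -, h1, h2, h3⟩ := H4HenselPair.exists_factorization I f hf g₀ h₀ hg hh hc hm
        (by rw [← hf.natDegree_map (Ideal.Quotient.mk I), hm, hg.natDegree_mul hh])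
      exact ⟨G, H, hG, hH, h1.symm, h2, h3⟩
  · rintro ⟨hI, h⟩
    refine ⟨hI, fun f hf a₀ h1 h2 => ?_⟩
    rcases subsingleton_or_nontrivial (A ⧸ I) with hAI | hAI
    · have h1' : I = ⊤ := Ideal.Quotient.subsingleton_iff.mp hAI
      have hu := Ideal.mem_jacobson_bot.mp (hI (h1' ▸ Submodule.mem_top : (1 : A) ∈ I)) (-1)
      rw [one_mul, neg_add_cancel] at hu
      have : Subsingleton A := subsingleton_of_zero_eq_one (isUnit_zero_iff.mp hu)
      exact ⟨a₀, Subsingleton.elim _ _, by simp [h1']⟩
    set ā := Ideal.Quotient.mk I a₀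
    set F := f.map (Ideal.Quotient.mk I)
    set q := F /ₘ (Polynomial.X - Polynomial.C ā)
    have hroot : F.IsRoot ā := by
      show F.eval ā = 0
      rw [Polynomial.eval_map_apply, Ideal.Quotient.eq_zero_iff_mem.mpr h1]
    have hFq : (Polynomial.X - Polynomial.C ā) * q = F := Polynomial.mul_divByMonic_eq_iff_isRoot.mpr hroot
    have hqm : q.Monic := (Polynomial.monic_X_sub_C ā).of_mul_monic_left (by rw [hFq]; exact hf.map _)
    have hqu : IsUnit (q.eval ā) := by
      have := congrArg (fun p => (Polynomial.derivative p).eval ā) hFq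
      simp [Polynomial.derivative_mul, F, ā, Polynomial.derivative_map, Polynomial.eval_map_apply] at this
      rw [this]; exact h2
    obtain ⟨r, hr⟩ := Polynomial.X_sub_C_dvd_sub_C_eval (p := q) (a := ā)
    obtain ⟨v, hv⟩ := hqu.exists_left_inv
    have hco : IsCoprime (Polynomial.X - Polynomial.C ā) q := by
      refine ⟨-(Polynomial.C v * r), Polynomial.C v, ?_⟩
      have hv' : Polynomial.C v * Polynomial.C (q.eval ā) = 1 := by
        rw [← Polynomial.C_mul, hv, Polynomial.C_1]
      linear_combination (Polynomial.C v) * hr + hv'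
    obtain ⟨g, k, hg, -, hgk, hgmap, -⟩ := h f hf _ q (Polynomial.monic_X_sub_C ā) hqm hco hFq.symm
    have hd : g.natDegree = 1 := by
      rw [← hg.natDegree_map (Ideal.Quotient.mk I), hgmap, Polynomial.natDegree_X_sub_C]
    have hg' := hg.eq_X_add_C hd
    refine ⟨-g.coeff 0, ?_, ?_⟩
    · show Polynomial.eval _ f = 0
      rw [hgk, Polynomial.eval_mul, hg']
      simp
    · have := congrArg (Polynomial.coeff · 0) hgmap
      simp [ā, Polynomial.coeff_map] at this
      rw [← Ideal.Quotient.eq, map_neg, this, neg_neg]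

end Groth.Agent.S0520
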