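import Groth.Statements.S0524
import Groth.Agent.Lib.H4Hensel


set_option autoImplicit false
universe u
open Hensel

namespace Groth.Agent.S0524

/-- (1) iff (5) with the uniqueness complement: `A` is Henselian at `I` exactly when `I` lies in the
Jacobson radical and, for every `n ≥ 1` and every polynomial `p` of degree at most `n` with all
coefficients in `I`, the polynomial `Tⁿ(T-1) + p` has exactly one root congruent to `1` modulo `I`. -/
theorem result (A : Type u) [CommRing A] (I : Ideal A) :
    HenselianRing A I ↔ (I ≤ Ideal.jacobson ⊥ ∧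
      ∀ (n : ℕ), 0 < n → ∀ p : Polynomial A, p.natDegree ≤ n → (∀ i, p.coeff i ∈ I) →
        ∃! α : A, α - 1 ∈ I ∧
          Polynomial.IsRoot (Polynomial.X ^ n * (Polynomial.X - 1) + p) α) := by
  constructor
  · intro _
    refine ⟨HenselianRing.jac, fun n hn p hd hp => ?_⟩
    obtain ⟨α, h1, h2⟩ := H4Hensel.hasGabberRoots I n hn p hd hp
    refine ⟨α, ⟨h1, h2⟩, fun β ⟨hb1, hb2⟩ => ?_⟩
    refine H4Hensel.root_unique (I := I) HenselianRing.jac _ h2 hb2 ?_ ?_
    · simpa using I.sub_mem hb1 h1
    · refine H4Hensel.isUnit_of_isUnit_mk (I := I) HenselianRing.jac ?_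
      have : Ideal.Quotient.mk I α = 1 := by
        rw [← map_one (Ideal.Quotient.mk I)]; exact Ideal.Quotient.eq.mpr h1
      simp [Polynomial.derivative_mul, Polynomial.derivative_pow, this,
        Ideal.Quotient.eq_zero_iff_mem.mpr (H4Hensel.derivative_eval_mem hp α)]
  · rintro ⟨hI, h⟩
    exact H4Hensel.of_gabber hI fun n hn p hd hp => (h n hn p hd hp).exists

end Groth.Agent.S0524
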