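import Groth.Statements.S0529
import Groth.Agent.Lib.H4Hensel


set_option autoImplicit false
universe u
open Hensel

namespace Groth.Agent.S0529

/-- A product of rings, with the product ideal, is Henselian exactly when every factor is Henselian at
its ideal. -/
theorem result (J : Type u) (A : J → Type u) [∀ j, CommRing (A j)]
    (I : ∀ j, Ideal (A j)) :
    HenselianRing (∀ j, A j) (⨅ j, Ideal.comap (Pi.evalRingHom A j) (I j)) ↔
      ∀ j, HenselianRing (A j) (I j) := by
  classical
  constructor
  · intro h j
    have := @H4Hensel.of_surjective _ _ _ _ (Pi.evalRingHom A j) (Function.surjective_eval j) _ h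
    convert this
    refine le_antisymm (fun x hx => ?_) ?_
    · have : Function.update (0 : ∀ k, A k) j x ∈ ⨅ k, Ideal.comap (Pi.evalRingHom A k) (I k) := by
        rw [Ideal.mem_iInf]; intro k
        rcases eq_or_ne k j with rfl | hk
        · simpa using hx
        · simp [hk]
      simpa using Ideal.mem_map_of_mem (Pi.evalRingHom A j) this
    · rw [Ideal.map_le_iff_le_comap]; exact iInf_le _ j
  · intro h
    have hjac : (⨅ j, Ideal.comap (Pi.evalRingHom A j) (I j)) ≤ Ideal.jacobson ⊥ := by
      intro x hx
      rw [Ideal.mem_jacobson_bot]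
      intro y
      rw [Pi.isUnit_iff]
      intro j
      exact Ideal.mem_jacobson_bot.mp ((h j).jac ((Ideal.mem_iInf.mp hx) j)) (y j)
    refine ⟨hjac, fun f hf a₀ h1 h2 => ?_⟩
    have hu := H4Hensel.isUnit_of_isUnit_mk hjac h2
    have : ∀ j, ∃ a, (f.map (Pi.evalRingHom A j)).IsRoot a ∧ a - a₀ j ∈ I j := fun j => by
      refine (h j).is_henselian _ (hf.map _) (a₀ j) ?_ ?_
      · have := (Ideal.mem_iInf.mp h1) j
        rw [show a₀ j = Pi.evalRingHom A j a₀ from rfl, Polynomial.eval_map_apply]
        exact this
      · rw [show a₀ j = Pi.evalRingHom A j a₀ from rfl, Polynomial.derivative_map,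
          Polynomial.eval_map_apply]
        exact (hu.map _).map _
    choose a ha ha' using this
    refine ⟨a, funext fun j => ?_, Ideal.mem_iInf.mpr fun j => ha' j⟩
    have := (ha j).eq_zero
    rw [show a j = Pi.evalRingHom A j a from rfl, Polynomial.eval_map_apply] at this
    exact this

end Groth.Agent.S0529
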