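import Groth.Statements.S0530
import Mathlib
import Groth.Agent.Lib.H4HenselApps


set_option autoImplicit false
universe u
open Hensel

namespace Groth.Agent.S0530

/-- If `A` is Henselian at `I` and `p` is a prime ideal of `A`, then the spectrum of `A/(p + I)` is
connected. -/
theorem result (A : Type u) [CommRing A] (I : Ideal A) [HenselianRing A I]
    (p : Ideal A) [p.IsPrime] : ConnectedSpace (PrimeSpectrum (A ⧸ p ⊔ I)) := by
  have hq : HenselianRing (A ⧸ p) (I.map (Ideal.Quotient.mk p)) :=
    H4Hensel.of_surjective _ Ideal.Quotient.mk_surjective I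
  have : Nontrivial (A ⧸ p ⊔ I) := by
    rw [Ideal.Quotient.nontrivial_iff]
    intro h
    obtain ⟨M, hM, hpM⟩ := Ideal.exists_le_maximal p (Ideal.IsPrime.ne_top inferInstance)
    have hIM : I ≤ M := (HenselianRing.jac (R := A) (I := I)).trans (sInf_le ⟨bot_le, hM⟩)
    exact hM.ne_top (top_le_iff.mp (h ▸ sup_le hpM hIM))
  have key : ∀ e : A ⧸ p ⊔ I, IsIdempotentElem e → e = 0 ∨ e = 1 := by
    intro e he
    let ψ := DoubleQuot.quotQuotEquivQuotSup p I
    have he' : IsIdempotentElem (ψ.symm e) := he.map ψ.symm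
    obtain ⟨f, hf, hfe⟩ := (H4HenselPair.idempotents_bijOn (I.map (Ideal.Quotient.mk p)) (A ⧸ p)).surjOn
      (show IsIdempotentElem (Ideal.quotEquivOfEq (Ideal.map_id _).symm (ψ.symm e)) from he'.map _)
    rcases IsIdempotentElem.iff_eq_zero_or_one.mp hf with rfl | rfl
    · left
      rw [map_zero] at hfe
      exact ψ.symm.map_eq_zero_iff.mp ((Ideal.quotEquivOfEq _).map_eq_zero_iff.mp hfe.symm)
    · right
      rw [map_one] at hfe
      exact ψ.symm.map_eq_one_iff.mp ((Ideal.quotEquivOfEq _).map_eq_one_iff.mp hfe.symm)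
  have hne : Nonempty (PrimeSpectrum (A ⧸ p ⊔ I)) := inferInstance
  refine { toNonempty := hne, isPreconnected_univ := ?_ }
  have : PreconnectedSpace (PrimeSpectrum (A ⧸ p ⊔ I)) := by
    rw [preconnectedSpace_iff_clopen]
    intro s hs
    obtain ⟨e, he, rfl⟩ := PrimeSpectrum.exists_idempotent_basicOpen_eq_of_isClopen hs
    rcases key e he with rfl | rfl
    · left; simp
    · right; simp
  exact this.isPreconnected_univ

end Groth.Agent.S0530
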