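import Groth.Statements.S0531
import Groth.Agent.Lib.H4Hensel


set_option autoImplicit false
universe u
open Hensel

namespace Groth.Agent.S0531

/-- Every ring has a largest ideal at which it is Henselian. -/
theorem result (A : Type u) [CommRing A] :
    ∃ I : Ideal A, HenselianRing A I ∧ ∀ J : Ideal A, HenselianRing A J → J ≤ I := by
  let S : Set (Ideal A) := {I | HenselianRing A I}
  have hne : S.Nonempty := ⟨⊥, H4Hensel.of_locally_nilpotent ⊥ fun x hx => by simp [(Submodule.mem_bot A).mp hx]⟩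
  have hdir : DirectedOn (· ≤ ·) S := fun a (ha : HenselianRing A a) b (hb : HenselianRing A b) =>
    ⟨a ⊔ b, H4Hensel.sup (I := a) (J := b), le_sup_left, le_sup_right⟩
  refine ⟨sSup S, ⟨sSup_le fun I hI => hI.jac, fun f hf a₀ h1 h2 => ?_⟩, fun J hJ => le_sSup hJ⟩
  obtain ⟨I, hI, hI'⟩ := (Submodule.mem_sSup_of_directed hne hdir).mp h1
  have hu := H4Hensel.isUnit_of_isUnit_mk (sSup_le fun I (hI : HenselianRing A I) => hI.jac) h2
  obtain ⟨a, ha, ha'⟩ := hI.is_henselian f hf a₀ hI' (hu.map _)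
  exact ⟨a, ha, le_sSup hI ha'⟩

end Groth.Agent.S0531
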