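import Groth.Statements.S0535
import Mathlib
import Groth.Agent.Lib.H4HenselPair


set_option autoImplicit false
universe u
open Hensel

namespace Groth.Agent.S0535

/-- If `R` is Henselian at `I` and two finitely generated projective `R`-modules become isomorphic after
base change to `R/I`, then they are isomorphic. -/
theorem result (R : Type u) [CommRing R] (I : Ideal R)
    [HenselianRing R I] (P₁ P₂ : Type u) [AddCommGroup P₁] [Module R P₁] [AddCommGroup P₂]
    [Module R P₂] [Module.Finite R P₁] [Module.Projective R P₁] [Module.Finite R P₂]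
    [Module.Projective R P₂]
    (e : TensorProduct R (R ⧸ I) P₁ ≃ₗ[R ⧸ I] TensorProduct R (R ⧸ I) P₂) :
    Nonempty (P₁ ≃ₗ[R] P₂) := by
  let inc : ∀ (P : Type u) [AddCommGroup P] [Module R P], P →ₗ[R] TensorProduct R (R ⧸ I) P :=
    fun P _ _ => TensorProduct.mk R (R ⧸ I) P 1
  have hsurj : ∀ (P : Type u) [AddCommGroup P] [Module R P] (z : TensorProduct R (R ⧸ I) P),
      ∃ x : P, inc P x = z := by
    intro P _ _ z
    induction z with
    | zero => exact ⟨0, map_zero _⟩
    | tmul k x =>
      obtain ⟨r, rfl⟩ := Ideal.Quotient.mk_surjective k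
      refine ⟨r • x, ?_⟩
      show (1 : R ⧸ I) ⊗ₜ[R] (r • x) = _
      rw [← TensorProduct.smul_tmul, Algebra.smul_def, mul_one]; rfl
    | add a b ha hb =>
      obtain ⟨x, rfl⟩ := ha
      obtain ⟨y, rfl⟩ := hb
      exact ⟨x + y, map_add _ _ _⟩
  have hker : ∀ (P : Type u) [AddCommGroup P] [Module R P] (x : P), inc P x = 0 →
      x ∈ I • (⊤ : Submodule R P) := by
    intro P _ _ x hx
    have := congrArg (TensorProduct.quotTensorEquivQuotSMul P I) hx
    rwa [show inc P x = (1 : R ⧸ I) ⊗ₜ[R] x from rfl,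
      TensorProduct.quotTensorEquivQuotSMul_mk_one_tmul, map_zero,
      Submodule.Quotient.mk_eq_zero] at this
  have hker' : ∀ (P : Type u) [AddCommGroup P] [Module R P] (x : P),
      x ∈ I • (⊤ : Submodule R P) → inc P x = 0 := by
    intro P _ _ x hx
    refine Submodule.smul_induction_on hx (fun r hr y _ => ?_) ?_
    · show (1 : R ⧸ I) ⊗ₜ[R] (r • y) = 0
      rw [← TensorProduct.smul_tmul, Algebra.smul_def, mul_one, Ideal.Quotient.algebraMap_eq,
        Ideal.Quotient.eq_zero_iff_mem.mpr hr, TensorProduct.zero_tmul]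
    · intro a b ha hb; rw [map_add, ha, hb, add_zero]
  obtain ⟨φ, hφ⟩ := Module.projective_lifting_property (inc P₂)
    ((e.toLinearMap.restrictScalars R).comp (inc P₁)) (hsurj P₂)
  have hφ' : ∀ x, inc P₂ (φ x) = e (inc P₁ x) := fun x => LinearMap.congr_fun hφ x
  have hjac : I ≤ Ideal.jacobson ⊥ := HenselianRing.jac
  have hφs : LinearMap.range φ = ⊤ := by
    refine top_le_iff.mp (Submodule.le_of_le_smul_of_le_jacobson_bot Module.Finite.fg_top hjac ?_)
    intro y _
    obtain ⟨x, hx⟩ := hsurj P₁ (e.symm (inc P₂ y))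
    have h0 : y - φ x ∈ I • (⊤ : Submodule R P₂) := hker P₂ _ (by
      rw [map_sub, hφ', hx, LinearEquiv.apply_symm_apply, sub_self])
    have : y = φ x + (y - φ x) := by abel
    rw [this]
    exact Submodule.add_mem_sup ⟨x, rfl⟩ h0
  obtain ⟨ψ, hψ⟩ := φ.exists_rightInverse_of_surjective hφs
  let K : Submodule R P₁ := LinearMap.ker φ
  let c : P₁ →ₗ[R] P₁ := LinearMap.id - ψ.comp φ
  have hc : LinearMap.range c = K := by
    refine le_antisymm ?_ fun x (hx : φ x = 0) => ⟨x, by simp [c, hx]⟩
    rintro _ ⟨x, rfl⟩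
    show φ _ = 0
    have h1 : φ (ψ (φ x)) = φ x := LinearMap.congr_fun hψ (φ x)
    simp [c, h1]
  have hK : K = ⊥ := by
    refine eq_bot_iff.mpr (Submodule.le_of_le_smul_of_le_jacobson_bot ?_ hjac ?_)
    · rw [← hc, LinearMap.range_eq_map]; exact Module.Finite.fg_top.map _
    · intro x hx
      refine Submodule.mem_sup_right ?_
      have hx0 : φ x = 0 := hx
      have h1 : inc P₁ x = 0 := e.injective (by rw [← hφ', hx0, map_zero, map_zero])
      have h2 := Submodule.mem_map_of_mem (f := c) (hker P₁ x h1)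
      rw [Submodule.map_smul'', Submodule.map_top, hc] at h2
      simpa [c, hx0] using h2
  exact ⟨LinearEquiv.ofBijective φ ⟨LinearMap.ker_eq_bot.mp hK, LinearMap.range_eq_top.mp hφs⟩⟩

end Groth.Agent.S0535
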