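import Groth.Statements.S0544
import Mathlib
import Groth.Agent.Lib.CompleteNoetherian

set_option autoImplicit false
universe u
open Pointwise
open CAlg

namespace Groth.Agent.S0544

/-- Let `R` be complete with respect to an ideal `I` and `M` an `R`-module which is `I`-adically
separated and such that `M/IM` is finitely generated. Then `M` is a finitely generated `R`-module. -/
theorem result (R : Type u) [CommRing R]
    (I : Ideal R) [IsAdicComplete I R] (M : Type u) [AddCommGroup M] [Module R M] [IsHausdorff I M]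
    (h : Module.Finite R (M ⧸ (I • ⊤ : Submodule R M))) : Module.Finite R M := by
  classical
  obtain ⟨n, g, hg⟩ := Module.Finite.exists_fin (R := R) (M := M ⧸ (I • ⊤ : Submodule R M))
  choose m hm using fun j => Submodule.mkQ_surjective (I • ⊤ : Submodule R M) (g j)
  have dec : ∀ y : M, ∃ r : Fin n → R, y - ∑ j, r j • m j ∈ (I • ⊤ : Submodule R M) := by
    intro y
    have hy : Submodule.mkQ (I • ⊤ : Submodule R M) y ∈ Submodule.span R (Set.range g) := hg ▸ trivial
    obtain ⟨r, hr⟩ := (Submodule.mem_span_range_iff_exists_fun R).mp hy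
    refine ⟨r, ?_⟩
    rw [← Submodule.Quotient.mk_eq_zero, ← Submodule.mkQ_apply, map_sub, map_sum, ← hr, sub_eq_zero]
    exact Finset.sum_congr rfl fun j _ => by rw [map_smul, hm]
  have step : ∀ k, ∀ x ∈ (I ^ k • ⊤ : Submodule R M), ∃ c : Fin n → R, (∀ j, c j ∈ I ^ k) ∧
      x - ∑ j, c j • m j ∈ (I ^ (k + 1) • ⊤ : Submodule R M) := by
    intro k x hx
    refine Submodule.smul_induction_on hx (fun a ha y _ => ?_) (fun x y hx hy => ?_)
    · obtain ⟨r, hr⟩ := dec y
      refine ⟨fun j => a * r j, fun j => Ideal.mul_mem_right _ _ ha, ?_⟩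
      rw [pow_succ, Submodule.mul_smul]
      have := Submodule.smul_mem_smul ha hr
      simpa [smul_sub, Finset.smul_sum, smul_smul] using this
    · obtain ⟨c, hc, hcx⟩ := hx
      obtain ⟨e, he, hey⟩ := hy
      refine ⟨c + e, fun j => add_mem (hc j) (he j), ?_⟩
      have := add_mem hcx hey
      simpa [add_smul, Finset.sum_add_distrib, add_sub_add_comm] using this
  choose c hc hcx using step
  refine ⟨⟨(Finset.univ : Finset (Fin n)).image m, ?_⟩⟩
  rw [eq_top_iff, Finset.coe_image, Finset.coe_univ, Set.image_univ]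
  intro x _
  let stp : (k : ℕ) → {p : (Fin n → R) // x - ∑ j, p j • m j ∈ (I ^ k • ⊤ : Submodule R M)} := fun k =>
    Nat.rec ⟨0, by simp⟩ (fun k p => ⟨p.1 + c k _ p.2, by
      have := hcx k _ p.2
      simpa [add_smul, Finset.sum_add_distrib, sub_sub] using this⟩) k
  have hmono : ∀ j a b, a ≤ b → (stp b).1 j - (stp a).1 j ∈ I ^ a := by
    intro j a b hab
    induction b, hab using Nat.le_induction with
    | base => simp
    | succ b hab ih =>
      rw [show (stp (b + 1)).1 j = (stp b).1 j + c b _ (stp b).2 j from rfl, add_sub_right_comm]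
      exact add_mem ih (Ideal.pow_le_pow_right hab (hc b _ _ j))
  have hlim : ∀ j, ∃ L, ∀ k, (stp k).1 j - L ∈ I ^ k := by
    intro j
    obtain ⟨L, hL⟩ := IsPrecomplete.prec (I := I) (inferInstance : IsPrecomplete I R)
      (f := fun k => (stp k).1 j) (by
        intro a b hab
        rw [SModEq.sub_mem, smul_eq_mul, Ideal.mul_top, ← neg_mem_iff, neg_sub]
        exact hmono j a b hab)
    exact ⟨L, fun k => by simpa [SModEq.sub_mem] using hL k⟩
  choose L hL using hlim
  have hz : x - ∑ j, L j • m j = 0 := by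
    refine IsHausdorff.haus (I := I) inferInstance _ fun k => ?_
    rw [SModEq.zero]
    have h1 : ∑ j, ((stp k).1 j - L j) • m j ∈ (I ^ k • ⊤ : Submodule R M) :=
      Submodule.sum_mem _ fun j _ => Submodule.smul_mem_smul (hL j k) trivial
    have := add_mem (stp k).2 h1
    simpa [sub_smul, Finset.sum_sub_distrib] using this
  rw [sub_eq_zero] at hz
  rw [hz]
  exact Submodule.sum_mem _ fun j _ => Submodule.smul_mem _ _ (Submodule.subset_span ⟨j, rfl⟩)

end Groth.Agent.S0544
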