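import Groth.Statements.S0545
import Mathlib
import Groth.Agent.Lib.CompletionQuotients
import Groth.Agent.Lib.CompletenessChange

set_option autoImplicit false
universe u
open Pointwise
open Groth.Agent.CompletenessChange
open CAlg

namespace Groth.Agent.S0545

/-- For a Noetherian ring `A` with two ideals `I` and `J`, completeness of `A` along `I` together with
completeness of the quotient `A/I` along the image of `J` forces completeness of `A` along `J`. -/
theorem result (A : Type u) [CommRing A] [IsNoetherianRing A]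
    (I J : Ideal A) [IsAdicComplete I A]
    [IsAdicComplete (Ideal.map (Ideal.Quotient.mk I) J) (A ⧸ I)] : IsAdicComplete J A := by
  have htop : ∀ (K : Ideal A) (n : ℕ), (K ^ n • ⊤ : Submodule A A) = (K ^ n : Submodule A A) := fun K n => by
    rw [smul_eq_mul, Ideal.mul_top]
  have h0 : IsHausdorff J A := IsHausdorff.of_le_jacobson (I := J) (M := A) (le_jacobson I J)
  refine { toIsHausdorff := h0, toIsPrecomplete := ⟨fun x hx => ?_⟩ }
  have hx' : ∀ {m n}, m ≤ n → x m - x n ∈ J ^ m := fun h => by
    have := SModEq.sub_mem.mp (hx h)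
    rwa [htop] at this
  choose! F hF1 hF2 using step I J x hx'
  let Yk : ℕ → A := fun k => Nat.rec 0 (fun k Y => F k Y) k
  have hYk : ∀ k n, x n - Yk k ∈ J ^ n ⊔ I ^ k := by
    intro k
    induction k with
    | zero => intro n; rw [pow_zero, Ideal.one_eq_top]; exact Submodule.mem_sup_right trivial
    | succ k ih => exact hF2 k (Yk k) ih
  obtain ⟨L, hL⟩ := series_limit I (fun k => Yk (k + 1) - Yk k) fun k => by
    rw [htop]; exact hF1 k (Yk k) (hYk k)
  refine ⟨L, fun n => ?_⟩
  rw [SModEq.sub_mem, htop]
  have hk : ∀ k, x n - L ∈ J ^ n ⊔ I ^ k := fun k => by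
    have h1 := hL k
    rw [htop, Finset.sum_range_sub Yk, show Yk 0 = 0 from rfl, sub_zero] at h1
    have := add_mem (hYk k n) (Submodule.mem_sup_right h1 : Yk k - L ∈ J ^ n ⊔ I ^ k)
    rwa [sub_add_sub_cancel] at this
  haveI : IsHausdorff I (A ⧸ (J ^ n : Submodule A A)) :=
    IsHausdorff.of_le_jacobson (I := I) (M := A ⧸ (J ^ n : Submodule A A)) (IsAdicComplete.le_jacobson_bot I)
  rw [← Submodule.Quotient.mk_eq_zero]
  refine IsHausdorff.haus' (I := I) _ fun k => ?_
  rw [SModEq.zero]
  obtain ⟨p, hp, q, hq, hpq⟩ := Submodule.mem_sup.mp (hk k)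
  rw [← hpq, Submodule.Quotient.mk_add, (Submodule.Quotient.mk_eq_zero _).mpr hp, zero_add,
    show q = q • (1 : A) from (mul_one q).symm, Submodule.Quotient.mk_smul]
  exact Submodule.smul_mem_smul hq trivial

end Groth.Agent.S0545
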