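import Groth.Statements.S0546
import Mathlib
import Groth.Agent.Lib.CompletionQuotients
import Groth.Agent.Lib.CompletenessChange

set_option autoImplicit false
universe u
open Pointwise
open Groth.Agent.CompletenessChange
open CAlg

namespace Groth.Agent.S0546

/-- If `I ≤ J` are ideals with `I` finitely generated and `M` is `J`-adically complete, then `M` is
`I`-adically complete. -/
theorem result (A : Type u) [CommRing A] (I J : Ideal A) (hIJ : I ≤ J)
    (hI : I.FG) (M : Type u) [AddCommGroup M] [Module A M] [IsAdicComplete J M] :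
    IsAdicComplete I M := by
  have h0 : IsHausdorff I M := ⟨fun x hx => IsHausdorff.haus' (I := J) x fun n => (hx n).mono
    (Submodule.smul_mono_left (Ideal.pow_right_mono hIJ n))⟩
  refine { toIsHausdorff := h0, toIsPrecomplete := ⟨fun f hf => ?_⟩ }
  obtain ⟨L, hL⟩ := IsPrecomplete.prec' (I := J) f (fun {m n} h => (hf h).mono
    (Submodule.smul_mono_left (Ideal.pow_right_mono hIJ m)))
  refine ⟨L, fun n => ?_⟩
  rw [SModEq.sub_mem]
  obtain ⟨g, e, he⟩ := Submodule.fg_iff_exists_fin_generating_family.mp (Submodule.FG.pow hI n)
  choose y hy hye using fun m => exists_combination e (I ^ m • ⊤ : Submodule A M)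
    (x := f (n + m) - f (n + m + 1)) (by
      rw [show Ideal.span (Set.range e) = I ^ n from he, ← mul_smul, ← pow_add]
      exact SModEq.sub_mem.mp (hf (Nat.le_succ _)))
  choose Y hY using fun i => series_limit J (fun m => y m i)
    (fun m => Submodule.smul_mono_left (Ideal.pow_right_mono hIJ m) (hy m i))
  have htel : ∀ N, f n - f (n + N) = ∑ i, e i • ∑ m ∈ Finset.range N, y m i := by
    intro N
    induction N with
    | zero => simp
    | succ N ih =>
      simp only [Finset.sum_range_succ, smul_add, Finset.sum_add_distrib, ← hye, ← ih]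
      rw [← Nat.add_assoc]; abel
  have key : f n - L - ∑ i, e i • Y i = 0 := by
    refine IsHausdorff.haus' (I := J) _ fun N => ?_
    rw [SModEq.zero]
    have h1 : f n - L - ∑ i, e i • Y i = (f (n + N) - L) +
        ∑ i, e i • ((∑ m ∈ Finset.range N, y m i) - Y i) := by
      simp only [smul_sub, Finset.sum_sub_distrib, ← htel]; abel
    rw [h1]
    exact add_mem (Submodule.smul_mono_left (Ideal.pow_le_pow_right (Nat.le_add_left N n))
      (SModEq.sub_mem.mp (hL (n + N)))) (Submodule.sum_mem _ fun i _ => Submodule.smul_mem _ _ (hY i N))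
  rw [sub_eq_zero.mp key]
  exact Submodule.sum_mem _ fun i _ => Submodule.smul_mem_smul
    ((show Ideal.span (Set.range e) = I ^ n from he) ▸ Ideal.subset_span (Set.mem_range_self i)) trivial

end Groth.Agent.S0546
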