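import Groth.Statements.S0552
import Mathlib
import Groth.Prelude.Def_Found
import Groth.Agent.Lib.Catenary

set_option autoImplicit false
universe u
open Groth.Agent.Catenary
open CAlg

namespace Groth.Agent.S0552

/-- A ring is catenary exactly when its localization at every maximal ideal is catenary. -/
theorem result (R : Type u) [CommRing R] :
    CAlg.IsCatenary R ↔ ∀ (m : Ideal R) [m.IsMaximal], CAlg.IsCatenary (Localization.AtPrime m) := by
  constructor
  · intro h m _
    refine catenary_of_embedding (comapLoc m.primeCompl (Localization.AtPrime m)) (fun a b y _ h2 => ?_) h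
    rw [mem_range_comapLoc]
    exact ((mem_range_comapLoc _ _ _).mp ⟨b, rfl⟩).mono_right h2
  · intro h
    refine catenary_of_cover fun p q _ => ?_
    obtain ⟨m, hm, hle⟩ := Ideal.exists_le_maximal q.asIdeal q.2.ne_top
    refine ⟨Localization.AtPrime m, inferInstance, comapLoc m.primeCompl _, h m, fun y _ hy => ?_⟩
    rw [mem_range_comapLoc]
    exact Set.disjoint_left.mpr fun x hx hx' => hx (hle (hy hx'))

end Groth.Agent.S0552
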