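import Groth.Statements.S0553
import Mathlib
import Groth.Prelude.Def_Found
import Groth.Prelude.Def_CAlg
import Groth.Agent.Lib.Catenary
import Groth.Agent.Lib.H2DepthLocal
import Groth.Agent.Lib.UnivCatenary

set_option autoImplicit false
universe u
open Groth.Agent.Catenary
open Groth.Agent.UnivCatenary
open CAlg

namespace Groth.Agent.S0553

/-- A Noetherian ring is universally catenary exactly when its localization at every maximal ideal is
universally catenary. -/
theorem result (R : Type u) [CommRing R]
    [IsNoetherianRing R] :
    CAlg.IsUniversallyCatenary R ↔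
      ∀ (m : Ideal R) [m.IsMaximal], CAlg.IsUniversallyCatenary (Localization.AtPrime m) := by
  constructor
  · intro h m _
    haveI : Algebra.EssFiniteType R (Localization.AtPrime m) := Algebra.EssFiniteType.of_isLocalization _ m.primeCompl
    exact univCat_of_essFiniteType h
  · intro h
    refine ⟨inferInstance, fun S _ _ hS => ?_⟩
    haveI := hS
    refine catenary_of_cover fun P Q _ => ?_
    obtain ⟨m, hm, hle⟩ := Ideal.exists_le_maximal (Q.asIdeal.comap (algebraMap R S)) (Q.2.comap _).ne_top
    let A := Localization.AtPrime m
    let M := Algebra.algebraMapSubmonoid S m.primeCompl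
    let S' := Localization M
    haveI : Algebra.FiniteType A S' := by
      obtain ⟨G, hG⟩ := Algebra.FiniteType.out (R := R) (A := S)
      classical
      refine ⟨⟨G.image (algebraMap S S'), ?_⟩⟩
      rw [eq_top_iff]
      rintro x -
      obtain ⟨⟨s, ⟨_, t, ht, rfl⟩⟩, hx⟩ := IsLocalization.surj M x
      have hs : ∀ z : S, algebraMap S S' z ∈ Algebra.adjoin A ((G.image (algebraMap S S') : Finset S') : Set S') := by
        intro z
        have hmem : z ∈ Algebra.adjoin R (G : Set S) := hG ▸ Algebra.mem_top
        clear hx
        induction hmem using Algebra.adjoin_induction with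
        | mem g hg => exact Algebra.subset_adjoin (Finset.mem_image_of_mem _ hg)
        | algebraMap r =>
          rw [← IsScalarTower.algebraMap_apply R S S', IsScalarTower.algebraMap_apply R A S']
          exact Subalgebra.algebraMap_mem _ _
        | add a b _ _ ha hb => rw [map_add]; exact add_mem ha hb
        | mul a b _ _ ha hb => rw [map_mul]; exact mul_mem ha hb
      obtain ⟨u, hu⟩ := IsLocalization.map_units A (⟨t, ht⟩ : m.primeCompl)
      have hx' : x * algebraMap A S' u = algebraMap S S' s := by
        rw [hu, ← IsScalarTower.algebraMap_apply R A S', IsScalarTower.algebraMap_apply R S S']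
        exact hx
      have : x = algebraMap A S' (↑u⁻¹ : A) * algebraMap S S' s := by
        rw [← hx', mul_comm x, ← mul_assoc, ← map_mul, Units.inv_mul, map_one, one_mul]
      rw [this]
      exact mul_mem (Subalgebra.algebraMap_mem _ _) (hs s)
    refine ⟨S', inferInstance, comapLoc M S', (h m).2 S' inferInstance, fun y _ hy => ?_⟩
    rw [mem_range_comapLoc]
    refine Set.disjoint_left.mpr ?_
    rintro _ ⟨r, hr, rfl⟩ hry
    exact hr (hle (hy hry))

end Groth.Agent.S0553
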