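import Groth.Statements.S0556
import Groth.Agent.Lib.H6.DVRDom
import Mathlib

set_option autoImplicit false
universe u
open Module Groth.Agent.H6.DVRDom
open CAlg

namespace Groth.Agent.S0556

/-- Any domain `A` sandwiched between a one-dimensional Noetherian domain `R` and a field `L` of finite
degree over the fraction field of `R` is itself Noetherian. -/
theorem result (R : Type u) [CommRing R]
    [IsDomain R] [IsNoetherianRing R] (hdim : ringKrullDim R = 1) (K L : Type u) [Field K] [Field L]
    [Algebra R K] [IsFractionRing R K] [Algebra K L] [FiniteDimensional K L] [Algebra R L]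
    [IsScalarTower R K L] (A : Type u) [CommRing A] [Algebra R A] [Algebra A L]
    [IsScalarTower R A L] (hA : Function.Injective (algebraMap A L)) :
    IsNoetherianRing A := by
  classical
  haveI : IsDomain A := hA.isDomain
  haveI : Ring.KrullDimLE 1 R := Ring.krullDimLE_iff.mpr (le_of_eq hdim)
  let α := algebraMap A L
  have hinjL : Function.Injective (algebraMap R L) := by
    rw [IsScalarTower.algebraMap_eq R K L]
    exact (algebraMap K L).injective.comp (IsFractionRing.injective R K)
  have hinj : Function.Injective (algebraMap R A) := fun x y h => hinjL (by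
    rw [IsScalarTower.algebraMap_apply R A L, h, ← IsScalarTower.algebraMap_apply R A L])
  -- every nonzero element divides an element of `R`
  have hdiv : ∀ v : A, v ≠ 0 → ∃ c : R, c ≠ 0 ∧ v ∣ algebraMap R A c := by
    intro v hv
    have halg : IsAlgebraic R (α v) := by
      have := IsFractionRing.isAlgebraic_iff R K L (x := (α v))
      exact this.2 (Algebra.IsAlgebraic.isAlgebraic _)
    have hv' : (α v) ∈ nonZeroDivisors L := mem_nonZeroDivisors_of_ne_zero fun h => hv (hA (h.trans (map_zero _).symm))
    obtain ⟨p, hp0, hp⟩ := halg.exists_nonzero_coeff_and_aeval_eq_zero hv'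
    refine ⟨p.coeff 0, hp0, -(Polynomial.aeval v p.divX), hA ?_⟩
    have h1 : (α v) * Polynomial.aeval (α v) p.divX + algebraMap R L (p.coeff 0) = 0 := by
      have := congrArg (Polynomial.aeval (α v)) (Polynomial.X_mul_divX_add p)
      simp only [map_add, map_mul, Polynomial.aeval_X, Polynomial.aeval_C] at this
      rw [this, hp]
    show α (algebraMap R A (p.coeff 0)) = α (v * -(Polynomial.aeval v p.divX))
    have h2 : α (Polynomial.aeval v p.divX) = Polynomial.aeval (α v) p.divX :=
      (Polynomial.aeval_algebraMap_apply L v p.divX).symm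
    simp only [map_mul, map_neg, h2, α, ← IsScalarTower.algebraMap_apply R A L]
    linear_combination h1
  obtain ⟨n, β⟩ : ∃ n, Nonempty (Module.Basis (Fin n) K L) := ⟨_, ⟨Module.finBasis K L⟩⟩
  refine (isNoetherianRing_iff_ideal_fg _).2 fun I => ?_
  by_cases hI : I = ⊥
  · rw [hI]; exact Submodule.fg_bot
  obtain ⟨v, hvI, hv⟩ := Submodule.exists_mem_ne_zero_of_ne_bot hI
  obtain ⟨c, hc, hcv⟩ := hdiv v hv
  let J : Ideal A := Ideal.span {algebraMap R A c}
  have hJI : J ≤ I := by
    rw [Ideal.span_le]
    rintro _ rfl
    exact I.mem_of_dvd hcv hvI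
  haveI : IsNoetherian R (A ⧸ J) := by
    refine isFiniteLength_of_forall_fg (n * Ring.ord R c)
      (WithTop.mul_ne_top (ENat.coe_ne_top n) (Ring.ord_ne_top (mem_nonZeroDivisors_of_ne_zero hc))) fun P hP => ?_
    obtain ⟨s, rfl⟩ := hP
    choose lift hlift using fun y : A ⧸ J => Ideal.Quotient.mk_surjective y
    let M : Submodule R A := Submodule.span R (insert (algebraMap R A c) (lift '' (s : Set (A ⧸ J))))
    haveI : Module.Finite R M := Module.Finite.iff_fg.2
      (Submodule.fg_span ((s.finite_toSet.image lift).insert _))
    have hci : Function.Injective fun m : M => c • m := fun x y h => by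
      have h' : algebraMap R A c * (x : A) = algebraMap R A c * (y : A) := by
        simpa [Algebra.smul_def] using congrArg Subtype.val h
      exact Subtype.ext (mul_left_cancel₀ (fun h0 => hc (hinj (h0.trans (map_zero _).symm))) h')
    have hrank : ∃ b : Fin n → M, ∀ m : M, ∃ d : R, d ≠ 0 ∧ d • m ∈ Submodule.span R (Set.range b) := by
      let ι : M → L := fun m => α (m : A)
      obtain ⟨b, hbsub, hbspan, hbind⟩ := exists_linearIndependent K (Set.range ι)
      have hfin : b.Finite := hbind.setFinite
      haveI := hfin.fintype
      have hcard : Fintype.card b ≤ n := by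
        simpa [Module.finrank_eq_card_basis β.some] using hbind.fintype_card_le_finrank
      choose g hg using fun y : b => hbsub y.2
      let bb : Fin n → M := fun i =>
        if h : (i : ℕ) < Fintype.card b then g ((Fintype.equivFin b).symm ⟨i, h⟩) else 0
      have hgmem : ∀ y : b, g y ∈ Set.range bb := fun y =>
        ⟨⟨Fintype.equivFin b y, lt_of_lt_of_le (Fintype.equivFin b y).2 hcard⟩, by
          show (if h : _ then _ else _) = g y
          rw [dif_pos (Fintype.equivFin b y).2]
          simp⟩
      refine ⟨bb, fun m => ?_⟩
      have hm : ι m ∈ Submodule.span K b := hbspan ▸ Submodule.subset_span ⟨m, rfl⟩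
      have hm' : ι m ∈ Submodule.span K (Set.range fun y : b => (y : L)) := by simpa using hm
      obtain ⟨k, hk⟩ := Submodule.mem_span_range_iff_exists_fun K |>.1 hm'
      obtain ⟨d, hd⟩ := IsLocalization.exist_integer_multiples_of_finite (nonZeroDivisors R) k
      choose r hr using hd
      refine ⟨d, nonZeroDivisors.coe_ne_zero d, ?_⟩
      have : (d : R) • m = ∑ y, r y • g y := by
        apply Subtype.val_injective
        apply hA
        show α (((d : R) • m : M) : A) = α _
        simp only [SetLike.val_smul, Submodule.coe_sum, map_sum]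
        have e1 : ∀ (t : R) (x : A), α (t • x) = algebraMap R L t * α x := fun t x => by
          rw [Algebra.smul_def, map_mul, IsScalarTower.algebraMap_apply R A L]
        simp only [e1]
        rw [show α (m : A) = ι m from rfl, ← hk, Finset.mul_sum]
        refine Finset.sum_congr rfl fun y _ => ?_
        rw [show α (g y : A) = (y : L) from hg y, Algebra.smul_def, ← mul_assoc]
        congr 1
        rw [IsScalarTower.algebraMap_apply R K L, IsScalarTower.algebraMap_apply R K L (r y), ← map_mul, hr,
          Algebra.smul_def]
      rw [this]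
      exact Submodule.sum_mem _ fun y _ => Submodule.smul_mem _ _ (Submodule.subset_span (hgmem y))
    obtain ⟨bb, hbb⟩ := hrank
    let q : M →ₗ[R] A ⧸ J := (Ideal.Quotient.mkₐ R J).toLinearMap ∘ₗ M.subtype
    have hq : LinearMap.range (LinearMap.lsmul R M c) ≤ LinearMap.ker q := by
      rintro _ ⟨m, rfl⟩
      refine Ideal.Quotient.eq_zero_iff_mem.2 ?_
      show ((c • m : M) : A) ∈ J
      rw [Submodule.coe_smul, Algebra.smul_def]
      exact Ideal.mul_mem_right _ _ (Ideal.mem_span_singleton_self _)
    have hrange : Submodule.span R (s : Set (A ⧸ J)) ≤ LinearMap.range ((LinearMap.range (LinearMap.lsmul R M c)).liftQ q hq) := by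
      rw [Submodule.span_le]
      intro y hy
      exact ⟨Submodule.Quotient.mk ⟨lift y, Submodule.subset_span (Or.inr ⟨y, hy, rfl⟩)⟩, hlift y⟩
    exact ((Module.length_le_of_injective _ (Submodule.inclusion_injective hrange)).trans
      (Module.length_le_of_surjective _ (LinearMap.surjective_rangeRestrict _))).trans
        (length_quotient_smul_le hc hci bb hbb)
  haveI : IsNoetherian A (A ⧸ J) := isNoetherian_of_tower R inferInstance
  have h1 : (I.map (Ideal.Quotient.mk J)).FG := by
    haveI : IsNoetherianRing (A ⧸ J) := isNoetherian_of_tower A inferInstance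
    exact IsNoetherian.noetherian _
  refine Submodule.fg_of_fg_map_of_fg_inf_ker (Submodule.mkQ J) ?_ ?_
  · exact IsNoetherian.noetherian _
  · rw [Submodule.ker_mkQ, inf_eq_right.2 hJI]
    exact ⟨{algebraMap R A c}, by simp [J]⟩

end Groth.Agent.S0556
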