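import Groth.Statements.S0560
import Mathlib
import Groth.Agent.Lib.RegularLocalBasic

set_option autoImplicit false
universe u
open IsLocalRing Groth.Agent
open CAlg

namespace Groth.Agent.S0560

/-- Regularity of a Noetherian local ring can be checked after dividing out one nonzerodivisor lying in
the maximal ideal: if that quotient is a regular local ring, so is the original ring. -/
theorem result (R : Type u) [CommRing R] [IsLocalRing R]
    [IsNoetherianRing R] (x : R) (hx : x ∈ IsLocalRing.maximalIdeal R) (hreg : x ∈ nonZeroDivisors R)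
    [IsRegularLocalRing (R ⧸ Ideal.span ({x} : Set R))] : IsRegularLocalRing R := by
  have hq := RegLocal.dim_eq (R := R ⧸ Ideal.span {x})
  have hd := ringKrullDim_quotient_span_singleton_succ_eq_ringKrullDim_of_mem_nonZeroDivisors hreg hx
  refine IsRegularLocalRing.of_spanFinrank_maximalIdeal_le R ?_
  rw [← hd, hq, ← Nat.cast_one (R := WithBot ℕ∞), ← Nat.cast_add, Nat.cast_le]
  classical
  let π := Ideal.Quotient.mk (Ideal.span {x})
  have hfg := (maximalIdeal (R ⧸ Ideal.span {x})).fg_of_isNoetherianRing
  obtain ⟨g, hg⟩ : ∃ g : Finset (R ⧸ Ideal.span {x}), g.card = (maximalIdeal (R ⧸ Ideal.span {x})).spanFinrank ∧ Ideal.span (g : Set (R ⧸ Ideal.span {x})) = maximalIdeal _ := by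
    refine ⟨(Submodule.FG.finite_generators hfg).toFinset, ?_, ?_⟩
    · rw [← Set.ncard_eq_toFinset_card _ (Submodule.FG.finite_generators hfg), Submodule.FG.generators_ncard hfg]
    · rw [Set.Finite.coe_toFinset]; exact Submodule.span_generators _
  let l : Finset R := g.image (Function.surjInv Ideal.Quotient.mk_surjective)
  have himg : π '' (l : Set R) = g := by
    simp only [l, Finset.coe_image, ← Set.image_comp]
    convert Set.image_id _
    funext z
    exact Function.surjInv_eq Ideal.Quotient.mk_surjective z
  have hm : maximalIdeal R = Ideal.span ((insert x l : Finset R) : Set R) := by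
    have h1 : (maximalIdeal R).map π = Ideal.span (g : Set (R ⧸ Ideal.span {x})) := by
      rw [hg.2]; exact RegLocal.map_maximalIdeal_quotient
    rw [Finset.coe_insert, Set.insert_eq, Ideal.span_union]
    have h2 := congrArg (Ideal.comap π) (h1.trans ((congrArg Ideal.span himg.symm).trans (Ideal.map_span π _).symm))
    rw [Ideal.comap_map_of_surjective' π Ideal.Quotient.mk_surjective, Ideal.comap_map_of_surjective' π Ideal.Quotient.mk_surjective, Ideal.mk_ker] at h2
    rw [sup_eq_left.mpr (by rw [Ideal.span_le]; simpa using hx)] at h2
    rw [h2, sup_comm]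
  rw [hm]
  refine (Submodule.spanFinrank_span_le_ncard_of_finite (Finset.finite_toSet _)).trans ?_
  rw [Set.ncard_coe_finset, ← hg.1]
  exact (Finset.card_insert_le _ _).trans (Nat.add_le_add_right Finset.card_image_le 1)

end Groth.Agent.S0560
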