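import Groth.Statements.S0561
import Mathlib
import Groth.Agent.Lib.RegularLocalBasic

set_option autoImplicit false
universe u
open IsLocalRing Groth.Agent
open CAlg

namespace Groth.Agent.S0561

/-- Let `R` be a regular local ring of dimension `d` and `I` an ideal with `R/I` a regular local ring.
Then there are elements `x₁, …, x_d` generating the maximal ideal such that `I` is generated by `x₁,
…, x_c` for some `c ≤ d`. -/
theorem result (R : Type u) [CommRing R]
    [IsRegularLocalRing R] (d : ℕ) (hd : ringKrullDim R = d) (I : Ideal R)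
    [IsRegularLocalRing (R ⧸ I)] :
    ∃ (x : Fin d → R) (c : ℕ) (hc : c ≤ d), Ideal.span (Set.range x) = IsLocalRing.maximalIdeal R ∧
      I = Ideal.span (Set.range (fun i : Fin c => x (Fin.castLE hc i))) := by
  classical
  rw [RegLocal.dim_eq] at hd; norm_cast at hd
  have hne : I ≠ ⊤ := fun h => by
    have : Nontrivial (R ⧸ I) := inferInstance
    exact Ideal.Quotient.nontrivial_iff.mp this h
  have hI : I ≤ maximalIdeal R := le_maximalIdeal hne
  let T : Set (CotangentSpace R) := {v | ∃ (y : R) (hy : y ∈ I), (maximalIdeal R).toCotangent ⟨y, hI hy⟩ = v}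
  obtain ⟨B, hBT, hBspan, hBli⟩ := exists_linearIndependent (ResidueField R) T
  have : Fintype B := hBli.setFinite.fintype
  choose f hfI hf using fun v : B => hBT v.2
  have hli : LinearIndependent (ResidueField R) (fun v : B => (maximalIdeal R).toCotangent ⟨f v, hI (hfI v)⟩) := by
    simp only [hf]; exact hBli
  obtain ⟨hinj, t, hspan, hcard⟩ := RegLocal.exists_complement f (fun v => hI (hfI v)) hli
  have hA : Ideal.span (Set.range f) ≤ I := Ideal.span_le.mpr (Set.range_subset_iff.mpr hfI)
  let a : Finset R := Finset.univ.image f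
  have ha : (a : Set R) = Set.range f := by simp [a]
  have hac : a.card = Fintype.card B := Finset.card_image_of_injective _ hinj
  obtain ⟨hQ, hQdim, -⟩ := RegLocal.quotient_span a t (by rw [ha]; exact hspan) (by omega)
  have : IsDomain (R ⧸ Ideal.span (a : Set R)) := RegLocal.isDomain
  have hIsq : I ≤ Ideal.span (Set.range f) ⊔ maximalIdeal R ^ 2 := by
    intro y hy
    have hv : (maximalIdeal R).toCotangent ⟨y, hI hy⟩ ∈ Submodule.span (ResidueField R) B :=
      hBspan ▸ Submodule.subset_span ⟨y, hy, rfl⟩
    have hv' : (maximalIdeal R).toCotangent ⟨y, hI hy⟩ ∈ Submodule.map (maximalIdeal R).toCotangent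
        (Submodule.comap (maximalIdeal R).subtype (Ideal.span (Set.range f))) := by
      rw [← Submodule.restrictScalars_mem R, Submodule.restrictScalars_span R (ResidueField R) Ideal.Quotient.mk_surjective] at hv
      refine Submodule.span_le.mpr ?_ hv
      intro v hv
      exact ⟨⟨f ⟨v, hv⟩, hI (hfI _)⟩, Ideal.subset_span ⟨_, rfl⟩, hf ⟨v, hv⟩⟩
    obtain ⟨z, hz, hzy⟩ := hv'
    rw [Ideal.toCotangent_eq] at hzy
    have := Submodule.add_mem_sup (S := Ideal.span (Set.range f)) hz (neg_mem hzy)
    simpa using this
  -- dimension of `R ⧸ I`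
  have he : (t.card : WithBot ℕ∞) ≤ ringKrullDim (R ⧸ I) := by
    rw [RegLocal.dim_eq (R := R ⧸ I), Nat.cast_le]
    have hfg := (maximalIdeal (R ⧸ I)).fg_of_isNoetherianRing
    let g := Submodule.generators (maximalIdeal (R ⧸ I))
    have hg : g.Finite := Submodule.FG.finite_generators hfg
    let l : Finset R := hg.toFinset.image (Function.surjInv Ideal.Quotient.mk_surjective)
    have hl : (maximalIdeal R) ≤ Ideal.span (Set.range f ∪ (l : Set R)) ⊔ maximalIdeal R ^ 2 := by
      have h1 : (maximalIdeal R).map (Ideal.Quotient.mk I) ≤ (Ideal.span (l : Set R)).map (Ideal.Quotient.mk I) := by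
        rw [RegLocal.map_maximalIdeal_quotient, Ideal.map_span, ← Submodule.span_generators (maximalIdeal (R ⧸ I))]
        refine Submodule.span_mono fun z hz => ⟨Function.surjInv Ideal.Quotient.mk_surjective z, ?_, Function.surjInv_eq _ z⟩
        simp only [l, Finset.coe_image]
        exact ⟨z, hg.mem_toFinset.mpr hz, rfl⟩
      rw [Ideal.map_le_iff_le_comap, Ideal.comap_map_of_surjective' _ Ideal.Quotient.mk_surjective, Ideal.mk_ker] at h1
      refine h1.trans (sup_le ?_ (hIsq.trans ?_))
      · exact le_sup_of_le_left (Ideal.span_mono Set.subset_union_right)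
      · exact sup_le_sup_right (Ideal.span_mono Set.subset_union_left) _
    have hm : maximalIdeal R ≤ Ideal.span (Set.range f ∪ (l : Set R)) :=
      Submodule.le_of_le_smul_of_le_jacobson_bot (maximalIdeal R).fg_of_isNoetherianRing (maximalIdeal_le_jacobson _)
        (by rw [smul_eq_mul, ← pow_two]; exact hl)
    have hl' : Ideal.span (Set.range f ∪ (l : Set R)) = maximalIdeal R := by
      refine le_antisymm (Ideal.span_le.mpr (Set.union_subset (fun z ⟨v, hv⟩ => hv ▸ hI (hfI v)) ?_)) hm
      intro z hz
      simp only [l, Finset.coe_image] at hz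
      obtain ⟨w, hw, rfl⟩ := hz
      have hw' : w ∈ maximalIdeal (R ⧸ I) := by
        rw [← Submodule.span_generators (maximalIdeal (R ⧸ I))]
        exact Submodule.subset_span (hg.mem_toFinset.mp hw)
      show Function.surjInv Ideal.Quotient.mk_surjective w ∈ maximalIdeal R
      rw [← Function.surjInv_eq (f := Ideal.Quotient.mk I) Ideal.Quotient.mk_surjective w, ← Ideal.mem_comap,
        ← RegLocal.map_maximalIdeal_quotient, Ideal.comap_map_of_surjective' _ Ideal.Quotient.mk_surjective, Ideal.mk_ker,
        sup_eq_left.mpr hI] at hw'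
      exact hw'
    have h2 : (maximalIdeal R).spanFinrank ≤ a.card + l.card := by
      rw [← hl', ← ha, ← Finset.coe_union]
      refine (Submodule.spanFinrank_span_le_ncard_of_finite (Finset.finite_toSet _)).trans ?_
      rw [Set.ncard_coe_finset]; exact Finset.card_union_le _ _
    have h3 : l.card ≤ (maximalIdeal (R ⧸ I)).spanFinrank := by
      refine Finset.card_image_le.trans ?_
      rw [← Set.ncard_eq_toFinset_card _ hg, Submodule.FG.generators_ncard hfg]
    omega
  have hAI : I = Ideal.span (a : Set R) := by
    refine le_antisymm ?_ (ha ▸ hA)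
    by_contra hlt
    obtain ⟨y, hy, hy'⟩ := SetLike.not_le_iff_exists.mp hlt
    have := ringKrullDim_succ_le_of_surjective (Ideal.Quotient.factor (ha ▸ hA))
      (Ideal.Quotient.factor_surjective _) (r := Ideal.Quotient.mk _ y)
      (mem_nonZeroDivisors_of_ne_zero (fun h => hy' (Ideal.Quotient.eq_zero_iff_mem.mp h))) (by simpa [Ideal.Quotient.eq_zero_iff_mem] using hy)
    rw [hQdim] at this
    have h4 := (add_le_add he (le_refl (1 : WithBot ℕ∞))).trans this
    norm_cast at h4; omega
  let eB := Fintype.equivFin B
  let et := t.equivFin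
  let x : Fin d → R := fun i => Sum.elim f (fun z : t => (z : R))
    ((Sum.map eB.symm et.symm) (finSumFinEquiv.symm (Fin.cast (show d = Fintype.card B + t.card by omega) i)))
  refine ⟨x, Fintype.card B, by omega, ?_, ?_⟩
  · rw [← hspan]; congr 1
    have : Set.range x = Set.range (Sum.elim f (fun z : t => (z : R))) :=
      Function.Surjective.range_comp (g := Sum.elim f (fun z : t => (z : R)))
        (f := fun i : Fin d => (Sum.map eB.symm et.symm) (finSumFinEquiv.symm (Fin.cast (show d = Fintype.card B + t.card by omega) i)))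
        ((Sum.map_surjective.mpr ⟨eB.symm.surjective, et.symm.surjective⟩).comp (finSumFinEquiv.symm.surjective.comp (finCongr (show d = Fintype.card B + t.card by omega)).surjective))
    rw [this, Set.Sum.elim_range]; simp
  · rw [hAI, ha]; congr 1
    rw [← eB.symm.surjective.range_comp f]
    congr 1; funext i
    simp only [x, Function.comp_apply]
    have : Fin.cast (by omega) (Fin.castLE (by omega : Fintype.card B ≤ d) i) = Fin.castAdd t.card i := rfl
    rw [this, finSumFinEquiv_symm_apply_castAdd]; simp

end Groth.Agent.S0561
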