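import Groth.Statements.S0571
import Mathlib
import Groth.Prelude.Def_Found
import Groth.Agent.Lib.JapaneseBasic
import Groth.Agent.S9391
import Groth.Agent.Lib.N1Local

set_option autoImplicit false
universe u
open Groth.Agent.JapaneseBasic
open Groth.Agent.N1Local
open CAlg

namespace Groth.Agent.S0571

/-- A Noetherian domain `R` is N-1 exactly when (a) `R_f` is integrally closed for some nonzero `f`, and
(b) the localization of `R` at every maximal ideal is N-1. -/
theorem result (R : Type u) [CommRing R] [IsDomain R]
    [IsNoetherianRing R] :
    CAlg.IsN1 R ↔ ((∃ f : R, f ≠ 0 ∧ IsIntegrallyClosed (Localization.Away f)) ∧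
      ∀ (m : Ideal R) [m.IsMaximal], CAlg.IsN1 (Localization.AtPrime m)) := by
  let K := FractionRing R
  have hinjK := IsFractionRing.injective R K
  constructor
  · intro h
    refine ⟨?_, fun m _ => ?_⟩
    · obtain ⟨G, hG⟩ := h.fg_top
      classical
      obtain ⟨d, hd⟩ := IsLocalization.exist_integer_multiples_of_finset (nonZeroDivisors R) (G.image Subtype.val)
      have hd0 : (d : R) ≠ 0 := nonZeroDivisors.coe_ne_zero d
      have hB : ∀ x : integralClosure R K, ∃ a : R, algebraMap R K a = (d : R) • (x : K) := by
        intro x
        have hx : x ∈ Submodule.span R (G : Set (integralClosure R K)) := hG ▸ Submodule.mem_top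
        induction hx using Submodule.span_induction with
        | mem y hy => exact hd _ (Finset.mem_image_of_mem _ hy)
        | zero => exact ⟨0, by simp⟩
        | add y z _ _ hy hz =>
          obtain ⟨a, ha⟩ := hy; obtain ⟨b, hb⟩ := hz
          exact ⟨a + b, by rw [map_add, ha, hb, AddMemClass.coe_add, smul_add]⟩
        | smul c y _ hy =>
          obtain ⟨a, ha⟩ := hy
          exact ⟨c * a, by rw [map_mul, ha, SetLike.val_smul, smul_comm, Algebra.smul_def c]⟩
      refine ⟨d, hd0, ?_⟩
      let A := Localization.Away (d : R)
      have hM : Submonoid.powers (d : R) ≤ nonZeroDivisors R := powers_le_nonZeroDivisors_of_noZeroDivisors hd0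
      haveI : IsDomain A := IsLocalization.isDomain_localization hM
      letI : Algebra A K := (IsLocalization.lift (M := Submonoid.powers (d : R)) (S := A) (g := algebraMap R K)
        (fun y => IsLocalization.map_units K ⟨y.1, hM y.2⟩)).toAlgebra
      haveI : IsScalarTower R A K := IsScalarTower.of_algebraMap_eq' (IsLocalization.lift_comp _).symm
      haveI : IsFractionRing A K := IsFractionRing.isFractionRing_of_isDomain_of_isLocalization (Submonoid.powers (d : R)) A K
      refine (isIntegrallyClosed_iff K).mpr fun {x} hx => ?_
      obtain ⟨m, hm⟩ := IsIntegral.exists_multiple_integral_of_isLocalization (Submonoid.powers (d : R)) x hx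
      obtain ⟨a, ha⟩ := hB ⟨m • x, hm⟩
      obtain ⟨u, hu⟩ := IsLocalization.map_units A (⟨(d : R) * m, mul_mem (Submonoid.mem_powers _) m.2⟩ : Submonoid.powers (d : R))
      refine ⟨(↑u⁻¹ : A) * algebraMap R A a, ?_⟩
      have hux : algebraMap A K u * x = algebraMap R K a := by
        rw [hu, ← IsScalarTower.algebraMap_apply R A K, ha, ← Algebra.smul_def, mul_smul]
        rfl
      rw [map_mul, ← IsScalarTower.algebraMap_apply R A K, ← hux, ← mul_assoc, ← map_mul, Units.inv_mul, map_one, one_mul]
    · exact Groth.Agent.S9391.result R m.primeCompl (Localization.AtPrime m) h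
  · rintro ⟨⟨f, hf, hnorm⟩, hloc⟩
    let B := integralClosure R K
    refine finite_of_local (B := B) f ?_ ((Algebra.linearMap R B).range) ?_ ?_ ?_
    · intro x y hxy
      refine Subtype.ext (mul_left_cancel₀ ((map_ne_zero_iff _ hinjK).mpr hf) ?_)
      have := congrArg Subtype.val hxy
      simpa [Algebra.smul_def] using this
    · exact Module.Finite.iff_fg.mp inferInstance
    · intro x
      let A := Localization.Away f
      have hM : Submonoid.powers f ≤ nonZeroDivisors R := powers_le_nonZeroDivisors_of_noZeroDivisors hf
      haveI : IsDomain A := IsLocalization.isDomain_localization hM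
      letI : Algebra A K := (IsLocalization.lift (M := Submonoid.powers f) (S := A) (g := algebraMap R K)
        (fun y => IsLocalization.map_units K ⟨y.1, hM y.2⟩)).toAlgebra
      haveI : IsScalarTower R A K := IsScalarTower.of_algebraMap_eq' (IsLocalization.lift_comp _).symm
      haveI : IsFractionRing A K := IsFractionRing.isFractionRing_of_isDomain_of_isLocalization (Submonoid.powers f) A K
      haveI := hnorm
      obtain ⟨z, hz⟩ := (IsIntegrallyClosed.algebraMap_eq_of_integral (R := A) (show IsIntegral A (x : K) from (show IsIntegral R (x : K) from x.2).tower_top))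
      obtain ⟨⟨a, ⟨_, k, rfl⟩⟩, hza⟩ := IsLocalization.surj (Submonoid.powers f) z
      refine ⟨k, a, Subtype.ext ?_⟩
      have := congrArg (algebraMap A K) hza
      rw [map_mul, hz, ← IsScalarTower.algebraMap_apply R A K, ← IsScalarTower.algebraMap_apply R A K] at this
      show algebraMap R K a = f ^ k • (x : K)
      rw [Algebra.smul_def, ← this, mul_comm]
    · intro m _
      haveI : IsDomain (Localization.AtPrime m) := IsLocalization.isDomain_localization (Ideal.primeCompl_le_nonZeroDivisors m)
      exact local_generators K m.primeCompl (Ideal.primeCompl_le_nonZeroDivisors m) (Localization.AtPrime m) (hloc m)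

end Groth.Agent.S0571
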