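import Groth.Statements.S0572
import Mathlib

set_option autoImplicit false
universe u
open CAlg

namespace Groth.Agent.S0572

section aux
variable {R : Type u} [CommRing R] [IsDomain R] (M : Submonoid R) (hM : M ≤ nonZeroDivisors R)
  (A : Type u) [CommRing A] [Algebra R A] [IsLocalization M A]

include hM

theorem exists_mul_mem (hA : IsIntegrallyClosed A) (x : FractionRing R) (hx : IsIntegral R x) :
    ∃ s ∈ M, ∃ r : R, algebraMap R (FractionRing R) s * x = algebraMap R (FractionRing R) r := by
  haveI : IsDomain A := IsLocalization.isDomain_of_le_nonZeroDivisors A hM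
  letI : Algebra A (FractionRing R) := (IsLocalization.lift (M := M) (g := algebraMap R (FractionRing R))
    fun y => IsLocalization.map_units (FractionRing R) ⟨y.1, hM y.2⟩).toAlgebra
  haveI : IsScalarTower R A (FractionRing R) := IsScalarTower.of_algebraMap_eq fun r => (IsLocalization.lift_eq _ r).symm
  haveI : IsFractionRing A (FractionRing R) := IsFractionRing.isFractionRing_of_isDomain_of_isLocalization M A (FractionRing R)
  obtain ⟨y, rfl⟩ := (isIntegrallyClosed_iff (FractionRing R)).mp hA hx.tower_top
  obtain ⟨⟨r, s⟩, hrs⟩ := IsLocalization.surj M y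
  refine ⟨s, s.2, r, ?_⟩
  rw [IsScalarTower.algebraMap_apply R A (FractionRing R), IsScalarTower.algebraMap_apply R A (FractionRing R) r, ← map_mul,
    mul_comm, hrs]

theorem isIntegrallyClosed_of_exists_mul_mem
    (h : ∀ x : FractionRing R, IsIntegral R x → ∃ s ∈ M, ∃ r : R,
      algebraMap R (FractionRing R) s * x = algebraMap R (FractionRing R) r) : IsIntegrallyClosed A := by
  haveI : IsDomain A := IsLocalization.isDomain_of_le_nonZeroDivisors A hM
  letI : Algebra A (FractionRing R) := (IsLocalization.lift (M := M) (g := algebraMap R (FractionRing R))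
    fun y => IsLocalization.map_units (FractionRing R) ⟨y.1, hM y.2⟩).toAlgebra
  haveI : IsScalarTower R A (FractionRing R) := IsScalarTower.of_algebraMap_eq fun r => (IsLocalization.lift_eq _ r).symm
  haveI : IsFractionRing A (FractionRing R) := IsFractionRing.isFractionRing_of_isDomain_of_isLocalization M A (FractionRing R)
  refine (isIntegrallyClosed_iff (FractionRing R)).mpr fun {x} hx => ?_
  obtain ⟨m, hm⟩ := IsIntegral.exists_multiple_integral_of_isLocalization M (Rₘ := A) x hx
  obtain ⟨s, hs, r, hr⟩ := h _ hm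
  refine ⟨IsLocalization.mk' A r (⟨s, hs⟩ * m), ?_⟩
  have h2 : algebraMap R (FractionRing R) (((⟨s, hs⟩ : M) * m : M) : R) * x = algebraMap R (FractionRing R) r := by
    rw [← hr, Submonoid.smul_def, Algebra.smul_def, Submonoid.coe_mul, map_mul, mul_assoc]
  have hu : IsUnit (algebraMap R (FractionRing R) (((⟨s, hs⟩ : M) * m : M) : R)) :=
    IsLocalization.map_units (FractionRing R) ⟨_, hM ((⟨s, hs⟩ : M) * m).2⟩
  refine hu.mul_left_cancel ?_
  rw [h2, IsScalarTower.algebraMap_apply R A (FractionRing R), IsScalarTower.algebraMap_apply R A (FractionRing R) r, ← map_mul,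
    mul_comm, IsLocalization.mk'_spec]

end aux

theorem ass_pow {R : Type u} [CommRing R] [IsDomain R] {f : R} (hf : f ≠ 0) : ∀ n : ℕ,
    associatedPrimes R (R ⧸ Ideal.span {f ^ n}) ⊆ associatedPrimes R (R ⧸ Ideal.span {f}) := by
  intro n
  induction n with
  | zero =>
    intro q hq
    haveI : Subsingleton (R ⧸ Ideal.span {f ^ 0}) := by
      rw [pow_zero, Ideal.span_singleton_one]; exact Submodule.Quotient.subsingleton_iff.mpr rfl
    exact absurd hq not_isAssociatedPrime_of_subsingleton
  | succ n ih =>
    let g : (R ⧸ Ideal.span {f ^ n}) →ₗ[R] R ⧸ Ideal.span {f ^ (n + 1)} :=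
      Submodule.mapQ _ _ (LinearMap.mulLeft R f) fun z hz => by
        obtain ⟨c, rfl⟩ := Ideal.mem_span_singleton'.mp hz
        exact Ideal.mem_span_singleton'.mpr ⟨c, by show c * f ^ (n + 1) = f * (c * f ^ n); ring⟩
    let g' : (R ⧸ Ideal.span {f ^ (n + 1)}) →ₗ[R] R ⧸ Ideal.span {f} :=
      Submodule.mapQ _ _ LinearMap.id fun z hz => by
        obtain ⟨c, rfl⟩ := Ideal.mem_span_singleton'.mp hz
        exact Ideal.mem_span_singleton'.mpr ⟨c * f ^ n, by show c * f ^ n * f = c * f ^ (n + 1); ring⟩
    have hg : Function.Injective g := (injective_iff_map_eq_zero g).mpr fun z hz => by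
      obtain ⟨z, rfl⟩ := Submodule.Quotient.mk_surjective _ z
      obtain ⟨c, hc⟩ := Ideal.mem_span_singleton'.mp ((Submodule.Quotient.mk_eq_zero _).mp hz)
      refine (Submodule.Quotient.mk_eq_zero _).mpr (Ideal.mem_span_singleton'.mpr ⟨c, mul_left_cancel₀ hf ?_⟩)
      simp only [LinearMap.mulLeft_apply] at hc
      linear_combination hc
    have hex : Function.Exact g g' := fun z => by
      obtain ⟨z, rfl⟩ := Submodule.Quotient.mk_surjective _ z
      constructor
      · intro hz
        obtain ⟨c, hc⟩ := Ideal.mem_span_singleton'.mp ((Submodule.Quotient.mk_eq_zero _).mp hz)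
        exact ⟨Submodule.Quotient.mk c, congrArg Submodule.Quotient.mk (show f * c = z by rw [mul_comm]; exact hc)⟩
      · rintro ⟨w, hw⟩
        obtain ⟨w, rfl⟩ := Submodule.Quotient.mk_surjective _ w
        rw [← hw]
        exact (Submodule.Quotient.mk_eq_zero _).mpr (Ideal.mem_span_singleton'.mpr ⟨w, mul_comm _ _⟩)
    exact (associatedPrimes.subset_union_of_exact hg hex).trans (Set.union_subset ih subset_rfl)


/-- Let `R` be a Noetherian domain such that `R_f` is integrally closed for some nonzero `f`. Then the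
set of primes `p` with `R_p` integrally closed is open in `Spec R`. -/
theorem result (R : Type u) [CommRing R] [IsDomain R] [IsNoetherianRing R] (f : R)
    (hf : f ≠ 0) (hn : IsIntegrallyClosed (Localization.Away f)) :
    IsOpen {p : PrimeSpectrum R | IsIntegrallyClosed (Localization.AtPrime p.asIdeal)} := by
  classical
  let S : Set (Ideal R) := {q | q ∈ associatedPrimes R (R ⧸ Ideal.span {f}) ∧
    ∃ _ : q.IsPrime, ¬ IsIntegrallyClosed (Localization.AtPrime q)}
  have hfin : S.Finite := (associatedPrimes.finite R (R ⧸ Ideal.span {f})).subset fun q hq => hq.1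
  suffices {p : PrimeSpectrum R | IsIntegrallyClosed (Localization.AtPrime p.asIdeal)} =
      ⋂ q ∈ S, (PrimeSpectrum.zeroLocus (q : Set R))ᶜ by
    rw [this]
    exact hfin.isOpen_biInter fun q _ => (PrimeSpectrum.isClosed_zeroLocus _).isOpen_compl
  ext p
  simp only [Set.mem_ofPred_eq, Set.mem_iInter, Set.mem_compl_iff, PrimeSpectrum.mem_zeroLocus, SetLike.coe_subset_coe]
  constructor
  · rintro hp q ⟨-, hqp, hq⟩ hle
    refine hq ?_
    refine isIntegrallyClosed_of_exists_mul_mem q.primeCompl q.primeCompl_le_nonZeroDivisors _ fun x hx => ?_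
    obtain ⟨s, hs, r, hr⟩ := exists_mul_mem p.asIdeal.primeCompl p.asIdeal.primeCompl_le_nonZeroDivisors _ hp x hx
    exact ⟨s, fun h => hs (hle h), r, hr⟩
  · intro hp
    refine isIntegrallyClosed_of_exists_mul_mem p.asIdeal.primeCompl p.asIdeal.primeCompl_le_nonZeroDivisors _ fun x hx => ?_
    obtain ⟨_, ⟨n, rfl⟩, a, ha⟩ := exists_mul_mem (Submonoid.powers f) (powers_le_nonZeroDivisors_of_noZeroDivisors hf) _ hn x hx
    have hiff : ∀ s r : R, algebraMap R (FractionRing R) s * x = algebraMap R (FractionRing R) r ↔ s * a = f ^ n * r := by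
      intro s r
      constructor
      · intro h
        apply IsFractionRing.injective R (FractionRing R)
        rw [map_mul, map_mul, ← ha, ← h]; ring
      · intro h
        have hne : algebraMap R (FractionRing R) (f ^ n) ≠ 0 :=
          fun e => pow_ne_zero n hf (IsFractionRing.injective R (FractionRing R) (e.trans (map_zero _).symm))
        apply mul_left_cancel₀ hne
        rw [← map_mul, ← h, map_mul, ← ha]; ring
    let J : Ideal R := (⊥ : Submodule R (R ⧸ Ideal.span {f ^ n})).colon {Ideal.Quotient.mk (Ideal.span {f ^ n}) a}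
    have hJ : ∀ s, s ∈ J ↔ s * a ∈ Ideal.span {f ^ n} := fun s => by
      rw [Submodule.mem_colon_singleton, Submodule.mem_bot]
      exact Ideal.Quotient.eq_zero_iff_mem (a := s * a)
    have hfinish : ∀ s ∈ J, ∃ r, algebraMap R (FractionRing R) s * x = algebraMap R (FractionRing R) r := fun s hs => by
      obtain ⟨r, hr⟩ := Ideal.mem_span_singleton'.mp ((hJ s).mp hs)
      exact ⟨r, (hiff s r).mpr (by rw [← hr]; ring)⟩
    by_cases hJp : J ≤ p.asIdeal
    swap
    · obtain ⟨s, hs, hsp⟩ := SetLike.not_le_iff_exists.mp hJp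
      exact ⟨s, hsp, hfinish s hs⟩
    exfalso
    obtain ⟨q, hq, hqp⟩ := Ideal.exists_minimalPrimes_le hJp
    haveI : q.IsPrime := hq.1.1
    have hann : Module.annihilator R (R ⧸ J) = J := Ideal.annihilator_quotient
    have hq1 : q ∈ associatedPrimes R (R ⧸ J) :=
      Module.associatedPrimes.minimalPrimes_annihilator_subset_associatedPrimes R (R ⧸ J) (by rw [hann]; exact hq)
    let g : (R ⧸ J) →ₗ[R] R ⧸ Ideal.span {f ^ n} :=
      J.liftQ (LinearMap.toSpanSingleton R _ (Ideal.Quotient.mk (Ideal.span {f ^ n}) a)) fun s hs => by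
        rw [LinearMap.mem_ker, LinearMap.toSpanSingleton_apply]
        exact (Submodule.mem_bot R).mp (Submodule.mem_colon_singleton.mp hs)
    have hg : Function.Injective g := (injective_iff_map_eq_zero g).mpr fun z hz => by
      obtain ⟨z, rfl⟩ := Submodule.Quotient.mk_surjective _ z
      exact (Submodule.Quotient.mk_eq_zero _).mpr (Submodule.mem_colon_singleton.mpr ((Submodule.mem_bot R).mpr hz))
    have hqA := ass_pow hf n (associatedPrimes.subset_of_injective hg hq1)
    have hqn : IsIntegrallyClosed (Localization.AtPrime q) := by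
      by_contra hc
      exact hp q ⟨hqA, inferInstance, hc⟩ hqp
    obtain ⟨s, hs, r, hr⟩ := exists_mul_mem q.primeCompl q.primeCompl_le_nonZeroDivisors _ hqn x hx
    exact hs (hq.1.2 ((hJ s).mpr (Ideal.mem_span_singleton'.mpr ⟨r, by rw [(hiff s r).mp hr, mul_comm]⟩)))

end Groth.Agent.S0572
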