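import Groth.Statements.S0574
import Mathlib
import Groth.Prelude.Def_Found
import Groth.Agent.Lib.JapaneseBasic

set_option autoImplicit false
universe u
open Groth.Agent.JapaneseBasic
open CAlg

namespace Groth.Agent.S0574

/-- For Noetherian domains of characteristic zero the conditions N-1 and N-2 coincide. -/
theorem result (R : Type u) [CommRing R] [IsDomain R] [IsNoetherianRing R]
    [CharZero R] : CAlg.IsN1 R ↔ CAlg.IsN2 R := by
  constructor
  · intro h L _ _ _ _ hfin
    haveI := hfin
    let K := FractionRing R
    let B := integralClosure R K
    haveI : Module.Finite R B := h
    haveI : IsFractionRing B K := IsIntegralClosure.isFractionRing_of_finite_extension R K K B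
    haveI : IsIntegrallyClosed B := integralClosure.isIntegrallyClosedOfFiniteExtension K
    haveI : IsNoetherianRing B := IsNoetherianRing.of_finite R B
    haveI : CharZero K := charZero_of_injective_algebraMap (IsFractionRing.injective R K)
    haveI : Algebra.IsAlgebraic K L := Algebra.IsAlgebraic.of_finite K L
    haveI : Algebra.IsSeparable K L := inferInstance
    haveI : IsScalarTower B K L := IsScalarTower.of_algebraMap_eq' rfl
    haveI : IsScalarTower R B L := IsScalarTower.of_algebraMap_eq' (RingHom.ext fun r =>
      IsScalarTower.algebraMap_apply R K L r)
    haveI : Module.Finite B (integralClosure B L) := IsIntegralClosure.finite B K L (integralClosure B L)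
    have hBfg : ((integralClosure B L).toSubmodule).FG := Module.Finite.iff_fg.mp ‹Module.Finite B (integralClosure B L)›
    have hfg := Submodule.FG.restrictScalars (R := R) hBfg
    have heq : ((integralClosure B L).toSubmodule).restrictScalars R = (integralClosure R L).toSubmodule := by
      ext x
      exact ⟨fun hx => isIntegral_trans x hx, fun hx => (show IsIntegral R x from hx).tower_top⟩
    rw [heq] at hfg
    exact Module.Finite.iff_fg.mpr hfg
  · intro h
    exact h (FractionRing R) inferInstance

end Groth.Agent.S0574
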