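import Groth.Statements.S0578
import Mathlib
import Groth.Agent.Lib.ResidueExtensionMain
import Groth.Agent.Lib.CompletionFlat
import Groth.Prelude.Def_Found
import Groth.Agent.Lib.CohenRing

set_option autoImplicit false
universe u
open Groth.Agent.CohenRing
open CAlg

namespace Groth.Agent.S0578

/-- For every prime `p` and every field `k` of characteristic `p` there is a Cohen ring (a complete
discrete valuation ring with uniformizer `p`) whose residue field is isomorphic to `k`. -/
theorem result (p : ℕ) [Fact p.Prime] (k : Type u) [Field k] [CharP k p] :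
    ∃ (Λ : Type u) (_ : CommRing Λ) (_ : IsLocalRing Λ), CAlg.IsCohenRing Λ ∧
      Nonempty (IsLocalRing.ResidueField Λ ≃+* k) := by
  let Z := ULift.{u} ℤ
  let e : Z ≃+* ℤ := ULift.ringEquiv
  haveI : IsDomain Z := e.toMulEquiv.isDomain ℤ
  let c : Z →+* k := (Int.castRingHom k).comp e.toRingHom
  have hker : RingHom.ker c = Ideal.span {(p : Z)} := by
    ext x
    rw [RingHom.mem_ker, Ideal.mem_span_singleton]
    show ((e x : ℤ) : k) = 0 ↔ _
    rw [CharP.intCast_eq_zero_iff k p]
    rw [← map_dvd_iff e, map_natCast]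
  haveI : (RingHom.ker c).IsPrime := RingHom.ker_isPrime c
  let R := Localization.AtPrime (RingHom.ker c)
  obtain ⟨χ, hχ, hkχ⟩ := Groth.Agent.ResExt.ringHom_maximal_lift c
  haveI : IsLocalHom χ := ⟨fun a ha => by
    by_contra h
    rw [← mem_nonunits_iff, ← IsLocalRing.mem_maximalIdeal, ← hkχ, RingHom.mem_ker] at h
    exact ha.ne_zero h⟩
  letI : Algebra (IsLocalRing.ResidueField R) k := (IsLocalRing.ResidueField.lift χ).toAlgebra
  obtain ⟨R', _, _, _, ρ, hflat, hm', hρ, hkρ, -⟩ := Groth.Agent.ResExt.exists_flat_local R k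
  haveI := hflat
  let I := IsLocalRing.maximalIdeal R'
  let L := AdicCompletion I R'
  haveI : IsNoetherianRing R := IsLocalization.isNoetherianRing (RingHom.ker c).primeCompl R
    (isNoetherianRing_of_ringEquiv ℤ e.symm)
  haveI := Groth.Agent.CplFlat.isNoetherianRing (R := R) hm'
  haveI := Groth.Agent.CplFlat.isLocalRing (R := R) hm'
  haveI hfl : Module.Flat R L := Groth.Agent.CplFlat.flat hm'
  have hfg := Groth.Agent.CplFlat.fg_maximal (R := R) hm'
  have hmR : IsLocalRing.maximalIdeal R = Ideal.span {(p : R)} := by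
    rw [← IsLocalization.AtPrime.map_eq_maximalIdeal (RingHom.ker c) R,
      show Ideal.map (algebraMap Z R) (RingHom.ker c) = Ideal.map (algebraMap Z R) (Ideal.span {(p : Z)}) from
        congrArg _ hker, Ideal.map_span, Set.image_singleton, map_natCast]
  have hmL : IsLocalRing.maximalIdeal L = Ideal.span {(p : L)} := by
    rw [← Groth.Agent.CplFlat.map_maximalIdeal (R := R) hm', hmR, Ideal.map_span, Set.image_singleton,
      map_natCast]
  haveI : IsAdicComplete (IsLocalRing.maximalIdeal L) L := by
    rw [AdicCompletion.maximalIdeal_eq_map_of_fg hfg]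
    exact (IsAdicComplete.map_algebraMap_iff _ _).mpr (AdicCompletion.isAdicComplete hfg)
  have hreg : ∀ x : L, (p : L) * x = 0 → x = 0 := by
    intro x hx
    have hpR : (p : R) ≠ 0 := fun h => by
      have h1 : algebraMap Z R (p : Z) = 0 := by rw [map_natCast]; exact h
      have h2 : (p : Z) = 0 := IsLocalization.injective (M := (RingHom.ker c).primeCompl) R (Ideal.primeCompl_le_nonZeroDivisors _)
        (h1.trans (map_zero _).symm)
      have h3 : (p : ℤ) = 0 := by
        have := congrArg e h2
        rwa [map_natCast, map_zero] at this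
      exact (Fact.out : p.Prime).ne_zero (by exact_mod_cast h3)
    haveI : IsDomain R := IsLocalization.isDomain_of_le_nonZeroDivisors (S := R) (M := (RingHom.ker c).primeCompl) (Ideal.primeCompl_le_nonZeroDivisors _)
    have := Module.Flat.isSMulRegular_of_isRegular (M := L) (IsRegular.of_ne_zero hpR)
    exact this (show (p : R) • x = (p : R) • (0 : L) by rw [smul_zero, Nat.cast_smul_eq_nsmul, nsmul_eq_mul, hx])
  refine ⟨L, inferInstance, inferInstance, cohen_of_dvr p Fact.out hmL hreg, ?_⟩
  let ρ' : (R' ⧸ I) →+* k := Ideal.Quotient.lift I ρ (fun a ha => by rwa [← RingHom.mem_ker, hkρ])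
  let φ : L →+* k := ρ'.comp (AdicCompletion.evalOneₐ I).toRingHom
  have hφ : Function.Surjective φ := fun y => by
    obtain ⟨r, rfl⟩ := hρ y
    obtain ⟨x, hx⟩ := AdicCompletion.evalOneₐ_surjective I (Ideal.Quotient.mk I r)
    exact ⟨x, by simp [φ, ρ', hx]⟩
  have hk : RingHom.ker φ = IsLocalRing.maximalIdeal L :=
    IsLocalRing.eq_maximalIdeal (RingHom.ker_isMaximal_of_surjective φ hφ)
  exact ⟨(Ideal.quotEquivOfEq hk.symm).trans (RingHom.quotientKerEquivOfSurjective hφ)⟩

end Groth.Agent.S0578
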