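import Groth.Statements.S0579
import Mathlib
import Groth.Agent.Lib.CoefficientField

set_option autoImplicit false
universe u
open Polynomial
open Groth.Agent.CoefficientField
open CAlg

namespace Groth.Agent.S0579

/-- A local ring which is complete with respect to its maximal ideal and whose residue field has
characteristic zero admits a coefficient field: there is a ring homomorphism from the residue field
to the ring which is a section of the residue map. -/
theorem result (R : Type u) [CommRing R] [IsLocalRing R]
    [IsAdicComplete (IsLocalRing.maximalIdeal R) R] [CharZero (IsLocalRing.ResidueField R)] :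
    ∃ s : IsLocalRing.ResidueField R →+* R, (IsLocalRing.residue R).comp s = RingHom.id _ := by
  obtain ⟨K, hK, hmax⟩ := exists_maximal (R := R)
  haveI : Nontrivial K := ⟨⟨0, 1, fun h => zero_ne_one (congrArg Subtype.val h)⟩⟩
  letI : Field K := IsField.toField
    { exists_pair_ne := exists_pair_ne K
      mul_comm := mul_comm
      mul_inv_cancel := fun {a} ha => by
        obtain ⟨y, hy, hxy⟩ := inv_mem hK hmax a.2 (fun h => ha (Subtype.ext h))
        exact ⟨⟨y, hy⟩, Subtype.ext hxy⟩ }
  letI : Algebra K (IsLocalRing.ResidueField R) := ((IsLocalRing.residue R).comp K.subtype).toAlgebra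
  haveI : CharZero K := charZero_of_injective_ringHom
    (R := ℤ) (f := Int.castRingHom K) (fun a b h => by
      have := congrArg (algebraMap K (IsLocalRing.ResidueField R)) h
      simpa using this)
  have hadj : ∀ (r : R), (∀ g : K[X], IsLocalRing.residue R (eval₂ K.subtype r g) = 0 → eval₂ K.subtype r g = 0) →
      r ∈ K := by
    intro r hr
    let K' : Subring R := (eval₂RingHom K.subtype r).range
    have hg : Good K' := by
      rintro _ ⟨g, rfl⟩ h
      exact hr g h
    exact hmax K' hg (fun z hz => ⟨C ⟨z, hz⟩, by simp⟩) ⟨X, by simp⟩
  have hres : ∀ (r : R) (g : K[X]), IsLocalRing.residue R (eval₂ K.subtype r g) =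
      aeval (IsLocalRing.residue R r) g := fun r g => by
    rw [hom_eval₂, aeval_def]
    rfl
  have hsurj : ∀ t, ∃ r : K, algebraMap K (IsLocalRing.ResidueField R) r = t := by
    intro t
    obtain ⟨a, rfl⟩ := IsLocalRing.residue_surjective t
    by_cases halg : IsAlgebraic K (IsLocalRing.residue R a)
    · have hint := halg.isIntegral
      let f := minpoly K (IsLocalRing.residue R a)
      have hm : (f.map K.subtype).Monic := (minpoly.monic hint).map _
      have h1 : (f.map K.subtype).eval a ∈ IsLocalRing.maximalIdeal R := by
        rw [← IsLocalRing.residue_eq_zero_iff, eval_map, hres]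
        exact minpoly.aeval _ _
      have h2 : IsUnit (Ideal.Quotient.mk (IsLocalRing.maximalIdeal R) ((f.map K.subtype).derivative.eval a)) := by
        refine isUnit_iff_ne_zero.mpr (?_ : IsLocalRing.residue R ((f.map K.subtype).derivative.eval a) ≠ 0)
        rw [derivative_map, eval_map, hres]
        exact (PerfectField.separable_of_irreducible (minpoly.irreducible hint)).aeval_derivative_ne_zero
          (minpoly.aeval _ _)
      obtain ⟨r, hr, hra⟩ := HenselianRing.is_henselian (f.map K.subtype) hm a h1 h2
      have hrr : IsLocalRing.residue R r = IsLocalRing.residue R a := Ideal.Quotient.eq.mpr hra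
      have hrK : r ∈ K := hadj r fun g hg => by
        rw [hres, hrr] at hg
        obtain ⟨q, rfl⟩ := minpoly.dvd K _ hg
        rw [eval₂_mul]
        rw [IsRoot.def, eval_map] at hr
        rw [hr, zero_mul]
      exact ⟨⟨r, hrK⟩, hrr⟩
    · have hrK : a ∈ K := hadj a fun g hg => by
        rw [hres] at hg
        rw [show g = 0 from by_contra fun h => halg ⟨g, h, hg⟩, eval₂_zero]
      exact ⟨⟨a, hrK⟩, rfl⟩
  let e : K ≃+* IsLocalRing.ResidueField R :=
    RingEquiv.ofBijective (algebraMap K _) ⟨(algebraMap K _).injective, hsurj⟩
  exact ⟨K.subtype.comp e.symm.toRingHom, RingHom.ext fun t => e.apply_symm_apply t⟩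

end Groth.Agent.S0579
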