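import Groth.Statements.S0580
import Groth.Prelude.Def_EGA41
import Groth.Prelude.Def_Found
import Mathlib
import Groth.Agent.S0578
import Groth.Agent.Lib.H2CohenLift

set_option autoImplicit false
universe u
open CAlg

namespace Groth.Agent.S0580
open IsLocalRing Groth.Agent.H2CohenLift
set_option backward.isDefEq.respectTransparency.types false

/-- A local ring complete with respect to a finitely generated maximal ideal is a quotient of a power
series ring in finitely many variables over a ring which is either a field or a Cohen ring. -/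
theorem result (R : Type u) [CommRing R]
    [IsLocalRing R] [IsAdicComplete (IsLocalRing.maximalIdeal R) R]
    (hfg : (IsLocalRing.maximalIdeal R).FG) :
    ∃ (Λ : Type u) (_ : CommRing Λ) (n : ℕ) (f : MvPowerSeries (Fin n) Λ →+* R),
      (IsField Λ ∨ CAlg.IsCohenRing Λ) ∧ Function.Surjective f := by
  have hJc : ∀ x, (∀ n, x ∈ maximalIdeal R ⊔ maximalIdeal R ^ (n + 1)) → x ∈ maximalIdeal R := fun x hx => by
    have h0 := hx 0
    rwa [zero_add, pow_one, sup_idem] at h0
  have main : ∀ (Λ : Type u) (_ : CommRing Λ) (g : Λ →+* R), Function.Surjective ((residue R).comp g) →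
      ∃ (n : ℕ) (f : MvPowerSeries (Fin n) Λ →+* R), Function.Surjective f := by
    intro Λ _ g hg
    letI := g.toAlgebra
    obtain ⟨s, hs⟩ := hfg
    let t : Fin s.card → R := fun i => (s.equivFin.symm i : R)
    have ht : ∀ i, t i ∈ maximalIdeal R := fun i => hs ▸ Submodule.subset_span (s.equivFin.symm i).2
    obtain ⟨φ, hφ, -⟩ := Groth.Agent.H2PowerSeries.exists_aeval (R := Λ) (maximalIdeal R) t ht
    refine ⟨s.card, φ.toRingHom, Groth.Agent.H2PowerSeries.surjective_of (maximalIdeal R) φ ?_ fun y => ?_⟩
    · refine Eq.trans ?_ hs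
      refine congrArg Ideal.span ?_
      ext y
      simp only [hφ, t]
      exact ⟨by rintro ⟨i, rfl⟩; exact (s.equivFin.symm i).2, fun hy => ⟨s.equivFin ⟨y, hy⟩, by simp⟩⟩
    · obtain ⟨z, rfl⟩ := Ideal.Quotient.mk_surjective y
      obtain ⟨r, hr⟩ := hg (residue R z)
      exact ⟨r, hr⟩
  let k := ResidueField R
  obtain ⟨p, hp⟩ := CharP.exists k
  rcases CharP.char_is_prime_or_zero k p with hprime | rfl
  · haveI := Fact.mk hprime
    obtain ⟨Λ, iΛ, iL, hΛ, ⟨e⟩⟩ := Groth.Agent.S0578.result p k
    obtain ⟨hd, hdvr, hcomp, q, hq, hm⟩ := hΛ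
    have hqR : (q : R) ∈ maximalIdeal R := by
      have h1 : (q : ResidueField Λ) = 0 := by
        rw [← map_natCast (residue Λ), residue_eq_zero_iff]
        exact hm.symm ▸ Ideal.mem_span_singleton_self _
      have h2 := congrArg e h1
      rw [map_natCast, map_zero, ← map_natCast (residue R), residue_eq_zero_iff] at h2
      exact h2
    haveI := hd
    haveI := hdvr
    obtain ⟨g, hg⟩ := exists_lift (hasLift_cohen Λ q hq hm) (maximalIdeal R) le_rfl hJc hqR (e.toRingHom.comp (residue Λ))
    obtain ⟨n, f, hf⟩ := main Λ iΛ g (by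
      rw [show (residue R).comp g = _ from hg]; exact e.surjective.comp residue_surjective)
    exact ⟨Λ, iΛ, n, f, Or.inr ⟨hd, hdvr, hcomp, q, hq, hm⟩, hf⟩
  · haveI : CharZero k := CharP.charP_to_charZero k
    obtain ⟨g, hg⟩ := exists_lift (hasLift_field k 0) (maximalIdeal R) le_rfl hJc (by simp) (RingHom.id k)
    obtain ⟨n, f, hf⟩ := main k inferInstance g (by rw [show (residue R).comp g = _ from hg]; exact Function.surjective_id)
    exact ⟨k, inferInstance, n, f, Or.inl (Field.toIsField k), hf⟩

end Groth.Agent.S0580
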