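import Groth.Statements.S0581
import Groth.Prelude.Def_EGA41
import Groth.Prelude.Def_CAlgX
import Groth.Prelude.Def_Found
import Mathlib
import Groth.Agent.S0578
import Groth.Agent.Lib.H2CohenLift
import Groth.Agent.Lib.H2CohenFinite

set_option autoImplicit false
universe u
open CAlg

namespace Groth.Agent.S0581
open IsLocalRing Groth.Agent.H2CohenLift Groth.Agent.H2CohenFinite
set_option backward.isDefEq.respectTransparency.types false

/-- A complete Noetherian local domain `R` contains a subring `R₀` over which it is module-finite with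
the same residue field, where `R₀` is a power series ring in finitely many variables over a field or
over a Cohen ring. Stated with `R₀` given as the image of an injective ring map. -/
theorem result (R : Type u) [CommRing R]
    [IsDomain R] [IsLocalRing R] [IsNoetherianRing R] [IsAdicComplete (IsLocalRing.maximalIdeal R) R] :
    ∃ (Λ : Type u) (_ : CommRing Λ) (n : ℕ) (f : MvPowerSeries (Fin n) Λ →+* R),
      (IsField Λ ∨ CAlg.IsCohenRing Λ) ∧ Function.Injective f ∧ f.Finite ∧
      Function.Surjective ((IsLocalRing.residue R).comp f) := by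
  let k := ResidueField R
  have hJc : ∀ x, (∀ n, x ∈ maximalIdeal R ⊔ maximalIdeal R ^ (n + 1)) → x ∈ maximalIdeal R := fun x hx => by
    have h0 := hx 0
    rwa [zero_add, pow_one, sup_idem] at h0
  have hfield : ∀ g : k →+* R, (residue R).comp g = RingHom.id k →
      ∃ (Λ : Type u) (_ : CommRing Λ) (n : ℕ) (f : MvPowerSeries (Fin n) Λ →+* R), (IsField Λ ∨ CAlg.IsCohenRing Λ) ∧
        Function.Injective f ∧ f.Finite ∧ Function.Surjective ((residue R).comp f) := by
    intro g hg
    obtain ⟨n, t, N, hdim, ht, hN⟩ := exists_sop R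
    have hbot : maximalIdeal k = ⊥ := IsLocalRing.isField_iff_maximalIdeal_eq.1 (Field.toIsField k)
    haveI : IsAdicComplete (maximalIdeal k) k :=
      Groth.Agent.H2PowerSeries.isAdicComplete_of_pow (maximalIdeal k) (N := 1) (by rw [pow_one, hbot])
    obtain ⟨f, hC, -, hinj, hfin⟩ := exists_finite_injective g (by rw [hbot, Ideal.map_bot]; exact bot_le)
      (by rw [hg]; exact RingHom.Finite.id k) t ht (hN.trans le_sup_right) (d := n)
      (by rw [hbot, Submodule.spanFinrank_bot, zero_add]) hdim.ge
    refine ⟨k, inferInstance, n, f, Or.inl (Field.toIsField k), hinj, hfin, fun y => ⟨MvPowerSeries.C y, ?_⟩⟩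
    show residue R (f (MvPowerSeries.C y)) = y
    rw [hC]
    exact RingHom.congr_fun hg y
  obtain ⟨p, hp⟩ := CharP.exists k
  rcases CharP.char_is_prime_or_zero k p with hprime | rfl
  · haveI := Fact.mk hprime
    by_cases hp0 : (p : R) = 0
    · obtain ⟨c, hc⟩ := CharP.exists R
      haveI := hc
      letI : Algebra (ZMod p) R := (ZMod.castHom ((CharP.cast_eq_zero_iff R c p).1 hp0) R).toAlgebra
      obtain ⟨g, hg⟩ := Groth.Agent.H2CohenField.exists_section R (ZMod p)
      exact hfield g (RingHom.ext hg)
    · obtain ⟨Λ, iΛ, iL, hΛ, ⟨e⟩⟩ := Groth.Agent.S0578.result p k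
      obtain ⟨hd, hdvr, hcomp, q, hq, hm⟩ := hΛ
      haveI := hd
      haveI := hdvr
      haveI := hcomp
      have hqp : q = p := by
        have h1 : (q : ResidueField Λ) = 0 := by
          rw [← map_natCast (residue Λ), residue_eq_zero_iff]
          exact hm.symm ▸ Ideal.mem_span_singleton_self _
        have h2 := congrArg e h1
        rw [map_natCast, map_zero, CharP.cast_eq_zero_iff k p] at h2
        exact ((Nat.prime_dvd_prime_iff_eq hprime hq).1 h2).symm
      subst hqp
      have hpm : (q : R) ∈ maximalIdeal R := by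
        rw [← residue_eq_zero_iff, map_natCast]; exact CharP.cast_eq_zero k q
      obtain ⟨g, hg⟩ := exists_lift (hasLift_cohen Λ q hq hm) (maximalIdeal R) le_rfl hJc hpm (e.toRingHom.comp (residue Λ))
      have hg' : (residue R).comp g = e.toRingHom.comp (residue Λ) := hg
      have hne : Ideal.span {(q : R)} ≠ ⊤ := fun h => (maximalIdeal.isMaximal R).ne_top
        (top_le_iff.1 (h.ge.trans ((Ideal.span_singleton_le_iff_mem _).2 hpm)))
      haveI := Ideal.Quotient.nontrivial_iff.2 hne
      haveI : IsLocalRing (R ⧸ Ideal.span {(q : R)}) :=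
        IsLocalRing.of_surjective' (Ideal.Quotient.mk _) Ideal.Quotient.mk_surjective
      obtain ⟨n, t', N, hdim, ht', hN⟩ := exists_sop (R ⧸ Ideal.span {(q : R)})
      choose t ht using fun i => Ideal.Quotient.mk_surjective (t' i)
      have htm : ∀ i, t i ∈ maximalIdeal R := fun i hu => ht' i (ht i ▸ hu.map _)
      have hdimR : ((n + 1 : ℕ) : WithBot ℕ∞) ≤ ringKrullDim R := by
        rw [← ringKrullDim_quotient_span_singleton_succ_eq_ringKrullDim (IsSMulRegular.of_ne_zero hp0) hpm, hdim]
        simp
      have hmapm : (maximalIdeal Λ).map g = Ideal.span {(q : R)} := by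
        rw [hm, Ideal.map_span, Set.image_singleton, map_natCast]
      have hNR : maximalIdeal R ^ N ≤ (maximalIdeal Λ).map g ⊔ Ideal.span (Set.range t) := by
        intro x hx
        have h1 : Ideal.Quotient.mk (Ideal.span {(q : R)}) x ∈ (Ideal.span (Set.range t)).map (Ideal.Quotient.mk (Ideal.span {(q : R)})) := by
          rw [Ideal.map_span, ← Set.range_comp, show (Ideal.Quotient.mk _ ∘ t) = t' from funext ht]
          refine hN ?_
          rw [← IsLocalRing.map_maximalIdeal_of_surjective _ Ideal.Quotient.mk_surjective, ← Ideal.map_pow]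
          exact Ideal.mem_map_of_mem _ hx
        rw [Ideal.mem_quotient_iff_mem_sup] at h1
        rw [hmapm, sup_comm]
        exact h1
      have hrk : (maximalIdeal Λ).spanFinrank + n ≤ n + 1 := by
        have : (maximalIdeal Λ).spanFinrank ≤ 1 := by
          rw [hm]
          exact (Submodule.spanFinrank_span_le_ncard_of_finite (Set.finite_singleton _)).trans (by simp)
        omega
      obtain ⟨f, hC, -, hinj, hfin⟩ := exists_finite_injective g (hmapm.le.trans ((Ideal.span_singleton_le_iff_mem _).2 hpm))
        (by rw [hg']; exact RingHom.Finite.of_surjective _ (e.surjective.comp residue_surjective)) t htm hNR hrk hdimR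
      refine ⟨Λ, iΛ, n, f, Or.inr ⟨hd, hdvr, hcomp, q, hq, hm⟩, hinj, hfin, fun y => ?_⟩
      obtain ⟨a, ha⟩ := (e.surjective.comp residue_surjective) y
      refine ⟨MvPowerSeries.C a, ?_⟩
      show residue R (f (MvPowerSeries.C a)) = y
      rw [hC]
      exact (RingHom.congr_fun hg' a).trans ha
  · haveI : CharZero k := CharP.charP_to_charZero k
    obtain ⟨g, hg⟩ := exists_lift (hasLift_field k 0) (maximalIdeal R) le_rfl hJc (by simp) (RingHom.id k)
    exact hfield g hg

end Groth.Agent.S0581
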