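import Groth.Statements.S0583
import Mathlib
import Groth.Agent.Lib.KaplanskyProjective

set_option autoImplicit false
universe u
open Groth.Agent
open scoped Classical
open scoped Classical
open CAlg

namespace Groth.Agent.S0583

/-- If a module is an internal direct sum of countably generated submodules, then any direct summand of
it is again an internal direct sum of countably generated submodules. -/
theorem result (R : Type u) [CommRing R] (M : Type u)
    [AddCommGroup M] [Module R M] (ι : Type u) (N : ι → Submodule R M) (hN : DirectSum.IsInternal N)
    (hc : ∀ i, CAlg.IsCountablyGenerated R (N i)) (P Q : Submodule R M) (hPQ : IsCompl P Q) :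
    ∃ (κ : Type u) (L : κ → Submodule R P), DirectSum.IsInternal L ∧
      ∀ k, CAlg.IsCountablyGenerated R (L k) := by
  obtain ⟨L, hL⟩ := Kap.exists_internal_countable N hN hc P (P.subtype ∘ₗ Submodule.linearProjOfIsCompl P Q hPQ)
    (fun x => (Submodule.linearProjOfIsCompl P Q hPQ x).2) (fun x hx => by
      have := Submodule.linearProjOfIsCompl_apply_left hPQ ⟨x, hx⟩
      exact congrArg Subtype.val this)
  exact ⟨ι, L, hL⟩

end Groth.Agent.S0583
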