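import Groth.Statements.S0587
import Mathlib
import Groth.Agent.Lib.TorsionFreeEmbed
import Groth.Agent.Lib.CAlgSmall1

set_option autoImplicit false
universe u
open TensorProduct Groth.Agent.TorsionFreeEmbed
open Groth.Agent.CAlgSmall1
open CAlg

namespace Groth.Agent.S0587

/-- A module `M` is finitely generated exactly when for every family of modules `(Qᵢ)` the natural map
from `M ⊗ ∏ Qᵢ` to `∏ (M ⊗ Qᵢ)` is surjective. -/
theorem result (R : Type u) [CommRing R] (M : Type u)
    [AddCommGroup M] [Module R M] :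
    Module.Finite R M ↔ ∀ (ι : Type u) (Q : ι → Type u) [∀ i, AddCommGroup (Q i)]
      [∀ i, Module R (Q i)], Function.Surjective (TensorProduct.piRightHom R R M Q) := by
  classical
  constructor
  · intro hM ι Q _ _ t
    obtain ⟨n, g, hg⟩ := Module.Finite.exists_fin (R := R) (M := M)
    have h : ∀ (i : ι) (w : M ⊗[R] Q i), ∃ c : Fin n → Q i, ∑ k, g k ⊗ₜ[R] c k = w := by
      intro i w
      induction w with
      | zero => exact ⟨0, by simp⟩
      | tmul x y =>
        obtain ⟨a, rfl⟩ := (Submodule.mem_span_range_iff_exists_fun R).mp (hg ▸ Submodule.mem_top (x := x))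
        exact ⟨fun k => a k • y, by simp [TensorProduct.sum_tmul, TensorProduct.smul_tmul]⟩
      | add x y hx hy =>
        obtain ⟨a, rfl⟩ := hx
        obtain ⟨c, rfl⟩ := hy
        exact ⟨a + c, by simp [TensorProduct.tmul_add, Finset.sum_add_distrib]⟩
    choose c hc using fun i => h i (t i)
    refine ⟨∑ k, g k ⊗ₜ[R] (fun i => c i k), funext fun i => ?_⟩
    simp [map_sum, hc]
  · intro h
    obtain ⟨z, hz⟩ := h M (fun _ => R) (fun x => x ⊗ₜ[R] (1 : R))
    obtain ⟨s, rfl⟩ := TensorProduct.exists_finset z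
    refine ⟨⟨s.image Prod.fst, eq_top_iff.mpr fun x _ => ?_⟩⟩
    have := congrArg (TensorProduct.rid R M) (congrFun hz x)
    simp [map_sum] at this
    rw [← this]
    refine Submodule.sum_mem _ fun p hp => Submodule.smul_mem _ _ (Submodule.subset_span ?_)
    exact Finset.mem_coe.mpr (Finset.mem_image_of_mem _ hp)

end Groth.Agent.S0587
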