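import Groth.Statements.S0588
import Mathlib
import Groth.Agent.Lib.MittagLeffler
import Groth.Agent.Lib.CoherentRings

set_option autoImplicit false
universe u
open TensorProduct
open Groth.Agent.CoherentRings
open CAlg

namespace Groth.Agent.S0588

/-- A module `M` is finitely presented exactly when for every family of modules `(Qᵢ)` the natural map
from `M ⊗ ∏ Qᵢ` to `∏ (M ⊗ Qᵢ)` is bijective. -/
theorem result (R : Type u) [CommRing R] (M : Type u)
    [AddCommGroup M] [Module R M] :
    Module.FinitePresentation R M ↔ ∀ (ι : Type u) (Q : ι → Type u) [∀ i, AddCommGroup (Q i)]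
      [∀ i, Module R (Q i)], Function.Bijective (TensorProduct.piRightHom R R M Q) := by
  constructor
  · intro h ι Q _ _
    exact ⟨Groth.Agent.MittagLeffler.ml_fp M ι Q, Groth.Agent.MittagLeffler.surj_of_finite M Q⟩
  · intro h
    have hfin : Module.Finite R M := by
      obtain ⟨z, hz⟩ := (h M (fun _ => R)).2 (fun m => m ⊗ₜ 1)
      have key : ∀ z : M ⊗[R] (M → R), ∃ T : Submodule R M, T.FG ∧
          ∀ m, TensorProduct.rid R M (piRightHom R R M (fun _ => R) z m) ∈ T := by
        intro z
        induction z with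
        | zero => exact ⟨⊥, Submodule.fg_bot, by simp⟩
        | tmul a b => exact ⟨Submodule.span R {a}, Submodule.fg_span_singleton a, fun m => by
            simpa using Submodule.smul_mem _ _ (Submodule.mem_span_singleton_self a)⟩
        | add a b ha hb =>
          obtain ⟨T, hT, ha⟩ := ha
          obtain ⟨U, hU, hb⟩ := hb
          exact ⟨T ⊔ U, hT.sup hU, fun m => by
            rw [map_add, Pi.add_apply, map_add]; exact Submodule.add_mem_sup (ha m) (hb m)⟩
      obtain ⟨T, hT, hm⟩ := key z
      refine ⟨?_⟩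
      have : T = ⊤ := Submodule.eq_top_iff'.mpr fun m => by simpa [hz] using hm m
      exact this ▸ hT
    obtain ⟨n, g, hg⟩ := Module.Finite.exists_fin' R M
    refine Module.finitePresentation_of_surjective g hg ?_
    let W : (Fin n → R) ⊗[R] (↥(LinearMap.ker g) → R) :=
      ∑ l, (Pi.single l (1 : R) : Fin n → R) ⊗ₜ[R] (fun k => (k : Fin n → R) l)
    have hW : ∀ k, piRightHom R R (Fin n → R) (fun _ => R) W k = (k : Fin n → R) ⊗ₜ[R] (1 : R) := by
      intro k
      simp only [W, map_sum, Finset.sum_apply, piRightHom_tmul]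
      rw [Finset.sum_congr rfl (fun l _ => show (Pi.single l (1 : R) : Fin n → R) ⊗ₜ[R] ((k : Fin n → R) l) =
        ((k : Fin n → R) l • (Pi.single l (1 : R) : Fin n → R)) ⊗ₜ[R] (1 : R) by
          rw [smul_tmul, smul_eq_mul, mul_one]), ← TensorProduct.sum_tmul, ← pi_eq_sum_univ' (k : Fin n → R)]
    have h0 : g.rTensor _ W = 0 := (h ↥(LinearMap.ker g) (fun _ => R)).1 (by
      rw [map_zero]
      funext k
      rw [Groth.Agent.MittagLeffler.pr_nat, hW, LinearMap.rTensor_tmul, show g k = 0 from k.2, zero_tmul]; rfl)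
    obtain ⟨V, hV⟩ := ((rTensor_exact (↥(LinearMap.ker g) → R) (LinearMap.exact_subtype_ker_map g) hg) W).mp h0
    have key : ∀ V : ↥(LinearMap.ker g) ⊗[R] (↥(LinearMap.ker g) → R), ∃ T : Submodule R (Fin n → R), T.FG ∧
        T ≤ LinearMap.ker g ∧ ∀ k, TensorProduct.rid R (Fin n → R)
          (piRightHom R R (Fin n → R) (fun _ => R) ((LinearMap.ker g).subtype.rTensor _ V) k) ∈ T := by
      intro z
      induction z with
      | zero => exact ⟨⊥, Submodule.fg_bot, bot_le, by simp⟩
      | tmul a b => exact ⟨Submodule.span R {(a : Fin n → R)}, Submodule.fg_span_singleton _,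
          (Submodule.span_singleton_le_iff_mem _ _).mpr a.2, fun m => by
          simpa using Submodule.smul_mem _ _ (Submodule.mem_span_singleton_self (a : Fin n → R))⟩
      | add a b ha hb =>
        obtain ⟨T, hT, hT', ha⟩ := ha
        obtain ⟨U, hU, hU', hb⟩ := hb
        exact ⟨T ⊔ U, hT.sup hU, sup_le hT' hU', fun m => by
          rw [map_add, map_add, Pi.add_apply, map_add]; exact Submodule.add_mem_sup (ha m) (hb m)⟩
    obtain ⟨T, hT, hT', hk⟩ := key V
    have : T = LinearMap.ker g := le_antisymm hT' fun k hk' => by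
      have := hk ⟨k, hk'⟩
      rw [hV, hW] at this
      simpa using this
    exact this ▸ hT

end Groth.Agent.S0588
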