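import Groth.Statements.S0600
import Mathlib
import Groth.Prelude.Def_EGA4b
import Groth.Prelude.Def_CAlg
import Groth.Prelude.Def_Found
import Groth.Agent.Lib.H2ComplReg
import Groth.Agent.S9295

set_option autoImplicit false
universe u
open CAlg

namespace Groth.Agent.S0600
open IsLocalRing
set_option backward.isDefEq.respectTransparency.types false
set_option synthInstance.maxHeartbeats 400000
set_option maxHeartbeats 1000000

/-- If `A` is a G-ring and `I` any ideal, then the map from `A` to its `I`-adic completion is regular. -/
theorem result (A : Type u) [CommRing A] (hA : CAlg.IsGRing A)
    (I : Ideal A) : CAlg.IsRegularHom A (AdicCompletion I A) := by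
  exact Groth.Agent.H2ComplReg.isRegularHom_completion A hA I

end Groth.Agent.S0600
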