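import Groth.Statements.S0632
import Mathlib
import Groth.Agent.Lib.LEtLift

set_option autoImplicit false
open CategoryTheory CategoryTheory.Limits AlgebraicGeometry Opposite
universe u
open EtCore

namespace Groth.Agent.S0632

/-- Let X -> Y be a closed immersion and U_i -> X (i in ι) a jointly surjective family of etale
morphisms. Then one can find a jointly surjective family of etale Y-schemes V_j each of which either
has empty preimage over X or, after base change to X, maps into one of the U_i over X. -/
theorem result {X Y : Scheme.{u}} (f : X ⟶ Y) [IsClosedImmersion f]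
    {ι : Type u} (U : ι → X.Etale) (hU : EtCoh.Covers U) :
    ∃ (κ : Type u) (V : κ → Y.Etale), EtCoh.Covers V ∧
      ∀ j, IsEmpty ↥(pullback (V j).hom f) ∨
        ∃ (i : ι) (h : pullback (V j).hom f ⟶ (U i).left), h ≫ (U i).hom = pullback.snd (V j).hom f := by
  choose i u hu using hU
  choose V φ q hq using fun x : X => Groth.Agent.LEtLift.exists_lift f (U (i x)) (u x)
  let O : Y.Opens := ⟨(Set.range f)ᶜ, f.isClosedEmbedding.isClosed_range.isOpen_compl⟩
  let V₀ : Y.Etale := Scheme.Etale.mk O.ι
  refine ⟨Option X, fun o => o.elim V₀ V, fun y => ?_, fun o => ?_⟩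
  · by_cases hy : y ∈ Set.range f
    · obtain ⟨x, rfl⟩ := hy
      refine ⟨some x, (pullback.fst (V x).hom f) (q x), ?_⟩
      have e2 : (pullback.snd (V x).hom f) (q x) = x := by
        refine Eq.trans ?_ (hu x)
        refine Eq.trans ?_ (congrArg (U (i x)).hom (hq x))
        refine Eq.trans ?_ (Scheme.Hom.comp_apply (φ x).left (U (i x)).hom (q x))
        exact congrArg (fun k : (((EtCoh.bc f).obj (V x)).left : Scheme.{u}) ⟶ X => k (q x)) (MorphismProperty.Over.w (φ x)).symm
      refine (Scheme.Hom.comp_apply (pullback.fst (V x).hom f) (V x).hom (q x)).symm.trans ?_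
      refine (congrArg (fun k : (pullback (V x).hom f : Scheme.{u}) ⟶ Y => k (q x)) pullback.condition).trans ?_
      exact (Scheme.Hom.comp_apply _ f (q x)).trans (congrArg f e2)
    · exact ⟨none, ⟨y, hy⟩, rfl⟩
  · cases o with
    | none =>
      refine Or.inl ⟨fun (z : (pullback O.ι f : Scheme.{u})) => ?_⟩
      exact ((pullback.fst O.ι f) z).2 ⟨(pullback.snd O.ι f) z, (Scheme.Hom.comp_apply _ f z).symm.trans
        ((congrArg (fun k : (pullback O.ι f : Scheme.{u}) ⟶ Y => k z) pullback.condition.symm).trans
          (Scheme.Hom.comp_apply _ O.ι z))⟩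
    | some x => exact Or.inr ⟨i x, (φ x).left, MorphismProperty.Over.w (φ x)⟩

end Groth.Agent.S0632
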