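import Groth.Statements.S0643
-- import your own Groth.Agent.* helpers here

set_option autoImplicit false
universe u
open EtCore

namespace Groth.Agent.S0643

open Polynomial in
/-- Let A be a ring, assumed nonzero here (the published statement does not say so; over the zero ring
no polynomial has positive degree in Lean's sense), and a, b elements generating the unit ideal such
that some positive power of a is congruent to 1 modulo b. Then there is a monic polynomial P of
positive degree over A such that in B = A[y]/(P) the element a - b y is a unit. -/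
theorem result (A : Type u) [CommRing A] [Nontrivial A] (a b : A) (hab : IsCoprime a b)
    (hroot : ∃ n : ℕ, 0 < n ∧ a ^ n - 1 ∈ Ideal.span ({b} : Set A)) :
    ∃ P : A[X], P.Monic ∧ 0 < P.natDegree ∧
      IsUnit (algebraMap A (AdjoinRoot P) a - algebraMap A (AdjoinRoot P) b * AdjoinRoot.root P) := by
  obtain ⟨n, hn, hmem⟩ := hroot
  obtain ⟨m, rfl⟩ : ∃ m, n = m + 1 := ⟨n - 1, by omega⟩
  obtain ⟨t, ht⟩ := Ideal.mem_span_singleton'.1 hmem
  obtain ⟨x, y, hxy⟩ := hab
  let c : ℕ → A := fun j => t * (m.choose j : A) * x ^ j * y ^ (m - j)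
  have hc : ∑ j ∈ Finset.range (m + 1), c j * a ^ j * b ^ (m - j) = t := by
    have h1 : (1 : A) = (x * a + y * b) ^ m := by rw [hxy, one_pow]
    rw [add_pow] at h1
    conv_rhs => rw [← _root_.mul_one t, h1, Finset.mul_sum]
    refine Finset.sum_congr rfl fun j _ => ?_
    simp only [c, _root_.mul_pow]
    ring
  let p : A[X] := ∑ j ∈ Finset.range (m + 1), C (c j) * X ^ j
  have hp : p.degree < ((m + 1 : ℕ) : WithBot ℕ) := by
    refine lt_of_le_of_lt (degree_sum_le _ _) ?_
    rw [Finset.sup_lt_iff (by exact_mod_cast WithBot.bot_lt_coe _)]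
    intro j hj
    exact lt_of_le_of_lt (degree_C_mul_X_pow_le j (c j))
      (by exact_mod_cast Finset.mem_range.1 hj)
  refine ⟨X ^ (m + 1) - p, monic_X_pow_sub hp, ?_, ?_⟩
  · have hd : (X ^ (m + 1) - p).degree = ((m + 1 : ℕ) : WithBot ℕ) := by
      rw [degree_sub_eq_left_of_degree_lt (by simpa using hp), degree_X_pow]
    rw [natDegree_eq_of_degree_eq_some hd]
    omega
  · set P := X ^ (m + 1) - p with hP
    let φ := algebraMap A (AdjoinRoot P)
    let θ := AdjoinRoot.root P
    have hroot' : θ ^ (m + 1) = ∑ j ∈ Finset.range (m + 1), φ (c j) * θ ^ j := by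
      have h : AdjoinRoot.mk P P = 0 := AdjoinRoot.mk_self
      conv at h => lhs; arg 2; rw [hP]
      rw [map_sub, sub_eq_zero, map_sum] at h
      simp only [map_pow, _root_.map_mul, AdjoinRoot.mk_X, AdjoinRoot.mk_C] at h
      exact h
    have ha : φ a ^ (m + 1) - φ b * ∑ j ∈ Finset.range (m + 1), φ (c j) * φ a ^ j * φ b ^ (m - j) = 1 := by
      have h : a ^ (m + 1) - b * (∑ j ∈ Finset.range (m + 1), c j * a ^ j * b ^ (m - j)) = 1 := by
        rw [hc, mul_comm b t, ht]; ring
      simpa [map_sub, map_sum] using congrArg φ h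
    have hb : (φ b * θ) ^ (m + 1) -
        φ b * ∑ j ∈ Finset.range (m + 1), φ (c j) * (φ b * θ) ^ j * φ b ^ (m - j) = 0 := by
      rw [_root_.mul_pow, hroot', Finset.mul_sum, Finset.mul_sum, ← Finset.sum_sub_distrib]
      refine Finset.sum_eq_zero fun j hj => ?_
      have : φ b ^ (m + 1) = φ b * φ b ^ j * φ b ^ (m - j) := by
        rw [_root_.mul_assoc, ← pow_add, ← pow_succ']
        congr 1
        have := Finset.mem_range.1 hj
        omega
      rw [this, _root_.mul_pow]
      ring
    apply isUnit_of_dvd_one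
    rw [← ha, ← sub_zero (φ a ^ (m + 1) - _), ← hb]
    have e : ∀ u v s s' : AdjoinRoot P, (u - φ b * s) - (v - φ b * s') = (u - v) - φ b * (s - s') := by
      intros; ring
    rw [e, ← Finset.sum_sub_distrib]
    refine dvd_sub (sub_dvd_pow_sub_pow _ _ _) (dvd_mul_of_dvd_right (Finset.dvd_sum fun j _ => ?_) _)
    rw [← _root_.sub_mul, ← _root_.mul_sub]
    exact dvd_mul_of_dvd_left (dvd_mul_of_dvd_right (sub_dvd_pow_sub_pow _ _ _) _) _

end Groth.Agent.S0643
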