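import Groth.Statements.S0647
import Mathlib
import Groth.Agent.Lib.LEtExtStalk

set_option autoImplicit false
open CategoryTheory CategoryTheory.Limits AlgebraicGeometry Opposite
universe u
open EtCore

namespace Groth.Agent.S0647

/-- Stalks of the extension by zero: let j : U → X be an étale morphism of schemes, F an abelian sheaf
on the small étale site of U and ξ : Spec Ω → X a geometric point (Ω separably closed). Then the
stalk of the extension by zero j_!F at ξ is isomorphic to the direct sum, over the geometric points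
u : Spec Ω → U with j ∘ u = ξ, of the stalks F_u. Only the existence of an isomorphism is asserted
(the identification is in fact canonical). (Continuity of the composition functor of étale sites
along j is carried as an instance binder.) -/
theorem result {U X : Scheme.{u}} (j : U ⟶ X) [AlgebraicGeometry.Etale j] [EtShriek.JCont j]
    (F : EtCoh.Ab U) {Ω : Type u} [Field Ω] [IsSepClosed Ω] (ξ : Spec (CommRingCat.of Ω) ⟶ X) :
    Nonempty ((EtCoh.stalk ξ).obj ((EtShriek.extZero j).obj F) ≅
      ∐ fun u : {u : Spec (CommRingCat.of Ω) ⟶ U // u ≫ j = ξ} => (EtCoh.stalk u.1).obj F) := by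
  let Ψ := Scheme.pointSmallEtale ξ
  let Φ := fun u : {u : Spec (CommRingCat.of Ω) ⟶ U // u ≫ j = ξ} => Scheme.pointSmallEtale u.1
  let toT : ∀ (u : {u : Spec (CommRingCat.of Ω) ⟶ U // u ≫ j = ξ}) (W : U.Etale),
      (Φ u).fiber.obj W → Ψ.fiber.obj ((EtShriek.compEtale j).obj W) := fun u W t =>
    Over.homMk t.left ((Category.assoc _ _ _).symm.trans ((congrArg (· ≫ j) (Over.w t)).trans u.2))
  let toU : ∀ (W : U.Etale), Ψ.fiber.obj ((EtShriek.compEtale j).obj W) →
      {u : Spec (CommRingCat.of Ω) ⟶ U // u ≫ j = ξ} := fun W t =>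
    ⟨t.left ≫ W.hom, (Category.assoc _ _ _).trans (Over.w t)⟩
  let toS : ∀ (W : U.Etale) (t : Ψ.fiber.obj ((EtShriek.compEtale j).obj W)), (Φ (toU W t)).fiber.obj W :=
    fun W t => Over.homMk t.left rfl
  let e : ∀ M : AddCommGrpCat.{u + 1},
      ((∐ fun u : {u : Spec (CommRingCat.of Ω) ⟶ U // u ≫ j = ξ} => (EtCoh.stalk u.1).obj F) ⟶ M) ≃
        (F ⟶ (EtShriek.restrAlong j).obj (Ψ.skyscraperSheaf M)) := fun M =>
    { toFun := fun g => ⟨
        { app := fun W => Pi.lift fun t => (Φ (toU W.unop t)).toPresheafFiber W.unop (toS W.unop t) F.obj ≫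
            Sigma.ι (fun u : {u : Spec (CommRingCat.of Ω) ⟶ U // u ≫ j = ξ} => (EtCoh.stalk u.1).obj F) (toU W.unop t) ≫ g
          naturality := fun W W' o => by
            refine Pi.hom_ext _ _ fun t => ?_
            let t₀ := Ψ.fiber.map ((EtShriek.compEtale j).map o.unop) t
            have hu : toU W.unop t₀ = toU W'.unop t := Subtype.ext (by
              change (t.left ≫ o.unop.left) ≫ W.unop.hom = t.left ≫ W'.unop.hom
              rw [Category.assoc]
              exact congrArg (t.left ≫ ·) (MorphismProperty.Over.w o.unop))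
            have hR : (Pi.lift fun t => (Φ (toU W.unop t)).toPresheafFiber W.unop (toS W.unop t) F.obj ≫
                Sigma.ι (fun u : {u : Spec (CommRingCat.of Ω) ⟶ U // u ≫ j = ξ} => (EtCoh.stalk u.1).obj F) (toU W.unop t) ≫ g) ≫
                ((EtShriek.restrAlong j).obj (Ψ.skyscraperSheaf M)).obj.map o ≫ Pi.π (fun _ => M) t =
                (Φ (toU W.unop t₀)).toPresheafFiber W.unop (toS W.unop t₀) F.obj ≫
                Sigma.ι (fun u : {u : Spec (CommRingCat.of Ω) ⟶ U // u ≫ j = ξ} => (EtCoh.stalk u.1).obj F) (toU W.unop t₀) ≫ g := by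
              refine (congrArg (_ ≫ ·) (Pi.lift_π _ t)).trans ?_
              exact Pi.lift_π _ t₀
            refine Eq.trans ?_ ((Category.assoc _ _ _).trans hR).symm
            refine (Category.assoc _ _ _).trans ((congrArg (F.obj.map o ≫ ·) (Pi.lift_π _ t)).trans ?_)
            refine ((Category.assoc _ _ _).symm.trans (congrArg (· ≫ _)
              ((Φ (toU W'.unop t)).toPresheafFiber_w o.unop (toS W'.unop t) F.obj))).trans ?_
            have gen : ∀ (u v : {u : Spec (CommRingCat.of Ω) ⟶ U // u ≫ j = ξ}) (_ : u = v) (a : (Φ u).fiber.obj W.unop)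
                (b : (Φ v).fiber.obj W.unop), a.left = b.left →
                (Φ u).toPresheafFiber W.unop a F.obj ≫ Sigma.ι (fun u : {u : Spec (CommRingCat.of Ω) ⟶ U // u ≫ j = ξ} => (EtCoh.stalk u.1).obj F) u ≫ g =
                (Φ v).toPresheafFiber W.unop b F.obj ≫ Sigma.ι (fun u : {u : Spec (CommRingCat.of Ω) ⟶ U // u ≫ j = ξ} => (EtCoh.stalk u.1).obj F) v ≫ g := by
              intro u v h a b hab
              subst h
              rw [show a = b from Over.OverMorphism.ext hab]
            exact gen _ _ hu.symm _ _ rfl }⟩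
      invFun := fun φ => Sigma.desc fun u => (Φ u).presheafFiberDesc
        (fun W t => φ.hom.app (op W) ≫ Pi.π (fun _ => M) (toT u W t)) (fun W W' o t => by
          refine (Category.assoc _ _ _).symm.trans ((congrArg (· ≫ _) (φ.hom.naturality o.op)).trans
            ((Category.assoc _ _ _).trans (congrArg (φ.hom.app (op W') ≫ ·) ?_)))
          exact (Pi.lift_π _ (toT u W t)).trans (congrArg (Pi.π (fun _ => M)) (Over.OverMorphism.ext rfl)))
      left_inv := fun g => by
        refine Sigma.hom_ext _ _ fun u => ?_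
        rw [Sigma.ι_desc]
        refine (Φ u).presheafFiber_hom_ext fun W t => ?_
        refine ((Φ u).toPresheafFiber_presheafFiberDesc _ _ W t).trans ?_
        refine (Pi.lift_π _ _).trans ?_
        have gen : ∀ (v : {u : Spec (CommRingCat.of Ω) ⟶ U // u ≫ j = ξ}) (_ : v = u) (a : (Φ v).fiber.obj W),
            a.left = t.left →
            (Φ v).toPresheafFiber W a F.obj ≫ Sigma.ι (fun u : {u : Spec (CommRingCat.of Ω) ⟶ U // u ≫ j = ξ} => (EtCoh.stalk u.1).obj F) v ≫ g =
              (Φ u).toPresheafFiber W t F.obj ≫ Sigma.ι (fun u : {u : Spec (CommRingCat.of Ω) ⟶ U // u ≫ j = ξ} => (EtCoh.stalk u.1).obj F) u ≫ g := by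
          intro v h a hab
          subst h
          rw [show a = t from Over.OverMorphism.ext hab]
        exact gen _ (Subtype.ext (Over.w t)) _ rfl
      right_inv := fun φ => by
        apply Sheaf.hom_ext
        refine NatTrans.ext (funext fun W => Pi.hom_ext _ _ fun t => ?_)
        refine (Pi.lift_π _ t).trans ?_
        erw [Sigma.ι_desc]
        refine ((Φ (toU W.unop t)).toPresheafFiber_presheafFiberDesc _ _ W.unop (toS W.unop t)).trans ?_
        exact congrArg (φ.hom.app W ≫ Pi.π (fun _ => M) ·) (Over.OverMorphism.ext rfl) }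
  let a : ∀ M : AddCommGrpCat.{u + 1}, ((EtCoh.stalk ξ).obj ((EtShriek.extZero j).obj F) ⟶ M) ≃
      ((∐ fun u : {u : Spec (CommRingCat.of Ω) ⟶ U // u ≫ j = ξ} => (EtCoh.stalk u.1).obj F) ⟶ M) := fun M =>
    (((EtShriek.extZeroAdj j).comp Ψ.skyscraperSheafAdjunction).homEquiv F M).trans (e M).symm
  exact ⟨(Coyoneda.ext _ _ (fun {M} g => a M g) (fun {M} g => (a M).symm g) (fun g => (a _).symm_apply_apply g)
    (fun g => (a _).apply_symm_apply g) (fun {M N} g k => by
      apply (a N).injective
      rw [Equiv.apply_symm_apply]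
      refine Eq.symm ?_
      change (e N).symm (((EtShriek.extZeroAdj j).comp Ψ.skyscraperSheafAdjunction).homEquiv F N ((a M).symm g ≫ k)) = g ≫ k
      rw [Adjunction.homEquiv_naturality_right, Equiv.symm_apply_eq]
      have hh : ((EtShriek.extZeroAdj j).comp Ψ.skyscraperSheafAdjunction).homEquiv F M ((a M).symm g) = e M g := by
        simp [a]
      rw [hh]
      apply Sheaf.hom_ext
      refine NatTrans.ext (funext fun W => Pi.hom_ext _ _ fun t => ?_)
      refine (Category.assoc _ _ _).trans ?_
      refine (congrArg (((e M) g).hom.app W ≫ ·) (Pi.map_π (fun _ => k) t)).trans ?_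
      refine (Category.assoc _ _ _).symm.trans ?_
      refine (congrArg (· ≫ k) (Pi.lift_π _ t)).trans ?_
      simp only [Category.assoc]
      refine Eq.symm ?_
      refine (Pi.lift_π _ t).trans ?_
      rfl))⟩

end Groth.Agent.S0647
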