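import Groth.Statements.S0654
import Mathlib
import Groth.Agent.Lib.LEtExtStalk

set_option autoImplicit false
open CategoryTheory CategoryTheory.Limits AlgebraicGeometry Opposite
universe u
open EtCore

namespace Groth.Agent.S0654

/-- Let i : Z -> X be a closed immersion and j : U -> X the open immersion of the complement of its
image. For every abelian sheaf F on the small etale site of X, the counit j_! (F|_U) -> F followed
by the unit F -> i_* i^{-1} F composes to zero and the resulting three-term sequence is short exact.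
(Continuity of the composition functor of etale sites, which always holds, is carried as an instance
hypothesis.) -/
theorem result {Z X : Scheme.{u}} (i : Z ⟶ X) [IsClosedImmersion i]
    (U : X.Opens) (hU : (U : Set X) = (Set.range i.base)ᶜ) [AlgebraicGeometry.Etale U.ι] [EtShriek.JCont U.ι]
    (F : EtCoh.Ab X) :
    ∃ w : (EtShriek.extZeroAdj U.ι).counit.app F ≫ (EtCoh.pullPushAdj i).unit.app F = 0,
      (ShortComplex.mk _ _ w).ShortExact := by
  have hd : Disjoint (Set.range i) (Set.range U.ι) := by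
    rw [Scheme.Opens.range_ι, hU]
    exact disjoint_compl_right
  have w : (EtShriek.extZeroAdj U.ι).counit.app F ≫ (EtCoh.pullPushAdj i).unit.app F = 0 := by
    apply ((EtShriek.extZeroAdj U.ι).homEquiv _ _).injective
    exact ((Groth.Agent.LEtExtStalk.isZero_pull_push i U.ι hd ((EtCoh.pull i).obj F)).of_iso
      ((Groth.Agent.LEtExtStalk.restrAlongIso U.ι).app _)).eq_of_tgt _ _
  refine ⟨w, ?_⟩
  let a := (EtShriek.extZeroAdj U.ι).counit.app F
  let b := (EtCoh.pullPushAdj i).unit.app F
  have key : ∀ (Ω : Type u) [Field Ω] [IsSepClosed Ω] (ξ : Spec (CommRingCat.of Ω) ⟶ X),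
      (IsZero ((EtCoh.stalk ξ).obj ((EtShriek.extZero U.ι).obj ((EtShriek.restrAlong U.ι).obj F))) ∧ IsIso ((EtCoh.stalk ξ).map b)) ∨
      (IsZero ((EtCoh.stalk ξ).obj ((EtCoh.push i).obj ((EtCoh.pull i).obj F))) ∧ IsIso ((EtCoh.stalk ξ).map a)) := by
    intro Ω _ _ ξ
    by_cases h : Disjoint (Set.range ξ) (Set.range i)
    · have h' : ¬ Disjoint (Set.range ξ) (Set.range U.ι) := fun h' => by
        rw [Scheme.Opens.range_ι, hU] at h'
        exact Set.disjoint_left.1 h' ⟨default, rfl⟩ (fun hc => Set.disjoint_left.1 h ⟨default, rfl⟩ hc)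
      obtain ⟨ζ, rfl⟩ := Groth.Agent.LEtExtStalk.exists_factor_open U.ι ξ h'
      exact Or.inr ⟨Groth.Agent.LEtImm.isZero_stalk_push i i.isClosedEmbedding.isClosed_range _ _ h,
        Groth.Agent.LEtExtStalk.isIso_stalk_counit U.ι F ζ⟩
    · obtain ⟨ζ, rfl⟩ := Groth.Agent.LEtExtStalk.exists_factor_closed i ξ h
      refine Or.inl ⟨Groth.Agent.LEtExtStalk.isZero_stalk_extZero U.ι _ _ ?_, ?_⟩
      · rw [Scheme.Opens.range_ι, hU]
        refine Set.disjoint_left.2 ?_
        intro x hx hc
        obtain ⟨s, rfl⟩ := hx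
        exact hc ⟨ζ s, (Scheme.Hom.comp_apply ζ i s).symm⟩
      · have := Groth.Agent.LEtClosed.isIso_counit i ((EtCoh.pull i).obj F)
        have : IsIso ((EtCoh.pull i).map b ≫ (EtCoh.pullPushAdj i).counit.app ((EtCoh.pull i).obj F)) := by
          rw [(EtCoh.pullPushAdj i).left_triangle_components F]
          exact IsIso.id _
        have : IsIso ((EtCoh.pull i).map b) :=
          IsIso.of_isIso_comp_right _ ((EtCoh.pullPushAdj i).counit.app ((EtCoh.pull i).obj F))
        exact (NatIso.isIso_map_iff (Groth.Agent.LEtStalkPull.stalkPullIso i ζ) b).1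
          (inferInstanceAs (IsIso ((EtCoh.stalk ζ).map ((EtCoh.pull i).map b))))
  have hm : Mono a := (Groth.Agent.LEtStalk.mono_iff a).2 fun Ω _ _ ξ => by
    rcases key Ω ξ with ⟨h, -⟩ | ⟨-, h⟩
    · intro x y _
      exact (AddCommGrpCat.subsingleton_of_isZero h).elim x y
    · exact (ConcreteCategory.bijective_of_isIso ((EtCoh.stalk ξ).map a)).1
  have he : Epi b := (Groth.Agent.LEtStalk.epi_iff b).2 fun Ω _ _ ξ => by
    rcases key Ω ξ with ⟨-, h⟩ | ⟨h, -⟩
    · exact (ConcreteCategory.bijective_of_isIso ((EtCoh.stalk ξ).map b)).2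
    · intro x
      exact ⟨0, (AddCommGrpCat.subsingleton_of_isZero h).elim _ _⟩
  refine ShortComplex.ShortExact.mk' ((Groth.Agent.LEtStalk.exact_iff _).2 fun Ω _ _ ξ => ?_) hm he
  rcases key Ω ξ with ⟨-, h⟩ | ⟨-, h⟩
  · rw [ShortComplex.ab_exact_iff]
    intro x hx
    refine ⟨0, ?_⟩
    have hx' : (EtCoh.stalk ξ).map b x = (EtCoh.stalk ξ).map b 0 := hx.trans (map_zero _).symm
    exact (map_zero _).trans ((ConcreteCategory.bijective_of_isIso ((EtCoh.stalk ξ).map b)).1 hx').symm
  · rw [ShortComplex.ab_exact_iff]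
    intro x _
    exact (ConcreteCategory.bijective_of_isIso ((EtCoh.stalk ξ).map a)).2 x

end Groth.Agent.S0654
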