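import Groth.Statements.S0660
import Mathlib

set_option autoImplicit false
open CategoryTheory CategoryTheory.Limits AlgebraicGeometry Opposite
universe u
open EtCore

namespace Groth.Agent.S0660

/-- Let i : Z -> X be a closed immersion, U and U' schemes etale over X, and h a Z-morphism from U x_X Z
to U' x_X Z. Then there are an etale X-scheme W and X-morphisms a : W -> U, b : W -> U' such that
the base change of a to Z is an isomorphism and h is the base change of b composed with the inverse
of the base change of a. -/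
theorem result {Z X : Scheme.{u}} (i : Z ⟶ X) [IsClosedImmersion i] (U U' : X.Etale)
    (h : (EtCoh.bc i).obj U ⟶ (EtCoh.bc i).obj U') :
    ∃ (W : X.Etale) (a : W ⟶ U) (b : W ⟶ U'), IsIso ((EtCoh.bc i).map a) ∧ (EtCoh.bc i).map a ≫ h = (EtCoh.bc i).map b := by
  let P : Scheme.{u} := pullback U.hom U'.hom
  have hPe : Etale (pullback.fst U.hom U'.hom) := MorphismProperty.pullback_fst _ _ U'.prop
  have : Etale (pullback.fst U.hom U'.hom ≫ U.hom) := MorphismProperty.comp_mem @Etale _ _ hPe U.prop
  let P' : X.Etale := Scheme.Etale.mk (pullback.fst U.hom U'.hom ≫ U.hom)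
  let a : P' ⟶ U := MorphismProperty.Over.homMk (pullback.fst U.hom U'.hom) rfl trivial
  let b : P' ⟶ U' := MorphismProperty.Over.homMk (pullback.snd U.hom U'.hom) pullback.condition.symm trivial
  let l : ((EtCoh.bc i).obj U).left ⟶ P := pullback.lift (pullback.fst U.hom i) (h.left ≫ pullback.fst U'.hom i) (by
    refine Eq.trans pullback.condition ?_
    refine Eq.symm ((Category.assoc _ _ _).trans ((congrArg (h.left ≫ ·) pullback.condition).trans ?_))
    exact (Category.assoc _ _ _).symm.trans (congrArg (· ≫ i) (MorphismProperty.Over.w h)))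
  let s : (EtCoh.bc i).obj U ⟶ (EtCoh.bc i).obj P' := MorphismProperty.Over.homMk
    (pullback.lift l (pullback.snd U.hom i) (by
      change l ≫ pullback.fst U.hom U'.hom ≫ U.hom = _
      rw [← Category.assoc, pullback.lift_fst]
      exact pullback.condition)) (pullback.lift_snd _ _ _) trivial
  have hsl : s.left ≫ pullback.fst P'.hom i = l := pullback.lift_fst _ _ _
  have hsa : s ≫ (EtCoh.bc i).map a = 𝟙 _ := MorphismProperty.Over.Hom.ext (pullback.hom_ext
    ((Category.assoc _ _ _).trans ((congrArg (s.left ≫ ·) (EtCoh.isPullback_bc_map i a).w).trans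
      ((Category.assoc _ _ _).symm.trans ((congrArg (· ≫ a.left) hsl).trans
        ((pullback.lift_fst _ _ _).trans (Category.id_comp _).symm)))))
    ((MorphismProperty.Over.w (s ≫ (EtCoh.bc i).map a)).trans (Category.id_comp _).symm))
  have hsb : s ≫ (EtCoh.bc i).map b = h := MorphismProperty.Over.Hom.ext (pullback.hom_ext
    ((Category.assoc _ _ _).trans ((congrArg (s.left ≫ ·) (EtCoh.isPullback_bc_map i b).w).trans
      ((Category.assoc _ _ _).symm.trans ((congrArg (· ≫ b.left) hsl).trans (pullback.lift_snd _ _ _)))))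
    ((MorphismProperty.Over.w (s ≫ (EtCoh.bc i).map b)).trans (MorphismProperty.Over.w h).symm))
  have hle : (@Etale : MorphismProperty Scheme.{u}) ≤ MorphismProperty.diagonal @IsOpenImmersion := fun A B k hk => by
    have : Etale k := hk
    exact (inferInstance : IsOpenImmersion (pullback.diagonal k))
  have : MorphismProperty.HasOfPostcompProperty @IsOpenImmersion @Etale :=
    MorphismProperty.hasOfPostcompProperty_iff_le_diagonal.mpr hle
  have hea : Etale ((EtCoh.bc i).map a).left := by
    have : Etale (((EtCoh.bc i).map a).left ≫ ((EtCoh.bc i).obj U).hom) := by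
      rw [MorphismProperty.Over.w]; exact ((EtCoh.bc i).obj P').prop
    exact MorphismProperty.of_postcomp (W := @Etale) (W' := @Etale) _ _ ((EtCoh.bc i).obj U).prop this
  have hs : IsOpenImmersion s.left := by
    have : IsOpenImmersion (s.left ≫ ((EtCoh.bc i).map a).left) := by
      rw [show s.left ≫ ((EtCoh.bc i).map a).left = 𝟙 _ from congrArg (fun k : _ ⟶ (EtCoh.bc i).obj U => k.left) hsa]
      infer_instance
    exact MorphismProperty.of_postcomp (W := @IsOpenImmersion) (W' := @Etale) s.left _ hea this
  let p : ((EtCoh.bc i).obj P').left ⟶ P := pullback.fst P'.hom i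
  have hp : Topology.IsInducing p := (inferInstance : IsClosedImmersion (pullback.fst P'.hom i)).base_closed.isInducing
  obtain ⟨O, hO, hOeq⟩ := hp.isOpen_iff.1 s.left.opensRange.2
  let O' : P'.left.Opens := ⟨O, hO⟩
  have : Etale (O'.ι ≫ P'.hom) := MorphismProperty.comp_mem @Etale O'.ι P'.hom inferInstance P'.prop
  let W : X.Etale := Scheme.Etale.mk (O'.ι ≫ P'.hom)
  let o : W ⟶ P' := MorphismProperty.Over.homMk O'.ι rfl trivial
  have sq := EtCoh.isPullback_bc_map i o
  have hio : IsOpenImmersion ((EtCoh.bc i).map o).left :=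
    MorphismProperty.of_isPullback (P := @IsOpenImmersion) sq.flip (inferInstance : IsOpenImmersion O'.ι)
  have hr : Set.range ((EtCoh.bc i).map o).left = Set.range s.left := by
    ext x
    constructor
    · intro hx
      obtain ⟨w, rfl⟩ := hx
      refine (Set.ext_iff.1 hOeq _).1 ?_
      have e : p (((EtCoh.bc i).map o).left w) = O'.ι ((pullback.fst W.hom i) w) :=
        (Scheme.Hom.comp_apply _ p w).symm.trans
          ((congrArg (fun k : _ ⟶ P => k w) sq.w).trans (Scheme.Hom.comp_apply _ _ w))
      rw [Set.mem_preimage, e]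
      exact ((pullback.fst W.hom i) w).2
    · intro hx
      have hxO : p x ∈ O := (Set.ext_iff.1 hOeq _).2 hx
      obtain ⟨z, hz, -⟩ := Scheme.Pullback.exists_preimage_pullback (f := p) (g := O'.ι) x ⟨_, hxO⟩ rfl
      refine ⟨sq.isoPullback.inv z, ?_⟩
      refine Eq.trans ?_ hz
      exact (Scheme.Hom.comp_apply _ _ z).symm.trans
        (congrArg (fun k : Limits.pullback _ _ ⟶ (((EtCoh.bc i).obj P').left : Scheme.{u}) => k z) sq.isoPullback_inv_fst)
  let e := @IsOpenImmersion.isoOfRangeEq _ _ _ ((EtCoh.bc i).map o).left s.left hio hs hr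
  have he : e.hom ≫ s.left = ((EtCoh.bc i).map o).left :=
    @IsOpenImmersion.isoOfRangeEq_hom_fac _ _ _ ((EtCoh.bc i).map o).left s.left hio hs hr
  have h1 : ((EtCoh.bc i).map (o ≫ a)).left = e.hom := by
    rw [Functor.map_comp]
    refine (congrArg (· ≫ ((EtCoh.bc i).map a).left) he.symm).trans ?_
    exact (Category.assoc _ _ _).trans ((congrArg (e.hom ≫ ·)
      (congrArg (fun k : _ ⟶ (EtCoh.bc i).obj U => k.left) hsa)).trans (Category.comp_id _))
  refine ⟨W, o ≫ a, o ≫ b, ?_, MorphismProperty.Over.Hom.ext ?_⟩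
  · have : IsIso ((Scheme.Etale.forget Z ⋙ CategoryTheory.Over.forget Z).map ((EtCoh.bc i).map (o ≫ a))) := by
      change IsIso ((EtCoh.bc i).map (o ≫ a)).left
      rw [h1]; infer_instance
    exact isIso_of_reflects_iso _ (Scheme.Etale.forget Z ⋙ CategoryTheory.Over.forget Z)
  · refine (congrArg (· ≫ h.left) h1).trans ?_
    rw [Functor.map_comp]
    refine (congrArg (e.hom ≫ ·) (congrArg (fun k : _ ⟶ (EtCoh.bc i).obj U' => k.left) hsb).symm).trans ?_
    exact (Category.assoc _ _ _).symm.trans (congrArg (· ≫ ((EtCoh.bc i).map b).left) he)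

end Groth.Agent.S0660
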