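import Groth.Statements.S0671
import Mathlib
import Groth.Agent.Lib.LEtGerm

set_option autoImplicit false
open CategoryTheory CategoryTheory.Limits AlgebraicGeometry Opposite
universe u
open EtCore

namespace Groth.Agent.S0671

/-- For an abelian sheaf F on the small etale site of S and a section σ over an etale S-scheme U, the
support of σ is a closed subset of U; and a point of S has a nonzero geometric stalk exactly when it
is the image of a point lying in the support of some section over some etale S-scheme. -/
theorem result {S : Scheme.{u}} (F : EtCoh.Ab S) :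
    (∀ (U : S.Etale) (σ : EtCoh.sect F U), IsClosed (EtShriek.sectSupp F U σ)) ∧
    EtPBC.supp F = ⋃ (U : S.Etale) (σ : EtCoh.sect F U), U.hom.base '' EtShriek.sectSupp F U σ := by
  constructor
  · intro U σ
    rw [← isOpen_compl_iff, isOpen_iff_forall_mem_open]
    intro x hx
    obtain ⟨W, g, hw, h0⟩ : ∃ (W : S.Etale) (g : W ⟶ U), (∃ w : W.left, g.left.base w = x) ∧ F.obj.map g.op σ = 0 := by
      simpa [EtShriek.sectSupp] using hx
    have : Etale g.left := by
      have : Etale (g.left ≫ U.hom) := by rw [MorphismProperty.Over.w g]; exact W.prop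
      exact MorphismProperty.of_postcomp (W := @Etale) (W' := @Etale) g.left U.hom U.prop this
    refine ⟨Set.range g.left, ?_, g.left.isOpenMap.isOpen_range, hw⟩
    intro y hy hy'
    exact hy' W g hy h0
  · ext x
    simp only [EtPBC.supp, Set.mem_iUnion, Set.mem_image, Set.mem_setOf_eq]
    constructor
    · rintro ⟨Ω, _, _, ξ, hξ, hne⟩
      by_contra hcon
      push Not at hcon
      refine hne ?_
      suffices hs : Subsingleton ((EtCoh.stalk ξ).obj F) from @AddCommGrpCat.isZero_of_subsingleton _ hs
      refine subsingleton_of_forall_eq 0 fun p => ?_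
      obtain ⟨V, v, z, rfl⟩ := (Scheme.pointSmallEtale ξ).toPresheafFiber_jointly_surjective (P := F.obj) p
      by_contra hp
      refine hcon V z _ ((Groth.Agent.LEtGerm.germ_ne_zero_iff F ξ V v z).1 hp) ?_
      have e : V.hom (v.left (default : Spec (CommRingCat.of Ω))) = ξ default :=
        (Scheme.Hom.comp_apply v.left V.hom _).symm.trans (congrArg (fun s : Spec _ ⟶ S => s default) (Over.w v))
      exact e.trans (Set.mem_singleton_iff.1 (hξ ▸ Set.mem_range_self _))
    · rintro ⟨U, σ, u, hu, rfl⟩
      obtain ⟨Ω, _, _, ξ, v, hv⟩ := Groth.Agent.LEtGerm.exists_point U u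
      refine ⟨Ω, inferInstance, inferInstance, ξ, ?_, fun hz => ?_⟩
      · have e : ξ (default : Spec (CommRingCat.of Ω)) = U.hom u :=
          (congrArg (fun s : Spec _ ⟶ S => s default) (Over.w v).symm).trans
            ((Scheme.Hom.comp_apply v.left U.hom _).trans (congrArg U.hom hv))
        exact (Set.range_unique).trans (congrArg (fun y => ({y} : Set S)) e)
      · exact (Groth.Agent.LEtGerm.germ_ne_zero_iff F ξ U v σ).2 (hv.symm ▸ hu)
          ((AddCommGrpCat.subsingleton_of_isZero hz).elim _ _)

end Groth.Agent.S0671
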