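import Groth.Statements.S0675
import Mathlib
import Groth.Prelude.Def_EtBase
import Groth.Prelude.Def_ProEtW

set_option autoImplicit false
open CategoryTheory CategoryTheory.Limits AlgebraicGeometry Opposite Topology
universe u
open ProEtW

namespace Groth.Agent.S0675
open TensorProduct Polynomial
set_option maxHeartbeats 1000000
set_option synthInstance.maxHeartbeats 400000
set_option backward.isDefEq.respectTransparency.types false

/-- If every faithfully flat etale A-algebra has an A-algebra retraction, then for every maximal ideal m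
of A the localization A_m is a strictly henselian local ring (henselian with separably closed
residue field). -/
theorem result (A : Type u) [CommRing A]
    (h : ProEtW.HasEtaleRetractions A) (m : Ideal A) [m.IsMaximal] :
    EtCoh.IsStrictlyHenselianLocalRing (Localization.AtPrime m) := by
  let Am := Localization.AtPrime m
  -- an étale algebra with a point above `m` has an `A`-point in `A_m`
  have hsec : ∀ (B : Type u) [CommRing B] [Algebra A B] [Algebra.Etale A B] (q : Ideal B), q.IsPrime → q.comap (algebraMap A B) = m →
      Nonempty (B →ₐ[A] Am) := fun B _ _ _ q hq hqm => by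
    have hopen : IsOpen (Set.range (PrimeSpectrum.comap (algebraMap A B))) :=
      (PrimeSpectrum.isOpenMap_comap_of_hasGoingDown_of_finitePresentation (R := A) (S := B)).isOpen_range
    obtain ⟨K, hK⟩ := (PrimeSpectrum.isClosed_iff_zeroLocus_ideal _).1 (isClosed_compl_iff.2 hopen)
    have hKm : ¬ K ≤ m := fun hle => by
      have hmem : (⟨m, inferInstance⟩ : PrimeSpectrum A) ∈ PrimeSpectrum.zeroLocus (K : Set A) := fun x hx => hle hx
      rw [← hK] at hmem
      exact hmem ⟨⟨q, hq⟩, PrimeSpectrum.ext hqm⟩
    obtain ⟨f, hf, k, hk, hfk⟩ := Submodule.mem_sup.1 ((Ideal.eq_top_iff_one _).1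
      (show m ⊔ K = ⊤ from Ideal.IsMaximal.out.2 _ (lt_of_le_of_ne le_sup_left fun e => hKm (e ▸ le_sup_right))))
    haveI : Algebra.Etale A (Localization.Away f) := Algebra.Etale.of_isLocalizationAway f
    let T := B × Localization.Away f
    haveI : Algebra.Etale A T := by
      refine RingHom.etale_algebraMap.mp (RingHom.Etale.ofLocalizationSpanTarget (algebraMap A T) {((1 : B), (0 : Localization.Away f)), ((0 : B), (1 : Localization.Away f))} ?_ fun ⟨r, hr⟩ => ?_)
      · refine (Ideal.eq_top_iff_one _).2 ?_
        rw [show (1 : T) = ((1 : B), (0 : Localization.Away f)) + ((0 : B), (1 : Localization.Away f)) by ext <;> simp]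
        exact add_mem (Ideal.subset_span (Or.inl rfl)) (Ideal.subset_span (Or.inr rfl))
      · show RingHom.Etale ((algebraMap T (Localization.Away r)).comp (algebraMap A T))
        rw [show (algebraMap T (Localization.Away r)).comp (algebraMap A T) = algebraMap A (Localization.Away r) from (IsScalarTower.algebraMap_eq A T _).symm,
          RingHom.etale_algebraMap]
        rcases hr with rfl | rfl
        · letI : Algebra T B := (RingHom.fst B (Localization.Away f)).toAlgebra
          haveI : IsScalarTower A T B := IsScalarTower.of_algebraMap_eq fun _ => rfl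
          haveI : IsLocalization.Away ((1 : B), (0 : Localization.Away f)) B :=
            IsLocalization.away_of_isIdempotentElem (by ext <;> simp) (by
              ext ⟨a, b⟩
              simp only [RingHom.mem_ker, Ideal.mem_span_singleton]
              refine ⟨fun (ha : a = 0) => ⟨(0, b), by ext <;> simp [ha]⟩, fun ⟨⟨c, d⟩, hc⟩ => ?_⟩
              have := congrArg Prod.fst hc
              simp at this
              exact this)
              (fun x => ⟨(x, 0), rfl⟩)
          exact Algebra.Etale.of_equiv ((IsLocalization.algEquiv (Submonoid.powers ((1 : B), (0 : Localization.Away f))) B _).restrictScalars A)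
        · letI : Algebra T (Localization.Away f) := (RingHom.snd B (Localization.Away f)).toAlgebra
          haveI : IsScalarTower A T (Localization.Away f) := IsScalarTower.of_algebraMap_eq fun _ => rfl
          haveI : IsLocalization.Away ((0 : B), (1 : Localization.Away f)) (Localization.Away f) :=
            IsLocalization.away_of_isIdempotentElem (by ext <;> simp) (by
              ext ⟨a, b⟩
              simp only [RingHom.mem_ker, Ideal.mem_span_singleton]
              refine ⟨fun (ha : b = 0) => ⟨(a, 0), by ext <;> simp [ha]⟩, fun ⟨⟨c, d⟩, hc⟩ => ?_⟩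
              have := congrArg Prod.snd hc
              simp at this
              exact this)
              (fun x => ⟨(0, x), rfl⟩)
          exact Algebra.Etale.of_equiv ((IsLocalization.algEquiv (Submonoid.powers ((0 : B), (1 : Localization.Away f))) (Localization.Away f) _).restrictScalars A)
    haveI : Module.Flat A T := inferInstance
    have hT : Module.FaithfullyFlat A T := Module.FaithfullyFlat.of_comap_surjective (fun p => by
      by_cases hp : p ∈ Set.range (PrimeSpectrum.comap (algebraMap A B))
      · obtain ⟨Q, rfl⟩ := hp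
        exact ⟨PrimeSpectrum.comap (RingHom.fst B (Localization.Away f)) Q, PrimeSpectrum.ext (by ext; rfl)⟩
      · have hp' : p ∈ PrimeSpectrum.zeroLocus (K : Set A) := hK ▸ hp
        have hfp : f ∉ p.asIdeal := fun hfp => p.isPrime.ne_top ((Ideal.eq_top_iff_one _).2 (hfk ▸ add_mem hfp (hp' hk)))
        obtain ⟨Q, hQ⟩ : p ∈ Set.range (PrimeSpectrum.comap (algebraMap A (Localization.Away f))) := by
          rw [PrimeSpectrum.localization_away_comap_range (Localization.Away f) f]; exact hfp
        exact ⟨PrimeSpectrum.comap (RingHom.snd B (Localization.Away f)) Q, (PrimeSpectrum.ext (by ext; rfl)).trans hQ⟩)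
    obtain ⟨ρ⟩ := h T hT inferInstance
    let π : T →ₐ[A] Am := (IsScalarTower.toAlgHom A A Am).comp ρ
    have h0 : π (0, 1) = 0 := by
      have hidem : IsIdempotentElem (ρ (0, 1)) := by
        rw [IsIdempotentElem, ← map_mul, Prod.mk_mul_mk, mul_one, mul_zero]
      obtain ⟨v, hv⟩ := (IsLocalization.Away.algebraMap_isUnit f (S := Localization.Away f)).exists_left_inv
      have he : ((0, 1) : T) = f • ((0, v) : T) := by
        rw [Algebra.smul_def]; ext <;> simp [mul_comm _ v, hv]
      have hm : ρ (0, 1) ∈ m := by
        rw [he, map_smul, smul_eq_mul]; exact Ideal.mul_mem_right _ _ hf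
      have hu : IsUnit (algebraMap A Am (1 - ρ (0, 1))) := IsLocalization.map_units Am (⟨1 - ρ (0, 1), fun hmem =>
        (Ideal.IsPrime.ne_top inferInstance) ((Ideal.eq_top_iff_one m).2 (by simpa using add_mem hmem hm))⟩ : m.primeCompl)
      refine hu.mul_left_eq_zero.mp ?_
      show algebraMap A Am (ρ (0, 1)) * _ = 0
      rw [← map_mul, mul_sub, mul_one, hidem, sub_self, map_zero]
    refine ⟨{
      toFun := fun s => π (s, 0)
      map_one' := by
        have := map_add π (1, 0) (0, 1)
        rw [h0, add_zero] at this
        rw [← this, Prod.mk_add_mk, add_zero, zero_add]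
        exact map_one π
      map_zero' := map_zero π
      map_mul' := fun a b => by rw [← map_mul, Prod.mk_mul_mk, mul_zero]
      map_add' := fun a b => by rw [← map_add, Prod.mk_add_mk, add_zero]
      commutes' := fun a => by
        have := map_add π (algebraMap A B a, 0) ((0, algebraMap A (Localization.Away f) a))
        rw [show π (0, algebraMap A (Localization.Away f) a) = 0 by
          rw [show ((0, algebraMap A (Localization.Away f) a) : T) = a • ((0, 1) : T) by
            rw [Algebra.smul_def]; ext <;> simp, map_smul, h0, smul_zero], add_zero] at this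
        rw [← this, Prod.mk_add_mk, add_zero, zero_add]
        exact π.commutes a }⟩
  let k := IsLocalRing.ResidueField Am
  have hres : Function.Surjective (algebraMap A k) := fun y => by
    obtain ⟨z, hz⟩ := (Ideal.bijective_algebraMap_quotient_residueField m).2 y
    obtain ⟨a, rfl⟩ := Ideal.Quotient.mk_surjective z
    exact ⟨a, (IsScalarTower.algebraMap_apply A (A ⧸ m) m.ResidueField a).trans hz⟩
  have hker : ∀ a : A, algebraMap A k a = 0 ↔ a ∈ m := fun a => Ideal.algebraMap_residueField_eq_zero
  -- key: roots in `A_m` of standard étale pairs with a point in `k`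
  have hroot : ∀ (P : StandardEtalePair A) (y : k), P.HasMap y → ∃ x : Am, P.HasMap x := fun P y hy => by
    obtain ⟨ρ⟩ := hsec P.Ring (RingHom.ker (P.lift y hy).toRingHom) (RingHom.ker_isPrime _) (by
      ext a
      show P.lift y hy (algebraMap A P.Ring a) = 0 ↔ a ∈ m
      rw [AlgHom.commutes]; exact hker a)
    exact ⟨ρ P.X, P.hasMap_X.map ρ⟩
  haveI : HenselianLocalRing Am := ⟨fun f hf a₀ h₁ h₂ => by
    classical
    obtain ⟨⟨s, hs⟩, hsf⟩ := IsLocalization.exist_integer_multiples_of_finset m.primeCompl (f.coeffs)
    let u := algebraMap A Am s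
    have hu : IsUnit u := IsLocalization.map_units Am (⟨s, hs⟩ : m.primeCompl)
    let q := scaleRoots f u
    have hql : q ∈ Polynomial.lifts (algebraMap A Am) := by
      rw [Polynomial.lifts_iff_coeff_lifts]
      intro i
      rw [coeff_scaleRoots]
      rcases Nat.lt_or_ge i f.natDegree with hi | hi
      · by_cases h0 : f.coeff i = 0
        · exact ⟨0, by rw [h0, map_zero, zero_mul]⟩
        · obtain ⟨c, hc⟩ := hsf _ (Polynomial.coeff_mem_coeffs h0)
          rw [Algebra.smul_def] at hc
          obtain ⟨d, hd⟩ := Nat.exists_eq_add_of_lt hi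
          refine ⟨c * s ^ d, ?_⟩
          rw [map_mul, map_pow, hc, show f.natDegree - i = d + 1 by omega]
          ring
      · refine ⟨if i = f.natDegree then 1 else 0, ?_⟩
        rcases eq_or_lt_of_le hi with rfl | hlt
        · simp [hf.coeff_natDegree]
        · simp [coeff_eq_zero_of_natDegree_lt hlt, hlt.ne']
    obtain ⟨F, hFmap, -, hFm⟩ := Polynomial.lifts_and_degree_eq_and_monic hql ((monic_scaleRoots_iff u).2 hf)
    obtain ⟨a, ha⟩ := hres (IsLocalRing.residue Am (u * a₀))
    have hb : ∀ G : A[X], algebraMap A k (G.eval a) = IsLocalRing.residue Am ((G.map (algebraMap A Am)).eval (u * a₀)) := fun G => by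
      rw [← Polynomial.eval_map_apply, ha, ← Polynomial.eval_map_apply, Polynomial.map_map]
      rfl
    have hFa : algebraMap A k (F.eval a) = 0 := by
      rw [hb, hFmap, show q.eval (u * a₀) = u ^ f.natDegree * f.eval a₀ from scaleRoots_eval₂_mul (RingHom.id Am) a₀ u]
      exact (IsLocalRing.residue_eq_zero_iff _).2 (Ideal.mul_mem_left _ _ h₁)
    have hder : q.derivative.eval (u * a₀) * u = u ^ f.natDegree * f.derivative.eval a₀ := by
      have h3 : q.comp (C u * X) = C (u ^ f.natDegree) * f := by
        have := scaleRoots_eval₂_mul (p := f) (C : Am →+* Am[X]) X u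
        simpa [Polynomial.comp, eval₂_C_X, map_pow] using this
      have h4 := congrArg (fun p => (derivative p).eval a₀) h3
      simp only [derivative_C_mul, eval_mul, eval_C] at h4
      rw [← h4, derivative_comp, derivative_C_mul, derivative_X, mul_one, eval_mul, eval_C, eval_comp, eval_mul, eval_C, eval_X]
      ring
    have hF' : algebraMap A k (F.derivative.eval a) ≠ 0 := by
      rw [hb, ← derivative_map, hFmap, Ne, IsLocalRing.residue_eq_zero_iff, IsLocalRing.mem_maximalIdeal, mem_nonunits_iff, not_not]
      exact isUnit_of_mul_isUnit_left (hder ▸ (hu.pow _).mul h₂)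
    let G := (F - C (F.eval a)) /ₘ (X - C a)
    have hG : (X - C a) * G = F - C (F.eval a) := mul_divByMonic_eq_iff_isRoot.2 (by simp [IsRoot])
    have hGa : algebraMap A k (G.eval a) = algebraMap A k (F.derivative.eval a) := by
      have := congrArg (fun p => (derivative p).eval a) hG
      simp at this
      rw [this]
    let P : StandardEtalePair A := ⟨F, hFm, derivative F * G, G, 0, 1, by ring⟩
    obtain ⟨x, hx1, hx2⟩ := hroot P (algebraMap A k a) ⟨by rw [aeval_algebraMap_apply_eq_algebraMap_eval]; exact hFa, by
      rw [aeval_algebraMap_apply_eq_algebraMap_eval]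
      show IsUnit (algebraMap A k ((derivative F * G).eval a))
      rw [eval_mul, map_mul, hGa]
      exact isUnit_iff_ne_zero.2 (mul_ne_zero hF' hF')⟩
    have hx1' : q.eval x = 0 := by
      rw [← hFmap, eval_map_algebraMap]; exact hx1
    have hxa : x - algebraMap A Am a ∈ IsLocalRing.maximalIdeal Am := by
      have h5 := congrArg (aeval x) hG
      simp only [map_mul, map_sub, aeval_X, aeval_C] at h5
      have hGu : IsUnit (aeval x G) := by
        have : IsUnit (aeval x (derivative F) * aeval x G) := by rw [← map_mul]; exact hx2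
        exact isUnit_of_mul_isUnit_right this
      rw [show aeval x P.f = aeval x F from rfl] at hx1
      rw [hx1, zero_sub] at h5
      have h6 : (x - algebraMap A Am a) * aeval x G ∈ IsLocalRing.maximalIdeal Am := by
        rw [h5, neg_mem_iff, ← IsLocalRing.residue_eq_zero_iff]
        exact hFa
      exact ((IsLocalRing.maximalIdeal.isMaximal Am).isPrime.mem_or_mem h6).resolve_right (fun hmem => hmem hGu)
    refine ⟨↑hu.unit⁻¹ * x, ?_, ?_⟩
    · have h7 := scaleRoots_eval₂_mul (p := f) (RingHom.id Am) (↑hu.unit⁻¹ * x) u
      rw [← mul_assoc, IsUnit.mul_val_inv, one_mul] at h7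
      exact (hu.pow _).mul_right_eq_zero.mp (h7.symm.trans hx1')
    · have h8 : x - u * a₀ ∈ IsLocalRing.maximalIdeal Am := by
        rw [← IsLocalRing.residue_eq_zero_iff, map_sub, ← ha]
        rw [← IsLocalRing.residue_eq_zero_iff, map_sub] at hxa
        exact hxa
      have h9 : ↑hu.unit⁻¹ * x - a₀ = ↑hu.unit⁻¹ * (x - u * a₀) := by
        rw [mul_sub, ← mul_assoc, IsUnit.val_inv_mul, one_mul]
      rw [h9]
      exact Ideal.mul_mem_left _ _ h8⟩
  refine ⟨inferInstance, IsSepClosed.of_exists_root k fun g hg _ hsep => ?_⟩
  obtain ⟨F, hFmap, -, hFm⟩ := Polynomial.lifts_and_degree_eq_and_monic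
    (show g ∈ Polynomial.lifts (algebraMap A k) from (Polynomial.mem_lifts g).2 (Polynomial.map_surjective _ hres g)) hg
  by_cases hd : g.degree = 0
  · exact absurd (eq_C_of_degree_eq_zero hd) fun hC => by
      have := ‹Irreducible g›.not_isUnit
      exact this ((Polynomial.isUnit_iff_degree_eq_zero).2 hd)
  let L := AlgebraicClosure k
  obtain ⟨y, hy⟩ := IsAlgClosed.exists_aeval_eq_zero L g hd
  let P : StandardEtalePair A := ⟨F, hFm, derivative F, 1, 0, 1, by ring⟩
  have hy1 : aeval y F = 0 := by
    rw [← aeval_map_algebraMap k y F, hFmap]; exact hy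
  have hy2 : IsUnit (aeval y (derivative F)) := by
    rw [← aeval_map_algebraMap k y (derivative F), ← derivative_map, hFmap]
    exact isUnit_iff_ne_zero.2 (hsep.aeval_derivative_ne_zero hy)
  obtain ⟨ρ⟩ := hsec P.Ring (RingHom.ker (P.lift y ⟨hy1, hy2⟩).toRingHom) (RingHom.ker_isPrime _) (by
    ext a
    show P.lift y ⟨hy1, hy2⟩ (algebraMap A P.Ring a) = 0 ↔ a ∈ m
    rw [AlgHom.commutes, IsScalarTower.algebraMap_apply A k L, map_eq_zero]
    exact hker a)
  refine ⟨algebraMap Am k (ρ P.X), ?_⟩
  have h1 : aeval (ρ P.X) F = 0 := (P.hasMap_X.map ρ).1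
  rw [← hFmap, eval_map_algebraMap, aeval_algebraMap_apply, h1, map_zero]

end Groth.Agent.S0675
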