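import Groth.Statements.S0676
import Mathlib
import Groth.Prelude.Def_ProEtW
import Groth.Agent.S9436

set_option autoImplicit false
open CategoryTheory CategoryTheory.Limits AlgebraicGeometry Opposite Topology
universe u
open ProEtW

namespace Groth.Agent.S0676
open TensorProduct
set_option maxHeartbeats 1000000
set_option synthInstance.maxHeartbeats 400000
set_option backward.isDefEq.respectTransparency.types false

/-- If every faithfully flat etale A-algebra has an A-algebra retraction, then the same holds for the
quotient ring A/I for every ideal I. -/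
theorem result (A : Type u) [CommRing A]
    (h : ProEtW.HasEtaleRetractions A) (I : Ideal A) :
    ProEtW.HasEtaleRetractions (A ⧸ I) := by
  intro B _ _ hff het
  haveI := hff
  haveI := het
  obtain ⟨S, _, _, _, ⟨e⟩⟩ := Groth.Agent.S9436.result A I B
  have hopen : IsOpen (Set.range (PrimeSpectrum.comap (algebraMap A S))) := by
    exact (PrimeSpectrum.isOpenMap_comap_of_hasGoingDown_of_finitePresentation (R := A) (S := S)).isOpen_range
  obtain ⟨K, hK⟩ := (PrimeSpectrum.isClosed_iff_zeroLocus_ideal _).1 (isClosed_compl_iff.2 hopen)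
  have hIK : I ⊔ K = ⊤ := by
    by_contra hne
    obtain ⟨M, hM, hle⟩ := Ideal.exists_le_maximal _ hne
    let q : PrimeSpectrum A := ⟨M, hM.isPrime⟩
    have hqK : q ∈ PrimeSpectrum.zeroLocus (K : Set A) := fun x hx => hle (Ideal.mem_sup_right hx)
    rw [← hK] at hqK
    apply hqK
    haveI : (M.map (Ideal.Quotient.mk I)).IsPrime :=
      Ideal.map_isPrime_of_surjective Ideal.Quotient.mk_surjective (by rw [Ideal.mk_ker]; exact fun x hx => hle (Ideal.mem_sup_left hx))
    obtain ⟨Q, hQ⟩ := PrimeSpectrum.comap_surjective_of_faithfullyFlat (A := A ⧸ I) (B := B) ⟨M.map (Ideal.Quotient.mk I), inferInstance⟩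
    refine ⟨PrimeSpectrum.comap (e.toAlgHom.toRingHom.comp Algebra.TensorProduct.includeRight.toRingHom) Q, ?_⟩
    apply PrimeSpectrum.ext
    ext a
    have ha : e ((1 : A ⧸ I) ⊗ₜ[A] algebraMap A S a) = algebraMap (A ⧸ I) B (Ideal.Quotient.mk I a) := by
      rw [Algebra.algebraMap_eq_smul_one, ← TensorProduct.smul_tmul, ← e.commutes]
      congr 1
      simp [Algebra.smul_def]
    show e ((1 : A ⧸ I) ⊗ₜ[A] algebraMap A S a) ∈ Q.asIdeal ↔ a ∈ M
    rw [ha]
    have := congrArg PrimeSpectrum.asIdeal hQ
    simp only [PrimeSpectrum.comap_asIdeal] at this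
    rw [← Ideal.mem_comap, this, ← Ideal.mem_comap, Ideal.comap_map_of_surjective _ Ideal.Quotient.mk_surjective,
      ← RingHom.ker_eq_comap_bot, Ideal.mk_ker, sup_of_le_left (fun x hx => hle (Ideal.mem_sup_left hx))]
  obtain ⟨f, hf, k, hk, hfk⟩ := Submodule.mem_sup.1 ((Ideal.eq_top_iff_one _).1 hIK)
  haveI : Algebra.Etale A (Localization.Away f) := Algebra.Etale.of_isLocalizationAway f
  let T := S × Localization.Away f
  haveI : Algebra.Etale A T := by
    refine RingHom.etale_algebraMap.mp (RingHom.Etale.ofLocalizationSpanTarget (algebraMap A T) {((1 : S), (0 : Localization.Away f)), ((0 : S), (1 : Localization.Away f))} ?_ fun ⟨r, hr⟩ => ?_)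
    · refine (Ideal.eq_top_iff_one _).2 ?_
      rw [show (1 : T) = ((1 : S), (0 : Localization.Away f)) + ((0 : S), (1 : Localization.Away f)) by ext <;> simp]
      exact add_mem (Ideal.subset_span (Or.inl rfl)) (Ideal.subset_span (Or.inr rfl))
    · show RingHom.Etale ((algebraMap T (Localization.Away r)).comp (algebraMap A T))
      rw [show (algebraMap T (Localization.Away r)).comp (algebraMap A T) = algebraMap A (Localization.Away r) from (IsScalarTower.algebraMap_eq A T _).symm,
        RingHom.etale_algebraMap]
      rcases hr with rfl | rfl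
      · letI : Algebra T S := (RingHom.fst S (Localization.Away f)).toAlgebra
        haveI : IsScalarTower A T S := IsScalarTower.of_algebraMap_eq fun _ => rfl
        haveI : IsLocalization.Away ((1 : S), (0 : Localization.Away f)) S :=
          IsLocalization.away_of_isIdempotentElem (by ext <;> simp) (by
            ext ⟨a, b⟩
            simp only [RingHom.mem_ker, Ideal.mem_span_singleton]
            refine ⟨fun (ha : a = 0) => ⟨(0, b), by ext <;> simp [ha]⟩, fun ⟨⟨c, d⟩, hc⟩ => ?_⟩
            have := congrArg Prod.fst hc
            simp at this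
            exact this)
            (fun x => ⟨(x, 0), rfl⟩)
        exact Algebra.Etale.of_equiv ((IsLocalization.algEquiv (Submonoid.powers ((1 : S), (0 : Localization.Away f))) S _).restrictScalars A)
      · letI : Algebra T (Localization.Away f) := (RingHom.snd S (Localization.Away f)).toAlgebra
        haveI : IsScalarTower A T (Localization.Away f) := IsScalarTower.of_algebraMap_eq fun _ => rfl
        haveI : IsLocalization.Away ((0 : S), (1 : Localization.Away f)) (Localization.Away f) :=
          IsLocalization.away_of_isIdempotentElem (by ext <;> simp) (by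
            ext ⟨a, b⟩
            simp only [RingHom.mem_ker, Ideal.mem_span_singleton]
            refine ⟨fun (ha : b = 0) => ⟨(a, 0), by ext <;> simp [ha]⟩, fun ⟨⟨c, d⟩, hc⟩ => ?_⟩
            have := congrArg Prod.snd hc
            simp at this
            exact this)
            (fun x => ⟨(0, x), rfl⟩)
        exact Algebra.Etale.of_equiv ((IsLocalization.algEquiv (Submonoid.powers ((0 : S), (1 : Localization.Away f))) (Localization.Away f) _).restrictScalars A)
  haveI : Module.Flat A T := inferInstance
  have hT : Module.FaithfullyFlat A T := Module.FaithfullyFlat.of_comap_surjective (fun p => by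
    by_cases hp : p ∈ Set.range (PrimeSpectrum.comap (algebraMap A S))
    · obtain ⟨Q, rfl⟩ := hp
      exact ⟨PrimeSpectrum.comap (RingHom.fst S (Localization.Away f)) Q, PrimeSpectrum.ext (by ext; rfl)⟩
    · have hp' : p ∈ PrimeSpectrum.zeroLocus (K : Set A) := hK ▸ hp
      have hfp : f ∉ p.asIdeal := fun hfp => p.isPrime.ne_top ((Ideal.eq_top_iff_one _).2 (hfk ▸ add_mem hfp (hp' hk)))
      obtain ⟨Q, hQ⟩ : p ∈ Set.range (PrimeSpectrum.comap (algebraMap A (Localization.Away f))) := by
        rw [PrimeSpectrum.localization_away_comap_range (Localization.Away f) f]; exact hfp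
      exact ⟨PrimeSpectrum.comap (RingHom.snd S (Localization.Away f)) Q, (PrimeSpectrum.ext (by ext; rfl)).trans hQ⟩)
  obtain ⟨ρ⟩ := h T hT inferInstance
  let π : T →ₐ[A] A ⧸ I := (Ideal.Quotient.mkₐ A I).comp ρ
  have h0 : π (0, 1) = 0 := by
    obtain ⟨v, hv⟩ := (IsLocalization.Away.algebraMap_isUnit f (S := Localization.Away f)).exists_left_inv
    have : ((0, 1) : T) = f • ((0, v) : T) := by
      rw [Algebra.smul_def]
      ext <;> simp [mul_comm _ v, hv]
    rw [this, map_smul, Algebra.smul_def, Ideal.Quotient.algebraMap_eq, Ideal.Quotient.eq_zero_iff_mem.2 hf, zero_mul]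
  let g : S →ₐ[A] A ⧸ I :=
    { toFun := fun s => π (s, 0)
      map_one' := by
        have := map_add π (1, 0) (0, 1)
        rw [h0, add_zero] at this
        rw [← this, Prod.mk_add_mk, add_zero, zero_add]
        exact map_one π
      map_zero' := map_zero π
      map_mul' := fun a b => by rw [← map_mul, Prod.mk_mul_mk, mul_zero]
      map_add' := fun a b => by rw [← map_add, Prod.mk_add_mk, add_zero]
      commutes' := fun a => by
        have := map_add π (algebraMap A S a, 0) ((0, algebraMap A (Localization.Away f) a))
        rw [show π (0, algebraMap A (Localization.Away f) a) = 0 by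
          rw [show ((0, algebraMap A (Localization.Away f) a) : T) = a • ((0, 1) : T) by
            rw [Algebra.smul_def]; ext <;> simp, map_smul, h0, smul_zero], add_zero] at this
        rw [← this, Prod.mk_add_mk, add_zero, zero_add]
        exact π.commutes a }
  exact ⟨((Algebra.TensorProduct.lift (Algebra.ofId (A ⧸ I) (A ⧸ I)) g fun _ _ => Commute.all _ _).comp e.symm.toAlgHom)⟩

end Groth.Agent.S0676
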