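import Groth.Statements.S0693
import Mathlib
import Groth.Prelude.Def_PBC
import Groth.Prelude.Def_ProEtW
import Groth.Agent.Lib.H2IndEtale
import Groth.Agent.Lib.H2IndEtaleLift
import Groth.Agent.Lib.H4Henselization

set_option autoImplicit false
open CategoryTheory CategoryTheory.Limits AlgebraicGeometry Opposite Topology
universe u
open ProEtW

namespace Groth.Agent.S0693
open TensorProduct
set_option maxHeartbeats 1000000
set_option synthInstance.maxHeartbeats 400000
set_option backward.isDefEq.respectTransparency.types false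

/-- Every ring A admits a faithfully flat ind-etale extension C over which all faithfully flat etale
algebras have retractions. -/
theorem result (A : Type u) [CommRing A] :
    ∃ (C : Type u) (_ : CommRing C) (_ : Algebra A C),
      Module.FaithfullyFlat A C ∧ EtPBC.IsIndEtale A C ∧ ProEtW.HasEtaleRetractions C := by
  classical
  let L : PrimeSpectrum A → Type u := fun p => SeparableClosure p.asIdeal.ResidueField
  let K : Type u := Π p, L p
  let C := Groth.Agent.H4Henzn.Ring A K
  have key : ∀ m : List C, ∃ X : Groth.Agent.H4Henzn.Nbhd A K, ∀ b ∈ m, ∃ x, Groth.Agent.H4Henzn.ι X x = b := fun m => by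
    induction m with
    | nil => exact ⟨Classical.choice (Groth.Agent.H4Henzn.nonempty A K), by simp⟩
    | cons b m ih =>
      obtain ⟨X, hX⟩ := ih
      obtain ⟨Z, φ, z, hz⟩ := Groth.Agent.H4Henzn.exists_rep₂ X b
      refine ⟨Z, fun c hc => ?_⟩
      rcases List.mem_cons.1 hc with rfl | hc
      · exact ⟨z, hz⟩
      · obtain ⟨x, rfl⟩ := hX c hc
        exact ⟨φ.f x, Groth.Agent.H4Henzn.ι_map φ x⟩
  have hcov : Groth.Agent.H2EtaleCover.Covered A C := fun l => by
    obtain ⟨X, hX⟩ := key l
    exact ⟨X.ring, inferInstance, inferInstance, X.etale, Groth.Agent.H4Henzn.ι X, hX⟩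
  have hC : EtPBC.IsIndEtale A C := Groth.Agent.H2IndEtale.isIndEtale_of_covered hcov inferInstance
  let π : C →ₐ[A] K := Groth.Agent.H4Henzn.toK A K
  refine ⟨C, inferInstance, inferInstance, Module.FaithfullyFlat.of_comap_surjective fun p => ?_, hC, ?_⟩
  · refine ⟨⟨RingHom.ker ((Pi.evalRingHom L p).comp π.toRingHom), RingHom.ker_isPrime _⟩, PrimeSpectrum.ext ?_⟩
    ext a
    show π (algebraMap A C a) p = 0 ↔ a ∈ p.asIdeal
    rw [AlgHom.commutes]
    show algebraMap A (L p) a = 0 ↔ _
    rw [IsScalarTower.algebraMap_apply A p.asIdeal.ResidueField (L p), map_eq_zero, Ideal.algebraMap_residueField_eq_zero]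
  · intro B _ _ hff het
    haveI := hff
    haveI := het
    letI : Algebra A B := ((algebraMap C B).comp (algebraMap A C)).toAlgebra
    haveI : IsScalarTower A C B := IsScalarTower.of_algebraMap_eq fun _ => rfl
    have hCB : Groth.Agent.H2EtaleCover.Covered C B := fun l =>
      ⟨B, inferInstance, inferInstance, het, AlgHom.id C B, fun t _ => ⟨t, rfl⟩⟩
    have hcovB := Groth.Agent.H2IndEtale.covered_trans hcov inferInstance hCB
    have hB : EtPBC.IsIndEtale A B :=
      Groth.Agent.H2IndEtale.isIndEtale_of_covered hcovB (Module.Flat.trans A C B)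
    have hpt : ∀ p, ∃ g : B →+* L p, ∀ c, g (algebraMap C B c) = π c p := fun p => by
      let χ : C →+* L p := (Pi.evalRingHom L p).comp π.toRingHom
      letI : Algebra C (L p) := χ.toAlgebra
      haveI : Nontrivial (L p ⊗[C] B) := Module.FaithfullyFlat.rTensor_nontrivial C B (L p) |> fun h => by
        exact inferInstance
      obtain ⟨M, hM⟩ := Ideal.exists_maximal (L p ⊗[C] B)
      haveI : Algebra.Etale (L p) (L p ⊗[C] B) := inferInstance
      letI : Field ((L p ⊗[C] B) ⧸ M) := Ideal.Quotient.field M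
      haveI : Algebra.FormallyUnramified (L p) ((L p ⊗[C] B) ⧸ M) :=
        Algebra.FormallyUnramified.of_surjective (Ideal.Quotient.mkₐ (L p) M) Ideal.Quotient.mk_surjective
      haveI : Algebra.EssFiniteType (L p) ((L p ⊗[C] B) ⧸ M) := inferInstance
      haveI : Algebra.IsSeparable (L p) ((L p ⊗[C] B) ⧸ M) := Algebra.FormallyUnramified.isSeparable (L p) _
      have hb : Function.Bijective (algebraMap (L p) ((L p ⊗[C] B) ⧸ M)) :=
        ⟨(algebraMap (L p) _).injective, IsSepClosed.algebraMap_surjective _ _⟩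
      refine ⟨((RingEquiv.ofBijective _ hb).symm.toRingHom.comp (Ideal.Quotient.mk M)).comp
        Algebra.TensorProduct.includeRight.toRingHom, fun c => ?_⟩
      show (RingEquiv.ofBijective _ hb).symm (Ideal.Quotient.mk M ((1 : L p) ⊗ₜ[C] algebraMap C B c)) = χ c
      rw [RingEquiv.symm_apply_eq]
      show _ = Ideal.Quotient.mk M ((χ c) ⊗ₜ[C] (1 : B))
      rw [Algebra.algebraMap_eq_smul_one, ← TensorProduct.smul_tmul, Algebra.smul_def, mul_one]
      rfl
    choose g hg using hpt
    have hgc : ∀ (a : A) p, g p (algebraMap C B (algebraMap A C a)) = algebraMap A K a p := fun a p => by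
      rw [hg, AlgHom.commutes]
    let G : B →ₐ[A] K := { RingHom.pi g with commutes' := fun a => funext fun p => hgc a p }
    have hG : ∀ b, ∃ c, π c = G b := fun b => by
      obtain ⟨X, _, _, _, f, hf⟩ := hcovB [b]
      obtain ⟨x, rfl⟩ := hf b (List.mem_singleton_self _)
      obtain ⟨Z, e, he⟩ := Groth.Agent.H4Henzn.exists_nbhd X (G.comp f)
      exact ⟨Groth.Agent.H4Henzn.ι Z (e.symm x), (Groth.Agent.H4Henzn.toK_ι Z _).trans (by rw [he, AlgEquiv.apply_symm_apply]; rfl)⟩
    let J := RingHom.ker π.toRingHom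
    let πb : (C ⧸ J) →ₐ[A] K := Ideal.Quotient.liftₐ J π fun a ha => ha
    have hπb : Function.Injective πb := (injective_iff_map_eq_zero _).2 fun q hq => by
      obtain ⟨c, rfl⟩ := Ideal.Quotient.mk_surjective q
      exact Ideal.Quotient.eq_zero_iff_mem.2 hq
    choose c0 hc0 using hG
    let τ : B →ₐ[A] C ⧸ J :=
      { toFun := fun b => Ideal.Quotient.mk J (c0 b)
        map_one' := hπb (by show π (c0 1) = πb 1; rw [hc0, map_one, map_one])
        map_zero' := hπb (by show π (c0 0) = πb 0; rw [hc0, map_zero, map_zero])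
        map_mul' := fun a b => hπb (by rw [map_mul πb]; show π (c0 (a * b)) = π (c0 a) * π (c0 b); rw [hc0, hc0, hc0, map_mul])
        map_add' := fun a b => hπb (by rw [map_add πb]; show π (c0 (a + b)) = π (c0 a) + π (c0 b); rw [hc0, hc0, hc0, map_add])
        commutes' := fun a => hπb (by show π (c0 (algebraMap A B a)) = πb _; rw [hc0, AlgHom.commutes, AlgHom.commutes]) }
    obtain ⟨φ, hφ, -⟩ := Groth.Agent.H2IndEtaleLift.existsUnique_lift hB C J τ
    obtain ⟨ψ, -, hψu⟩ := Groth.Agent.H2IndEtaleLift.existsUnique_lift hC C J (Ideal.Quotient.mkₐ A J)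
    have h1 : φ.comp (IsScalarTower.toAlgHom A C B) = AlgHom.id A C := (hψu _ (AlgHom.ext fun c => hπb (by
      show π (φ (algebraMap C B c)) = π c
      have h2 : Ideal.Quotient.mk J (φ (algebraMap C B c)) = Ideal.Quotient.mk J (c0 (algebraMap C B c)) := AlgHom.congr_fun hφ _
      have h3 := congrArg πb h2
      refine h3.trans ?_
      show π (c0 _) = π c
      rw [hc0]
      exact funext fun p => hg p c))).trans (hψu _ rfl).symm
    exact ⟨{ φ.toRingHom with commutes' := fun c => AlgHom.congr_fun h1 c }⟩

end Groth.Agent.S0693
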