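import Groth.Statements.S0701
import Mathlib

set_option autoImplicit false
set_option backward.isDefEq.respectTransparency.types false
open CategoryTheory CategoryTheory.Limits AlgebraicGeometry Opposite Topology
universe u
open ProEtW

namespace Groth.Agent.S0701

/-- Let Spec A be profinite (quasi-compact, Hausdorff, totally disconnected) and A -> B a ring map such
that two distinct primes of B over the same prime of A are never comparable. Then Spec B is
profinite. -/
theorem result (A B : Type u) [CommRing A] [CommRing B]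
    [Algebra A B] [T2Space (PrimeSpectrum A)] [TotallyDisconnectedSpace (PrimeSpectrum A)]
    (h : ∀ q q' : PrimeSpectrum B, q.asIdeal.comap (algebraMap A B) = q'.asIdeal.comap (algebraMap A B) →
      q.asIdeal ≤ q'.asIdeal → q = q') :
    ProEtW.IsProfinite (PrimeSpectrum B) := by
  have hmax : ∀ q : PrimeSpectrum B, q.asIdeal.IsMaximal := fun q => by
    obtain ⟨m, hm, hle⟩ := Ideal.exists_le_maximal q.asIdeal q.isPrime.ne_top
    let pa : PrimeSpectrum A := PrimeSpectrum.comap (algebraMap A B) q
    haveI hpa : pa.asIdeal.IsMaximal := (PrimeSpectrum.isClosed_singleton_iff_isMaximal pa).1 isClosed_singleton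
    have e := hpa.eq_of_le (Ideal.comap_ne_top _ hm.ne_top) (Ideal.comap_mono hle)
    have := h q ⟨m, hm.isPrime⟩ e hle
    rw [this]; exact hm
  haveI : Ring.KrullDimLE 0 B := Ring.KrullDimLE.mk₀ fun I hI => hmax ⟨I, hI⟩
  have hcl : ∀ f : B, IsClopen ((PrimeSpectrum.basicOpen f : TopologicalSpace.Opens (PrimeSpectrum B)) : Set (PrimeSpectrum B)) := fun f => by
    refine ⟨⟨isOpen_iff_forall_mem_open.2 fun p hp => ?_⟩, (PrimeSpectrum.basicOpen f).isOpen⟩
    have hf : f ∈ p.asIdeal := not_not.1 hp
    haveI : Ring.KrullDimLE 0 (Localization.AtPrime p.asIdeal) :=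
      Ring.KrullDimLE.mk₀ fun I hI => by
        have : I = IsLocalRing.maximalIdeal (Localization.AtPrime p.asIdeal) := by
          apply (IsLocalization.orderEmbedding p.asIdeal.primeCompl (Localization.AtPrime p.asIdeal)).injective
          have hle := Ideal.comap_mono (f := algebraMap B (Localization.AtPrime p.asIdeal)) (IsLocalRing.le_maximalIdeal hI.ne_top)
          haveI := hI
          exact (hmax ⟨I.comap (algebraMap B _), inferInstance⟩).eq_of_le (Ideal.comap_ne_top _ (IsLocalRing.maximalIdeal.isMaximal _).ne_top) hle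
        rw [this]; infer_instance
    have hn : IsNilpotent (algebraMap B (Localization.AtPrime p.asIdeal) f) := by
      rw [← mem_nilradical, Ring.KrullDimLE.nilradical_eq_maximalIdeal]
      exact (IsLocalization.AtPrime.to_map_mem_maximal_iff _ p.asIdeal f).2 hf
    obtain ⟨n, hn⟩ := hn
    rw [← map_pow] at hn
    obtain ⟨⟨s, hs⟩, he⟩ := (IsLocalization.map_eq_zero_iff p.asIdeal.primeCompl _ _).1 hn
    refine ⟨PrimeSpectrum.basicOpen s, fun r hr hr' => hr' (r.isPrime.mem_of_pow_mem n ((r.isPrime.mem_or_mem (he ▸ r.asIdeal.zero_mem : s * f ^ n ∈ r.asIdeal)).resolve_left hr)),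
      (PrimeSpectrum.basicOpen s).isOpen, hs⟩
  haveI : TotallySeparatedSpace (PrimeSpectrum B) := by
    rw [totallySeparatedSpace_iff_exists_isClopen]
    intro p q hpq
    obtain ⟨f, hf, hf'⟩ : ∃ f, f ∈ q.asIdeal ∧ f ∉ p.asIdeal := by
      by_contra hc
      push Not at hc
      exact hpq (PrimeSpectrum.ext ((hmax q).eq_of_le p.isPrime.ne_top hc).symm)
    exact ⟨_, hcl f, hf', fun hq => hq hf⟩
  exact ⟨inferInstance, inferInstance, inferInstance⟩

end Groth.Agent.S0701
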