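import Groth.Statements.S0706
-- import your own Groth.Agent.* helpers here

set_option autoImplicit false
set_option backward.isDefEq.respectTransparency.types false
open CategoryTheory CategoryTheory.Limits AlgebraicGeometry Opposite Topology
universe u
open ProEtW

namespace Groth.Agent.S0706

/-- Let f be an element and I an ideal of A, and Z the intersection of D(f) and V(I) in Spec A. There is
a multiplicative subset S of A for which the image of Spec(S^{-1}A) in Spec A consists precisely of
the points having a specialization in Z. -/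
theorem result (A : Type u) [CommRing A] (f : A) (I : Ideal A) :
    ∃ S : Submonoid A,
      Set.range (PrimeSpectrum.comap (algebraMap A (Localization S))) =
        {x | ∃ z : PrimeSpectrum A,
          z ∈ (PrimeSpectrum.basicOpen f : Set (PrimeSpectrum A)) ∩ PrimeSpectrum.zeroLocus I ∧ x ⤳ z} := by
  let Z : Set (PrimeSpectrum A) := (PrimeSpectrum.basicOpen f : Set (PrimeSpectrum A)) ∩ PrimeSpectrum.zeroLocus I
  let S : Submonoid A :=
    { carrier := {g | ∀ z ∈ Z, g ∉ z.asIdeal}
      one_mem' := fun z _ => z.isPrime.one_notMem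
      mul_mem' := fun {a b} ha hb z hz h => (z.isPrime.mem_or_mem h).elim (ha z hz) (hb z hz) }
  refine ⟨S, ?_⟩
  rw [PrimeSpectrum.localization_comap_range (Localization S) S]
  ext x
  simp only [Set.mem_setOf_eq]
  constructor
  · intro hx
    have hdisj : Disjoint ((x.asIdeal ⊔ I : Ideal A) : Set A) (Submonoid.powers f : Set A) := by
      rw [Set.disjoint_left]
      rintro a ha ⟨n, rfl⟩
      obtain ⟨p, hp, i, hi, hpi⟩ := Submodule.mem_sup.1 ha
      refine Set.disjoint_left.1 hx (show p ∈ S from fun z hz hpz => ?_) hp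
      exact hz.1 (z.isPrime.mem_of_pow_mem n (show f ^ n ∈ z.asIdeal from (show p + i = f ^ n from hpi) ▸ z.asIdeal.add_mem hpz (hz.2 hi)))
    obtain ⟨P, hP, hle, hPd⟩ := Ideal.exists_le_prime_disjoint _ _ hdisj
    exact ⟨⟨P, hP⟩, ⟨fun hf => Set.disjoint_left.1 hPd hf (Submonoid.mem_powers f),
      fun i hi => hle (Submodule.mem_sup_right hi)⟩,
      (PrimeSpectrum.le_iff_specializes x ⟨P, hP⟩).1 (le_sup_left.trans hle)⟩
  · rintro ⟨z, hz, hxz⟩
    rw [Set.disjoint_left]
    exact fun g hg hgx => hg z hz ((PrimeSpectrum.le_iff_specializes x z).2 hxz hgx)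

end Groth.Agent.S0706
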