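import Groth.Statements.S0729
import Mathlib

set_option autoImplicit false
set_option backward.isDefEq.respectTransparency.types false
open CategoryTheory CategoryTheory.Limits AlgebraicGeometry Opposite
universe u
open ProEtS

namespace Groth.Agent.S0729

/-- Every étale covering of a scheme X is a pro-étale covering, in the form used to define the
comparison morphism of sites ε : X_proét → X_ét: the inclusion functor from the small étale site of
X to the small pro-étale site of X is continuous. -/
theorem result (X : Scheme.{u}) : ProEtS.EpsCont X := by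
  haveI : PreservesFiniteLimits (MorphismProperty.Over.forget @Etale ⊤ X) := inferInstance
  haveI : PreservesFiniteLimits (ProEtS.eps X ⋙ Scheme.ProEt.forget X) :=
    preservesFiniteLimits_of_natIso (F := MorphismProperty.Over.forget @Etale ⊤ X) (Iso.refl _)
  haveI : PreservesFiniteLimits (ProEtS.eps X) := ⟨fun J _ _ => by
    haveI : ReflectsLimitsOfShape J (Scheme.ProEt.forget X) := inferInstance
    exact preservesLimitsOfShape_of_reflects_of_preserves (ProEtS.eps X) (Scheme.ProEt.forget X)⟩
  haveI : RepresentablyFlat (ProEtS.eps X) := flat_of_preservesFiniteLimits _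
  refine Functor.isContinuous_of_coverPreserving (compatiblePreservingOfFlat _ _) ⟨fun {U S} hS => ?_⟩
  obtain ⟨ι, Z, f, rfl⟩ := Sieve.exists_eq_ofArrows S
  have hcov := (Scheme.ofArrows_mem_smallEtaleTopology_iff f).1 hS
  have hm : Presieve.ofArrows _ (fun i => (ProEtS.eps X).map (f i)) ∈ Scheme.ProEt.precoverage X ((ProEtS.eps X).obj U) := by
    rw [Scheme.ProEt.precoverage, Precoverage.mem_comap_iff, Presieve.map_ofArrows]
    refine Scheme.etalePrecoverage_le_proetalePrecoverage _ ?_
    rw [Scheme.etalePrecoverage, Scheme.ofArrows_mem_precoverage_iff]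
    refine ⟨fun x => ?_, fun i => show Etale (f i).left from inferInstance⟩
    obtain ⟨i, hi⟩ := Set.mem_iUnion.1 (hcov.ge (Set.mem_univ x))
    exact ⟨i, hi⟩
  refine GrothendieckTopology.superset_covering _ ?_ (Precoverage.generate_mem_toGrothendieck hm)
  rw [Sieve.generate_le_iff]
  rintro _ _ ⟨i⟩
  exact ⟨Z i, f i, 𝟙 _, Sieve.ofArrows_mk _ _ i, (Category.id_comp _).symm⟩

end Groth.Agent.S0729
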