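import Groth.Statements.S0730
import Mathlib

set_option autoImplicit false
set_option backward.isDefEq.respectTransparency.types false
open CategoryTheory CategoryTheory.Limits AlgebraicGeometry Opposite
universe u
open ProEtS

namespace Groth.Agent.S0730

/-- Base changes of pro-étale coverings are pro-étale coverings, in the form used to define the morphism
of sites f_proét : X_proét → Y_proét for a morphism of schemes f : X → Y: the base change functor
from the small pro-étale site of Y to that of X is continuous. -/
theorem result {X Y : Scheme.{u}} (f : X ⟶ Y) : ProEtS.PCont f := by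
  let e : ProEtS.bcP f ⋙ Scheme.ProEt.forget X ≅ Scheme.ProEt.forget Y ⋙ Over.pullback f :=
    NatIso.ofComponents (fun U => Iso.refl _) (fun g => by apply (Over.forget X).map_injective; dsimp; erw [Category.comp_id]; try rfl)
  haveI : PreservesLimitsOfSize.{0, 0} (Over.pullback f) := (Over.mapPullbackAdj f).rightAdjoint_preservesLimits
  haveI : PreservesFiniteLimits (ProEtS.bcP f ⋙ Scheme.ProEt.forget X) := preservesFiniteLimits_of_natIso e.symm
  haveI : PreservesFiniteLimits (ProEtS.bcP f) := ⟨fun J _ _ => by
    haveI : ReflectsLimitsOfShape J (Scheme.ProEt.forget X) := inferInstance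
    exact preservesLimitsOfShape_of_reflects_of_preserves (ProEtS.bcP f) (Scheme.ProEt.forget X)⟩
  haveI : RepresentablyFlat (ProEtS.bcP f) := flat_of_preservesFiniteLimits _
  haveI : (Scheme.ProEt.forget Y ⋙ Over.pullback f).IsContinuous (Scheme.ProEt.topology Y) (Scheme.proetaleTopology.over X) :=
    Functor.isContinuous_comp _ _ _ (Scheme.proetaleTopology.over Y) _
  haveI : (ProEtS.bcP f ⋙ Scheme.ProEt.forget X).IsContinuous (Scheme.ProEt.topology Y) (Scheme.proetaleTopology.over X) :=
    Functor.isContinuous_of_iso e.symm _ _
  have hc := CoverPreserving.of_isContinuous (ProEtS.bcP f ⋙ Scheme.ProEt.forget X) (Scheme.ProEt.topology Y) (Scheme.proetaleTopology.over X)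
  refine Functor.isContinuous_of_coverPreserving (compatiblePreservingOfFlat _ _) ⟨fun {U S} hS => ?_⟩
  have h := hc.cover_preserve hS
  rw [Sieve.functorPushforward_comp] at h
  haveI : (Scheme.ProEt.forget X).IsContinuous ((Scheme.ProEt.forget X).restrictedTopology (Scheme.proetaleTopology.over X)) (Scheme.proetaleTopology.over X) :=
    Functor.isContinuous_of_coverPreserving (compatiblePreservingOfFlat _ _) ((Scheme.ProEt.forget X).coverPreserving_restrictedTopology _)
  rw [Scheme.ProEt.topology_eq_inducedTopology, ← Functor.restrictedTopology_eq_inducedTopology]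
  exact Functor.mem_restrictedTopology_of_functorPushforward_mem h

end Groth.Agent.S0730
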