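import Groth.Statements.S0733
import Mathlib
import Groth.Prelude.Def_PBC
import Groth.Agent.Lib.H2EtaleCover

set_option autoImplicit false
open CategoryTheory CategoryTheory.Limits AlgebraicGeometry Opposite Topology
universe u
open scoped TensorProduct
open ProEtW

namespace Groth.Agent.S0733
open CategoryTheory CategoryTheory.Limits TensorProduct
set_option maxHeartbeats 1000000
set_option synthInstance.maxHeartbeats 400000
set_option backward.isDefEq.respectTransparency.types false

/-- If A -> B is ind-etale (a filtered colimit of etale A-algebras) and A -> A' is any ring map, then A'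
-> A' (x)_A B is ind-etale. -/
theorem result (A B A' : Type u) [CommRing A] [CommRing B] [CommRing A']
    [Algebra A B] [Algebra A A'] (h : EtPBC.IsIndEtale A B) :
    EtPBC.IsIndEtale A' (A' ⊗[A] B) := by
  obtain ⟨φ, rfl⟩ : ∃ φ : A →+* B, ‹Algebra A B› = φ.toAlgebra := ⟨algebraMap A B, Algebra.algebra_ext _ _ fun _ => rfl⟩
  letI : Algebra A B := φ.toAlgebra
  obtain ⟨J, _, _, D, c, hc, het, ⟨e⟩⟩ := h
  let F : Under (CommRingCat.of A) ⥤ Under (CommRingCat.of A') := CommRingCat.tensorProd (CommRingCat.of A) (CommRingCat.of A')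
  haveI : PreservesColimitsOfShape J F :=
    preservesColimitsOfShape_of_natIso (CommRingCat.tensorProdIsoPushout (CommRingCat.of A) (CommRingCat.of A')).symm
  refine ⟨J, inferInstance, inferInstance, D ⋙ F, F.mapCocone c, isColimitOfPreserves F hc, fun j => ?_, ⟨F.mapIso e⟩⟩
  letI : Algebra A (D.obj j).right := (D.obj j).hom.hom.toAlgebra
  haveI : Algebra.Etale A (D.obj j).right := het j
  show @Algebra.Etale A' (A' ⊗[A] (D.obj j).right) _ _ (algebraMap A' (A' ⊗[A] (D.obj j).right)).toAlgebra
  rw [show (algebraMap A' (A' ⊗[A] (D.obj j).right)).toAlgebra = (inferInstance : Algebra A' (A' ⊗[A] (D.obj j).right)) from Algebra.algebra_ext _ _ fun _ => rfl]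
  infer_instance

end Groth.Agent.S0733
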