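import Groth.Statements.S0736
import Mathlib
import Groth.Prelude.Def_Hens2
import Groth.Prelude.Def_PBC
import Groth.Agent.Lib.H2EtaleCover
import Groth.Agent.S12237

set_option autoImplicit false
open CategoryTheory CategoryTheory.Limits AlgebraicGeometry Opposite Topology
universe u
open ProEtW

namespace Groth.Agent.S0736
open CategoryTheory CategoryTheory.Limits AlgebraicGeometry Opposite
set_option maxHeartbeats 1000000
set_option synthInstance.maxHeartbeats 400000
set_option backward.isDefEq.respectTransparency.types false

/-- An ind-etale ring map A -> B is weakly etale (A -> B and B (x)_A B -> B flat), in Mathlib's sense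
Algebra.WeaklyEtale. -/
theorem result (A B : Type u) [CommRing A] [CommRing B] [Algebra A B]
    (h : EtPBC.IsIndEtale A B) : Algebra.WeaklyEtale A B := by
  haveI := Groth.Agent.H2EtaleCover.flat_of_isIndEtale h
  exact Groth.Agent.H2EtaleCover.weaklyEtale (Groth.Agent.H2EtaleCover.covered_of_isIndEtale h)

end Groth.Agent.S0736
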