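import Groth.Statements.S0738
import Mathlib.Topology.Spectral.Prespectral

set_option autoImplicit false
set_option backward.isDefEq.respectTransparency.types false
open Topology
universe u
open ProEtW

namespace Groth.Agent.S0738

/-- A closed subset of a w-local spectral space is w-local (with the subspace topology). -/
theorem result (X : Type u) [TopologicalSpace X] (hX : ProEtW.IsWLocal X)
    (Y : Set X) (hY : IsClosed Y) : ProEtW.IsWLocal ↥Y := by
  haveI := hX.1
  have hi : Topology.IsClosedEmbedding ((↑) : ↥Y → X) := hY.isClosedEmbedding_subtypeVal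
  have hqs : QuasiSeparatedSpace ↥Y := by
    refine QuasiSeparatedSpace.of_isTopologicalBasis (b := fun U : {U : Set X // IsOpen U ∧ IsCompact U} => ((↑) : ↥Y → X) ⁻¹' U.1) ?_ fun U V => ?_
    · convert PrespectralSpace.isTopologicalBasis.isInducing hi.isInducing using 1
      ext W
      constructor
      · rintro ⟨U, rfl⟩; exact ⟨U.1, U.2, rfl⟩
      · rintro ⟨U, hU, rfl⟩; exact ⟨⟨U, hU⟩, rfl⟩
    · rw [← Set.preimage_inter]
      exact hi.isCompact_preimage (QuasiSeparatedSpace.inter_isCompact _ _ U.2.1 U.2.2 V.2.1 V.2.2)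
  have hsp : SpectralSpace ↥Y :=
    { toT0Space := hi.toIsEmbedding.t0Space, toCompactSpace := hi.compactSpace, toQuasiSober := hi.quasiSober,
      toQuasiSeparatedSpace := hqs,
      toPrespectralSpace := PrespectralSpace.of_isClosedEmbedding _ hi }
  have hcl : ∀ y : ↥Y, IsClosed ({y} : Set ↥Y) ↔ IsClosed ({(y : X)} : Set X) := fun y => by
    rw [hi.isClosed_iff_image_isClosed, Set.image_singleton]
  refine ⟨hsp, ?_, fun y => ?_⟩
  · simp_rw [hcl]
    exact hX.2.1.preimage continuous_subtype_val
  · obtain ⟨z, ⟨hz, hyz⟩, huniq⟩ := hX.2.2 y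
    refine ⟨⟨z, hY.stableUnderSpecialization hyz y.2⟩, ⟨(hcl _).2 hz, subtype_specializes_iff _ _ |>.2 hyz⟩, fun w hw => ?_⟩
    exact Subtype.ext (huniq w ⟨(hcl w).1 hw.1, (subtype_specializes_iff _ _).1 hw.2⟩)

end Groth.Agent.S0738
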