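import Groth.Statements.S0754
import Mathlib
import Groth.Prelude.Def_Hens2
import Groth.Prelude.Def_PBC
import Groth.Agent.Lib.H2EtaleCover
import Groth.Agent.S12237

set_option autoImplicit false
open CategoryTheory CategoryTheory.Limits AlgebraicGeometry Opposite
universe u
open ProEtS

namespace Groth.Agent.S0754
open CategoryTheory CategoryTheory.Limits AlgebraicGeometry Opposite
set_option maxHeartbeats 1000000
set_option synthInstance.maxHeartbeats 400000
set_option backward.isDefEq.respectTransparency.types false

/-- For a point x of a scheme X and a strict henselization R of the local ring of X at x, the canonical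
morphism Spec R -> X is weakly etale, so that Spec R is an object of the small pro-etale site of X. -/
theorem result (X : Scheme.{u}) (x : ↥X) (R : Type u) [CommRing R]
    [IsLocalRing R] [Algebra (X.presheaf.stalk x) R] [IsLocalHom (algebraMap (X.presheaf.stalk x) R)]
    [Hensel.IsStrictHenselization (X.presheaf.stalk x) R] :
    WeaklyEtale (Hens2.specOf X x R) := by
  have h := Groth.Agent.S12237.result (X.presheaf.stalk x) R
  haveI := Groth.Agent.H2EtaleCover.flat_of_isIndEtale h
  haveI hw := Groth.Agent.H2EtaleCover.weaklyEtale (Groth.Agent.H2EtaleCover.covered_of_isIndEtale h)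
  haveI : Flat (X.fromSpecStalk x) := by
    let U := (X.affineCover.f (X.affineCover.idx x)).opensRange
    have hU : IsAffineOpen U := isAffineOpen_opensRange _
    have hx : x ∈ U := X.affineCover.covers x
    rw [← hU.fromSpecStalk_eq_fromSpecStalk hx]
    haveI : Flat (Spec.map (X.presheaf.germ U x hx)) := by
      refine (HasRingHomProperty.Spec_iff (P := @Flat)).2 ?_
      letI : Algebra Γ(X, U) (X.presheaf.stalk x) := (X.presheaf.germ U x hx).hom.toAlgebra
      haveI := hU.isLocalization_stalk ⟨x, hx⟩
      exact IsLocalization.flat (X.presheaf.stalk x) (hU.primeIdealOf ⟨x, hx⟩).asIdeal.primeCompl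
    show Flat (Spec.map (X.presheaf.germ U x hx) ≫ hU.fromSpec)
    infer_instance
  haveI : WeaklyEtale (X.fromSpecStalk x) := { flat_diagonal := inferInstance }
  haveI : WeaklyEtale (Spec.map (CommRingCat.ofHom (algebraMap (X.presheaf.stalk x) R))) := by
    haveI : Flat (Spec.map (CommRingCat.ofHom (algebraMap (X.presheaf.stalk x) R))) :=
      (HasRingHomProperty.Spec_iff (P := @Flat)).2 (RingHom.flat_algebraMap_iff.2 inferInstance)
    refine { flat_diagonal := ?_ }
    rw [diagonal_SpecMap]
    haveI : Flat (Spec.map (CommRingCat.ofHom (Algebra.TensorProduct.lmul' (X.presheaf.stalk x) (S := R)).toRingHom)) :=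
      (HasRingHomProperty.Spec_iff (P := @Flat)).2 hw.flat_lmul'
    exact MorphismProperty.comp_mem @Flat _ _ ‹_› inferInstance
  show WeaklyEtale (Spec.map (CommRingCat.ofHom (algebraMap (X.presheaf.stalk x) R)) ≫ X.fromSpecStalk x)
  infer_instance

end Groth.Agent.S0754
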