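import Groth.Statements.S0755
import Mathlib
import Groth.Prelude.Def_PBC
import Groth.Agent.Lib.H2IndEtale
import Groth.Agent.Lib.H4Henselization
import Groth.Agent.S9436

set_option autoImplicit false
open CategoryTheory CategoryTheory.Limits AlgebraicGeometry Opposite Topology
universe u
open ProEtW

namespace Groth.Agent.S0755
open TensorProduct
set_option maxHeartbeats 1000000
set_option synthInstance.maxHeartbeats 400000
set_option backward.isDefEq.respectTransparency.types false

/-- Let I be an ideal of a ring A. For every ind-etale (A/I)-algebra Cbar there is an ind-etale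
A-algebra C with C/IC isomorphic to Cbar as (A/I)-algebras. -/
theorem result (A : Type u) [CommRing A] (I : Ideal A) (Cb : Type u)
    [CommRing Cb] [Algebra (A ⧸ I) Cb] (h : EtPBC.IsIndEtale (A ⧸ I) Cb) :
    ∃ (C : Type u) (_ : CommRing C) (_ : Algebra A C),
      EtPBC.IsIndEtale A C ∧ Nonempty ((C ⧸ I.map (algebraMap A C)) ≃ₐ[A ⧸ I] Cb) := by
  letI : Algebra A Cb := ((algebraMap (A ⧸ I) Cb).comp (Ideal.Quotient.mk I)).toAlgebra
  haveI : IsScalarTower A (A ⧸ I) Cb := IsScalarTower.of_algebraMap_eq fun _ => rfl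
  have hcov := Groth.Agent.H2EtaleCover.covered_of_isIndEtale h
  have hflat := Groth.Agent.H2EtaleCover.flat_of_isIndEtale h
  let C := Groth.Agent.H4Henzn.Ring A Cb
  have hC : EtPBC.IsIndEtale A C := Groth.Agent.H2IndEtale.isIndEtale_of_covered (fun l => by
    have key : ∀ m : List C, ∃ X : Groth.Agent.H4Henzn.Nbhd A Cb, ∀ b ∈ m, ∃ x, Groth.Agent.H4Henzn.ι X x = b := fun m => by
      induction m with
      | nil => exact ⟨Classical.choice (Groth.Agent.H4Henzn.nonempty A Cb), by simp⟩
      | cons b m ih =>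
        obtain ⟨X, hX⟩ := ih
        obtain ⟨Z, φ, z, hz⟩ := Groth.Agent.H4Henzn.exists_rep₂ X b
        refine ⟨Z, fun c hc => ?_⟩
        rcases List.mem_cons.1 hc with rfl | hc
        · exact ⟨z, hz⟩
        · obtain ⟨x, rfl⟩ := hX c hc
          exact ⟨φ.f x, Groth.Agent.H4Henzn.ι_map φ x⟩
    obtain ⟨X, hX⟩ := key l
    exact ⟨X.ring, inferInstance, inferInstance, X.etale, Groth.Agent.H4Henzn.ι X, hX⟩) inferInstance
  let π : C →ₐ[A] Cb := Groth.Agent.H4Henzn.toK A Cb
  have hsurj : Function.Surjective π := fun b => by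
    obtain ⟨Xb, _, _, _, f, hf⟩ := hcov [b]
    obtain ⟨x, rfl⟩ := hf b (List.mem_singleton_self _)
    obtain ⟨S, _, _, _, ⟨e⟩⟩ := Groth.Agent.S9436.result A I Xb
    obtain ⟨y, hy⟩ := e.surjective x
    obtain ⟨s, hs⟩ : ∃ s : S, (1 : A ⧸ I) ⊗ₜ[A] s = y :=
      TensorProduct.mk_surjective A S (A ⧸ I) Ideal.Quotient.mk_surjective y
    obtain ⟨Z, e', he'⟩ := Groth.Agent.H4Henzn.exists_nbhd S
      (((f.comp e.toAlgHom).restrictScalars A).comp Algebra.TensorProduct.includeRight)
    refine ⟨Groth.Agent.H4Henzn.ι Z (e'.symm s), ?_⟩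
    show Groth.Agent.H4Henzn.toK A Cb _ = _
    rw [Groth.Agent.H4Henzn.toK_ι, he', AlgEquiv.apply_symm_apply]
    show f (e ((1 : A ⧸ I) ⊗ₜ[A] s)) = f x
    rw [hs, hy]
  have hone : ∀ {R S : Type u} [CommRing R] [CommRing S] [Algebra R S] (K : Ideal R) (a : R),
      ((1 : R ⧸ K) ⊗ₜ[R] algebraMap R S a) = algebraMap (R ⧸ K) ((R ⧸ K) ⊗[R] S) (Ideal.Quotient.mk K a) :=
    fun {R S} _ _ _ K a => by
      rw [Algebra.algebraMap_eq_smul_one, ← TensorProduct.smul_tmul, Algebra.TensorProduct.algebraMap_apply,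
        Algebra.algebraMap_self, RingHom.id_apply, Algebra.smul_def, mul_one]
      rfl
  have hlift : ∀ (P : Type u) [CommRing P] (J : Ideal P) (X' : Type u) [CommRing X'] [Algebra (P ⧸ J) X'] [Algebra.Etale (P ⧸ J) X'],
      ∃ (S : Type u) (_ : CommRing S) (_ : Algebra P S) (_ : Algebra.Etale P S) (ρ : S →+* X'),
        (∀ z, ρ (algebraMap P S z) = algebraMap (P ⧸ J) X' (Ideal.Quotient.mk J z)) ∧
        ∀ x, algebraMap (P ⧸ J) X' (Ideal.Quotient.mk J x) = 0 → algebraMap P S x ∈ J.map (algebraMap P S) :=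
    fun P _ J X' _ _ _ => by
      obtain ⟨S, _, _, _, ⟨e⟩⟩ := Groth.Agent.S9436.result P J X'
      refine ⟨S, inferInstance, inferInstance, inferInstance,
        e.toAlgHom.toRingHom.comp Algebra.TensorProduct.includeRight.toRingHom, fun z => ?_, fun x hx => ?_⟩
      · show e ((1 : P ⧸ J) ⊗ₜ[P] algebraMap P S z) = _
        rw [hone, e.commutes]
      · have h0 : ((1 : P ⧸ J) ⊗ₜ[P] algebraMap P S x) = 0 := e.injective (by rw [hone, e.commutes, map_zero]; exact hx)
        let E := Algebra.TensorProduct.quotIdealMapEquivQuotTensor S J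
        rw [← Ideal.Quotient.eq_zero_iff_mem]
        refine E.injective ?_
        rw [map_zero, ← h0]
        first
          | rfl
          | exact Algebra.TensorProduct.quotIdealMapEquivQuotTensor_mk ..
  have hker : RingHom.ker π.toRingHom = I.map (algebraMap A C) := by
    refine le_antisymm (fun c hc => ?_) (Ideal.map_le_iff_le_comap.2 fun a ha => ?_)
    · obtain ⟨X, x, rfl⟩ := Groth.Agent.H4Henzn.exists_rep c
      have hx : X.σ x = 0 := by
        rw [← Groth.Agent.H4Henzn.toK_ι]; exact hc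
      let σb : (A ⧸ I) ⊗[A] X.ring →ₐ[A ⧸ I] Cb :=
        Algebra.TensorProduct.lift (Algebra.ofId (A ⧸ I) Cb) X.σ fun _ _ => Commute.all _ _
      obtain ⟨X', _, _, _, g, f', hgf, hg0⟩ := Groth.Agent.H2IndEtale.kill_one hcov hflat σb ((1 : A ⧸ I) ⊗ₜ[A] x) (by simp [σb, hx])
      let J := I.map (algebraMap A X.ring)
      let q : (X.ring ⧸ J) →+* X' := Ideal.Quotient.lift J
        (g.toRingHom.comp Algebra.TensorProduct.includeRight.toRingHom) (fun z hz => by
          induction hz using Submodule.span_induction with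
          | mem z hz =>
            obtain ⟨a, ha, rfl⟩ := hz
            show g (1 ⊗ₜ algebraMap A X.ring a) = 0
            rw [hone, Ideal.Quotient.eq_zero_iff_mem.2 ha, map_zero, map_zero]
          | zero => simp
          | add z w _ _ hz hw => rw [map_add, hz, hw, add_zero]
          | smul r z _ hz => rw [smul_eq_mul, map_mul, hz, mul_zero])
      letI : Algebra (X.ring ⧸ J) X' := q.toAlgebra
      haveI : IsScalarTower (A ⧸ I) (X.ring ⧸ J) X' := IsScalarTower.of_algebraMap_eq (R := A ⧸ I) (S := X.ring ⧸ J) (A := X') fun a => by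
        obtain ⟨a, rfl⟩ := Ideal.Quotient.mk_surjective a
        show _ = g (1 ⊗ₜ algebraMap A X.ring a)
        rw [← g.commutes]
        exact congrArg g (hone I a).symm
      haveI : Algebra.Etale (A ⧸ I) (X.ring ⧸ J) :=
        Algebra.Etale.of_equiv (Algebra.TensorProduct.quotIdealMapEquivQuotTensor X.ring I).symm
      haveI : Algebra.Etale (X.ring ⧸ J) X' := Algebra.Etale.of_restrictScalars (A ⧸ I) _ _
      obtain ⟨S, _, _, _, ρ0, hρ0, hmem⟩ := hlift X.ring J X'
      letI : Algebra A S := ((algebraMap X.ring S).comp (algebraMap A X.ring)).toAlgebra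
      haveI : IsScalarTower A X.ring S := IsScalarTower.of_algebraMap_eq (R := A) (S := X.ring) (A := S) fun _ => rfl
      haveI : Algebra.Etale A S := Algebra.Etale.comp A X.ring S
      let ρ : S →+* Cb := f'.toRingHom.comp ρ0
      have hρ : ∀ z : X.ring, ρ (algebraMap X.ring S z) = X.σ z := fun z => by
        show f' (ρ0 (algebraMap X.ring S z)) = _
        rw [hρ0]
        show f' (g (1 ⊗ₜ z)) = _
        rw [show f' (g (1 ⊗ₜ z)) = σb (1 ⊗ₜ z) from AlgHom.congr_fun hgf _]
        simp [σb]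
      obtain ⟨Z, e', he'⟩ := Groth.Agent.H4Henzn.exists_nbhd S ({ ρ with commutes' := fun a => (hρ _).trans (X.σ.commutes a) } : S →ₐ[A] Cb)
      let φ : X ⟶ Z := ⟨e'.symm.toAlgHom.comp (IsScalarTower.toAlgHom A X.ring S), AlgHom.ext fun z => by
        show Z.σ (e'.symm (algebraMap X.ring S z)) = X.σ z
        rw [he', AlgEquiv.apply_symm_apply]; exact hρ z⟩
      have hxS : algebraMap X.ring S x ∈ J.map (algebraMap X.ring S) := hmem x hg0
      rw [← Groth.Agent.H4Henzn.ι_map φ x]
      have := Ideal.mem_map_of_mem ((Groth.Agent.H4Henzn.ι Z : Z.ring →+* C).comp (e'.symm : S →+* Z.ring)) hxS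
      rw [Ideal.map_map, Ideal.map_map] at this
      convert this using 2
      first
        | rfl
        | exact RingHom.ext fun a => (((Groth.Agent.H4Henzn.ι Z).comp (e'.symm.toAlgHom)).commutes a).symm
      all_goals first
        | rfl
        | exact RingHom.ext fun a => (((Groth.Agent.H4Henzn.ι Z).comp (e'.symm.toAlgHom)).commutes a).symm
    · show π (algebraMap A C a) = 0
      rw [AlgHom.commutes]
      show algebraMap (A ⧸ I) Cb (Ideal.Quotient.mk I a) = 0
      rw [Ideal.Quotient.eq_zero_iff_mem.2 ha, map_zero]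
  refine ⟨C, inferInstance, inferInstance, hC, ⟨AlgEquiv.ofRingEquiv
    (f := (Ideal.quotEquivOfEq hker.symm).trans (RingHom.quotientKerEquivOfSurjective hsurj)) fun a => ?_⟩⟩
  obtain ⟨a, rfl⟩ := Ideal.Quotient.mk_surjective a
  exact π.commutes a

end Groth.Agent.S0755
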