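import Groth.Statements.S0781
import Mathlib

set_option autoImplicit false
open CategoryTheory CategoryTheory.Limits AlgebraicGeometry Opposite
universe u
open Desc

namespace Groth.Agent.S0781

/-- If p : X → S is a surjective morphism of schemes, then for schemes U₁, U₂ étale over S, two
S-morphisms U₁ → U₂ whose base changes to X agree, as morphisms of canonical descent data relative
to p, are equal; that is, the canonical-descent-datum functor is faithful on schemes étale over S.
(Descent data are taken in functor-of-points form, equivalent by the Yoneda lemma to an isomorphism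
over X ×_S X satisfying the cocycle condition.) -/
theorem result {X S : Scheme.{u}} (p : X ⟶ S) [Surjective p] (U₁ U₂ : Over S)
    [Etale U₁.hom] [Etale U₂.hom] : Function.Injective ((Desc.toDD p).map : (U₁ ⟶ U₂) → _) := by

  intro g g' h
  have e : ((Desc.toDD p).map g).hom.left = ((Desc.toDD p).map g').hom.left :=
    congrArg (fun (q : (Desc.toDD p).obj U₁ ⟶ (Desc.toDD p).obj U₂) => q.hom.left) h
  have e' : pullback.snd p U₁.hom ≫ g.left = pullback.snd p U₁.hom ≫ g'.left :=
    (pullback.lift_snd (f := p) (g := U₂.hom) _ _ _).symm.trans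
      ((congrArg (· ≫ pullback.snd p U₂.hom) e).trans (pullback.lift_snd _ _ _))
  obtain ⟨s, hs1, hs2⟩ : ∃ s : U₁.left ⟶ pullback U₂.hom U₂.hom, s ≫ pullback.fst U₂.hom U₂.hom = g.left ∧
      s ≫ pullback.snd U₂.hom U₂.hom = g'.left :=
    ⟨pullback.lift g.left g'.left ((Over.w g).trans (Over.w g').symm), pullback.lift_fst _ _ _, pullback.lift_snd _ _ _⟩
  let E := pullback.fst s (pullback.diagonal U₂.hom)
  haveI : IsOpenImmersion E := inferInstance
  let l : pullback p U₁.hom ⟶ pullback s (pullback.diagonal U₂.hom) :=
    pullback.lift (pullback.snd p U₁.hom) (pullback.snd p U₁.hom ≫ g.left)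
      (pullback.hom_ext (by simp [hs1]) (by simp [hs2, e']))
  haveI : AlgebraicGeometry.Surjective (pullback.snd p U₁.hom) := inferInstance
  have hl : l ≫ E = pullback.snd p U₁.hom := pullback.lift_fst _ _ _
  haveI : AlgebraicGeometry.Surjective (l ≫ E) := by
    rw [hl]
    exact ‹AlgebraicGeometry.Surjective (pullback.snd p U₁.hom)›
  haveI : AlgebraicGeometry.Surjective E := AlgebraicGeometry.Surjective.of_comp l E
  haveI : Epi E.base := (TopCat.epi_iff_surjective _).2 E.surjective
  haveI : IsIso E := IsOpenImmersion.isIso E
  refine Over.OverMorphism.ext ((cancel_epi E).1 ?_)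
  have hc : E ≫ s = pullback.snd s (pullback.diagonal U₂.hom) ≫ pullback.diagonal U₂.hom := pullback.condition
  have h1 := congrArg (· ≫ pullback.fst U₂.hom U₂.hom) hc
  have h2 := congrArg (· ≫ pullback.snd U₂.hom U₂.hom) hc
  simp only [Category.assoc, hs1, hs2, pullback.diagonal_fst, pullback.diagonal_snd, Category.comp_id] at h1 h2
  exact h1.trans h2.symm

end Groth.Agent.S0781
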