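import Groth.Statements.S0825
import Mathlib
import Groth.Prelude.Def_Wider
import Groth.Prelude.Def_DRing3
import Groth.Prelude.Def_W4bk5brsh16IT
import Groth.Agent.Lib.H2LCFinite
import Groth.Agent.Lib.H2LCTop
import Groth.Agent.Lib.H2LCMono
import Groth.Agent.Lib.H2LCFlat
import Groth.Agent.Lib.H2DTExact

set_option autoImplicit false
universe u
open scoped BigOperators
open LocCoh

namespace Groth.Agent.S0825
open CategoryTheory CategoryTheory.Limits Opposite
open LocCoh
open scoped BigOperators TensorProduct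
open Groth.Agent Groth.Agent.H2LC

/-- Let A be a Noetherian ring and I the ideal generated by f_1, …, f_r, with cohomological dimension
exactly 1. Then there are c ≥ 1 and A-linear maps φ_j : I^c → A such that x = Σ_j f_j φ_j(x) for
every x ∈ I^c. -/
theorem result (A : Type u) [CommRing A] [IsNoetherianRing A] (r : ℕ) (f : Fin r → A)
    (h₁ : LocCoh.CdLE A (Ideal.span (Set.range f)) 1) (h₀ : ¬ LocCoh.CdLE A (Ideal.span (Set.range f)) 0) :
    ∃ (c : ℕ) (φ : Fin r → (↥(Ideal.span (Set.range f) ^ (c + 1)) →ₗ[A] A)),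
      ∀ x : ↥(Ideal.span (Set.range f) ^ (c + 1)), (x : A) = ∑ j, f j * φ j x := by
  set I := Ideal.span (Set.range f)
  have htop : I • (⊤ : Submodule A (LocCoh.DT I A)) = ⊤ := (exact_iff_smul_top I).1 ((exact_iff_cdLE_one I).2 h₁)
  let P : LocCoh.DT I A → Prop := fun x => ∃ (c : ℕ) (φ : Fin r → (↥(I ^ c) →ₗ[A] A)),
    dtMk I c (∑ j, f j • φ j) = x
  have hP : ∀ x ∈ I • (⊤ : Submodule A (LocCoh.DT I A)), P x := by
    intro x hx
    refine Submodule.smul_induction_on hx (fun b hb z _ => ?_) ?_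
    · obtain ⟨c, g, rfl⟩ := exists_dtMk z
      obtain ⟨co, rfl⟩ := Ideal.mem_span_range_iff_exists_fun.1 hb
      refine ⟨c, fun j => co j • g, ?_⟩
      rw [← dtMk_smul, Finset.sum_smul]
      congr 1
      exact Finset.sum_congr rfl fun j _ => by rw [smul_smul, mul_comm]
    · rintro _ _ ⟨c, φ, rfl⟩ ⟨c', φ', rfl⟩
      refine ⟨max c c', fun j => restr (le_max_left c c') (φ j) + restr (le_max_right c c') (φ' j), ?_⟩
      rw [← dtMk_restr (le_max_left c c'), ← dtMk_restr (le_max_right c c') (∑ j, f j • φ' j), ← dtMk_add]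
      congr 1
      ext a
      simp [LinearMap.sum_apply, Finset.sum_add_distrib, mul_add]
  obtain ⟨c, φ, hc⟩ := hP (LocCoh.toDT I A 1) (by rw [htop]; exact Submodule.mem_top)
  rw [toDT_apply, ← dtMk_restr (Nat.zero_le c), ← sub_eq_zero, ← dtMk_sub, dtMk_eq_zero_iff] at hc
  obtain ⟨m, hm, he⟩ := hc
  refine ⟨m, fun j => restr (hm.trans m.le_succ) (φ j), fun x => ?_⟩
  have := LinearMap.congr_fun he ⟨x.1, Ideal.pow_le_pow_right m.le_succ x.2⟩
  simp [sub_eq_zero, LinearMap.sum_apply] at this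
  exact this.symm

end Groth.Agent.S0825
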