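import Groth.Statements.S0892
import Groth.Agent.Lib.H7LocFreeLocus
import Mathlib

set_option autoImplicit false
universe u
open CategoryTheory
attribute [local instance] HasDerivedCategory.standard
open DCoh

namespace Groth.Agent.S0892

open AlgebraicGeometry in
/-- Let X be a scheme and E a perfect object of D(O_X). Then the set U of points x such that for every i
the stalk H^i(E)_x is a finite free O_{X,x}-module is open, all cohomology sheaves H^i(E) are finite
locally free over U, and every open W over which all H^i(E) are finite locally free is contained in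
U. (Stated for schemes; the published statement is for ringed spaces all of whose stalks of the
structure sheaf are local rings.) -/
theorem result {X : Scheme.{u}} (E : DCoh.D X) (hE : DCoh.IsPerfect E) :
    ∃ U : X.Opens,
      (U : Set X) = {x : X | ∀ i : ℤ, Module.Free (X.presheaf.stalk x) ((DCoh.HD E i).presheaf.stalk x) ∧
        Module.Finite (X.presheaf.stalk x) ((DCoh.HD E i).presheaf.stalk x)} ∧
      (∀ i : ℤ, FlatMod.IsFinLocFree ((DCoh.HD E i).restrict U.ι)) ∧
      ∀ W : X.Opens, (∀ i : ℤ, FlatMod.IsFinLocFree ((DCoh.HD E i).restrict W.ι)) → W ≤ U := by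
  let S : Set X := {x : X | ∀ i : ℤ, Module.Free (X.presheaf.stalk x) ((DCoh.HD E i).presheaf.stalk x) ∧
      Module.Finite (X.presheaf.stalk x) ((DCoh.HD E i).presheaf.stalk x)}
  have key : ∀ {W : Scheme.{u}} (j : W ⟶ X) [IsOpenImmersion j],
      (∀ i, FlatMod.IsFinLocFree ((Scheme.Modules.pullback j).obj (DCoh.HD E i))) → Set.range j.base ⊆ S := by
    rintro W j _ h _ ⟨w, rfl⟩ i
    exact ⟨H7FPFlat.free_stalk_of_pullback j w (H7FPFlat.free_stalk (h i) w),
      H7LocFreeLocus.finite_stalk_of_pullback j w (H7LocFreeLocus.finite_stalk (h i) w)⟩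
  have hnhd : ∀ x ∈ S, ∃ (W : Scheme.{u}) (j : W ⟶ X) (_ : IsOpenImmersion j), x ∈ Set.range j.base ∧
      ∀ k, FlatMod.IsFinLocFree ((Scheme.Modules.pullback j).obj (DCoh.HD E k)) := fun x hx =>
    H7LocFreeLocus.exists_nhd hE x fun k => by
      have : Module.Free (X.presheaf.stalk x) ((DCoh.HD E k).presheaf.stalk x) := (hx k).1
      exact (inferInstance : Module.Flat (X.presheaf.stalk x) ((DCoh.HD E k).presheaf.stalk x))
  have hopen : IsOpen S := by
    rw [isOpen_iff_forall_mem_open]
    intro x hx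
    obtain ⟨W, j, _, hxj, hall⟩ := hnhd x hx
    exact ⟨Set.range j.base, key j hall, j.isOpenEmbedding.isOpen_range, hxj⟩
  let U : X.Opens := ⟨S, hopen⟩
  refine ⟨U, rfl, fun i => H7LocFreeLocus.finLocFree_local fun y => ?_, fun W hW y hy => ?_⟩
  · obtain ⟨W, j, _, hyj, hall⟩ := hnhd (U.ι.base y) y.2
    obtain ⟨w, hw⟩ := hyj
    obtain ⟨z, -, hz⟩ := Scheme.Pullback.exists_preimage_pullback (f := j) (g := U.ι) w y hw
    refine ⟨_, Limits.pullback.snd j U.ι, inferInstance, ⟨z, hz⟩, ?_⟩
    refine H7FinFree.finLocFree_of_iso ?_ (H7PerfPull.finLocFree_pullback (Limits.pullback.fst j U.ι) (hall i))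
    exact (Scheme.Modules.pullbackComp _ j).app _ ≪≫ eqToIso (by rw [Limits.pullback.condition]) ≪≫
      ((Scheme.Modules.pullbackComp (Limits.pullback.snd j U.ι) U.ι).app _).symm ≪≫
      (Scheme.Modules.pullback _).mapIso ((Scheme.Modules.restrictFunctorIsoPullback U.ι).app _).symm
  · exact key W.ι (fun i => H7FinFree.finLocFree_of_iso ((Scheme.Modules.restrictFunctorIsoPullback W.ι).app _) (hW i)) ⟨⟨y, hy⟩, rfl⟩

end Groth.Agent.S0892
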