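import Groth.Statements.S0919
import Mathlib

set_option autoImplicit false
universe v u
open CategoryTheory
open CohDer

namespace Groth.Agent.S0919
open CategoryTheory CategoryTheory.Limits

open CategoryTheory.Limits in
/-- Let A be a Grothendieck abelian category and F a contravariant functor from A to sets (a functor on
the opposite category). Then F is representable if and only if F turns all small colimits of A into
limits, i.e. preserves small limits as a functor on the opposite category. -/
theorem result {A : Type u} [Category.{v} A] [Abelian A]
    [IsGrothendieckAbelian.{v} A] (F : Aᵒᵖ ⥤ Type v) :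
    F.IsRepresentable ↔ PreservesLimitsOfSize.{v, v} F := by
  constructor
  · intro h
    infer_instance
  · intro h
    haveI : HasLimits Aᵒᵖ := inferInstance
    haveI : PreservesLimits F := h
    haveI : F.IsRightAdjoint := isRightAdjoint_of_preservesLimits_of_isCoseparating.{v}
      ((isCoseparator_op_iff _).2 (isSeparator_separator A)) F
    let L := F.leftAdjoint
    let adj := Adjunction.ofIsRightAdjoint F
    let e : ∀ Y : Aᵒᵖ, (L.obj PUnit ⟶ Y) ≃ F.obj Y := fun Y =>
      (adj.homEquiv PUnit Y).trans ⟨fun f => f PUnit.unit, fun a => ↾(fun _ => a), fun f => by ext ⟨⟩; rfl, fun a => rfl⟩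
    exact (Functor.RepresentableBy.isRepresentable (Y := (L.obj PUnit).unop)
      { homEquiv := fun {X} => (opEquiv (L.obj PUnit) (Opposite.op X)).symm.trans (e (Opposite.op X))
        homEquiv_comp := fun {X X'} f g => by
          show adj.homEquiv PUnit (Opposite.op X) _ PUnit.unit = F.map f.op (adj.homEquiv PUnit (Opposite.op X') _ PUnit.unit)
          rw [show (opEquiv (L.obj PUnit) (Opposite.op X)).symm (f ≫ g) = (opEquiv (L.obj PUnit) (Opposite.op X')).symm g ≫ f.op from rfl]
          rw [adj.homEquiv_naturality_right]
          rfl })

end Groth.Agent.S0919
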