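import Groth.Statements.S0934
import Groth.Agent.Lib.LExtZero
import Groth.Agent.Lib.LSupp

set_option autoImplicit false
universe u
open CategoryTheory
open Coh

namespace Groth.Agent.S0934

open AlgebraicGeometry in

open CategoryTheory CategoryTheory.Limits AlgebraicGeometry Groth.Agent Groth.Agent.LQcoh TopologicalSpace Opposite in
theorem ext_one {X : Scheme.{u}} {M : X.Modules} {a b : Coh.structureModule X ⟶ M}
    (h : a.app ⊤ (1 : Γ(X, ⊤)) = b.app ⊤ (1 : Γ(X, ⊤))) : a = b := by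
  apply (M.unitHomEquiv).injective
  apply Subtype.ext
  funext U
  rw [← (M.unitHomEquiv a).property (homOfLE (le_top (a := U.unop))).op,
    ← (M.unitHomEquiv b).property (homOfLE (le_top (a := U.unop))).op]
  exact congrArg _ h

open CategoryTheory CategoryTheory.Limits AlgebraicGeometry Groth.Agent Groth.Agent.LQcoh TopologicalSpace Opposite in
theorem exists_lift_free {Y : Scheme.{u}} {F G : Y.Modules} (p : G ⟶ F) [Epi p] {n : ℕ}
    (b : FlatMod.freeMod Y n ⟶ F) (y : Y) :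
    ∃ V0 : Y.Opens, y ∈ V0 ∧ ∀ {Z : Scheme.{u}} (i : Z ⟶ Y) [IsOpenImmersion i], i.opensRange ≤ V0 →
      ∃ ψ, ψ ≫ (Scheme.Modules.restrictFunctor i).map p = (Scheme.Modules.restrictFunctor i).map b := by
  have hls : TopCat.Presheaf.IsLocallySurjective ((LQcoh.toShf Y).map p).hom :=
    (TopCat.Sheaf.isLocallySurjective_iff_epi (X := Y.toTopCat) ((LQcoh.toShf Y).map p)).mpr ((LQcoh.toShf Y).map_epi p)
  rw [TopCat.Presheaf.isLocallySurjective_iff] at hls
  let bi : Fin n → (Coh.structureModule Y ⟶ F) := fun k => Sigma.ι (fun _ : Fin n => Coh.structureModule Y) k ≫ b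
  choose W hW hs hyW using fun k => hls ⊤ ((bi k).app ⊤ (1 : Γ(Y, ⊤))) y trivial
  choose s hs using hs
  let V0 : Y.Opens := ⟨⋂ k, ((W k : TopologicalSpace.Opens Y.toTopCat) : Set Y.toTopCat), isOpen_iInter_of_finite fun k => (W k).2⟩
  refine ⟨V0, Set.mem_iInter.2 hyW, fun {Z} i _ hi => ?_⟩
  have hV : ∀ k, V0 ≤ W k := fun k a ha => Set.mem_iInter.1 ha k
  let t : Fin n → Γ(G, V0) := fun k => res G (hV k) (s k)
  let R := Scheme.Modules.restrictFunctor V0.ι
  have key : ∀ k, ((Scheme.Modules.restrictUnitIso V0.ι).hom ≫ LInv.homOfSec G (t k)) ≫ R.map p = R.map (bi k) := by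
    intro k
    rw [Category.assoc, ← cancel_epi (Scheme.Modules.restrictUnitIso V0.ι).inv, Iso.inv_hom_id_assoc]
    refine ext_one ?_
    have h1 : (Scheme.Modules.restrictUnitIso V0.ι).inv.app ⊤ (1 : Γ(V0.toScheme, ⊤)) =
        (1 : Γ(Y, V0.ι ''ᵁ ⊤)) := map_one (V0.ι.appIso ⊤).inv.hom
    change p.app (V0.ι ''ᵁ ⊤) ((LInv.homOfSec G (t k)).app ⊤ (1 : Γ(V0.toScheme, ⊤))) =
      (bi k).app (V0.ι ''ᵁ ⊤) ((Scheme.Modules.restrictUnitIso V0.ι).inv.app ⊤ (1 : Γ(V0.toScheme, ⊤)))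
    rw [LInv.homOfSec_one, h1]
    have hle : V0.ι ''ᵁ ⊤ ≤ W k := (V0.ι_image_le ⊤).trans (hV k)
    refine Eq.trans ?_ (SecTwist.map_val (bi k) (homOfLE (le_top : V0.ι ''ᵁ ⊤ ≤ ⊤)))
    simp only [t, res_res]
    refine (NatTrans.naturality_apply p.mapPresheaf (homOfLE hle).op (s k)).trans ?_
    refine (congrArg (F.presheaf.map (homOfLE hle).op) (hs k)).trans ?_
    exact res_res F _ hle _
  haveI : Limits.PreservesColimitsOfSize.{0, 0} R := (Scheme.Modules.restrictAdjunction V0.ι).leftAdjoint_preservesColimits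
  let ψ0 : R.obj (FlatMod.freeMod Y n) ⟶ R.obj G :=
    (PreservesCoproduct.iso R _).hom ≫ Sigma.desc fun k => (Scheme.Modules.restrictUnitIso V0.ι).hom ≫ LInv.homOfSec G (t k)
  have h0 : ψ0 ≫ R.map p = R.map b := by
    rw [← cancel_epi (PreservesCoproduct.iso R _).inv]
    refine Sigma.hom_ext _ _ fun k => ?_
    rw [show ψ0 = (PreservesCoproduct.iso R _).hom ≫ Limits.Sigma.desc fun k =>
        (Scheme.Modules.restrictUnitIso V0.ι).hom ≫ LInv.homOfSec G (t k) from rfl,
      Category.assoc, Iso.inv_hom_id_assoc, Limits.Sigma.ι_desc_assoc, PreservesCoproduct.inv_hom,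
      ι_comp_sigmaComparison_assoc, ← R.map_comp]
    exact key k
  let l : Z ⟶ V0 := IsOpenImmersion.lift V0.ι i (by
    rw [Scheme.Opens.range_ι]; exact hi)
  have hl : l ≫ V0.ι = i := IsOpenImmersion.lift_fac _ _ _
  haveI : IsOpenImmersion (l ≫ V0.ι) := hl.symm ▸ inferInstance
  haveI : IsOpenImmersion l := IsOpenImmersion.of_comp _ V0.ι
  let c := (Scheme.Modules.restrictFunctorComp l V0.ι).symm ≪≫ Scheme.Modules.restrictFunctorCongr hl
  refine ⟨c.inv.app _ ≫ (Scheme.Modules.restrictFunctor l).map ψ0 ≫ c.hom.app G, ?_⟩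
  simp only [Category.assoc]
  erw [← c.hom.naturality p]
  erw [← Category.assoc ((Scheme.Modules.restrictFunctor l).map ψ0), ← Functor.map_comp, h0]
  refine (congrArg (c.inv.app _ ≫ ·) (c.hom.naturality b)).trans ?_
  exact c.inv_hom_id_app_assoc _ _

open CategoryTheory CategoryTheory.Limits AlgebraicGeometry in
/-- Schemes; E finite locally free, which on a scheme is locally the same as a direct summand of a
finite free module: let p : G -> F be an epimorphism of O_X-modules and φ : E -> F a morphism with E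
finite locally free. Then every point has an open neighbourhood V and a morphism ψ : E|_V -> G|_V
with ψ ≫ p|_V = φ|_V. -/
theorem result {X : Scheme.{u}} {E F G : X.Modules} (p : G ⟶ F) [Epi p] (φ : E ⟶ F)
    (hE : FlatMod.IsFinLocFree E) (x : X) :
    ∃ (V : X.Opens) (ψ : E.restrict V.ι ⟶ G.restrict V.ι), x ∈ V ∧
      ψ ≫ (Scheme.Modules.restrictFunctor V.ι).map p = (Scheme.Modules.restrictFunctor V.ι).map φ := by
  obtain ⟨U, n, hxU, ⟨e⟩⟩ := hE x
  haveI : Epi ((Scheme.Modules.restrictFunctor U.ι).map p) := inferInstance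
  let q := (Scheme.Modules.restrictFunctor U.ι).map p
  obtain ⟨V0, hV0, h⟩ := exists_lift_free q (e.inv ≫ (Scheme.Modules.restrictFunctor U.ι).map φ) (⟨x, hxU⟩ : U)
  let V := U.ι ''ᵁ V0
  have hVU : V ≤ U := U.ι_image_le _
  have hle : (X.homOfLE hVU).opensRange ≤ V0 := by
    rw [Scheme.opensRange_homOfLE, Scheme.Hom.preimage_image_eq]
  obtain ⟨ψ, hψ⟩ := h (X.homOfLE hVU) hle
  let c := (Scheme.Modules.restrictFunctorComp (X.homOfLE hVU) U.ι).symm ≪≫
    Scheme.Modules.restrictFunctorCongr (X.homOfLE_ι hVU)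
  let j := Scheme.Modules.restrictFunctor (X.homOfLE hVU)
  refine ⟨V, c.inv.app E ≫ j.map e.hom ≫ ψ ≫ c.hom.app G, ⟨_, hV0, rfl⟩, ?_⟩
  have n1 := c.hom.naturality p
  simp only [Category.assoc]
  rw [← n1, ← Category.assoc ψ]
  change _ ≫ _ ≫ (ψ ≫ j.map q) ≫ _ = _
  rw [hψ, ← Category.assoc (j.map e.hom), ← j.map_comp, e.hom_inv_id_assoc]
  refine (congrArg (c.inv.app E ≫ ·) (c.hom.naturality φ)).trans ?_
  exact c.inv_hom_id_app_assoc E _

end Groth.Agent.S0934
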