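import Groth.Statements.S0957
import Groth.Agent.Lib.H7KFlatSheaf
import Groth.Agent.Lib.H7KFlatSES
import Mathlib

set_option autoImplicit false
universe u
open CategoryTheory
attribute [local instance] HasDerivedCategory.standard
open DCoh

namespace Groth.Agent.S0957

open Groth.Agent AlgebraicGeometry CategoryTheory.Limits in
set_option maxHeartbeats 2000000 in
theorem aux {X : Scheme.{u}} (S : ShortComplex (CochainComplex X.Modules ℤ)) (hS : S.ShortExact)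
    (h3 : ∀ n : ℤ, FlatMod.IsFlat (S.X₃.X n)) (x : X) :
    ((H7KFlatMod.KF _ (S.map (H7KFlatSheaf.stCx x)).X₁ → H7KFlatMod.KF _ (S.map (H7KFlatSheaf.stCx x)).X₂ →
      H7KFlatMod.KF _ (S.map (H7KFlatSheaf.stCx x)).X₃) ∧
    (H7KFlatMod.KF _ (S.map (H7KFlatSheaf.stCx x)).X₁ → H7KFlatMod.KF _ (S.map (H7KFlatSheaf.stCx x)).X₃ →
      H7KFlatMod.KF _ (S.map (H7KFlatSheaf.stCx x)).X₂) ∧
    (H7KFlatMod.KF _ (S.map (H7KFlatSheaf.stCx x)).X₂ → H7KFlatMod.KF _ (S.map (H7KFlatSheaf.stCx x)).X₃ →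
      H7KFlatMod.KF _ (S.map (H7KFlatSheaf.stCx x)).X₁)) := by
  have : ∀ n, Module.Flat (X.presheaf.stalk x) ((S.map (H7KFlatSheaf.stCx x)).X₃.X n) := fun n => h3 n x
  refine H7KFlatSES.two_out_of_three _ (HomologicalComplex.shortExact_of_degreewise_shortExact _ fun n => ?_)
  exact (hS.map_of_exact (HomologicalComplex.eval X.Modules (ComplexShape.up ℤ) n)).map_of_exact
    (DerSch.stalkFunctor X x)



open AlgebraicGeometry in
/-- Let 0 -> K₁ -> K₂ -> K₃ -> 0 be a short exact sequence of complexes of O_X-modules such that every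
term of K₃ is a flat O_X-module. If two of K₁, K₂, K₃ are K-flat then so is the third. -/
theorem result {X : Scheme.{u}} (S : ShortComplex (CochainComplex X.Modules ℤ))
    (hS : S.ShortExact) (h3 : ∀ n : ℤ, FlatMod.IsFlat (S.X₃.X n)) :
    (DCoh.IsKFlat S.X₁ → DCoh.IsKFlat S.X₂ → DCoh.IsKFlat S.X₃) ∧
    (DCoh.IsKFlat S.X₁ → DCoh.IsKFlat S.X₃ → DCoh.IsKFlat S.X₂) ∧
    (DCoh.IsKFlat S.X₂ → DCoh.IsKFlat S.X₃ → DCoh.IsKFlat S.X₁) := by
  simp only [Groth.Agent.H7KFlatSheaf.isKFlat_iff_skf]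
  exact ⟨fun h₁ h₂ x => (aux S hS h3 x).1 (h₁ x) (h₂ x), fun h₁ h₃ x => (aux S hS h3 x).2.1 (h₁ x) (h₃ x),
    fun h₂ h₃ x => (aux S hS h3 x).2.2 (h₂ x) (h₃ x)⟩

end Groth.Agent.S0957
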