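import Groth.Statements.S0960
import Groth.Agent.Lib.H7LTensorCx
import Mathlib

set_option autoImplicit false
universe u
open CategoryTheory
attribute [local instance] HasDerivedCategory.standard
open DCoh

namespace Groth.Agent.S0960

open AlgebraicGeometry in
/-- Schemes; second factor given by a K-flat complex L, so that Lf^* L is the plain pullback f^* L: for
f : X -> Y, K in D(O_Y) and a K-flat complex L of O_Y-modules there is an isomorphism Lf^*(K ⊗^L L)
≅ (Lf^* K) ⊗^L (f^* L). The derived functors are taken under their existence binders; the assertion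
is the existence of an isomorphism for each K. -/
theorem result {X Y : Scheme.{u}} (f : X ⟶ Y) [DCoh.HasLpull f] (L : CochainComplex Y.Modules ℤ)
    (hL : DCoh.IsKFlat L) [DCoh.HasLTensorCx L] [DCoh.HasLTensorCx (((Scheme.Modules.pullback f).mapHomologicalComplex (ComplexShape.up ℤ)).obj L)] (K : DCoh.D Y) :
    Nonempty ((DCoh.Lpull f).obj ((DCoh.LTensorCx L).obj K) ≅
      (DCoh.LTensorCx (((Scheme.Modules.pullback f).mapHomologicalComplex (ComplexShape.up ℤ)).obj L)).obj ((DCoh.Lpull f).obj K)) := by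
  obtain ⟨K', hK', -, ⟨e⟩⟩ := Groth.Agent.H7LpullCalc.exists_skf K
  have hL' := Groth.Agent.H7KFlatSheaf.skf_of_isKFlat hL
  exact ⟨(DCoh.Lpull f).mapIso ((DCoh.LTensorCx L).mapIso e.symm ≪≫ Groth.Agent.H7LTensorCx.ltenCxIso L hK') ≪≫
    Groth.Agent.H7LpullCalc.lpullIso f (Groth.Agent.H7LTensorCx.skf_tensor hK' hL') ≪≫
      DerivedCategory.Q.mapIso (Groth.Agent.H7LTensorCx.pullTensorIso f K' L) ≪≫
        (Groth.Agent.H7LTensorCx.ltenCxIso _ (Groth.Agent.H7StalkPull.skf_pullback f hK')).symm ≪≫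
          (DCoh.LTensorCx _).mapIso ((Groth.Agent.H7LpullCalc.lpullIso f hK').symm ≪≫ (DCoh.Lpull f).mapIso e)⟩

end Groth.Agent.S0960
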