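import Groth.Statements.S0996
import Groth.Agent.Lib.H5RAcy

set_option autoImplicit false
universe w w' v v' u u'
open CategoryTheory CategoryTheory.Limits
open CohDer

namespace Groth.Agent.S0996

/-- Leray's acyclicity lemma. Let F : C ⥤ D be a left exact additive functor between abelian categories,
with C having enough injectives. If K is a bounded below cochain complex in C all of whose terms are
right F-acyclic (RⁱF(Kᵐ) = 0 for i > 0), then the canonical map F(K) → RF(K) in the bounded below
derived category D⁺(D) is an isomorphism. -/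
theorem result {C : Type u} [Category.{v} C] [Abelian C] [HasDerivedCategory.{w} C] [EnoughInjectives C]
    {D : Type u'} [Category.{v'} D] [Abelian D] [HasDerivedCategory.{w'} D]
    (F : C ⥤ D) [F.Additive] [PreservesFiniteLimits F] (K : CochainComplex.Plus C)
    (hK : ∀ (m : ℤ) (i : ℕ), 0 < i → IsZero ((F.rightDerived i).obj (K.obj.X m))) :
    IsIso (F.rightDerivedFunctorPlusUnit.app ((HomotopyCategory.Plus.quotient C).obj K)) := by
  open CochainComplex in
  obtain ⟨m, hm⟩ := K.property
  haveI := hm
  obtain ⟨L, hL, i', hi⟩ := CochainComplex.Plus.exists_quasiIso_injective K m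
  let J : CochainComplex C ℤ := ((InjectiveObject.ι C).mapHomologicalComplex (.up ℤ)).obj L.obj
  haveI : J.IsStrictlyGE m := inferInstanceAs (CochainComplex.IsStrictlyGE
    (((InjectiveObject.ι C).mapHomologicalComplex (.up ℤ)).obj L.obj) m)
  haveI : ∀ j, Injective (J.X j) := fun j => (L.obj.X j).property
  let i : K.obj ⟶ J := i'.hom
  haveI hq : QuasiIso i := hi
  haveI : CochainComplex.IsStrictlyGE (CochainComplex.mappingCone i) (m - 1) :=
    CochainComplex.isStrictlyGE_mappingCone i m m (m - 1) (by omega) (by omega)
  have h1 : HomotopyCategory.quasiIso C (ComplexShape.up ℤ) ((HomotopyCategory.quotient _ _).map i) :=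
    (HomotopyCategory.quotient_map_mem_quasiIso_iff i).2 (by rw [HomologicalComplex.mem_quasiIso_iff]; exact hq)
  have hC : ∀ j, (CochainComplex.mappingCone i).ExactAt j := by
    have h1' := h1
    rw [HomotopyCategory.quasiIso_eq_trW_subcategoryAcyclic] at h1'
    replace h1' := ((HomotopyCategory.subcategoryAcyclic C).trW_iff_of_distinguished _
      (HomotopyCategory.mappingCone_triangleh_distinguished i)).1 h1'
    exact fun j => (HomotopyCategory.quotient_obj_mem_subcategoryAcyclic_iff_exactAt _).1 h1' j
  have h2 : HomotopyCategory.quasiIso D (ComplexShape.up ℤ)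
      ((HomotopyCategory.quotient _ _).map ((F.mapHomologicalComplex (.up ℤ)).map i)) := by
    rw [HomotopyCategory.quasiIso_eq_trW_subcategoryAcyclic]
    refine ((HomotopyCategory.subcategoryAcyclic D).trW_iff_of_distinguished _
        (HomotopyCategory.mappingCone_triangleh_distinguished ((F.mapHomologicalComplex (.up ℤ)).map i))).2 ?_
    refine (HomotopyCategory.quotient_obj_mem_subcategoryAcyclic_iff_exactAt _).2 fun j => ?_
    exact (Groth.Agent.H5RAcy.exactAt_map_of_acy F (CochainComplex.mappingCone i) (m - 1) hC
      (fun l => Groth.Agent.H5RAcy.acy_mappingCone_X F i l (fun n hn => hK (l + 1) n hn)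
        (Groth.Agent.H5RAcy.acy_of_injective F)) j).of_iso
      (CochainComplex.mappingCone.mapHomologicalComplexIso i F)
  let φ := (HomotopyCategory.Plus.quotient C).map i'
  haveI hA : IsIso (DerivedCategory.Plus.Qh.map φ) :=
    Localization.inverts DerivedCategory.Plus.Qh (HomotopyCategory.Plus.quasiIso C) φ h1
  haveI hB : IsIso (DerivedCategory.Plus.Qh.map (F.mapHomotopyCategoryPlus.map φ)) :=
    Localization.inverts DerivedCategory.Plus.Qh (HomotopyCategory.Plus.quasiIso D) _ h2
  haveI : IsIso (F.rightDerivedFunctorPlusUnit.app ((HomotopyCategory.Plus.quotient C).obj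
      ((InjectiveObject.ι C).mapCochainComplexPlus.obj L))) := inferInstance
  have hn := F.rightDerivedFunctorPlusUnit.naturality φ
  haveI : IsIso ((F.mapHomotopyCategoryPlus ⋙ DerivedCategory.Plus.Qh).map φ) := hB
  haveI : IsIso ((DerivedCategory.Plus.Qh ⋙ F.rightDerivedFunctorPlus).map φ) :=
    (inferInstance : IsIso (F.rightDerivedFunctorPlus.map (DerivedCategory.Plus.Qh.map φ)))
  exact IsIso.of_isIso_fac_right hn.symm

end Groth.Agent.S0996
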