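import Groth.Statements.S0997
import Groth.Agent.Lib.H7TildeEquiv

set_option autoImplicit false
universe u
open CategoryTheory CategoryTheory.Limits AlgebraicGeometry
attribute [local instance] HasDerivedCategory.standard
open Perf

namespace Groth.Agent.S0997

/-- The equivalence D(A) ≃ D_QCoh(O_X) for X = Spec A: assuming the tilde functor M ↦ M~ is recorded as
left exact, the induced functor D(A) ⥤ D(O_{Spec A}) is full and faithful, and an object of
D(O_{Spec A}) has quasi-coherent cohomology sheaves if and only if it is in the essential image. -/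
theorem result (R : CommRingCat.{u}) [PreservesFiniteLimits (tilde.functor R)] :
    (DCoh.tildeD R).Full ∧ (DCoh.tildeD R).Faithful ∧
    ∀ K : DCoh.D (Spec (CommRingCat.of R)), DCoh.IsQCohD K ↔ ∃ M, Nonempty ((DCoh.tildeD R).obj M ≅ K) := by
  refine ⟨⟨fun {M N} => (Groth.Agent.H7TildeEquiv.full_faithful M N).2⟩,
    ⟨fun {M N} => fun g g' h => (Groth.Agent.H7TildeEquiv.full_faithful M N).1 h⟩,
    fun K => ⟨Groth.Agent.H7TildeEquiv.mem_essImage K, ?_⟩⟩
  rintro ⟨M, ⟨e⟩⟩ i
  exact Groth.Agent.H7AffineD.qcoh_of_iso ((DerivedCategory.homologyFunctor _ i).mapIso e)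
    (Groth.Agent.H7TildeEquiv.isQCohD_tildeD M i)

end Groth.Agent.S0997
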