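import Groth.Statements.S10290
import Groth.Agent.Lib.AlgSpRep

set_option autoImplicit false
set_option backward.isDefEq.respectTransparency.types false
universe u
open CategoryTheory CategoryTheory.Limits AlgebraicGeometry
open AlgSp

namespace Groth.Agent.S10290

/-- A separated morphism of algebraic spaces satisfies the uniqueness part of the valuative criterion. -/
theorem result {S : Scheme.{u}} {X Y : AlgSp.Space S} (f : X ⟶ Y)
    (hf : AlgSp.IsSeparatedMor f.hom) : AlgSp.UniqVC f.hom := by
  intro sq l l' h₁ h₂ h₃ h₄
  have hd : RepWith @IsClosedImmersion (pullback.diagonal f.hom) := hf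
  let g : (yon S).obj sq.ptA ⟶ pullback f.hom f.hom := pullback.lift l l' (h₂.trans h₄.symm)
  obtain ⟨Z, fst, snd, hsq, hc⟩ := ASp.exists_sq_prop hd g
  have : IsClosedImmersion snd.left := hc
  obtain ⟨z, hz⟩ := (yon S).map_surjective (hsq.lift sq.top ((yon S).map sq.j) (by
    apply pullback.hom_ext
    · simp only [Category.assoc, pullback.diagonal_fst, Category.comp_id, g, pullback.lift_fst]
      exact h₁.symm
    · simp only [Category.assoc, pullback.diagonal_snd, Category.comp_id, g, pullback.lift_snd]
      exact h₃.symm))
  have hzj : z ≫ snd = sq.j := ASp.map_cancel (by rw [Functor.map_comp, hz, hsq.lift_snd])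
  have hinj : Function.Injective (sq.j.left.appTop) := by
    have : Mono (CommRingCat.ofHom (algebraMap sq.A sq.K)) :=
      ConcreteCategory.mono_of_injective _ (IsFractionRing.injective sq.A sq.K)
    have e := Scheme.ΓSpecIso_inv_naturality (CommRingCat.ofHom (algebraMap sq.A sq.K))
    intro x y hxy
    obtain ⟨x, rfl⟩ := (Scheme.ΓSpecIso (CommRingCat.of sq.A)).commRingCatIsoToRingEquiv.symm.surjective x
    obtain ⟨y, rfl⟩ := (Scheme.ΓSpecIso (CommRingCat.of sq.A)).commRingCatIsoToRingEquiv.symm.surjective y
    have hx := congr($e x)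
    have hy := congr($e y)
    simp only [CommRingCat.hom_comp, RingHom.coe_comp, Function.comp_apply] at hx hy
    have := (hx.trans (hxy.trans hy.symm))
    refine congrArg _ (IsFractionRing.injective sq.A sq.K ?_)
    exact (Scheme.ΓSpecIso (CommRingCat.of sq.K)).commRingCatIsoToRingEquiv.symm.injective this
  have hsurj : Function.Injective snd.left.appTop := by
    rw [← hzj, Over.comp_left, Scheme.Hom.comp_appTop] at hinj
    exact Function.Injective.of_comp (f := z.left.appTop) hinj
  have : IsAffine sq.ptA.left := inferInstanceAs (IsAffine (Spec (CommRingCat.of sq.A)))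
  have : IsIso snd.left := IsClosedImmersion.isIso_of_injective_of_isAffine hsurj
  have : IsIso ((Over.forget S).map snd) := ‹IsIso snd.left›
  have : IsIso snd := isIso_of_reflects_iso snd (Over.forget S)
  have hg : g = inv ((yon S).map snd) ≫ fst ≫ pullback.diagonal f.hom := by
    rw [hsq.w, IsIso.inv_hom_id_assoc]
  have e₁ := congrArg (· ≫ pullback.fst f.hom f.hom) hg
  have e₂ := congrArg (· ≫ pullback.snd f.hom f.hom) hg
  simp only [g, pullback.lift_fst, Category.assoc, pullback.diagonal_fst, Category.comp_id] at e₁
  simp only [g, pullback.lift_snd, Category.assoc, pullback.diagonal_snd, Category.comp_id] at e₂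
  exact e₁.trans e₂.symm

end Groth.Agent.S10290
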