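import Groth.Statements.S10096
import Groth.Agent.Lib.AlgSpRepBy
import Groth.Agent.Lib.AlgSpFppf
import Groth.Agent.Lib.AlgSpLocal

set_option autoImplicit false
set_option backward.isDefEq.respectTransparency.types false
universe u
open CategoryTheory CategoryTheory.Limits AlgebraicGeometry
open AlgSp

namespace Groth.Agent.S10096

/-- Let `a : F ⟶ G` be a map of fppf sheaves of sets over `S` that is flat, surjective, locally of
finite presentation and representable by algebraic spaces (every base change `h_U ×_G F ⟶ h_U` to a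
scheme is such a morphism of algebraic spaces). Then `a` is surjective as a map of sheaves (an
epimorphism of fppf sheaves). -/
theorem result (S : Scheme.{u}) (F G : AlgSp.Sp S) (a : F ⟶ G)
    (ha : AlgSp.RepBySpWith (AlgSp.IsSurjectiveMor ⊓ AlgSp.LocP @Flat ⊓ AlgSp.LocP @LocallyOfFinitePresentation) a.hom) :
    Epi a := by
  rw [repBySpWith_hom_iff] at ha
  have : Sheaf.IsLocallySurjective a := ASp.isLocallySurjective_of_sq a fun T g => by
    obtain ⟨hP, ⟨hs, hfl⟩, hfp⟩ := ha g _ _ (IsPullback.of_hasPullback a g)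
    obtain ⟨V, q, hqe, hqs⟩ := hP.atlas
    obtain ⟨c, hc⟩ := (yon S).map_surjective (q ≫ pullback.snd a g)
    have key : q ≫ pullback.snd a g = (yon S).map c ≫ 𝟙 ((yon S).obj T) := by rw [Category.comp_id, hc]
    refine ⟨V, c, q ≫ pullback.fst a g, by rw [Category.assoc, pullback.condition, hc, Category.assoc],
      hfl q (𝟙 _) c hqe (repWith_id _ T) key, hfp q (𝟙 _) c hqe (repWith_id _ T) key, ⟨fun t => ?_⟩⟩
    obtain ⟨x, hx⟩ := hs (Points.schemeHomeo T t)
    obtain ⟨v, rfl⟩ := ASp.surjective_ofPt_of_repWith hqs x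
    refine ⟨v, (Points.schemeHomeo T).injective ?_⟩
    rw [← hx, ← Points.map_yon_map_apply, hc, Points.map_comp]
    congr 1
  exact (Sheaf.isLocallySurjective_iff_epi' (Type (u + 1)) a).1 this

end Groth.Agent.S10096
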