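import Groth.Statements.S10097
import Groth.Agent.Lib.AlgSpRepBy

set_option autoImplicit false
set_option backward.isDefEq.respectTransparency.types false
universe u
open CategoryTheory CategoryTheory.Limits AlgebraicGeometry
open AlgSp

namespace Groth.Agent.S10097

/-- (1) ⇔ (2): for a presheaf of sets `F` on schemes over `S`, the diagonal `F ⟶ F × F` is representable
by algebraic spaces if and only if every map `h_T ⟶ F` from a scheme `T` over `S` is representable
by algebraic spaces. -/
theorem result (S : Scheme.{u}) (F : AlgSp.PSp S) :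
    AlgSp.RepBySp (Limits.diag F) ↔
      ∀ (T : Over S) (ξ : (AlgSp.pyon S).obj T ⟶ F), AlgSp.RepBySp ξ := by
  constructor
  · intro hd T ξ
    have e : prod.lift (𝟙 _) ξ ≫ prod.snd = ξ := prod.lift_snd _ _
    rw [← e]
    have hw : ξ ≫ Limits.diag F = prod.lift (𝟙 _) ξ ≫ prod.map ξ (𝟙 F) :=
      ASp.comp_diag_eq (by rw [Category.assoc, prod.map_fst, ← Category.assoc, prod.lift_fst, Category.id_comp])
        (by rw [Category.assoc, prod.map_snd, Category.comp_id, prod.lift_snd])
    refine ASp.repBySp_comp (ASp.repBySp_baseChange (f := Limits.diag F) (p := ξ) (g := prod.map ξ (𝟙 F))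
      ⟨⟨hw⟩, ⟨PullbackCone.isLimitAux' _ fun s => ?_⟩⟩ hd) ?_
    · obtain ⟨h₁, h₂⟩ := ASp.eq_of_comp_diag
        (show s.fst ≫ Limits.diag F = s.snd ≫ prod.map ξ (𝟙 F) from s.condition)
      rw [prod.map_fst] at h₁
      rw [prod.map_snd, Category.comp_id] at h₂
      refine ⟨s.snd ≫ prod.fst, ?_, ?_, fun {m} _ hm => ?_⟩
      · exact (Category.assoc _ _ _).trans h₁.symm
      · change (s.snd ≫ prod.fst) ≫ prod.lift (𝟙 _) ξ = s.snd
        apply Limits.prod.hom_ext
        · rw [Category.assoc _ _ prod.fst, prod.lift_fst, Category.comp_id]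
        · rw [Category.assoc _ _ prod.snd, prod.lift_snd, Category.assoc, ← h₁, h₂]
      · rw [← show (m : s.pt ⟶ (pyon S).obj T) ≫ prod.lift (𝟙 _) ξ = s.snd from hm]
        exact ((Category.assoc _ _ _).trans ((congrArg (m ≫ ·) (prod.lift_fst _ _)).trans (Category.comp_id _))).symm
    · intro U η F' fst snd sq
      let p₁ : (pyon S).obj (T ⨯ U) ⟶ (pyon S).obj T := (pyon S).map prod.fst
      let p₂ : (pyon S).obj (T ⨯ U) ⟶ (pyon S).obj U := (pyon S).map prod.snd
      let hlim := Limits.isLimitOfHasBinaryProductOfPreservesLimit (pyon S) T U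
      have hw : prod.lift p₁ (p₂ ≫ η) ≫ prod.snd = p₂ ≫ η := prod.lift_snd _ _
      have sq' : IsPullback (prod.lift p₁ (p₂ ≫ η)) p₂ prod.snd η := by
        refine ⟨⟨hw⟩, ⟨PullbackCone.IsLimit.mk hw (fun s => hlim.lift (BinaryFan.mk (s.fst ≫ prod.fst) s.snd))
          (fun s => ?_) (fun s => ?_) fun s m h₁ h₂ => ?_⟩⟩
        · apply Limits.prod.hom_ext
          · rw [Category.assoc, prod.lift_fst]
            exact hlim.fac _ ⟨WalkingPair.left⟩
          · rw [Category.assoc, prod.lift_snd, s.condition, ← Category.assoc]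
            exact congrArg (· ≫ η) (hlim.fac _ ⟨WalkingPair.right⟩)
        · exact hlim.fac _ ⟨WalkingPair.right⟩
        · refine BinaryFan.IsLimit.hom_ext hlim ?_ ?_
          · refine Eq.trans ?_ (hlim.fac (BinaryFan.mk (s.fst ≫ prod.fst) s.snd) ⟨WalkingPair.left⟩).symm
            change m ≫ p₁ = s.fst ≫ prod.fst
            rw [← h₁, Category.assoc, prod.lift_fst]
          · exact h₂.trans (hlim.fac (BinaryFan.mk (s.fst ≫ prod.fst) s.snd) ⟨WalkingPair.right⟩).symm
      exact ((isAlgSpaceP_obj_iff ((yon S).obj (T ⨯ U))).2 (IsAlgSpace.yon_obj _)).of_iso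
        (sq'.isoIsPullback _ _ sq)
  · intro h U g F' fst snd sq
    let u := g ≫ prod.fst
    let v := g ≫ prod.snd
    have sqP := IsPullback.of_hasPullback u v
    obtain ⟨hP, hPA⟩ := h U u v _ _ sqP
    let P : Sp S := ⟨pullback u v, hP⟩
    let p₁ : P ⟶ (yon S).obj U := ObjectProperty.homMk (pullback.fst u v)
    let p₂ : P ⟶ (yon S).obj U := ObjectProperty.homMk (pullback.snd u v)
    have hQA := ASp.isAlgSpace_pullback (prod.lift p₁ p₂) (Limits.diag ((yon S).obj U)) hPA (IsAlgSpace.yon_obj U)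
      ((IsAlgSpace.yon_obj (U ⨯ U)).of_iso (PreservesLimitPair.iso (yon S) U U))
    obtain ⟨hq₁, hq₂⟩ := ASp.eq_of_comp_diag (pullback.condition (f := prod.lift p₁ p₂)
      (g := Limits.diag ((yon S).obj U))).symm
    rw [prod.lift_fst] at hq₁
    rw [prod.lift_snd] at hq₂
    let q := pullback.fst (prod.lift p₁ p₂) (Limits.diag ((yon S).obj U))
    let r := pullback.snd (prod.lift p₁ p₂) (Limits.diag ((yon S).obj U))
    have hw : (r.hom ≫ u) ≫ Limits.diag F = r.hom ≫ g := by
      refine ASp.comp_diag_eq (Category.assoc _ _ _).symm ?_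
      have h₁ := congrArg (·.hom ≫ u) hq₁
      have h₂ := congrArg (·.hom ≫ v) hq₂
      change r.hom ≫ u = (q.hom ≫ pullback.fst u v) ≫ u at h₁
      change r.hom ≫ v = (q.hom ≫ pullback.snd u v) ≫ v at h₂
      have e : r.hom ≫ u = r.hom ≫ v := by
        rw [h₁, h₂, Category.assoc, Category.assoc, pullback.condition]
      rw [Category.assoc]
      exact e
    have sqQ := (IsPullback.of_hasPullback (prod.lift p₁ p₂) (Limits.diag ((yon S).obj U))).map (ASp.toP S)
    have sq' : IsPullback (r.hom ≫ u) r.hom (Limits.diag F) g := by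
      refine ⟨⟨hw⟩, ⟨PullbackCone.isLimitAux' _ fun s => ?_⟩⟩
      obtain ⟨h₁, h₂⟩ := ASp.eq_of_comp_diag (show s.fst ≫ Limits.diag F = s.snd ≫ g from s.condition)
      let w : s.pt ⟶ pullback u v := pullback.lift s.snd s.snd (h₁.symm.trans h₂)
      have hw' : w ≫ (ASp.toP S).map (prod.lift p₁ p₂) =
          (s.snd : s.pt ⟶ (ASp.toP S).obj ((yon S).obj U)) ≫ (ASp.toP S).map (Limits.diag ((yon S).obj U)) := by
        refine BinaryFan.IsLimit.hom_ext
          (Limits.isLimitOfHasBinaryProductOfPreservesLimit (ASp.toP S) ((yon S).obj U) ((yon S).obj U)) ?_ ?_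
        · refine (ASp.map_assoc_eq (ASp.toP S) _ (prod.lift_fst p₁ p₂)).trans (Eq.trans ?_
            (ASp.map_assoc_eq (ASp.toP S) _ (prod.lift_fst (𝟙 _) (𝟙 _))).symm)
          rw [CategoryTheory.Functor.map_id]
          exact (pullback.lift_fst _ _ _).trans (Category.comp_id _).symm
        · refine (ASp.map_assoc_eq (ASp.toP S) _ (prod.lift_snd p₁ p₂)).trans (Eq.trans ?_
            (ASp.map_assoc_eq (ASp.toP S) _ (prod.lift_snd (𝟙 _) (𝟙 _))).symm)
          rw [CategoryTheory.Functor.map_id]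
          exact (pullback.lift_snd _ _ _).trans (Category.comp_id _).symm
      refine ⟨sqQ.lift w s.snd hw', ?_, sqQ.lift_snd _ _ _, fun {m} _ hm => ?_⟩
      · change sqQ.lift w s.snd hw' ≫ r.hom ≫ u = s.fst
        rw [← Category.assoc]
        exact (congrArg (· ≫ u) (sqQ.lift_snd _ _ _)).trans h₁.symm
      · refine sqQ.hom_ext ?_ (hm.trans (sqQ.lift_snd _ _ _).symm)
        rw [sqQ.lift_fst]
        have a₁ := congrArg (·.hom) hq₁
        have a₂ := congrArg (·.hom) hq₂
        apply pullback.hom_ext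
        · change (m ≫ q.hom) ≫ pullback.fst u v = w ≫ pullback.fst u v
          rw [Category.assoc, pullback.lift_fst]
          exact (congrArg (m ≫ ·) a₁.symm).trans hm
        · change (m ≫ q.hom) ≫ pullback.snd u v = w ≫ pullback.snd u v
          rw [Category.assoc, pullback.lift_snd]
          exact (congrArg (m ≫ ·) a₂.symm).trans hm
    exact ((isAlgSpaceP_obj_iff _).2 hQA).of_iso (sq'.isoIsPullback _ _ sq)

end Groth.Agent.S10097
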