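import Groth.Statements.S10148
import Mathlib
import Groth.Agent.Lib.H4LinTop


set_option autoImplicit false
universe u
open LinTop

namespace Groth.Agent.S10148

/-- Let A be a weakly admissible topological ring (linearly topologized, Hausdorff and complete, having
a weak ideal of definition) and let I be a weak ideal of definition of A, that is, an open ideal
consisting of topologically nilpotent elements. Then (A, I) is a henselian pair. -/
theorem result
    (A : Type u) [CommRing A] [UniformSpace A] [IsUniformAddGroup A] [IsTopologicalRing A]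
    (hA : LinTop.IsWeaklyAdmissible A) (I : Ideal A) (hI : LinTop.IsWeakIdealOfDefinition A I) :
    HenselianRing A I := by
  obtain ⟨hp, hT, hC⟩ := hA
  have := hp.1
  have hjac := H4LinTop.le_jacobson hI.2
  refine { jac := hjac, is_henselian := fun f _ a₀ ha₀ hd => ?_ }
  have hunit : ∀ a, a - a₀ ∈ I → IsUnit (f.derivative.eval a) := fun a ha => by
    have := (isLocalHom_of_le_jacobson_bot I hjac)
    refine isUnit_of_map_unit (Ideal.Quotient.mk I) _ ?_
    have h' : Ideal.Quotient.mk I a = Ideal.Quotient.mk I a₀ := Ideal.Quotient.eq.2 ha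
    rwa [← Polynomial.eval₂_at_apply, h', Polynomial.eval₂_at_apply]
  have hstep : ∀ a, a - a₀ ∈ I → f.eval a ∈ I → ∃ b, b - a₀ ∈ I ∧ f.eval a ^ 2 ∣ f.eval b ∧ f.eval a ∣ a - b := by
    intro a ha hfa
    obtain ⟨w, hw⟩ := hunit a ha
    refine ⟨a + -(↑w⁻¹ * f.eval a), ?_, ?_, ⟨↑w⁻¹, by ring⟩⟩
    · have := sub_mem ha (Ideal.mul_mem_left I (↑w⁻¹) hfa)
      convert this using 1
      ring
    · obtain ⟨k, hk⟩ := Polynomial.binomExpansion f a (-(↑w⁻¹ * f.eval a))
      refine ⟨k * ↑w⁻¹ ^ 2, ?_⟩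
      rw [hk, ← hw]
      linear_combination (-(f.eval a)) * w.mul_inv
  choose! g hg1 hg2 hg3 using hstep
  let y : ℕ → A := fun n => Nat.rec a₀ (fun _ a => g a) n
  have hI' : ∀ b, f.eval a₀ ∣ f.eval b → f.eval b ∈ I := fun b ⟨c, hc⟩ => hc ▸ Ideal.mul_mem_right c I ha₀
  have hy : ∀ n, y n - a₀ ∈ I ∧ f.eval a₀ ^ (n + 1) ∣ f.eval (y n) := by
    intro n
    induction n with
    | zero => exact ⟨by simp [y], by simp [y]⟩
    | succ n ih =>
      have hmem := hI' _ ((dvd_pow_self _ n.succ_ne_zero).trans ih.2)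
      refine ⟨hg1 _ ih.1 hmem, dvd_trans ?_ (hg2 _ ih.1 hmem)⟩
      refine (pow_dvd_pow _ ?_).trans ((pow_mul (f.eval a₀) (n + 1) 2).dvd.trans (pow_dvd_pow_of_dvd ih.2 2))
      omega
  have htn : Filter.Tendsto (fun n => f.eval a₀ ^ n) Filter.atTop (nhds 0) := hI.2 _ ha₀
  have hsmall : ∀ z : ℕ → A, (∀ n, f.eval a₀ ^ (n + 1) ∣ z n) → Filter.Tendsto z Filter.atTop (nhds 0) := by
    intro z hz
    refine tendsto_nhds.2 fun S hS h0 => ?_
    obtain ⟨U, hU, hUS⟩ := H4LinTop.exists_open_ideal (hS.mem_nhds h0)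
    obtain ⟨N, hN⟩ := Filter.eventually_atTop.1 (htn.eventually_mem (hU.mem_nhds U.zero_mem))
    refine Filter.eventually_atTop.2 ⟨N, fun n hn => hUS ?_⟩
    obtain ⟨c, hc⟩ := hz n
    show z n ∈ U
    rw [hc]
    exact Ideal.mul_mem_right c U (hN (n + 1) (by omega))
  obtain ⟨L, hL⟩ := H4LinTop.exists_tendsto (y := y) (hsmall _ fun n =>
    (hy n).2.trans (hg3 _ (hy n).1 (hI' _ ((dvd_pow_self _ n.succ_ne_zero).trans (hy n).2))))
  refine ⟨L, ?_, (H4LinTop.isClosed_of_isOpen hI.1).mem_of_tendsto (hL.sub_const a₀)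
    (Filter.Eventually.of_forall fun n => (hy n).1)⟩
  exact tendsto_nhds_unique ((f.continuous.tendsto L).comp hL) (hsmall _ fun n => (hy n).2)

end Groth.Agent.S10148
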