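import Groth.Statements.S1015
import Groth.Agent.Lib.H7RpushQCoh
import Mathlib

set_option autoImplicit false
universe u
open CategoryTheory CategoryTheory.Limits AlgebraicGeometry
attribute [local instance] HasDerivedCategory.standard
open Perf

namespace Groth.Agent.S1015

/-- Let U ⊆ X be an open subscheme whose inclusion is quasi-compact. Every object F of D(O_U) with
quasi-coherent cohomology sheaves is the restriction of such an object on X: there is a complex G of
O_X-modules with quasi-coherent cohomology sheaves whose termwise restriction to U is isomorphic to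
F in D(O_U). -/
theorem result (X : Scheme.{u}) (U : X.Opens) [QuasiCompact U.ι]
    (F : DCoh.D (U : Scheme.{u})) (hF : DCoh.IsQCohD F) :
    ∃ G : CochainComplex X.Modules ℤ, DCoh.IsQCohD (DCoh.toD X G) ∧
      Nonempty (DerivedCategory.Q.obj ((DCoh.restrictCx U).obj G) ≅ F) := by
  haveI := Groth.Agent.H7MV.hasRpush U.ι
  obtain ⟨I, hI, ⟨e⟩⟩ := Groth.Agent.H5KApps.exists_kInj_iso Groth.Agent.H5KApps.enoughKInj_of_grothendieck F
  let P := Scheme.Modules.pushforward U.ι
  let r := Scheme.Modules.restrictFunctor U.ι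
  let e' : DerivedCategory.Q.obj ((Groth.Agent.H7RpushCalc.pushCx U.ι).obj I) ≅ (DCoh.Rpush U.ι).obj F :=
    (Groth.Agent.H7RpushCalc.rpushIso U.ι I hI).symm ≪≫ (DCoh.Rpush U.ι).mapIso e
  refine ⟨(Groth.Agent.H7RpushCalc.pushCx U.ι).obj I,
    Groth.Agent.H7RpushQCoh.isQCohD_of_iso e'.symm (Groth.Agent.H7RpushQCoh.isQCohD_rpush U.ι F hF), ⟨?_⟩⟩
  exact DerivedCategory.Q.mapIso ((Functor.mapHomologicalComplexCompIso
      (asIso (Scheme.Modules.restrictAdjunction U.ι).counit : P ⋙ r ≅ 𝟭 _) _).app I ≪≫
    (Functor.mapHomologicalComplexIdIso _ _).app I) ≪≫ e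

end Groth.Agent.S1015
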