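import Groth.Statements.S10151
import Mathlib
import Groth.Agent.Lib.H4LinTop


set_option autoImplicit false
universe u v w
open LinTop

namespace Groth.Agent.S10151

/-- Given linearly topologized rings A, B, C and continuous ring maps ψ : B → C and φ : A → B, tautness
of the composite A → C implies that ψ is taut. -/
theorem result
    (A : Type u) [CommRing A] [TopologicalSpace A] [IsTopologicalRing A] [IsLinearTopology A A]
    (B : Type v) [CommRing B] [TopologicalSpace B] [IsTopologicalRing B] [IsLinearTopology B B]
    (C : Type w) [CommRing C] [TopologicalSpace C] [IsTopologicalRing C] [IsLinearTopology C C]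
    (φ : A →+* B) (ψ : B →+* C) (hφ : Continuous φ) (hψ : Continuous ψ)
    (h : LinTop.IsTaut (ψ.comp φ)) : LinTop.IsTaut ψ := by
  refine ⟨hψ, fun J hJ => ?_, fun U hU => ?_⟩
  · refine H4LinTop.isOpen_of_le (I := ((J.comap φ).map (ψ.comp φ)).closure) (J := (J.map ψ).closure)
      (H4LinTop.closure_mono' ?_) (h.2.1 _ (hJ.preimage hφ))
    rw [← Ideal.map_map]
    exact Ideal.map_mono Ideal.map_comap_le
  · obtain ⟨V, hV, hVU⟩ := H4LinTop.exists_open_ideal hU
    exact ⟨V.comap ψ, hV.preimage hψ, fun x hx =>
      hVU (H4LinTop.closure_le Ideal.map_comap_le hV hx)⟩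

end Groth.Agent.S10151
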