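import Groth.Statements.S10152
import Mathlib
import Groth.Agent.Lib.H4LinTop


set_option autoImplicit false
universe u v
open LinTop

namespace Groth.Agent.S10152

/-- Let φ : A → B be a taut homomorphism of linearly topologized rings. If A has a countable fundamental
system of open ideals, then so does B (equivalently, the neighbourhood filters of 0 are countably
generated). -/
theorem result
    (A : Type u) [CommRing A] [TopologicalSpace A] [IsTopologicalRing A] [IsLinearTopology A A]
    (B : Type v) [CommRing B] [TopologicalSpace B] [IsTopologicalRing B] [IsLinearTopology B B]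
    (φ : A →+* B) (hφ : LinTop.IsTaut φ) (hA : (nhds (0 : A)).IsCountablyGenerated) :
    (nhds (0 : B)).IsCountablyGenerated := by
  have := hA
  obtain ⟨V, hV⟩ := Filter.exists_antitone_basis (nhds (0 : A))
  have h0 : ∀ n, ∃ J : Ideal A, IsOpen (J : Set A) ∧ (J : Set A) ⊆ V n := fun n =>
    H4LinTop.exists_open_ideal (hV.mem n)
  choose J hJ hJV using h0
  have hb : (nhds (0 : B)).HasBasis (fun _ : ℕ => True) (fun n => closure (((J n).map φ : Ideal B) : Set B)) := by
    refine ⟨fun U => ⟨fun hU => ?_, fun ⟨n, _, hn⟩ => ?_⟩⟩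
    · obtain ⟨I, hI, hIU⟩ := hφ.2.2 U hU
      obtain ⟨n, hn⟩ := hV.mem_iff.1 (hI.mem_nhds I.zero_mem)
      exact ⟨n, trivial, (closure_mono (Ideal.map_mono fun x hx => hn (hJV n hx))).trans hIU⟩
    · exact Filter.mem_of_superset ((hφ.2.1 _ (hJ n)).mem_nhds (subset_closure (zero_mem _))) hn
  exact hb.isCountablyGenerated

end Groth.Agent.S10152
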