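import Groth.Statements.S10155
import Mathlib
import Groth.Agent.Lib.H4LinTopCompl


set_option autoImplicit false
universe u v
open LinTop

namespace Groth.Agent.S10155

/-- Let φ : A → B be a taut homomorphism of linearly topologized rings with dense image. Assume A is
Hausdorff and complete with a countable fundamental system of open ideals and B is Hausdorff. Then φ
is surjective and open, so that B is the quotient of A by the closed ideal ker φ with the quotient
topology, and B is complete. -/
theorem result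
    (A : Type u) [CommRing A] [UniformSpace A] [IsUniformAddGroup A] [IsTopologicalRing A]
    [IsLinearTopology A A] [T2Space A] [CompleteSpace A] (hA : (nhds (0 : A)).IsCountablyGenerated)
    (B : Type v) [CommRing B] [UniformSpace B] [IsUniformAddGroup B] [IsTopologicalRing B]
    [IsLinearTopology B B] [T2Space B]
    (φ : A →+* B) (hφ : LinTop.IsTaut φ) (hd : DenseRange φ) :
    Function.Surjective φ ∧ IsOpenQuotientMap φ ∧ CompleteSpace B := by
  have := hA
  obtain ⟨V, hV⟩ := Filter.exists_antitone_basis (nhds (0 : A))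
  have h0 : ∀ n, ∃ J : Ideal A, IsOpen (J : Set A) ∧ (J : Set A) ⊆ V n := fun n =>
    H4LinTop.exists_open_ideal (hV.mem n)
  choose J0 hJ0 hJ0V using h0
  let J : ℕ → Ideal A := fun n => (Finset.range n).inf J0
  have hJ : ∀ n, IsOpen ((J n : Ideal A) : Set A) := fun n =>
    Finset.inf_induction (p := fun K : Ideal A => IsOpen (K : Set A)) isOpen_univ
      (fun _ h1 _ h2 => H4LinTop.isOpen_inf h1 h2) fun k _ => hJ0 k
  have hanti : Antitone J := fun m n h => Finset.inf_mono (Finset.range_mono h)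
  have hJle : ∀ n, J (n + 1) ≤ J0 n := fun n => Finset.inf_le (Finset.mem_range.2 n.lt_succ_self)
  have hX : ∀ U ∈ nhds (0 : A), ∃ n, ((J n).toAddSubgroup : Set A) ⊆ U := fun U hU => by
    obtain ⟨n, hn⟩ := hV.mem_iff.1 hU
    exact ⟨n + 1, fun x hx => hn (hJ0V n (hJle n hx))⟩
  have key : ∀ I : Ideal A, ((I.map φ : Ideal B) : Set B) ⊆ closure (φ '' (I : Set A)) := fun I => by
    let K : Ideal B :=
      { carrier := closure (φ '' (I : Set A))
        add_mem' := fun ha hb => map_mem_closure₂ continuous_add ha hb (by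
          rintro _ ⟨a, ha, rfl⟩ _ ⟨b, hb, rfl⟩
          exact ⟨a + b, I.add_mem ha hb, map_add φ a b⟩)
        zero_mem' := subset_closure ⟨0, I.zero_mem, map_zero φ⟩
        smul_mem' := fun c x hx => map_mem_closure₂ continuous_mul (hd c) hx (by
          rintro _ ⟨a, rfl⟩ _ ⟨b, hb, rfl⟩
          exact ⟨a * b, I.mul_mem_left a hb, map_mul φ a b⟩) }
    exact (Ideal.map_le_iff_le_comap (f := φ) (K := K)).2 fun a ha => subset_closure ⟨a, ha, rfl⟩
  have hY : ∀ n, closure (φ '' ((J n).toAddSubgroup : Set A)) ∈ nhds (0 : B) := fun n =>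
    Filter.mem_of_superset ((hφ.2.1 _ (hJ n)).mem_nhds (subset_closure (zero_mem _)))
      (closure_minimal (key _) isClosed_closure)
  have hY' : ∀ U ∈ nhds (0 : B), ∃ n, closure (φ '' ((J n).toAddSubgroup : Set A)) ⊆ U := fun U hU => by
    obtain ⟨I, hI, hIU⟩ := hφ.2.2 U hU
    obtain ⟨n, hn⟩ := hX _ (hI.mem_nhds I.zero_mem)
    refine ⟨n, (closure_mono ?_).trans hIU⟩
    rintro _ ⟨a, ha, rfl⟩
    exact Ideal.mem_map_of_mem φ (hn ha)
  have himg := H4LinTopCompl.image_eq_closure φ.toAddMonoidHom hφ.1 (fun n => (J n).toAddSubgroup)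
    (fun m n h => hanti h) hJ hX hY hY'
  have hnhds : ∀ n, φ '' (J n : Set A) ∈ nhds (0 : B) := fun n =>
    Filter.mem_of_superset (hY n) (himg n).ge
  have hsurj : Function.Surjective φ := fun b => by
    have hb : b ∈ closure (φ '' ((J 0).toAddSubgroup : Set A)) := by
      have : ((J 0).toAddSubgroup : Set A) = Set.univ := rfl
      rw [this, Set.image_univ]
      exact hd b
    obtain ⟨a, -, ha⟩ := (himg 0).ge hb
    exact ⟨a, ha⟩
  have hopen : IsOpenMap φ := IsTopologicalAddGroup.isOpenMap_iff_nhds_zero.2 fun U hU => by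
    obtain ⟨n, hn⟩ := hX _ hU
    exact Filter.mem_of_superset (hnhds n) (Set.image_subset_iff.2 hn)
  refine ⟨hsurj, ⟨hsurj, hφ.1, hopen⟩, ?_⟩
  have hBc : (nhds (0 : B)).IsCountablyGenerated :=
    Filter.HasBasis.isCountablyGenerated (p := fun _ : ℕ => True) (s := fun n => φ '' (J n : Set A))
      ⟨fun U => ⟨fun hU => by
        obtain ⟨n, hn⟩ := hY' U hU
        exact ⟨n, trivial, subset_closure.trans hn⟩,
        fun ⟨n, _, hn⟩ => Filter.mem_of_superset (hnhds n) hn⟩⟩
  have : (uniformity B).IsCountablyGenerated := IsUniformAddGroup.uniformity_countably_generated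
  refine UniformSpace.complete_of_cauchySeq_tendsto fun b hb => ?_
  have hN : ∀ n, ∃ N, ∀ k ≥ N, ∀ l ≥ N, b l - b k ∈ φ '' (J n : Set A) := fun n =>
    cauchySeq_iff.1 hb _ (by rw [uniformity_eq_comap_nhds_zero]; exact ⟨_, hnhds n, Set.Subset.rfl⟩)
  choose N hN using hN
  let K : ℕ → ℕ := fun n => Nat.rec (N 0) (fun k m => max (N (k + 1)) (m + 1)) n
  have hK : StrictMono K := strictMono_nat_of_lt_succ fun n =>
    lt_of_lt_of_le (Nat.lt_succ_self _) (le_max_right _ _)
  have hKN : ∀ n, N n ≤ K n := fun n => by cases n with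
    | zero => exact le_rfl
    | succ n => exact le_max_left _ _
  choose a ha1 ha2 using fun n => hN n (K n) (hKN n) (K (n + 1)) ((hKN n).trans (hK (Nat.lt_succ_self n)).le)
  obtain ⟨S, hS⟩ := H4LinTop.summable_of_tendsto_zero (d := a) (tendsto_nhds.2 fun S hS h0 => by
    obtain ⟨m, hm⟩ := hX S (hS.mem_nhds h0)
    exact Filter.eventually_atTop.2 ⟨m, fun n hn => hm (hanti hn (ha1 n))⟩)
  refine ⟨φ S + b (K 0), tendsto_nhds_of_cauchySeq_of_subseq hb hK.tendsto_atTop ?_⟩
  have h1 := ((hφ.1.tendsto S).comp hS.tendsto_sum_nat).add_const (b (K 0))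
  refine h1.congr fun n => ?_
  simp only [Function.comp_apply, map_sum, ha2]
  rw [Finset.sum_range_sub (fun n => b (K n)) n, sub_add_cancel]

end Groth.Agent.S10155
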