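import Groth.Statements.S10156
import Mathlib
import Groth.Agent.Lib.H4LinTop


set_option autoImplicit false
universe u v w
open LinTop

namespace Groth.Agent.S10156

/-- Given pre-adic rings A, B, C and continuous ring maps ψ : B → C and φ : A → B, adicness of the
composite A → C implies that ψ is adic. -/
theorem result
    (A : Type u) [CommRing A] [TopologicalSpace A] [IsTopologicalRing A] (hA : LinTop.IsPreadic A)
    (B : Type v) [CommRing B] [TopologicalSpace B] [IsTopologicalRing B] (hB : LinTop.IsPreadic B)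
    (C : Type w) [CommRing C] [TopologicalSpace C] [IsTopologicalRing C] (hC : LinTop.IsPreadic C)
    (φ : A →+* B) (ψ : B →+* C) (hφ : Continuous φ) (hψ : Continuous ψ)
    (h : LinTop.IsAdicHom (ψ.comp φ)) : LinTop.IsAdicHom ψ := by
  obtain ⟨K, hK⟩ := hB
  obtain ⟨I, hI, hIC⟩ := h
  obtain ⟨n, hn, hnK⟩ := H4LinTop.pow_le_of_isOpen (U := K.comap φ) hI
    ((H4LinTop.isIdealOfDefinition_of_isAdic hK).1.preimage hφ)
  have hJn : (K ⊔ I.map φ) ^ n ≤ K := by
    rw [sup_comm]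
    refine (H4LinTop.sup_pow_le _ _ n).trans (sup_le ?_ le_rfl)
    rw [← Ideal.map_pow]
    exact Ideal.map_le_iff_le_comap.2 hnK
  have hlin : IsLinearTopology B B := H4LinTop.isLinearTopology_of_isPreadic ⟨K, hK⟩
  have hJ : LinTop.IsIdealOfDefinition B (K ⊔ I.map φ) :=
    H4LinTop.isIdealOfDefinition_of_pow_le (H4LinTop.isIdealOfDefinition_of_isAdic hK)
      (H4LinTop.isOpen_of_le le_sup_left (H4LinTop.isIdealOfDefinition_of_isAdic hK).1) hn hJn
  refine ⟨K ⊔ I.map φ, hJ, H4LinTop.isAdic_of_isIdealOfDefinition hIC ⟨?_, fun U hU => ?_⟩⟩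
  · refine H4LinTop.isOpen_of_le ?_ (H4LinTop.isIdealOfDefinition_of_isAdic hIC).1
    rw [Ideal.map_sup, Ideal.map_map]
    exact le_sup_right
  · obtain ⟨k, hk, hkU⟩ := (H4LinTop.isIdealOfDefinition_of_isAdic hIC).2 U hU
    obtain ⟨m, hm, hmI⟩ := H4LinTop.pow_le_of_isOpen (U := (I.map (ψ.comp φ)).comap ψ) hJ
      ((H4LinTop.isIdealOfDefinition_of_isAdic hIC).1.preimage hψ)
    refine ⟨m * k, Nat.mul_pos hm hk, fun x hx =>
      hkU (Ideal.pow_right_mono (I := ((K ⊔ I.map φ) ^ m).map ψ) (Ideal.map_le_iff_le_comap.2 hmI) k ?_)⟩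
    rwa [SetLike.mem_coe, Ideal.map_pow, ← pow_mul] at *

end Groth.Agent.S10156
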