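import Groth.Statements.S10157
import Mathlib
import Groth.Agent.Lib.H4LinTop


set_option autoImplicit false
universe u v
open LinTop

namespace Groth.Agent.S10157

/-- A continuous adic homomorphism φ : A → B between pre-adic topological rings is taut. -/
theorem result
    (A : Type u) [CommRing A] [TopologicalSpace A] [IsTopologicalRing A] (hA : LinTop.IsPreadic A)
    (B : Type v) [CommRing B] [TopologicalSpace B] [IsTopologicalRing B] (hB : LinTop.IsPreadic B)
    (φ : A →+* B) (hφ : Continuous φ) (h : LinTop.IsAdicHom φ) : LinTop.IsTaut φ := by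
  obtain ⟨I, hI, hIB⟩ := h
  obtain ⟨L, hL⟩ := hA
  have hIA := isAdic_iff.1 (H4LinTop.isAdic_of_isIdealOfDefinition hL hI)
  have hB' := isAdic_iff.1 hIB
  refine ⟨hφ, fun J hJ => ?_, fun U hU => ?_⟩
  · obtain ⟨n, hn⟩ := hIA.2 _ (hJ.mem_nhds J.zero_mem)
    refine H4LinTop.isOpen_of_le (I := (I.map φ) ^ n) (J := (J.map φ).closure) ?_ (hB'.1 n)
    rw [← Ideal.map_pow]
    exact (Ideal.map_mono hn).trans (H4LinTop.le_closure _)
  · obtain ⟨n, hn⟩ := hB'.2 U hU
    refine ⟨I ^ n, hIA.1 n, ?_⟩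
    rw [Ideal.map_pow]
    exact fun x hx => hn (H4LinTop.closure_le le_rfl (hB'.1 n) hx)

end Groth.Agent.S10157
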