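import Groth.Statements.S10158
import Mathlib
import Groth.Agent.Lib.H4LinTop


set_option autoImplicit false
universe u v
open LinTop

namespace Groth.Agent.S10158

/-- Let φ : A → B be a taut homomorphism of linearly topologized rings. Assume A is pre-adic with a
finitely generated ideal of definition I and B is Hausdorff and complete. Then the topology of B is
the φ(I)B-adic topology; in particular B is adic with a finitely generated ideal of definition and φ
is adic. -/
theorem result
    (A : Type u) [CommRing A] [TopologicalSpace A] [IsTopologicalRing A] (hA : LinTop.IsPreadic A)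
    (I : Ideal A) (hI : LinTop.IsIdealOfDefinition A I) (hfg : I.FG)
    (B : Type v) [CommRing B] [UniformSpace B] [IsUniformAddGroup B] [IsTopologicalRing B]
    [IsLinearTopology B B] [T2Space B] [CompleteSpace B]
    (φ : A →+* B) (hφ : LinTop.IsTaut φ) :
    IsAdic (I.map φ) := by
  obtain ⟨L, hL⟩ := hA
  have hIA := isAdic_iff.1 (H4LinTop.isAdic_of_isIdealOfDefinition hL hI)
  have hopen := H4LinTop.taut_closure_pow hφ (I := I) (fun n => by
    rw [(H4LinTop.isClosed_of_isOpen (hIA.1 n)).closure_eq]; exact hIA.1 n)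
  have hbasis : ∀ U ∈ nhds (0 : B), ∃ n : ℕ, (((I.map φ) ^ n : Ideal B) : Set B) ⊆ U := by
    intro U hU
    obtain ⟨J, hJ, hJU⟩ := hφ.2.2 U hU
    obtain ⟨n, hn⟩ := hIA.2 _ (hJ.mem_nhds J.zero_mem)
    refine ⟨n, fun x hx => hJU (subset_closure ?_)⟩
    rw [← Ideal.map_pow] at hx
    exact Ideal.map_mono hn hx
  refine isAdic_iff.2 ⟨fun n => ?_, hbasis⟩
  rw [← H4LinTop.closure_pow_eq (hfg.map φ) hopen hbasis n]
  exact hopen n

end Groth.Agent.S10158
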