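import Groth.Statements.S10159
import Mathlib
import Groth.Agent.Lib.H4LinTop


set_option autoImplicit false
universe u
open LinTop

namespace Groth.Agent.S10159

/-- For a ring A carrying a linear topology, the following four conditions are equivalent: (1) A is
weakly pre-adic; (2) there exist a pre-adic topological ring A' and a taut continuous ring
homomorphism A' → A (A' is taken in the universe of A, which suffices since A with an adic topology
serves); (3) A has an ideal of definition, and for at least one ideal of definition I every closure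
cl(I^n) with n ≥ 1 is open; (4) A has an ideal of definition, and for each of its ideals of
definition I every closure cl(I^n) with n ≥ 1 is open. -/
theorem result
    (A : Type u) [CommRing A] [TopologicalSpace A] [IsTopologicalRing A] [IsLinearTopology A A] :
    List.TFAE [LinTop.IsWeaklyPreadic A,
      ∃ (A' : Type u) (_ : CommRing A') (_ : TopologicalSpace A') (_ : IsTopologicalRing A')
        (φ : A' →+* A), LinTop.IsPreadic A' ∧ LinTop.IsTaut φ,
      LinTop.IsPreadmissible A ∧ ∃ I : Ideal A, LinTop.IsIdealOfDefinition A I ∧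
        ∀ n : ℕ, 0 < n → IsOpen (closure ((I ^ n : Ideal A) : Set A)),
      LinTop.IsPreadmissible A ∧ ∀ I : Ideal A, LinTop.IsIdealOfDefinition A I →
        ∀ n : ℕ, 0 < n → IsOpen (closure ((I ^ n : Ideal A) : Set A))] := by
  tfae_have 1 → 3 := fun h => by
    obtain ⟨I, hI, hopen⟩ := H4LinTop.exists_of_weaklyPreadic h
    exact ⟨⟨inferInstance, I, hI⟩, I, hI, fun n _ => hopen n⟩
  tfae_have 3 → 4 := fun ⟨hp, I, hI, hopen⟩ => by
    refine ⟨hp, fun J hJ n _ => H4LinTop.closure_pow_isOpen_of hI (fun k => ?_) hJ.1 n⟩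
    rcases Nat.eq_zero_or_pos k with rfl | hk
    · simp
    · exact hopen k hk
  tfae_have 4 → 1 := fun ⟨hp, hopen⟩ => by
    obtain ⟨I, hI⟩ := hp.2
    refine H4LinTop.weaklyPreadic_of hI fun k => ?_
    rcases Nat.eq_zero_or_pos k with rfl | hk
    · simp
    · exact hopen I hI k hk
  tfae_have 1 → 2 := fun h => by
    obtain ⟨I, hI, hopen⟩ := H4LinTop.exists_of_weaklyPreadic h
    refine ⟨A, inferInstance, I.adicTopology, ?_, RingHom.id A, ⟨I, rfl⟩, ?_, fun J hJ => ?_, fun U hU => ?_⟩
    · exact RingFilterBasis.isTopologicalRing _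
    · refine continuous_def.2 fun U hU => (@isOpen_iff_mem_nhds A I.adicTopology _).2 fun x hx => ?_
      have hx' : (x + ·) ⁻¹' U ∈ nhds (0 : A) :=
        (hU.preimage (continuous_const_add x)).mem_nhds (by simpa using hx)
      obtain ⟨n, -, hn⟩ := hI.2 _ hx'
      exact (I.hasBasis_nhds_adic x).mem_iff.2 ⟨n, trivial, Set.image_subset_iff.2 hn⟩
    · obtain ⟨n, -, hn⟩ := (I.hasBasis_nhds_zero_adic).mem_iff.1
        (@IsOpen.mem_nhds A I.adicTopology _ _ hJ J.zero_mem)
      exact H4LinTop.isOpen_of_le (I := (I ^ n).closure) (J := (J.map (RingHom.id A)).closure)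
        (H4LinTop.closure_mono' (by simpa using hn)) (hopen n)
    · obtain ⟨V, hV, hVU⟩ := H4LinTop.exists_open_ideal hU
      obtain ⟨n, -, hn⟩ := H4LinTop.pow_le_of_isOpen hI hV
      refine ⟨I ^ n, (@isAdic_iff A _ I.adicTopology (RingFilterBasis.isTopologicalRing _) I).1 rfl |>.1 n, ?_⟩
      rw [Ideal.map_id]
      exact fun x hx => hVU (H4LinTop.closure_le hn hV hx)
  tfae_have 2 → 1 := fun ⟨A', _, _, _, φ, hA', hφ⟩ => by
    have := H4LinTop.isLinearTopology_of_isPreadic hA'
    obtain ⟨L, hL⟩ := hA'
    refine H4LinTop.taut_weaklyPreadic hφ (H4LinTop.weaklyPreadic_of (H4LinTop.isIdealOfDefinition_of_isAdic hL) fun n => ?_)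
    have h := (isAdic_iff.1 hL).1 n
    rwa [(H4LinTop.isClosed_of_isOpen h).closure_eq]
  tfae_finish

end Groth.Agent.S10159
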