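import Groth.Statements.S10160
import Mathlib
import Groth.Agent.Lib.H4LinTop


set_option autoImplicit false
universe u
open LinTop

namespace Groth.Agent.S10160

/-- A weakly adic topological ring is admissible and has a countable fundamental system of open ideals. -/
theorem result
    (A : Type u) [CommRing A] [UniformSpace A] [IsUniformAddGroup A] [IsTopologicalRing A] (hA : LinTop.IsWeaklyAdic A) :
    LinTop.IsAdmissible A ∧ (nhds (0 : A)).IsCountablyGenerated := by
  obtain ⟨hp, hT, hC⟩ := hA
  have := hp.1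
  obtain ⟨I, hI, hopen⟩ := H4LinTop.exists_of_weaklyPreadic hp
  refine ⟨⟨⟨inferInstance, I, hI⟩, hT, hC⟩, ?_⟩
  have hb : (nhds (0 : A)).HasBasis (fun _ : ℕ => True) (fun n => closure ((I ^ n : Ideal A) : Set A)) := by
    refine ⟨fun U => ⟨fun hU => ?_, fun ⟨n, _, hn⟩ => ?_⟩⟩
    · obtain ⟨J, hJ, hJU⟩ := H4LinTop.exists_open_ideal hU
      obtain ⟨n, -, hn⟩ := H4LinTop.pow_le_of_isOpen hI hJ
      exact ⟨n, trivial, fun x hx => hJU (H4LinTop.closure_le hn hJ hx)⟩
    · exact Filter.mem_of_superset ((hopen n).mem_nhds (subset_closure (zero_mem _))) hn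
  exact hb.isCountablyGenerated

end Groth.Agent.S10160
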