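import Groth.Statements.S10164
import Mathlib
import Groth.Agent.Lib.H4LinTop


set_option autoImplicit false
universe u
open LinTop

namespace Groth.Agent.S10164

/-- Let A be weakly adic and I an ideal of definition of A with I/I₂ finitely generated, where I₂
denotes the closure of I^2 (here: I maps onto a finitely generated ideal of A/I₂). Then A is adic,
and some finitely generated ideal of A is an ideal of definition. -/
theorem result
    (A : Type u) [CommRing A] [UniformSpace A] [IsUniformAddGroup A] [IsTopologicalRing A] (hA : LinTop.IsWeaklyAdic A)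
    (I : Ideal A) (hI : LinTop.IsIdealOfDefinition A I)
    (hfg : (I.map (Ideal.Quotient.mk ((I ^ 2).closure))).FG) :
    LinTop.IsAdicRing A ∧ ∃ J : Ideal A, LinTop.IsIdealOfDefinition A J ∧ J.FG := by
  obtain ⟨hp, hT, hC⟩ := hA
  have := hp.1
  obtain ⟨I0, hI0, hopen0⟩ := H4LinTop.exists_of_weaklyPreadic hp
  have hopen : ∀ n, IsOpen (closure ((I ^ n : Ideal A) : Set A)) :=
    H4LinTop.closure_pow_isOpen_of hI0 hopen0 hI.1
  obtain ⟨s, hsub, hs⟩ : ∃ s : Finset A, (s : Set A) ⊆ I ∧
      I ≤ Ideal.span (s : Set A) ⊔ (I ^ 2).closure := by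
    classical
    obtain ⟨t, ht⟩ := hfg
    have h0 : ∀ y ∈ t, ∃ x ∈ I, Ideal.Quotient.mk ((I ^ 2).closure) x = y := fun y hy =>
      (Ideal.mem_map_iff_of_surjective _ Ideal.Quotient.mk_surjective).1 (ht ▸ Ideal.subset_span hy)
    choose! g hg hg' using h0
    refine ⟨t.image g, by simpa [Set.subset_def] using hg, fun x hx => ?_⟩
    have h1 : Ideal.Quotient.mk _ x ∈ (Ideal.span ((t.image g : Finset A) : Set A)).map (Ideal.Quotient.mk ((I ^ 2).closure)) := by
      rw [Ideal.map_span, Finset.coe_image, Set.image_image, Set.image_congr hg', Set.image_id']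
      exact ht ▸ Ideal.mem_map_of_mem _ hx
    rw [Ideal.mem_quotient_iff_mem_sup] at h1
    exact h1
  set J := Ideal.span (s : Set A)
  have hJI : J ≤ I := Ideal.span_le.2 hsub
  have h1 : ∀ n, I ^ n ≤ J ^ n ⊔ (I ^ (n + 1)).closure := by
    intro n
    induction n with
    | zero => simp
    | succ n ih =>
      rw [pow_succ I n]
      refine (Ideal.mul_mono ih hs).trans ?_
      rw [Ideal.sup_mul, Ideal.mul_sup, ← pow_succ]
      refine sup_le (sup_le le_sup_left (le_trans ?_ le_sup_right)) (le_trans ?_ le_sup_right)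
      · refine (Ideal.mul_mono_left ((Ideal.pow_right_mono hJI n).trans (H4LinTop.le_closure _))).trans
          ((H4LinTop.closure_mul_le _ _).trans ?_)
        rw [← pow_add]
      · refine (Ideal.mul_mono_right (sup_le ((hJI).trans (H4LinTop.le_closure _))
          (H4LinTop.closure_mono' (Ideal.pow_le_self two_ne_zero)))).trans
          ((H4LinTop.closure_mul_le _ _).trans ?_)
        rw [← pow_succ]
  have h2 : ∀ n, (I ^ n).closure ≤ J ^ n ⊔ (I ^ (n + 1)).closure := fun n =>
    (H4LinTop.closure_le_sup _ (U := (I ^ (n + 1)).closure) (hopen _)).trans (sup_le (h1 n) le_sup_right)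
  have h3 : ∀ n k, (I ^ n).closure ≤ J ^ n ⊔ (I ^ (n + k)).closure := by
    intro n k
    induction k with
    | zero => exact le_sup_right
    | succ k ih =>
      refine ih.trans (sup_le le_sup_left ((h2 (n + k)).trans ?_))
      exact sup_le_sup (Ideal.pow_le_pow_right (Nat.le_add_right n k)) le_rfl
  have hopenJ : ∀ n, IsOpen (closure ((J ^ n : Ideal A) : Set A)) := by
    intro n
    refine H4LinTop.isOpen_of_le (I := (I ^ n).closure) (J := (J ^ n).closure) (fun x hx => ?_) (hopen n)
    rw [H4LinTop.mem_closure_iff]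
    intro U hU
    obtain ⟨m, -, hm⟩ := H4LinTop.pow_le_of_isOpen hI hU
    exact (sup_le_sup le_rfl (H4LinTop.closure_le ((Ideal.pow_le_pow_right (Nat.le_add_left m n)).trans hm) hU)) (h3 n m hx)
  have hbasis : ∀ U ∈ nhds (0 : A), ∃ n : ℕ, ((J ^ n : Ideal A) : Set A) ⊆ U := fun U hU => by
    obtain ⟨n, -, hn⟩ := hI.2 U hU
    exact ⟨n, fun x hx => hn (Ideal.pow_right_mono hJI n hx)⟩
  have hJfg : J.FG := ⟨s, rfl⟩
  have had : IsAdic J := isAdic_iff.2 ⟨fun n => by
    rw [← H4LinTop.closure_pow_eq hJfg hopenJ hbasis n]; exact hopenJ n, hbasis⟩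
  exact ⟨⟨⟨J, had⟩, hT, hC⟩, J, H4LinTop.isIdealOfDefinition_of_isAdic had, hJfg⟩

end Groth.Agent.S10164
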