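import Groth.Statements.S10166
import Mathlib
import Groth.Agent.Lib.H4LinTop


set_option autoImplicit false
universe u v
open LinTop

namespace Groth.Agent.S10166

/-- Let φ : A → B be a taut homomorphism of linearly topologized rings such that for every open ideal I
of A, with J the closure of φ(I)B, the induced map A/I → B/J is faithfully flat. If B has a
countable fundamental system of open ideals, then so does A. -/
theorem result
    (A : Type u) [CommRing A] [TopologicalSpace A] [IsTopologicalRing A] [IsLinearTopology A A]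
    (B : Type v) [CommRing B] [TopologicalSpace B] [IsTopologicalRing B] [IsLinearTopology B B]
    (φ : A →+* B) (hφ : LinTop.IsTautFFlat φ) (hB : (nhds (0 : B)).IsCountablyGenerated) :
    (nhds (0 : A)).IsCountablyGenerated := by
  have := hB
  obtain ⟨V, hV⟩ := Filter.exists_antitone_basis (nhds (0 : B))
  have h0 : ∀ n, ∃ J : Ideal A, IsOpen (J : Set A) ∧ closure ((J.map φ : Ideal B) : Set B) ⊆ V n :=
    fun n => hφ.1.2.2 _ (hV.mem n)
  choose J hJ hJV using h0
  have hb : (nhds (0 : A)).HasBasis (fun _ : ℕ => True) (fun n => (J n : Set A)) := by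
    refine ⟨fun U => ⟨fun hU => ?_, fun ⟨n, _, hn⟩ => ?_⟩⟩
    · obtain ⟨I, hI, hIU⟩ := H4LinTop.exists_open_ideal hU
      obtain ⟨n, hn⟩ := hV.mem_iff.1 ((hφ.1.2.1 I hI).mem_nhds (subset_closure (zero_mem _)))
      refine ⟨n, trivial, fun x hx => hIU ?_⟩
      rw [← H4LinTop.comap_closure_map_eq hφ hI]
      exact hn (hJV n (subset_closure (Ideal.mem_map_of_mem φ hx)))
    · exact Filter.mem_of_superset ((hJ n).mem_nhds (zero_mem _)) hn
  exact hb.isCountablyGenerated

end Groth.Agent.S10166
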