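import Groth.Statements.S10169
import Mathlib
import Groth.Agent.Lib.H4LinTop


set_option autoImplicit false
universe u v
open LinTop

namespace Groth.Agent.S10169

/-- Let φ : A → B be a taut homomorphism of linearly topologized rings such that for every open ideal I
of A the induced ring map A/I → B/J, where J denotes the closure of φ(I)B, is faithfully flat. Weak
pre-adicness then descends: when B is weakly pre-adic, A is as well. -/
theorem result
    (A : Type u) [CommRing A] [TopologicalSpace A] [IsTopologicalRing A] [IsLinearTopology A A]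
    (B : Type v) [CommRing B] [TopologicalSpace B] [IsTopologicalRing B] [IsLinearTopology B B]
    (φ : A →+* B) (hφ : LinTop.IsTautFFlat φ) (hB : LinTop.IsWeaklyPreadic B) :
    LinTop.IsWeaklyPreadic A := by
  obtain ⟨J, hJ, hopen⟩ := H4LinTop.exists_of_weaklyPreadic hB
  have hI := H4LinTop.ffl_idealOfDefinition hφ hJ
  refine H4LinTop.weaklyPreadic_of hI fun n => ?_
  have h1 := H4LinTop.closure_pow_isOpen_of hJ hopen (J := (((J.comap φ).map φ).closure)) (hφ.1.2.1 _ hI.1) n
  have h2 : IsOpen ((((J.comap φ) ^ n).map φ).closure : Set B) := by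
    refine H4LinTop.isOpen_of_le (I := ((((J.comap φ).map φ).closure) ^ n).closure) ?_ h1
    rw [Ideal.map_pow]
    exact H4LinTop.closure_le_closure (H4LinTop.closure_pow_le _ n)
  exact H4LinTop.isOpen_of_le (I := (((J.comap φ) ^ n).map φ).closure.comap φ) (J := ((J.comap φ) ^ n).closure)
    (H4LinTop.comap_closure_map_le hφ _) (h2.preimage hφ.1.1)

end Groth.Agent.S10169
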