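import Groth.Statements.S10170
import Mathlib
import Groth.Agent.Lib.H4LinTop


set_option autoImplicit false
universe u v
open LinTop

namespace Groth.Agent.S10170

/-- Let φ : A → B be a taut homomorphism of linearly topologized rings such that for every open ideal I
of A the induced ring map A/I → B/J, where J denotes the closure of φ(I)B, is faithfully flat.
Suppose A is Hausdorff and complete, and B is adic with some finitely generated ideal of definition.
Then A is adic, and some finitely generated ideal of A is an ideal of definition. -/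
theorem result
    (A : Type u) [CommRing A] [UniformSpace A] [IsUniformAddGroup A] [IsTopologicalRing A] [IsLinearTopology A A] [T2Space A] [CompleteSpace A]
    (B : Type v) [CommRing B] [UniformSpace B] [IsUniformAddGroup B] [IsTopologicalRing B] (hB : LinTop.IsAdicRing B)
    (hJ : ∃ J : Ideal B, LinTop.IsIdealOfDefinition B J ∧ J.FG)
    (φ : A →+* B) (hφ : LinTop.IsTautFFlat φ) :
    LinTop.IsAdicRing A ∧ ∃ I : Ideal A, LinTop.IsIdealOfDefinition A I ∧ I.FG := by
  obtain ⟨⟨L, hL⟩, -, -⟩ := hB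
  obtain ⟨J, hJ, hJfg⟩ := hJ
  have hJa := isAdic_iff.1 (H4LinTop.isAdic_of_isIdealOfDefinition hL hJ)
  have := H4LinTop.isLinearTopology_of_isPreadic ⟨L, hL⟩
  have hI0 := H4LinTop.ffl_idealOfDefinition hφ hJ
  set I0 := J.comap φ
  have hK := hφ.1.2.1 I0 hI0.1
  obtain ⟨m, hm⟩ := hJa.2 _ (hK.mem_nhds (subset_closure (zero_mem _)))
  classical
  obtain ⟨s, hs⟩ : (J ^ m).FG := Submodule.FG.pow hJfg m
  have hgen : ∀ g ∈ s, ∃ t : Finset A, (t : Set A) ⊆ I0 ∧ g ∈ (Ideal.span (t : Set A)).map φ ⊔ J ^ (m + 1) := by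
    intro g hg
    have : g ∈ I0.map φ ⊔ J ^ (m + 1) :=
      H4LinTop.closure_le_sup _ (hJa.1 _) (hm (hs ▸ Ideal.subset_span hg))
    obtain ⟨a, ha, b, hb, rfl⟩ := Submodule.mem_sup.1 this
    obtain ⟨t, ht1, ht2⟩ := Submodule.mem_span_finite_of_mem_span (R := B) (S := φ '' (I0 : Set A)) ha
    obtain ⟨t', ht', rfl⟩ := Finset.subset_set_image_iff.1 ht1
    refine ⟨t', ht', Submodule.add_mem_sup ?_ hb⟩
    rw [Ideal.map_span, ← Finset.coe_image]
    exact ht2
  choose! t ht1 ht2 using hgen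
  set I1 := Ideal.span ((s.biUnion t : Finset A) : Set A)
  have hI10 : I1 ≤ I0 := Ideal.span_le.2 fun a ha => by
    obtain ⟨g, hg, hga⟩ := Finset.mem_biUnion.1 ha
    exact ht1 g hg hga
  have h1 : J ^ m ≤ I1.map φ ⊔ J ^ (m + 1) := hs ▸ Ideal.span_le.2 fun g hg => by
    have hsub : (Ideal.span (t g : Set A)).map φ ≤ I1.map φ :=
      Ideal.map_mono (Ideal.span_mono (Finset.coe_subset.2 (Finset.subset_biUnion_of_mem t hg)))
    have h' : (Ideal.span (t g : Set A)).map φ ⊔ J ^ (m + 1) ≤ I1.map φ ⊔ J ^ (m + 1) := by gcongr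
    exact h' (ht2 g hg)
  have h2 : ∀ k, J ^ m ≤ I1.map φ ⊔ J ^ (m + k) := by
    intro k
    induction k with
    | zero => exact le_sup_right
    | succ k ih =>
      refine h1.trans (sup_le le_sup_left ?_)
      rw [pow_succ', ← Nat.add_assoc, pow_succ' J (m + k)]
      refine (Ideal.mul_mono_right ih).trans ?_
      rw [Ideal.mul_sup]
      exact sup_le_sup Ideal.mul_le_right le_rfl
  have h3 : ∀ n, J ^ (m * n) ≤ ((I1 ^ n).map φ).closure := by
    intro n x hx
    rw [H4LinTop.mem_closure_iff]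
    intro U hU
    obtain ⟨k, hk⟩ := hJa.2 _ (hU.mem_nhds U.zero_mem)
    rw [pow_mul] at hx
    have := (H4LinTop.sup_pow_le _ _ n) (Ideal.pow_right_mono (h2 k) n hx)
    rw [← Ideal.map_pow] at this
    exact sup_le_sup_left ((Ideal.pow_le_pow_right (Nat.le_add_left k m)).trans hk) _ this
  have hopen : ∀ n, IsOpen (closure ((I1 ^ n : Ideal A) : Set A)) := fun n =>
    H4LinTop.isOpen_of_le (I := ((I1 ^ n).map φ).closure.comap φ) (J := (I1 ^ n).closure)
      (H4LinTop.comap_closure_map_le hφ _)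
      ((H4LinTop.isOpen_of_le (h3 n) (hJa.1 _)).preimage hφ.1.1)
  have hbasis : ∀ U ∈ nhds (0 : A), ∃ n : ℕ, ((I1 ^ n : Ideal A) : Set A) ⊆ U := fun U hU => by
    obtain ⟨n, -, hn⟩ := hI0.2 U hU
    exact ⟨n, fun x hx => hn (Ideal.pow_right_mono hI10 n hx)⟩
  have hfg : I1.FG := ⟨_, rfl⟩
  have had : IsAdic I1 := isAdic_iff.2 ⟨fun n => by
    rw [← H4LinTop.closure_pow_eq hfg hopen hbasis n]; exact hopen n, hbasis⟩
  exact ⟨⟨⟨I1, had⟩, inferInstance, inferInstance⟩, I1, H4LinTop.isIdealOfDefinition_of_isAdic had, hfg⟩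

end Groth.Agent.S10170
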