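import Groth.Statements.S10171
import Mathlib
import Groth.Agent.Lib.H4LinTopCompl


set_option autoImplicit false
universe u v
open LinTop

namespace Groth.Agent.S10171

/-- Let M be a linearly topologized module over a ring R and N a submodule. Write M^ for the separated
completion of M and (M/N)^ for that of M/N (quotient topology, additive uniform structure). Then the
kernel of the induced map M^ → (M/N)^ is the closure of the image of N in M^; that closure is the
completion of N, so this is the exactness of 0 → N^ → M^ → (M/N)^ at M^. -/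
theorem result
    {R : Type u} [Ring R] {M : Type v} [AddCommGroup M] [Module R M] [UniformSpace M]
    [IsUniformAddGroup M] [IsLinearTopology R M] (N : Submodule R M) :
    (@UniformSpace.Completion.map M _ (M ⧸ N.toAddSubgroup)
        (IsTopologicalAddGroup.rightUniformSpace (M ⧸ N.toAddSubgroup))
        (QuotientAddGroup.mk' N.toAddSubgroup)) ⁻¹' {0} =
      closure (Set.range (fun n : N => ((n : M) : UniformSpace.Completion M))) := by
  letI : UniformSpace (M ⧸ N.toAddSubgroup) := IsTopologicalAddGroup.rightUniformSpace _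
  have : IsUniformAddGroup (M ⧸ N.toAddSubgroup) := isUniformAddGroup_of_addCommGroup
  set q := QuotientAddGroup.mk' N.toAddSubgroup with hq
  have hqc : Continuous q := continuous_quot_mk
  change (H4LinTopCompl.mapHom q hqc) ⁻¹' {0} = _
  refine subset_antisymm (fun x hx => ?_) (closure_minimal ?_ ?_)
  · have hb := H4LinTopCompl.hasBasis_hat (s := fun J : Submodule R M => J.toAddSubgroup) (IsLinearTopology.hasBasis_open_submodule R)
    have hbx := hb.map (x + ·)
    rw [map_add_left_nhds_zero] at hbx
    rw [mem_closure_iff_nhds_basis hbx]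
    intro J hJ
    obtain ⟨m, hm⟩ := H4LinTopCompl.exists_sub_mem x ((H4LinTopCompl.isOpen_hat (N := J.toAddSubgroup) hJ).mem_nhds (zero_mem _))
    have h1 := H4LinTopCompl.mapHom_mem_hat q hqc _ hm
    rw [map_sub, Set.mem_singleton_iff.1 hx, zero_sub, H4LinTopCompl.mapHom_coe, neg_mem_iff, H4LinTopCompl.coe_mem_hat_iff] at h1
    have hop : IsOpen ((J.toAddSubgroup.map q : AddSubgroup _) : Set (M ⧸ N.toAddSubgroup)) :=
      QuotientAddGroup.isOpenMap_coe _ hJ
    rw [((J.toAddSubgroup.map q).isClosed_of_isOpen hop).closure_eq] at h1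
    obtain ⟨j, hj, hjm⟩ := h1
    have hn : m - j ∈ N.toAddSubgroup := by
      rw [← QuotientAddGroup.eq_zero_iff, QuotientAddGroup.mk_sub, sub_eq_zero]
      exact hjm.symm
    refine ⟨((m - j : M) : UniformSpace.Completion M), ⟨⟨m - j, hn⟩, rfl⟩, ((m - j : M) : UniformSpace.Completion M) - x, ?_, by simp⟩
    rw [UniformSpace.Completion.coe_sub, sub_right_comm, ← neg_sub x (m : UniformSpace.Completion M)]
    exact sub_mem (neg_mem hm) (H4LinTopCompl.coe_mem_hat (N := J.toAddSubgroup) hj)
  · rintro _ ⟨n, rfl⟩
    rw [Set.mem_preimage, H4LinTopCompl.mapHom_coe, Set.mem_singleton_iff,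
      show q (n : M) = 0 from (QuotientAddGroup.eq_zero_iff _).2 n.2, UniformSpace.Completion.coe_zero]
  · exact isClosed_singleton.preimage (H4LinTopCompl.continuous_mapHom q hqc)

end Groth.Agent.S10171
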