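import Groth.Statements.S10172
import Mathlib
import Groth.Agent.Lib.H4LinTopCompl


set_option autoImplicit false
universe u v
open LinTop

namespace Groth.Agent.S10172

/-- Let M be a linearly topologized module over a ring R having a countable fundamental system of
neighbourhoods of 0, and N a submodule. With M^ and (M/N)^ the separated completions of M and of M/N
(quotient topology, additive uniform structure), the induced map M^ → (M/N)^ is surjective and open
(so, its kernel being the completion of N, the sequence 0 → N^ → M^ → (M/N)^ → 0 is exact). -/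
theorem result
    {R : Type u} [Ring R] {M : Type v} [AddCommGroup M] [Module R M] [UniformSpace M]
    [IsUniformAddGroup M] [IsLinearTopology R M] (hc : (nhds (0 : M)).IsCountablyGenerated)
    (N : Submodule R M) :
    Function.Surjective (@UniformSpace.Completion.map M _ (M ⧸ N.toAddSubgroup)
        (IsTopologicalAddGroup.rightUniformSpace (M ⧸ N.toAddSubgroup))
        (QuotientAddGroup.mk' N.toAddSubgroup)) ∧
      IsOpenMap (@UniformSpace.Completion.map M _ (M ⧸ N.toAddSubgroup)
        (IsTopologicalAddGroup.rightUniformSpace (M ⧸ N.toAddSubgroup))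
        (QuotientAddGroup.mk' N.toAddSubgroup)) := by
  letI : UniformSpace (M ⧸ N.toAddSubgroup) := IsTopologicalAddGroup.rightUniformSpace _
  have : IsUniformAddGroup (M ⧸ N.toAddSubgroup) := isUniformAddGroup_of_addCommGroup
  set q := QuotientAddGroup.mk' N.toAddSubgroup with hq
  have hqc : Continuous q := continuous_quot_mk
  change Function.Surjective (H4LinTopCompl.mapHom q hqc) ∧ IsOpenMap (H4LinTopCompl.mapHom q hqc)
  have := hc
  obtain ⟨V, hV⟩ := Filter.exists_antitone_basis (nhds (0 : M))
  choose J0 hJ0 hJ0V using fun n => (IsLinearTopology.hasBasis_open_submodule R).mem_iff.1 (hV.mem n)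
  let J : ℕ → Submodule R M := fun n => (Finset.range n).inf J0
  have hJ : ∀ n, IsOpen ((J n : Submodule R M) : Set M) := fun n =>
    Finset.inf_induction (p := fun K : Submodule R M => IsOpen (K : Set M)) isOpen_univ
      (fun _ h1 _ h2 => h1.inter h2) fun k _ => hJ0 k
  have hanti : Antitone J := fun m n h => Finset.inf_mono (Finset.range_mono h)
  have hJle : ∀ n, J (n + 1) ≤ J0 n := fun n => Finset.inf_le (Finset.mem_range.2 n.lt_succ_self)
  have hbas : (nhds (0 : M)).HasBasis (fun _ : ℕ => True) (fun n => ((J n).toAddSubgroup : Set M)) :=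
    ⟨fun U => ⟨fun hU => by
      obtain ⟨n, hn⟩ := hV.mem_iff.1 hU
      exact ⟨n + 1, trivial, fun x hx => hn (hJ0V n (hJle n hx))⟩,
      fun ⟨n, _, hn⟩ => Filter.mem_of_superset ((hJ n).mem_nhds (zero_mem _)) hn⟩⟩
  have hbasq : (nhds (0 : M ⧸ N.toAddSubgroup)).HasBasis (fun _ : ℕ => True)
      (fun n => (((J n).toAddSubgroup.map q : AddSubgroup _) : Set (M ⧸ N.toAddSubgroup))) := by
    have h := hbas.map (QuotientAddGroup.mk : M → M ⧸ N.toAddSubgroup)
    rw [← QuotientAddGroup.nhds_eq] at h
    exact h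
  set f := H4LinTopCompl.mapHom q hqc
  let G : ℕ → AddSubgroup (UniformSpace.Completion M) := fun n => H4LinTopCompl.hat (J n).toAddSubgroup
  have hsub : ∀ n, closure (f '' (G n : Set _)) = H4LinTopCompl.hat ((J n).toAddSubgroup.map q) := by
    intro n
    refine (closure_minimal ?_ (AddSubgroup.isClosed_topologicalClosure _)).antisymm ?_
    · rintro _ ⟨a, ha, rfl⟩
      exact H4LinTopCompl.mapHom_mem_hat q hqc _ ha
    · rw [H4LinTopCompl.coe_hat]
      refine closure_mono ?_
      rintro _ ⟨_, ⟨a, ha, rfl⟩, rfl⟩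
      exact ⟨_, H4LinTopCompl.coe_mem_hat ha, H4LinTopCompl.mapHom_coe q hqc a⟩
  have hX : ∀ U ∈ nhds (0 : UniformSpace.Completion M), ∃ n, (G n : Set _) ⊆ U := fun U hU => by
    obtain ⟨n, -, hn⟩ := (H4LinTopCompl.hasBasis_hat hbas).mem_iff.1 hU
    exact ⟨n, hn⟩
  have hbY := H4LinTopCompl.hasBasis_hat hbasq
  have himg := H4LinTopCompl.image_eq_closure f (H4LinTopCompl.continuous_mapHom q hqc) G
    (fun m n h => H4LinTopCompl.hat_mono (Submodule.toAddSubgroup_mono (hanti h))) (fun n => H4LinTopCompl.isOpen_hat (hJ n)) hX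
    (fun n => hsub n ▸ hbY.mem_of_mem trivial) (fun U hU => by
      obtain ⟨n, -, hn⟩ := hbY.mem_iff.1 hU
      exact ⟨n, (hsub n).le.trans hn⟩)
  refine ⟨fun y => ?_, IsTopologicalAddGroup.isOpenMap_iff_nhds_zero.2 fun U hU => ?_⟩
  · have hy : y ∈ closure (f '' (G 0 : Set _)) := by
      rw [hsub 0, H4LinTopCompl.coe_hat]
      refine closure_mono ?_ (UniformSpace.Completion.denseRange_coe y)
      rintro _ ⟨z, rfl⟩
      obtain ⟨a, rfl⟩ := QuotientAddGroup.mk'_surjective N.toAddSubgroup z
      exact ⟨_, ⟨a, trivial, rfl⟩, rfl⟩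
    obtain ⟨a, -, ha⟩ := (himg 0).ge hy
    exact ⟨a, ha⟩
  · obtain ⟨n, hn⟩ := hX _ hU
    refine Filter.mem_of_superset (hsub n ▸ hbY.mem_of_mem (i := n) trivial) ?_
    rw [← himg n]
    exact Set.image_subset_iff.2 hn

end Groth.Agent.S10172
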