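import Groth.Statements.S10173
import Mathlib
import Groth.Agent.Lib.H4LinTopCompl


set_option autoImplicit false
universe u v
open LinTop

namespace Groth.Agent.S10173

/-- The canonical linear map to the completion. -/
noncomputable def coeₗ {R : Type u} [CommRing R] (M : Type v) [AddCommGroup M] [Module R M] [UniformSpace M]
    [IsUniformAddGroup M] [UniformContinuousConstSMul R M] : M →ₗ[R] UniformSpace.Completion M where
  toFun := (↑)
  map_add' := UniformSpace.Completion.coe_add
  map_smul' := UniformSpace.Completion.coe_smul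

/-- Let R be a commutative ring, I a finitely generated ideal and M a topological R-module (additive
uniform structure, each scalar acting uniformly continuously) having an open submodule M' whose
topology is the I-adic one, i.e. the I^n M' are open in M and form a fundamental system of
neighbourhoods of 0. Then the separated completion M^ has an open submodule whose topology is I-adic
in the same sense, and for every n ≥ 1 the map M → M^/I^n M^ is surjective with kernel I^n M,
identifying M^/I^n M^ with M/I^n M. -/
theorem result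
    {R : Type u} [CommRing R] (I : Ideal R) (hI : I.FG)
    {M : Type v} [AddCommGroup M] [Module R M] [UniformSpace M] [IsUniformAddGroup M]
    [UniformContinuousConstSMul R M]
    (M' : Submodule R M) (hopen : ∀ n : ℕ, IsOpen ((I ^ n • M' : Submodule R M) : Set M))
    (hbasis : ∀ U ∈ nhds (0 : M), ∃ n : ℕ, ((I ^ n • M' : Submodule R M) : Set M) ⊆ U) :
    (∃ M'' : Submodule R (UniformSpace.Completion M),
        (∀ n : ℕ, IsOpen ((I ^ n • M'' : Submodule R (UniformSpace.Completion M)) :
          Set (UniformSpace.Completion M))) ∧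
        ∀ U ∈ nhds (0 : UniformSpace.Completion M), ∃ n : ℕ,
          ((I ^ n • M'' : Submodule R (UniformSpace.Completion M)) :
            Set (UniformSpace.Completion M)) ⊆ U) ∧
      ∀ n : ℕ, 0 < n →
        Function.Surjective ((QuotientAddGroup.mk' (I ^ n • ⊤ : Submodule R (UniformSpace.Completion M)).toAddSubgroup).comp
          (UniformSpace.Completion.toCompl : M →+ UniformSpace.Completion M)) ∧
        ((QuotientAddGroup.mk' (I ^ n • ⊤ : Submodule R (UniformSpace.Completion M)).toAddSubgroup).comp
          (UniformSpace.Completion.toCompl : M →+ UniformSpace.Completion M)).ker = (I ^ n • ⊤ : Submodule R M).toAddSubgroup := by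
  classical
  let ι := coeₗ (R := R) M
  let H : ℕ → Submodule R (UniformSpace.Completion M) := fun n => ((I ^ n • M').map ι).topologicalClosure
  have hH : ∀ n, (H n : Set (UniformSpace.Completion M)) = H4LinTopCompl.hat (I ^ n • M').toAddSubgroup := fun n => by
    rw [H4LinTopCompl.coe_hat]
    rfl
  have hHopen : ∀ n, IsOpen (H n : Set (UniformSpace.Completion M)) := fun n => by
    rw [hH]
    exact H4LinTopCompl.isOpen_hat (hopen n)
  have hbas : (nhds (0 : M)).HasBasis (fun _ : ℕ => True) (fun n => (((I ^ n • M' : Submodule R M).toAddSubgroup) : Set M)) :=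
    ⟨fun U => ⟨fun hU => (hbasis U hU).imp fun n hn => ⟨trivial, hn⟩,
      fun ⟨n, _, hn⟩ => Filter.mem_of_superset ((hopen n).mem_nhds (zero_mem _)) hn⟩⟩
  have hHbas : ∀ U ∈ nhds (0 : UniformSpace.Completion M), ∃ n, (H n : Set _) ⊆ U := fun U hU => by
    obtain ⟨n, -, hn⟩ := (H4LinTopCompl.hasBasis_hat hbas).mem_iff.1 hU
    exact ⟨n, (hH n).le.trans hn⟩
  have hHanti : Antitone H := fun m n h => Submodule.topologicalClosure_mono
    (Submodule.map_mono (Submodule.smul_mono_left (Ideal.pow_le_pow_right h)))
  have hsm : ∀ (a : ℕ) (r : R), r ∈ I ^ a → ∀ (k : ℕ) x, x ∈ H k → r • x ∈ H (a + k) := by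
    intro a r hr k x hx
    refine map_mem_closure (continuous_const_smul r) hx ?_
    rintro _ ⟨y, hy, rfl⟩
    refine ⟨r • y, ?_, map_smul ι r y⟩
    rw [pow_add, ← smul_eq_mul, Submodule.smul_assoc]
    exact Submodule.smul_mem_smul hr hy
  have hmain : ∀ n, I ^ n • H 0 = H n := by
    intro n
    refine le_antisymm (Submodule.smul_le.2 fun r hr x hx => by simpa using hsm n r hr 0 x hx) fun x hx => ?_
    obtain ⟨s, hs⟩ : (I ^ n).FG := Submodule.FG.pow hI n
    let f : (s → UniformSpace.Completion M) →+ UniformSpace.Completion M :=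
      AddMonoidHom.mk' (fun z => ∑ i : s, (i : R) • z i) fun a b => by simp [smul_add, Finset.sum_add_distrib]
    have hf : Continuous f := continuous_finsetSum _ fun i _ => (continuous_apply i).const_smul (i : R)
    let G : ℕ → AddSubgroup (s → UniformSpace.Completion M) := fun k => AddSubgroup.pi Set.univ fun _ => (H k).toAddSubgroup
    have hG : ∀ k, (G k : Set (s → UniformSpace.Completion M)) = Set.pi Set.univ fun _ => (H k : Set _) := fun _ => rfl
    have hle : ∀ k, closure (f '' (G k : Set _)) = H (n + k) := by
      intro k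
      refine (closure_minimal ?_ (Submodule.isClosed_topologicalClosure _)).antisymm (closure_mono ?_)
      · rintro _ ⟨z, hz, rfl⟩
        exact Submodule.sum_mem _ fun i _ => hsm n _ (hs ▸ Ideal.subset_span i.2) k _ (hz i trivial)
      · rintro _ ⟨y, hy, rfl⟩
        rw [pow_add, ← smul_eq_mul, Submodule.smul_assoc, ← hs] at hy
        have hy' : y ∈ Submodule.span R (⋃ i : s, (fun w : M => (i : R) • w) '' ((I ^ k • M' : Submodule R M) : Set M)) := by
          refine Submodule.smul_induction_on hy (fun r hr w hw => ?_) fun a b ha hb => add_mem ha hb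
          revert w
          induction hr using Submodule.span_induction with
          | mem r hr => exact fun w hw => Submodule.subset_span (Set.mem_iUnion.2 ⟨⟨r, hr⟩, w, hw, rfl⟩)
          | zero => simp
          | add a b _ _ ha hb => exact fun w hw => by rw [add_smul]; exact add_mem (ha w hw) (hb w hw)
          | smul c a _ ha => exact fun w hw => by rw [smul_eq_mul, mul_smul]; exact Submodule.smul_mem _ c (ha w hw)
        clear hy
        induction hy' using Submodule.span_induction with
        | mem y hy =>
          obtain ⟨i, w, hw, rfl⟩ := Set.mem_iUnion.1 hy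
          refine ⟨Pi.single i (ι w), fun j _ => ?_, ?_⟩
          · rcases eq_or_ne j i with rfl | hne
            · rw [Pi.single_eq_same]; exact subset_closure ⟨w, hw, rfl⟩
            · rw [Pi.single_eq_of_ne hne]; exact (H k).zero_mem
          · change ∑ j : s, (j : R) • (Pi.single i (ι w) : s → UniformSpace.Completion M) j = ι ((i : R) • w)
            rw [Finset.sum_eq_single i (fun j _ hne => by rw [Pi.single_eq_of_ne hne, smul_zero]) (fun h => absurd (Finset.mem_univ i) h),
              Pi.single_eq_same, map_smul]
        | zero => exact ⟨0, zero_mem _, by simp⟩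
        | add a b _ _ ha hb =>
          obtain ⟨za, hza, hza'⟩ := ha
          obtain ⟨zb, hzb, hzb'⟩ := hb
          exact ⟨za + zb, add_mem hza hzb, by rw [map_add, hza', hzb', map_add]⟩
        | smul c a _ ha =>
          obtain ⟨za, hza, hza'⟩ := ha
          refine ⟨c • za, fun j hj => Submodule.smul_mem _ c (hza j hj), ?_⟩
          change ∑ j : s, (j : R) • (c • za j) = ι (c • a)
          rw [map_smul, ← hza']
          change _ = c • ∑ j : s, (j : R) • za j
          simp [Finset.smul_sum, smul_comm c]
    have himg := H4LinTopCompl.image_eq_closure f hf G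
      (fun a b h z hz i hi => hHanti h (hz i hi))
      (fun k => by rw [hG]; exact isOpen_set_pi Set.finite_univ fun _ _ => hHopen k)
      (fun U hU => by
        rw [nhds_pi, Filter.mem_pi'] at hU
        obtain ⟨F, t, ht, hsub⟩ := hU
        choose k hk using fun i => hHbas (t i) (ht i)
        exact ⟨F.sup k, fun z hz => hsub fun i hi => hk i (hHanti (Finset.le_sup hi) (hz i trivial))⟩)
      (fun k => by rw [hle]; exact (hHopen _).mem_nhds (zero_mem _))
      (fun U hU => by
        obtain ⟨k, hk⟩ := hHbas U hU
        exact ⟨k, (hle k).le.trans fun z hz => hk (hHanti (Nat.le_add_left k n) hz)⟩) 0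
    obtain ⟨z, hz, rfl⟩ := himg.ge ((hle 0).ge hx)
    exact Submodule.sum_mem _ fun i _ => Submodule.smul_mem_smul (hs ▸ Ideal.subset_span i.2) (hz i trivial)
  refine ⟨⟨H 0, fun n => by rw [hmain]; exact hHopen n, fun U hU => by
    obtain ⟨n, hn⟩ := hHbas U hU
    exact ⟨n, by rw [hmain]; exact hn⟩⟩, fun n _ => ⟨fun y => ?_, ?_⟩⟩
  · obtain ⟨z, rfl⟩ := QuotientAddGroup.mk'_surjective _ y
    obtain ⟨m, hm⟩ := H4LinTopCompl.exists_sub_mem z ((hHopen n).mem_nhds (zero_mem _))
    refine ⟨m, ?_⟩
    refine (QuotientAddGroup.eq.2 ?_)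
    rw [neg_add_eq_sub]
    exact Submodule.smul_mono le_rfl le_top ((hmain n).ge hm)
  · ext m
    simp only [AddMonoidHom.mem_ker, AddMonoidHom.comp_apply, QuotientAddGroup.mk'_apply, QuotientAddGroup.eq_zero_iff]
    refine ⟨fun hm => ?_, fun hm => ?_⟩
    · have key : ι m ∈ (I ^ n • ⊤ : Submodule R M).map ι ⊔ H n := by
        refine Submodule.smul_induction_on (p := fun z => z ∈ (I ^ n • ⊤ : Submodule R M).map ι ⊔ H n) hm (fun r hr z _ => ?_) fun a b ha hb => add_mem ha hb
        obtain ⟨m', hm'⟩ := H4LinTopCompl.exists_sub_mem z ((hHopen 0).mem_nhds (zero_mem _))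
        have : r • z = ι (r • m') + r • (z - ι m') := by rw [map_smul, smul_sub, add_sub_cancel]
        rw [this]
        exact Submodule.add_mem_sup ⟨_, Submodule.smul_mem_smul hr trivial, rfl⟩
          ((hmain n).le (Submodule.smul_mem_smul hr hm'))
      obtain ⟨_, ⟨a, ha, rfl⟩, b, hb, hab⟩ := Submodule.mem_sup.1 key
      have hb' : ι (m - a) ∈ H n := by rw [map_sub, ← hab, add_sub_cancel_left]; exact hb
      have h2 : m - a ∈ closure (((I ^ n • M').toAddSubgroup : AddSubgroup M) : Set M) :=
        H4LinTopCompl.coe_mem_hat_iff.1 ((hH n).le hb')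
      rw [((I ^ n • M').toAddSubgroup.isClosed_of_isOpen (hopen n)).closure_eq] at h2
      show m ∈ (I ^ n • ⊤ : Submodule R M)
      rw [← sub_add_cancel m a]
      exact add_mem (Submodule.smul_mono le_rfl le_top h2) ha
    · show ι m ∈ (I ^ n • ⊤ : Submodule R (UniformSpace.Completion M))
      have := Submodule.mem_map_of_mem (f := ι) (show m ∈ (I ^ n • ⊤ : Submodule R M) from hm)
      rw [Submodule.map_smul''] at this
      exact Submodule.smul_mono le_rfl le_top this

end Groth.Agent.S10173
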