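import Groth.Statements.S10179
import Groth.Agent.Lib.AlgSpBasic

set_option autoImplicit false
universe u
open CategoryTheory CategoryTheory.Limits AlgebraicGeometry Topology TopologicalSpace
open AlgSp AlgSp.Points

namespace Groth.Agent.S10179

/-- For an algebraic space X over a scheme S, every point x of |X| has a fundamental system of
quasi-compact open neighbourhoods: every open subset of |X| containing x contains a quasi-compact
open subset containing x. In particular |X| is locally quasi-compact. -/
theorem result {S : Scheme.{u}} (X : AlgSp.Space S) (x : AlgSp.Points X.obj)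
    (W : Set (AlgSp.Points X.obj)) (hW : IsOpen W) (hx : x ∈ W) :
    ∃ V : Set (AlgSp.Points X.obj), IsOpen V ∧ IsCompact V ∧ x ∈ V ∧ V ⊆ W := by
  obtain ⟨U, p, hpe, hps⟩ := X.property.atlas
  obtain ⟨u, rfl⟩ := Groth.Agent.ASp.surjective_ofPt_of_repWith hps x
  obtain ⟨V, hV, huV, hVW⟩ := exists_isAffineOpen_mem_and_subset (X := U.left) (x := u)
    (U := ⟨Points.ofPt p ⁻¹' W, hW.preimage (Points.continuous_ofPt p)⟩) hx
  exact ⟨Points.ofPt p '' V, Groth.Agent.ASp.isOpenMap_ofPt_of_etale hpe _ V.2,
    hV.isCompact.image (Points.continuous_ofPt p), ⟨u, huV, rfl⟩,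
    Set.image_subset_iff.2 hVW⟩

end Groth.Agent.S10179
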