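import Groth.Statements.S10181
import Groth.Agent.Lib.AlgSpDiag

set_option autoImplicit false
set_option backward.isDefEq.respectTransparency.types false
universe u
open CategoryTheory CategoryTheory.Limits AlgebraicGeometry Topology TopologicalSpace
open AlgSp

namespace Groth.Agent.S10181

/-- Let X be an algebraic space over a scheme S and a : h_U ⟶ X a representable etale map from a scheme
U over S whose underlying scheme is separated. Then a is (representable and) separated, and the
scheme R = U ×_X U representing the fibre product h_U ×_X h_U is separated. -/
theorem result {S : Scheme.{u}} (X : AlgSp.Space S) {U : Over S}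
    (a : (AlgSp.yon S).obj U ⟶ X.obj) (ha : AlgSp.RepWith @Etale a) [U.left.IsSeparated] :
    AlgSp.RepWith @IsSeparated a ∧
      ∀ (R : Over S) (s t : R ⟶ U), IsPullback ((AlgSp.yon S).map t) ((AlgSp.yon S).map s) a a →
        R.left.IsSeparated := by
  have hU : IsSeparated U.hom := by
    have : IsSeparated (U.hom ≫ terminal.from S) := by
      rw [show U.hom ≫ terminal.from S = terminal.from U.left from terminal.hom_ext _ _]; infer_instance
    exact IsSeparated.of_comp U.hom (terminal.from S)
  have hd := (ASp.monoLFT_diag X.property).props.2.2.2.1
  have hsep : AlgSp.RepWith @IsSeparated a := by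
    refine ASp.repWith_of_forall ha.rep fun T V g fst snd sq => ?_
    obtain ⟨w₁, rfl⟩ := (AlgSp.yon S).map_surjective fst
    have h₁ : IsSeparated (prod.lift w₁ snd).left := hd.2 _ _ _ (ASp.isPullback_diag sq)
    have h₂ : IsSeparated (prod.snd : U ⨯ T ⟶ T).left := by
      rw [← Over.prodLeftIsoPullback_hom_snd]
      infer_instance
    show IsSeparated snd.left
    rw [← prod.lift_snd w₁ snd, Over.comp_left]
    infer_instance
  refine ⟨hsep, fun R s t sq => ?_⟩
  have : IsSeparated s.left := hsep.2 _ _ _ sq
  constructor
  rw [← terminal.comp_from s.left]
  infer_instance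

end Groth.Agent.S10181
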