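import Groth.Statements.S10190
import Groth.Agent.Lib.H9AlgSpGen

set_option autoImplicit false
set_option backward.isDefEq.respectTransparency.types false
universe u
open CategoryTheory CategoryTheory.Limits AlgebraicGeometry Topology TopologicalSpace
open AlgSp

namespace Groth.Agent.S10190

/-- For an algebraic space X over a scheme S, the set of codimension 0 points of X (points x of |X| such
that, for some representable etale h_U ⟶ X from a scheme U and some point u of U mapping to x, the
local ring of U at u has dimension 0) is dense in |X|. -/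
theorem result {S : Scheme.{u}} (X : AlgSp.Space S) :
    Dense {x : AlgSp.Points X.obj |
      AlgSp.HasAt (fun U u => ringKrullDim ↥(U.presheaf.stalk u) = 0) X.obj x} := by
  obtain ⟨U, a, hae, has⟩ := X.property.atlas
  have hd : Dense {u : ↥U.left | Order.coheight u = 0} := by
    refine dense_iff_inter_open.2 fun O hO ⟨w, hw⟩ => ?_
    obtain ⟨g, hg, hmax⟩ := Groth.Agent.H4SchTop.exists_maximal_gen w
    refine ⟨g, hg.mem_open hO hw, Order.coheight_eq_zero.2 fun g' hg' => ?_⟩
    rw [hmax g' hg']
  refine ((Groth.Agent.ASp.surjective_ofPt_of_repWith has).denseRange.dense_image (AlgSp.Points.continuous_ofPt a) hd).mono ?_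
  rintro _ ⟨u, hu, rfl⟩
  refine ⟨U, a, u, hae, rfl, ?_⟩
  show ringKrullDim ↥(U.left.presheaf.stalk u) = 0
  rw [ringKrullDim_stalk_eq_coheight, show Order.coheight u = 0 from hu]; rfl

end Groth.Agent.S10190
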