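import Groth.Statements.S10199
import Groth.Agent.Lib.H9AlgSpSpectral
import Groth.Agent.Lib.AlgSpRep
import Groth.Agent.Lib.AlgSpTop

set_option autoImplicit false
set_option backward.isDefEq.respectTransparency.types false
universe u
open CategoryTheory CategoryTheory.Limits AlgebraicGeometry Topology TopologicalSpace
open AlgSp

namespace Groth.Agent.S10199

/-- Let X be an algebraic space over a scheme S that is Zariski locally quasi-separated over S (X has a
Zariski covering by open subspaces whose diagonals over S are quasi-compact; for instance X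
quasi-separated over S). Then |X| is a sober topological space. (Being Zariski locally
quasi-separated over S is the same as the absolute notion, so no hypothesis on S is needed.) -/
theorem result {S : Scheme.{u}} (X : AlgSp.Space S)
    (hX : ∃ (ι : Type u) (Xi : ι → AlgSp.Space S) (j : ∀ i, Xi i ⟶ X),
        AlgSp.IsZarCover (fun i => (Xi i).obj) (fun i => (j i).hom) ∧ ∀ i, AlgSp.IsQuasiSeparatedSp (Xi i).obj) :
    QuasiSober (AlgSp.Points X.obj) ∧ T0Space (AlgSp.Points X.obj) := by
  obtain ⟨ι, Xi, j, ⟨hoi, hcov⟩, hqs⟩ := hX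
  have key : ∀ x : AlgSp.Points X.obj, ∃ W : Set (AlgSp.Points X.obj), IsOpen W ∧ x ∈ W ∧ SpectralSpace ↥W := by
    intro x
    obtain ⟨i, y, rfl⟩ := hcov x
    obtain ⟨W, hWo, hyW, hW⟩ := Groth.Agent.ASp.exists_spectral_nhd (Xi i).property (hqs i) y
    have hemb := Groth.Agent.ASp.isEmbedding_points_of_immersion X.property
      (Groth.Agent.ASp.repWith_mono (fun _ _ f (hf : IsOpenImmersion f) => (inferInstance : IsImmersion f)) (hoi i))
    have hop := Groth.Agent.ASp.isOpenMap_map_of_repWith_etale
      (Groth.Agent.ASp.repWith_mono (fun _ _ f (hf : IsOpenImmersion f) => (inferInstance : Etale f)) (hoi i))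
    refine ⟨_, hop W hWo, ⟨y, hyW, rfl⟩, ?_⟩
    haveI := (hemb.homeomorphImage W).compactSpace
    exact (hemb.homeomorphImage W).symm.isOpenEmbedding.spectralSpace
  choose W hWo hxW hW using key
  haveI : ∀ x, SpectralSpace ↥(W x) := hW
  refine ⟨?_, ?_⟩
  · exact @quasiSober_of_open_cover _ _ (Set.range W) (by rintro ⟨_, x, rfl⟩; exact hWo x) (by rintro ⟨_, x, rfl⟩; exact inferInstanceAs (QuasiSober ↥(W x)))
      (by rw [Set.sUnion_range]; exact Set.iUnion_eq_univ_iff.2 fun x => ⟨x, hxW x⟩)
  · exact T0Space.of_open_cover fun x => ⟨W x, hxW x, hWo x, inferInstanceAs (T0Space ↥(W x))⟩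

end Groth.Agent.S10199
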