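import Groth.Statements.S10202
import Groth.Agent.Lib.AlgSpBasic
import Mathlib.AlgebraicGeometry.Noetherian

set_option autoImplicit false
universe u
open CategoryTheory CategoryTheory.Limits AlgebraicGeometry Topology TopologicalSpace
open AlgSp

namespace Groth.Agent.S10202

/-- If X is a locally Noetherian algebraic space over a scheme S, then the space |X| is locally
Noetherian: every point of |X| has an open neighbourhood which is a Noetherian topological space in
the induced topology. -/
theorem result {S : Scheme.{u}} (X : AlgSp.Space S)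
    (hX : AlgSp.IsLocNoethSp X.obj) (x : AlgSp.Points X.obj) :
    ∃ W : Set (AlgSp.Points X.obj), IsOpen W ∧ x ∈ W ∧ NoetherianSpace ↥W := by
  obtain ⟨U, p, hpe, hps, hU⟩ := hX
  obtain ⟨u, rfl⟩ := Groth.Agent.ASp.surjective_ofPt_of_repWith hps x
  obtain ⟨V, hV, huV, -⟩ := exists_isAffineOpen_mem_and_subset (X := U.left) (x := u) (U := ⊤) trivial
  have := IsLocallyNoetherian.component_noetherian ⟨V, hV⟩
  have : TopologicalSpace.NoetherianSpace ↥(V : Set U.left) := noetherianSpace_of_isAffineOpen V hV
  refine ⟨Points.ofPt p '' V, Groth.Agent.ASp.isOpenMap_ofPt_of_etale hpe _ V.2, ⟨u, huV, rfl⟩, ?_⟩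
  exact TopologicalSpace.noetherianSpace_of_surjective
    (Set.imageFactorization (Points.ofPt p) (V : Set U.left))
    ((Points.continuous_ofPt p).comp continuous_subtype_val |>.subtype_mk _)
    Set.imageFactorization_surjective

end Groth.Agent.S10202
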