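import Groth.Statements.S10203
import Groth.Agent.Lib.AlgSpCharts
import Mathlib.AlgebraicGeometry.Noetherian

set_option autoImplicit false
universe u
open CategoryTheory CategoryTheory.Limits AlgebraicGeometry Topology TopologicalSpace
open AlgSp

namespace Groth.Agent.S10203

/-- If X is a quasi-compact, locally Noetherian algebraic space over a scheme S, then |X| is a
Noetherian topological space. -/
theorem result {S : Scheme.{u}} (X : AlgSp.Space S)
    (hqc : AlgSp.IsQuasiCompactSp X.obj) (hX : AlgSp.IsLocNoethSp X.obj) :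
    NoetherianSpace (AlgSp.Points X.obj) := by
  obtain ⟨U, p, hpe, hps, hU⟩ := hX
  have := Groth.Agent.ASp.compactSpace_points hqc
  obtain ⟨t, ht⟩ := isCompact_univ.elim_finite_subcover
    (fun V : U.left.affineOpens => Points.ofPt p '' (V.1 : Set U.left))
    (fun V => Groth.Agent.ASp.isOpenMap_ofPt_of_etale hpe _ V.1.2) (fun x _ => by
      obtain ⟨u, rfl⟩ := Groth.Agent.ASp.surjective_ofPt_of_repWith hps x
      obtain ⟨V, hV, huV, -⟩ := exists_isAffineOpen_mem_and_subset (X := U.left) (x := u) (U := ⊤) trivial
      exact Set.mem_iUnion.2 ⟨⟨V, hV⟩, u, huV, rfl⟩)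
  rw [← TopologicalSpace.noetherian_univ_iff]
  have hi : ∀ V : (↑t : Set U.left.affineOpens),
      TopologicalSpace.NoetherianSpace ↥(Points.ofPt p '' (V.1.1 : Set U.left)) := fun V => by
    have := IsLocallyNoetherian.component_noetherian V.1
    have : TopologicalSpace.NoetherianSpace ↥(V.1.1 : Set U.left) := noetherianSpace_of_isAffineOpen V.1.1 V.1.2
    exact TopologicalSpace.noetherianSpace_of_surjective
      (Set.imageFactorization (Points.ofPt p) (V.1.1 : Set U.left))
      ((Points.continuous_ofPt p).comp continuous_subtype_val |>.subtype_mk _)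
      Set.imageFactorization_surjective
  have := TopologicalSpace.NoetherianSpace.iUnion
    (fun V : (↑t : Set U.left.affineOpens) => Points.ofPt p '' (V.1.1 : Set U.left))
  have he : (⋃ V : (↑t : Set U.left.affineOpens), Points.ofPt p '' (V.1.1 : Set U.left)) = Set.univ := by
    refine Set.eq_univ_of_univ_subset (ht.trans ?_)
    intro x hx
    obtain ⟨V, hV, hx⟩ := Set.mem_iUnion₂.1 hx
    exact Set.mem_iUnion.2 ⟨⟨V, hV⟩, hx⟩
  rwa [he] at this

end Groth.Agent.S10203
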