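import Groth.Statements.S10210
import Groth.Agent.Lib.AlgSpLocalRows

set_option autoImplicit false
set_option backward.isDefEq.respectTransparency.types false
universe u
open CategoryTheory CategoryTheory.Limits AlgebraicGeometry Topology TopologicalSpace
open AlgSp

namespace Groth.Agent.S10210

/-- Let X, Y, Z be algebraic spaces over a scheme S, g : X ⟶ Z and h : Y ⟶ Z etale morphisms and f : X ⟶
Y a morphism with f ≫ h = g. Then f is etale. -/
theorem result {S : Scheme.{u}} {X Y Z : AlgSp.Space S} (f : X ⟶ Y) (h : Y ⟶ Z) (g : X ⟶ Z)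
    (w : f ≫ h = g) (hg : AlgSp.IsEtaleMor g.hom) (hh : AlgSp.IsEtaleMor h.hom) :
    AlgSp.IsEtaleMor f.hom := by
  subst w
  refine ASp.isEtaleMor_of_locP X.property Y.property ?_
  obtain ⟨U, V, W, a, b, c, α, β, hae, has, hbe, hce, hab, hbc, hac⟩ :=
    ASp.exists_chart₂ X.property Y.property Z.property f.hom h.hom
  have : Etale β.left := ASp.locP_etale_of_isEtaleMor hh b c β hbe hce hbc
  have : Etale (α.left ≫ β.left) := ASp.locP_etale_of_isEtaleMor hg a c (α ≫ β) hae hce hac
  exact ASp.locP_of_chart hae has hbe hab (Etale.of_comp α.left β.left)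

end Groth.Agent.S10210
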