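import Groth.Statements.S10215
import Groth.Agent.Lib.AlgSpBasic
import Mathlib.AlgebraicGeometry.Morphisms.FlatDescent

set_option autoImplicit false
set_option backward.isDefEq.respectTransparency.types false
universe u
open CategoryTheory CategoryTheory.Limits AlgebraicGeometry Topology TopologicalSpace
open AlgSp

namespace Groth.Agent.S10215

/-- Let X be an algebraic space over a scheme S and p : Spec K ⟶ X, q : Spec L ⟶ X morphisms from
spectra of fields over S which determine the same point of |X|, with p a monomorphism. Then q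
factors uniquely through p. -/
theorem result {S : Scheme.{u}} (X : AlgSp.Space S) (p q : AlgSp.FieldPt X.obj)
    (h : AlgSp.Points.mk p = AlgSp.Points.mk q) [Mono p.toHom] :
    ∃! c : q.pt ⟶ p.pt, (AlgSp.yon S).map c ≫ p.toHom = q.toHom := by
  obtain ⟨V, fst, snd, sq⟩ := ASp.exists_sq (X.property.representable_from_yon p.toHom) q.toHom
  have : Mono snd := (AlgSp.yon S).mono_of_mono_map sq.mono_snd_of_mono
  obtain ⟨Ω, _, w, a, b, hab⟩ := AlgSp.Points.mk_eq_mk_iff.1 h
  obtain ⟨σ, hσ⟩ := (AlgSp.yon S).map_surjective (sq.lift ((AlgSp.yon S).map a) ((AlgSp.yon S).map b) (by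
    apply ASp.sec.injective
    rw [← ASp.sec_map, ← ASp.sec_map]
    show X.obj.obj.map a.op (ASp.sec p.toHom) = X.obj.obj.map b.op (ASp.sec q.toHom)
    rw [show ASp.sec p.toHom = p.val from AlgSp.FieldPt.uliftYonedaEquiv_toHom p,
      show ASp.sec q.toHom = q.val from AlgSp.FieldPt.uliftYonedaEquiv_toHom q, hab]))
  have : Nonempty V.left := ⟨σ.left (IsLocalRing.closedPoint Ω)⟩
  have : Subsingleton q.pt.left := inferInstanceAs (Subsingleton (Spec (CommRingCat.of q.K)))
  have : IsIntegral q.pt.left := inferInstanceAs (IsIntegral (Spec (CommRingCat.of q.K)))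
  have : IsAffine q.pt.left := inferInstanceAs (IsAffine (Spec (CommRingCat.of q.K)))
  have : Surjective snd.left := ⟨fun _ => ⟨Classical.arbitrary _, Subsingleton.elim _ _⟩⟩
  have : Flat snd.left := inferInstance
  have : Subsingleton V.left := snd.left.injective.subsingleton
  have : QuasiCompact snd.left := (quasiCompact_iff_compactSpace _).2 inferInstance
  have : IsIso snd.left := MorphismProperty.of_pullback_snd_of_descendsAlong
    (P := MorphismProperty.isomorphisms Scheme.{u}) (Q := @Surjective ⊓ @Flat ⊓ @QuasiCompact)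
    (g := snd.left) ⟨⟨inferInstance, inferInstance⟩, inferInstance⟩
    (show IsIso (pullback.snd snd.left snd.left) from inferInstance)
  have : IsIso ((Over.forget S).map snd) := this
  have : IsIso snd := isIso_of_reflects_iso snd (Over.forget S)
  obtain ⟨c, hc⟩ := (AlgSp.yon S).map_surjective (inv ((AlgSp.yon S).map snd) ≫ fst)
  refine ⟨c, ?_, fun c' hc' => ASp.map_cancel ((cancel_mono p.toHom).1 ?_)⟩
  · show (AlgSp.yon S).map c ≫ p.toHom = q.toHom
    rw [hc, Category.assoc, IsIso.inv_comp_eq, sq.w]
  · rw [hc', hc, Category.assoc, eq_comm, IsIso.inv_comp_eq, sq.w]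

end Groth.Agent.S10215
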