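import Groth.Statements.S10250
import Groth.Agent.Lib.H9AlgSpGen
import Groth.Agent.Lib.AlgSpLocal

set_option autoImplicit false
set_option backward.isDefEq.respectTransparency.types false
universe u
open CategoryTheory CategoryTheory.Limits AlgebraicGeometry Topology TopologicalSpace
open AlgSp

namespace Groth.Agent.S10250

/-- Let f : X ⟶ Y be an etale and surjective morphism of algebraic spaces over a scheme S. Then X and Y
have the same dimension (the dimension of an algebraic space being the supremum of the Krull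
dimensions of the schemes etale over it). -/
theorem result {S : Scheme.{u}} {X Y : AlgSp.Space S} (f : X ⟶ Y)
    (hf : AlgSp.IsEtaleMor f.hom) (hs : AlgSp.IsSurjectiveMor f.hom) :
    AlgSp.dim X.obj = AlgSp.dim Y.obj := by
  refine le_antisymm (iSup_le fun U => iSup_le fun a => iSup_le fun ha =>
    le_iSup_of_le U (le_iSup_of_le (a ≫ f.hom) (le_iSup_of_le (hf a ha) le_rfl))) (iSup_le fun V => iSup_le fun b => iSup_le fun hb => ?_)
  obtain ⟨U, a, hae, has⟩ := X.property.atlas
  obtain ⟨W, w₁', w₂, sq, hw₂⟩ := Groth.Agent.ASp.exists_sq_prop (hf a hae) b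
  obtain ⟨w₁, rfl⟩ := (AlgSp.yon S).map_surjective w₁'
  haveI : Etale w₁.left := hb.2 (a ≫ f.hom) ((AlgSp.yon S).map w₂) w₁ sq.flip
  haveI : Etale w₂.left := hw₂
  haveI := Groth.Agent.ASp.locallyQuasiFinite_of_etale w₁.left
  refine le_trans ?_ ((Groth.Agent.H4SchTop.dim_le_of_fibre (f := w₁.left) w₁.left.continuous fun x y hxy e =>
    Groth.Agent.ASp.eq_of_specializes_of_lqf w₁.left hxy e).trans (le_iSup_of_le U (le_iSup_of_le a (le_iSup_of_le hae le_rfl))))
  refine Groth.Agent.H4SchTop.dim_le_of_generalizing (f := w₂.left) (fun v => ?_) (fun x y hy => Flat.generalizingMap w₂.left hy)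
  obtain ⟨x, hx⟩ := hs (AlgSp.Points.ofPt b v)
  obtain ⟨u, rfl⟩ := Groth.Agent.ASp.surjective_ofPt_of_repWith has x
  obtain ⟨w, -, hw⟩ := (Groth.Agent.ASp.ofPt_eq_ofPt_iff_of_sq sq u v).1 (by rw [← hx, AlgSp.Points.map_ofPt])
  exact ⟨w, hw⟩

end Groth.Agent.S10250
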