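import Groth.Statements.S10268
import Groth.Agent.Lib.AlgSpAffineGlobal

set_option autoImplicit false
set_option backward.isDefEq.respectTransparency.types false
universe u
open CategoryTheory CategoryTheory.Limits AlgebraicGeometry
open AlgSp

namespace Groth.Agent.S10268

/-- (3) ⇒ (2): integrality and finiteness of a morphism of algebraic spaces descend along a surjective
etale base change from a scheme. -/
theorem result {S : Scheme.{u}} {X Y : AlgSp.Space S} (f : X ⟶ Y) (V : Over S)
    (p : (AlgSp.yon S).obj V ⟶ Y.obj) (hp : AlgSp.RepWith @Etale p) (hps : AlgSp.RepWith @Surjective p)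
    {P : AlgSp.Sp S} (fst : P ⟶ X.obj) (snd : P ⟶ (AlgSp.yon S).obj V) (sq : IsPullback fst snd f.hom p) :
    (AlgSp.IsIntegralMor snd → AlgSp.IsIntegralMor f.hom) ∧ (AlgSp.IsFiniteMor snd → AlgSp.IsFiniteMor f.hom) := by
  have href := ASp.refines_of_atlas p hp hps
  have hP : AlgSp.IsAlgSpace P :=
    ASp.isAlgSpace_of_isPullback Y.property.diag sq X.property (AlgSp.IsAlgSpace.yon_obj V)
  refine ⟨fun h => ?_, fun h => ?_⟩
  · exact (ASp.isIntegralMor_iff X.property Y.property).2 (ASp.repWith_of_refines_affine
      ASp.integralHom_le_affineHom X.property Y.property href (fun _ => fst) (fun _ => snd) (fun _ => sq)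
      fun _ => (ASp.isIntegralMor_iff hP (AlgSp.IsAlgSpace.yon_obj V)).1 h)
  · exact (ASp.isFiniteMor_iff X.property Y.property).2 (ASp.repWith_of_refines_affine
      ASp.finite_le_affineHom X.property Y.property href (fun _ => fst) (fun _ => snd) (fun _ => sq)
      fun _ => (ASp.isFiniteMor_iff hP (AlgSp.IsAlgSpace.yon_obj V)).1 h)

end Groth.Agent.S10268
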