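import Groth.Statements.S10270
import Groth.Agent.Lib.AlgSpImmersion

set_option autoImplicit false
set_option backward.isDefEq.respectTransparency.types false
universe u
open CategoryTheory CategoryTheory.Limits AlgebraicGeometry
open AlgSp

namespace Groth.Agent.S10270

/-- A morphism of algebraic spaces is integral if and only if it is affine and universally closed. -/
theorem result {S : Scheme.{u}} {X Y : AlgSp.Space S} (f : X ⟶ Y) :
    AlgSp.IsIntegralMor f.hom ↔ (AlgSp.IsAffineMor f.hom ∧ AlgSp.IsUnivClosedMor f.hom) := by
  rw [ASp.isIntegralMor_iff X.property Y.property]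
  constructor
  · intro h
    have ha := ASp.repWith_mono ASp.integralHom_le_affineHom h
    exact ⟨ASp.isAffineMor_of_repWith ha, (ASp.repWith_universallyClosed_iff h.rep).1
      (ASp.repWith_mono (fun _ _ g (_ : IsIntegralHom g) => show UniversallyClosed g from inferInstance) h)⟩
  · rintro ⟨ha, hc⟩
    have ha' := ASp.repWith_isAffineHom_of_isAffineMor X.property Y.property ha
    refine ASp.repWith_of_forall ha'.rep fun U V g fst snd sq => ?_
    exact IsIntegralHom.iff_universallyClosed_and_isAffineHom.2
      ⟨((ASp.repWith_universallyClosed_iff ha'.rep).2 hc).2 g fst snd sq, ha'.2 g fst snd sq⟩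

end Groth.Agent.S10270
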