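import Groth.Statements.S9905
import Groth.Agent.Lib.AlgSpDiag

set_option autoImplicit false
set_option backward.isDefEq.respectTransparency.types false
universe u
open CategoryTheory CategoryTheory.Limits AlgebraicGeometry
open AlgSp

namespace Groth.Agent.S9905

/-- For a morphism of algebraic spaces representable by schemes, separated in the diagonal sense agrees
with separated in the representable sense, and likewise for quasi-separated. -/
theorem result {S : Scheme.{u}} {X Y : AlgSp.Space S} (f : X ⟶ Y)
    (hf : AlgSp.Representable f.hom) :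
    (AlgSp.IsSeparatedMor f.hom ↔ AlgSp.RepWith @IsSeparated f.hom) ∧
    (AlgSp.IsQuasiSeparatedMor f.hom ↔ AlgSp.RepWith @QuasiSeparated f.hom) := by
  obtain ⟨κ, U, a, -, -, ha⟩ := ASp.exists_refines_affine Y.property
  have hsq : ∀ k, ∃ (V : Over S) (fst : (AlgSp.yon S).obj V ⟶ X.obj) (snd : V ⟶ U k),
      IsPullback fst ((AlgSp.yon S).map snd) f.hom (a k) := fun k => ASp.exists_sq hf (a k)
  choose V fst snd sq using hsq
  refine ⟨⟨fun h => ASp.repWith_of_forall hf fun T W g fst' snd' sq' => ?_, fun h => ?_⟩,
    ⟨fun h => ASp.repWith_of_forall hf fun T W g fst' snd' sq' => ?_, fun h => ?_⟩⟩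
  · exact (AlgSp.isSeparatedMor_yon_map_iff _).1 (ASp.repWith_baseChange (ASp.isPullback_diagonal_map sq') h)
  · exact ASp.repWith_diagonal_of_refines X.property ha sq fun k =>
      (AlgSp.isSeparatedMor_yon_map_iff _).2 (h.2 _ _ _ (sq k))
  · exact (AlgSp.isQuasiSeparatedMor_yon_map_iff _).1 (ASp.repWith_baseChange (ASp.isPullback_diagonal_map sq') h)
  · exact ASp.repWith_diagonal_of_refines X.property ha sq fun k =>
      (AlgSp.isQuasiSeparatedMor_yon_map_iff _).2 (h.2 _ _ _ (sq k))

end Groth.Agent.S9905
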