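import Groth.Statements.S10271
import Groth.Agent.Lib.AlgSpImmersion
import Groth.Agent.S9905
import Mathlib.AlgebraicGeometry.Morphisms.Proper

set_option autoImplicit false
set_option backward.isDefEq.respectTransparency.types false
universe u
open CategoryTheory CategoryTheory.Limits AlgebraicGeometry
open AlgSp

namespace Groth.Agent.S10271

/-- A morphism of algebraic spaces is finite if and only if it is affine and proper. -/
theorem result {S : Scheme.{u}} {X Y : AlgSp.Space S} (f : X ⟶ Y) :
    AlgSp.IsFiniteMor f.hom ↔ (AlgSp.IsAffineMor f.hom ∧ AlgSp.IsProperMor f.hom) := by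
  rw [ASp.isFiniteMor_iff X.property Y.property]
  constructor
  · intro h
    have ha := ASp.repWith_mono ASp.finite_le_affineHom h
    refine ⟨ASp.isAffineMor_of_repWith ha, (Groth.Agent.S9905.result f h.rep).1.2
      (ASp.repWith_mono (fun _ _ g (_ : IsFinite g) => show IsSeparated g from inferInstance) h),
      ⟨ASp.locP_of_repWith Y.property
        (ASp.repWith_mono (fun _ _ g (_ : IsFinite g) => show LocallyOfFiniteType g from inferInstance) h),
        ASp.isQuasiCompactMor_of_repWith
          (ASp.repWith_mono (fun _ _ g (_ : IsFinite g) => show QuasiCompact g from inferInstance) h)⟩,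
      (ASp.repWith_universallyClosed_iff h.rep).1
        (ASp.repWith_mono (fun _ _ g (_ : IsFinite g) => show UniversallyClosed g from inferInstance) h)⟩
  · rintro ⟨ha, -, ⟨hlft, -⟩, hc⟩
    have ha' := ASp.repWith_isAffineHom_of_isAffineMor X.property Y.property ha
    have hl := ASp.repWith_of_locP Y.property ha'.rep hlft
    refine ASp.repWith_of_forall ha'.rep fun U V g fst snd sq => ?_
    have : IsAffineHom snd.left := ha'.2 g fst snd sq
    have : LocallyOfFiniteType snd.left := hl.2 g fst snd sq
    have : UniversallyClosed snd.left := ((ASp.repWith_universallyClosed_iff ha'.rep).2 hc).2 g fst snd sq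
    change IsFinite snd.left
    have : IsIntegralHom snd.left := IsIntegralHom.iff_universallyClosed_and_isAffineHom.2 ⟨‹_›, ‹_›⟩
    exact (IsFinite.iff_isIntegralHom_and_locallyOfFiniteType _).2 ⟨‹_›, ‹_›⟩

end Groth.Agent.S10271
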