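import Groth.Statements.S10273
import Groth.Agent.Lib.AlgSpUnram

set_option autoImplicit false
set_option backward.isDefEq.respectTransparency.types false
universe u
open CategoryTheory CategoryTheory.Limits AlgebraicGeometry
open AlgSp

namespace Groth.Agent.S10273

/-- (1) ⇔ (3): properness of a morphism of algebraic spaces can be tested after base change to affine
schemes over the target. -/
theorem result {S : Scheme.{u}} {X Y : AlgSp.Space S} (f : X ⟶ Y) :
    AlgSp.IsProperMor f.hom ↔
      ∀ (Z : Over S), IsAffine Z.left → ∀ (g : (AlgSp.yon S).obj Z ⟶ Y.obj) (P : AlgSp.Sp S) (fst : P ⟶ X.obj)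
        (snd : P ⟶ (AlgSp.yon S).obj Z), IsPullback fst snd f.hom g → AlgSp.IsProperMor snd := by
  refine ⟨fun h Z _ g P fst snd sq => ⟨ASp.repWith_baseChange (ASp.isPullback_diagonal_map sq) h.1,
    ⟨ASp.locP_baseChange X.property Y.property (IsAlgSpace.yon_obj Z) sq h.2.1.1,
      ASp.isQuasiCompactMor_baseChange sq h.2.1.2⟩, ASp.univSp_baseChange sq h.2.2⟩, fun h => ?_⟩
  obtain ⟨κ, U, a, hU, -, ha⟩ := ASp.exists_refines_affine Y.property
  exact ASp.isProperMor_of_refines X.property Y.property (fun k => IsAlgSpace.yon_obj (U k))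
    (fun k => ASp.isAlgSpace_pullback f.hom (a k) X.property (IsAlgSpace.yon_obj (U k)) Y.property) ha
    (fun k => IsPullback.of_hasPullback _ _) fun k => h _ (hU k) _ _ _ _ (IsPullback.of_hasPullback _ _)

end Groth.Agent.S10273
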