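import Groth.Statements.S10274
import Groth.Agent.Lib.AlgSpUnram

set_option autoImplicit false
set_option backward.isDefEq.respectTransparency.types false
universe u
open CategoryTheory CategoryTheory.Limits AlgebraicGeometry
open AlgSp

namespace Groth.Agent.S10274

/-- (4) ⇒ (1): properness of a morphism of algebraic spaces descends along a surjective etale base
change from a scheme. -/
theorem result {S : Scheme.{u}} {X Y : AlgSp.Space S} (f : X ⟶ Y) (V : Over S)
    (p : (AlgSp.yon S).obj V ⟶ Y.obj) (hp : AlgSp.RepWith @Etale p) (hps : AlgSp.RepWith @Surjective p)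
    {P : AlgSp.Sp S} (fst : P ⟶ X.obj) (snd : P ⟶ (AlgSp.yon S).obj V) (sq : IsPullback fst snd f.hom p)
    (h : AlgSp.IsProperMor snd) : AlgSp.IsProperMor f.hom := by
  exact ASp.isProperMor_of_refines (ι := PUnit.{u+1}) X.property Y.property (fun _ => IsAlgSpace.yon_obj V)
    (fun _ => ASp.isAlgSpace_of_isPullback Y.property.diag sq X.property (IsAlgSpace.yon_obj V))
    (fun Z hZ b => by
      obtain ⟨m, W, c, h₁, h₂, h₃, h₄⟩ := ASp.refines_of_atlas p hp hps Z hZ b
      exact ⟨m, W, c, h₁, h₂, h₃, fun j => ⟨⟨⟩, (h₄ j).choose_spec⟩⟩) (fun _ => sq) fun _ => h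

end Groth.Agent.S10274
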