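import Groth.Statements.S10279
import Groth.Agent.Lib.AlgSpTop

set_option autoImplicit false
universe u
open CategoryTheory CategoryTheory.Limits AlgebraicGeometry
open AlgSp

namespace Groth.Agent.S10279

/-- The target of a surjective morphism over B from a space universally closed over B is universally
closed over B (hence proper over B as soon as it is also separated and of finite type over B, by
definition). -/
theorem result {S : Scheme.{u}} {X Y B : AlgSp.Space S} (f : X ⟶ Y) (p : X ⟶ B)
    (q : Y ⟶ B) (comm : f ≫ q = p) (hp : AlgSp.IsUnivClosedMor p.hom) (hf : AlgSp.IsSurjectiveMor f.hom) :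
    AlgSp.IsUnivClosedMor q.hom := by
  intro W W' hW g fst snd sq A hA
  have hcomm : f.hom ≫ q.hom = p.hom := congrArg (·.hom) comm
  let m := sq.lift (pullback.fst p.hom g ≫ f.hom) (pullback.snd p.hom g)
    (by rw [Category.assoc, hcomm, pullback.condition])
  have hm : IsPullback m (pullback.fst p.hom g) fst f.hom :=
    (IsPullback.of_bot (v₂₁ := snd) (v₂₂ := q.hom) (h₃₁ := g)
      (by rw [sq.lift_snd, hcomm]; exact IsPullback.of_hasPullback _ _) (sq.lift_fst _ _ _).symm sq).flip
  have hms := Groth.Agent.ASp.surjective_baseChange hm.flip hf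
  have h1 := hp hW g (pullback.fst p.hom g) (pullback.snd p.hom g) (IsPullback.of_hasPullback _ _)
    _ (hA.preimage (Points.continuous_map m))
  convert h1 using 1
  ext z
  constructor
  · rintro ⟨x, hx, rfl⟩
    obtain ⟨r, rfl⟩ := hms x
    exact ⟨r, hx, by rw [← Points.map_comp, sq.lift_snd]⟩
  · rintro ⟨r, hr, rfl⟩
    exact ⟨_, hr, by rw [← Points.map_comp, sq.lift_snd]⟩

end Groth.Agent.S10279
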