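import Groth.Statements.S10281
import Groth.Agent.Lib.AlgSpSchImageProper

set_option autoImplicit false
set_option backward.isDefEq.respectTransparency.types false
universe u
open CategoryTheory CategoryTheory.Limits AlgebraicGeometry
open AlgSp

namespace Groth.Agent.S10281

/-- The scheme theoretic image of a space proper over B in a space separated and locally of finite type
over B is proper over B, and the source surjects onto it. -/
theorem result {S : Scheme.{u}} {X Y Z B : AlgSp.Space S} (h : X ⟶ Y) (f : X ⟶ B)
    (g : Y ⟶ B) (comm : h ≫ g = f) (hf : AlgSp.IsProperMor f.hom) (hg : AlgSp.IsSeparatedMor g.hom)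
    (hg' : AlgSp.LocP @LocallyOfFiniteType g.hom) (i : Z ⟶ Y) (hZ : AlgSp.IsSchImage h.hom i.hom)
    (h' : X ⟶ Z) (fac : h' ≫ i = h) :
    AlgSp.IsProperMor (i ≫ g).hom ∧ AlgSp.IsSurjectiveMor h'.hom := by
  subst comm
  have hh := Groth.Agent.S10278.result h (h ≫ g) g rfl hg
  have hsi : AlgSp.IsSurjectiveMor h'.hom := by
    intro z
    have hcl := ((hh.1 hf.2.2).2)
    have hz := Groth.Agent.ASp.range_schImage_subset_closure X.property Y.property Z.property
      (hh.2 hf).2.1.2 hZ ⟨z, rfl⟩
    rw [hcl.closure_eq] at hz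
    obtain ⟨x, hx⟩ := hz
    haveI : Mono i.hom := Groth.Agent.ASp.mono_of_repWith_immersion
      (Groth.Agent.ASp.repWith_mono Groth.Agent.ASp.closedImmersion_le_immersion hZ.1)
    refine ⟨x, Groth.Agent.ASp.injective_map_of_mono i.hom ?_⟩
    rw [← AlgSp.Points.map_comp, show h'.hom ≫ i.hom = h.hom from congrArg (fun k => k.hom) fac]
    exact hx
  refine ⟨Groth.Agent.ASp.isProperMor_of_surjective_source X.property Z.property B.property (h' := h'.hom) ?_ hsi
    (Groth.Agent.ASp.repWith_diagonal_comp (Groth.Agent.ASp.isProperMor_of_closedImmersion Y.property hZ.1).1 hg)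
    (Groth.Agent.ASp.locP_comp Z.property Y.property B.property
      (Groth.Agent.ASp.isProperMor_of_closedImmersion Y.property hZ.1).2.1.1 hg'), hsi⟩
  rw [← ObjectProperty.FullSubcategory.comp_hom, ← Category.assoc, fac]
  exact hf

end Groth.Agent.S10281
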