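import Groth.Statements.S10293
import Groth.Agent.Lib.AlgSpAffineGlobal
import Groth.Agent.Lib.AlgSpFlatDesc

set_option autoImplicit false
set_option backward.isDefEq.respectTransparency.types false
universe u
open CategoryTheory CategoryTheory.Limits AlgebraicGeometry
open AlgSp

namespace Groth.Agent.S10293

/-- (3) ⇒ (1): being finite locally free descends along a surjective etale base change from a scheme. -/
theorem result {S : Scheme.{u}} {X Y : AlgSp.Space S} (f : X ⟶ Y) (V : Over S)
    (p : (AlgSp.yon S).obj V ⟶ Y.obj) (hp : AlgSp.RepWith @Etale p) (hps : AlgSp.RepWith @Surjective p)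
    {P : AlgSp.Sp S} (fst : P ⟶ X.obj) (snd : P ⟶ (AlgSp.yon S).obj V) (sq : IsPullback fst snd f.hom p)
    (h : AlgSp.IsFinLocFreeMor snd) : AlgSp.IsFinLocFreeMor f.hom := by
  let FL : MorphismProperty Scheme.{u} := @Flat
  let LP : MorphismProperty Scheme.{u} := @LocallyOfFinitePresentation
  let FI : MorphismProperty Scheme.{u} := @IsFinite
  have heq : AlgSp.finLocFree.{u} = FI ⊓ (FL ⊓ LP) := rfl
  have hle : AlgSp.finLocFree.{u} ≤ @IsAffineHom := fun X₁ X₂ g hg =>
    have : IsFinite g := hg.1
    show IsAffineHom g from inferInstance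
  change AlgSp.RepWith AlgSp.finLocFree f.hom
  change AlgSp.RepWith AlgSp.finLocFree snd at h
  rw [heq] at h hle ⊢
  exact ASp.repWith_of_refines_affine hle X.property Y.property (ASp.refines_of_atlas p hp hps)
    (fun _ => fst) (fun _ => snd) (fun _ => sq) fun _ => h

end Groth.Agent.S10293
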