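import Groth.Statements.S10302
import Groth.Agent.Lib.H9AlgSpGen
import Groth.Agent.Lib.AlgSpLocal

set_option autoImplicit false
set_option backward.isDefEq.respectTransparency.types false
universe u
open CategoryTheory CategoryTheory.Limits AlgebraicGeometry
open AlgSp

namespace Groth.Agent.S10302

/-- A flat morphism of algebraic spaces maps points of codimension 0 to points of codimension 0. -/
theorem result {S : Scheme.{u}} {X Y : AlgSp.Space S} (f : X ⟶ Y) (hf : AlgSp.LocP @Flat f.hom)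
    (x : AlgSp.Points X.obj) (hx : AlgSp.HasAt (fun U u => ringKrullDim ↥(U.presheaf.stalk u) = 0) X.obj x) :
    AlgSp.HasAt (fun U u => ringKrullDim ↥(U.presheaf.stalk u) = 0) Y.obj (AlgSp.Points.map f.hom x) := by
  obtain ⟨U₀, a₀, u₀, ha₀, hau, hd⟩ := hx
  obtain ⟨V, b, hbe, hbs⟩ := Y.property.atlas
  obtain ⟨v, hv⟩ := Groth.Agent.ASp.surjective_ofPt_of_repWith hbs (AlgSp.Points.map f.hom x)
  obtain ⟨U, a, α, hae, -, hab, hlift⟩ := Groth.Agent.ASp.exists_chart_lift (f := f.hom) X.property Y.property hbe hbs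
  obtain ⟨u, hu, hαu⟩ := hlift x v hv.symm
  haveI : Flat α.left := hf a b α hae hbe hab
  refine ⟨V, b, v, hbe, hv, ?_⟩
  show ringKrullDim ↥(V.left.presheaf.stalk v) = 0
  have hd' : ringKrullDim ↥(U₀.left.presheaf.stalk u₀) = 0 := hd
  rw [ringKrullDim_stalk_eq_coheight, Groth.Agent.ASp.coheight_eq_of_ofPt_eq a₀ ha₀ a hae (hau.trans hu.symm)] at hd'
  rw [ringKrullDim_stalk_eq_coheight, ← hαu]
  refine le_antisymm ?_ (WithBot.coe_le_coe.2 bot_le)
  exact (WithBot.coe_le_coe.2 (Groth.Agent.H9Top.coheight_map_le α.left.continuous (Flat.generalizingMap α.left) u)).trans hd'.le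

end Groth.Agent.S10302
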