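import Groth.Statements.S10327
import Groth.Agent.Lib.AlgSpVCQS
import Groth.Agent.Lib.AlgSpValCrit
import Groth.Agent.S10290

set_option autoImplicit false
set_option backward.isDefEq.respectTransparency.types false
universe u
open CategoryTheory CategoryTheory.Limits AlgebraicGeometry
open AlgSp

namespace Groth.Agent.S10327

/-- For f quasi-compact and quasi-separated, f is separated and universally closed if and only if the
valuative criterion holds, if and only if every valuative square has a unique lift. -/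
theorem result {S : Scheme.{u}} {X Y : AlgSp.Space S} (f : X ⟶ Y)
    (hqc : AlgSp.IsQuasiCompactMor f.hom) (hqs : AlgSp.IsQuasiSeparatedMor f.hom) :
    ((AlgSp.IsSeparatedMor f.hom ∧ AlgSp.IsUnivClosedMor f.hom) ↔ AlgSp.VC f.hom) ∧
    ((AlgSp.IsSeparatedMor f.hom ∧ AlgSp.IsUnivClosedMor f.hom) ↔
      (AlgSp.UniqVC f.hom ∧ AlgSp.ExistVCStrict f.hom)) := by
  have he : AlgSp.IsUnivClosedMor f.hom → AlgSp.ExistVC f.hom :=
    Groth.Agent.ASp.existVC_of_univClosed_decentMor X.property Y.property
      (Groth.Agent.ASp.isDecentMor_of_isQuasiSeparatedMor X.property Y.property hqs)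
  have key : AlgSp.UniqVC f.hom → AlgSp.ExistVC f.hom → AlgSp.IsSeparatedMor f.hom ∧ AlgSp.IsUnivClosedMor f.hom :=
    fun hu hx => ⟨Groth.Agent.ASp.isSeparatedMor_of_uniqVC X.property hqs hu,
      Groth.Agent.ASp.isUnivClosedMor_of_existVC X.property Y.property hqc hx⟩
  exact ⟨⟨fun h => ⟨Groth.Agent.S10290.result f h.1, he h.2⟩, fun h => key h.1 h.2⟩,
    ⟨fun h => ⟨Groth.Agent.S10290.result f h.1,
        Groth.Agent.ASp.existVCStrict_of_separated X.property Y.property h.1 (he h.2)⟩,
      fun h => key h.1 (Groth.Agent.ASp.existVC_of_existVCStrict h.2)⟩⟩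

end Groth.Agent.S10327
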