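import Groth.Statements.S1033
import Mathlib
import Groth.Agent.Lib.H6.ExtEffaceable

set_option autoImplicit false
set_option backward.isDefEq.respectTransparency.types false
set_option maxHeartbeats 1000000
set_option linter.all false
universe w v u
open CategoryTheory CategoryTheory.Abelian
open CohDer

namespace Groth.Agent.S1033
open Groth.Agent
open CategoryTheory CategoryTheory.Limits CategoryTheory.Abelian

/-- Let A be an abelian category (with Ext groups in some universe) and p ≥ 0. If Extᵖ(B, C) = 0 for all
objects B, C, then Extⁱ(B, C) = 0 for all i ≥ p and all B, C. -/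
theorem result {A : Type u} [Category.{v} A] [Abelian A] [HasExt.{w} A] (p : ℕ)
    (h : ∀ (B C : A) (x : Ext B C p), x = 0) (i : ℕ) (hi : p ≤ i) (B C : A) (x : Ext B C i) : x = 0 := by
    induction i, hi using Nat.le_induction generalizing B C with
    | base => exact h B C x
    | succ i hi ih =>
      obtain ⟨L, e, he, hx⟩ := H6Eff.exists_epi (Nat.succ_pos i) x
      have hS : (ShortComplex.mk (kernel.ι e) e (kernel.condition e)).ShortExact :=
        { exact := ShortComplex.exact_of_f_is_kernel _ (kernelIsKernel e) }
      obtain ⟨y, hy⟩ := Ext.contravariant_sequence_exact₃ hS C x hx (n₀ := i) (by omega)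
      rw [← hy, ih _ _ y, Ext.comp_zero]

end Groth.Agent.S1033
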