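import Groth.Statements.S10339
import Groth.Agent.Lib.H9TopSober
import Groth.Agent.Lib.H9AlgSpSpectral
import Groth.Agent.Lib.AlgSpDecent

set_option autoImplicit false
set_option backward.isDefEq.respectTransparency.types false
universe u
open CategoryTheory CategoryTheory.Limits AlgebraicGeometry Topology TopologicalSpace
open AlgSp

namespace Groth.Agent.S10339

/-- For a scheme S and a decent algebraic space X over S, every irreducible closed subset of |X| is the
closure of some point. (The published statement says that |X| is sober; this row states only the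
existence of generic points, their uniqueness being the Kolmogorov property of |X|, a separate
statement.) -/
theorem result {S : Scheme.{u}} (X : AlgSp.Space S) (hX : AlgSp.IsDecent X.obj) :
    QuasiSober (AlgSp.Points X.obj) := by
  refine ⟨fun {T} hT hTc => ?_⟩
  obtain ⟨x, hx⟩ := hT.nonempty
  obtain ⟨κ, U, a, hU, ha, href⟩ := Groth.Agent.ASp.exists_refines_affine X.property
  obtain ⟨k, z, hz⟩ := href.exists_pt x
  obtain ⟨u, rfl⟩ := (AlgSp.Points.schemeHomeo (U k)).surjective z
  have hu : AlgSp.Points.ofPt (a k) u = x := by rw [← hz, AlgSp.Points.ofPt_eq_map_ofScheme]; rfl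
  haveI : IsAffine (U k).left := hU k
  haveI := Groth.Agent.ASp.spectral_of_affine (U k).left
  exact Groth.Agent.H9Top.exists_isGenericPoint_of_finite_fibres (AlgSp.Points.continuous_ofPt (a k))
    (Groth.Agent.ASp.isOpenMap_ofPt_of_etale (ha k))
    (fun y => Groth.Agent.ASp.finite_fibre_of_decentAt (ha k) (hX y)) hTc hT.isPreirreducible
    ⟨u, show AlgSp.Points.ofPt (a k) u ∈ T from hu ▸ hx⟩

end Groth.Agent.S10339
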