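import Groth.Statements.S10342
import Groth.Agent.Lib.H9AlgSpGen
import Groth.Agent.Lib.AlgSpLocal

set_option autoImplicit false
set_option backward.isDefEq.respectTransparency.types false
universe u
open CategoryTheory CategoryTheory.Limits AlgebraicGeometry Topology TopologicalSpace
open AlgSp

namespace Groth.Agent.S10342

/-- Let X be a locally Noetherian algebraic space over a scheme S and a : h_U ⟶ X a representable etale
map from a scheme U. If two points u, u' of U have the same image in |X| and u' specializes to u,
then u = u'. -/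
theorem result {S : Scheme.{u}} (X : AlgSp.Space S)
    (hX : AlgSp.IsLocNoethSp X.obj) {U : Over S} (a : (AlgSp.yon S).obj U ⟶ X.obj) (ha : AlgSp.RepWith @Etale a)
    (u u' : ↥U.left) (he : AlgSp.Points.ofPt a u = AlgSp.Points.ofPt a u') (hs : u' ⤳ u) : u = u' := by
  letI := specializationPreorder ↥U.left
  obtain ⟨V, p, hpe, hps, hV⟩ := hX
  obtain ⟨v, hv⟩ := Groth.Agent.ASp.surjective_ofPt_of_repWith hps (AlgSp.Points.ofPt a u)
  haveI : IsLocallyNoetherian V.left := hV
  by_contra hne
  have hlt : u < u' := lt_of_le_not_ge hs fun h => hne (Inseparable.eq (h.antisymm hs))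
  have e := Groth.Agent.ASp.coheight_eq_of_ofPt_eq a ha a ha he
  have hfin : Order.coheight u < ⊤ := by
    have h1 := AlgebraicGeometry.ringKrullDim_stalk_eq_coheight v
    have h2 := ringKrullDim_lt_top (R := ↥(V.left.presheaf.stalk v))
    rw [h1, ← Groth.Agent.ASp.coheight_eq_of_ofPt_eq a ha p hpe hv.symm] at h2
    exact WithBot.coe_lt_coe.1 h2
  exact (Order.coheight_strictAnti hlt (e ▸ hfin)).ne e.symm

end Groth.Agent.S10342
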