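import Groth.Statements.S10345
import Groth.Agent.Lib.H9AlgSpGen
import Groth.Agent.Lib.H8TopDim

set_option autoImplicit false
set_option backward.isDefEq.respectTransparency.types false
universe u
open CategoryTheory CategoryTheory.Limits AlgebraicGeometry Topology TopologicalSpace
open AlgSp

namespace Groth.Agent.S10345

/-- For a decent algebraic space X over a scheme S the Krull dimension of the topological space |X|
equals the dimension of X (the supremum of the Krull dimensions of the schemes etale over X). -/
theorem result {S : Scheme.{u}} (X : AlgSp.Space S)
    (hX : AlgSp.IsDecent X.obj) :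
    topologicalKrullDim (AlgSp.Points X.obj) = AlgSp.dim X.obj := by
  apply le_antisymm
  · obtain ⟨U, a, hae, has⟩ := X.property.atlas
    refine le_trans ?_ (le_iSup_of_le U (le_iSup_of_le a (le_iSup_of_le hae le_rfl)))
    rw [← (Homeomorph.Set.univ ↥U.left).isInducing.topologicalKrullDim_le.antisymm (Homeomorph.Set.univ ↥U.left).symm.isInducing.topologicalKrullDim_le,
      Groth.Agent.ASp.dim_open_eq X.property hX a hae isOpen_univ, Set.image_univ, (Groth.Agent.ASp.surjective_ofPt_of_repWith has).range_eq]
    exact (Homeomorph.Set.univ _).symm.isInducing.topologicalKrullDim_le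
  · refine iSup_le fun U => iSup_le fun a => iSup_le fun ha => ?_
    refine ((Homeomorph.Set.univ ↥U.left).symm.isInducing.topologicalKrullDim_le).trans ?_
    rw [Groth.Agent.ASp.dim_open_eq X.property hX a ha isOpen_univ]
    exact topologicalKrullDim_subspace_le _ _

end Groth.Agent.S10345
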