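import Groth.Statements.S10346
import Groth.Agent.Lib.H9AlgSpGen

set_option autoImplicit false
set_option backward.isDefEq.respectTransparency.types false
universe u
open CategoryTheory CategoryTheory.Limits AlgebraicGeometry Topology TopologicalSpace
open AlgSp

namespace Groth.Agent.S10346

/-- Let S be a scheme and X a decent algebraic space over S. Then for every representable etale a : h_U
⟶ X from a scheme U and every point u of U with image x ∈ |X|, the local dimension of U at u (the
dimension of X at x) equals the local dimension of the topological space |X| at x. -/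
theorem result {S : Scheme.{u}} (X : AlgSp.Space S)
    (hX : AlgSp.IsDecent X.obj) {U : Over S} (a : (AlgSp.yon S).obj U ⟶ X.obj) (ha : AlgSp.RepWith @Etale a)
    (u : ↥U.left) :
    FlatMor.localDim ↥U.left u = FlatMor.localDim (AlgSp.Points X.obj) (AlgSp.Points.ofPt a u) := by
  apply le_antisymm
  · refine le_iInf fun W => ?_
    refine (iInf_le _ ⟨⟨AlgSp.Points.ofPt a ⁻¹' (W.1 : Set (AlgSp.Points X.obj)), W.1.2.preimage (AlgSp.Points.continuous_ofPt a)⟩, W.2⟩).trans ?_
    refine (Groth.Agent.ASp.dim_open_eq X.property hX a ha (W.1.2.preimage (AlgSp.Points.continuous_ofPt a))).trans_le ?_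
    exact (Topology.IsEmbedding.inclusion (Set.image_preimage_subset _ _)).isInducing.topologicalKrullDim_le
  · refine le_iInf fun O => ?_
    refine (iInf_le _ ⟨⟨AlgSp.Points.ofPt a '' (O.1 : Set ↥U.left), Groth.Agent.ASp.isOpenMap_ofPt_of_etale ha _ O.1.2⟩, u, O.2, rfl⟩).trans ?_
    exact (Groth.Agent.ASp.dim_open_eq X.property hX a ha O.1.2).ge

end Groth.Agent.S10346
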