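import Groth.Statements.S10347
import Groth.Agent.Lib.H9AlgSpGen
import Groth.Agent.Lib.AlgSpLocal

set_option autoImplicit false
set_option backward.isDefEq.respectTransparency.types false
universe u
open CategoryTheory CategoryTheory.Limits AlgebraicGeometry Topology TopologicalSpace
open AlgSp

namespace Groth.Agent.S10347

/-- For a locally quasi-finite morphism f : X ⟶ Y of algebraic spaces over a scheme S (locally
quasi-finite and locally of finite type, etale locally on source and target), dim X ≤ dim Y. -/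
theorem result {S : Scheme.{u}} {X Y : AlgSp.Space S} (f : X ⟶ Y)
    (hf : AlgSp.LocP (@LocallyQuasiFinite ⊓ @LocallyOfFiniteType) f.hom) :
    AlgSp.dim X.obj ≤ AlgSp.dim Y.obj := by
  refine iSup_le fun U => iSup_le fun a => iSup_le fun ha => ?_
  obtain ⟨U₁, V, a₁, b, α, ha₁, hs₁, hb, -, hab⟩ := Groth.Agent.ASp.exists_chart X.property Y.property f.hom
  have hα := hf a₁ b α ha₁ hb hab
  haveI : LocallyQuasiFinite α.left := hα.1
  obtain ⟨W, w₁', w₂, sq, hw₂⟩ := Groth.Agent.ASp.exists_sq_prop ha₁ a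
  obtain ⟨w₁, rfl⟩ := (AlgSp.yon S).map_surjective w₁'
  haveI : Etale w₁.left := ha.2 a₁ ((AlgSp.yon S).map w₂) w₁ sq.flip
  haveI : Etale w₂.left := hw₂
  haveI := Groth.Agent.ASp.locallyQuasiFinite_of_etale w₁.left
  have hW : topologicalKrullDim ↥W.left ≤ topologicalKrullDim ↥V.left :=
    Groth.Agent.H4SchTop.dim_le_of_fibre (f := (w₁.left ≫ α.left)) (w₁.left ≫ α.left).continuous fun x y hxy e =>
      Groth.Agent.ASp.eq_of_specializes_of_lqf (w₁.left ≫ α.left) hxy e
  refine le_trans ?_ (hW.trans (le_iSup_of_le V (le_iSup_of_le b (le_iSup_of_le hb le_rfl))))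
  refine Groth.Agent.H4SchTop.dim_le_of_generalizing (f := w₂.left) ?_ (fun x y hy => Flat.generalizingMap w₂.left hy)
  haveI : Surjective w₂.left := hs₁.2 a ((AlgSp.yon S).map w₁) w₂ sq
  exact w₂.left.surjective

end Groth.Agent.S10347
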