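import Groth.Statements.S10348
import Groth.Agent.Lib.H9AlgSpGen
import Groth.Agent.Lib.AlgSpLocal

set_option autoImplicit false
set_option backward.isDefEq.respectTransparency.types false
universe u
open CategoryTheory CategoryTheory.Limits AlgebraicGeometry Topology TopologicalSpace
open AlgSp

namespace Groth.Agent.S10348

/-- Let S be a scheme, X and Y algebraic spaces over S, and f : X ⟶ Y a morphism which is locally
quasi-finite; let x ∈ |X| have image y ∈ |Y|. Then the local ring of X at x has dimension at most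
that of the local ring of Y at the point y (both dimensions read on etale charts through the
points). -/
theorem result {S : Scheme.{u}} {X Y : AlgSp.Space S} (f : X ⟶ Y)
    (hf : AlgSp.LocP (@LocallyQuasiFinite ⊓ @LocallyOfFiniteType) f.hom) (x : AlgSp.Points X.obj)
    (d e : WithBot ℕ∞)
    (hx : AlgSp.HasAt (fun U u => ringKrullDim ↥(U.presheaf.stalk u) = d) X.obj x)
    (hy : AlgSp.HasAt (fun V v => ringKrullDim ↥(V.presheaf.stalk v) = e) Y.obj (AlgSp.Points.map f.hom x)) :
    d ≤ e := by
  obtain ⟨U, a, u, ha, hau, hd⟩ := hx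
  obtain ⟨V₀, b₀, v₀, hb₀, hbv, he⟩ := hy
  obtain ⟨V, b, hbe, hbs⟩ := Y.property.atlas
  obtain ⟨v, hv⟩ := Groth.Agent.ASp.surjective_ofPt_of_repWith hbs (AlgSp.Points.map f.hom x)
  obtain ⟨U₁, a₁, α, ha₁, -, hab, hlift⟩ := Groth.Agent.ASp.exists_chart_lift (f := f.hom) X.property Y.property hbe hbs
  obtain ⟨u₁, hu₁, hαu⟩ := hlift x v hv.symm
  haveI : LocallyQuasiFinite α.left := (hf a₁ b α ha₁ hbe hab).1
  have hd' : ringKrullDim ↥(U.left.presheaf.stalk u) = d := hd
  have he' : ringKrullDim ↥(V₀.left.presheaf.stalk v₀) = e := he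
  rw [← hd', ← he', ringKrullDim_stalk_eq_coheight, ringKrullDim_stalk_eq_coheight,
    Groth.Agent.ASp.coheight_eq_of_ofPt_eq a ha a₁ ha₁ (hau.trans hu₁.symm),
    Groth.Agent.ASp.coheight_eq_of_ofPt_eq b₀ hb₀ b hbe (hbv.trans hv.symm), ← hαu]
  refine WithBot.coe_le_coe.2 (Order.coheight_le_coheight_apply_of_strictMono α.left ?_ u₁)
  exact Groth.Agent.H9Top.strictMono_of_no_spec_in_fibres α.left.continuous fun x y h e => Groth.Agent.ASp.eq_of_specializes_of_lqf α.left h e

end Groth.Agent.S10348
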