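import Groth.Statements.S10349
import Groth.Agent.Lib.AlgSpFieldDescent

set_option autoImplicit false
set_option backward.isDefEq.respectTransparency.types false
universe u
open CategoryTheory CategoryTheory.Limits AlgebraicGeometry Topology TopologicalSpace
open AlgSp

namespace Groth.Agent.S10349

/-- Let S be a scheme, X a decent algebraic space over S, k a field over S and p : h_{Spec k} ⟶ X a
surjective etale map. Then X ≅ h_{Spec k'} for a field k' over S, and p corresponds to a finite
etale morphism Spec k ⟶ Spec k' over S, so that k is a finite separable extension of k'. -/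
theorem result {S : Scheme.{u}} (X : AlgSp.Space S)
    (hX : AlgSp.IsDecent X.obj) (k : Type u) [Field k] (str : Spec (CommRingCat.of k) ⟶ S)
    (p : (AlgSp.yon S).obj (Over.mk str) ⟶ X.obj) (hp : AlgSp.RepWith @Etale p) (hs : AlgSp.RepWith @Surjective p) :
    ∃ (k' : Type u) (_ : Field k') (str' : Spec (CommRingCat.of k') ⟶ S)
      (e : (AlgSp.yon S).obj (Over.mk str') ≅ X.obj) (c : Over.mk str ⟶ Over.mk str'),
      (AlgSp.yon S).map c ≫ e.hom = p ∧ IsFinite c.left ∧ Etale c.left := by
  obtain ⟨P, hP, hm, hq⟩ := hX (AlgSp.Points.ofPt p (IsLocalRing.closedPoint k))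
  haveI : Mono P.toHom := hm
  let q : AlgSp.FieldPt X.obj := ⟨k, str, Groth.Agent.ASp.sec p⟩
  have hqh : q.toHom = p := Groth.Agent.ASp.sec.symm_apply_apply p
  have hmk : AlgSp.Points.mk P = AlgSp.Points.mk q := by
    rw [hP, ← AlgSp.Points.ofPt_toHom q (IsLocalRing.closedPoint k), hqh]
  obtain ⟨c, hc⟩ := Groth.Agent.ASp.exists_factor_pt P q hq.rep hmk
  rw [hqh] at hc
  haveI := Groth.Agent.ASp.isLocallySurjective_of_etale hp hs
  haveI : Epi p := inferInstance
  haveI : Epi P.toHom := epi_of_epi_fac hc
  haveI : IsIso P.toHom := isIso_of_mono_of_epi _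
  refine ⟨P.K, P.field, P.str, asIso P.toHom, c, hc, ?_⟩
  have hce : AlgSp.RepWith @Etale ((AlgSp.yon S).map c) := by
    rw [show (AlgSp.yon S).map c = p ≫ inv P.toHom by rw [← hc, Category.assoc, IsIso.hom_inv_id, Category.comp_id]]
    exact MorphismProperty.RespectsIso.postcomp _ _ _ hp
  haveI : Etale c.left := (AlgSp.repWith_yon_map_iff _ _).1 hce
  haveI : LocallyQuasiFinite c.left := Groth.Agent.ASp.locallyQuasiFinite_of_etale c.left
  haveI : Subsingleton (Over.mk str).left := inferInstanceAs (Subsingleton (Spec (CommRingCat.of k)))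
  haveI : QuasiCompact c.left := Groth.Agent.ASp.quasiCompact_of_subsingleton _
  haveI : IsLocallyArtinian P.pt.left := inferInstanceAs (IsLocallyArtinian (Spec (CommRingCat.of P.K)))
  exact ⟨IsFinite.of_locallyQuasiFinite c.left, inferInstance⟩

end Groth.Agent.S10349
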