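import Groth.Statements.S10382
import Groth.Agent.Lib.AlgSpDecent

set_option autoImplicit false
set_option backward.isDefEq.respectTransparency.types false
universe u
open CategoryTheory CategoryTheory.Limits AlgebraicGeometry Topology TopologicalSpace
open AlgSp

namespace Groth.Agent.S10382

/-- The composition of two decent morphisms of algebraic spaces over a scheme S is decent. -/
theorem result {S : Scheme.{u}} {X Y Z : AlgSp.Space S} (f : X ⟶ Y) (g : Y ⟶ Z)
    (hf : AlgSp.IsDecentMor f.hom) (hg : AlgSp.IsDecentMor g.hom) : AlgSp.IsDecentMor (f ≫ g).hom := by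
  intro T F' b fst snd sq x
  let sqg := IsPullback.of_hasPullback g.hom b
  have hw : (fst ≫ f.hom) ≫ g.hom = snd ≫ b := by rw [Category.assoc]; exact sq.w
  have sqf : IsPullback fst (sqg.lift (fst ≫ f.hom) snd hw) f.hom (pullback.fst g.hom b) :=
    IsPullback.of_bot (by rw [sqg.lift_snd]; exact sq) (sqg.lift_fst _ _ _).symm sqg
  refine ASp.decentAt_of_fibre (sqg.lift (fst ≫ f.hom) snd hw) (hg b _ _ sqg _) fun p P u v s z => ?_
  exact hf (p.toHom ≫ pullback.fst g.hom b) (u ≫ fst) v (s.paste_horiz sqf) z

end Groth.Agent.S10382
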