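import Groth.Statements.S10386
import Groth.Agent.Lib.AlgSpDecent

set_option autoImplicit false
set_option backward.isDefEq.respectTransparency.types false
universe u
open CategoryTheory CategoryTheory.Limits AlgebraicGeometry Topology TopologicalSpace
open AlgSp

namespace Groth.Agent.S10386

/-- (3) ⇒ (1): let S be a scheme, X and Y algebraic spaces over S, and f : X ⟶ Y a morphism such that Z
×_Y X is decent for every affine scheme Z and every Z ⟶ Y. Then f is decent, i.e. T ×_Y X is decent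
for every scheme T over Y. -/
theorem result {S : Scheme.{u}} {X Y : AlgSp.Space S} (f : X ⟶ Y)
    (h : ∀ (Z : Over S) (g : (AlgSp.yon S).obj Z ⟶ Y.obj) (P : AlgSp.Sp S) (fst : P ⟶ X.obj)
      (snd : P ⟶ (AlgSp.yon S).obj Z), IsAffine Z.left → IsPullback fst snd f.hom g → AlgSp.IsDecent P) :
    AlgSp.IsDecentMor f.hom := by
  intro T F' g fst snd sq x
  let c : ∀ k : T.left.affineOpens, Over.mk (k.1.ι ≫ T.hom) ⟶ T := fun k => Over.homMk k.1.ι
  refine ASp.decentAt_of_opens (fun k => pullback.fst snd ((AlgSp.yon S).map (c k)))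
    (fun k => ASp.repWith_baseChange (IsPullback.of_hasPullback snd _).flip
      ((AlgSp.repWith_yon_map_iff _ (c k)).2 (inferInstanceAs (IsOpenImmersion k.1.ι)))) (fun y => ?_)
    fun k y _ => ?_
  · obtain ⟨t, ht⟩ := (AlgSp.Points.schemeHomeo T).surjective (AlgSp.Points.map snd y)
    obtain ⟨V, hV, htV, -⟩ := exists_isAffineOpen_mem_and_subset (X := T.left) (x := t) (U := ⊤) trivial
    obtain ⟨z, hz, -⟩ := ASp.exists_of_isPullback (IsPullback.of_hasPullback snd ((AlgSp.yon S).map (c ⟨V, hV⟩)))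
      y (AlgSp.Points.schemeHomeo _ (⟨t, htV⟩ : V.toScheme)) (by rw [← ht, AlgSp.Points.map_yon_map_apply]; rfl)
    exact ⟨⟨V, hV⟩, z, hz⟩
  · exact h (Over.mk (k.1.ι ≫ T.hom)) _ _ _ _ k.2 ((IsPullback.of_hasPullback snd _).paste_horiz sq) y

end Groth.Agent.S10386
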