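import Groth.Statements.S10387
import Groth.Agent.Lib.AlgSpDecentEtale
import Groth.Agent.Lib.AlgSpRefine
import Groth.Agent.S10386

set_option autoImplicit false
set_option backward.isDefEq.respectTransparency.types false
universe u
open CategoryTheory CategoryTheory.Limits AlgebraicGeometry Topology TopologicalSpace
open AlgSp

namespace Groth.Agent.S10387

/-- (5) ⇒ (1): let S be a scheme, X and Y algebraic spaces over S, f : X ⟶ Y a morphism, and V ⟶ Y a
surjective etale morphism from a scheme. If the base change V ×_Y X ⟶ V is a decent morphism, then f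
is decent. -/
theorem result {S : Scheme.{u}} {X Y : AlgSp.Space S} (f : X ⟶ Y) {V : Over S}
    (p : (AlgSp.yon S).obj V ⟶ Y.obj) (hp : AlgSp.RepWith @Etale p) (hps : AlgSp.RepWith @Surjective p)
    (X' : AlgSp.Sp S) (fst : X' ⟶ X.obj) (snd : X' ⟶ (AlgSp.yon S).obj V) (hsq : IsPullback fst snd f.hom p)
    (h : AlgSp.IsDecentMor snd) : AlgSp.IsDecentMor f.hom := by
  refine Groth.Agent.S10386.result f fun T g P a b hT sqP x => ?_
  obtain ⟨x0, hx0⟩ := (Points.schemeHomeo T).surjective (Points.map b x)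
  obtain ⟨T', l, c, sqT⟩ := Groth.Agent.ASp.exists_sq hp.rep g
  haveI : Surjective c.left := hps.2 g l c sqT
  obtain ⟨t', ht'⟩ := c.left.surjective x0
  obtain ⟨O, hO, htO, -⟩ := exists_isAffineOpen_mem_and_subset (X := T'.left) (x := t') (U := ⊤) trivial
  let T₁ : Over S := Over.mk (O.ι ≫ T'.hom)
  let e : T₁ ⟶ T' := Over.homMk O.ι rfl
  haveI : IsAffine T₁.left := hO
  haveI : QuasiCompact (e ≫ c).left := quasiCompact_of_compactSpace _
  have sq₁ := IsPullback.of_hasPullback b ((AlgSp.yon S).map (e ≫ c))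
  obtain ⟨y, hy, -⟩ := Groth.Agent.ASp.exists_of_isPullback sq₁ x
    (Points.schemeHomeo T₁ (⟨t', htO⟩ : O.toScheme)) (by
      rw [Points.map_yon_map_apply, ← hx0]
      exact congrArg _ ht'.symm)
  have hP : IsAlgSpace P := Groth.Agent.ASp.isAlgSpace_of_isPullback Y.property.diag sqP X.property
    (IsAlgSpace.yon_obj _)
  have big := sq₁.paste_horiz sqP
  have hP₁ : IsAlgSpace (Limits.pullback b ((AlgSp.yon S).map (e ≫ c))) :=
    Groth.Agent.ASp.isAlgSpace_of_isPullback Y.property.diag big X.property (IsAlgSpace.yon_obj _)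
  have eg : (AlgSp.yon S).map (e ≫ c) ≫ g = ((AlgSp.yon S).map e ≫ l) ≫ p := by
    rw [Functor.map_comp, Category.assoc, ← sqT.w, ← Category.assoc]
  have hw := big.w.trans ((congrArg (_ ≫ ·) eg).trans (Category.assoc _ _ _).symm)
  let m := hsq.lift _ _ hw
  have hdec : IsDecent (Limits.pullback b ((AlgSp.yon S).map (e ≫ c))) :=
    h ((AlgSp.yon S).map e ≫ l) m _
      (IsPullback.of_right (eg ▸ (hsq.lift_fst _ _ hw).symm ▸ big) (hsq.lift_snd _ _ hw) hsq)
  have hqc : IsQuasiCompactMor (pullback.fst b ((AlgSp.yon S).map (e ≫ c))) :=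
    Groth.Agent.ASp.isQuasiCompactMor_baseChange sq₁.flip (Groth.Agent.ASp.isQuasiCompactMor_of_repWith
      ((repWith_yon_map_iff _ _).2 ‹QuasiCompact (e ≫ c).left›))
  exact hy ▸ Groth.Agent.ASp.decentAt_map_of_qc hP₁ hP hqc (hdec y)

end Groth.Agent.S10387
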