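import Groth.Statements.S10395
import Groth.Agent.Lib.H9AlgSpGen

set_option autoImplicit false
set_option backward.isDefEq.respectTransparency.types false
universe u
open CategoryTheory CategoryTheory.Limits AlgebraicGeometry Topology TopologicalSpace
open AlgSp

namespace Groth.Agent.S10395

/-- (1) ⇔ (2) ⇔ (3): let S be a scheme, X a decent algebraic space over S, and (Y, y) ⟶ (X, x) an etale
morphism of pointed algebraic spaces. Then the point y is a generic point of some irreducible
component of |Y| if and only if the point x is a generic point of some irreducible component of |X|. -/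
theorem result {S : Scheme.{u}} {X Y : AlgSp.Space S}
    (hX : AlgSp.IsDecent X.obj) (f : Y ⟶ X) (hf : AlgSp.IsEtaleMor f.hom) (y : AlgSp.Points Y.obj) :
    (∃ T ∈ irreducibleComponents (AlgSp.Points Y.obj), IsGenericPoint y T) ↔
      (∃ T ∈ irreducibleComponents (AlgSp.Points X.obj), IsGenericPoint (AlgSp.Points.map f.hom y) T) := by
  letI := specializationPreorder (AlgSp.Points Y.obj)
  letI := specializationPreorder (AlgSp.Points X.obj)
  haveI := Groth.Agent.ASp.t0Space_points X.property hX
  haveI := Groth.Agent.ASp.quasiSober_points X.property hX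
  have hfinY : ∀ (z : AlgSp.Points Y.obj) (V : Over S) (b : (AlgSp.yon S).obj V ⟶ Y.obj), IsAffine V.left →
      AlgSp.RepWith @Etale b → (AlgSp.Points.ofPt b ⁻¹' {z}).Finite := fun z V b hV hb =>
    (Groth.Agent.ASp.finite_fibres_of_decentAt (hX (AlgSp.Points.map f.hom z)) V _ hV (hf b hb)).subset
      fun v hv => show AlgSp.Points.ofPt (b ≫ f.hom) v = _ by rw [← AlgSp.Points.map_ofPt]; exact congrArg _ hv
  haveI := Groth.Agent.ASp.quasiSober_points' Y.property hfinY
  rw [Groth.Agent.H9Top.isMax_iff_exists_component, Groth.Agent.H9Top.isMax_iff_exists_component]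
  obtain ⟨U, a, hae, has⟩ := Y.property.atlas
  obtain ⟨u, rfl⟩ := Groth.Agent.ASp.surjective_ofPt_of_repWith has y
  have hca : AlgSp.Points.ofPt (a ≫ f.hom) u = AlgSp.Points.map f.hom (AlgSp.Points.ofPt a u) := (AlgSp.Points.map_ofPt _ _ _).symm
  constructor
  · intro hy w hw
    obtain ⟨u', hu', rfl⟩ := Groth.Agent.ASp.generalizingMap_ofPt hX (a ≫ f.hom) (hf a hae) (hca.symm ▸ (show w ⤳ _ from hw))
    have h1 : AlgSp.Points.ofPt a u ⤳ AlgSp.Points.ofPt a u' := hy (show AlgSp.Points.ofPt a u ≤ AlgSp.Points.ofPt a u' from hu'.map (AlgSp.Points.continuous_ofPt a))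
    rw [← AlgSp.Points.map_ofPt]
    exact h1.map (AlgSp.Points.continuous_map _)
  · intro hx w hw
    obtain ⟨u', hu', rfl⟩ := Groth.Agent.ASp.exists_specializes_lift a hae (hfinY w) (show w ⤳ _ from hw)
    have h1 : AlgSp.Points.map f.hom (AlgSp.Points.ofPt a u) ⤳ AlgSp.Points.map f.hom (AlgSp.Points.ofPt a u') :=
      hx (show AlgSp.Points.map f.hom (AlgSp.Points.ofPt a u) ≤ AlgSp.Points.map f.hom (AlgSp.Points.ofPt a u') from (hu'.map (AlgSp.Points.continuous_ofPt a)).map (AlgSp.Points.continuous_map _))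
    have e : AlgSp.Points.ofPt (a ≫ f.hom) u' = AlgSp.Points.ofPt (a ≫ f.hom) u := by
      rw [← AlgSp.Points.map_ofPt, hca]
      exact ((hu'.map (AlgSp.Points.continuous_ofPt a)).map (AlgSp.Points.continuous_map _)).antisymm h1 |>.eq
    rw [Groth.Agent.ASp.eq_of_specializes_of_decentAt (a ≫ f.hom) (hf a hae) (hX _) e hu']

end Groth.Agent.S10395
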