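import Groth.Statements.S10403
import Groth.Agent.Lib.H9AlgSpJac

set_option autoImplicit false
set_option backward.isDefEq.respectTransparency.types false
universe u
open CategoryTheory CategoryTheory.Limits AlgebraicGeometry Topology TopologicalSpace
open AlgSp

namespace Groth.Agent.S10403

/-- For a decent Jacobson algebraic space X over a scheme S, the finite type points of |X| are exactly
the closed points. -/
theorem result {S : Scheme.{u}} (X : AlgSp.Space S) (hd : AlgSp.IsDecent X.obj)
    (hX : AlgSp.EtaleLocally (fun U => JacobsonSpace ↥U) X.obj) (x : AlgSp.Points X.obj) :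
    AlgSp.HasAt (fun U u => IsClosed ({u} : Set ↥U)) X.obj x ↔ IsClosed ({x} : Set (AlgSp.Points X.obj)) := by
  obtain ⟨U, a, hae, has, hJ⟩ := hX
  haveI : JacobsonSpace ↥U.left := hJ
  constructor
  · rintro ⟨V, b, v, hb, rfl, hv⟩
    exact Groth.Agent.ASp.isClosed_ofPt_of_isClosed hd a hae has b hb hv
  · intro hx
    obtain ⟨u, rfl⟩ := Groth.Agent.ASp.surjective_ofPt_of_repWith has x
    refine ⟨U, a, u, hae, rfl, ?_⟩
    refine closure_subset_iff_isClosed.1 fun w hw => ?_
    have hs : u ⤳ w := specializes_iff_mem_closure.2 hw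
    have h1 : AlgSp.Points.ofPt a w ∈ ({AlgSp.Points.ofPt a u} : Set (AlgSp.Points X.obj)) :=
      hx.closure_eq ▸ specializes_iff_mem_closure.1 (hs.map (AlgSp.Points.continuous_ofPt a))
    exact (Groth.Agent.ASp.eq_of_specializes_of_decentAt a hae (hd _) (h1 : AlgSp.Points.ofPt a w = AlgSp.Points.ofPt a u).symm hs).symm

end Groth.Agent.S10403
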