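import Groth.Statements.S10404
import Groth.Agent.Lib.H9AlgSpJac

set_option autoImplicit false
set_option backward.isDefEq.respectTransparency.types false
universe u
open CategoryTheory CategoryTheory.Limits AlgebraicGeometry Topology TopologicalSpace
open AlgSp

namespace Groth.Agent.S10404

/-- A decent algebraic space X over a scheme S is Jacobson if and only if the topological space |X| is
Jacobson. -/
theorem result {S : Scheme.{u}} (X : AlgSp.Space S) (hd : AlgSp.IsDecent X.obj) :
    AlgSp.EtaleLocally (fun U => JacobsonSpace ↥U) X.obj ↔ JacobsonSpace (AlgSp.Points X.obj) := by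
  constructor
  · rintro ⟨U, a, hae, has, hJ⟩
    haveI : JacobsonSpace ↥U.left := hJ
    exact Groth.Agent.ASp.jacobsonSpace_points hd a hae has
  · intro hJ
    obtain ⟨U, a, hae, has⟩ := X.property.atlas
    exact ⟨U, a, hae, has, Groth.Agent.ASp.jacobsonSpace_chart hd a hae⟩

end Groth.Agent.S10404
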