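import Groth.Statements.S10545
import Groth.Agent.Lib.AlgSpImmersion
import Groth.Agent.Lib.AlgSpFlatDesc

set_option autoImplicit false
set_option backward.isDefEq.respectTransparency.types false
universe u
open CategoryTheory CategoryTheory.Limits AlgebraicGeometry
open AlgSp

namespace Groth.Agent.S10545

/-- The property of morphisms of algebraic spaces over S given by f is finite locally free
(representable by finite, flat, locally finitely presented morphisms of schemes) is fpqc local on
the base: for an fpqc covering of an algebraic space Y by algebraic spaces Y_i, a morphism f : X ⟶ Y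
of algebraic spaces and cartesian squares X_i = Y_i ×_Y X, f has the property if and only if every
X_i ⟶ Y_i has it. -/
theorem result (S : Scheme.{u}) :
    AlgSp.IsLocalOnBase (AlgSp.IsFpqcCover (S := S)) AlgSp.IsFinLocFreeMor := by
  let FL : MorphismProperty Scheme.{u} := @Flat
  let LP : MorphismProperty Scheme.{u} := @LocallyOfFinitePresentation
  let FI : MorphismProperty Scheme.{u} := @IsFinite
  have heq : AlgSp.finLocFree.{u} = FI ⊓ (FL ⊓ LP) := rfl
  have hle : AlgSp.finLocFree.{u} ≤ @IsAffineHom := fun X₁ X₂ g hg =>
    have : IsFinite g := hg.1
    show IsAffineHom g from inferInstance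
  change AlgSp.IsLocalOnBase _ (AlgSp.RepWith AlgSp.finLocFree)
  rw [heq] at hle ⊢
  exact ASp.isLocalOnBase_repWith_affine (fun _ _ _ _ _ _ h => h.2) _ hle

end Groth.Agent.S10545
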