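import Groth.Statements.S10547
import Groth.Agent.Lib.AlgSpImmersion

set_option autoImplicit false
set_option backward.isDefEq.respectTransparency.types false
universe u
open CategoryTheory CategoryTheory.Limits AlgebraicGeometry
open AlgSp

namespace Groth.Agent.S10547

/-- The property of morphisms of algebraic spaces over S given by immersions (representable by
immersions of schemes) is fppf local on the base: for an fppf covering of an algebraic space Y by
algebraic spaces Y_i (each Y_i ⟶ Y flat and locally of finite presentation, jointly surjective on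
points), a morphism f : X ⟶ Y of algebraic spaces and cartesian squares X_i = Y_i ×_Y X, f is an
immersion if and only if every X_i ⟶ Y_i is. -/
theorem result (S : Scheme.{u}) :
    AlgSp.IsLocalOnBase (AlgSp.IsFppfCover (S := S)) (AlgSp.RepWith @IsImmersion) := by
  intro ι Y Yi g hY hYi hg X f hX Xi p q hXi sq
  refine ⟨fun h i => ASp.repWith_baseChange (sq i) h, fun h => ?_⟩
  choose U a hae has using fun i => (hYi i).atlas
  have hrep : ∀ i, AlgSp.Representable (a i ≫ g i) := fun i =>
    Functor.relativelyRepresentable.of_diag hY.diag _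
  have hFl : ∀ i, AlgSp.RepWith @Flat (a i ≫ g i) := fun i => ASp.repWith_of_locP hY (hrep i)
    (ASp.locP_comp (AlgSp.IsAlgSpace.yon_obj _) (hYi i) hY
      (ASp.locP_of_etale (ASp.locP_of_repWith (hYi i) (hae i))) (hg.1 i).1)
  have hLf : ∀ i, AlgSp.RepWith @LocallyOfFinitePresentation (a i ≫ g i) := fun i =>
    ASp.repWith_of_locP hY (hrep i)
    (ASp.locP_comp (AlgSp.IsAlgSpace.yon_obj _) (hYi i) hY
      (ASp.locP_of_etale (ASp.locP_of_repWith (hYi i) (hae i))) (hg.1 i).2)
  refine ASp.repWith_immersion_of_charts hX hY f (fun i => a i ≫ g i) hFl (fun i => ?_) (fun y => ?_)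
    (fun i => pullback.fst (p i) (a i) ≫ q i) (fun i => pullback.snd (p i) (a i))
    (fun i => (IsPullback.of_hasPullback (p i) (a i)).paste_horiz (sq i))
    (fun i => ASp.repWith_baseChange (IsPullback.of_hasPullback (p i) (a i)) (h i))
  · refine ASp.repWith_of_forall (hrep i) fun T V b fst snd sq' => ?_
    have : Flat snd.left := (hFl i).2 b fst snd sq'
    have : LocallyOfFinitePresentation snd.left := (hLf i).2 b fst snd sq'
    change UniversallyOpen snd.left
    infer_instance
  · obtain ⟨i, x, hx⟩ := hg.2 y
    obtain ⟨u, rfl⟩ := ASp.surjective_ofPt_of_repWith (has i) x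
    exact ⟨i, u, by rw [← hx, AlgSp.Points.map_ofPt]⟩

end Groth.Agent.S10547
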