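import Groth.Statements.S10551
import Groth.Agent.Lib.AlgSpLocP

set_option autoImplicit false
universe u
open CategoryTheory CategoryTheory.Limits AlgebraicGeometry
open AlgSp

namespace Groth.Agent.S10551

/-- The property of morphisms of algebraic spaces over S given by f is open (the induced map on spaces
of points is open) is fppf local on the source: for a morphism f : X ⟶ Y of algebraic spaces and a
fppf covering of X by algebraic spaces X_i, f has the property if and only if every composite X_i ⟶
X ⟶ Y has it. -/
theorem result (S : Scheme.{u}) :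
    AlgSp.IsLocalOnSource (AlgSp.IsFppfCover (S := S)) AlgSp.IsOpenMor := by
  intro ι X Xi g hX hXi hτ Y f _
  constructor
  · intro h i A hA
    have hg := Groth.Agent.ASp.isOpenMor_of_isUnivOpenMor hX
      (Groth.Agent.ASp.isUnivOpenMor_of_flat_lfp (hXi i) hX (hτ.1 i).1 (hτ.1 i).2)
    have : Points.map (g i ≫ f) '' A = Points.map f '' (Points.map (g i) '' A) := by
      rw [Set.image_image]; simp only [Points.map_comp]
    rw [this]
    exact h _ (hg A hA)
  · intro h A hA
    have : Points.map f '' A = ⋃ i, Points.map (g i ≫ f) '' (Points.map (g i) ⁻¹' A) := by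
      ext y
      simp only [Set.mem_iUnion, Set.mem_image, Set.mem_preimage, Points.map_comp]
      constructor
      · rintro ⟨x, hx, rfl⟩
        obtain ⟨i, z, rfl⟩ := hτ.2 x
        exact ⟨i, z, hx, rfl⟩
      · rintro ⟨i, z, hz, rfl⟩
        exact ⟨_, hz, rfl⟩
    rw [this]
    exact isOpen_iUnion fun i => h i _ (hA.preimage (Points.continuous_map _))

end Groth.Agent.S10551
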