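import Groth.Statements.S10552
import Groth.Agent.Lib.AlgSpLocP

set_option autoImplicit false
universe u
open CategoryTheory CategoryTheory.Limits AlgebraicGeometry
open AlgSp

namespace Groth.Agent.S10552

/-- The property of morphisms of algebraic spaces over S given by f is universally open (every base
change along a morphism from an algebraic space is open on points) is fppf local on the source: for
a morphism f : X ⟶ Y of algebraic spaces and a fppf covering of X by algebraic spaces X_i, f has the
property if and only if every composite X_i ⟶ X ⟶ Y has it. -/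
theorem result (S : Scheme.{u}) :
    AlgSp.IsLocalOnSource (AlgSp.IsFppfCover (S := S)) AlgSp.IsUnivOpenMor := by
  intro ι X Xi g hX hXi hτ Y f hY
  have hg : ∀ i, IsUnivOpenMor (g i) := fun i =>
    Groth.Agent.ASp.isUnivOpenMor_of_flat_lfp (hXi i) hX (hτ.1 i).1 (hτ.1 i).2
  constructor
  · intro h i Z Z' hZ b fst snd sq A hA
    have sqf := IsPullback.of_hasPullback f b
    let m := sqf.lift (fst ≫ g i) snd (by rw [Category.assoc]; exact sq.w)
    have hm : IsPullback m fst (pullback.fst f b) (g i) :=
      (IsPullback.of_bot (v₂₁ := pullback.snd f b) (v₂₂ := f) (h₃₁ := b)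
        (by rw [sqf.lift_snd]; exact sq.flip.flip) (sqf.lift_fst _ _ _).symm sqf).flip
    have h1 := (hg i) (Groth.Agent.ASp.isAlgSpace_pullback f b hX hZ hY) (pullback.fst f b) fst m hm.flip A hA
    have h2 := h hZ b (pullback.fst f b) (pullback.snd f b) sqf _ h1
    have e : Points.map snd = Points.map (pullback.snd f b) ∘ Points.map m := funext fun z => by
      simp only [Function.comp, ← Points.map_comp, sqf.lift_snd, m]
    rw [e, Set.image_comp]
    exact h2
  · intro h Z Z' hZ b fst snd sq A hA
    have : Points.map snd '' A = ⋃ i,
        Points.map (pullback.snd (g i) fst ≫ snd) '' (Points.map (pullback.snd (g i) fst) ⁻¹' A) := by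
      ext y
      simp only [Set.mem_iUnion, Set.mem_image, Set.mem_preimage, Points.map_comp]
      constructor
      · rintro ⟨x, hx, rfl⟩
        obtain ⟨i, z, hz⟩ := hτ.2 (Points.map fst x)
        obtain ⟨r, -, hr⟩ := Groth.Agent.ASp.exists_of_isPullback
          (IsPullback.of_hasPullback (g i) fst) z x hz
        exact ⟨i, r, by rw [hr]; exact hx, by rw [hr]⟩
      · rintro ⟨i, z, hz, rfl⟩
        exact ⟨_, hz, rfl⟩
    rw [this]
    exact isOpen_iUnion fun i => h i hZ b (pullback.fst (g i) fst) (pullback.snd (g i) fst ≫ snd)
      ((IsPullback.of_hasPullback (g i) fst).paste_vert sq) _ (hA.preimage (Points.continuous_map _))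

end Groth.Agent.S10552
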