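import Groth.Statements.S10560
import Groth.Agent.Lib.H3SourceFppf

set_option autoImplicit false
universe u
open CategoryTheory CategoryTheory.Limits AlgebraicGeometry
open AlgSp

namespace Groth.Agent.S10560

/-- Let f : X ⟶ Y and q : Y ⟶ B be morphisms of algebraic spaces over S with f surjective, flat and
locally of finite presentation. If f ≫ q is smooth then q is smooth; if f ≫ q is etale then q is
etale. -/
theorem result {S : Scheme.{u}} {X Y B : AlgSp.Space S} (f : X ⟶ Y) (q : Y ⟶ B)
    (hs : AlgSp.IsSurjectiveMor f.hom) (hfl : AlgSp.LocP @Flat f.hom)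
    (hfp : AlgSp.LocP @LocallyOfFinitePresentation f.hom) :
    (AlgSp.LocP @Smooth (f ≫ q).hom → AlgSp.LocP @Smooth q.hom) ∧
    (AlgSp.IsEtaleMor (f ≫ q).hom → AlgSp.IsEtaleMor q.hom) := by
  have hcov : ∀ y : AlgSp.Points Y.obj, ∃ _ : PUnit.{u + 1}, y ∈ Set.range (AlgSp.Points.map f.hom) :=
    fun y => ⟨⟨⟩, hs y⟩
  refine ⟨fun h => H3SourceFppf.locP_source (ι := PUnit.{u + 1}) (fun d q _ _ _ hd => @Groth.Agent.S0115.result _ _ _ d q _ _ _ hd)
    Y.property (fun _ => X.property) (fun _ => hfl) (fun _ => hfp) hcov (fun _ => h), fun h => ?_⟩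
  rw [ASp.isEtaleMor_iff_locP Y.property B.property]
  exact H3SourceFppf.locP_source (ι := PUnit.{u + 1}) (fun d q _ _ _ hd => @H3SourceFppf.etale_descend _ _ _ d q _ _ _ hd)
    Y.property (fun _ => X.property) (fun _ => hfl) (fun _ => hfp) hcov
    (fun _ => (ASp.isEtaleMor_iff_locP X.property B.property).mp h)

end Groth.Agent.S10560
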