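import Groth.Statements.S10559
import Groth.Agent.S10560

set_option autoImplicit false
universe u
open CategoryTheory CategoryTheory.Limits AlgebraicGeometry
open AlgSp

namespace Groth.Agent.S10559

/-- Let f : X ⟶ Y and q : Y ⟶ B be morphisms of algebraic spaces over S. If f is surjective and smooth
and f ≫ q is smooth, then q is smooth; if f is surjective and etale and f ≫ q is etale, then q is
etale. (The syntomic case of the published statement is not included.) -/
theorem result {S : Scheme.{u}} {X Y B : AlgSp.Space S} (f : X ⟶ Y) (q : Y ⟶ B)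
    (hs : AlgSp.IsSurjectiveMor f.hom) :
    (AlgSp.LocP @Smooth f.hom → AlgSp.LocP @Smooth (f ≫ q).hom → AlgSp.LocP @Smooth q.hom) ∧
    (AlgSp.IsEtaleMor f.hom → AlgSp.IsEtaleMor (f ≫ q).hom → AlgSp.IsEtaleMor q.hom) := by
  have key := Agent.S10560.result f q hs
  refine ⟨fun hf h => (key (Agent.ASp.locP_mono (fun _ _ g (hg : Smooth g) => (inferInstance : Flat g)) hf)
      (Agent.ASp.locP_mono (fun _ _ g (hg : Smooth g) => (inferInstance : LocallyOfFinitePresentation g)) hf)).1 h, fun hf h => ?_⟩
  have hf' := (Agent.ASp.isEtaleMor_iff_locP X.property Y.property).mp hf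
  exact (key (Agent.ASp.locP_mono (fun _ _ g (hg : Etale g) => (inferInstance : Flat g)) hf')
      (Agent.ASp.locP_mono (fun _ _ g (hg : Etale g) => (inferInstance : LocallyOfFinitePresentation g)) hf')).2 h

end Groth.Agent.S10559
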