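import Groth.Statements.S10563
import Groth.Agent.Lib.H3SourceFppf
import Groth.Agent.Lib.RegularLocalSerre
import Groth.Agent.S0116

set_option autoImplicit false
universe u
open CategoryTheory CategoryTheory.Limits AlgebraicGeometry
open AlgSp

namespace Groth.Agent.S10563

open IsLocalRing in
theorem regular_of_etale_local {R A : Type u} [CommRing R] [CommRing A] [IsRegularLocalRing R] [IsLocalRing A]
    [IsNoetherianRing A] [Algebra R A] [IsLocalHom (algebraMap R A)] [Module.Flat R A]
    (h : (maximalIdeal R).map (algebraMap R A) = maximalIdeal A) : IsRegularLocalRing A := by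
  haveI : (maximalIdeal A).LiesOver (maximalIdeal R) :=
    ⟨(((local_hom_TFAE (algebraMap R A)).out 0 4 rfl rfl).mp inferInstance).symm⟩
  refine IsRegularLocalRing.of_spanFinrank_maximalIdeal_le A ?_
  have h1 := Ideal.height_eq_height_add_of_liesOver_of_hasGoingDown (maximalIdeal R) (maximalIdeal A)
  have h2 : ringKrullDim R ≤ ringKrullDim A := by
    rw [← maximalIdeal_height_eq_ringKrullDim, ← maximalIdeal_height_eq_ringKrullDim, WithBot.coe_le_coe, h1]
    exact le_self_add
  have h3 : (maximalIdeal A).spanFinrank ≤ (maximalIdeal R).spanFinrank := by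
    rw [← h]
    exact Ideal.spanFinrank_map_le_of_fg _ (IsNoetherian.noetherian _)
  calc ((maximalIdeal A).spanFinrank : WithBot ℕ∞) ≤ (maximalIdeal R).spanFinrank := by exact_mod_cast h3
    _ = ringKrullDim R := (isRegularLocalRing_iff _).mp inferInstance
    _ ≤ ringKrullDim A := h2

open IsLocalRing in
theorem regular_of_etale {W U : Scheme.{u}} (e : W ⟶ U) [Etale e] [IsLocallyNoetherian U]
    (hU : ∀ u : ↥U, IsRegularLocalRing ↥(U.presheaf.stalk u)) (w : ↥W) : IsRegularLocalRing ↥(W.presheaf.stalk w) := by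
  haveI : IsLocallyNoetherian W := LocallyOfFiniteType.isLocallyNoetherian e
  haveI := hU (e w)
  have hu := FormallyUnramified.stalkMap e w
  have hess := LocallyOfFiniteType.stalkMap e w
  algebraize [(e.stalkMap w).hom]
  haveI : IsLocalHom (algebraMap (U.presheaf.stalk (e w)) (W.presheaf.stalk w)) := e.toLRSHom.prop w
  haveI : Module.Flat (U.presheaf.stalk (e w)) (W.presheaf.stalk w) := Flat.stalkMap e w
  haveI : Algebra.EssFiniteType (U.presheaf.stalk (e w)) (W.presheaf.stalk w) := RingHom.essFiniteType_algebraMap.mp hess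
  haveI : Algebra.FormallyUnramified (U.presheaf.stalk (e w)) (W.presheaf.stalk w) := RingHom.formallyUnramified_algebraMap.mp hu
  exact regular_of_etale_local (R := U.presheaf.stalk (e w)) (A := W.presheaf.stalk w) Algebra.FormallyUnramified.map_maximalIdeal

/-- Let f : X ⟶ Y be a morphism of algebraic spaces over S which is locally of finite presentation, flat
and surjective. If X is regular (etale locally a locally Noetherian scheme all of whose local rings
are regular local rings) then Y is regular. -/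
theorem result {S : Scheme.{u}} {X Y : AlgSp.Space S} (f : X ⟶ Y)
    (hfp : AlgSp.LocP @LocallyOfFinitePresentation f.hom) (hfl : AlgSp.LocP @Flat f.hom)
    (hs : AlgSp.IsSurjectiveMor f.hom)
    (hX : AlgSp.EtaleLocally (fun U => IsLocallyNoetherian U ∧ ∀ u : ↥U, IsRegularLocalRing ↥(U.presheaf.stalk u)) X.obj) :
    AlgSp.EtaleLocally (fun U => IsLocallyNoetherian U ∧ ∀ u : ↥U, IsRegularLocalRing ↥(U.presheaf.stalk u)) Y.obj := by
  obtain ⟨U, p, hpe, hps, hUn, hUr⟩ := hX
  haveI := hUn
  obtain ⟨V, b, hbe, hbs⟩ := Y.property.atlas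
  have sq := IsPullback.of_hasPullback (p ≫ f.hom) b
  have hP := ASp.isAlgSpace_pullback (p ≫ f.hom) b (AlgSp.IsAlgSpace.yon_obj U) (AlgSp.IsAlgSpace.yon_obj V) Y.property
  obtain ⟨W, c, hce, hcs⟩ := hP.atlas
  obtain ⟨e₁, he₁⟩ := (AlgSp.yon S).map_surjective (c ≫ pullback.fst (p ≫ f.hom) b)
  obtain ⟨e₂, he₂⟩ := (AlgSp.yon S).map_surjective (c ≫ pullback.snd (p ≫ f.hom) b)
  have hpf : ∀ (P : MorphismProperty Scheme.{u}) [ASp.EtaleLocal P] [IsZariskiLocalAtSource P],
      AlgSp.LocP P f.hom → AlgSp.LocP P (p ≫ f.hom) := fun P _ _ h =>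
    ASp.locP_comp (AlgSp.IsAlgSpace.yon_obj U) X.property Y.property
      (ASp.locP_of_etale (ASp.locP_of_repWith X.property hpe)) h
  haveI : Etale e₁.left := ASp.locP_baseChange (AlgSp.IsAlgSpace.yon_obj V) Y.property (AlgSp.IsAlgSpace.yon_obj U)
    sq.flip (ASp.locP_of_repWith Y.property hbe) c (𝟙 _) e₁ hce (AlgSp.repWith_id _ U)
    (by rw [he₁, Category.comp_id])
  haveI : Flat e₂.left := ASp.locP_baseChange (AlgSp.IsAlgSpace.yon_obj U) Y.property (AlgSp.IsAlgSpace.yon_obj V)
    sq (hpf _ hfl) c (𝟙 _) e₂ hce (AlgSp.repWith_id _ V) (by rw [he₂, Category.comp_id])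
  haveI : LocallyOfFinitePresentation e₂.left := ASp.locP_baseChange (AlgSp.IsAlgSpace.yon_obj U) Y.property (AlgSp.IsAlgSpace.yon_obj V)
    sq (hpf _ hfp) c (𝟙 _) e₂ hce (AlgSp.repWith_id _ V) (by rw [he₂, Category.comp_id])
  haveI : Surjective e₂.left := ⟨fun v => by
    obtain ⟨x, hx⟩ := hs (AlgSp.Points.map b (AlgSp.Points.schemeHomeo V v))
    obtain ⟨z, rfl⟩ := ASp.surjective_map_of_repWith hps x
    obtain ⟨q, -, hq⟩ := ASp.exists_of_isPullback sq z (AlgSp.Points.schemeHomeo V v)
      (by rw [AlgSp.Points.map_comp]; exact hx)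
    obtain ⟨w, rfl⟩ := ASp.surjective_ofPt_of_repWith hcs q
    refine ⟨w, (AlgSp.Points.schemeHomeo V).injective ?_⟩
    rw [← hq, ← AlgSp.Points.map_yon_map_apply, he₂, AlgSp.Points.map_comp]
    congr 1⟩
  have hW := regular_of_etale e₁.left hUr
  haveI : IsLocallyNoetherian W.left := LocallyOfFiniteType.isLocallyNoetherian e₁.left
  haveI : IsLocallyNoetherian V.left := Groth.Agent.S0116.result e₂.left
  refine ⟨V, b, hbe, hbs, inferInstance, fun v => ?_⟩
  obtain ⟨w, rfl⟩ := e₂.left.surjective v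
  haveI := hW w
  algebraize [(e₂.left.stalkMap w).hom]
  haveI : Module.Flat (V.left.presheaf.stalk (e₂.left w)) (W.left.presheaf.stalk w) := Flat.stalkMap e₂.left w
  haveI : IsLocalHom (algebraMap (V.left.presheaf.stalk (e₂.left w)) (W.left.presheaf.stalk w)) := e₂.left.toLRSHom.prop w
  exact RegLocal.regular_of_flat (S := W.left.presheaf.stalk w)

end Groth.Agent.S10563
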