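import Groth.Statements.S10580
import Groth.Agent.Lib.H3SourceFppf

set_option autoImplicit false
universe u
open CategoryTheory CategoryTheory.Limits AlgebraicGeometry
open AlgSp

namespace Groth.Agent.S10580


section Helpers
open CategoryTheory CategoryTheory.Limits AlgebraicGeometry AlgSp

variable {S : Scheme.{u}} {P Q : MorphismProperty Scheme.{u}} {K : Precoverage Scheme.{u}}

theorem comp_of_pair [P.IsLocalAtSource K]
    (hpair : ∀ {A B : Scheme.{u}} (e : A ⟶ B), Q e →
      ∃ R : Presieve B, R ∈ K B ∧ R e)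
    {A B C : Scheme.{u}} (e : A ⟶ B) (g : B ⟶ C) (he : Q e) (hg : P g) : P (e ≫ g) := by
  obtain ⟨R, hR, hRe⟩ := hpair e he
  exact MorphismProperty.IsLocalAtSource.comp hR e hRe hg

theorem locP_comp_left [P.IsLocalAtSource K]
    (hcomp : ∀ {A B C : Scheme.{u}} (e : A ⟶ B) (g : B ⟶ C), Q e → P g → P (e ≫ g))
    (het : ∀ {A B : Scheme.{u}} (t : A ⟶ B), Etale t → Surjective t → Presieve.singleton t ∈ K B)
    {Z X Y : Sp S} (hX : IsAlgSpace X) (hY : IsAlgSpace Y) {g : Z ⟶ X} {f : X ⟶ Y}
    (hg : LocP Q g) (hf : LocP P f) : LocP P (g ≫ f) := by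
  intro W V c b α hc hb hcb
  rw [← Category.assoc] at hcb
  let p := pullback.lift (c ≫ g) ((yon S).map α) hcb
  have hP := ASp.isAlgSpace_pullback f b hX (IsAlgSpace.yon_obj V) hY
  obtain ⟨U, a, hae, has⟩ := hP.atlas
  obtain ⟨W', fst, snd, sq, hsnd⟩ := ASp.exists_sq_prop hae p
  have hsnd' : Surjective snd.left := has.2 p fst snd sq
  obtain ⟨e, he⟩ := (yon S).map_surjective fst
  obtain ⟨β, hβ⟩ := (yon S).map_surjective (a ≫ pullback.snd f b)
  have hsq := IsPullback.of_hasPullback f b
  have hQ : Q e.left := by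
    refine hg ((yon S).map snd ≫ c) (a ≫ pullback.fst f b) e
      (ASp.repWith_comp ((repWith_yon_map_iff @Etale snd).mpr hsnd) hc) (ASp.repWith_comp hae (ASp.repWith_baseChange hsq.flip hb)) ?_
    rw [he, ← Category.assoc fst, sq.w, Category.assoc, Category.assoc, pullback.lift_fst]
  have hPb : P β.left := by
    refine hf (a ≫ pullback.fst f b) b β (ASp.repWith_comp hae (ASp.repWith_baseChange hsq.flip hb)) hb ?_
    rw [hβ, Category.assoc, Category.assoc, pullback.condition]
  have heq : e ≫ β = snd ≫ α := by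
    apply (yon S).map_injective
    rw [Functor.map_comp, Functor.map_comp, he, hβ, ← Category.assoc, sq.w, Category.assoc, pullback.lift_snd]
  have h1 := hcomp e.left β.left hQ hPb
  rw [← Over.comp_left, heq, Over.comp_left] at h1
  refine MorphismProperty.IsLocalAtSource.of_forall_comp (het snd.left hsnd hsnd') ?_
  rintro _ _ ⟨⟩
  exact h1

theorem locP_source [P.IsLocalAtSource K] {ι : Type u} {X Y : Sp S} {Xi : ι → Sp S} {g : ∀ i, Xi i ⟶ X} {f : X ⟶ Y}
    (hX : IsAlgSpace X) (hXi : ∀ i, IsAlgSpace (Xi i))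
    (hmem : ∀ (U : Over S) (a : (yon S).obj U ⟶ X), RepWith @Etale a → ∀ (W : ι → Over S)
      (c : ∀ i, (yon S).obj (W i) ⟶ pullback a (g i)), (∀ i, RepWith @Etale (c i)) → (∀ i, RepWith @Surjective (c i)) →
      ∀ (e : ∀ i, W i ⟶ U), (∀ i, (yon S).map (e i) = c i ≫ pullback.fst a (g i)) →
      Presieve.ofArrows (fun i => (W i).left) (fun i => (e i).left) ∈ K U.left)
    (h : ∀ i, LocP P (g i ≫ f)) : LocP P f := by
  intro U V a b α ha hb hab
  have hP := fun i => ASp.isAlgSpace_pullback a (g i) (IsAlgSpace.yon_obj U) (hXi i) hX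
  choose W c hce hcs using fun i => (hP i).atlas
  choose e he using fun i => (yon S).map_surjective (c i ≫ pullback.fst a (g i))
  refine MorphismProperty.IsLocalAtSource.of_forall_comp (hmem U a ha W c hce hcs e he) ?_
  rintro _ _ ⟨i⟩
  refine h i (c i ≫ pullback.snd a (g i)) b (e i ≫ α)
    (ASp.repWith_comp (hce i) (ASp.repWith_baseChange (IsPullback.of_hasPullback a (g i)) ha)) hb ?_
  rw [Functor.map_comp, he, Category.assoc, Category.assoc, Category.assoc, ← hab,
    pullback.condition_assoc]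

theorem surj_family {ι : Type u} {X : Sp S} {Xi : ι → Sp S} {g : ∀ i, Xi i ⟶ X}
    (hcov : ∀ x : Points X, ∃ i, x ∈ Set.range (Points.map (g i))) {U : Over S} (a : (yon S).obj U ⟶ X)
    {W : ι → Over S} (c : ∀ i, (yon S).obj (W i) ⟶ pullback a (g i)) (hcs : ∀ i, RepWith @Surjective (c i))
    (e : ∀ i, W i ⟶ U) (he : ∀ i, (yon S).map (e i) = c i ≫ pullback.fst a (g i)) (u : ↥U.left) :
    ∃ i, u ∈ Set.range (e i).left := by
  obtain ⟨i, y₀, hy₀⟩ := hcov (Points.map a (Points.schemeHomeo U u))
  obtain ⟨y, hy, -⟩ := ASp.exists_of_isPullback (IsPullback.of_hasPullback a (g i)) (Points.schemeHomeo U u) y₀ hy₀.symm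
  obtain ⟨w, rfl⟩ := ASp.surjective_ofPt_of_repWith (hcs i) y
  refine ⟨i, w, (Points.schemeHomeo U).injective ?_⟩
  rw [← hy, ← Points.map_yon_map_apply, he, Points.map_comp]
  congr 1

theorem family_prop {ι : Type u} {X : Sp S} {Xi : ι → Sp S} {g : ∀ i, Xi i ⟶ X} (hX : IsAlgSpace X)
    (hXi : ∀ i, IsAlgSpace (Xi i)) {R : MorphismProperty Scheme.{u}} (hg : ∀ i, LocP R (g i))
    {U : Over S} (a : (yon S).obj U ⟶ X) (ha : RepWith @Etale a)
    {W : ι → Over S} (c : ∀ i, (yon S).obj (W i) ⟶ pullback a (g i)) (hce : ∀ i, RepWith @Etale (c i))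
    (e : ∀ i, W i ⟶ U) (he : ∀ i, (yon S).map (e i) = c i ≫ pullback.fst a (g i)) (i : ι) : R (e i).left :=
  hg i (c i ≫ pullback.snd a (g i)) a (e i)
    (ASp.repWith_comp (hce i) (ASp.repWith_baseChange (IsPullback.of_hasPullback a (g i)) ha)) ha
    (by rw [he, Category.assoc, Category.assoc, pullback.condition])

theorem pair_mem {R : MorphismProperty Scheme.{u}} (hid : ∀ B : Scheme.{u}, R (𝟙 B))
    {A B : Scheme.{u}} (e : A ⟶ B) (he : R e) :
    ∃ T : Presieve B, T ∈ Scheme.precoverage R B ∧ T e := by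
  let X : Option PUnit.{u + 1} → Scheme.{u} := fun o => o.elim B (fun _ => A)
  let f : ∀ o, X o ⟶ B := fun o => match o with
    | none => 𝟙 B
    | some _ => e
  refine ⟨Presieve.ofArrows X f, ?_, Presieve.ofArrows.mk (some ⟨⟩)⟩
  rw [Scheme.ofArrows_mem_precoverage_iff]
  exact ⟨fun x => ⟨none, x, rfl⟩, fun o => match o with
    | none => hid B
    | some _ => he⟩

theorem local_source [P.IsLocalAtSource (Scheme.precoverage Q)] (hid : ∀ B : Scheme.{u}, Q (𝟙 B))
    (het : ∀ {A B : Scheme.{u}} (t : A ⟶ B), Etale t → Q t)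
    {ι : Type u} {X Y : Sp S} {Xi : ι → Sp S} {g : ∀ i, Xi i ⟶ X} {f : X ⟶ Y}
    (hX : IsAlgSpace X) (hY : IsAlgSpace Y) (hXi : ∀ i, IsAlgSpace (Xi i)) (hg : ∀ i, LocP Q (g i))
    (hcov : ∀ x : Points X, ∃ i, x ∈ Set.range (Points.map (g i))) :
    LocP P f ↔ ∀ i, LocP P (g i ≫ f) := by
  refine ⟨fun h i => locP_comp_left (K := Scheme.precoverage Q) (comp_of_pair (K := Scheme.precoverage Q) (pair_mem hid)) ?_ hX hY (hg i) h,
    fun h => locP_source (K := Scheme.precoverage Q) hX hXi ?_ h⟩
  · intro A B t h1 h2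
    rw [Scheme.singleton_mem_precoverage_iff]
    exact ⟨t.surjective, het t h1⟩
  · intro U a ha W c hce hcs e he
    rw [Scheme.ofArrows_mem_precoverage_iff]
    exact ⟨surj_family hcov a c hcs e he, family_prop hX hXi hg a ha c hce e he⟩

theorem qc_pair {A B : Scheme.{u}} (e : A ⟶ B) (he : Flat e) :
    ∃ T : Presieve B, T ∈ Scheme.fpqcPrecoverage B ∧ T e := by
  let X : Option PUnit.{u + 1} → Scheme.{u} := fun o => o.elim B (fun _ => A)
  let f : ∀ o, X o ⟶ B := fun o => match o with
    | none => 𝟙 B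
    | some _ => e
  refine ⟨Presieve.ofArrows X f, ⟨?_, ?_⟩, Presieve.ofArrows.mk (some ⟨⟩)⟩
  · refine (Scheme.presieve₀_mem_qcPrecoverage_iff (E := PreZeroHypercover.mk _ X f)).mpr ⟨fun {O} hO => ?_⟩
    exact IsCompactOpenCovered.of_finite (κ := PUnit.{1}) (fun _ => none) (fun _ => O) (fun _ => hO.isCompact) (by
      rw [Set.iUnion_const]
      exact Set.image_id _)
  · rw [Scheme.ofArrows_mem_precoverage_iff]
    exact ⟨fun x => ⟨none, x, rfl⟩, fun o => match o with
      | none => (inferInstance : Flat (𝟙 B))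
      | some _ => he⟩

theorem local_source_fpqc [P.IsLocalAtSource Scheme.fpqcPrecoverage]
    {ι : Type u} {X Y : Sp S} {Xi : ι → Sp S} {g : ∀ i, Xi i ⟶ X} {f : X ⟶ Y}
    (hX : IsAlgSpace X) (hY : IsAlgSpace Y) (hXi : ∀ i, IsAlgSpace (Xi i)) (hg : IsFpqcCover Xi g) :
    LocP P f ↔ ∀ i, LocP P (g i ≫ f) := by
  refine ⟨fun h i => locP_comp_left (K := Scheme.fpqcPrecoverage) (comp_of_pair (K := Scheme.fpqcPrecoverage) qc_pair) ?_ hX hY (hg.1 i) h,
    fun h => locP_source (K := Scheme.fpqcPrecoverage) hX hXi ?_ h⟩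
  · intro A B t h1 h2
    apply Scheme.fppfPrecoverage_le_fpqcPrecoverage
    show _ ∈ Scheme.precoverage _ B
    rw [Scheme.singleton_mem_precoverage_iff]
    exact ⟨t.surjective, inferInstance, inferInstance⟩
  · intro U a ha W c hce hcs e he
    have hgU : ASp.Refines (fun i => pullback a (g i)) (fun i => pullback.fst a (g i)) :=
      ASp.Refines.baseChange hg.2 a _ (fun i => pullback.snd a (g i)) fun i => IsPullback.of_hasPullback a (g i)
    have hsurj := surj_family (g := g) (fun x => by
      obtain ⟨i, y, hy⟩ := ASp.Refines.exists_pt (Y := Xi) (g := g) hg.2 x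
      exact ⟨i, y, hy⟩) a c hcs e he
    refine ⟨?_, ?_⟩
    · refine (Scheme.presieve₀_mem_qcPrecoverage_iff (E := PreZeroHypercover.mk _ (fun i => (W i).left) (fun i => (e i).left))).mpr ⟨fun {O} hO => ?_⟩
      obtain ⟨m, Z, d, hZ, -, hdcov, hl⟩ := hgU (Over.mk (O.ι ≫ U.hom)) hO ((yon S).map (Over.homMk O.ι rfl))
      choose idx l hl using hl
      choose T fst t sq ht using fun j => ASp.exists_sq_prop (hce (idx j)) (l j)
      have hts : ∀ j, Surjective (t j).left := fun j => (hcs (idx j)).2 (l j) (fst j) (t j) (sq j)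
      choose φ hφ using fun j => (yon S).map_surjective (fst j)
      have hfac : ∀ j, φ j ≫ e (idx j) = t j ≫ d j ≫ Over.homMk O.ι rfl := by
        intro j
        apply (yon S).map_injective
        rw [Functor.map_comp, hφ, he, ← Category.assoc, (sq j).w, Category.assoc, hl, Functor.map_comp, Functor.map_comp]
      refine IsCompactOpenCovered.of_comp (σ := Fin m) (a := idx) (fun j => ⇑((φ j ≫ e (idx j)).left))
        (fun j => ⇑(φ j).left) (fun j => (φ j).left.continuous) (fun j => by rw [Over.comp_left]; exact funext fun x => Scheme.Hom.comp_apply _ _ x)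
        (fun i => (e i).left.continuous) O.2 ?_
      have hV : ∀ j, ∃ V : (T j).left.Opens, IsCompact (V : Set (T j).left) ∧ (t j).left '' V = Set.univ := by
        intro j
        haveI := hZ j
        haveI := ht j
        haveI := hts j
        obtain ⟨V, hV1, hV2⟩ := (t j).left.isOpenMap.exists_opens_image_eq_of_prespectralSpace (t j).left.continuous
          (show (Set.univ : Set (Z j).left) ⊆ Set.range (t j).left from fun x _ => (t j).left.surjective x) isOpen_univ isCompact_univ
        exact ⟨V, hV1, hV2⟩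
      choose V hV1 hV2 using hV
      refine IsCompactOpenCovered.of_finite (κ := Fin m) id V hV1 ?_
      have hcomp : ∀ j, ⇑((φ j ≫ e (idx j)).left) = ⇑O.ι ∘ ⇑(d j).left ∘ ⇑(t j).left := by
        intro j
        rw [hfac]
        funext x
        rfl
      simp only [id, hcomp, Set.image_comp, hV2, Set.image_univ]
      ext x
      simp only [Set.mem_iUnion, Set.mem_image, Set.mem_range]
      constructor
      · rintro ⟨j, _, ⟨z, rfl⟩, rfl⟩
        exact ((d j).left z).2
      · intro hx
        obtain ⟨j, z, hz⟩ := hdcov ⟨x, hx⟩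
        exact ⟨j, _, ⟨z, rfl⟩, by rw [hz]; rfl⟩
    · rw [Scheme.ofArrows_mem_precoverage_iff]
      exact ⟨hsurj, family_prop hX hXi hg.1 a ha c hce e he⟩

end Helpers

/-- Let P be a property of morphisms of schemes and P_spaces the induced property of morphisms of
algebraic spaces over S (P on every etale chart diagram). For τ one of fpqc, fppf, smooth, etale: if
P is τ local on the source for morphisms of schemes, then P_spaces is τ local on the source for
morphisms of algebraic spaces. (The published statement assumes P etale local on the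
source-and-target, which is what makes the chart-wise property the right notion; the implication
itself holds for every P and is stated that way. The syntomic case is not included. τ-locality on
the source for schemes is taken in the form that includes invariance of P under isomorphisms, which
the published definition requires implicitly.) -/
theorem result (S : Scheme.{u}) (P : MorphismProperty Scheme.{u}) :
    (P.IsLocalAtSource Scheme.fpqcPrecoverage → AlgSp.IsLocalOnSource (AlgSp.IsFpqcCover (S := S)) (AlgSp.LocP P)) ∧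
    (P.IsLocalAtSource Scheme.fppfPrecoverage → AlgSp.IsLocalOnSource (AlgSp.IsFppfCover (S := S)) (AlgSp.LocP P)) ∧
    (P.IsLocalAtSource (Scheme.precoverage @Smooth) → AlgSp.IsLocalOnSource (AlgSp.IsSmCover (S := S)) (AlgSp.LocP P)) ∧
    (P.IsLocalAtSource Scheme.etalePrecoverage → AlgSp.IsLocalOnSource (AlgSp.IsEtCover (S := S)) (AlgSp.LocP P)) := by
  refine ⟨fun hP => ?_, fun hP => ?_, fun hP => ?_, fun hP => ?_⟩
  · intro ι X Xi g hX hXi hg Y f hY
    haveI := hP
    exact local_source_fpqc hX hY hXi hg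
  · intro ι X Xi g hX hXi hg Y f hY
    haveI : P.IsLocalAtSource (Scheme.precoverage (@Flat ⊓ @LocallyOfFinitePresentation)) := hP
    exact local_source (Q := @Flat ⊓ @LocallyOfFinitePresentation) (fun B => ⟨inferInstance, inferInstance⟩)
      (fun t _ => ⟨inferInstance, inferInstance⟩) hX hY hXi
      (fun i U V a b α ha hb hab => ⟨(hg.1 i).1 a b α ha hb hab, (hg.1 i).2 a b α ha hb hab⟩) hg.2
  · intro ι X Xi g hX hXi hg Y f hY
    haveI := hP
    exact local_source (Q := @Smooth) (fun B => inferInstance) (fun t _ => inferInstance) hX hY hXi hg.1 hg.2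
  · intro ι X Xi g hX hXi hg Y f hY
    haveI : P.IsLocalAtSource (Scheme.precoverage @Etale) := hP
    exact local_source (Q := @Etale) (fun B => inferInstance) (fun t h => h) hX hY hXi
      (fun i => (Agent.ASp.isEtaleMor_iff_locP (hXi i) hX).mp (hg.1 i)) hg.2

end Groth.Agent.S10580
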