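import Groth.Statements.S10605
import Groth.Agent.Lib.AlgSpImmersion

set_option autoImplicit false
set_option backward.isDefEq.respectTransparency.types false
universe u
open CategoryTheory CategoryTheory.Limits AlgebraicGeometry
open AlgSp

namespace Groth.Agent.S10605

/-- The property of a morphism of algebraic spaces over S of being a thickening (representable, every
base change to a scheme a surjective closed immersion) is local on the base for the fpqc topology.
(The published statement also claims the same for first order thickenings; this row states only the
thickening clause.) -/
theorem result {S : Scheme.{u}} :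
    AlgSp.IsLocalOnBase (S := S) AlgSp.IsFpqcCover
      AlgSp.IsThickMor := by
  let A : MorphismProperty Scheme.{u} := @IsClosedImmersion
  let B : MorphismProperty Scheme.{u} := @Surjective
  have hB : B.DescendsAlong (@Surjective ⊓ @Flat ⊓ @QuasiCompact) := inferInstance
  have heq : AlgSp.thick.{u} = A ⊓ B := rfl
  change AlgSp.IsLocalOnBase _ (AlgSp.RepWith AlgSp.thick)
  rw [heq]
  exact ASp.isLocalOnBase_repWith_affine (fun _ _ _ _ _ _ h => h.2) _
    fun X₁ X₂ g hg => (have : IsClosedImmersion g := hg.1; show IsAffineHom g from inferInstance)

end Groth.Agent.S10605
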