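import Groth.Statements.S10616
import Groth.Agent.Lib.AlgSpFormal
import Groth.Agent.Lib.H8SmoothLift
import Mathlib

set_option autoImplicit false
universe u
open CategoryTheory CategoryTheory.Limits AlgebraicGeometry
open AlgSp

namespace Groth.Agent.S10616

/-- Let a : F ⟶ G be a morphism of fppf sheaves on (Sch/S). If a is representable and smooth, then a is
formally smooth; if a is representable and etale, then a is formally etale; if a is representable
and unramified, then a is formally unramified (lifting conditions against square-zero thickenings of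
affine schemes). (The published statement is for transformations of arbitrary presheaves of sets on
(Sch/S)_fppf; this row takes fppf sheaves, the case of algebraic spaces.) -/
theorem result {S : Scheme.{u}} {F G : AlgSp.Sp S} (a : F ⟶ G) :
    (AlgSp.RepWith @Smooth a → AlgSp.IsFormallySmoothMor a) ∧
    (AlgSp.RepWith @Etale a → AlgSp.IsFormallyEtaleMor a) ∧
    (AlgSp.RepWith (@LocallyOfFiniteType ⊓ @FormallyUnramified) a → AlgSp.IsFormallyUnramifiedMor a) := by

  refine ⟨fun ha sq => ?_, Groth.Agent.ASp.isFormallyEtaleMor_of_etale,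
    Groth.Agent.ASp.isFormallyUnramifiedMor_of_repWith (fun _ _ f h => h.2)⟩
  obtain ⟨V, fst, c, sqV⟩ := Groth.Agent.ASp.exists_sq ha.rep sq.bot
  haveI : Smooth c.left := ha.2 sq.bot fst c sqV
  obtain ⟨a', ha'⟩ := (AlgSp.yon S).map_surjective (sqV.lift sq.top ((AlgSp.yon S).map sq.j) sq.comm)
  have w : a' ≫ c = sq.j := (AlgSp.yon S).map_injective (by
    rw [Functor.map_comp, ha']; exact sqV.lift_snd _ _ _)
  obtain ⟨l, hl₁, hl₂⟩ := Groth.Agent.H8SmoothLift.formallySmooth_of_smooth c.left sq.A sq.I sq.sq_zero a'.left (𝟙 _)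
    ((Category.comp_id _).trans (congrArg CommaMorphism.left w).symm)
  have hl : l ≫ V.hom = sq.str := by
    rw [← Over.w c, reassoc_of% hl₂]
    simp
  let x : sq.ptT' ⟶ V := Over.homMk l hl
  have e₁ : sq.j ≫ x = a' := Over.OverMorphism.ext hl₁
  have e₂ : x ≫ c = 𝟙 sq.ptT' := Over.OverMorphism.ext hl₂
  refine ⟨(AlgSp.yon S).map x ≫ fst, ?_, ?_⟩
  · rw [← Category.assoc, ← Functor.map_comp, e₁, ha']
    exact sqV.lift_fst _ _ _
  · rw [Category.assoc, sqV.w, ← Category.assoc, ← Functor.map_comp, e₂, CategoryTheory.Functor.map_id]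
    exact Category.id_comp _

end Groth.Agent.S10616
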