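import Groth.Statements.S10617
import Groth.Agent.Lib.AlgSpFormalLift
import Groth.Agent.S10619

set_option autoImplicit false
set_option backward.isDefEq.respectTransparency.types false
universe u
open CategoryTheory CategoryTheory.Limits AlgebraicGeometry
open AlgSp

namespace Groth.Agent.S10617

/-- Let a : F ⟶ G be a representable, surjective and etale morphism of fppf sheaves on (Sch/S) and b : G
⟶ H. If b is formally smooth, resp. formally etale, resp. formally unramified, then so is a ≫ b.
Conversely, if a ≫ b is formally unramified then b is formally unramified, and if a ≫ b is formally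
etale then b is formally etale. (The published statement also asserts that when a ≫ b is formally
smooth, every lifting square for b along a square-zero thickening T ⊂ T' of affine schemes admits
dotted arrows etale locally on T'; this row does not state that part.) (The published statement is
for transformations of arbitrary presheaves of sets on (Sch/S)_fppf; this row takes fppf sheaves,
the case of algebraic spaces.) -/
theorem result {S : Scheme.{u}} {F G H : AlgSp.Sp S} (a : F ⟶ G) (b : G ⟶ H)
    (ha : AlgSp.RepWith @Etale a) (ha' : AlgSp.RepWith @Surjective a) :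
    (AlgSp.IsFormallySmoothMor b → AlgSp.IsFormallySmoothMor (a ≫ b)) ∧
    (AlgSp.IsFormallyEtaleMor b → AlgSp.IsFormallyEtaleMor (a ≫ b)) ∧
    (AlgSp.IsFormallyUnramifiedMor b → AlgSp.IsFormallyUnramifiedMor (a ≫ b)) ∧
    (AlgSp.IsFormallyUnramifiedMor (a ≫ b) → AlgSp.IsFormallyUnramifiedMor b) ∧
    (AlgSp.IsFormallyEtaleMor (a ≫ b) → AlgSp.IsFormallyEtaleMor b) := by
  exact ⟨fun hb => (Groth.Agent.S10619.result a b).1 (fun sq => (Groth.Agent.ASp.isFormallyEtaleMor_of_etale ha sq).exists) hb,
    fun hb => (Groth.Agent.S10619.result a b).2.1 (Groth.Agent.ASp.isFormallyEtaleMor_of_etale ha) hb,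
    fun hb => (Groth.Agent.S10619.result a b).2.2 (Groth.Agent.ASp.unramified_of_etaleMor (Groth.Agent.ASp.isFormallyEtaleMor_of_etale ha)) hb,
    fun h => Groth.Agent.ASp.isFormallyUnramifiedMor_of_comp ha ha' h,
    fun h => Groth.Agent.ASp.isFormallyEtaleMor_of_comp ha ha' h⟩

end Groth.Agent.S10617
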