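import Groth.Statements.S10620
import Groth.Agent.Lib.AlgSpBasic

set_option autoImplicit false
set_option backward.isDefEq.respectTransparency.types false
universe u
open CategoryTheory CategoryTheory.Limits AlgebraicGeometry
open AlgSp

namespace Groth.Agent.S10620

/-- Let a : F ⟶ G and b : H ⟶ G be morphisms of fppf sheaves on (Sch/S) and let a' : P ⟶ H be the base
change of a along b (any pullback square). If a is formally smooth, resp. formally etale, resp.
formally unramified, then so is a'. (The published statement is for transformations of arbitrary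
presheaves of sets on (Sch/S)_fppf; this row takes fppf sheaves, the case of algebraic spaces.) -/
theorem result {S : Scheme.{u}} {F G H P : AlgSp.Sp S} (a : F ⟶ G) (b : H ⟶ G)
    (b' : P ⟶ F) (a' : P ⟶ H) (hP : IsPullback b' a' a b) :
    (AlgSp.IsFormallySmoothMor a → AlgSp.IsFormallySmoothMor a') ∧
    (AlgSp.IsFormallyEtaleMor a → AlgSp.IsFormallyEtaleMor a') ∧
    (AlgSp.IsFormallyUnramifiedMor a → AlgSp.IsFormallyUnramifiedMor a') := by
  have ex : ∀ sq : InfSq a', (∀ q : InfSq a, q.HasLift) → sq.HasLift := by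
    intro sq h
    let q : InfSq a := { A := sq.A, I := sq.I, sq_zero := sq.sq_zero, str := sq.str, top := sq.top ≫ b', bot := sq.bot ≫ b, comm := by rw [Category.assoc, hP.w, reassoc_of% sq.comm] }
    obtain ⟨l, h₁, h₂⟩ := h q
    refine ⟨hP.lift l sq.bot h₂, hP.hom_ext ?_ ?_, hP.lift_snd _ _ _⟩
    · rw [Category.assoc, hP.lift_fst]; exact h₁
    · rw [Category.assoc, hP.lift_snd]; exact sq.comm.symm
  have uq : ∀ sq : InfSq a', (∀ q : InfSq a, q.HasUniq) → sq.HasUniq := by
    intro sq h l l' h₁ h₂ h₃ h₄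
    let q : InfSq a := { A := sq.A, I := sq.I, sq_zero := sq.sq_zero, str := sq.str, top := sq.top ≫ b', bot := sq.bot ≫ b, comm := by rw [Category.assoc, hP.w, reassoc_of% sq.comm] }
    refine hP.hom_ext (h q _ _ ?_ ?_ ?_ ?_) (h₂.trans h₄.symm)
    · exact (Category.assoc _ _ _).symm.trans (congrArg (· ≫ b') h₁)
    · rw [Category.assoc, hP.w, reassoc_of% h₂]
    · exact (Category.assoc _ _ _).symm.trans (congrArg (· ≫ b') h₃)
    · rw [Category.assoc, hP.w, reassoc_of% h₄]
  refine ⟨fun h sq => ex sq h, fun h sq => ?_, fun h sq => uq sq h⟩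
  obtain ⟨l, hl⟩ := ex sq fun q => (h q).exists
  exact ⟨l, hl, fun l' hl' =>
    uq sq (fun q x y h₁ h₂ h₃ h₄ => (h q).unique ⟨h₁, h₂⟩ ⟨h₃, h₄⟩) l' l hl'.1 hl'.2 hl.1 hl.2⟩

end Groth.Agent.S10620
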