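import Mathlib
import Groth.Statements.S10721
import Groth.Agent.Lib.H4GlueSurj
-- import your own Groth.Agent.* helpers here

set_option autoImplicit false
universe u
open TensorProduct
open EtAlg

namespace Groth.Agent.S10721

/-- Glueing along a glueing pair detects closed immersions of affine schemes, stated for coordinate
rings. Let `(R → R', f)` be a glueing pair and `φ : A → B` a homomorphism of `R`-algebras with `A`,
`B` glueable as `R`-modules (so `Spec A`, `Spec B` are affine and glueable over `Spec R`). Then `φ`
is surjective (a closed immersion on spectra) if and only if `A_f → B_f` and `R' ⊗_R A → R' ⊗_R B`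
are surjective. -/
theorem result (R : Type u) [CommRing R] (R' : Type u) [CommRing R'] [Algebra R R'] (f : R)
    (hRR' : EtGlue.IsGlueingPair R R' f) (A B : Type u) [CommRing A] [Algebra R A] [CommRing B] [Algebra R B]
    (hA : EtGlue.IsGlueable R R' f A) (hB : EtGlue.IsGlueable R R' f B) (φ : A →ₐ[R] B) :
    Function.Surjective φ ↔
      Function.Surjective (Localization.awayMap φ.toRingHom (algebraMap R A f)) ∧ Function.Surjective (Algebra.TensorProduct.map (AlgHom.id R R') φ).toRingHom := by
  constructor
  · intro hs
    refine ⟨Localization.awayMap_surjective_iff.2 fun b => ?_, TensorProduct.map_surjective Function.surjective_id hs⟩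
    obtain ⟨a, rfl⟩ := hs b
    exact ⟨a, 0, by simp⟩
  · rintro ⟨h1, h2⟩
    refine H4GlueSurj.surjective hRR' φ.toLinearMap (fun b => ?_) ?_
    · obtain ⟨a, m, e⟩ := Localization.awayMap_surjective_iff.1 h1 b
      refine ⟨m, a, e.trans ?_⟩
      rw [Algebra.smul_def, map_pow, ← φ.commutes]
      rfl
    · intro t
      obtain ⟨z, rfl⟩ := h2 t
      refine ⟨z, ?_⟩
      induction z using TensorProduct.induction_on with
      | zero => simp
      | add u v hu hv => rw [map_add, map_add, hu, hv]
      | tmul r c => rfl

end Groth.Agent.S10721
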