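import Mathlib
import Groth.Statements.S10722
import Groth.Agent.Lib.H4GlueSurj
-- import your own Groth.Agent.* helpers here

set_option autoImplicit false
universe u
open TensorProduct
open EtAlg

namespace Groth.Agent.S10722

/-- Glueing along a glueing pair detects finite type morphisms of affine schemes, stated for coordinate
rings. Let `(R → R', f)` be a glueing pair and `φ : A → B` a homomorphism of `R`-algebras with `A`,
`B` glueable as `R`-modules (so `Spec A`, `Spec B` are affine and glueable over `Spec R`). Then `φ`
is of finite type if and only if `A_f → B_f` and `R' ⊗_R A → R' ⊗_R B` are. -/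
theorem result (R : Type u) [CommRing R] (R' : Type u) [CommRing R'] [Algebra R R'] (f : R)
    (hRR' : EtGlue.IsGlueingPair R R' f) (A B : Type u) [CommRing A] [Algebra R A] [CommRing B] [Algebra R B]
    (hA : EtGlue.IsGlueable R R' f A) (hB : EtGlue.IsGlueable R R' f B) (φ : A →ₐ[R] B) :
    φ.toRingHom.FiniteType ↔ (Localization.awayMap φ.toRingHom (algebraMap R A f)).FiniteType ∧ (Algebra.TensorProduct.map (AlgHom.id R R') φ).toRingHom.FiniteType := by
  refine ⟨fun h => ⟨?_, ?_⟩, fun h => H4GlueSurj.finiteType hRR' φ h.1 h.2⟩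
  · refine RingHom.FiniteType.of_comp_finiteType (f := algebraMap A (Localization.Away (algebraMap R A f))) ?_
    rw [show (Localization.awayMap φ.toRingHom (algebraMap R A f)).comp (algebraMap A _) =
      (algebraMap B (Localization.Away (φ.toRingHom (algebraMap R A f)))).comp φ.toRingHom from IsLocalization.map_comp _]
    exact RingHom.FiniteType.comp
      (RingHom.finiteType_algebraMap.2 (IsLocalization.finiteType_of_monoid_fg (Submonoid.powers (φ.toRingHom (algebraMap R A f))) _)) h
  · letI : Algebra A B := φ.toRingHom.toAlgebra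
    obtain ⟨s, hs⟩ := (show Algebra.FiniteType A B from h).out
    classical
    letI : Algebra (R' ⊗[R] A) (R' ⊗[R] B) := (Algebra.TensorProduct.map (AlgHom.id R R') φ).toRingHom.toAlgebra
    refine (show Algebra.FiniteType (R' ⊗[R] A) (R' ⊗[R] B) from ⟨⟨s.image (fun b => (1 : R') ⊗ₜ[R] b), ?_⟩⟩)
    rw [_root_.eq_top_iff]
    rintro t -
    induction t using TensorProduct.induction_on with
    | zero => exact zero_mem _
    | add u v hu hv => exact add_mem hu hv
    | tmul r b =>
      have hb : b ∈ Algebra.adjoin A (s : Set B) := hs ▸ trivial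
      induction hb using Algebra.adjoin_induction generalizing r with
      | mem x hx =>
        have : (algebraMap (R' ⊗[R] A) (R' ⊗[R] B) (r ⊗ₜ 1)) * ((1 : R') ⊗ₜ[R] x) = r ⊗ₜ x := by
          show (Algebra.TensorProduct.map (AlgHom.id R R') φ (r ⊗ₜ 1)) * _ = _
          simp
        rw [← this]
        exact mul_mem (Subalgebra.algebraMap_mem _ _)
          (Algebra.subset_adjoin (Finset.mem_coe.2 (Finset.mem_image_of_mem _ hx)))
      | algebraMap a =>
        exact Subalgebra.algebraMap_mem (Algebra.adjoin (R' ⊗[R] A) _) (r ⊗ₜ a)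
      | add u v _ _ hu hv => rw [TensorProduct.tmul_add]; exact add_mem (hu r) (hv r)
      | mul u v _ _ hu hv =>
        rw [show r ⊗ₜ[R] (u * v) = (r ⊗ₜ u) * ((1 : R') ⊗ₜ v) by simp]
        exact mul_mem (hu r) (hv 1)

end Groth.Agent.S10722
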