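import Mathlib
import Groth.Statements.S10723
import Groth.Agent.Lib.H4GlueFP
import Groth.Agent.S12188
import Groth.Agent.S10722
-- import your own Groth.Agent.* helpers here

set_option autoImplicit false
universe u
open TensorProduct
open EtAlg

namespace Groth.Agent.S10723

/-- Glueing along a glueing pair detects morphisms of affine schemes that are flat and of finite
presentation, stated for coordinate rings. Let `(R → R', f)` be a glueing pair and `φ : A → B` a
homomorphism of `R`-algebras with `A`, `B` glueable as `R`-modules (so `Spec A`, `Spec B` are affine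
and glueable over `Spec R`). Then `φ` is flat and of finite presentation if and only if `A_f → B_f`
and `R' ⊗_R A → R' ⊗_R B` are. -/
theorem result (R : Type u) [CommRing R] (R' : Type u) [CommRing R'] [Algebra R R'] (f : R)
    (hRR' : EtGlue.IsGlueingPair R R' f) (A B : Type u) [CommRing A] [Algebra R A] [CommRing B] [Algebra R B]
    (hA : EtGlue.IsGlueable R R' f A) (hB : EtGlue.IsGlueable R R' f B) (φ : A →ₐ[R] B) :
    (φ.toRingHom.Flat ∧ φ.toRingHom.FinitePresentation) ↔
      ((Localization.awayMap φ.toRingHom (algebraMap R A f)).Flat ∧ (Localization.awayMap φ.toRingHom (algebraMap R A f)).FinitePresentation) ∧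
        ((Algebra.TensorProduct.map (AlgHom.id R R') φ).toRingHom.Flat ∧ (Algebra.TensorProduct.map (AlgHom.id R R') φ).toRingHom.FinitePresentation) := by
  letI : Algebra A B := φ.toRingHom.toAlgebra
  haveI : IsScalarTower R A B := IsScalarTower.of_algebraMap_eq fun r => (φ.commutes r).symm
  letI : Algebra A (R' ⊗[R] A) := Algebra.TensorProduct.rightAlgebra
  letI : Algebra (R' ⊗[R] A) (R' ⊗[R] B) := (Algebra.TensorProduct.map (AlgHom.id R R') φ).toRingHom.toAlgebra
  obtain ⟨e, he⟩ := H4GlueAlg.exists_cancel (R := R) (R' := R') (A := A) (B := B) (fun r a => rfl)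
  letI : Algebra (Localization.Away (algebraMap R A f)) (Localization.Away (algebraMap A B (algebraMap R A f))) :=
    (Localization.awayMap φ.toRingHom (algebraMap R A f)).toAlgebra
  haveI : IsScalarTower A (Localization.Away (algebraMap R A f)) (Localization.Away (algebraMap A B (algebraMap R A f))) :=
    IsScalarTower.of_algebraMap_eq fun a => by
      show _ = Localization.awayMap φ.toRingHom (algebraMap R A f) (algebraMap A _ a)
      rw [Localization.awayMap, IsLocalization.Away.map, IsLocalization.map_eq]
      exact IsScalarTower.algebraMap_apply A B _ a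
  obtain ⟨el⟩ := H4GlueAlg.exists_locEquiv (A := A) (B := B) (algebraMap R A f)
  have hg := H4GlueAlg.glueingPair hRR' hA (fun a => rfl)
  let g := algebraMap R A f
  letI : Algebra A (R' ⊗[R] B) := ((algebraMap (R' ⊗[R] A) (R' ⊗[R] B)).comp (algebraMap A (R' ⊗[R] A))).toAlgebra
  haveI : IsScalarTower A (R' ⊗[R] A) (R' ⊗[R] B) := IsScalarTower.of_algebraMap_eq fun a => rfl
  let inrT : B →ₐ[A] R' ⊗[R] B :=
    { (Algebra.TensorProduct.includeRight : B →ₐ[R] R' ⊗[R] B).toRingHom with commutes' := fun a => rfl }
  let Φ := Algebra.TensorProduct.lift (Algebra.ofId (R' ⊗[R] A) (R' ⊗[R] B)) inrT fun _ _ => Commute.all _ _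
  have hΦ : ∀ z, Φ z = e z := fun z => by
    induction z using TensorProduct.induction_on with
    | zero => simp
    | add u v hu hv => rw [map_add, map_add, hu, hv]
    | tmul c b =>
      rw [he, Algebra.smul_def, Algebra.TensorProduct.lift_tmul]
      rfl
  let E : ((R' ⊗[R] A) ⊗[A] B) ≃ₐ[R' ⊗[R] A] R' ⊗[R] B :=
    AlgEquiv.ofBijective Φ (by rw [show ⇑Φ = ⇑e from funext hΦ]; exact e.bijective)
  haveI : IsLocalization (Algebra.algebraMapSubmonoid B (Submonoid.powers g)) (Localization.Away (algebraMap A B g)) := by
    rw [Algebra.algebraMapSubmonoid, Submonoid.map_powers]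
    exact inferInstanceAs (IsLocalization (Submonoid.powers (algebraMap A B g)) _)
  haveI : Algebra.IsPushout A B (Localization.Away g) (Localization.Away (algebraMap A B g)) :=
    Algebra.isPushout_of_isLocalization (Submonoid.powers g) (Localization.Away g) B _
  haveI : Algebra.IsPushout A (Localization.Away g) B (Localization.Away (algebraMap A B g)) := Algebra.IsPushout.symm inferInstance
  let E' := Algebra.IsPushout.equiv A (Localization.Away g) B (Localization.Away (algebraMap A B g))
  constructor
  · rintro ⟨h1, h2⟩
    obtain ⟨h3, h4⟩ := (Groth.Agent.S12188.result R R' f hRR' A B hA hB φ).1 h1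
    haveI : Algebra.FinitePresentation A B := h2
    exact ⟨⟨h3, (Algebra.FinitePresentation.equiv E' :)⟩, h4, (Algebra.FinitePresentation.equiv E :)⟩
  · rintro ⟨⟨h1, h2⟩, h3, h4⟩
    have hfl : Module.Flat A B := (Groth.Agent.S12188.result R R' f hRR' A B hA hB φ).2 ⟨h1, h3⟩
    haveI := hfl
    haveI : Algebra.FiniteType A B :=
      (Groth.Agent.S10722.result R R' f hRR' A B hA hB φ).2 ⟨RingHom.FiniteType.of_finitePresentation h2, RingHom.FiniteType.of_finitePresentation h4⟩
    haveI : Algebra.FinitePresentation (Localization.Away g) (Localization.Away (algebraMap A B g)) := h2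
    haveI : Algebra.FinitePresentation (R' ⊗[R] A) (R' ⊗[R] B) := h4
    haveI := Algebra.FinitePresentation.equiv E'.symm
    haveI := Algebra.FinitePresentation.equiv E.symm
    exact ⟨hfl, H4GlueFP.finitePresentation hg⟩

end Groth.Agent.S10723
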