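import Mathlib
import Groth.Statements.S10724
import Groth.Agent.Lib.H4GlueFP
import Groth.Agent.S10723
-- import your own Groth.Agent.* helpers here

set_option autoImplicit false
universe u
open TensorProduct
open EtAlg

namespace Groth.Agent.S10724

/-- Glueing along a glueing pair detects etale morphisms of affine schemes, stated for coordinate rings.
Let `(R → R', f)` be a glueing pair and `φ : A → B` a homomorphism of `R`-algebras with `A`, `B`
glueable as `R`-modules (so `Spec A`, `Spec B` are affine and glueable over `Spec R`). Then `φ` is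
etale if and only if `A_f → B_f` and `R' ⊗_R A → R' ⊗_R B` are. -/
theorem result (R : Type u) [CommRing R] (R' : Type u) [CommRing R'] [Algebra R R'] (f : R)
    (hRR' : EtGlue.IsGlueingPair R R' f) (A B : Type u) [CommRing A] [Algebra R A] [CommRing B] [Algebra R B]
    (hA : EtGlue.IsGlueable R R' f A) (hB : EtGlue.IsGlueable R R' f B) (φ : A →ₐ[R] B) :
    φ.toRingHom.Etale ↔ (Localization.awayMap φ.toRingHom (algebraMap R A f)).Etale ∧ (Algebra.TensorProduct.map (AlgHom.id R R') φ).toRingHom.Etale := by
  letI : Algebra A B := φ.toRingHom.toAlgebra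
  haveI : IsScalarTower R A B := IsScalarTower.of_algebraMap_eq fun r => (φ.commutes r).symm
  letI : Algebra A (R' ⊗[R] A) := Algebra.TensorProduct.rightAlgebra
  letI : Algebra (R' ⊗[R] A) (R' ⊗[R] B) := (Algebra.TensorProduct.map (AlgHom.id R R') φ).toRingHom.toAlgebra
  obtain ⟨e, he⟩ := H4GlueAlg.exists_cancel (R := R) (R' := R') (A := A) (B := B) (fun r a => rfl)
  letI : Algebra (Localization.Away (algebraMap R A f)) (Localization.Away (algebraMap A B (algebraMap R A f))) :=
    (Localization.awayMap φ.toRingHom (algebraMap R A f)).toAlgebra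
  haveI : IsScalarTower A (Localization.Away (algebraMap R A f)) (Localization.Away (algebraMap A B (algebraMap R A f))) :=
    IsScalarTower.of_algebraMap_eq fun a => by
      show _ = Localization.awayMap φ.toRingHom (algebraMap R A f) (algebraMap A _ a)
      rw [Localization.awayMap, IsLocalization.Away.map, IsLocalization.map_eq]
      exact IsScalarTower.algebraMap_apply A B _ a
  obtain ⟨el⟩ := H4GlueAlg.exists_locEquiv (A := A) (B := B) (algebraMap R A f)
  have hg := H4GlueAlg.glueingPair hRR' hA (fun a => rfl)
  let g := algebraMap R A f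
  letI : Algebra A (R' ⊗[R] B) := ((algebraMap (R' ⊗[R] A) (R' ⊗[R] B)).comp (algebraMap A (R' ⊗[R] A))).toAlgebra
  haveI : IsScalarTower A (R' ⊗[R] A) (R' ⊗[R] B) := IsScalarTower.of_algebraMap_eq fun a => rfl
  let inrT : B →ₐ[A] R' ⊗[R] B :=
    { (Algebra.TensorProduct.includeRight : B →ₐ[R] R' ⊗[R] B).toRingHom with commutes' := fun a => rfl }
  let Φ := Algebra.TensorProduct.lift (Algebra.ofId (R' ⊗[R] A) (R' ⊗[R] B)) inrT fun _ _ => Commute.all _ _
  have hΦ : ∀ z, Φ z = e z := fun z => by
    induction z using TensorProduct.induction_on with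
    | zero => simp
    | add u v hu hv => rw [map_add, map_add, hu, hv]
    | tmul c b =>
      rw [he, Algebra.smul_def, Algebra.TensorProduct.lift_tmul]
      rfl
  let E : ((R' ⊗[R] A) ⊗[A] B) ≃ₐ[R' ⊗[R] A] R' ⊗[R] B :=
    AlgEquiv.ofBijective Φ (by rw [show ⇑Φ = ⇑e from funext hΦ]; exact e.bijective)
  haveI : IsLocalization (Algebra.algebraMapSubmonoid B (Submonoid.powers g)) (Localization.Away (algebraMap A B g)) := by
    rw [Algebra.algebraMapSubmonoid, Submonoid.map_powers]
    exact inferInstanceAs (IsLocalization (Submonoid.powers (algebraMap A B g)) _)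
  haveI : Algebra.IsPushout A B (Localization.Away g) (Localization.Away (algebraMap A B g)) :=
    Algebra.isPushout_of_isLocalization (Submonoid.powers g) (Localization.Away g) B _
  haveI : Algebra.IsPushout A (Localization.Away g) B (Localization.Away (algebraMap A B g)) := Algebra.IsPushout.symm inferInstance
  let E' := Algebra.IsPushout.equiv A (Localization.Away g) B (Localization.Away (algebraMap A B g))
  constructor
  · intro h
    haveI : Algebra.Etale A B := h
    exact ⟨(Algebra.Etale.of_equiv E' :), (Algebra.Etale.of_equiv E :)⟩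
  · rintro ⟨h1, h2⟩
    haveI : Algebra.Etale (Localization.Away g) (Localization.Away (algebraMap A B g)) := h1
    haveI : Algebra.Etale (R' ⊗[R] A) (R' ⊗[R] B) := h2
    obtain ⟨hfl, hfp⟩ := (Groth.Agent.S10723.result R R' f hRR' A B hA hB φ).2
      ⟨⟨(inferInstance : Module.Flat (Localization.Away g) (Localization.Away (algebraMap A B g))), (inferInstance : Algebra.FinitePresentation (Localization.Away g) (Localization.Away (algebraMap A B g)))⟩, (inferInstance : Module.Flat (R' ⊗[R] A) (R' ⊗[R] B)), (inferInstance : Algebra.FinitePresentation (R' ⊗[R] A) (R' ⊗[R] B))⟩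
    haveI : Module.Flat A B := hfl
    haveI : Algebra.FinitePresentation A B := hfp
    haveI : Algebra.Etale (Localization.Away g) (Localization.Away g ⊗[A] B) := Algebra.Etale.of_equiv E'.symm
    haveI : Algebra.Etale (R' ⊗[R] A) ((R' ⊗[R] A) ⊗[A] B) := Algebra.Etale.of_equiv E.symm
    haveI s1 : Subsingleton (Localization.Away g ⊗[A] Ω[B⁄A]) := by
      letI : Algebra B (Localization.Away g ⊗[A] B) := Algebra.TensorProduct.rightAlgebra
      exact (KaehlerDifferential.tensorKaehlerEquivBase A (Localization.Away g) B (Localization.Away g ⊗[A] B)).subsingleton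
    haveI s2 : Subsingleton ((R' ⊗[R] A) ⊗[A] Ω[B⁄A]) := by
      letI : Algebra B ((R' ⊗[R] A) ⊗[A] B) := Algebra.TensorProduct.rightAlgebra
      exact (KaehlerDifferential.tensorKaehlerEquivBase A (R' ⊗[R] A) B ((R' ⊗[R] A) ⊗[A] B)).subsingleton
    haveI : Algebra.FormallyUnramified A B := by
      refine ⟨subsingleton_of_forall_eq 0 fun w => ?_⟩
      have hs := H4GlueSurj.surjective hg (0 : PUnit.{u+1} →ₗ[A] Ω[B⁄A]) (fun b => ?_) (fun z => ⟨0, Subsingleton.elim _ _⟩)
      · obtain ⟨a, rfl⟩ := hs w
        rfl
      · let mk := LocalizedModule.mkLinearMap (Submonoid.powers g) (Ω[B⁄A])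
        haveI : Subsingleton (LocalizedModule (Submonoid.powers g) (Ω[B⁄A])) :=
          (IsLocalizedModule.isBaseChange (Submonoid.powers g) (Localization.Away g) mk).equiv.symm.subsingleton
        obtain ⟨⟨_, m, rfl⟩, hm⟩ := (IsLocalizedModule.eq_zero_iff (Submonoid.powers g) mk).1 (Subsingleton.elim (mk b) 0)
        exact ⟨m, 0, hm.symm⟩
    exact Algebra.Etale.of_formallyUnramified_of_flat

end Groth.Agent.S10724
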