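import Mathlib
import Groth.Statements.S10727
import Groth.Agent.Lib.H4GlueAlgebra
-- import your own Groth.Agent.* helpers here

set_option autoImplicit false
universe u
open TensorProduct
open EtAlg

namespace Groth.Agent.S10727

/-- Glueing affine schemes along a glueing pair, stated for their coordinate rings. Let `(R → R', f)` be
a glueing pair, `A₁` an `R`-algebra in which `f` is invertible, `A'` an `R'`-algebra and `φ : A'_f ≅
R' ⊗_R A₁` an isomorphism of `R'`-algebras. Then there is an `R`-algebra `A`, glueable as an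
`R`-module, with isomorphisms `A_f ≅ A₁` of `R`-algebras and `R' ⊗_R A ≅ A'` of `R'`-algebras under
which `φ` is the canonical identification `(R' ⊗_R A)_f = R' ⊗_R A_f`. (The published statement is
that base change is an equivalence between affine schemes over `Spec R` that are glueable and
triples of affine schemes over `Spec R_f`, `Spec R'_f`, `Spec R'` with cartesian squares; this row
states only that every such triple arises, on coordinate rings.) -/
theorem result (R : Type u) [CommRing R] (R' : Type u) [CommRing R'] [Algebra R R']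
    (f : R) (hRR' : EtGlue.IsGlueingPair R R' f) (A₁ : Type u) [CommRing A₁] [Algebra R A₁]
    (h₁ : IsUnit (algebraMap R A₁ f)) (A' : Type u) [CommRing A'] [Algebra R A'] [Algebra R' A']
    [IsScalarTower R R' A'] (φ : Localization.Away (algebraMap R A' f) ≃ₐ[R'] R' ⊗[R] A₁) :
    ∃ (A : Type u) (_ : CommRing A) (_ : Algebra R A) (_ : EtGlue.IsGlueable R R' f A)
      (e₁ : Localization.Away (algebraMap R A f) ≃ₐ[R] A₁) (e' : R' ⊗[R] A ≃ₐ[R'] A'),
      ∀ a : A, φ (algebraMap A' (Localization.Away (algebraMap R A' f)) (e' ((1 : R') ⊗ₜ[R] a))) =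
        (1 : R') ⊗ₜ[R] e₁ (algebraMap A (Localization.Away (algebraMap R A f)) a) := by
  let L := Localization.Away (algebraMap R A' f)
  haveI : IsLocalization (Algebra.algebraMapSubmonoid A' (Submonoid.powers (algebraMap R R' f))) L := by
    rw [Algebra.algebraMapSubmonoid, Submonoid.map_powers, ← IsScalarTower.algebraMap_apply]
    exact inferInstanceAs (IsLocalization (Submonoid.powers (algebraMap R A' f)) L)
  let toL : A' →ₐ[R'] L := IsScalarTower.toAlgHom R' A' L
  haveI : IsLocalizedModule (Submonoid.powers (algebraMap R R' f)) toL.toLinearMap :=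
    isLocalizedModule_iff_isLocalization.2 inferInstance
  let iL := IsLocalizedModule.iso (Submonoid.powers (algebraMap R R' f)) toL.toLinearMap
  let α := iL.trans φ.toLinearEquiv
  have hα : ∀ x, α (LocalizedModule.mkLinearMap (Submonoid.powers (algebraMap R R' f)) A' x) = φ (algebraMap A' L x) := fun x => by
    show φ (iL _) = _
    rw [LocalizedModule.mkLinearMap_apply, IsLocalizedModule.iso_mk_one]
    rfl
  have hf : Function.Bijective fun x : A₁ => f • x := by
    have e : (fun x : A₁ => f • x) = fun x => algebraMap R A₁ f * x := funext fun x => Algebra.smul_def f x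
    rw [e]
    exact h₁.unit.mulLeft_bijective
  let c₁ : A' × A₁ →ₐ[R] R' ⊗[R] A₁ :=
    (φ.toAlgHom.restrictScalars R).comp ((toL.restrictScalars R).comp (AlgHom.fst R A' A₁))
  let c₂ : A' × A₁ →ₐ[R] R' ⊗[R] A₁ := Algebra.TensorProduct.includeRight.comp (AlgHom.snd R A' A₁)
  let A := AlgHom.equalizer c₁ c₂
  have hmem : ∀ p, p ∈ A ↔ α (LocalizedModule.mkLinearMap (Submonoid.powers (algebraMap R R' f)) A' p.1) = (1 : R') ⊗ₜ[R] p.2 := by
    intro p
    rw [hα]
    exact Iff.rfl
  obtain ⟨hloc, hbij⟩ := H4GlueAlgebra.glue_core hRR' A' A₁ hf α (Subalgebra.toSubmodule A) hmem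
  let p₁ : A →ₐ[R] A' := (AlgHom.fst R A' A₁).comp A.val
  let p₂ : A →ₐ[R] A₁ := (AlgHom.snd R A' A₁).comp A.val
  let Φ : R' ⊗[R] A →ₐ[R'] A' := Algebra.TensorProduct.lift (Algebra.ofId R' A') p₁ fun _ _ => Commute.all _ _
  have hΦl : ∀ z, Φ z = (((LinearMap.fst R A' A₁).comp (Subalgebra.toSubmodule A).subtype).liftBaseChange R') z := fun z => by
    induction z using TensorProduct.induction_on with
    | zero => simp
    | add u v hu hv => rw [map_add, map_add, hu, hv]
    | tmul r a =>
      rw [Algebra.TensorProduct.lift_tmul, LinearMap.liftBaseChange_tmul, Algebra.smul_def]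
      rfl
  have hΦ : Function.Bijective Φ := by
    rw [show ⇑Φ = _ from funext hΦl]
    exact hbij
  let e' : R' ⊗[R] A ≃ₐ[R'] A' := AlgEquiv.ofBijective Φ hΦ
  let g := algebraMap R A f
  letI : Algebra A A₁ := p₂.toRingHom.toAlgebra
  haveI : IsScalarTower R A A₁ := IsScalarTower.of_algebraMap_eq fun r => (p₂.commutes r).symm
  haveI : IsLocalizedModule (Submonoid.powers f) (IsScalarTower.toAlgHom R A A₁).toLinearMap := hloc
  haveI : IsLocalization (Submonoid.powers g) A₁ := by
    have : IsLocalization (Algebra.algebraMapSubmonoid A (Submonoid.powers f)) A₁ := isLocalizedModule_iff_isLocalization.1 inferInstance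
    rw [Algebra.algebraMapSubmonoid, Submonoid.map_powers] at this
    exact this
  let eA := IsLocalization.algEquiv (Submonoid.powers g) (Localization.Away g) A₁
  let e₁ : Localization.Away g ≃ₐ[R] A₁ := eA.restrictScalars R
  have he₁ : ∀ a : A, e₁ (algebraMap A (Localization.Away g) a) = p₂ a := fun a => eA.commutes a
  have he' : ∀ a : A, e' ((1 : R') ⊗ₜ[R] a) = p₁ a := fun a => by
    rw [show e' ((1 : R') ⊗ₜ[R] a) = Φ ((1 : R') ⊗ₜ[R] a) from rfl, Algebra.TensorProduct.lift_tmul, map_one, one_mul]
  refine ⟨A, inferInstance, inferInstance, ⟨?_, ?_⟩, e₁, e', fun a => ?_⟩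
  · intro a b hab
    obtain ⟨ha, hb⟩ := Prod.ext_iff.1 hab
    refine Subtype.ext (Prod.ext ?_ ?_)
    · have := congrArg e' ha
      rwa [he', he'] at this
    · obtain ⟨⟨_, m, rfl⟩, hm⟩ := IsLocalizedModule.exists_of_eq (S := Submonoid.powers f) hb
      have hpow : Function.Injective fun x : A₁ => f ^ m • x := by
        have e : (fun x : A₁ => f ^ m • x) = fun x => algebraMap R A₁ (f ^ m) * x := funext fun x => Algebra.smul_def _ x
        rw [e, map_pow]
        exact (h₁.pow m).unit.mulLeft_bijective.1
      exact hpow ((map_smul p₂ (f ^ m) a).symm.trans ((congrArg p₂ hm).trans (map_smul p₂ (f ^ m) b)))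
  · intro x y hxy
    obtain ⟨⟨a₀, ⟨_, n, rfl⟩⟩, hy⟩ := IsLocalizedModule.surj (Submonoid.powers f) (LocalizedModule.mkLinearMap (Submonoid.powers f) A) y
    rw [Submonoid.smul_def] at hy
    have hpow : ∀ m, Function.Bijective fun x : A₁ => f ^ m • x := fun m => by
      have e : (fun x : A₁ => f ^ m • x) = fun x => algebraMap R A₁ (f ^ m) * x := funext fun x => Algebra.smul_def _ x
      rw [e, map_pow]
      exact (h₁.pow m).unit.mulLeft_bijective
    obtain ⟨z, hz⟩ := (hpow n).2 (p₂ a₀)
    have hx : EtGlue.locOfTensor R R' f A (f ^ n • x) = EtGlue.locOfTensor R R' f A ((1 : R') ⊗ₜ[R] a₀) := by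
      rw [map_smul, hxy, ← map_smul, hy]
      exact IsLocalizedModule.map_apply _ _ _ _ a₀
    obtain ⟨⟨_, j, rfl⟩, hj⟩ := IsLocalizedModule.exists_of_eq (S := Submonoid.powers f) hx
    simp only [Submonoid.smul_def] at hj
    have hc := congrArg (fun w => φ (algebraMap A' L (e' w))) hj
    have hsmul : ∀ (r : R) (w : R' ⊗[R] A), φ (algebraMap A' L (e' (r • w))) = r • φ (algebraMap A' L (e' w)) := fun r w => by
      rw [← algebraMap_smul R' r w, map_smul, ← algebraMap_smul R' r (φ _)]
      show φ (toL _) = _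
      rw [map_smul, map_smul]
      rfl
    simp only [hsmul, he'] at hc
    have ha₀ : φ (algebraMap A' L (p₁ a₀)) = (1 : R') ⊗ₜ[R] p₂ a₀ := a₀.2
    rw [ha₀, ← hz, tmul_smul] at hc
    have hTinj : ∀ m, Function.Injective fun w : R' ⊗[R] A₁ => f ^ m • w := fun m => by
      have e : (fun w : R' ⊗[R] A₁ => f ^ m • w) = fun w => algebraMap R (R' ⊗[R] A₁) (f ^ m) * w :=
        funext fun w => Algebra.smul_def _ w
      rw [e, map_pow]
      refine (IsUnit.pow m ?_).unit.mulLeft_bijective.1
      rw [← Algebra.TensorProduct.includeRight.commutes (R := R) f]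
      exact h₁.map _
    have hc' := hTinj n (hTinj j hc)
    let μ : A := ⟨(e' x, z), hc'⟩
    refine ⟨μ, e'.injective (he' μ), ?_⟩
    have hmk : ∀ v, IsLocalizedModule.iso (Submonoid.powers f) (IsScalarTower.toAlgHom R A A₁).toLinearMap
        (LocalizedModule.mkLinearMap (Submonoid.powers f) A v) = p₂ v := fun v => by
      rw [LocalizedModule.mkLinearMap_apply, IsLocalizedModule.iso_mk_one]
      rfl
    apply (IsLocalizedModule.iso (Submonoid.powers f) (IsScalarTower.toAlgHom R A A₁).toLinearMap).injective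
    rw [hmk]
    refine (hpow n).1 ?_
    show f ^ n • p₂ μ = f ^ n • _
    rw [← map_smul (IsLocalizedModule.iso (Submonoid.powers f) (IsScalarTower.toAlgHom R A A₁).toLinearMap), hy, hmk]
    exact hz
  · rw [he', he₁]
    exact a.2

end Groth.Agent.S10727
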