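import Groth.Statements.S10762
import Groth.Agent.Lib.AlgSpProperSubspace

set_option autoImplicit false
set_option backward.isDefEq.respectTransparency.types false
universe u
open CategoryTheory CategoryTheory.Limits AlgebraicGeometry
open AlgSp

namespace Groth.Agent.S10762

/-- Let B be an algebraic space over S, let a : X ⟶ B and b : Y ⟶ B be locally of finite type with b
separated, and let f : X ⟶ Y be a morphism over B. If i : Z ⟶ X is a closed subspace with Z ⟶ B
proper, then the image of |Z| under |f| is a closed subset of |Y| which underlies a closed subspace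
Z' ⟶ Y with Z' ⟶ B proper. -/
theorem result {S : Scheme.{u}} {X Y B Z : AlgSp.Space S}
    (a : X ⟶ B) (b : Y ⟶ B) (f : X ⟶ Y) (hcomm : f ≫ b = a)
    (ha : AlgSp.LocP @LocallyOfFiniteType a.hom) (hb : AlgSp.LocP @LocallyOfFiniteType b.hom)
    (hbs : AlgSp.IsSeparatedMor b.hom)
    (i : Z ⟶ X) (hi : AlgSp.RepWith @IsClosedImmersion i.hom) (hZ : AlgSp.IsProperMor (i ≫ a).hom) :
    IsClosed (AlgSp.Points.map f.hom '' Set.range (AlgSp.Points.map i.hom)) ∧
      ∃ (Z' : AlgSp.Space S) (i' : Z' ⟶ Y), AlgSp.RepWith @IsClosedImmersion i'.hom ∧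
        Set.range (AlgSp.Points.map i'.hom) = AlgSp.Points.map f.hom '' Set.range (AlgSp.Points.map i.hom) ∧
        AlgSp.IsProperMor (i' ≫ b).hom := by
  subst hcomm
  have hp : AlgSp.IsProperMor (i ≫ f).hom :=
    (Groth.Agent.S10278.result (i ≫ f) (i ≫ f ≫ b) b (Category.assoc _ _ _) hbs).2 hZ
  have hcl : IsClosed (Set.range (AlgSp.Points.map (i ≫ f).hom)) :=
    ((Groth.Agent.S10278.result (i ≫ f) (i ≫ f ≫ b) b (Category.assoc _ _ _) hbs).1 hZ.2.2).2
  have e : AlgSp.Points.map f.hom '' Set.range (AlgSp.Points.map i.hom) = Set.range (AlgSp.Points.map (i ≫ f).hom) := by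
    ext y
    constructor
    · rintro ⟨_, ⟨z, rfl⟩, rfl⟩
      exact ⟨z, AlgSp.Points.map_comp _ _ _⟩
    · rintro ⟨z, rfl⟩
      exact ⟨_, ⟨z, rfl⟩, (AlgSp.Points.map_comp _ _ _).symm⟩
  refine ⟨e ▸ hcl, ?_⟩
  obtain ⟨Z', i', hZ', hs⟩ := Groth.Agent.ASp.exists_isSchImage Z.property Y.property (i ≫ f).hom
  obtain ⟨h', hh'⟩ := hs.2.1
  haveI : Mono i' := Groth.Agent.ASp.mono_of_repWith_immersion
    (Groth.Agent.ASp.repWith_mono Groth.Agent.ASp.closedImmersion_le_immersion hs.1)
  have hsub := Groth.Agent.ASp.range_schImage_subset_closure Z.property Y.property hZ' hp.2.1.2 hs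
  rw [hcl.closure_eq] at hsub
  have hsurj : AlgSp.IsSurjectiveMor h' := fun z => by
    obtain ⟨x, hx⟩ := hsub ⟨z, rfl⟩
    exact ⟨x, Groth.Agent.ASp.injective_map_of_mono i' (by rw [← AlgSp.Points.map_comp, hh', hx])⟩
  refine ⟨⟨Z', hZ'⟩, ObjectProperty.homMk i', hs.1, ?_, ?_⟩
  · rw [e]
    refine Set.Subset.antisymm hsub ?_
    rintro _ ⟨x, rfl⟩
    exact ⟨AlgSp.Points.map h' x, by
      rw [← AlgSp.Points.map_comp]; exact congrArg (fun k => AlgSp.Points.map k x) hh'⟩
  · refine Groth.Agent.ASp.isProperMor_of_surjective_source Z.property hZ' B.property (h' := h') ?_ hsurj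
      (Groth.Agent.ASp.repWith_diagonal_comp (Groth.Agent.ASp.isProperMor_of_closedImmersion Y.property hs.1).1 hbs)
      (Groth.Agent.ASp.locP_lft_of_closed hZ' Y.property B.property hs.1 hb)
    show AlgSp.IsProperMor (h' ≫ i' ≫ b.hom)
    rw [← Category.assoc, hh']
    show AlgSp.IsProperMor ((i.hom ≫ f.hom) ≫ b.hom)
    rw [Category.assoc]
    exact hZ

end Groth.Agent.S10762
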