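import Groth.Statements.S10765
import Groth.Agent.Lib.AlgSpProperSubspace

set_option autoImplicit false
set_option backward.isDefEq.respectTransparency.types false
universe u
open CategoryTheory CategoryTheory.Limits AlgebraicGeometry
open AlgSp

namespace Groth.Agent.S10765

/-- Let f : X ⟶ Y be a morphism of algebraic spaces over S that is locally of finite type and let i_k :
Z_k ⟶ X, for k ranging over a finite index set, be closed subspaces with each Z_k ⟶ Y proper. Then
there is a closed subspace W ⟶ X whose image in |X| is the union of the images of the |Z_k| and with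
W ⟶ Y proper; that is, a finite union of closed subsets proper over Y is proper over Y. -/
theorem result {S : Scheme.{u}} {X Y : AlgSp.Space S}
    (f : X ⟶ Y) (hf : AlgSp.LocP @LocallyOfFiniteType f.hom)
    {n : ℕ} (Z : Fin n → AlgSp.Space S) (i : ∀ k, Z k ⟶ X)
    (hi : ∀ k, AlgSp.RepWith @IsClosedImmersion (i k).hom) (hZ : ∀ k, AlgSp.IsProperMor (i k ≫ f).hom) :
    ∃ (W : AlgSp.Space S) (j : W ⟶ X), AlgSp.RepWith @IsClosedImmersion j.hom ∧
      Set.range (AlgSp.Points.map j.hom) = ⋃ k, Set.range (AlgSp.Points.map (i k).hom) ∧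
      AlgSp.IsProperMor (j ≫ f).hom := by
  have hcl : IsClosed (⋃ k, Set.range (AlgSp.Points.map (i k).hom)) := isClosed_iUnion_of_finite fun k =>
    (Groth.Agent.ASp.repWith_isClosedImmersion_iff X.property
      (Groth.Agent.ASp.repWith_mono Groth.Agent.ASp.closedImmersion_le_immersion (hi k))).1 (hi k)
  obtain ⟨W, j, hW, hj, hjr, -⟩ := Groth.Agent.ASp.exists_isRedInduced X.property hcl
  exact ⟨⟨W, hW⟩, ObjectProperty.homMk j, hj, hjr, Groth.Agent.ASp.isProperMor_of_range_subset hW X.property
    Y.property hf (fun k => (Z k).obj) (fun k => (Z k).property) (fun k => (i k).hom) hi hZ hj hjr⟩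

end Groth.Agent.S10765
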