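import Groth.Statements.S1077
import Mathlib
import Groth.Agent.Lib.LNoethCat

set_option autoImplicit false
set_option backward.isDefEq.respectTransparency.types false
set_option maxHeartbeats 1000000
set_option linter.all false
universe v u
open CategoryTheory CategoryTheory.Limits
open CohDer

namespace Groth.Agent.S1077.Aux

open CategoryTheory CategoryTheory.Limits

variable {A : Type u} [Category.{v} A] [Abelian A] {X : A}

theorem simple_of_covBy {a b : Subobject X} {h : a ≤ b} (hab : a ⋖ b) :
    Simple (cokernel (Subobject.ofLE a b h)) := by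
  let q := cokernel.π (Subobject.ofLE a b h)
  rw [simple_iff_subobject_isSimpleOrder]
  have hne : ¬ IsZero (cokernel (Subobject.ofLE a b h)) := by
    intro hz
    haveI : Epi (Subobject.ofLE a b h) := Abelian.epi_of_cokernel_π_eq_zero _ (hz.eq_of_tgt _ _)
    haveI := isIso_of_mono_of_epi (Subobject.ofLE a b h)
    apply hab.ne
    exact Subobject.eq_of_comm (asIso (Subobject.ofLE a b h)) (Subobject.ofLE_arrow h)
  haveI : Nontrivial (Subobject (cokernel (Subobject.ofLE a b h))) := by
    refine ⟨⟨⊥, ⊤, fun e => hne ?_⟩⟩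
    haveI : IsIso (⊥ : Subobject (cokernel (Subobject.ofLE a b h))).arrow :=
      (Subobject.isIso_arrow_iff_eq_top _).2 e
    exact ((isZero_zero A).of_iso Subobject.botCoeIsoZero).of_iso
      (asIso (⊥ : Subobject (cokernel (Subobject.ofLE a b h))).arrow).symm
  refine ⟨fun t => ?_⟩
  let c := Subobject.mk (pullback.fst q t.arrow ≫ b.arrow)
  have hac : a ≤ c := by
    refine Subobject.le_mk_of_comm (pullback.lift (Subobject.ofLE a b h) 0 ?_) ?_
    · simp [q]
    · exact (pullback.lift_fst_assoc _ _ _ _).trans (Subobject.ofLE_arrow h)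
  have hcb : c ≤ b := Subobject.mk_le_of_comm (pullback.fst q t.arrow) rfl
  rcases hab.eq_or_eq hac hcb with hc | hc
  · left
    have h2 : c ≤ a := hc.le
    obtain ⟨g, hg⟩ : ∃ g : pullback q t.arrow ⟶ (a : A), g ≫ a.arrow = pullback.fst q t.arrow ≫ b.arrow :=
      ⟨(Subobject.underlyingIso _).inv ≫ Subobject.ofLE c a h2, by simp [c]⟩
    have hg' : g ≫ Subobject.ofLE a b h = pullback.fst q t.arrow := by
      rw [← cancel_mono b.arrow, Category.assoc, Subobject.ofLE_arrow, hg]
    have h3 : pullback.snd q t.arrow ≫ t.arrow = 0 := by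
      rw [← pullback.condition, ← hg']
      simp [q]
    have h4 : t.arrow = 0 := by
      rw [← cancel_epi (pullback.snd q t.arrow), h3, comp_zero]
    rw [← Subobject.mk_arrow t]
    exact Subobject.mk_eq_bot_iff_zero.2 h4
  · right
    have h2 : b ≤ c := hc.ge
    obtain ⟨g, hg⟩ : ∃ g : (b : A) ⟶ pullback q t.arrow, g ≫ pullback.fst q t.arrow ≫ b.arrow = b.arrow :=
      ⟨Subobject.ofLE b c h2 ≫ (Subobject.underlyingIso _).hom, by simp [c]⟩
    have hg' : g ≫ pullback.fst q t.arrow = 𝟙 _ := by
      rw [← cancel_mono b.arrow, Category.assoc, hg, Category.id_comp]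
    have h3 : (g ≫ pullback.snd q t.arrow) ≫ t.arrow = q := by
      rw [Category.assoc, ← pullback.condition, ← Category.assoc, hg', Category.id_comp]
    haveI : Epi t.arrow := epi_of_epi_fac h3
    haveI := isIso_of_mono_of_epi t.arrow
    exact Subobject.eq_top_of_isIso_arrow t

theorem step {a b : Subobject X} (h : a ≤ b) (hA : IsArtinianObject (a : A)) (hN : IsNoetherianObject (a : A))
    (hs : Simple (cokernel (Subobject.ofLE a b h))) : IsArtinianObject (b : A) ∧ IsNoetherianObject (b : A) := by
  let q := cokernel.π (Subobject.ofLE a b h)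
  have hso := (simple_iff_subobject_isSimpleOrder _).1 hs
  haveI : Finite (Subobject (cokernel (Subobject.ofLE a b h))) := by
    classical
    exact Finite.of_equiv _ IsSimpleOrder.equivBool.symm
  let l := Abelian.monoLift (Subobject.ofLE a b h) (kernel.ι q) (kernel.condition q)
  haveI : Mono l := mono_of_mono_fac (Abelian.monoLift_comp (Subobject.ofLE a b h) (kernel.ι q) (kernel.condition q))
  haveI := hA
  haveI := hN
  have hqA : IsArtinianObject (cokernel (Subobject.ofLE a b h)) :=
    (isArtinianObject.is_iff _).2 (inferInstanceAs (WellFoundedLT (Subobject (cokernel (Subobject.ofLE a b h)))))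
  have hqN : IsNoetherianObject (cokernel (Subobject.ofLE a b h)) :=
    (isNoetherianObject.is_iff _).2 (inferInstanceAs (WellFoundedGT (Subobject (cokernel (Subobject.ofLE a b h)))))
  exact ⟨LNoethCat.artin_ext q (isArtinianObject_of_mono l) hqA, LNoethCat.noeth_ext q (isNoetherianObject_of_mono l) hqN⟩

end Groth.Agent.S1077.Aux

namespace Groth.Agent.S1077
open Groth.Agent

/-- An object X of an abelian category is Artinian and Noetherian if and only if there is a finite chain
of subobjects ⊥ = F₀ ≤ F₁ ≤ … ≤ Fₙ = ⊤ of X whose successive quotients Fᵢ₊₁/Fᵢ are simple. -/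
theorem result {A : Type u} [Category.{v} A] [Abelian A] (X : A) :
    (IsArtinianObject X ∧ IsNoetherianObject X) ↔
      ∃ (n : ℕ) (F : Fin (n + 1) → Subobject X) (hF : Monotone F), F 0 = ⊥ ∧ F (Fin.last n) = ⊤ ∧
        ∀ i : Fin n, Simple (cokernel (Subobject.ofLE (F (Fin.castSucc i)) (F (Fin.succ i)) (hF (Fin.castSucc_lt_succ (i := i)).le))) := by
    constructor
    · rintro ⟨hA, hN⟩
      suffices ∀ s : Subobject X, ∃ (n : ℕ) (F : Fin (n + 1) → Subobject X), F 0 = s ∧ F (Fin.last n) = ⊤ ∧
          ∀ i : Fin n, F (Fin.castSucc i) ⋖ F (Fin.succ i) by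
        obtain ⟨n, F, h0, h1, hc⟩ := this ⊥
        exact ⟨n, F, Fin.monotone_iff_le_succ.2 fun i => (hc i).le, h0, h1,
          fun i => Aux.simple_of_covBy (hc i)⟩
      intro s
      induction s using (wellFounded_gt (α := Subobject X)).induction with
      | _ s ih =>
        by_cases hs : s = ⊤
        · exact ⟨0, fun _ => s, rfl, hs, fun i => i.elim0⟩
        · obtain ⟨t, ht, hmin⟩ := (wellFounded_lt (α := Subobject X)).has_min {t | s < t}
            ⟨⊤, lt_top_iff_ne_top.2 hs⟩
          have hst : s ⋖ t := ⟨ht, fun c hc hct => hmin c hc hct⟩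
          obtain ⟨n, F, h0, h1, hc⟩ := ih t ht
          refine ⟨n + 1, Fin.cons s F, rfl, ?_, Fin.cases ?_ ?_⟩
          · rw [← Fin.succ_last, Fin.cons_succ, h1]
          · simpa [h0] using hst
          · intro i
            simpa using hc i
    · rintro ⟨n, F, hF, h0, h1, hs⟩
      have key : ∀ i : Fin (n + 1), IsArtinianObject ((F i : Subobject X) : A) ∧
          IsNoetherianObject ((F i : Subobject X) : A) := by
        intro i
        induction i using Fin.induction with
        | zero =>
          have hz : IsZero ((F 0 : Subobject X) : A) := by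
            rw [h0]
            exact (isZero_zero A).of_iso Subobject.botCoeIsoZero
          exact ⟨isArtinianObject_of_isZero hz, isNoetherianObject_of_isZero hz⟩
        | succ i ih =>
          exact Aux.step _ ih.1 ih.2 (hs i)
      obtain ⟨hA, hN⟩ := key (Fin.last n)
      haveI : IsIso (F (Fin.last n)).arrow := Subobject.isIso_arrow_iff_eq_top _ |>.2 h1
      exact ⟨LNoethCat.artin_of_iso (asIso (F (Fin.last n)).arrow).symm hA,
        LNoethCat.noeth_of_iso (asIso (F (Fin.last n)).arrow).symm hN⟩

end Groth.Agent.S1077
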