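import Groth.Statements.S10793
import Groth.Agent.Lib.AlgSpImmersion
import Groth.Agent.Lib.H9LocPrincipal

set_option autoImplicit false
set_option backward.isDefEq.respectTransparency.types false
universe u
open CategoryTheory CategoryTheory.Limits AlgebraicGeometry Topology TopologicalSpace
open AlgSp

namespace Groth.Agent.S10793

/-- For an algebraic space X over a scheme S, an effective Cartier divisor D ⟶ X (in the one-chart
sense) and the open subspace U ⟶ X complementary to D, that is, a morphism representable by open
immersions whose image in |X| is the complement of the image of |D|: the inclusion of U in X is an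
affine morphism, and in the scheme-theoretic sense (one-chart form) U is dense in X. -/
theorem result {S : Scheme.{u}} (X D U : AlgSp.Space S)
    (i : D ⟶ X) (hD : AlgSp.IsEffCartierSub i.hom) (j : U ⟶ X) (hj : AlgSp.RepWith @IsOpenImmersion j.hom)
    (hU : Set.range (AlgSp.Points.map j.hom) = (Set.range (AlgSp.Points.map i.hom))ᶜ) :
    AlgSp.IsAffineMor j.hom ∧ AlgSp.IsSchDense j.hom := by
  obtain ⟨-, V, φ, I, fst, hφe, hφs, sqI, hI⟩ := hD
  obtain ⟨W, fst', snd', sq, hop⟩ := ASp.exists_sq_prop hj φ
  have : IsOpenImmersion snd'.left := hop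
  have hr : Set.range snd'.left = (I.support : Set _)ᶜ := by
    rw [← ASp.preimage_range_of_sq sq, hU, Set.preimage_compl, ASp.preimage_range_of_sq sqI]
    exact congrArg compl I.range_subschemeι
  refine ⟨?_, hj, ?_⟩
  · refine ASp.exists_affine_of_refines U.property X.property (ASp.refines_of_atlas φ hφe hφs) _ _
      (fun _ => IsPullback.of_hasPullback j.hom φ) fun _ => ?_
    have hsn : IsAffineHom snd'.left := LocPr.isAffineHom_of_range_compl I
      (fun x _ => let ⟨U, hx, f, _, hf⟩ := hI x; ⟨U, hx, f, hf⟩) snd'.left hr
    refine ASp.isAffineMor_of_repWith ((MorphismProperty.cancel_left_of_respectsIso (AlgSp.RepWith @IsAffineHom)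
      sq.isoPullback.hom (pullback.snd j.hom φ)).1 ?_)
    rw [sq.isoPullback_hom_snd]
    exact (AlgSp.repWith_yon_map_iff _ snd').2 hsn
  · let O : V.left.Opens := snd'.left.opensRange
    let e : Over.mk (O.ι ≫ V.hom) ≅ W := Over.isoMk snd'.left.isoOpensRange.symm (by change _ ≫ W.hom = O.ι ≫ V.hom; rw [← Over.w snd', Iso.symm_hom, Scheme.Hom.isoOpensRange_inv_comp_assoc])
    refine ⟨V, φ, O, (AlgSp.yon S).map e.hom ≫ fst', hφe, hφs, ?_, fun V' => ?_⟩
    · refine sq.of_iso ((AlgSp.yon S).mapIso e.symm) (Iso.refl _) (Iso.refl _) (Iso.refl _) (by simp) ?_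
        (by simp) (by simp)
      simp only [Functor.mapIso_hom, Iso.refl_hom, Category.comp_id, ← Functor.map_comp]
      congr 1
      apply Over.OverMorphism.ext
      simp [e, O]
    · exact LocPr.injective_res_of_nonZeroDivisor I hI O hr V'

end Groth.Agent.S10793
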