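import Groth.Statements.S10802
import Groth.Agent.Lib.AlgSpUnram

set_option autoImplicit false
set_option backward.isDefEq.respectTransparency.types false
universe u
open CategoryTheory CategoryTheory.Limits AlgebraicGeometry Topology TopologicalSpace
open AlgSp

namespace Groth.Agent.S10802

/-- For algebraic spaces X and Y over a scheme S and a morphism f : X ⟶ Y which is locally of finite
type, every fibre of f over a field-valued point of Y is a locally Noetherian algebraic space: for
every field k and every point p : Spec k ⟶ Y, the fibre X_p = Spec k ×_Y X (any pullback of f along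
the morphism of p) admits a representable etale surjective chart from a locally Noetherian scheme. -/
theorem result {S : Scheme.{u}} (X Y : AlgSp.Space S) (f : X ⟶ Y)
    (hf : AlgSp.LocP @LocallyOfFiniteType f.hom) (p : AlgSp.FieldPt Y.obj)
    {P : AlgSp.Sp S} (fst : P ⟶ X.obj) (snd : P ⟶ (AlgSp.yon S).obj p.pt) (hP : IsPullback fst snd f.hom p.toHom) :
    AlgSp.IsLocNoethSp P := by
  obtain ⟨K, hK, str, hstr⟩ : ∃ (K : Type u) (_ : Field K) (str : Spec (CommRingCat.of K) ⟶ S),
      p.pt = Over.mk str := ⟨p.K, inferInstance, p.str, rfl⟩
  have hP := ASp.isAlgSpace_of_isPullback Y.property.diag hP X.property (IsAlgSpace.yon_obj p.pt)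
  have hN : IsLocallyNoetherian p.pt.left := by
    rw [hstr]
    exact inferInstanceAs (IsLocallyNoetherian (Spec (CommRingCat.of K)))
  obtain ⟨U, a, α, hae, has, hab, -⟩ := ASp.exists_chart_lift (f := snd) hP (IsAlgSpace.yon_obj p.pt)
    (repWith_id @Etale p.pt) (repWith_id @Surjective p.pt)
  have : LocallyOfFiniteType α.left :=
    ASp.locP_baseChange X.property Y.property (IsAlgSpace.yon_obj p.pt) ‹IsPullback fst snd f.hom p.toHom› hf
      a (𝟙 _) α hae (repWith_id _ _) hab
  exact ⟨U, a, hae, has, LocallyOfFiniteType.isLocallyNoetherian α.left⟩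

end Groth.Agent.S10802
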