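import Groth.Statements.S10806
import Groth.Agent.Lib.AlgSpImmersion
import Groth.Agent.Lib.H9LocPrincipal

set_option autoImplicit false
set_option backward.isDefEq.respectTransparency.types false
universe u
open CategoryTheory CategoryTheory.Limits AlgebraicGeometry Topology TopologicalSpace
open AlgSp

namespace Groth.Agent.S10806

/-- Let X be an algebraic space over a scheme S, Z ⟶ X a locally principal closed subspace (one-chart
sense: representable by closed immersions, and on some etale surjective scheme chart the inverse
image of Z is cut out by a quasi-coherent ideal sheaf that is Zariski-locally generated by one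
section) and U ⟶ X the complementary open subspace, that is, a morphism representable by open
immersions whose image in |X| is the complement of the image of |Z|. Then U ⟶ X is an affine
morphism. -/
theorem result {S : Scheme.{u}} (X Z U : AlgSp.Space S)
    (i : Z ⟶ X) (hZ : AlgSp.IsLocPrincipalSub i.hom) (j : U ⟶ X) (hj : AlgSp.RepWith @IsOpenImmersion j.hom)
    (hU : Set.range (AlgSp.Points.map j.hom) = (Set.range (AlgSp.Points.map i.hom))ᶜ) :
    AlgSp.IsAffineMor j.hom := by
  obtain ⟨-, V, φ, I, fst, hφe, hφs, sqI, hI⟩ := hZ
  refine ASp.exists_affine_of_refines U.property X.property (ASp.refines_of_atlas φ hφe hφs) _ _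
    (fun _ => IsPullback.of_hasPullback j.hom φ) fun _ => ?_
  obtain ⟨W, fst', snd', sq, hop⟩ := ASp.exists_sq_prop hj φ
  have : IsOpenImmersion snd'.left := hop
  have hr : Set.range snd'.left = (I.support : Set _)ᶜ := by
    rw [← ASp.preimage_range_of_sq sq, hU, Set.preimage_compl, ASp.preimage_range_of_sq sqI]
    exact congrArg compl I.range_subschemeι
  have hsn : IsAffineHom snd'.left := LocPr.isAffineHom_of_range_compl I (fun x _ => hI x ‹_›) snd'.left hr
  have e := sq.isoPullback_hom_snd
  refine ASp.isAffineMor_of_repWith ((MorphismProperty.cancel_left_of_respectsIso (AlgSp.RepWith @IsAffineHom)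
    sq.isoPullback.hom (pullback.snd j.hom φ)).1 ?_)
  rw [e]
  exact (AlgSp.repWith_yon_map_iff _ snd').2 hsn

end Groth.Agent.S10806
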