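import Groth.Statements.S10825
import Mathlib
import Groth.Agent.Lib.H2IntegralDim

set_option autoImplicit false
universe u
open Topology
open CAlg

namespace Groth.Agent.S10825
open PrimeSpectrum

/-- Let A → B be an injective integral homomorphism of integral domains with fraction fields K and L, L
a finite extension of K, and A integrally closed. For b in B the norm N_{L/K}(b) lies in A; if a
denotes this element of A, then the image of the closed set V(b) of Spec B under Spec B → Spec A is
exactly V(a), and V(b) and V(a) have the same dimension. -/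
theorem result
    (A B K L : Type u) [CommRing A] [IsDomain A] [CommRing B] [IsDomain B] [Algebra A B]
    [Field K] [Field L] [Algebra A K] [IsFractionRing A K] [Algebra B L] [IsFractionRing B L]
    [Algebra A L] [Algebra K L] [IsScalarTower A B L] [IsScalarTower A K L]
    [FiniteDimensional K L] [Algebra.IsIntegral A B] [IsIntegrallyClosed A]
    (hinj : Function.Injective (algebraMap A B))
    (b : B) (a : A) (ha : algebraMap A K a = Algebra.norm K (algebraMap B L b)) :
    PrimeSpectrum.comap (algebraMap A B) '' PrimeSpectrum.zeroLocus ({b} : Set B) =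
        PrimeSpectrum.zeroLocus ({a} : Set A) ∧
      topologicalKrullDim ↥(PrimeSpectrum.zeroLocus ({b} : Set B)) =
        topologicalKrullDim ↥(PrimeSpectrum.zeroLocus ({a} : Set A)) := by
  haveI : FaithfulSMul A B := (faithfulSMul_iff_algebraMap_injective A B).mpr hinj
  haveI : Module.IsTorsionFree A B := inferInstance
  have hbi : IsIntegral A b := Algebra.IsIntegral.isIntegral b
  have hbL : IsIntegral A (algebraMap B L b) := hbi.map (IsScalarTower.toAlgHom A B L)
  let m := minpoly A b
  let c := m.coeff 0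
  have hmK : minpoly K (algebraMap B L b) = m.map (algebraMap A K) := by
    rw [minpoly.isIntegrallyClosed_eq_field_fractions' K hbL, minpoly.algebraMap_eq (IsFractionRing.injective B L)]
  obtain ⟨d, e, he, hae⟩ : ∃ d e : ℕ, e ≠ 0 ∧ a = ((-1) ^ d * c) ^ e := by
    let x := algebraMap B L b
    have hxK : IsIntegral K x := hbL.tower_top
    refine ⟨(IntermediateField.adjoin.powerBasis hxK).dim, Module.finrank (IntermediateField.adjoin K {x}) L, Module.finrank_pos.ne', ?_⟩
    apply IsFractionRing.injective A K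
    rw [ha, Algebra.norm_eq_norm_adjoin K x, ← IntermediateField.adjoin.powerBasis_gen hxK,
      Algebra.PowerBasis.norm_gen_eq_coeff_zero_minpoly, IntermediateField.adjoin.powerBasis_gen,
      IntermediateField.minpoly_gen, hmK, Polynomial.coeff_map, map_pow, map_mul, map_pow, map_neg, map_one]
  have hac : ∀ p : Ideal A, p.IsPrime → (a ∈ p ↔ c ∈ p) := by
    intro p hp
    rw [hae, hp.pow_mem_iff_mem _ (Nat.pos_of_ne_zero he)]
    exact Ideal.unit_mul_mem_iff_mem p ((isUnit_one.neg).pow d)
  have hbc : b ∣ algebraMap A B c := by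
    have := minpoly.aeval A b
    rw [← Polynomial.X_mul_divX_add (minpoly A b), map_add, map_mul, Polynomial.aeval_X, Polynomial.aeval_C] at this
    exact ⟨- Polynomial.aeval b (minpoly A b).divX, by rw [mul_neg]; exact eq_neg_of_add_eq_zero_right this⟩
  have himg : PrimeSpectrum.comap (algebraMap A B) '' PrimeSpectrum.zeroLocus ({b} : Set B) = PrimeSpectrum.zeroLocus ({a} : Set A) := by
    ext p
    simp only [Set.mem_image, mem_zeroLocus, Set.singleton_subset_iff, SetLike.mem_coe]
    constructor
    · rintro ⟨q, hq, rfl⟩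
      refine (hac _ (PrimeSpectrum.comap _ q).2).mpr ?_
      show algebraMap A B c ∈ q.asIdeal
      exact q.asIdeal.mem_of_dvd hbc hq
    · intro hp
      let C := Algebra.adjoin A ({b} : Set B)
      have h0 : (minpoly A b).eval₂ (Ideal.Quotient.mk p.asIdeal) 0 = 0 := by
        rw [Polynomial.eval₂_at_zero]
        exact Ideal.Quotient.eq_zero_iff_mem.mpr ((hac _ p.2).mp hp)
      let g : C →+* A ⧸ p.asIdeal := (AdjoinRoot.lift (Ideal.Quotient.mk p.asIdeal) 0 h0).comp (minpoly.equivAdjoin hbi).symm.toRingEquiv.toRingHom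
      haveI : (RingHom.ker g).IsPrime := RingHom.ker_isPrime g
      haveI : Algebra.IsIntegral C B := Algebra.IsIntegral.tower_top A
      obtain ⟨Q, -, hQp, hQ⟩ := Ideal.exists_ideal_over_prime_of_isIntegral (RingHom.ker g) (⊥ : Ideal B)
        (by rw [← RingHom.ker_eq_comap_bot, (RingHom.injective_iff_ker_eq_bot _).mp Subtype.val_injective]; exact bot_le)
      refine ⟨⟨Q, hQp⟩, ?_, ?_⟩
      · have hb : (⟨b, Algebra.subset_adjoin rfl⟩ : C) ∈ RingHom.ker g := by
          have : (minpoly.equivAdjoin hbi).symm ⟨b, Algebra.subset_adjoin rfl⟩ = AdjoinRoot.root _ := by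
            rw [AlgEquiv.symm_apply_eq]; apply Subtype.ext; simp [minpoly.coe_equivAdjoin, AdjoinRoot.Minpoly.toAdjoin]
          rw [RingHom.mem_ker]
          show AdjoinRoot.lift _ _ h0 ((minpoly.equivAdjoin hbi).symm _) = 0
          rw [this, AdjoinRoot.lift_root]
        rw [← hQ] at hb
        exact hb
      · apply PrimeSpectrum.ext
        ext r
        show algebraMap A B r ∈ Q ↔ r ∈ p.asIdeal
        have : algebraMap A C r ∈ RingHom.ker g ↔ r ∈ p.asIdeal := by
          rw [RingHom.mem_ker]
          show AdjoinRoot.lift _ _ h0 ((minpoly.equivAdjoin hbi).symm _) = 0 ↔ _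
          rw [AlgEquiv.commutes, AdjoinRoot.algebraMap_eq, AdjoinRoot.lift_of, Ideal.Quotient.eq_zero_iff_mem]
        rw [← this, ← hQ]
        rfl
  refine ⟨himg, ?_⟩
  let I : Ideal A := Ideal.span {a}
  let J : Ideal B := Ideal.span {b}
  have hsub : ∀ {R : Type u} [CommRing R] (r : R), IsHomeomorph (Set.codRestrict (PrimeSpectrum.comap (Ideal.Quotient.mk (Ideal.span {r}))) (zeroLocus ({r} : Set R)) (fun x => by
      rw [← zeroLocus_span]
      simpa [Ideal.mk_ker] using (range_comap_of_surjective _ (Ideal.Quotient.mk (Ideal.span {r})) Ideal.Quotient.mk_surjective).le ⟨x, rfl⟩)) := by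
    intro R _ r
    have he := isClosedEmbedding_comap_of_surjective _ (Ideal.Quotient.mk (Ideal.span {r})) Ideal.Quotient.mk_surjective
    refine isHomeomorph_iff_isEmbedding_surjective.mpr ⟨he.isEmbedding.codRestrict _ _, fun x => ?_⟩
    have hx : x.1 ∈ Set.range (PrimeSpectrum.comap (Ideal.Quotient.mk (Ideal.span {r}))) := by
      rw [range_comap_of_surjective _ _ Ideal.Quotient.mk_surjective, Ideal.mk_ker, zeroLocus_span]; exact x.2
    obtain ⟨y, hy⟩ := hx
    exact ⟨y, Subtype.ext hy⟩
  rw [← (hsub b).topologicalKrullDim_eq, ← (hsub a).topologicalKrullDim_eq,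
    PrimeSpectrum.topologicalKrullDim_eq_ringKrullDim, PrimeSpectrum.topologicalKrullDim_eq_ringKrullDim]
  have hIJ : I ≤ J.comap (algebraMap A B) := by
    rw [Ideal.span_le, Set.singleton_subset_iff, SetLike.mem_coe, Ideal.mem_comap, Ideal.mem_span_singleton, hae, map_pow, map_mul]
    exact dvd_pow (Dvd.dvd.mul_left hbc _) he
  letI : Algebra (A ⧸ I) (B ⧸ J) := (Ideal.quotientMap J (algebraMap A B) hIJ).toAlgebra
  haveI : IsScalarTower A (A ⧸ I) (B ⧸ J) := IsScalarTower.of_algebraMap_eq fun x => rfl
  haveI : Algebra.IsIntegral A (B ⧸ J) := Algebra.IsIntegral.of_surjective (Ideal.Quotient.mkₐ A J) Ideal.Quotient.mk_surjective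
  haveI : Algebra.IsIntegral (A ⧸ I) (B ⧸ J) := Algebra.IsIntegral.tower_top A
  refine Groth.Agent.H2IntegralDim.ringKrullDim_eq_of_isIntegral_of_comap_surjective (R := A ⧸ I) fun p => ?_
  have hp : PrimeSpectrum.comap (Ideal.Quotient.mk I) p ∈ zeroLocus ({a} : Set A) := by
    simp only [mem_zeroLocus, Set.singleton_subset_iff, SetLike.mem_coe]
    show Ideal.Quotient.mk I a ∈ p.asIdeal
    rw [Ideal.Quotient.eq_zero_iff_mem.mpr (Ideal.mem_span_singleton_self a)]; exact zero_mem _
  rw [← himg] at hp
  obtain ⟨q, hq, hqp⟩ := hp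
  have : q ∈ Set.range (PrimeSpectrum.comap (Ideal.Quotient.mk J)) := by
    rw [range_comap_of_surjective _ _ Ideal.Quotient.mk_surjective, Ideal.mk_ker, zeroLocus_span]; exact hq
  obtain ⟨Q, rfl⟩ := this
  refine ⟨Q, comap_injective_of_surjective _ Ideal.Quotient.mk_surjective ?_⟩
  rw [← hqp]; rfl

end Groth.Agent.S10825
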