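import Groth.Statements.S10830
import Mathlib

set_option autoImplicit false
universe u
open Topology TopologicalSpace
open TopDim

namespace Groth.Agent.S10830

/-- In an irreducible topological space X of finite Krull dimension, every proper closed subset Y has
strictly smaller Krull dimension than X. -/
theorem result (X : Type u) [TopologicalSpace X]
    [IrreducibleSpace X] (hfin : topologicalKrullDim X ≠ ⊤) (Y : Set X) (hY : IsClosed Y) (hYX : Y ≠ Set.univ) :
    topologicalKrullDim ↥Y < topologicalKrullDim X := by
  rcases isEmpty_or_nonempty Y with hE | hne
  · rw [topologicalKrullDim, Order.krullDim_eq_bot_iff.mpr ⟨fun Z => IsEmpty.false Z.2.nonempty.some⟩]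
    refine lt_of_lt_of_le (WithBot.bot_lt_coe 0) ?_
    haveI : Nonempty (TopologicalSpace.IrreducibleCloseds X) := ⟨⟨Set.univ, IrreducibleSpace.isIrreducible_univ X, isClosed_univ⟩⟩
    exact Order.krullDim_nonneg
  · have key : topologicalKrullDim Y + 1 ≤ topologicalKrullDim X := by
      haveI : Nonempty (TopologicalSpace.IrreducibleCloseds Y) := by
        obtain ⟨y⟩ := hne
        exact ⟨⟨closure {y}, isIrreducible_singleton.closure, isClosed_closure⟩⟩
      let F := TopologicalSpace.IrreducibleCloseds.map (Subtype.val : Y → X) continuous_subtype_val
      have hF : StrictMono F := TopologicalSpace.IrreducibleCloseds.map_strictMono_of_isInducing Topology.IsInducing.subtypeVal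
      rw [topologicalKrullDim, Order.krullDim_eq_iSup_length, ← WithBot.coe_one, ← WithBot.coe_add]
      rw [ENat.iSup_add]
      have : Nonempty (TopologicalSpace.IrreducibleCloseds X) := ⟨F (Classical.arbitrary _)⟩
      rw [topologicalKrullDim, Order.krullDim_eq_iSup_length, WithBot.coe_le_coe]
      refine iSup_le fun p => ?_
      let top' : TopologicalSpace.IrreducibleCloseds X := ⟨Set.univ, IrreducibleSpace.isIrreducible_univ X, isClosed_univ⟩
      have hlt : (p.map F hF).last < top' := by
        refine lt_of_le_of_ne (fun x _ => Set.mem_univ x) fun he => hYX ?_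
        apply Set.eq_univ_of_univ_subset
        have : ((p.map F hF).last : Set X) ⊆ Y := by
          rw [LTSeries.last_map]
          exact closure_minimal (by rintro _ ⟨y, _, rfl⟩; exact y.2) hY
        rw [he] at this
        exact this
      refine le_trans ?_ (le_iSup (fun q : LTSeries (TopologicalSpace.IrreducibleCloseds X) => (q.length : ℕ∞)) ((p.map F hF).snoc top' hlt))
      simp
    rcases lt_or_eq_of_le (topologicalKrullDim_subspace_le X Y) with h | h
    · exact h
    · exfalso
      rw [h] at key
      cases hd : topologicalKrullDim X with
      | bot =>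
        haveI : Nonempty (TopologicalSpace.IrreducibleCloseds X) := ⟨⟨Set.univ, IrreducibleSpace.isIrreducible_univ X, isClosed_univ⟩⟩
        have : (0:WithBot ℕ∞) ≤ topologicalKrullDim X := Order.krullDim_nonneg
        simp [hd] at this
      | coe d =>
        cases d with
        | top => exact hfin hd
        | coe d =>
          rw [hd] at key
          have : d + 1 ≤ d := by exact_mod_cast key
          omega

end Groth.Agent.S10830
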