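import Groth.Statements.S10831
import Mathlib

set_option autoImplicit false
universe u
open Topology TopologicalSpace
open TopDim

namespace Groth.Agent.S10831

/-- The Krull dimension of a topological space is the supremum of the Krull dimensions of its
irreducible components. -/
theorem result (X : Type u) [TopologicalSpace X] :
    topologicalKrullDim X = ⨆ Y ∈ irreducibleComponents X, topologicalKrullDim ↥Y := by
  apply le_antisymm
  · refine iSup_le fun p => ?_
    obtain ⟨Y, hYc, hZY⟩ := exists_mem_irreducibleComponents_subset_of_isIrreducible (p.last : Set X) p.last.2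
    refine le_iSup₂_of_le Y hYc ?_
    have hle : ∀ i, ((p i) : Set X) ⊆ Y := fun i => Set.Subset.trans (p.monotone (Fin.le_last i)) hZY
    let q : LTSeries (TopologicalSpace.IrreducibleCloseds ↥Y) :=
      { length := p.length
        toFun := fun i =>
          { carrier := Subtype.val ⁻¹' (p i : Set X)
            isIrreducible' := by
              obtain ⟨x, hx⟩ := (p i).2.nonempty
              refine ⟨⟨⟨x, hle i hx⟩, hx⟩, ?_⟩
              rintro u v ⟨u', hu', rfl⟩ ⟨v', hv', rfl⟩ ⟨a, ha1, ha2⟩ ⟨b, hb1, hb2⟩
              obtain ⟨c, hc1, hc2, hc3⟩ := (p i).2.isPreirreducible u' v' hu' hv' ⟨a, ha1, ha2⟩ ⟨b, hb1, hb2⟩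
              exact ⟨⟨c, hle i hc1⟩, hc1, hc2, hc3⟩
            isClosed' := (p i).3.preimage continuous_subtype_val }
        step := fun i => by
          have h := p.step i
          have h1 : (p i.castSucc : Set X) ⊆ (p i.succ : Set X) := h.le
          have h2 : ¬ (p i.succ : Set X) ⊆ (p i.castSucc : Set X) := h.not_ge
          refine @lt_of_le_not_ge (TopologicalSpace.IrreducibleCloseds ↥Y) _ _ _ ?_ ?_
          · intro x hx; exact h1 hx
          intro hge
          refine h2 fun x hx => ?_
          exact hge (x := ⟨x, hle _ hx⟩) hx }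
    exact le_trans (le_of_eq rfl) (Order.LTSeries.length_le_krullDim q)
  · exact iSup₂_le fun Y _ => topologicalKrullDim_subspace_le X Y

end Groth.Agent.S10831
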