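import Groth.Statements.S10834
import Mathlib
import Groth.Prelude.Def_CAlg
import Groth.Agent.S0341
import Groth.Agent.S0601
import Groth.Agent.Lib.GorensteinRings
import Groth.Agent.Lib.H2SkHom
-- import your own Groth.Agent.* helpers here

set_option autoImplicit false
universe u
open CAlg

namespace Groth.Agent.S10834

open Groth.Agent.GorensteinRings Groth.Agent.GorensteinQuotient Groth.Agent.GorensteinCM

theorem cm_quotient (A : Type u) [CommRing A] [IsNoetherianRing A]
    (hreg : ∀ (p : Ideal A) (_ : p.IsPrime), IsRegularLocalRing (Localization.AtPrime p)) (f : A) :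
    LocCoh.IsCohenMacaulayRing (A ⧸ Ideal.span ({f} : Set A)) := by
  refine { isCohenMacaulayLocalRing_localization := fun q _ => ?_ }
  obtain ⟨e⟩ := exists_atPrime_quotient_equiv (Ideal.Quotient.mk (Ideal.span {f})) Ideal.Quotient.mk_surjective q
  rw [Ideal.mk_ker] at e
  set p := q.comap (Ideal.Quotient.mk (Ideal.span {f})) with hp
  haveI := hreg p inferInstance
  haveI : IsDomain (Localization.AtPrime p) := Groth.Agent.RegLocal.isDomain
  have hmap : (Ideal.span {f}).map (algebraMap A (Localization.AtPrime p)) =
      Ideal.span {algebraMap A (Localization.AtPrime p) f} := by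
    rw [Ideal.map_span, Set.image_singleton]
  haveI hgor : LocCoh.IsGorensteinLocalRing (Localization.AtPrime q) := by
    refine gor_of_ringEquiv (e.trans (Ideal.quotEquivOfEq hmap)) ?_
    by_cases h0 : algebraMap A (Localization.AtPrime p) f = 0
    · exact gor_of_ringEquiv ((Ideal.quotEquivOfEq (by rw [h0]; simp)).trans (RingEquiv.quotientBot _))
        (gor_of_regular _)
    · have hm : algebraMap A (Localization.AtPrime p) f ∈ IsLocalRing.maximalIdeal _ := by
        rw [← Localization.AtPrime.map_eq_maximalIdeal]
        exact Ideal.mem_map_of_mem _ (by rw [hp, Ideal.mem_comap, Ideal.Quotient.eq_zero_iff_mem.mpr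
          (Ideal.mem_span_singleton_self f)]; exact q.zero_mem)
      have hr : IsSMulRegular (Localization.AtPrime p) (algebraMap A (Localization.AtPrime p) f) :=
        fun a b hab => mul_left_cancel₀ h0 hab
      haveI : IsLocalRing (Localization.AtPrime p ⧸ Ideal.span {algebraMap A (Localization.AtPrime p) f}) :=
        (e.trans (Ideal.quotEquivOfEq hmap)).isLocalRing
      obtain ⟨n, hn⟩ := (gor_of_regular (Localization.AtPrime p)).exists_hasInjectiveDimensionLT
      exact { exists_hasInjectiveDimensionLT := ⟨n + 1, injD_quotient hr n
        (CategoryTheory.hasInjectiveDimensionLT_of_ge (ModuleCat.of _ (Localization.AtPrime p)) n (n + 2) (by omega))⟩ }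
  exact Groth.Agent.S0341.result _

/-- Let A be a Noetherian ring whose localizations at all prime ideals are regular local rings, and f an
element of A generating a prime ideal, so that A/(f) is an integral domain (an integral hypersurface
in the regular affine scheme Spec A). Then A/(f) is normal (integrally closed in its fraction field)
if and only if it is regular in codimension 1, i.e. its localization at every prime at which the
local ring has dimension 1 is a regular local ring. -/
theorem result (A : Type u) [CommRing A]
    [IsNoetherianRing A] (hreg : ∀ (p : Ideal A) (_ : p.IsPrime), IsRegularLocalRing (Localization.AtPrime p))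
    (f : A) (hf : (Ideal.span ({f} : Set A)).IsPrime) :
    IsIntegrallyClosed (A ⧸ Ideal.span ({f} : Set A)) ↔
      ∀ q : PrimeSpectrum (A ⧸ Ideal.span ({f} : Set A)),
        ringKrullDim (Localization.AtPrime q.asIdeal) = 1 →
          IsRegularLocalRing (Localization.AtPrime q.asIdeal) := by
  haveI hdom : IsDomain (A ⧸ Ideal.span ({f} : Set A)) :=
    (Ideal.Quotient.isDomain_iff_prime _).mpr hf
  constructor
  · intro h q hq
    refine ((Groth.Agent.S0601.result (A ⧸ Ideal.span ({f} : Set A))).mp fun p _ => ⟨inferInstance,
      isIntegrallyClosed_of_isLocalization _ p.primeCompl p.primeCompl_le_nonZeroDivisors⟩).1 q.asIdeal ?_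
    rw [IsLocalization.AtPrime.ringKrullDim_eq_height q.asIdeal (Localization.AtPrime q.asIdeal)] at hq
    exact (WithBot.coe_eq_coe.mp hq).le
  · intro h
    haveI := cm_quotient A hreg f
    have hR1 : LocCoh.HasRk 1 (A ⧸ Ideal.span ({f} : Set A)) := by
      intro q _ hq
      rcases lt_or_eq_of_le hq with h1 | h1
      · have h0 : q.height = 0 := ENat.lt_one_iff_eq_zero.mp (by simpa using h1)
        have hb : q = ⊥ := by
          have := Ideal.height_eq_zero_iff.mp h0
          simpa [IsDomain.minimalPrimes_eq_singleton_bot] using this
        have hfld : IsField (Localization.AtPrime q) := by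
          rw [IsLocalRing.isField_iff_maximalIdeal_eq, ← Localization.AtPrime.map_eq_maximalIdeal]
          simp [hb]
        letI := hfld.toField
        infer_instance
      · exact h ⟨q, inferInstance⟩ (by
          rw [IsLocalization.AtPrime.ringKrullDim_eq_height q (Localization.AtPrime q), h1]
          rfl)
    have hn := (Groth.Agent.S0601.result (A ⧸ Ideal.span ({f} : Set A))).mpr
      ⟨hR1, Groth.Agent.H2SkHom.hasSk_of_cm 2 _⟩
    exact IsIntegrallyClosed.of_localization_maximal fun p _ _ => (hn p).2


end Groth.Agent.S10834
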