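import Groth.Statements.S10836
import Mathlib

set_option autoImplicit false
universe u
open Coh

namespace Groth.Agent.S10836

/-- Let A be a commutative ring, M a finitely generated projective A-module whose rank at every prime is
r, and Z a finite set of prime ideals of A. Then there is an element s of A outside every prime of Z
such that the localized module M_s has a basis of r elements over A_s. (The published statement is
for a finite locally free module of constant rank r on a scheme and a finite set of points inside an
affine open Spec A, and produces a basic open D(s) containing the points on which the module is free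
of rank r; its argument begins by replacing the scheme with Spec A, and this row states that case.) -/
theorem result (A : Type u) [CommRing A]
    (M : Type u) [AddCommGroup M] [Module A M] [Module.Finite A M] [Module.Projective A M] (r : ℕ)
    (hr : ∀ p : PrimeSpectrum A, Module.rankAtStalk M p = r)
    (Z : Set (PrimeSpectrum A)) (hZ : Z.Finite) :
    ∃ s : A, (∀ p ∈ Z, s ∉ p.asIdeal) ∧
      Nonempty (Module.Basis (Fin r) (Localization.Away s) (LocalizedModule (Submonoid.powers s) M)) := by
  classical
  let S : Submonoid A := ⨅ p : Z, p.1.asIdeal.primeCompl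
  have hS : ∀ s, s ∈ S ↔ ∀ p ∈ Z, s ∉ p.asIdeal := fun s => by
    simp [S, Submonoid.mem_iInf]
  let AS := Localization S
  have hmem : ∀ P : MaximalSpectrum AS, ∃ p ∈ Z, (P.asIdeal.comap (algebraMap A AS)) = p.asIdeal := by
    intro P
    have hdisj : Disjoint (S : Set A) (P.asIdeal.comap (algebraMap A AS) : Set A) :=
      ((IsLocalization.isPrime_iff_isPrime_disjoint S AS P.asIdeal).mp P.isMaximal.isPrime).2
    have hsub : ((P.asIdeal.comap (algebraMap A AS) : Ideal A) : Set A) ⊆
        ⋃ p ∈ hZ.toFinset, (p.asIdeal : Set A) := by
      intro a ha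
      by_contra hc
      simp only [Set.Finite.mem_toFinset, Set.mem_iUnion, exists_prop, not_exists, not_and] at hc
      exact Set.disjoint_left.mp hdisj ((hS a).mpr hc) ha
    obtain ⟨p, hp, hle⟩ := (Ideal.subset_union_prime (f := fun p : PrimeSpectrum A => p.asIdeal)
      (hZ.toFinset.toList.headD ⟨_, (P.isMaximal.isPrime.comap (algebraMap A AS))⟩)
      (hZ.toFinset.toList.headD ⟨_, (P.isMaximal.isPrime.comap (algebraMap A AS))⟩)
      (fun p _ _ _ => p.2)).mp hsub
    have hpZ : p ∈ Z := hZ.mem_toFinset.mp hp
    have hd : Disjoint (S : Set A) (p.asIdeal : Set A) :=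
      Set.disjoint_left.mpr fun a ha hap => (hS a).mp ha p hpZ hap
    have hne : (p.asIdeal.map (algebraMap A AS)) ≠ ⊤ :=
      (IsLocalization.isPrime_of_isPrime_disjoint S AS p.asIdeal p.2 hd).ne_top
    have hPeq : P.asIdeal = p.asIdeal.map (algebraMap A AS) := P.isMaximal.eq_of_le hne (by
      rw [← IsLocalization.map_under S AS P.asIdeal]
      exact Ideal.map_mono hle)
    exact ⟨p, hpZ, (congrArg (Ideal.comap (algebraMap A AS)) hPeq).trans
      (IsLocalization.under_map_of_isPrime_disjoint S AS p.2 hd)⟩
  choose g hgZ hg using hmem
  have : Finite Z := hZ.to_subtype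
  have : Finite (MaximalSpectrum AS) := Finite.of_injective (fun P => (⟨g P, hgZ P⟩ : Z)) (by
    intro P Q h
    have h' : g P = g Q := congrArg Subtype.val h
    apply MaximalSpectrum.ext
    rw [← IsLocalization.map_under S AS P.asIdeal, ← IsLocalization.map_under S AS Q.asIdeal]
    exact congrArg _ ((hg P).trans ((congrArg PrimeSpectrum.asIdeal h').trans (hg Q).symm)))
  let MS := LocalizedModule S M
  have hbc := LocalizedModule.isBaseChange S M
  have : Module.Flat AS MS := Module.Flat.of_linearEquiv hbc.equiv.symm
  have : Module.Finite AS MS := Module.Finite.of_isLocalizedModule S (Rₚ := AS) (LocalizedModule.mkLinearMap S M)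
  have hb : Nonempty (Module.Basis (Fin r) AS MS) := by
    refine Module.nonempty_basis_of_flat_of_finrank_eq AS MS r fun P => ?_
    let := Ideal.Quotient.field P.asIdeal
    have h1 : Module.finrank P.asIdeal.ResidueField (P.asIdeal.Fiber MS) = r := by
      rw [Ideal.finrank_fiber_eq_rankAtStalk, Module.rankAtStalk_isBaseChange hbc, hr]
    rw [← h1]
    exact ((Module.finrank_baseChange (R := P.asIdeal.ResidueField) (S := AS ⧸ P.asIdeal)).symm).trans
      (TensorProduct.AlgebraTensorModule.cancelBaseChange AS (AS ⧸ P.asIdeal) P.asIdeal.ResidueField _ _).finrank_eq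
  obtain ⟨b⟩ := hb
  have : Module.FinitePresentation A M := Module.finitePresentation_of_projective A M
  obtain ⟨s, hs, b', -⟩ := Module.FinitePresentation.exists_basis_localizedModule_powers S
    (LocalizedModule.mkLinearMap S M) AS b
  exact ⟨s, (hS s).mp hs, ⟨b'⟩⟩

end Groth.Agent.S10836
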