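import Groth.Statements.S10839
import Mathlib

set_option autoImplicit false
universe u
open CategoryTheory AlgebraicGeometry Topology
open Variety

namespace Groth.Agent.S10839

/-- A closed immersion i : Y → X into an integral scheme X with dim X = dim Y < ∞ is an isomorphism. -/
theorem result {X Y : Scheme.{u}} (i : Y ⟶ X)
    [IsClosedImmersion i] [IsIntegral X] (hfin : topologicalKrullDim ↥X ≠ ⊤)
    (hdim : topologicalKrullDim ↥X = topologicalKrullDim ↥Y) : IsIso i := by
  haveI : Surjective i := by
    refine ⟨Set.range_eq_univ.1 ?_⟩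
    by_contra hne
    let m : TopologicalSpace.IrreducibleCloseds Y → TopologicalSpace.IrreducibleCloseds X := fun Z =>
      ⟨i '' Z.carrier, Z.2.image i i.continuous.continuousOn, i.isClosedEmbedding.isClosedMap _ Z.3⟩
    have hm : StrictMono m := fun a b h => by
      refine lt_of_le_of_ne (Set.image_mono (SetLike.coe_subset_coe.2 h.le)) fun e => h.ne ?_
      exact TopologicalSpace.IrreducibleCloseds.ext ((Set.image_eq_image i.isClosedEmbedding.injective).1 (congrArg (·.carrier) e))
    let top : TopologicalSpace.IrreducibleCloseds X :=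
      ⟨Set.univ, IrreducibleSpace.isIrreducible_univ X, isClosed_univ⟩
    have hlt : ∀ Z, m Z < top := fun Z => by
      refine lt_of_le_of_ne (fun a _ => trivial) fun e => hne ?_
      exact Set.eq_univ_of_univ_subset ((congrArg (·.carrier) e).symm.le.trans (Set.image_subset_range _ _))
    have hbot : topologicalKrullDim ↥X ≠ ⊥ := by
      haveI : Nonempty (TopologicalSpace.IrreducibleCloseds X) := ⟨top⟩
      exact Order.krullDim_ne_bot_iff.2 inferInstance
    haveI : FiniteDimensionalOrder (TopologicalSpace.IrreducibleCloseds Y) :=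
      Order.finiteDimensionalOrder_iff_krullDim_ne_bot_and_top.2 (show topologicalKrullDim ↥Y ≠ ⊥ ∧ topologicalKrullDim ↥Y ≠ ⊤ from hdim ▸ ⟨hbot, hfin⟩)
    let s := LTSeries.longestOf (TopologicalSpace.IrreducibleCloseds Y)
    have h1 : topologicalKrullDim ↥Y = (s.length : WithBot ℕ∞) := Order.krullDim_eq_length_of_finiteDimensionalOrder
    let t : LTSeries (TopologicalSpace.IrreducibleCloseds X) := (s.map m hm).snoc top (hlt _)
    have h2 : (t.length : WithBot ℕ∞) ≤ topologicalKrullDim ↥X := Order.LTSeries.length_le_krullDim t
    rw [hdim, h1] at h2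
    have : t.length = s.length + 1 := rfl
    rw [this] at h2
    norm_cast at h2
    omega
  exact isIso_of_isClosedImmersion_of_surjective i

end Groth.Agent.S10839
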