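import Groth.Statements.S10842
import Mathlib
import Groth.Prelude.Def_Pi1

set_option autoImplicit false
universe u
open CategoryTheory AlgebraicGeometry
open Variety

namespace Groth.Agent.S10842
open AlgebraicGeometry CategoryTheory TopologicalSpace

/-- A quasi-compact scheme whose local rings at all closed points are integrally closed domains is
normal, i.e. all of its local rings are integrally closed domains. -/
theorem result (X : Scheme.{u}) [CompactSpace ↥X]
    (h : ∀ x : X, IsClosed ({x} : Set X) →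
      IsDomain (X.presheaf.stalk x) ∧ IsIntegrallyClosed (X.presheaf.stalk x)) :
    Pi1.IsNormalScheme X := by
  intro x
  obtain ⟨y, hy, hyc⟩ := isClosed_closure.exists_closed_singleton (S := closure ({x} : Set X)) ⟨x, subset_closure rfl⟩
  obtain ⟨hd, hi⟩ := h y hyc
  haveI := hd; haveI := hi
  have hxy : x ⤳ y := specializes_iff_mem_closure.2 hy
  obtain ⟨_, ⟨U, hU, rfl⟩, hyU, -⟩ := X.isBasis_affineOpens.exists_subset_of_mem_open (Set.mem_univ y) isOpen_univ
  have hxU : x ∈ U := hxy.mem_open U.2 hyU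
  letI := TopCat.Presheaf.algebra_section_stalk X.presheaf (⟨x, hxU⟩ : U)
  haveI := hU.isLocalization_stalk ⟨x, hxU⟩
  letI := TopCat.Presheaf.algebra_section_stalk X.presheaf (⟨y, hyU⟩ : U)
  haveI := hU.isLocalization_stalk ⟨y, hyU⟩
  letI : Algebra (X.presheaf.stalk y) (X.presheaf.stalk x) := (X.presheaf.stalkSpecializes hxy).hom.toAlgebra
  haveI : IsScalarTower Γ(X, U) (X.presheaf.stalk y) (X.presheaf.stalk x) := IsScalarTower.of_algebraMap_eq' (by
    show (X.presheaf.germ U x hxU).hom = (X.presheaf.stalkSpecializes hxy).hom.comp (X.presheaf.germ U y hyU).hom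
    rw [← CommRingCat.hom_comp, TopCat.Presheaf.germ_stalkSpecializes])
  have hsub : (hU.primeIdealOf ⟨y, hyU⟩).asIdeal.primeCompl ≤ (hU.primeIdealOf ⟨x, hxU⟩).asIdeal.primeCompl := by
    intro a ha
    have hu : IsUnit (algebraMap Γ(X, U) (X.presheaf.stalk x) a) := by
      rw [IsScalarTower.algebraMap_apply Γ(X, U) (X.presheaf.stalk y)]
      exact (IsLocalization.map_units (X.presheaf.stalk y) (⟨a, ha⟩ : (hU.primeIdealOf ⟨y, hyU⟩).asIdeal.primeCompl)).map _
    exact (IsLocalization.AtPrime.isUnit_to_map_iff _ (hU.primeIdealOf ⟨x, hxU⟩).asIdeal a).1 hu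
  haveI := IsLocalization.isLocalization_of_submonoid_le (X.presheaf.stalk y) (X.presheaf.stalk x) _ _ hsub
  have hnz : (hU.primeIdealOf ⟨x, hxU⟩).asIdeal.primeCompl.map (algebraMap Γ(X, U) (X.presheaf.stalk y)) ≤ nonZeroDivisors (X.presheaf.stalk y) := by
    rintro _ ⟨a, ha, rfl⟩
    refine mem_nonZeroDivisors_of_ne_zero fun h0 => ?_
    have h1 : IsUnit (algebraMap Γ(X, U) (X.presheaf.stalk x) a) := IsLocalization.map_units (X.presheaf.stalk x) (⟨a, ha⟩ : (hU.primeIdealOf ⟨x, hxU⟩).asIdeal.primeCompl)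
    rw [IsScalarTower.algebraMap_apply Γ(X, U) (X.presheaf.stalk y), h0, map_zero] at h1
    exact not_isUnit_zero h1
  exact ⟨IsLocalization.isDomain_of_le_nonZeroDivisors _ hnz, isIntegrallyClosed_of_isLocalization _ _ hnz⟩

end Groth.Agent.S10842
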