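import Groth.Statements.S10849
import Mathlib

set_option autoImplicit false
universe u
open VbP1

namespace Groth.Agent.S10849


open Polynomial in
theorem toLaurent_eq_T_mul_invert_reflect {k : Type u} [Field k] (e : ℕ) (f : Polynomial k)
    (hf : f.natDegree ≤ e) :
    Polynomial.toLaurent f =
      LaurentPolynomial.T (e : ℤ) * LaurentPolynomial.invert (Polynomial.toLaurent (Polynomial.reflect e f)) := by
  have hsum : f = ∑ i ∈ Finset.range (e + 1), Polynomial.C (f.coeff i) * Polynomial.X ^ i :=
    Polynomial.as_sum_range_C_mul_X_pow' f (Nat.lt_succ_of_le hf)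
  have hrsum : Polynomial.reflect e f
      = ∑ i ∈ Finset.range (e + 1), Polynomial.C (f.coeff i) * Polynomial.X ^ (e - i) := by
    ext l
    rw [Polynomial.coeff_reflect, Polynomial.finsetSum_coeff]
    simp only [Polynomial.coeff_C_mul_X_pow]
    by_cases hl : l ≤ e
    · rw [Polynomial.revAt_le hl, Finset.sum_eq_single (e - l)]
      · rw [if_pos (by omega)]
      · intro b hb hne
        rw [Finset.mem_range] at hb
        rw [if_neg (by omega)]
      · intro h; exact absurd (Finset.mem_range.mpr (by omega)) h
    · rw [Polynomial.revAt_eq_self_of_lt (by omega), Polynomial.coeff_eq_zero_of_natDegree_lt (by omega)]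
      refine (Finset.sum_eq_zero (fun b hb => ?_)).symm
      rw [Finset.mem_range] at hb
      rw [if_neg (by omega)]
  conv_lhs => rw [hsum]
  rw [hrsum, map_sum, map_sum, map_sum, Finset.mul_sum]
  refine Finset.sum_congr rfl (fun i hi => ?_)
  rw [Finset.mem_range] at hi
  rw [Polynomial.toLaurent_C_mul_X_pow, Polynomial.toLaurent_C_mul_X_pow, map_mul,
    LaurentPolynomial.invert_C, LaurentPolynomial.invert_T, mul_left_comm, ← LaurentPolynomial.T_add]
  congr 2
  omega

open Polynomial in
theorem isUnit_of_toLaurent {k : Type u} [Field k] (q : Polynomial k) (h0 : q.coeff 0 ≠ 0)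
    (hu : IsUnit (Polynomial.toLaurent q)) : IsUnit q := by
  obtain ⟨r, hr⟩ := hu.exists_right_inv
  obtain ⟨n, g, hg⟩ := r.exists_T_pow
  have h1 : Polynomial.toLaurent (q * g) = Polynomial.toLaurent (Polynomial.X ^ n) := by
    rw [map_mul, hg, ← mul_assoc, hr, one_mul, Polynomial.toLaurent_X_pow]
  have h2 : q ∣ Polynomial.X ^ n := ⟨g, (Polynomial.toLaurent_injective h1).symm⟩
  obtain ⟨i, -, hi⟩ := (dvd_prime_pow Polynomial.prime_X n).mp h2
  rcases i with _ | i
  · rw [pow_zero] at hi
    exact hi.symm.isUnit isUnit_one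
  · exfalso
    have : Polynomial.X ∣ q := (dvd_pow_self Polynomial.X (Nat.succ_ne_zero i)).trans hi.symm.dvd
    exact h0 (Polynomial.X_dvd_iff.mp this)

/-- Row reduction: every polynomial matrix with nonzero determinant can be made row reduced. -/
theorem exists_row_reduced {k : Type u} [Field k] {n : ℕ} :
    ∀ (N : ℕ) (B : Matrix (Fin n) (Fin n) (Polynomial k)), B.det ≠ 0 →
      (∑ i, Finset.univ.sup (fun j => (B i j).natDegree)) ≤ N →
      ∃ (P B' : Matrix (Fin n) (Fin n) (Polynomial k)) (e : Fin n → ℕ), IsUnit P ∧ B = P * B' ∧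
        (∀ i j, (B' i j).natDegree ≤ e i) ∧ (Matrix.of fun i j => (B' i j).coeff (e i)).det ≠ 0 := by
  classical
  intro N
  induction N using Nat.strong_induction_on with
  | _ N ih =>
    intro B hB hN
    set e : Fin n → ℕ := fun i => Finset.univ.sup (fun j => (B i j).natDegree) with he
    have hle : ∀ i j, (B i j).natDegree ≤ e i := fun i j =>
      Finset.le_sup (f := fun j => (B i j).natDegree) (Finset.mem_univ j)
    by_cases hdet : (Matrix.of fun i j => (B i j).coeff (e i)).det ≠ 0
    · exact ⟨1, B, e, isUnit_one, (one_mul B).symm, hle, hdet⟩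
    push Not at hdet
    obtain ⟨l, hl0, hl⟩ := Matrix.exists_vecMul_eq_zero_iff.mpr hdet
    obtain ⟨i0, hi0, hmax⟩ := Finset.exists_max_image (Finset.univ.filter (fun i => l i ≠ 0)) e (by
      obtain ⟨i, hi⟩ := Function.ne_iff.mp hl0
      exact ⟨i, by simpa using hi⟩)
    have hli0 : l i0 ≠ 0 := (Finset.mem_filter.mp hi0).2
    let v : Fin n → Polynomial k := fun j =>
      if j = i0 then 0 else Polynomial.C (l j / l i0) * Polynomial.X ^ (e i0 - e j)
    let Nm : Matrix (Fin n) (Fin n) (Polynomial k) := Matrix.of fun i j => if i = i0 then v j else 0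
    have hNN : Nm * Nm = 0 := by
      ext i j : 1
      rw [Matrix.mul_apply, Matrix.zero_apply]
      refine Finset.sum_eq_zero (fun a _ => ?_)
      by_cases ha : a = i0
      · simp [Nm, v, ha]
      · simp [Nm, ha]
    let E : Matrix (Fin n) (Fin n) (Polynomial k) := 1 + Nm
    let Einv : Matrix (Fin n) (Fin n) (Polynomial k) := 1 - Nm
    have hEi : Einv * E = 1 := by
      simp only [E, Einv, sub_mul, one_mul, mul_add, mul_one, hNN, add_zero]; abel
    have hEi' : E * Einv = 1 := by
      simp only [E, Einv, add_mul, one_mul, mul_sub, mul_one, hNN, sub_zero]; abel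
    let B1 := E * B
    have hB1 : ∀ i j, B1 i j = if i = i0 then
        ∑ a, (Polynomial.C (l a / l i0) * Polynomial.X ^ (e i0 - e a)) * B a j else B i j := by
      intro i j
      simp only [B1, E, add_mul, one_mul, Matrix.add_apply, Matrix.mul_apply]
      by_cases hi : i = i0
      · subst hi
        rw [if_pos rfl, ← Finset.add_sum_erase _ _ (Finset.mem_univ i),
          ← Finset.add_sum_erase (a := i) Finset.univ
            (fun a => (Polynomial.C (l a / l i) * Polynomial.X ^ (e i - e a)) * B a j) (Finset.mem_univ i)]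
        simp only [Nm, v, Matrix.of_apply, if_true, zero_mul, zero_add, div_self hli0, Nat.sub_self,
          pow_zero, map_one, one_mul]
        congr 1
        exact Finset.sum_congr rfl (fun a ha => by rw [if_neg (Finset.ne_of_mem_erase ha)])
      · simp [Nm, hi]
    have hsmall : ∀ j m, e i0 ≤ m → (B1 i0 j).coeff m = 0 := by
      intro j m hm
      rw [hB1, if_pos rfl, Polynomial.finsetSum_coeff]
      have hterm : ∀ a, ((Polynomial.C (l a / l i0) * Polynomial.X ^ (e i0 - e a)) * B a j).coeff m
          = if m = e i0 then l a / l i0 * (B a j).coeff (e a) else 0 := by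
        intro a
        by_cases hla : l a = 0
        · simp [hla]
        have hea : e a ≤ e i0 := hmax a (by simp [hla])
        rw [mul_assoc, Polynomial.coeff_C_mul, Polynomial.coeff_X_pow_mul', if_pos (by omega)]
        split_ifs with hme
        · rw [hme, show e i0 - (e i0 - e a) = e a by omega]
        · rw [Polynomial.coeff_eq_zero_of_natDegree_lt (lt_of_le_of_lt (hle a j) (by omega)), mul_zero]
      simp only [hterm]
      split_ifs with hme
      · have := congrFun hl j
        simp only [Matrix.vecMul, dotProduct, Matrix.of_apply, Pi.zero_apply] at this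
        calc ∑ a, l a / l i0 * (B a j).coeff (e a) = (∑ a, l a * (B a j).coeff (e a)) / l i0 := by
              rw [Finset.sum_div]; exact Finset.sum_congr rfl (fun a _ => by ring)
          _ = 0 := by rw [this, zero_div]
      · exact Finset.sum_const_zero
    have hB1det : B1.det ≠ 0 := by
      rw [Matrix.det_mul]
      exact mul_ne_zero ((Matrix.isUnit_iff_isUnit_det E).mp ⟨⟨E, Einv, hEi', hEi⟩, rfl⟩).ne_zero hB
    have hpos : 0 < e i0 := by
      by_contra h0
      exact hB1det (Matrix.det_eq_zero_of_row_eq_zero i0 (fun j =>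
        Polynomial.ext (fun m => by rw [hsmall j m (by omega), Polynomial.coeff_zero])))
    have hlt : (∑ i, Finset.univ.sup (fun j => (B1 i j).natDegree)) < ∑ i, e i := by
      refine Finset.sum_lt_sum (fun i _ => ?_) ⟨i0, Finset.mem_univ _, ?_⟩
      · by_cases hi : i = i0
        · subst hi
          exact Finset.sup_le (fun j _ => Polynomial.natDegree_le_iff_coeff_eq_zero.mpr
            (fun m hm => hsmall j m (le_of_lt hm)))
        · exact Finset.sup_le (fun j _ => by rw [hB1, if_neg hi]; exact hle i j)
      · refine (Finset.sup_lt_iff hpos).mpr (fun j _ => ?_)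
        by_contra h
        push Not at h
        have hne : B1 i0 j ≠ 0 := by intro h0; rw [h0, Polynomial.natDegree_zero] at h; omega
        exact Polynomial.leadingCoeff_ne_zero.mpr hne (hsmall j _ h)
    obtain ⟨P, B', e', hP, hPB, hdeg, hlead⟩ := ih _ (lt_of_lt_of_le hlt hN) B1 hB1det le_rfl
    refine ⟨Einv * P, B', e', IsUnit.mul ⟨⟨Einv, E, hEi, hEi'⟩, rfl⟩ hP, ?_, hdeg, hlead⟩
    rw [mul_assoc, ← hPB, ← mul_assoc, hEi, one_mul]


/-- Let k be a field and n a natural number. For every invertible n × n matrix A with entries in the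
Laurent polynomial ring k[T, T⁻¹] there are matrices P and Q over k[T], invertible over k[T], and
integers d_1 ≥ d_2 ≥ … ≥ d_n (indexed by Fin n, antitone) such that A = P · diag(T^{d_i}) · Q⁻,
where Q⁻ is obtained from Q by the substitution T ↦ T⁻¹ (so Q⁻ is invertible over k[T⁻¹]). -/
theorem result (k : Type u) [Field k] (n : ℕ)
    (A : Matrix (Fin n) (Fin n) (LaurentPolynomial k)) (hA : IsUnit A) :
    ∃ (P Q : Matrix (Fin n) (Fin n) (Polynomial k)) (d : Fin n → ℤ),
      IsUnit P ∧ IsUnit Q ∧ Antitone d ∧
        A = P.map Polynomial.toLaurent * Matrix.diagonal (fun i => LaurentPolynomial.T (d i)) *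
          (Q.map Polynomial.toLaurent).map LaurentPolynomial.invert := by
  classical
  choose N f hf using fun i j => (A i j).exists_T_pow
  let M := Finset.univ.sup (fun ij : Fin n × Fin n => N ij.1 ij.2)
  let B : Matrix (Fin n) (Fin n) (Polynomial k) := Matrix.of fun i j => f i j * Polynomial.X ^ (M - N i j)
  have hBA : ∀ i j, Polynomial.toLaurent (B i j) = A i j * LaurentPolynomial.T (M : ℤ) := by
    intro i j
    have hle : N i j ≤ M := Finset.le_sup (f := fun ij : Fin n × Fin n => N ij.1 ij.2) (Finset.mem_univ (i, j))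
    show Polynomial.toLaurent (f i j * Polynomial.X ^ (M - N i j)) = _
    rw [map_mul, hf, Polynomial.toLaurent_X_pow, mul_assoc, ← LaurentPolynomial.T_add]
    congr 2
    omega
  let φ := (Polynomial.toLaurent : Polynomial k →+* LaurentPolynomial k)
  have hTu : ∀ m : ℤ, IsUnit (LaurentPolynomial.T m : LaurentPolynomial k) := LaurentPolynomial.isUnit_T
  have hBmat : B.map φ = (LaurentPolynomial.T (M : ℤ) : LaurentPolynomial k) • A := by
    ext i j : 1
    rw [Matrix.map_apply, Matrix.smul_apply, smul_eq_mul, mul_comm]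
    exact hBA i j
  have hBdet : IsUnit (Polynomial.toLaurent B.det) := by
    show IsUnit (φ B.det)
    rw [RingHom.map_det, RingHom.mapMatrix_apply, hBmat, Matrix.det_smul]
    exact ((hTu _).pow _).mul ((Matrix.isUnit_iff_isUnit_det A).mp hA)
  have hBdet0 : B.det ≠ 0 := fun h => by simp [h] at hBdet
  obtain ⟨P, B', e, hP, hPB, hdeg, hlead⟩ := exists_row_reduced _ B hBdet0 le_rfl
  let Q : Matrix (Fin n) (Fin n) (Polynomial k) := Matrix.of fun i j => Polynomial.reflect (e i) (B' i j)
  let ι := (LaurentPolynomial.invert : LaurentPolynomial k ≃ₐ[k] LaurentPolynomial k).toRingEquiv.toRingHom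
  have hB'Q : B'.map φ = Matrix.diagonal (fun i => LaurentPolynomial.T (e i : ℤ)) * (Q.map φ).map ι := by
    ext i j : 1
    rw [Matrix.diagonal_mul, Matrix.map_apply, Matrix.map_apply, Matrix.map_apply]
    exact toLaurent_eq_T_mul_invert_reflect (e i) (B' i j) (hdeg i j)
  have hQ0 : Q.det.coeff 0 ≠ 0 := by
    rw [Polynomial.coeff_zero_eq_eval_zero, ← Polynomial.coe_evalRingHom, RingHom.map_det]
    convert hlead using 3
    ext i j
    simp [Q, ← Polynomial.coeff_zero_eq_eval_zero, Polynomial.coeff_reflect, Polynomial.revAt_le]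
  have hQu : IsUnit Q := by
    rw [Matrix.isUnit_iff_isUnit_det]
    refine isUnit_of_toLaurent _ hQ0 ?_
    have h1 : IsUnit (φ B'.det) := by
      have := hBdet
      rw [hPB, Matrix.det_mul, map_mul] at this
      exact isUnit_of_mul_isUnit_right this
    rw [RingHom.map_det, RingHom.mapMatrix_apply, hB'Q, Matrix.det_mul] at h1
    have h2 := isUnit_of_mul_isUnit_right h1
    rw [show ((Q.map φ).map ι).det = ι ((Q.map φ).det) from (RingHom.map_det ι _).symm] at h2
    have h3 := h2.map LaurentPolynomial.invert
    rw [show φ Q.det = (Q.map φ).det from RingHom.map_det φ Q]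
    have h4 : LaurentPolynomial.invert (ι ((Q.map φ).det)) = (Q.map φ).det :=
      LaurentPolynomial.involutive_invert ((Q.map φ).det)
    rwa [h4] at h3
  let d0 : Fin n → ℤ := fun i => (e i : ℤ) - (M : ℤ)
  let σ : Equiv.Perm (Fin n) := Tuple.sort (fun i => -d0 i)
  have hPsub : IsUnit (P.submatrix id σ) := by
    rw [Matrix.isUnit_iff_isUnit_det, Matrix.det_permute']
    exact (((Units.isUnit _).map (Int.castRingHom _))).mul ((Matrix.isUnit_iff_isUnit_det P).mp hP)
  have hQsub : IsUnit (Q.submatrix σ id) := by
    rw [Matrix.isUnit_iff_isUnit_det, Matrix.det_permute]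
    exact (((Units.isUnit _).map (Int.castRingHom _))).mul ((Matrix.isUnit_iff_isUnit_det Q).mp hQu)
  refine ⟨P.submatrix id σ, Q.submatrix σ id, fun i => d0 (σ i), hPsub, hQsub, ?_, ?_⟩
  · intro a b hab
    have := Tuple.monotone_sort (fun i => -d0 i) hab
    simp only [Function.comp_apply] at this
    exact neg_le_neg_iff.mp this
  ext i j : 1
  have key : A = P.map φ * Matrix.diagonal (fun i => LaurentPolynomial.T (d0 i)) * (Q.map φ).map ι := by
    have h1 : B.map φ = P.map φ * B'.map φ := by rw [hPB, Matrix.map_mul]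
    rw [hBmat, hB'Q, ← mul_assoc] at h1
    have hD : Matrix.diagonal (fun i => (LaurentPolynomial.T (d0 i) : LaurentPolynomial k)) =
        (LaurentPolynomial.T (-(M : ℤ)) : LaurentPolynomial k) •
          Matrix.diagonal (fun i => LaurentPolynomial.T (e i : ℤ)) := by
      rw [← Matrix.diagonal_smul]
      congr 1
      funext i
      rw [Pi.smul_apply, smul_eq_mul, ← LaurentPolynomial.T_add]
      congr 1
      show (e i : ℤ) - M = _
      ring
    rw [hD, Matrix.mul_smul, Matrix.smul_mul, ← h1, smul_smul, ← LaurentPolynomial.T_add, neg_add_cancel,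
      LaurentPolynomial.T_zero, one_smul]
  conv_lhs => rw [key]
  rw [Matrix.mul_apply, Matrix.mul_apply]
  simp only [Matrix.mul_diagonal, Matrix.map_apply, Matrix.submatrix_apply, id_eq]
  exact (Equiv.sum_comp σ (fun a => φ (P i a) * LaurentPolynomial.T (d0 a) * ι (φ (Q a j)))).symm

end Groth.Agent.S10849
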