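import Groth.Statements.S10860
import Mathlib.AlgebraicGeometry.ZariskisMainTheorem

set_option autoImplicit false
set_option linter.all false
set_option backward.isDefEq.respectTransparency.types false
universe u
open Mor

namespace Groth.Agent.S10860

open CategoryTheory AlgebraicGeometry in
/-- For a proper morphism f : X → Y, the set V of points of Y with finite fibre is open, and f
restricted over V is finite (stated as the existence of an open subscheme of Y whose underlying set
is exactly V and over which f is finite). -/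
theorem result {X Y : Scheme.{u}} (f : X ⟶ Y) [IsProper f] :
    ∃ U : Y.Opens, (U : Set Y) = {y : Y | (f.base ⁻¹' {y}).Finite} ∧ IsFinite (f ∣_ U) := by
  have key : ∀ y : Y, (f.base ⁻¹' {y}).Finite → ∀ x : X, f x = y → f.QuasiFiniteAt x := by
    rintro _ hfin x rfl
    let φ := f.fiberToSpecResidueField (f x)
    haveI : LocallyOfFiniteType φ := MorphismProperty.pullback_snd (P := @LocallyOfFiniteType) _ _ inferInstance
    haveI hf : Finite (f.fiber (f x)) :=
      Finite.of_equiv _ (f.fiberHomeo (f x)).toEquiv.symm (h := hfin.to_subtype)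
    haveI : LocallyQuasiFinite φ := LocallyQuasiFinite.of_finite_preimage_singleton φ fun _ => Set.toFinite _
    haveI : IsLocallyArtinian (f.fiber (f x)) := IsLocallyArtinian.of_locallyQuasiFinite φ
    rw [Scheme.Hom.quasiFiniteAt_iff_isOpen_singleton_asFiber]
    exact isOpen_discrete _
  let Z : Set Y := f '' {x | ¬ f.QuasiFiniteAt x}
  have hZ : IsClosed Z := f.isClosedMap _ f.isOpen_quasiFiniteAt.isClosed_compl
  let U : Y.Opens := ⟨Zᶜ, hZ.isOpen_compl⟩
  have hq : ∀ x, f x ∈ U → f.QuasiFiniteAt x := fun x hx => by_contra fun h => hx ⟨x, h, rfl⟩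
  haveI : IsProper (f ∣_ U) := IsZariskiLocalAtTarget.restrict ‹_› U
  haveI : LocallyQuasiFinite (f ∣_ U) := by
    haveI : LocallyQuasiFinite ((f ⁻¹ᵁ U).ι ≫ f) := by
      refine LocallyQuasiFinite.of_finite_preimage_singleton _ fun y => ?_
      by_cases hy : y ∈ U
      · have hd : (f ⁻¹' {y}).Finite := by
          refine (f.isCompact_preimage_singleton y).finite ?_
          refine ⟨discreteTopology_iff_isOpen_singleton.2 fun ⟨x, hx⟩ => ?_⟩
          obtain rfl : f x = y := hx
          have h := (Scheme.Hom.quasiFiniteAt_iff_isOpen_singleton_asFiber).1 (hq x hy)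
          rw [← (f.fiberHomeo (f x)).isOpen_image] at h
          simpa [Scheme.Hom.asFiber] using h
        exact (hd.preimage (f ⁻¹ᵁ U).ι.isOpenEmbedding.injective.injOn :)
      · convert Set.finite_empty
        ext x
        simp only [Set.mem_preimage, Set.mem_singleton_iff, Set.mem_empty_iff_false, iff_false]
        exact fun h => hy (h ▸ x.2)
    haveI : LocallyQuasiFinite ((f ∣_ U) ≫ U.ι) := by rw [morphismRestrict_ι]; infer_instance
    exact LocallyQuasiFinite.of_comp (f ∣_ U) U.ι
  refine ⟨U, Set.ext fun y => ⟨fun hy => ?_, fun hy ⟨x, hx, hxy⟩ => hx (key y hy x hxy)⟩,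
    IsFinite.of_isProper_of_locallyQuasiFinite _⟩
  have := (f ∣_ U).finite_preimage_singleton ⟨y, hy⟩
  refine (this.image (f ⁻¹ᵁ U).ι).subset fun x hx => ?_
  have hxy : f x = y := hx
  refine ⟨⟨x, show f x ∈ U from hxy ▸ hy⟩, Subtype.ext ?_, rfl⟩
  exact (congrArg (fun k => k ⟨x, show f x ∈ U from hxy ▸ hy⟩) (morphismRestrict_ι f U)).trans hxy

end Groth.Agent.S10860
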