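import Groth.Statements.S10867
import Groth.Agent.Lib.H3UnramPoint

set_option autoImplicit false
universe u
open Mor

namespace Groth.Agent.S10867
open CategoryTheory.Limits

open CategoryTheory AlgebraicGeometry in
/-- In the case of an algebraically closed base field k and K = k: let X, Y be k-schemes of finite type
and f : X → Y a proper k-morphism which is injective on closed points and such that for every closed
point x of X the ideal generated by the image of the maximal ideal of the local ring at f(x),
together with the square of the maximal ideal at x, is the whole maximal ideal at x (the cotangent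
map is surjective, i.e. the tangent map at x is injective). Then f is a closed immersion. (The
published statement allows any field k and tests points and tangent spaces with values in an
algebraically closed extension K of k; this row is the case K = k.) -/
theorem result (k : Type u) [Field k] [IsAlgClosed k]
    {X Y : Scheme.{u}} (f : X ⟶ Y) (q : Y ⟶ Spec (CommRingCat.of k)) [LocallyOfFiniteType q] [QuasiCompact q]
    [LocallyOfFiniteType (f ≫ q)] [IsProper f]
    (hinj : Set.InjOn f.base {x : X | IsClosed ({x} : Set X)})
    (hT : ∀ x : X, IsClosed ({x} : Set X) →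
      Ideal.map (f.stalkMap x).hom (IsLocalRing.maximalIdeal (Y.presheaf.stalk (f.base x))) ⊔
        IsLocalRing.maximalIdeal (X.presheaf.stalk x) ^ 2 = IsLocalRing.maximalIdeal (X.presheaf.stalk x)) :
    IsClosedImmersion f := by
  haveI : LocallyOfFiniteType f := locallyOfFiniteType_of_comp f q
  haveI : JacobsonSpace ↥X := LocallyOfFiniteType.jacobsonSpace (f ≫ q)
  haveI : IsLocallyNoetherian X := LocallyOfFiniteType.isLocallyNoetherian (f ≫ q)
  have hU : ∀ x : X, IsClosed ({x} : Set X) → ∃ U : X.Opens, x ∈ U ∧ FormallyUnramified (U.ι ≫ f) := by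
    intro x hx
    apply Agent.H3UnramPoint.exists_unram_nhd f x
    have hy : IsClosed ({f x} : Set Y) := by
      rw [← Set.image_singleton]; exact f.isClosedMap _ hx
    have e : (residueFieldIsoBase (f ≫ q) x hx).inv =
        (residueFieldIsoBase q (f x) hy).inv ≫ f.residueFieldMap x := by
      apply Spec.map_injective
      rw [Spec.map_comp, SpecMap_residueFieldIsoBase_inv, SpecMap_residueFieldIsoBase_inv,
        Scheme.Hom.SpecMap_residueFieldMap_fromSpecResidueField_assoc]
    have hsurj : Function.Surjective (f.residueFieldMap x).hom := by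
      intro z
      obtain ⟨a, ha⟩ := (ConcreteCategory.bijective_of_isIso (residueFieldIsoBase (f ≫ q) x hx).inv).2 z
      exact ⟨(residueFieldIsoBase q (f x) hy).inv a, by rw [← ha, e]; rfl⟩
    algebraize [(f.stalkMap x).hom]
    haveI : IsLocalHom (algebraMap (Y.presheaf.stalk (f x)) (X.presheaf.stalk x)) := f.toLRSHom.prop x
    haveI : Algebra.EssFiniteType (Y.presheaf.stalk (f x)) (X.presheaf.stalk x) :=
      RingHom.essFiniteType_algebraMap.mp (LocallyOfFiniteType.stalkMap f x)
    haveI : Algebra.IsSeparable (IsLocalRing.ResidueField (Y.presheaf.stalk (f x)))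
        (IsLocalRing.ResidueField (X.presheaf.stalk x)) := ⟨fun z => by
      obtain ⟨a, rfl⟩ : ∃ a, algebraMap (IsLocalRing.ResidueField (Y.presheaf.stalk (f x)))
          (IsLocalRing.ResidueField (X.presheaf.stalk x)) a = z := by
        obtain ⟨a, ha⟩ := hsurj z
        refine ⟨a, ?_⟩
        rw [← ha]
        obtain ⟨a, rfl⟩ := IsLocalRing.residue_surjective a
        rfl
      exact isSeparable_algebraMap a⟩
    refine RingHom.formallyUnramified_algebraMap.mpr (Algebra.FormallyUnramified.of_map_maximalIdeal ?_)
    refine le_antisymm (IsLocalRing.map_maximalIdeal_le _) ?_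
    refine Submodule.le_of_le_smul_of_le_jacobson_bot (IsNoetherian.noetherian _) (IsLocalRing.jacobson_eq_maximalIdeal ⊥ bot_ne_top).ge ?_
    conv_lhs => rw [← hT x hx]
    rw [pow_two]
    exact sup_le_sup le_rfl le_rfl
  choose U hxU hU using hU
  haveI : FormallyUnramified f := by
    refine IsZariskiLocalAtSource.of_iSup_eq_top (P := @FormallyUnramified) (fun x : {x : X // IsClosed ({x} : Set X)} => U x.1 x.2) ?_ (fun x => hU _ _)
    by_contra hne
    obtain ⟨x, hx1, hx2⟩ := nonempty_inter_closedPoints
      (Z := ((⨆ x : {x : X // IsClosed ({x} : Set X)}, U x.1 x.2 : X.Opens) : Set X)ᶜ)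
      (Set.nonempty_compl.mpr fun h => hne (TopologicalSpace.Opens.ext h))
      (TopologicalSpace.Opens.isOpen _).isClosed_compl.isLocallyClosed
    exact hx1 (TopologicalSpace.Opens.mem_iSup.mpr ⟨⟨x, hx2⟩, hxU x hx2⟩)
  haveI : LocallyOfFiniteType (pullback.fst f f ≫ f ≫ q) := inferInstance
  haveI : JacobsonSpace ↥(pullback f f) := LocallyOfFiniteType.jacobsonSpace (pullback.fst f f ≫ f ≫ q)
  haveI : Surjective (pullback.diagonal f) := by
    refine ⟨Set.range_eq_univ.mp ?_⟩
    by_contra hne
    obtain ⟨z, hz1, hz2⟩ := nonempty_inter_closedPoints (Z := (Set.range (pullback.diagonal f))ᶜ)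
      (Set.nonempty_compl.mpr hne) (pullback.diagonal f).isOpenEmbedding.isOpen_range.isClosed_compl.isLocallyClosed
    apply hz1
    let p := pointOfClosedPoint (pullback.fst f f ≫ f ≫ q) z hz2
    have hp : p ≫ pullback.fst f f ≫ f ≫ q = 𝟙 _ := pointOfClosedPoint_comp _ _ _
    have h12 : p ≫ pullback.fst f f = p ≫ pullback.snd f f := by
      refine ext_of_apply_closedPoint_eq (f ≫ q) ?_ ?_ ?_
      · rw [Category.assoc]; exact hp
      · rw [Category.assoc, ← reassoc_of% (pullback.condition (f := f) (g := f))]; exact hp
      · simp only [Scheme.Hom.comp_apply, p, pointOfClosedPoint_apply]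
        refine hinj ?_ ?_ ?_
        · show IsClosed _; rw [← Set.image_singleton]; exact (pullback.fst f f).isClosedMap _ hz2
        · show IsClosed _; rw [← Set.image_singleton]; exact (pullback.snd f f).isClosedMap _ hz2
        · show (pullback.fst f f ≫ f) z = (pullback.snd f f ≫ f) z
          rw [pullback.condition]
    have hd : (p ≫ pullback.fst f f) ≫ pullback.diagonal f = p := by
      apply pullback.hom_ext
      · simp
      · simp [h12]
    refine ⟨(p ≫ pullback.fst f f) (IsLocalRing.closedPoint k), ?_⟩
    rw [← Scheme.Hom.comp_apply, hd]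
    exact pointOfClosedPoint_apply _ _ _ _
  haveI : IsIso (pullback.diagonal f) := (isIso_iff_isOpenImmersion_and_surjective _).mpr ⟨inferInstance, inferInstance⟩
  exact (IsClosedImmersion.iff_isProper_and_mono (f := f)).mpr ⟨inferInstance, (pullback.isIso_diagonal_iff f).mp inferInstance⟩

end Groth.Agent.S10867
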