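import Groth.Statements.S10868


set_option autoImplicit false
universe u
open Mor

namespace Groth.Agent.S10868

open CategoryTheory AlgebraicGeometry in
/-- f : X → Y is a finite morphism exactly when it is proper and quasi-affine (quasi-compact, with the
inverse image of every affine open subscheme of Y a quasi-affine scheme). -/
theorem result {X Y : Scheme.{u}} (f : X ⟶ Y) :
    IsFinite f ↔ IsProper f ∧ Mor2.IsQuasiAffine f := by
  constructor
  · intro h
    refine ⟨inferInstance, inferInstance, fun V hV => ?_⟩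
    haveI : IsAffine (f ⁻¹ᵁ V).toScheme := IsAffineHom.isAffine_preimage _ hV
    infer_instance
  · rintro ⟨hp, hq, hqa⟩
    refine (IsFinite.iff_isProper_and_isAffineHom (f := f)).mpr ⟨hp, ⟨fun V hV => ?_⟩⟩
    haveI := hqa V hV
    haveI : IsAffine V.toScheme := hV
    let g := f ∣_ V
    haveI : IsProper g := IsZariskiLocalAtTarget.restrict hp V
    haveI : IsProper ((f ⁻¹ᵁ V).toScheme.toSpecΓ ≫ Spec.map g.appTop) := by
      rw [← Scheme.toSpecΓ_naturality]
      infer_instance
    haveI : IsProper (f ⁻¹ᵁ V).toScheme.toSpecΓ := IsProper.of_comp _ (Spec.map g.appTop)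
    haveI : IsClosedImmersion (f ⁻¹ᵁ V).toScheme.toSpecΓ :=
      IsClosedImmersion.of_isPreimmersion _ (f ⁻¹ᵁ V).toScheme.toSpecΓ.isClosedMap.isClosed_range
    exact isAffine_of_isAffineHom (f ⁻¹ᵁ V).toScheme.toSpecΓ

end Groth.Agent.S10868
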