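import Groth.Statements.S10871
import Mathlib

set_option autoImplicit false
universe u
open AlgebraicGeometry
open Curves

namespace Groth.Agent.S10871

/-- Every open subscheme of the spectrum of a Dedekind domain is affine. -/
theorem result (A : Type u) [CommRing A] [IsDedekindDomain A]
    (U : (Spec (CommRingCat.of A)).Opens) : IsAffineOpen U := by
  obtain ⟨s, hs⟩ := (PrimeSpectrum.isClosed_iff_zeroLocus _).1 (U.2.isClosed_compl)
  rcases eq_or_ne (Ideal.span s) ⊥ with hI | hI
  · have : U = ⊥ := by
      ext y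
      simp only [TopologicalSpace.Opens.coe_bot, Set.mem_empty_iff_false, iff_false]
      intro hy
      have : y ∈ ((U : Set (Spec (CommRingCat.of A)))ᶜ) := by
        rw [show ((U : Set (Spec (CommRingCat.of A)))ᶜ) = PrimeSpectrum.zeroLocus s from hs]
        intro z hz
        have : z ∈ Ideal.span s := Ideal.subset_span hz
        rw [hI, Ideal.mem_bot] at this
        rw [this]; exact y.asIdeal.zero_mem
      exact this hy
    rw [this]; exact isAffineOpen_bot _
  obtain ⟨a, haI, ha0⟩ := Submodule.exists_mem_ne_zero_of_ne_bot hI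
  obtain ⟨J, hJ⟩ : Ideal.span s ∣ Ideal.span {a} := Ideal.dvd_iff_le.2 ((Ideal.span_singleton_le_iff_mem _).2 haI)
  have key : ∀ p : Spec (CommRingCat.of A), ∃ i ∈ Ideal.span s, ∃ b : A, b ∉ p.asIdeal ∧ ∀ z ∈ Ideal.span s, ∃ c, z * b = i * c := by
    intro p
    by_contra hc
    push Not at hc
    have hle : Ideal.span s * J ≤ Ideal.span {a} * p.asIdeal := by
      refine Ideal.mul_le.2 fun i hi j hj => ?_
      obtain ⟨b, hb⟩ := Ideal.mem_span_singleton'.1 (hJ ▸ Ideal.mul_mem_mul hi hj : i * j ∈ Ideal.span {a})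
      by_cases hbp : b ∈ p.asIdeal
      · rw [← hb, mul_comm b a]; exact Ideal.mul_mem_mul (Ideal.mem_span_singleton_self a) hbp
      · obtain ⟨z, hz, hz'⟩ := hc i hi b hbp
        obtain ⟨c, hc'⟩ := Ideal.mem_span_singleton'.1 (hJ ▸ Ideal.mul_mem_mul hz hj : z * j ∈ Ideal.span {a})
        exact absurd (mul_left_cancel₀ ha0 (by linear_combination (z : A) * hb - (i : A) * hc' : a * (z * b) = a * (i * c))) (hz' c)
    rw [← hJ] at hle
    have := hle (Ideal.mem_span_singleton_self a)
    obtain ⟨b, hb, hab⟩ := Ideal.mem_span_singleton_mul.1 this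
    exact p.isPrime.ne_top ((Ideal.eq_top_iff_one _).2 (by
      rwa [← mul_left_cancel₀ ha0 (hab.trans (mul_one a).symm)]))
  choose i hi b hb hib using key
  haveI : IsAffineHom U.ι := by
    refine isAffineHom_of_forall_exists_isAffineOpen _ fun p =>
      ⟨(Spec (CommRingCat.of A)).basicOpen ((Scheme.ΓSpecIso (CommRingCat.of A)).inv (b p)), ?_, (isAffineOpen_top _).basicOpen _, ?_⟩
    · rw [basicOpen_eq_of_affine (R := CommRingCat.of A) (b p)]; exact hb p
    · rw [← U.ι.isAffineOpen_iff_of_isOpenImmersion, Scheme.Hom.image_preimage_eq_opensRange_inf, Scheme.Opens.opensRange_ι]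
      have : U ⊓ (Spec (CommRingCat.of A)).basicOpen ((Scheme.ΓSpecIso (CommRingCat.of A)).inv (b p)) =
          (Spec (CommRingCat.of A)).basicOpen ((Scheme.ΓSpecIso (CommRingCat.of A)).inv (b p * i p)) := by
        rw [basicOpen_eq_of_affine (R := CommRingCat.of A) (b p), basicOpen_eq_of_affine (R := CommRingCat.of A) (b p * i p)]
        refine TopologicalSpace.Opens.ext (Set.ext fun q => ?_)
        show (q ∈ U ∧ b p ∉ q.asIdeal) ↔ b p * i p ∉ q.asIdeal
        constructor
        · rintro ⟨hqU, hqb⟩ hbi
          have hqz : q ∈ PrimeSpectrum.zeroLocus s := by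
            intro z hz
            obtain ⟨c, hc⟩ := hib p z (Ideal.subset_span hz)
            have hip : i p ∈ q.asIdeal := (q.isPrime.mem_or_mem hbi).resolve_left hqb
            have : z * b p ∈ q.asIdeal := hc ▸ q.asIdeal.mul_mem_right c hip
            exact (q.isPrime.mem_or_mem this).resolve_right hqb
          rw [← hs] at hqz
          exact hqz hqU
        · intro h
          refine ⟨?_, fun hb' => h (q.asIdeal.mul_mem_right _ hb')⟩
          by_contra hqU
          have hqz : q ∈ PrimeSpectrum.zeroLocus s := hs ▸ hqU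
          exact h (q.asIdeal.mul_mem_left _ ((Ideal.span_le (I := q.asIdeal)).2 hqz (hi p)))
      rw [this]; exact (isAffineOpen_top _).basicOpen _
  exact isAffine_of_isAffineHom U.ι

end Groth.Agent.S10871
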