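import Groth.Statements.S10876
import Mathlib
import Groth.Agent.Lib.H2ArtFlat
import Groth.Agent.Lib.H2LocalCrit

set_option autoImplicit false
universe u
open TensorProduct
open CAlg

namespace Groth.Agent.S10876
set_option maxHeartbeats 4000000
open TensorProduct

/-- Descent of flatness along finite injective maps: let A → B be a local homomorphism of Noetherian
local rings and A → A' an injective ring homomorphism making A' a finite A-module. Then B is A-flat
if and only if the base change A' ⊗_A B is A'-flat. -/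
theorem result (A B A' : Type u) [CommRing A] [CommRing B]
    [CommRing A'] [IsNoetherianRing A] [IsLocalRing A] [IsNoetherianRing B] [IsLocalRing B]
    [Algebra A B] [IsLocalHom (algebraMap A B)] [Algebra A A'] [Module.Finite A A']
    (hinj : Function.Injective (algebraMap A A')) :
    Module.Flat A B ↔ Module.Flat A' (A' ⊗[A] B) := by
  refine ⟨fun _ => Module.Flat.baseChange A A' B, fun hflat => ?_⟩
  set m := IsLocalRing.maximalIdeal A
  have hm : m.map (algebraMap A B) ≤ Ideal.jacobson ⊥ := by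
    rw [IsLocalRing.jacobson_eq_maximalIdeal (⊥ : Ideal B) bot_ne_top]
    exact ((IsLocalRing.local_hom_TFAE (algebraMap A B)).out 0 2).1 ‹IsLocalHom (algebraMap A B)›
  refine Groth.Agent.H2LocalCrit.flat_of_flat_pow (S := B) m hm fun n hn => ?_
  -- Artin-Rees
  let L := LinearMap.range (Algebra.linearMap A A')
  obtain ⟨c, hc⟩ := Ideal.exists_pow_inf_eq_pow_smul (M := A') m L
  let K := ((m ^ (n + c)).map (algebraMap A A'))
  let J := K.comap (algebraMap A A')
  have hJn : J ≤ m ^ n := by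
    intro x hx
    have h0 : algebraMap A A' x ∈ m ^ (n + c) • (⊤ : Submodule A A') := by
      rw [Ideal.smul_top_eq_map]; exact hx
    have h1 : algebraMap A A' x ∈ m ^ (n + c - c) • L := by
      refine (Submodule.smul_mono le_rfl (inf_le_right (a := (m ^ c • ⊤ : Submodule A A'))) : m ^ (n + c - c) • (m ^ c • ⊤ ⊓ L) ≤ m ^ (n + c - c) • L) ?_
      rw [← hc _ (by omega)]
      exact ⟨h0, x, rfl⟩
    rw [Nat.add_sub_cancel] at h1
    have h2 : algebraMap A A' x ∈ Submodule.map (Algebra.linearMap A A') (m ^ n) := by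
      have : (m ^ n • L) = Submodule.map (Algebra.linearMap A A') (m ^ n) := by
        rw [show L = Submodule.map (Algebra.linearMap A A') ⊤ from (Submodule.map_top _).symm, ← Submodule.map_smul'', smul_eq_mul, Ideal.mul_top]
      rwa [this] at h1
    obtain ⟨y, hy, hyx⟩ := h2
    exact hinj hyx ▸ hy
  have hinjJ : Function.Injective (algebraMap (A ⧸ J) (A' ⧸ K)) := Ideal.quotientMap_injective
  have hJm : m ^ (n + c) ≤ J := Ideal.le_comap_map
  haveI : IsArtinianRing (A ⧸ J) := IsLocalRing.quotient_artinian_of_mem_minimalPrimes_of_isLocalRing J ⟨⟨inferInstance, fun x hx => by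
      by_contra hh
      have hu : IsUnit x := IsLocalRing.notMem_maximalIdeal.1 hh
      have h1 : (1 : A) ∈ m ^ n := hJn (J.eq_top_of_isUnit_mem hx hu ▸ trivial)
      exact (IsLocalRing.maximalIdeal.isMaximal A).isPrime.one_notMem (Ideal.pow_le_self hn.ne' h1)⟩,
    fun q hq _ => fun x hx => hq.1.mem_of_pow_mem _ (hq.2 (hJm (Ideal.pow_mem_pow hx _)))⟩
  haveI : Module.Flat (A' ⧸ K) ((A' ⧸ K) ⊗[A'] (A' ⊗[A] B)) := Module.Flat.baseChange A' (A' ⧸ K) _
  haveI : Module.Flat (A' ⧸ K) ((A' ⧸ K) ⊗[A ⧸ J] ((A ⧸ J) ⊗[A] B)) :=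
    Module.Flat.of_linearEquiv ((AlgebraTensorModule.cancelBaseChange A (A ⧸ J) (A' ⧸ K) (A' ⧸ K) B).trans
      (AlgebraTensorModule.cancelBaseChange A A' (A' ⧸ K) (A' ⧸ K) B).symm)
  haveI : Module.Flat (A ⧸ J) ((A ⧸ J) ⊗[A] B) :=
    Groth.Agent.H2ArtFlat.flat_of_baseChange (R := A ⧸ J) (S := A' ⧸ K) hinjJ
  letI := (Ideal.Quotient.factor hJn).toAlgebra
  haveI : IsScalarTower A (A ⧸ J) (A ⧸ m ^ n) := IsScalarTower.of_algebraMap_eq fun _ => rfl
  haveI : Module.Flat (A ⧸ m ^ n) ((A ⧸ m ^ n) ⊗[A ⧸ J] ((A ⧸ J) ⊗[A] B)) := Module.Flat.baseChange (A ⧸ J) (A ⧸ m ^ n) _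
  exact Module.Flat.of_linearEquiv (AlgebraTensorModule.cancelBaseChange A (A ⧸ J) (A ⧸ m ^ n) (A ⧸ m ^ n) B).symm

end Groth.Agent.S10876
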