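import Groth.Statements.S10886
import Mathlib

set_option autoImplicit false
universe u
open CategoryTheory AlgebraicGeometry
open Curves

namespace Groth.Agent.S10886

/-- In an irreducible Noetherian scheme of dimension one every constructible subset is either a finite
set of closed points or the complement of such a set; in particular it is open or closed. -/
theorem result {X : Scheme.{u}} [IsNoetherian X]
    [IrreducibleSpace X] (hX : topologicalKrullDim X = 1) (s : Set X) (hs : Topology.IsConstructible s) :
    (s.Finite ∧ (∀ x ∈ s, IsClosed ({x} : Set X))) ∨ (sᶜ.Finite ∧ ∀ x ∈ sᶜ, IsClosed ({x} : Set X)) := by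
  have hpt : ∀ x : X, x ≠ genericPoint X → IsClosed ({x} : Set X) := by
    intro x hx
    apply isClosed_of_closure_subset
    intro y hy
    by_contra hne
    let C : X → TopologicalSpace.IrreducibleCloseds X := fun z =>
      ⟨closure {z}, isIrreducible_singleton.closure, isClosed_closure⟩
    have hlt : ∀ a b : X, a ∈ closure ({b} : Set X) → a ≠ b → C a < C b := by
      intro a b hab hne'
      refine lt_of_le_of_ne (show closure ({a} : Set X) ⊆ closure {b} from
        closure_minimal (Set.singleton_subset_iff.mpr hab) isClosed_closure) (fun e => hne' ?_)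
      exact ((show IsGenericPoint a (closure {a}) from rfl).eq
        (show IsGenericPoint b (closure {a}) from (congrArg (fun c : TopologicalSpace.IrreducibleCloseds X => (c : Set X)) e).symm))
    let l : LTSeries (TopologicalSpace.IrreducibleCloseds X) :=
      ((RelSeries.singleton _ (C y)).snoc (C x) (hlt y x hy hne)).snoc (C (genericPoint X))
        (by simpa using hlt x (genericPoint X) (by simp [genericPoint_closure]) hx)
    have h2 := Order.LTSeries.length_le_krullDim l
    rw [show Order.krullDim (TopologicalSpace.IrreducibleCloseds X) = 1 from hX] at h2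
    simp [l] at h2
  have hclosed : ∀ Z : Set X, IsClosed Z → genericPoint X ∉ Z → Z.Finite ∧ ∀ x ∈ Z, IsClosed ({x} : Set X) := by
    intro Z hZ hg
    have hall : ∀ x ∈ Z, IsClosed ({x} : Set X) := fun x hx => hpt x (fun e => hg (e ▸ hx))
    refine ⟨?_, hall⟩
    obtain ⟨S, hfin, -, hirr, rfl⟩ :=
      TopologicalSpace.NoetherianSpace.exists_finite_set_isClosed_irreducible hZ
    refine hfin.sUnion fun T hT => ?_
    have hc : closure T ⊆ ⋃₀ S := closure_minimal (Set.subset_sUnion_of_mem hT) hZ
    have hmem : (hirr T hT).genericPoint ∈ ⋃₀ S :=
      hc (by rw [← (hirr T hT).genericPoint_closure_eq]; exact subset_closure rfl)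
    have : closure T = {(hirr T hT).genericPoint} := by
      rw [← (hirr T hT).genericPoint_closure_eq, (hall _ hmem).closure_eq]
    exact (Set.finite_singleton _).subset (this ▸ subset_closure)
  induction hs using Topology.IsConstructible.empty_union_induction with
  | open_retrocompact U hUopen hUcomp =>
    rcases U.eq_empty_or_nonempty with rfl | hne
    · left; simp
    · right
      exact hclosed _ hUopen.isClosed_compl (fun h => h (((genericPoint_spec X).mem_open_set_iff hUopen).mpr (by simpa using hne)))
  | union s hs t ht ihs iht =>
    rcases ihs with ⟨h1, h2⟩ | ⟨h1, h2⟩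
    · rcases iht with ⟨h3, h4⟩ | ⟨h3, h4⟩
      · exact Or.inl ⟨h1.union h3, fun x hx => hx.elim (h2 x) (h4 x)⟩
      · exact Or.inr ⟨h3.subset (by simp), fun x hx => h4 x (fun h => hx (Or.inr h))⟩
    · exact Or.inr ⟨h1.subset (by simp), fun x hx => h2 x (fun h => hx (Or.inl h))⟩
  | compl s hs ih =>
    rw [compl_compl]; exact ih.symm

end Groth.Agent.S10886
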