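import Groth.Statements.S10898
import Mathlib

set_option autoImplicit false
universe u
open Polynomial
open WDiv

namespace Groth.Agent.S10898

/-- Let A be a Noetherian integral domain and P a prime ideal of height 1 of the polynomial ring A[X].
Then either P meets A in 0 only, or its contraction p = P ∩ A is a prime of height 1 of A and P is
the extension p·A[X]. (The published lemma also assumes A regular in codimension 1; that hypothesis
is not used for this assertion.) -/
theorem result (A : Type u) [CommRing A] [IsDomain A]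
    [IsNoetherianRing A] (P : Ideal A[X]) [P.IsPrime] (hP : P.height = 1) :
    P.comap (C : A →+* A[X]) = ⊥ ∨
      ((P.comap (C : A →+* A[X])).height = 1 ∧ P = (P.comap (C : A →+* A[X])).map C) := by
  rcases eq_or_ne (P.comap (C : A →+* A[X])) ⊥ with hp | hp
  · exact Or.inl hp
  right
  set p := P.comap (C : A →+* A[X]) with hpdef
  haveI : p.IsPrime := Ideal.comap_isPrime _ _
  have hQP : p.map C ≤ P := Ideal.map_comap_le
  haveI : (p.map C).IsPrime := Ideal.isPrime_map_C_of_isPrime
  haveI : P.FiniteHeight := P.finiteHeight_iff.mpr (Or.inr (by simp [hP]))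
  have hne : ∀ q : Ideal A, q ≠ ⊥ → q.map (C : A →+* A[X]) ≠ ⊥ := fun q hq h =>
    hq ((Ideal.map_eq_bot_iff_of_injective C_injective).mp h)
  have hQ : p.map C = P := by
    by_contra h
    have := Ideal.height_strict_mono_of_isPrime_of_isPrime (lt_of_le_of_ne hQP h)
    rw [hP, Order.lt_one_iff, Ideal.height_eq_zero_iff_eq_bot] at this
    exact hne p hp this
  refine ⟨le_antisymm ?_ (Order.one_le_iff_ne_zero.mpr fun h => hp (Ideal.height_eq_zero_iff_eq_bot.mp h)), hQ.symm⟩
  refine (Ideal.height_le_iff (n := 1)).mpr fun q hq hlt => ?_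
  have hq0 : q = ⊥ := by
    by_contra h
    haveI : (q.map (C : A →+* A[X])).IsPrime := Ideal.isPrime_map_C_of_isPrime
    have hne' : q.map (C : A →+* A[X]) ≠ P := by
      intro e
      apply hlt.ne
      ext a
      have e1 : C a ∈ q.map (C : A →+* A[X]) ↔ a ∈ q := by
        refine ⟨fun ha => ?_, Ideal.mem_map_of_mem _⟩
        simpa using Ideal.mem_map_C_iff.mp ha 0
      rw [← e1, e]; rfl
    have := Ideal.height_strict_mono_of_isPrime_of_isPrime
      (lt_of_le_of_ne ((Ideal.map_mono hlt.le).trans hQP) hne')
    rw [hP, Order.lt_one_iff, Ideal.height_eq_zero_iff_eq_bot] at this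
    exact hne q h this
  simp [hq0]

end Groth.Agent.S10898
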