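import Mathlib
import Groth.Statements.S10899
-- import your own Groth.Agent.* helpers here

set_option autoImplicit false
universe u
open Polynomial
open WDiv

namespace Groth.Agent.S10899

/-- Let A be a Noetherian integral domain which is regular in codimension 1, i.e. whose localization at
every prime ideal of height 1 is a discrete valuation ring. Then the polynomial ring A[X] is regular
in codimension 1 as well: its localization at every prime ideal of height 1 is a discrete valuation
ring. -/
theorem result (A : Type u) [CommRing A]
    [IsDomain A] [IsNoetherianRing A]
    (hR1 : ∀ (p : Ideal A) [p.IsPrime], p.height = 1 → IsDiscreteValuationRing (Localization.AtPrime p))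
    (P : Ideal A[X]) [P.IsPrime] (hP : P.height = 1) :
    IsDiscreteValuationRing (Localization.AtPrime P) := by
  classical
  let p : Ideal A := P.comap Polynomial.C
  haveI : IsRegularRing (Localization.AtPrime p) := by
    by_cases hp : p = ⊥
    · haveI : IsPrincipalIdealRing (Localization.AtPrime p) := by
        have hf : IsField (Localization.AtPrime p) := by
          simp [IsLocalRing.isField_iff_maximalIdeal_eq, ← Localization.AtPrime.map_eq_maximalIdeal, hp]
        letI := hf.toField
        infer_instance
      infer_instance
    · have h1 : p.height ≤ 1 := by
        haveI : P.LiesOver p := ⟨rfl⟩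
        rw [← hP, Ideal.height_eq_height_add_of_liesOver_of_hasGoingDown p P]
        exact le_self_add
      have h2 : 1 ≤ p.height := by
        haveI : (⊥ : Ideal A).IsPrime := Ideal.isPrime_bot
        exact le_add_self.trans (Ideal.height_add_one_le_of_lt_of_isPrime (bot_lt_iff_ne_bot.mpr hp))
      haveI := hR1 p (le_antisymm h1 h2)
      infer_instance
  letI := Polynomial.algebra A (Localization.AtPrime p)
  haveI : IsLocalization (p.primeCompl.map Polynomial.C) (Localization.AtPrime p)[X] :=
    Polynomial.isLocalization p.primeCompl _
  have hdisj : Disjoint (↑(p.primeCompl.map Polynomial.C) : Set A[X]) (P : Set A[X]) := by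
    refine Set.disjoint_left.mpr ?_
    rintro _ ⟨a, ha, rfl⟩ hx
    exact ha hx
  let P' : Ideal (Localization.AtPrime p)[X] := P.map (algebraMap A[X] (Localization.AtPrime p)[X])
  haveI : P'.IsPrime := IsLocalization.isPrime_of_isPrime_disjoint (p.primeCompl.map Polynomial.C) _ P inferInstance hdisj
  have hcomap : P'.comap (algebraMap A[X] (Localization.AtPrime p)[X]) = P :=
    IsLocalization.comap_map_of_isPrime_disjoint (p.primeCompl.map Polynomial.C) _ inferInstance hdisj
  haveI : IsLocalization.AtPrime (Localization.AtPrime P') P := by
    have := IsLocalization.isLocalization_isLocalization_atPrime_isLocalization (p.primeCompl.map Polynomial.C)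
      (S := (Localization.AtPrime p)[X]) (T := Localization.AtPrime P') P'
    simpa only [hcomap] using this
  haveI : IsRegularLocalRing (Localization.AtPrime P') := inferInstance
  let eP := (IsLocalization.algEquiv P.primeCompl (Localization.AtPrime P') (Localization.AtPrime P)).toRingEquiv
  haveI : IsRegularLocalRing (Localization.AtPrime P) := @IsRegularLocalRing.of_ringEquiv (Localization.AtPrime P') _ this (Localization.AtPrime P) _ eP
  refine IsLocalRing.finrank_CotangentSpace_eq_one_iff.mp ?_
  have h := (IsRegularLocalRing.iff_finrank_cotangentSpace (Localization.AtPrime P)).mp inferInstance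
  rw [IsLocalization.AtPrime.ringKrullDim_eq_height P (Localization.AtPrime P), hP] at h
  exact_mod_cast h

end Groth.Agent.S10899
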