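import Groth.Statements.S10902
import Mathlib
import Groth.Agent.Lib.H8AffDim

set_option autoImplicit false
universe u
open TensorProduct
open SmVar

namespace Groth.Agent.S10902


open scoped IntermediateField.algebraAdjoinAdjoin in
/-- The transcendence degree of a finitely generated field extension is at most the number of
differentials needed to span. -/
theorem trdeg_le_finrank (k L : Type u) [Field k] [Field L] [Algebra k L] [Algebra.EssFiniteType k L] :
    Algebra.trdeg k L ≤ (Module.finrank L (Ω[L⁄k]) : Cardinal) := by
  classical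
  haveI : Module.Finite L (Ω[L⁄k]) := inferInstance
  obtain ⟨b, hb, hbspan, hbli⟩ := exists_linearIndependent L (Set.range (KaehlerDifferential.D k L))
  rw [KaehlerDifferential.span_range_derivation] at hbspan
  haveI : Finite b := hbli.finite
  haveI := Fintype.ofFinite b
  choose x hx using fun y : b => hb y.2
  let K' := IntermediateField.adjoin k (Set.range x)
  haveI : Subsingleton (Ω[L⁄K']) := by
    refine subsingleton_of_forall_eq 0 fun w => ?_
    obtain ⟨v, rfl⟩ := KaehlerDifferential.map_surjective k K' L w
    have hv : v ∈ Submodule.span L b := hbspan ▸ Submodule.mem_top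
    induction hv using Submodule.span_induction with
    | mem y hy =>
      have hxy : KaehlerDifferential.D k L (x ⟨y, hy⟩) = y := hx ⟨y, hy⟩
      rw [← hxy, KaehlerDifferential.map_D]
      exact Derivation.map_algebraMap (KaehlerDifferential.D K' L)
        (⟨x ⟨y, hy⟩, IntermediateField.subset_adjoin k _ ⟨⟨y, hy⟩, rfl⟩⟩ : K')
    | zero => simp
    | add _ _ _ _ h1 h2 => rw [map_add, h1, h2, add_zero]
    | smul a _ _ h => rw [map_smul, h, smul_zero]
  haveI : Algebra.FormallyUnramified K' L := ⟨inferInstance⟩
  haveI : Algebra.EssFiniteType K' L := Algebra.EssFiniteType.of_comp k K' L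
  haveI : Algebra.IsSeparable K' L := Algebra.FormallyUnramified.isSeparable K' L
  have h1 : Algebra.trdeg k L = Algebra.trdeg k K' := by
    rw [← trdeg_add_eq k K' (A := L), trdeg_eq_zero (R := K'), add_zero]
  have h2 : Algebra.trdeg k K' ≤ Cardinal.mk (Set.range x) := by
    haveI : Algebra.IsAlgebraic (Algebra.adjoin k (Set.range x)) L := by
      haveI : IsFractionRing (Algebra.adjoin k (Set.range x)) K' := inferInstance
      haveI : Algebra.IsAlgebraic (Algebra.adjoin k (Set.range x)) K' :=
        IsLocalization.isAlgebraic _ (nonZeroDivisors (Algebra.adjoin k (Set.range x)))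
      exact Algebra.IsAlgebraic.trans (Algebra.adjoin k (Set.range x)) K' L
    rw [← h1]
    exact Algebra.IsAlgebraic.trdeg_le_cardinalMk k (Set.range x)
  rw [h1]
  refine h2.trans (Cardinal.mk_range_le.trans ?_)
  rw [Cardinal.mk_fintype]
  exact_mod_cast hbli.fintype_card_le_finrank

/-- Let k be a field and A a k-algebra of finite type (X = Spec A a k-scheme of finite type), P a prime
ideal of A, and suppose P contains a prime q with dim A/q ≥ n, i.e. the point P lies on an
irreducible component of X of dimension at least n. Then the fibre at P of the sheaf of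
differentials of X over k has dimension at least n over the residue field: dim_{κ(P)} (κ(P) ⊗_A
Ω_{A/k}) ≥ n. (The published statement asks every irreducible component of X to have dimension ≥ n
and concludes this at every point.) -/
theorem result (k : Type u) [Field k]
    (A : Type u) [CommRing A] [Algebra k A] [Algebra.FiniteType k A] (n : ℕ)
    (P : Ideal A) [P.IsPrime] (q : Ideal A) [q.IsPrime] (hqP : q ≤ P)
    (hq : (n : WithBot ℕ∞) ≤ ringKrullDim (A ⧸ q)) :
    n ≤ Module.finrank P.ResidueField (P.ResidueField ⊗[A] (Ω[A⁄k])) := by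
  classical
  haveI : Module.Finite A (Ω[A⁄k]) := inferInstance
  -- generators near P
  let κ := P.ResidueField
  let mk1 : Ω[A⁄k] →ₗ[A] κ ⊗[A] Ω[A⁄k] := TensorProduct.mk A κ (Ω[A⁄k]) 1
  have hspan : Submodule.span κ (Set.range mk1) = ⊤ := by
    rw [eq_top_iff]
    rintro z -
    induction z using TensorProduct.induction_on with
    | zero => exact Submodule.zero_mem _
    | tmul a w =>
      have : a ⊗ₜ[A] w = a • ((1 : κ) ⊗ₜ[A] w) := by rw [TensorProduct.smul_tmul', smul_eq_mul, mul_one]
      rw [this]; exact Submodule.smul_mem _ a (Submodule.subset_span ⟨w, rfl⟩)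
    | add a b ha hb => exact Submodule.add_mem _ ha hb
  obtain ⟨b, hb, hbspan, hbli⟩ := exists_linearIndependent κ (Set.range mk1)
  rw [hspan] at hbspan
  haveI : Finite b := hbli.finite
  haveI := Fintype.ofFinite b
  choose e he using fun y : b => hb y.2
  let N : Submodule A (Ω[A⁄k]) := Submodule.span A (Set.range e)
  have hPsupp : (⟨P, inferInstance⟩ : PrimeSpectrum A) ∉ Module.support A (Ω[A⁄k] ⧸ N) := by
    rw [Module.mem_support_iff_nontrivial_residueField_tensorProduct, not_nontrivial_iff_subsingleton]
    refine subsingleton_of_forall_eq 0 fun z => ?_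
    obtain ⟨w, rfl⟩ : ∃ w, LinearMap.baseChange κ N.mkQ w = z :=
      LinearMap.lTensor_surjective κ (Submodule.mkQ_surjective N) z
    have hw : w ∈ Submodule.span κ b := hbspan ▸ Submodule.mem_top
    induction hw using Submodule.span_induction with
    | mem y hy =>
      have hey : mk1 (e ⟨y, hy⟩) = y := he ⟨y, hy⟩
      rw [← hey]
      show (1 : κ) ⊗ₜ[A] N.mkQ (e ⟨y, hy⟩) = 0
      rw [Submodule.mkQ_apply, (Submodule.Quotient.mk_eq_zero N).mpr (Submodule.subset_span ⟨_, rfl⟩), TensorProduct.tmul_zero]
    | zero => simp
    | add _ _ _ _ h1 h2 => rw [map_add, h1, h2, add_zero]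
    | smul a _ _ h => rw [map_smul, h, smul_zero]
  have hqsupp : (⟨q, inferInstance⟩ : PrimeSpectrum A) ∉ Module.support A (Ω[A⁄k] ⧸ N) :=
    fun h => hPsupp (Module.mem_support_mono hqP h)
  let L := q.ResidueField
  rw [Module.mem_support_iff_nontrivial_residueField_tensorProduct, not_nontrivial_iff_subsingleton] at hqsupp
  -- differentials of L are spanned by the images of e
  haveI : Algebra.FormallyUnramified A L := by
    haveI : Algebra.FormallyUnramified A (Localization.AtPrime q) := inferInstance
    exact Algebra.FormallyUnramified.comp A (Localization.AtPrime q) L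
  have hsurj : Function.Surjective (KaehlerDifferential.mapBaseChange k A L) := fun w =>
    (KaehlerDifferential.exact_mapBaseChange_map k A L w).mp (Subsingleton.elim _ _)
  let v : b → Ω[L⁄k] := fun y => KaehlerDifferential.mapBaseChange k A L (1 ⊗ₜ[A] e y)
  have hvspan : Submodule.span L (Set.range v) = ⊤ := by
    rw [eq_top_iff]
    rintro w -
    obtain ⟨z, rfl⟩ := hsurj w
    have hex : Function.Exact (LinearMap.lTensor L N.subtype) (LinearMap.lTensor L N.mkQ) :=
      lTensor_exact L (LinearMap.exact_subtype_mkQ N) (Submodule.mkQ_surjective N)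
    haveI : Subsingleton (L ⊗[A] (Ω[A⁄k] ⧸ N)) := hqsupp
    obtain ⟨z', rfl⟩ := (hex z).mp (Subsingleton.elim _ _)
    induction z' using TensorProduct.induction_on with
    | zero => simp
    | tmul a y =>
      obtain ⟨y, hy⟩ := y
      show KaehlerDifferential.mapBaseChange k A L (a ⊗ₜ[A] y) ∈ _
      have key : ∀ a : L, KaehlerDifferential.mapBaseChange k A L (a ⊗ₜ[A] y) ∈ Submodule.span L (Set.range v) := by
        induction hy using Submodule.span_induction with
        | mem u hu =>
          obtain ⟨i, rfl⟩ := hu
          intro a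
          have : (a ⊗ₜ[A] e i : L ⊗[A] Ω[A⁄k]) = a • ((1 : L) ⊗ₜ[A] e i) := by rw [TensorProduct.smul_tmul', smul_eq_mul, mul_one]
          rw [this, map_smul]
          exact Submodule.smul_mem _ a (Submodule.subset_span ⟨i, rfl⟩)
        | zero => intro a; simp
        | add u1 u2 _ _ h1 h2 => intro a; rw [TensorProduct.tmul_add, map_add]; exact Submodule.add_mem _ (h1 a) (h2 a)
        | smul c u _ h => intro a; rw [← TensorProduct.smul_tmul]; exact h _
      exact key a
    | add a c ha hc => rw [map_add, map_add]; exact Submodule.add_mem _ ha hc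
  have hLd : Module.finrank L (Ω[L⁄k]) ≤ Fintype.card b := by
    rw [← finrank_top L (Ω[L⁄k]), ← hvspan]
    exact finrank_range_le_card v
  have hd : Fintype.card b ≤ Module.finrank κ (κ ⊗[A] Ω[A⁄k]) := hbli.fintype_card_le_finrank
  -- independent elements
  obtain ⟨l, hl⟩ := (Order.le_krullDim_iff (n := n)).mp hq
  obtain ⟨g, hg⟩ := H8AffDim.exists_indep_of_chain (k := k) l
  choose y hy using fun i => Ideal.Quotient.mk_surjective (g (MvPolynomial.X i))
  haveI : Algebra.EssFiniteType k L := Algebra.EssFiniteType.comp k A L
  let φ : MvPolynomial (Fin l.length) k →ₐ[k] L :=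
    (IsScalarTower.toAlgHom k (A ⧸ q) L).comp (MvPolynomial.aeval y)
  have hφ : Function.Injective φ := by
    refine (IsFractionRing.injective (A ⧸ q) L).comp ?_
    have : (Ideal.Quotient.mkₐ k l.head.asIdeal).comp (MvPolynomial.aeval y) = g :=
      MvPolynomial.algHom_ext fun i => by simp [hy]
    intro a c hac
    apply hg
    rw [← this, AlgHom.comp_apply, AlgHom.comp_apply]
    exact congrArg _ hac
  have htr := (trdeg_le_of_injective φ hφ).trans (trdeg_le_finrank k L)
  rw [MvPolynomial.trdeg_of_isDomain, Cardinal.mk_fin, Cardinal.lift_natCast] at htr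
  have hln : l.length ≤ Module.finrank L (Ω[L⁄k]) := by exact_mod_cast htr
  have := hln.trans (hLd.trans hd)
  rw [hl] at this
  exact this

end Groth.Agent.S10902
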