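import Groth.Statements.S10929
import Mathlib

set_option autoImplicit false
universe u
open CategoryTheory CategoryTheory.Limits AlgebraicGeometry
open Variety

namespace Groth.Agent.S10929

/-- Let k be an algebraically closed field of characteristic zero, X and Y integral schemes of finite
type over k and f : X → Y a dominant k-morphism. Then there is a nonempty open subscheme U of X such
that f restricted to U is a smooth morphism U → Y. -/
theorem result (k : Type u) [Field k] [IsAlgClosed k] [CharZero k]
    {X Y : Scheme.{u}} (qX : X ⟶ Spec (CommRingCat.of k)) (qY : Y ⟶ Spec (CommRingCat.of k))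
    [LocallyOfFiniteType qX] [QuasiCompact qX] [LocallyOfFiniteType qY] [QuasiCompact qY]
    [IsIntegral X] [IsIntegral Y] (f : X ⟶ Y) (hf : f ≫ qY = qX) (hdom : DenseRange f.base) :
    ∃ U : X.Opens, (U : Set ↥X).Nonempty ∧ Smooth (U.ι ≫ f) := by
  haveI : IsLocallyNoetherian Y := LocallyOfFiniteType.isLocallyNoetherian qY
  haveI : LocallyOfFiniteType f := by
    haveI : LocallyOfFiniteType (f ≫ qY) := by rw [hf]; infer_instance
    exact locallyOfFiniteType_of_comp f qY
  haveI : LocallyOfFinitePresentation f := inferInstance
  set ξ := genericPoint X with hξdef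
  have hη : f ξ = genericPoint Y := by
    have h1 : Set.range f ⊆ closure {f ξ} := by
      rintro _ ⟨x, rfl⟩
      exact ((genericPoint_specializes x).map f.continuous).mem_closure
    have h2 : f ξ ⤳ genericPoint Y :=
      specializes_iff_mem_closure.mpr (closure_minimal h1 isClosed_closure (hdom.closure_range ▸ Set.mem_univ _))
    exact (h2.antisymm (genericPoint_specializes _)).eq
  have hmem : ξ ∈ f.smoothLocus := by
    have := LocallyOfFiniteType.stalkMap f ξ
    rw [Scheme.Hom.mem_smoothLocus]
    algebraize [(f.stalkMap ξ).hom]
    have hF : IsField (Y.presheaf.stalk (f ξ)) := by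
      rw [hη]; exact Field.toIsField Y.functionField
    letI := hF.toField
    have hF' : IsField (X.presheaf.stalk ξ) := Field.toIsField X.functionField
    letI := hF'.toField
    haveI : CharZero (Y.presheaf.stalk (f ξ)) := by
      let i : k →+* Y.presheaf.stalk (f ξ) :=
        (Y.presheaf.germ ⊤ (f ξ) trivial).hom.comp (qY.appTop.hom.comp (Scheme.ΓSpecIso (CommRingCat.of k)).inv.hom)
      exact charZero_of_injective_ringHom i.injective
    exact Algebra.FormallySmooth.of_perfectField
  refine ⟨f.smoothLocus, ⟨ξ, hmem⟩, ?_⟩
  rw [← Scheme.Hom.smoothLocus_eq_top_iff, ← Scheme.Hom.preimage_smoothLocus_eq, Scheme.Opens.ι_preimage_self]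

end Groth.Agent.S10929
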