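import Groth.Statements.S10930
import Mathlib

set_option autoImplicit false
universe u
open CategoryTheory CategoryTheory.Limits AlgebraicGeometry
open Variety

namespace Groth.Agent.S10930


open TensorProduct in
/-- A local algebra, smooth over `k`, over an intermediate perfect field is smooth over that field. -/
theorem formallySmooth_over_field (k K A : Type u) [Field k] [Field K] [PerfectField K] [CommRing A]
    [IsLocalRing A] [Algebra k K] [Algebra K A] [Algebra k A] [IsScalarTower k K A]
    [Algebra.EssFiniteType k K] [Algebra.EssFiniteType K A] [Algebra.FormallySmooth k A] :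
    Algebra.FormallySmooth K A := by
  haveI : Algebra.EssFiniteType k A := Algebra.EssFiniteType.comp k K A
  let κ := IsLocalRing.ResidueField A
  haveI : Algebra.EssFiniteType K κ := Algebra.EssFiniteType.comp K A κ
  haveI : Algebra.FormallySmooth K κ := Algebra.FormallySmooth.of_perfectField
  haveI : IsScalarTower k K κ := IsScalarTower.of_algebraMap_eq fun r => by
    rw [IsScalarTower.algebraMap_apply K A κ, ← IsScalarTower.algebraMap_apply k K A,
      ← IsScalarTower.algebraMap_apply k A κ]
  let l := KaehlerDifferential.mapBaseChange k K A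
  haveI : Module.Finite A (Ω[A⁄k]) := inferInstance
  haveI : Module.Free A (Ω[A⁄k]) := Module.free_of_flat_of_isLocalRing
  have hκ : Function.Injective (KaehlerDifferential.mapBaseChange k K κ) := by
    rw [injective_iff_map_eq_zero]
    intro z hz
    obtain ⟨w, rfl⟩ := (Algebra.H1Cotangent.exact_δ_mapBaseChange k K κ z).mp hz
    rw [Subsingleton.elim w 0, map_zero]
  have hinj : Function.Injective (l.lTensor κ) := by
    let e : κ ⊗[A] (A ⊗[K] Ω[K⁄k]) ≃ₗ[κ] κ ⊗[K] Ω[K⁄k] :=
      AlgebraTensorModule.cancelBaseChange K A κ κ (Ω[K⁄k])
    have key : ∀ z, KaehlerDifferential.mapBaseChange k A κ (l.lTensor κ z) =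
        KaehlerDifferential.mapBaseChange k K κ (e z) := by
      intro z
      induction z using TensorProduct.induction_on with
      | zero => simp
      | add a b ha hb => simp only [map_add, ha, hb]
      | tmul c m =>
        induction m using TensorProduct.induction_on with
        | zero => simp
        | add a b ha hb => simp only [TensorProduct.tmul_add, map_add, ha, hb]
        | tmul a v =>
          have h1 : e (c ⊗ₜ[A] (a ⊗ₜ[K] v)) = (a • c) ⊗ₜ[K] v :=
            AlgebraTensorModule.cancelBaseChange_tmul _ _ _ _ _ _
          rw [h1, LinearMap.lTensor_tmul, KaehlerDifferential.mapBaseChange_tmul]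
          have hv : v ∈ Submodule.span K (Set.range (KaehlerDifferential.D k K)) := by
            rw [KaehlerDifferential.span_range_derivation]; trivial
          induction hv using Submodule.span_induction generalizing a with
          | mem y hy =>
            obtain ⟨y, rfl⟩ := hy
            simp only [l, KaehlerDifferential.mapBaseChange_tmul, map_smul, KaehlerDifferential.map_D,
              TensorProduct.smul_tmul', Algebra.smul_def, ← IsScalarTower.algebraMap_apply]
            simp [← mul_assoc, mul_comm c, TensorProduct.smul_tmul', mul_smul]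
            rw [smul_comm]
          | zero => simp
          | add u1 u2 _ _ h h' =>
            have h := h a (AlgebraTensorModule.cancelBaseChange_tmul _ _ _ _ _ _)
            have h' := h' a (AlgebraTensorModule.cancelBaseChange_tmul _ _ _ _ _ _)
            simp only [TensorProduct.tmul_add, map_add, smul_add, h, h']
          | smul r u _ h =>
            have h := h (r • a) (AlgebraTensorModule.cancelBaseChange_tmul _ _ _ _ _ _)
            rw [← TensorProduct.smul_tmul, h, smul_assoc, TensorProduct.smul_tmul]
    intro a b hab
    exact e.injective (hκ (by rw [← key, ← key, hab]))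
  obtain ⟨l', hl'⟩ := (IsLocalRing.split_injective_iff_lTensor_residueField_injective l).mpr hinj
  refine ⟨?_, ?_⟩
  · have hsur : Function.Surjective (KaehlerDifferential.map k K A A) := KaehlerDifferential.map_surjective k K A
    have hex : Function.Exact l (KaehlerDifferential.map k K A A) := KaehlerDifferential.exact_mapBaseChange_map k K A
    let σ : Ω[A⁄K] →ₗ[A] Ω[A⁄k] :=
      ((LinearMap.range l).liftQ (LinearMap.id - l ∘ₗ l') (by
        rintro _ ⟨x, rfl⟩
        have := LinearMap.congr_fun hl' x
        simp only [LinearMap.coe_comp, Function.comp_apply, LinearMap.id_apply] at this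
        simp [this])) ∘ₗ (hex.linearEquivOfSurjective hsur).symm.toLinearMap
    refine Module.Projective.of_split σ (KaehlerDifferential.map k K A A) ?_
    apply LinearMap.ext
    intro y
    obtain ⟨x, rfl⟩ := hsur y
    have h1 : (hex.linearEquivOfSurjective hsur).symm (KaehlerDifferential.map k K A A x) = Submodule.Quotient.mk x := by
      rw [LinearEquiv.symm_apply_eq]; simp [Function.Exact.linearEquivOfSurjective]
    simp only [σ, LinearMap.coe_comp, Function.comp_apply, LinearEquiv.coe_coe, LinearMap.id_apply, h1]
    show KaehlerDifferential.map k K A A (x - l (l' x)) = _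
    rw [map_sub, hex.apply_apply_eq_zero, sub_zero]
  · have h0 : ∀ z, Algebra.H1Cotangent.δ k K A z = 0 := by
      intro z
      have h1 : l (Algebra.H1Cotangent.δ k K A z) = 0 :=
        (Algebra.H1Cotangent.exact_δ_mapBaseChange k K A).apply_apply_eq_zero z
      have := LinearMap.congr_fun hl' (Algebra.H1Cotangent.δ k K A z)
      simp only [LinearMap.coe_comp, Function.comp_apply, LinearMap.id_apply, h1, map_zero] at this
      exact this.symm
    refine subsingleton_of_forall_eq 0 fun z => ?_
    obtain ⟨w, rfl⟩ := (Algebra.H1Cotangent.exact_map_δ k K A z).mp (h0 z)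
    rw [Subsingleton.elim w 0, map_zero]

open Topology in
/-- A constructible set containing the generic point has nonempty interior. -/
theorem mem_interior_of_constructible {Y : Type u} [TopologicalSpace Y] {η : Y} (hη : ∀ y, η ⤳ y)
    {s : Set Y} (hs : IsConstructible s) :
    (η ∈ s → η ∈ interior s) ∧ (η ∉ s → η ∈ interior sᶜ) := by
  induction hs using IsConstructible.empty_union_induction with
  | open_retrocompact U hU _ =>
    refine ⟨fun h => by rwa [hU.interior_eq], fun h => ?_⟩
    have : U = ∅ := Set.eq_empty_of_forall_notMem fun y hy => h ((hη y).mem_open hU hy)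
    simp [this]
  | union s _ t _ h1 h2 =>
    refine ⟨fun h => ?_, fun h => ?_⟩
    · rcases h with h | h
      · exact interior_mono Set.subset_union_left (h1.1 h)
      · exact interior_mono Set.subset_union_right (h2.1 h)
    · rw [Set.compl_union, interior_inter]
      exact ⟨h1.2 fun h' => h (Or.inl h'), h2.2 fun h' => h (Or.inr h')⟩
  | compl s _ h => exact ⟨h.2, fun h' => by rw [compl_compl]; exact h.1 (not_not.mp h')⟩

/-- Let k be an algebraically closed field of characteristic zero, X and Y varieties over k (integral,
separated and of finite type over k) with X nonsingular, i.e. smooth over k, and f : X → Y a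
k-morphism. Then there is a nonempty open subscheme V of Y such that the restriction f⁻¹(V) → V of f
is smooth. -/
theorem result (k : Type u) [Field k] [IsAlgClosed k] [CharZero k]
    {X Y : Scheme.{u}} (qX : X ⟶ Spec (CommRingCat.of k)) (qY : Y ⟶ Spec (CommRingCat.of k))
    [LocallyOfFiniteType qX] [QuasiCompact qX] [IsSeparated qX] [Smooth qX]
    [LocallyOfFiniteType qY] [QuasiCompact qY] [IsSeparated qY]
    [IsIntegral X] [IsIntegral Y] (f : X ⟶ Y) (hf : f ≫ qY = qX) :
    ∃ V : Y.Opens, (V : Set ↥Y).Nonempty ∧ Smooth (f ∣_ V) := by
  subst hf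
  haveI : LocallyOfFiniteType f := locallyOfFiniteType_of_comp f qY
  haveI : IsLocallyNoetherian Y := LocallyOfFiniteType.isLocallyNoetherian qY
  haveI : CompactSpace Y := QuasiCompact.compactSpace_of_compactSpace qY
  haveI : IsNoetherian Y := { }
  haveI : LocallyOfFinitePresentation f := inferInstance
  haveI : IsLocallyNoetherian X := LocallyOfFiniteType.isLocallyNoetherian f
  haveI : CompactSpace X := QuasiCompact.compactSpace_of_compactSpace (f ≫ qY)
  haveI : IsNoetherian X := { }
  haveI : QuasiCompact f := inferInstance
  set η := genericPoint Y with hηdef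
  have hgood : ∀ x : X, f x = η → x ∈ f.smoothLocus := by
    intro x hx
    have h0 : x ∈ (f ≫ qY).smoothLocus := by rw [Scheme.Hom.smoothLocus_eq_top]; trivial
    have hF : IsField (Y.presheaf.stalk (f x)) := by rw [hx]; exact Field.toIsField Y.functionField
    letI := hF.toField
    let ek := IsLocalization.atUnits k (qY (f x)).asIdeal.primeCompl
      (S := (Spec.structureSheaf k).presheaf.stalk (qY (f x))) (fun x hx ↦ by aesop (add simp IsUnit.mem_submonoid_iff))
    have hk : IsField ((Spec (CommRingCat.of k)).presheaf.stalk (qY (f x))) :=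
      ek.toRingEquiv.symm.isField (Field.toIsField k)
    letI := hk.toField
    haveI : CharZero (Y.presheaf.stalk (f x)) :=
      charZero_of_injective_ringHom ((qY.stalkMap (f x)).hom.comp ek.toRingEquiv.toRingHom).injective
    have e1 := LocallyOfFiniteType.stalkMap qY (f x)
    have e2 := LocallyOfFiniteType.stalkMap f x
    have e3 : ((f ≫ qY).stalkMap x).hom.FormallySmooth := h0
    have e4 : (f ≫ qY).stalkMap x = qY.stalkMap (f x) ≫ f.stalkMap x := Scheme.Hom.stalkMap_comp f qY x
    rw [e4] at e3
    rw [Scheme.Hom.mem_smoothLocus]
    algebraize [(qY.stalkMap (f x)).hom, (f.stalkMap x).hom]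
    letI alg : Algebra ((Spec (CommRingCat.of k)).presheaf.stalk (qY (f x))) (X.presheaf.stalk x) :=
      ((f.stalkMap x).hom.comp (qY.stalkMap (f x)).hom).toAlgebra
    haveI : IsScalarTower ((Spec (CommRingCat.of k)).presheaf.stalk (qY (f x))) (Y.presheaf.stalk (f x))
        (X.presheaf.stalk x) := IsScalarTower.of_algebraMap_eq fun _ => rfl
    haveI : Algebra.FormallySmooth ((Spec (CommRingCat.of k)).presheaf.stalk (qY (f x))) (X.presheaf.stalk x) := e3
    exact formallySmooth_over_field ((Spec (CommRingCat.of k)).presheaf.stalk (qY (f x))) _ _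
  have hc : Topology.IsConstructible (f '' (f.smoothLocus : Set X)ᶜ) := by
    refine f.isConstructible_image ?_
    have hr : IsRetrocompact (f.smoothLocus : Set X) := fun U _ _ => TopologicalSpace.NoetherianSpace.isCompact _
    exact (hr.isConstructible f.smoothLocus.2).compl
  have hη : η ∉ f '' (f.smoothLocus : Set X)ᶜ := by
    rintro ⟨x, hx, hxη⟩
    exact hx (hgood x hxη)
  let V : Y.Opens := ⟨interior (f '' (f.smoothLocus : Set X)ᶜ)ᶜ, isOpen_interior⟩
  refine ⟨V, ⟨η, (mem_interior_of_constructible (fun y => genericPoint_specializes y) hc).2 hη⟩, ?_⟩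
  have htop : (f ⁻¹ᵁ V) ≤ f.smoothLocus := by
    intro x hx
    by_contra hxs
    exact interior_subset (s := (f '' (f.smoothLocus : Set X)ᶜ)ᶜ) hx ⟨x, hxs, rfl⟩
  have h1 : Smooth ((f ∣_ V) ≫ V.ι) := by
    rw [morphismRestrict_ι, ← Scheme.Hom.smoothLocus_eq_top_iff, ← Scheme.Hom.preimage_smoothLocus_eq,
      eq_top_iff]
    intro z _
    exact htop z.2
  exact MorphismProperty.of_postcomp @Smooth (f ∣_ V) V.ι (W' := @IsOpenImmersion) inferInstance h1

end Groth.Agent.S10930
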