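import Groth.Statements.S10944
import Mathlib
import Groth.Agent.Lib.H2MaxPts

set_option autoImplicit false
universe u
open CategoryTheory AlgebraicGeometry
open FlatMor

namespace Groth.Agent.S10944
open AlgebraicGeometry CategoryTheory TopologicalSpace

/-- Let f : X → Y be a flat morphism of Noetherian schemes and Y' an irreducible component of Y. Then
f⁻¹(Y') is the union of the irreducible components Z of X with f(Z) ⊆ Y'. -/
theorem result {X Y : Scheme.{u}}
    [IsNoetherian X] [IsNoetherian Y] (f : X ⟶ Y) [Flat f]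
    (Y' : Set ↥Y) (hY' : Y' ∈ irreducibleComponents ↥Y) :
    f.base ⁻¹' Y' = ⋃₀ {Z : Set ↥X | Z ∈ irreducibleComponents ↥X ∧ f.base '' Z ⊆ Y'} := by
  refine Set.Subset.antisymm (fun x hx => ?_) (Set.sUnion_subset fun Z hZ z hz => hZ.2 ⟨z, hz, rfl⟩)
  have hc := isClosed_of_mem_irreducibleComponents Y' hY'
  have hg := hY'.1.isGenericPoint_genericPoint hc
  obtain ⟨x', hx', hfx'⟩ := Flat.generalizingMap f (hg.specializes hx)
  obtain ⟨ζ, hζ, Z, hZ, hζZ⟩ := Groth.Agent.H2MaxPts.exists_max x'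
  have hfζ : f ζ = f x' := by
    rw [hfx']
    exact Groth.Agent.H2MaxPts.maximal_of_generic hY' hg (hfx' ▸ hζ.map f.continuous)
  refine ⟨Z, ⟨hZ, ?_⟩, ?_⟩
  · rintro _ ⟨z, hz, rfl⟩
    have h1 : f ζ ⤳ f z := (hζZ.specializes hz).map f.continuous
    rw [hfζ, hfx'] at h1
    exact h1.mem_closed hc (hg.mem)
  · exact (hζ.trans hx').mem_closed (isClosed_of_mem_irreducibleComponents Z hZ) hζZ.mem

end Groth.Agent.S10944
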