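import Groth.Prelude.Def_Curv2
import Groth.Prelude.Def_CohB1
import Mathlib

set_option autoImplicit false
universe u
open CategoryTheory Limits AlgebraicGeometry Opposite

namespace Groth.Agent.S10945

/-- Let X be a scheme and 0 → F' → F → F'' → 0 a short exact sequence of O_X-modules whose map on global
sections Γ(X, F) → Γ(X, F'') is surjective. If F' and F'' are generated by global sections (each is
a quotient of a free O_X-module), then F is generated by global sections. -/
theorem result (X : Scheme.{u})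
    (S : ShortComplex X.Modules) (hS : S.ShortExact)
    (hsurj : Function.Surjective (S.g.val.app (op ⊤)).hom)
    (h1 : Curv2.IsGloballyGenerated S.X₁) (h3 : Curv2.IsGloballyGenerated S.X₃) :
    Curv2.IsGloballyGenerated S.X₂ := by
  obtain ⟨I, p, hp⟩ := h1
  obtain ⟨J, r, hr⟩ := h3
  let O : X.Modules := Coh.structureModule X
  have lift : ∀ j : J, ∃ a : O ⟶ S.X₂, a ≫ S.g = SheafOfModules.ιFree (R := X.ringCatSheaf) j ≫ r := by
    intro j
    let w := S.X₃.unitHomEquiv (SheafOfModules.ιFree (R := X.ringCatSheaf) j ≫ r)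
    obtain ⟨t, ht⟩ := hsurj (w.val (op ⊤))
    let s : S.X₂.sections := PresheafOfModules.sectionsMk
      (fun W => S.X₂.val.map (homOfLE (le_top : W.unop ≤ ⊤)).op t)
      (fun W V f => (PresheafOfModules.congr_map_apply S.X₂.val
        (show (homOfLE (le_top : W.unop ≤ ⊤)).op ≫ f = (homOfLE (le_top : V.unop ≤ ⊤)).op from Subsingleton.elim _ _) t).symm |> fun e => by
          rw [e]; exact (PresheafOfModules.map_comp_apply S.X₂.val _ _ t).symm)
    refine ⟨S.X₂.unitHomEquiv.symm s, S.X₃.unitHomEquiv.injective (PresheafOfModules.sections_ext _ _ fun W => ?_)⟩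
    have e1 : (S.X₂.unitHomEquiv.symm s).val.app W (1 : Γ(X, W.unop)) = s.val W :=
      congrArg (fun z => z.val W) (S.X₂.unitHomEquiv.apply_symm_apply s)
    show S.g.val.app W ((S.X₂.unitHomEquiv.symm s).val.app W (1 : Γ(X, W.unop))) = w.val W
    rw [e1]
    show S.g.val.app W (S.X₂.val.map (homOfLE (le_top : W.unop ≤ ⊤)).op t) = w.val W
    rw [PresheafOfModules.naturality_apply]
    exact (congrArg _ ht).trans (w.property (homOfLE (le_top : W.unop ≤ ⊤)).op)
  choose a ha using lift
  let q : (SheafOfModules.free (R := X.ringCatSheaf) (I ⊕ J) : X.Modules) ⟶ S.X₂ :=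
    Cofan.IsColimit.desc (SheafOfModules.isColimitFreeCofan (R := X.ringCatSheaf) (I ⊕ J))
      (Sum.elim (fun i => SheafOfModules.ιFree (R := X.ringCatSheaf) i ≫ p ≫ S.f) a)
  have hq : ∀ k, SheafOfModules.ιFree (R := X.ringCatSheaf) k ≫ q =
      Sum.elim (fun i => SheafOfModules.ιFree (R := X.ringCatSheaf) i ≫ p ≫ S.f) a k := fun k =>
    Cofan.IsColimit.fac (SheafOfModules.isColimitFreeCofan (R := X.ringCatSheaf) (I ⊕ J)) _ k
  haveI : @Epi X.Modules _ _ _ p := hp
  haveI : @Epi X.Modules _ _ _ r := hr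
  refine ⟨_, q, Preadditive.epi_of_cancel_zero (C := X.Modules) q fun {Z} α hα => ?_⟩
  have hc : ∀ k, Sum.elim (fun i => SheafOfModules.ιFree (R := X.ringCatSheaf) i ≫ p ≫ S.f) a k ≫ α = 0 := fun k => by
    exact (congrArg (· ≫ α) (hq k).symm).trans ((Category.assoc _ _ _).trans ((congrArg (_ ≫ ·) hα).trans comp_zero))
  have h0 : S.f ≫ α = 0 := zero_of_epi_comp p
    (Cofan.IsColimit.hom_ext (SheafOfModules.isColimitFreeCofan (R := X.ringCatSheaf) I) _ _ fun i =>
      (Eq.trans (Eq.trans (congrArg (_ ≫ ·) (Category.assoc _ _ _).symm) (Category.assoc _ _ _).symm) (hc (Sum.inl i))).trans comp_zero.symm)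
  obtain ⟨β, hβ⟩ := CokernelCofork.IsColimit.desc' hS.gIsCokernel α h0
  have hβ' : S.g ≫ β = α := hβ
  have : β = 0 := zero_of_epi_comp r
    (Cofan.IsColimit.hom_ext (SheafOfModules.isColimitFreeCofan (R := X.ringCatSheaf) J) _ _ fun j => by
      refine Eq.trans ?_ comp_zero.symm
      refine (Category.assoc _ _ _).symm.trans ?_
      refine (congrArg (· ≫ β) (ha j).symm).trans ?_
      exact (Category.assoc _ _ _).trans ((congrArg (a j ≫ ·) hβ').trans (hc (Sum.inr j))))
  rw [← hβ', this, comp_zero]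

end Groth.Agent.S10945
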