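import Groth.Statements.S10955
import Mathlib

set_option autoImplicit false
universe u
open scoped TensorProduct
open Unram

namespace Groth.Agent.S10955


open TensorProduct in
/-- For a local algebra smooth over `A`, smoothness over `B` is detected on differentials. -/
theorem fs_iff (A B S : Type u) [CommRing A] [CommRing B] [CommRing S] [IsLocalRing S] [Algebra A B]
    [Algebra B S] [Algebra A S] [IsScalarTower A B S] [Algebra.EssFiniteType A B] [Algebra.EssFiniteType A S]
    [Algebra.FormallySmooth A S] :
    Algebra.FormallySmooth B S ↔
      Function.Injective ((KaehlerDifferential.mapBaseChange A B S).lTensor (IsLocalRing.ResidueField S)) := by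
  let l := KaehlerDifferential.mapBaseChange A B S
  haveI : Module.Finite S (Ω[S⁄A]) := inferInstance
  haveI : Module.Free S (Ω[S⁄A]) := Module.free_of_flat_of_isLocalRing
  have hex : Function.Exact l (KaehlerDifferential.map A B S S) := KaehlerDifferential.exact_mapBaseChange_map A B S
  have hsur : Function.Surjective (KaehlerDifferential.map A B S S) := KaehlerDifferential.map_surjective A B S
  rw [← IsLocalRing.split_injective_iff_lTensor_residueField_injective]
  constructor
  · intro hfs
    have hl : Function.Injective l := by
      rw [injective_iff_map_eq_zero]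
      intro z hz
      obtain ⟨w, rfl⟩ := (Algebra.H1Cotangent.exact_δ_mapBaseChange A B S z).mp hz
      rw [Subsingleton.elim w 0, map_zero]
    obtain ⟨σ, hσ⟩ := Module.projective_lifting_property (KaehlerDifferential.map A B S S) LinearMap.id hsur
    let g : Ω[S⁄A] →ₗ[S] Ω[S⁄A] := LinearMap.id - σ ∘ₗ KaehlerDifferential.map A B S S
    have hg : ∀ x, g x ∈ LinearMap.range l := fun x => (hex _).mp (by
      have := LinearMap.congr_fun hσ (KaehlerDifferential.map A B S S x)
      simp only [LinearMap.coe_comp, Function.comp_apply, LinearMap.id_apply] at this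
      simp [g, this])
    refine ⟨(LinearEquiv.ofInjective l hl).symm.toLinearMap ∘ₗ g.codRestrict _ hg, ?_⟩
    apply LinearMap.ext
    intro z
    have h1 : KaehlerDifferential.map A B S S (l z) = 0 := hex.apply_apply_eq_zero z
    have h2 : g.codRestrict _ hg (l z) = LinearEquiv.ofInjective l hl z := Subtype.ext (by simp [g, h1])
    simp only [LinearMap.coe_comp, Function.comp_apply, LinearEquiv.coe_coe, LinearMap.id_apply]
    rw [show g.codRestrict _ hg (KaehlerDifferential.mapBaseChange A B S z) = _ from h2, LinearEquiv.symm_apply_apply]
  · rintro ⟨l', hl'⟩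
    refine ⟨?_, ?_⟩
    · let σ : Ω[S⁄B] →ₗ[S] Ω[S⁄A] :=
        ((LinearMap.range l).liftQ (LinearMap.id - l ∘ₗ l') (by
          rintro _ ⟨x, rfl⟩
          have := LinearMap.congr_fun hl' x
          simp only [LinearMap.coe_comp, Function.comp_apply, LinearMap.id_apply] at this
          simp [l, this])) ∘ₗ (hex.linearEquivOfSurjective hsur).symm.toLinearMap
      refine Module.Projective.of_split σ (KaehlerDifferential.map A B S S) ?_
      apply LinearMap.ext
      intro y
      obtain ⟨x, rfl⟩ := hsur y
      have h1 : (hex.linearEquivOfSurjective hsur).symm (KaehlerDifferential.map A B S S x) = Submodule.Quotient.mk x := by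
        rw [LinearEquiv.symm_apply_eq]; simp [Function.Exact.linearEquivOfSurjective]
      simp only [σ, LinearMap.coe_comp, Function.comp_apply, LinearEquiv.coe_coe, LinearMap.id_apply, h1]
      show KaehlerDifferential.map A B S S (x - l (l' x)) = _
      rw [map_sub, hex.apply_apply_eq_zero, sub_zero]
    · have h0 : ∀ z, Algebra.H1Cotangent.δ A B S z = 0 := by
        intro z
        have h1 : l (Algebra.H1Cotangent.δ A B S z) = 0 :=
          (Algebra.H1Cotangent.exact_δ_mapBaseChange A B S).apply_apply_eq_zero z
        have := LinearMap.congr_fun hl' (Algebra.H1Cotangent.δ A B S z)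
        simp only [LinearMap.coe_comp, Function.comp_apply, LinearMap.id_apply] at this
        rw [show KaehlerDifferential.mapBaseChange A B S _ = 0 from h1, map_zero] at this
        exact this.symm
      refine subsingleton_of_forall_eq 0 fun z => ?_
      obtain ⟨w, rfl⟩ := (Algebra.H1Cotangent.exact_map_δ A B S z).mp (h0 z)
      rw [Subsingleton.elim w 0, map_zero]

/-- Let A → B → C be ring homomorphisms with B and C finitely presented over A, let q be a prime ideal
of C and p its inverse image in B, and assume that C is smooth over A at q and that B is smooth over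
A at p. Then C is smooth over B at q if and only if the map obtained from the canonical map C ⊗_B
Ω_{B/A} → Ω_{C/A} by tensoring over C with the residue field k(q) is injective. -/
theorem result (A B C : Type u) [CommRing A] [CommRing B]
    [CommRing C] [Algebra A B] [Algebra B C] [Algebra A C] [IsScalarTower A B C]
    [Algebra.FinitePresentation A B] [Algebra.FinitePresentation A C] (q : Ideal C) [q.IsPrime]
    (hC : Algebra.IsSmoothAt A q) (hB : Algebra.IsSmoothAt A (q.under B)) :
    Algebra.IsSmoothAt B q ↔
      Function.Injective ((KaehlerDifferential.mapBaseChange A B C).lTensor q.ResidueField) := by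
  let S := Localization.AtPrime q
  let κ := q.ResidueField
  haveI : Algebra.EssFiniteType A S := Algebra.EssFiniteType.comp A C S
  haveI : Algebra.FormallySmooth A S := hC
  show Algebra.FormallySmooth B S ↔ _
  rw [fs_iff A B S]
  let φ : S ⊗[C] Ω[C⁄A] ≃ₗ[S] Ω[S⁄A] :=
    LinearEquiv.ofBijective (KaehlerDifferential.mapBaseChange A C S) ⟨by
      haveI : Algebra.FormallyEtale C S := Algebra.FormallyEtale.of_isLocalization q.primeCompl
      rw [injective_iff_map_eq_zero]
      intro z hz
      obtain ⟨w, rfl⟩ := (Algebra.H1Cotangent.exact_δ_mapBaseChange A C S z).mp hz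
      rw [Subsingleton.elim w 0, map_zero],
      fun w => by
        haveI : Algebra.FormallyUnramified C S := Algebra.FormallyUnramified.of_isLocalization q.primeCompl
        exact (KaehlerDifferential.exact_mapBaseChange_map A C S w).mp (Subsingleton.elim _ _)⟩
  let e1 : κ ⊗[C] (C ⊗[B] Ω[B⁄A]) ≃ₗ[κ] κ ⊗[B] Ω[B⁄A] :=
    TensorProduct.AlgebraTensorModule.cancelBaseChange B C κ κ _
  let e1' : κ ⊗[S] (S ⊗[B] Ω[B⁄A]) ≃ₗ[κ] κ ⊗[B] Ω[B⁄A] :=
    TensorProduct.AlgebraTensorModule.cancelBaseChange B S κ κ _
  let e2 : κ ⊗[C] Ω[C⁄A] ≃ₗ[κ] κ ⊗[S] Ω[S⁄A] :=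
    (TensorProduct.AlgebraTensorModule.cancelBaseChange C S κ κ _).symm ≪≫ₗ
      TensorProduct.AlgebraTensorModule.congr (LinearEquiv.refl κ κ) φ
  have key : ∀ z, e2 ((KaehlerDifferential.mapBaseChange A B C).lTensor κ z) =
      (KaehlerDifferential.mapBaseChange A B S).lTensor κ (e1'.symm (e1 z)) := by
    intro z
    induction z using TensorProduct.induction_on with
    | zero => simp
    | add a b ha hb => simp only [map_add, ha, hb]
    | tmul c m =>
      induction m using TensorProduct.induction_on with
      | zero => simp
      | add a b ha hb => simp only [TensorProduct.tmul_add, map_add, ha, hb]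
      | tmul a v =>
        have h1 : e1' (((a • c : κ)) ⊗ₜ[S] ((1 : S) ⊗ₜ[B] v)) = (a • c : κ) ⊗ₜ[B] v := by
          simp [e1']
        have h2 : e1 (c ⊗ₜ[C] (a ⊗ₜ[B] v)) = (a • c : κ) ⊗ₜ[B] v := by simp [e1]
        rw [h2, ← h1, LinearEquiv.symm_apply_apply, LinearMap.lTensor_tmul, LinearMap.lTensor_tmul,
          KaehlerDifferential.mapBaseChange_tmul, KaehlerDifferential.mapBaseChange_tmul, one_smul,
          TensorProduct.tmul_smul, TensorProduct.smul_tmul']
        have h3 : ∀ w : Ω[B⁄A], φ ((1 : S) ⊗ₜ[C] KaehlerDifferential.map A A B C w) = KaehlerDifferential.map A A B S w := by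
          intro w
          simp only [φ, LinearEquiv.ofBijective_apply, KaehlerDifferential.mapBaseChange_tmul, one_smul]
          have hw : w ∈ Submodule.span B (Set.range (KaehlerDifferential.D A B)) := by
            rw [KaehlerDifferential.span_range_derivation]; trivial
          induction hw using Submodule.span_induction with
          | mem y hy =>
            obtain ⟨y, rfl⟩ := hy
            simp [← IsScalarTower.algebraMap_apply]
          | zero => simp
          | add _ _ _ _ h h' => simp only [map_add, h, h']
          | smul r u _ h =>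
            simp only [LinearMap.map_smul_of_tower, h]
        simp [e2, h3]
  constructor
  · intro h x y hxy
    apply e1.injective
    apply e1'.symm.injective
    apply h
    rw [← key, ← key, hxy]
  · intro h x y hxy
    have hx : x = e1'.symm (e1 (e1.symm (e1' x))) := by simp
    have hy : y = e1'.symm (e1 (e1.symm (e1' y))) := by simp
    rw [hx, hy, ← key, ← key] at hxy
    have := congrArg e1 (h (e2.injective hxy))
    simpa using this

end Groth.Agent.S10955
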