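import Mathlib
import Groth.Statements.S10957
-- import your own Groth.Agent.* helpers here

set_option autoImplicit false
universe u
open CAlg

namespace Groth.Agent.S10957

/-- Let A be a Noetherian local integral domain that is normal (integrally closed in its field of
fractions). If there is a nonzero element a of A such that the maximal ideal of A is an associated
prime of the A-module A/(a), then A is a discrete valuation ring. (The other conditions listed in
the published result — normal of dimension one, maximal ideal nonzero principal, regular of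
dimension one — are the library's standard characterisations; this row records the criterion through
an associated prime.) -/
theorem result
    (A : Type u) [CommRing A] [IsDomain A] [IsNoetherianRing A] [IsLocalRing A] [IsIntegrallyClosed A]
    (a : A) (ha : a ≠ 0)
    (hass : IsLocalRing.maximalIdeal A ∈ associatedPrimes A (A ⧸ Ideal.span ({a} : Set A))) :
    IsDiscreteValuationRing A := by
  obtain ⟨hmp, z, hz⟩ := isAssociatedPrime_iff.1 hass
  obtain ⟨b, rfl⟩ := Ideal.Quotient.mk_surjective z
  have hmem : ∀ x : A, x ∈ IsLocalRing.maximalIdeal A ↔ a ∣ x * b := fun x => by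
    rw [hz, Submodule.mem_colon_singleton, Submodule.mem_bot]
    show Ideal.Quotient.mk _ (x * b) = 0 ↔ _
    rw [Ideal.Quotient.eq_zero_iff_mem, Ideal.mem_span_singleton]
  have hb : ¬ a ∣ b := fun h => hmp.ne_top ((Ideal.eq_top_iff_one _).2 ((hmem 1).2 (by rwa [one_mul])))
  have hnf : ¬ IsField A := fun hF => hb (by
    obtain ⟨c, hc⟩ := hF.mul_inv_cancel ha
    exact ⟨c * b, by rw [← mul_assoc, hc, one_mul]⟩)
  have hm0 : IsLocalRing.maximalIdeal A ≠ ⊥ := fun h => hnf (IsLocalRing.isField_iff_maximalIdeal_eq.2 h)
  by_cases hcase : ∀ x ∈ IsLocalRing.maximalIdeal A, ∀ c, x * b = a * c → c ∈ IsLocalRing.maximalIdeal A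
  · exfalso
    let K := FractionRing A
    let N : Submodule A K := Submodule.map (Algebra.linearMap A K) (IsLocalRing.maximalIdeal A)
    have hinj : Function.Injective (algebraMap A K) := IsFractionRing.injective A K
    have haK : algebraMap A K a ≠ 0 := fun h => ha (hinj (by rw [h, map_zero]))
    let y : K := algebraMap A K b / algebraMap A K a
    have hN0 : N ≠ ⊥ := by
      obtain ⟨x, hx, hx0⟩ := Submodule.exists_mem_ne_zero_of_ne_bot hm0
      intro h
      have : algebraMap A K x ∈ N := ⟨x, hx, rfl⟩
      rw [h, Submodule.mem_bot] at this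
      exact hx0 (hinj (by rw [this, map_zero]))
    have hy : IsIntegral A y := by
      refine isIntegral_of_smul_mem_submodule N hN0 ((IsNoetherian.noetherian (R := A) (IsLocalRing.maximalIdeal A)).map _) y ?_
      rintro _ ⟨x, hx, rfl⟩
      obtain ⟨c, hc⟩ := (hmem x).1 hx
      refine ⟨c, hcase x hx c hc, ?_⟩
      show algebraMap A K c = y * algebraMap A K x
      rw [div_mul_eq_mul_div, eq_div_iff haK, ← map_mul, ← map_mul, mul_comm b x, hc, mul_comm c a]
    obtain ⟨d, hd⟩ := (isIntegrallyClosed_iff K).1 inferInstance hy
    refine hb ⟨d, hinj ?_⟩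
    rw [map_mul, hd, mul_div_cancel₀ _ haK]
  · push Not at hcase
    obtain ⟨x, hx, c, hc, hcm⟩ := hcase
    obtain ⟨u, rfl⟩ : IsUnit c := by
      by_contra hn
      exact hcm ((IsLocalRing.mem_maximalIdeal c).2 hn)
    have hprin : (IsLocalRing.maximalIdeal A).IsPrincipal := by
      refine ⟨⟨x, le_antisymm (fun w hw => ?_) ((Ideal.span_singleton_le_iff_mem _).2 hx)⟩⟩
      obtain ⟨e, he⟩ := (hmem w).1 hw
      have hb0 : b ≠ 0 := fun h => hb (h ▸ dvd_zero a)
      refine Submodule.mem_span_singleton.2 ⟨↑u⁻¹ * e, ?_⟩
      apply mul_right_cancel₀ hb0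
      rw [smul_eq_mul, mul_assoc, hc, he]
      linear_combination (a * e) * u.inv_mul
    exact ((IsDiscreteValuationRing.TFAE A hnf).out 0 4).2 hprin

end Groth.Agent.S10957
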