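import Groth.Statements.S10967
import Mathlib
import Groth.Prelude.Def_MoreMor
import Groth.Agent.Lib.H2QuasiAffine
import Groth.Agent.S1402

set_option autoImplicit false
universe u
open CategoryTheory AlgebraicGeometry TopologicalSpace
open MoreMor

namespace Groth.Agent.S10967
open CategoryTheory Limits AlgebraicGeometry

/-- Quasi-affine over an affine base: call a morphism f : X → Y quasi-affine when Y has a cover by
affine opens V_i whose preimages f⁻¹(V_i) are quasi-affine schemes (quasi-compact open subschemes of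
affine schemes; equivalently quasi-compact with X → Spec Γ(X, O_X) an immersion). If Y is affine and
f is quasi-affine in this sense, then X is a quasi-affine scheme. -/
theorem result {X Y : Scheme.{u}} [IsAffine Y]
    (f : X ⟶ Y) {ι : Type u} (V : ι → Y.Opens) (hV : iSup V = ⊤) (hVa : ∀ i, IsAffineOpen (V i))
    (hq : ∀ i, Scheme.IsQuasiAffine (↑(f ⁻¹ᵁ V i) : Scheme.{u})) :
    X.IsQuasiAffine := by
  haveI : CompactSpace X := by
    obtain ⟨t, ht⟩ := isCompact_univ.elim_finite_subcover (fun i => (V i : Set Y)) (fun i => (V i).2)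
      (by rw [← TopologicalSpace.Opens.coe_iSup, hV]; rfl)
    refine ⟨?_⟩
    have : (Set.univ : Set X) = ⋃ i ∈ t, ((f ⁻¹ᵁ V i : X.Opens) : Set X) := by
      refine (Set.eq_univ_of_forall fun x => ?_).symm
      simpa using ht (Set.mem_univ (f x))
    rw [this]
    exact t.finite_toSet.isCompact_biUnion fun i _ => isCompact_iff_compactSpace.2 (hq i).toCompactSpace
  refine Groth.Agent.H2QuasiAffine.of_quasiAffine_basicOpens fun x => ?_
  obtain ⟨i, hi⟩ := TopologicalSpace.Opens.mem_iSup.1 (hV.ge (Set.mem_univ (f x)))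
  obtain ⟨_, ⟨_, ⟨r, rfl⟩, rfl⟩, hxr, hrV⟩ := (isBasis_basicOpen Y).exists_subset_of_mem_open hi (V i).2
  refine ⟨f.appTop r, ?_, ?_⟩
  · rw [← Scheme.preimage_basicOpen_top]; exact hxr
  · rw [← Scheme.preimage_basicOpen_top]
    haveI := hq i
    refine Groth.Agent.H2QuasiAffine.isQA_of_le (W := f ⁻¹ᵁ V i) (fun y hy => hrV hy) ?_
    rw [Scheme.preimage_basicOpen_top]
    exact Groth.Agent.H2QuasiAffine.isCompact_basicOpen X _

end Groth.Agent.S10967
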