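import Groth.Statements.S10997
import Groth.Agent.Lib.FunFldC

set_option autoImplicit false
open FunFld

namespace Groth.Agent.S10997

/-- Given distinct places `P∞, P_1, …, P_n` of a function field of one variable, elements `x_i` and
integers `m_i`, some `x ∈ K` has `ord_{P_i}(x - x_i) = m_i` for all `i` and is integral outside
`{P∞, P_1, …, P_n}`. -/
theorem result (k K : Type*) [Field k] [Field K] [Algebra k K]
    (hK : FunFld.IsFunctionField k K) (Pinf : FunFld.Place k K) (n : ℕ) (P : Fin n → FunFld.Place k K) (hP : Function.Injective P)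
    (hinf : Pinf ∉ Set.range P) (x : Fin n → K) (m : Fin n → ℤ) :
    ∃ y : K, (∀ i, (P i).1 (y - x i) = WithZero.exp (-(m i))) ∧
      ∀ Q : FunFld.Place k K, Q ≠ Pinf → Q ∉ Set.range P → Q.1 y ≤ 1 := by
  classical
  obtain ⟨c, hc⟩ := Groth.Agent.FF.exists_delta_eq_of_deg_large hK
  have hP1 := Groth.Agent.FF.deg_pos hK Pinf
  let D₁ : FunFld.Divisor k K := ∑ i, Finsupp.single (P i) (-(m i) - 1)
  let N : ℕ := (c - D₁.deg).toNat
  let D : FunFld.Divisor k K := D₁ + Finsupp.single Pinf (N : ℤ)
  have hD : c ≤ D.deg := by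
    rw [Groth.Agent.FF.deg_add, Groth.Agent.FF.deg_single]
    have h1 : (N : ℤ) ≤ (N : ℤ) * (Pinf.deg : ℤ) := le_mul_of_one_le_right (by omega) (by omega)
    omega
  have had := Groth.Agent.FF.adele_eq_of_delta_eq hK (hc D hD)
  choose t ht0 ht using fun i => Groth.Agent.FF.exists_ord (P i) (m i)
  let a : FunFld.Place k K → K := fun Q => ∑ i, if Q = P i then x i + t i else 0
  have ha : a ∈ FunFld.adele k K := by
    rw [Groth.Agent.FF.mem_adele]
    refine (Set.finite_range P).subset fun Q hQ => ?_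
    by_contra hne
    refine hQ ?_
    have h0 : a Q = 0 := Finset.sum_eq_zero fun i _ => if_neg fun h => hne ⟨i, h.symm⟩
    rw [h0, map_zero]
    exact zero_le'
  have haP : ∀ i, a (P i) = x i + t i := fun i => by
    simp only [a]
    rw [Finset.sum_eq_single i (fun j _ hj => if_neg fun h => hj (hP h).symm) (by simp), if_pos rfl]
  rw [← had] at ha
  obtain ⟨b, hb, _, ⟨y, rfl⟩, hby⟩ := Submodule.mem_sup.1 ha
  have hby' : ∀ Q, y - a Q = -(b Q) := fun Q => by
    have h := congrFun hby Q
    simp only [Pi.add_apply, Groth.Agent.FF.diag_apply] at h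
    rw [← h]; ring
  have hDP : ∀ i, D (P i) = -(m i) - 1 := fun i => by
    simp only [D, D₁, Finsupp.coe_add, Pi.add_apply, Finsupp.coe_finsetSum, Finset.sum_apply]
    rw [Finset.sum_eq_single i (fun j _ hj => Finsupp.single_eq_of_ne (fun h => hj (hP h).symm))
        (by simp), Finsupp.single_eq_same, Finsupp.single_eq_of_ne (fun h => hinf ⟨i, h⟩), add_zero]
  refine ⟨y, fun i => ?_, fun Q hQi hQP => ?_⟩
  · have h1 : y - x i = t i + -(b (P i)) := by rw [← hby' (P i), haP i]; ring
    have h2 : (P i).1 (t i) = WithZero.exp (-(m i)) := by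
      rw [Groth.Agent.FF.val_eq_exp _ (ht0 i), ht i]
    have h3 : (P i).1 (-(b (P i))) < (P i).1 (t i) := by
      rw [Valuation.map_neg, h2]
      refine (hb (P i)).trans_lt (WithZero.exp_lt_exp.2 ?_)
      rw [hDP i]; omega
    rw [h1, (P i).1.map_add_eq_of_lt_left h3, h2]
  · have h1 : a Q = 0 := Finset.sum_eq_zero fun i _ => if_neg fun h => hQP ⟨i, h.symm⟩
    have h2 : y = -(b Q) := by rw [← hby' Q, h1, sub_zero]
    rw [h2, Valuation.map_neg]
    refine (hb Q).trans_eq ?_
    have h3 : D Q = 0 := by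
      simp only [D, D₁, Finsupp.coe_add, Pi.add_apply, Finsupp.coe_finsetSum, Finset.sum_apply]
      rw [Finset.sum_eq_zero fun i _ => Finsupp.single_eq_of_ne fun h => hQP ⟨i, h.symm⟩,
        Finsupp.single_eq_of_ne hQi, add_zero]
    rw [h3, WithZero.exp_zero]

end Groth.Agent.S10997
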