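import Groth.Statements.S11000
import Mathlib

set_option autoImplicit false
set_option backward.isDefEq.respectTransparency.types false
universe u v
open FunFld

namespace Groth.Agent.S11000

/-- Over a perfect ground field every function field of one variable is geometric (`k' ⊗_k K` is a field
for all finite `k'/k`). -/
theorem result (k : Type u) (K : Type v) [Field k] [Field K] [Algebra k K] [PerfectField k]
    (hK : FunFld.IsFunctionField k K) : FunFld.IsGeometric k K := by
  intro k' _ _ hfin
  obtain ⟨α, hα⟩ := Field.exists_primitive_element k k'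
  have hint : IsIntegral k α := IsIntegral.of_finite k α
  let f := minpoly k α
  have hf : f.Monic := minpoly.monic hint
  have hfi : Irreducible f := minpoly.irreducible hint
  have hfm : (f.map (algebraMap k K)).Monic := hf.map _
  have hirr : Irreducible (f.map (algebraMap k K)) := by
    have hdeg : 0 < (f.map (algebraMap k K)).natDegree := by
      rw [Polynomial.natDegree_map]; exact minpoly.natDegree_pos hint
    obtain ⟨g, hgm, hgi, hgd⟩ := Polynomial.exists_monic_irreducible_factor (f.map (algebraMap k K))
      (fun h => by simp [Polynomial.natDegree_eq_zero_of_isUnit h] at hdeg)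
    have hl : g ∈ Polynomial.lifts (algebraMap k K) := (Polynomial.lifts_iff_coeff_lifts g).2 fun i =>
      hK.2 _ (Polynomial.isIntegral_coeff_of_dvd f g hf hgm hgd i).isAlgebraic
    obtain ⟨g₀, hg₀, -, hg₀m⟩ := Polynomial.lifts_and_degree_eq_and_monic hl hgm
    subst hg₀
    have hd : g₀ ∣ f := Polynomial.map_dvd_map' (algebraMap k K) |>.1 hgd
    rcases hfi.dvd_iff.1 hd with hu | ha
    · exact absurd (hu.map (Polynomial.mapRingHom (algebraMap k K))) hgi.not_isUnit
    · rw [Polynomial.eq_of_monic_of_associated hf hg₀m ha]
      exact hgi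
  haveI := Fact.mk hirr
  let L := AdjoinRoot (f.map (algebraMap k K))
  have hroot : Polynomial.aeval (AdjoinRoot.root (f.map (algebraMap k K))) f = 0 := by
    rw [← Polynomial.aeval_map_algebraMap K]
    exact (AdjoinRoot.aeval_eq _).trans AdjoinRoot.mk_self
  let pb := (IntermediateField.adjoin.powerBasis hint).map ((IntermediateField.equivOfEq hα).trans IntermediateField.topEquiv)
  have hgen : pb.gen = α := by simp [pb]
  let ψ : k' →ₐ[k] L := pb.lift (AdjoinRoot.root _) (by rw [hgen]; exact hroot)
  let φ : TensorProduct k K k' →ₐ[K] L := Algebra.TensorProduct.lift (Algebra.ofId K L) ψ (fun _ _ => Commute.all _ _)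
  have hsurj : Function.Surjective φ := by
    intro y
    have hy : y ∈ (⊤ : Subalgebra K L) := trivial
    rw [← AdjoinRoot.adjoinRoot_eq_top] at hy
    have hle : Algebra.adjoin K {AdjoinRoot.root (f.map (algebraMap k K))} ≤ φ.range := by
      rw [Algebra.adjoin_le_iff, Set.singleton_subset_iff]
      refine ⟨1 ⊗ₜ α, ?_⟩
      show φ (1 ⊗ₜ α) = _
      rw [Algebra.TensorProduct.lift_tmul, map_one, one_mul, ← hgen]
      exact PowerBasis.lift_gen _ _ _
    exact hle hy
  have hdim : Module.finrank K (TensorProduct k K k') = Module.finrank K L := by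
    rw [Module.finrank_baseChange, PowerBasis.finrank (AdjoinRoot.powerBasis hirr.ne_zero), AdjoinRoot.powerBasis_dim,
      Polynomial.natDegree_map, PowerBasis.finrank pb]
    simp [pb, f]
  haveI : FiniteDimensional K L := (AdjoinRoot.powerBasis hirr.ne_zero).finite
  have hinj : Function.Injective φ :=
    (LinearMap.injective_iff_surjective_of_finrank_eq_finrank (f := φ.toLinearMap) hdim).2 hsurj
  have e1 : IsField (TensorProduct k K k') :=
    MulEquiv.isField (Field.toIsField L) (AlgEquiv.ofBijective φ ⟨hinj, hsurj⟩).toMulEquiv
  exact MulEquiv.isField e1 (Algebra.TensorProduct.comm k k' K).toMulEquiv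

end Groth.Agent.S11000
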