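import Groth.Statements.S11016
import Groth.Agent.Lib.FunFldC

set_option autoImplicit false
open FunFld

namespace Groth.Agent.S11016

/-- `L(D) ≠ 0` iff there is an effective divisor linearly equivalent to `D`. -/
theorem result (k K : Type*) [Field k] [Field K] [Algebra k K]
    (hK : FunFld.IsFunctionField k K) (D : FunFld.Divisor k K) :
    FunFld.L D ≠ ⊥ ↔ ∃ x : K, x ≠ 0 ∧ 0 ≤ D + FunFld.div k x := by
  constructor
  · intro h
    obtain ⟨x, hx, hx0⟩ := Submodule.exists_mem_ne_zero_of_ne_bot h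
    exact ⟨x, hx0, add_comm D (FunFld.div k x) ▸ (Groth.Agent.FF.mem_L_iff hK hx0).1 hx⟩
  · rintro ⟨x, hx0, hx⟩ hbot
    have hmem := (Groth.Agent.FF.mem_L_iff hK hx0 (D := D)).2 (add_comm D (FunFld.div k x) ▸ hx)
    rw [hbot, Submodule.mem_bot] at hmem
    exact hx0 hmem

end Groth.Agent.S11016
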