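import Groth.Statements.S11017
import Groth.Agent.Lib.FunFldC

set_option autoImplicit false
open FunFld

namespace Groth.Agent.S11017

/-- For a Weil differential `ω` with divisor `C`, `ord_P [ω] ≥ e` iff `ω` kills every repartition
concentrated at `P` with `P`-component of order at least `-e`. -/
theorem result (k K : Type*) [Field k] [Field K] [Algebra k K] (ω : Module.Dual k (FunFld.adele k K)) (C : FunFld.Divisor k K) (hω : FunFld.IsDivOf ω C)
    (P : FunFld.Place k K) (e : ℤ) :
    e ≤ C P ↔ ∀ (a : FunFld.Place k K → K) (ha : a ∈ FunFld.adele k K),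
      (∀ Q, Q ≠ P → a Q = 0) → P.1 (a P) ≤ WithZero.exp e → ω ⟨a, ha⟩ = 0 := by
  classical
  constructor
  · intro he a ha hQ hP
    have hle : Finsupp.single P e + (C - Finsupp.single P (C P)) ≤ C := fun Q => by
      simp only [Finsupp.coe_add, Finsupp.coe_sub, Pi.add_apply, Pi.sub_apply, Finsupp.single_apply]
      split_ifs with h
      · subst h; omega
      · omega
    refine Groth.Agent.FF.mem_WD.1 (Groth.Agent.FF.WD_anti hle ((hω C).2 le_rfl)) ⟨a, ha⟩
      (Submodule.mem_sup_left fun Q => ?_)
    by_cases h : Q = P
    · subst h; simpa using hP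
    · rw [show ((⟨a, ha⟩ : FunFld.adele k K) : FunFld.Place k K → K) Q = 0 from hQ Q h, map_zero]
      exact zero_le'
  · intro h
    set E : FunFld.Divisor k K := C ⊔ (Finsupp.single P e + (C - Finsupp.single P (C P))) with hE
    have hEW : ω ∈ FunFld.WD E := Groth.Agent.FF.mem_WD.2 fun a ha => by
      obtain ⟨b, hb, r, hr, hbr⟩ := Submodule.mem_sup.1 ha
      have hbad : b ∈ FunFld.adele k K := Groth.Agent.FF.AD_le_adele E hb
      let b₁ : FunFld.Place k K → K := Function.update b P 0
      let b₂ : FunFld.Place k K → K := Function.update 0 P (if C P < e then b P else 0)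
      have hb1 : b - b₂ ∈ FunFld.AD C := fun Q => by
        by_cases hQ : Q = P
        · subst hQ
          simp only [b₂, Pi.sub_apply, Function.update_self]
          split_ifs with hc
          · simp
          · rw [sub_zero]
            refine (hb Q).trans (WithZero.exp_le_exp.2 ?_)
            simp only [hE, Finsupp.sup_apply, Finsupp.coe_add, Finsupp.coe_sub, Pi.add_apply,
              Pi.sub_apply, Finsupp.single_eq_same]
            exact sup_le le_rfl (by omega)
        · simp only [b₂, Pi.sub_apply, Function.update_of_ne hQ, Pi.zero_apply, sub_zero]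
          refine (hb Q).trans (WithZero.exp_le_exp.2 ?_)
          simp only [hE, Finsupp.sup_apply, Finsupp.coe_add, Finsupp.coe_sub, Pi.add_apply,
            Pi.sub_apply, Finsupp.single_eq_of_ne hQ]
          exact sup_le le_rfl (by omega)
      have hb2 : b₂ ∈ FunFld.adele k K := by
        rw [Groth.Agent.FF.mem_adele]
        refine (Set.finite_singleton P).subset fun Q hQ => ?_
        by_contra hne
        refine hQ ?_
        simp [b₂, Function.update_of_ne (show Q ≠ P from hne)]
      have hrest : (a : FunFld.Place k K → K) - b₂ ∈ FunFld.AD C ⊔ LinearMap.range (FunFld.diag k K) := by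
        rw [← hbr, add_sub_right_comm]
        exact Submodule.add_mem_sup hb1 hr
      have e1 : a = (⟨(a : FunFld.Place k K → K) - b₂, sub_mem a.2 hb2⟩ : FunFld.adele k K) + ⟨b₂, hb2⟩ :=
        Subtype.ext (sub_add_cancel _ _).symm
      rw [e1, map_add, Groth.Agent.FF.mem_WD.1 ((hω C).2 le_rfl) _ hrest, zero_add]
      refine h b₂ hb2 (fun Q hQ => by simp [b₂, Function.update_of_ne hQ]) ?_
      simp only [b₂, Function.update_self]
      split_ifs with hc
      · refine (hb P).trans (WithZero.exp_le_exp.2 ?_)
        simp only [hE, Finsupp.sup_apply, Finsupp.coe_add, Finsupp.coe_sub, Pi.add_apply,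
          Pi.sub_apply, Finsupp.single_eq_same]
        exact sup_le hc.le (by omega)
      · simp
    have := (hω E).1 hEW P
    simp only [hE, Finsupp.sup_apply, Finsupp.coe_add, Finsupp.coe_sub, Pi.add_apply,
      Pi.sub_apply, Finsupp.single_eq_same] at this
    have := le_sup_right.trans this
    omega

end Groth.Agent.S11017
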