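import Groth.Statements.S11043
import Mathlib

set_option autoImplicit false
open FunFld

namespace Groth.Agent.S11043

/-- For positive integers `n`, `d` with `e = gcd(n, d)`, in `ℂ[t]` one has `(1 - t^{nd/e})^e = ∏_{θⁿ =
1} (1 - (θ t)^d)`, the product over the complex `n`-th roots of unity. -/
theorem result (n d : ℕ) (hn : 0 < n) (hd : 0 < d) :
    ((1 : Polynomial ℂ) - Polynomial.X ^ (n * d / Nat.gcd n d)) ^ Nat.gcd n d =
      ∏ θ ∈ Polynomial.nthRootsFinset n (1 : ℂ),
        (1 - Polynomial.C (θ ^ d) * Polynomial.X ^ d) := by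
  classical
  set e := Nat.gcd n d with he
  have he0 : 0 < e := Nat.gcd_pos_of_pos_left _ hn
  obtain ⟨ζ, hζ⟩ : ∃ ζ : ℂ, IsPrimitiveRoot ζ n := ⟨_, Complex.isPrimitiveRoot_exp n hn.ne'⟩
  obtain ⟨q, hq⟩ : e ∣ n := Nat.gcd_dvd_left n d
  have hq0 : 0 < q := Nat.pos_of_ne_zero (by rintro rfl; simp at hq; omega)
  have hη : IsPrimitiveRoot (ζ ^ d) q := by
    have h1 : IsPrimitiveRoot (ζ ^ e) q := hζ.pow hn hq
    obtain ⟨d', hd'⟩ : e ∣ d := Nat.gcd_dvd_right n d
    rw [hd', pow_mul]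
    refine h1.pow_of_coprime d' ?_
    have := Nat.coprime_div_gcd_div_gcd (m := n) (n := d) he0
    rw [← he, hq, hd', Nat.mul_div_cancel_left _ he0, Nat.mul_div_cancel_left _ he0] at this
    exact this.symm
  have hfin : ∀ (m : ℕ) (ξ : ℂ), 0 < m → IsPrimitiveRoot ξ m → Polynomial.nthRootsFinset m (1 : ℂ) = (Finset.range m).image (ξ ^ ·) := by
    intro m ξ hm hξ
    ext θ
    rw [Polynomial.mem_nthRootsFinset hm, Finset.mem_image]
    constructor
    · intro h
      haveI : NeZero m := ⟨hm.ne'⟩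
      obtain ⟨i, hi, rfl⟩ := hξ.eq_pow_of_pow_eq_one h
      exact ⟨i, Finset.mem_range.2 hi, rfl⟩
    · rintro ⟨i, -, rfl⟩
      rw [← pow_mul, mul_comm, pow_mul, hξ.pow_eq_one, one_pow]
  have hblock : ∏ i ∈ Finset.range q, (1 - Polynomial.C ((ζ ^ d) ^ i) * Polynomial.X ^ d) = 1 - Polynomial.X ^ (d * q) := by
    have h1 : IsPrimitiveRoot (Polynomial.C (ζ ^ d)) q := hη.map_of_injective Polynomial.C_injective
    have := h1.pow_sub_pow_eq_prod_sub_mul (1 : Polynomial ℂ) (Polynomial.X ^ d) hq0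
    rw [one_pow, ← pow_mul] at this
    rw [this]
    rw [show Polynomial.nthRootsFinset q (1 : Polynomial ℂ) = (Finset.range q).image (fun i => (Polynomial.C (ζ ^ d)) ^ i) from ?_, Finset.prod_image]
    · simp_rw [map_pow]
    · intro i hi j hj h
      exact h1.pow_inj (Finset.mem_range.1 hi) (Finset.mem_range.1 hj) h
    · ext θ
      rw [Polynomial.mem_nthRootsFinset hq0, Finset.mem_image]
      constructor
      · intro h
        haveI : NeZero q := ⟨hq0.ne'⟩
        obtain ⟨i, hi, rfl⟩ := h1.eq_pow_of_pow_eq_one h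
        exact ⟨i, Finset.mem_range.2 hi, rfl⟩
      · rintro ⟨i, -, rfl⟩
        rw [← pow_mul, mul_comm, pow_mul, h1.pow_eq_one, one_pow]
  rw [hfin n ζ hn hζ, Finset.prod_image (fun i hi j hj h => hζ.pow_inj (Finset.mem_range.1 hi) (Finset.mem_range.1 hj) h)]
  have hper : ∀ k, ∏ i ∈ Finset.range (q * k), (1 - Polynomial.C ((ζ ^ i) ^ d) * Polynomial.X ^ d) = (1 - Polynomial.X ^ (d * q)) ^ k := fun k => by
    induction k with
    | zero => simp
    | succ k ih =>
      rw [Nat.mul_succ, Finset.prod_range_add, ih, pow_succ, ← hblock]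
      congr 1
      refine Finset.prod_congr rfl fun i _ => ?_
      rw [show (ζ ^ (q * k + i)) ^ d = (ζ ^ d) ^ i by rw [← pow_mul, mul_comm, pow_mul, pow_add, pow_mul, hη.pow_eq_one, one_pow, one_mul]]
  rw [show n * d / e = d * q by rw [hq, mul_assoc, Nat.mul_div_cancel_left _ he0, mul_comm], show n = q * e by rw [hq, mul_comm], hper]

end Groth.Agent.S11043
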