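import Mathlib
import Groth.Statements.S11049
-- import your own Groth.Agent.* helpers here

set_option autoImplicit false
open CAlg

namespace Groth.Agent.S11049

/-- For `k`-algebras `S ⊆ R` with `R` an integral domain and a nonzero `x ∈ S`, if `R/S` and `R/Rx` are
finite-dimensional over `k` then `dim_k R/Rx = dim_k S/Sx`. (The published statement allows `x = 0`;
then `R` is a field finite over `k` and the two sides are `dim_k R` and `dim_k S`, which differ for
`S = k ⊊ R`; the published proof multiplies by `x` as an injection, so `x ≠ 0` is assumed here.) -/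
theorem result
    (k R : Type*) [Field k] [CommRing R]
    [IsDomain R] [Algebra k R] (S : Subalgebra k R) (x : S) (hx : (x : R) ≠ 0)
    [Module.Finite k (R ⧸ Subalgebra.toSubmodule S)]
    [Module.Finite k (R ⧸ Ideal.span {(x : R)})] :
    Module.finrank k (R ⧸ Ideal.span {(x : R)}) = Module.finrank k (S ⧸ Ideal.span {x}) := by
  let S' : Submodule k R := Subalgebra.toSubmodule S
  let L : R →ₗ[k] R := LinearMap.mulLeft k (x : R)
  let N : Submodule k R := S'.map L
  let P : Submodule k R := (Ideal.span {(x : R)}).restrictScalars k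
  have hNP : N ≤ P := by
    rintro _ ⟨s, _, rfl⟩
    exact Ideal.mem_span_singleton.2 (dvd_mul_right _ _)
  have hNS : N ≤ S' := by
    rintro _ ⟨s, hs, rfl⟩
    exact S.mul_mem x.2 hs
  let α : (R ⧸ S') →ₗ[k] (R ⧸ N) := S'.mapQ N L (Submodule.map_le_iff_le_comap.1 le_rfl)
  have hα : Function.Injective α := by
    rw [injective_iff_map_eq_zero]
    intro z hz
    obtain ⟨r, rfl⟩ := S'.mkQ_surjective z
    change (Submodule.Quotient.mk (L r) : R ⧸ N) = 0 at hz
    rw [Submodule.Quotient.mk_eq_zero] at hz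
    obtain ⟨s, hs, hs'⟩ := hz
    have : s = r := mul_left_cancel₀ hx hs'
    exact (Submodule.Quotient.mk_eq_zero S').2 (this ▸ hs)
  let I : Submodule k S := (Ideal.span {x}).restrictScalars k
  let β : (S ⧸ I) →ₗ[k] (R ⧸ N) := I.mapQ N S.val.toLinearMap (by
    intro s hs
    obtain ⟨t, rfl⟩ := Ideal.mem_span_singleton.1 hs
    exact ⟨t, t.2, rfl⟩)
  have hβ : Function.Injective β := by
    rw [injective_iff_map_eq_zero]
    intro z hz
    obtain ⟨s, rfl⟩ := I.mkQ_surjective z
    change (Submodule.Quotient.mk (s : R) : R ⧸ N) = 0 at hz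
    rw [Submodule.Quotient.mk_eq_zero] at hz
    obtain ⟨t, ht, ht'⟩ := hz
    exact (Submodule.Quotient.mk_eq_zero I).2 (Ideal.mem_span_singleton.2 ⟨⟨t, ht⟩, Subtype.ext ht'.symm⟩)
  haveI : Module.Finite k (R ⧸ S') := ‹Module.Finite k (R ⧸ Subalgebra.toSubmodule S)›
  haveI : Module.Finite k (R ⧸ P) := Module.Finite.equiv (Submodule.Quotient.restrictScalarsEquiv k (Ideal.span {(x : R)})).symm
  let γ1 : (R ⧸ N) →ₗ[k] (R ⧸ P) := Submodule.factor hNP
  let γ2 : (R ⧸ N) →ₗ[k] (R ⧸ S') := Submodule.factor hNS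
  have h1 : LinearMap.ker γ1 = LinearMap.range α := by
    ext z
    obtain ⟨r, rfl⟩ := N.mkQ_surjective z
    constructor
    · intro h
      change (Submodule.Quotient.mk r : R ⧸ P) = 0 at h
      rw [Submodule.Quotient.mk_eq_zero] at h
      obtain ⟨t, rfl⟩ := Ideal.mem_span_singleton.1 h
      exact ⟨Submodule.Quotient.mk t, rfl⟩
    · rintro ⟨w, hw⟩
      obtain ⟨t, rfl⟩ := S'.mkQ_surjective w
      rw [← hw]
      exact (Submodule.Quotient.mk_eq_zero P).2 (Ideal.mem_span_singleton.2 (dvd_mul_right _ _))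
  have h2 : LinearMap.ker γ2 = LinearMap.range β := by
    ext z
    obtain ⟨r, rfl⟩ := N.mkQ_surjective z
    constructor
    · intro h
      change (Submodule.Quotient.mk r : R ⧸ S') = 0 at h
      rw [Submodule.Quotient.mk_eq_zero] at h
      exact ⟨Submodule.Quotient.mk (⟨r, h⟩ : S), rfl⟩
    · rintro ⟨w, hw⟩
      obtain ⟨t, rfl⟩ := I.mkQ_surjective w
      rw [← hw]
      exact (Submodule.Quotient.mk_eq_zero S').2 t.2
  haveI : Module.Finite k (LinearMap.ker γ1) := by rw [h1]; infer_instance
  haveI : Module.Finite k (R ⧸ N) := by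
    haveI : Module.Finite k ((R ⧸ N) ⧸ LinearMap.ker γ1) :=
      Module.Finite.equiv (γ1.quotKerEquivOfSurjective (Submodule.factor_surjective hNP)).symm
    exact Module.Finite.of_submodule_quotient (LinearMap.ker γ1)
  have e1 := LinearMap.finrank_range_add_finrank_ker γ1
  have e2 := LinearMap.finrank_range_add_finrank_ker γ2
  rw [LinearMap.range_eq_top.2 (Submodule.factor_surjective hNP), finrank_top, h1, LinearMap.finrank_range_of_inj hα] at e1
  rw [LinearMap.range_eq_top.2 (Submodule.factor_surjective hNS), finrank_top, h2, LinearMap.finrank_range_of_inj hβ] at e2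
  have a1 : Module.finrank k (R ⧸ P) = Module.finrank k (R ⧸ Ideal.span {(x : R)}) :=
    (Submodule.Quotient.restrictScalarsEquiv k (Ideal.span {(x : R)})).finrank_eq
  have a2 : Module.finrank k (S ⧸ I) = Module.finrank k (S ⧸ Ideal.span {x}) :=
    (Submodule.Quotient.restrictScalarsEquiv k (Ideal.span {x})).finrank_eq
  omega

end Groth.Agent.S11049
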