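import Groth.Agent.Lib.LGlobGen
import Groth.Agent.Lib.LDual
import Groth.Prelude.Def_PerfAux
import Mathlib

set_option autoImplicit false
universe u
open CategoryTheory Limits AlgebraicGeometry Opposite TopologicalSpace

namespace Groth.Agent.S1108

open Groth.Agent.LQcoh Groth.Agent.LInv Groth.Agent.LTwist Groth.Agent.LGlobGen

theorem exists_affine_cover {X : Scheme.{u}} (L : X.Modules) (hL : CohB1.IsAmple L) (M : X.Modules)
    [M.IsQuasicoherent] (hM : CohB1.IsFT M) :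
    ∃ (n : ℕ) (D : X.Modules) (hD : PicF.IsInvertible D) (e : ClSub.IsInverseOf (CohB1.tensorPow L n) D)
      (k : ℕ) (p : FlatMod.freeMod X k ⟶ CohB1.tensorMod M (CohB1.tensorPow L n)),
      Epi (LTensor.tmap p (𝟙 D)) := by
  haveI := hL.2.1
  obtain ⟨n, hn⟩ := exists_bound hL M hM
  have hLn := isInvertible_tensorPow hL.1 n
  obtain ⟨D, hD, e⟩ := LDual.exists_inverse hLn
  let G := CohB1.tensorMod M (CohB1.tensorPow L n)
  haveI : G.IsQuasicoherent := isQuasicoherent_tensor M hLn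
  haveI : SheafOfModules.IsFiniteType (R := X.ringCatSheaf) G := isFT_tensor M hM hLn
  haveI : (CohB1.tensorMod G D).IsQuasicoherent := isQuasicoherent_tensor G hD
  have hsmall : ∀ x : X, ∃ (V : X.Opens) (τ : Γ(D, V)), x ∈ V ∧ IsAffineOpen V ∧ SpanOn G V ∧ GenOn D V τ := fun x => by
    obtain ⟨U, hx, hU, hspan⟩ := hn n le_rfl x
    obtain ⟨V, τ, hxV, hVU, -, hτ⟩ := exists_affine_gen hD (V := U) hx
    obtain ⟨g, hg, hxg⟩ := hU.exists_basicOpen_le (V := V) ⟨x, hxV⟩ hx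
    exact ⟨X.basicOpen g, res D hg τ, hxg, hU.basicOpen g, hspan.basicOpen hU g, hτ.mono hg⟩
  choose V τ hxV hV hspan hτ using hsmall
  obtain ⟨T, hT⟩ := isCompact_univ.elim_finite_subcover (fun x : X => (V x : Set X)) (fun x => (V x).2)
    (fun x _ => Set.mem_iUnion.2 ⟨x, hxV x⟩)
  have hfin : ∀ x : X, ∃ S : Finset Γ(G, ⊤),
      Submodule.span Γ(X, V x) ((fun v : Γ(G, ⊤) => (res G (le_top : V x ≤ ⊤) v : Γ(G, V x))) '' (S : Set Γ(G, ⊤))) = ⊤ := fun x => by
    haveI := finite_sections G (hV x)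
    obtain ⟨A, hA, hspanA⟩ := (Module.Finite.fg_top (R := Γ(X, V x)) (M := Γ(G, V x))) |> fun h =>
      Submodule.fg_span_iff_fg_span_finset_subset _ |>.1 ((hspan x).symm ▸ h)
    classical
    obtain ⟨S, hS⟩ := Finset.subset_set_image_iff.1 (show (A : Set Γ(G, V x)) ⊆
      (fun v : Γ(G, ⊤) => (res G (le_top : V x ≤ ⊤) v : Γ(G, V x))) '' Set.univ from fun a ha => by
        rw [Set.image_univ]; exact hA ha)
    refine ⟨S, ?_⟩
    rw [← hS.2, Finset.coe_image] at hspanA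
    exact hspanA.symm.trans (hspan x)
  choose S hS using hfin
  classical
  let A : Finset Γ(G, ⊤) := T.biUnion S
  let v : Fin A.card → Γ(G, ⊤) := fun i => (A.equivFin.symm i).1
  let p : FlatMod.freeMod X A.card ⟶ G := Sigma.desc fun i => LAmple.homTop (v i)
  refine ⟨n, D, hD, e, A.card, p, LNoethObj.epi_of_surjective_cover _ (fun x : T => V x.1) (fun x => hV x.1) ?_ ?_⟩
  · refine eq_top_iff.2 fun y _ => ?_
    obtain ⟨x, hx, hy⟩ := Set.mem_iUnion₂.1 (hT (Set.mem_univ y))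
    exact Opens.mem_iSup.2 ⟨⟨x, hx⟩, hy⟩
  · rintro ⟨x, hx⟩ z
    obtain ⟨g, rfl⟩ := (tmul_bijective G (hτ x) (le_refl (V x))).2 z
    have hg : g ∈ LinearMap.range (LQcoh.appLin p (V x)) := by
      refine (Submodule.span_le.2 ?_) (show g ∈ Submodule.span Γ(X, V x) ((fun v : Γ(G, ⊤) => (res G (le_top : V x ≤ ⊤) v : Γ(G, V x))) '' (S x : Set Γ(G, ⊤))) from (hS x).symm ▸ trivial)
      rintro _ ⟨w, hw, rfl⟩
      let i := A.equivFin ⟨w, Finset.mem_biUnion.2 ⟨x, hx, hw⟩⟩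
      refine ⟨Scheme.Modules.Hom.app (Sigma.ι (fun _ : Fin A.card => Coh.structureModule X) i) (V x) (1 : Γ(X, V x)), ?_⟩
      have h1 := congrArg (fun φ : Coh.structureModule X ⟶ G => Scheme.Modules.Hom.app φ (V x) (1 : Γ(X, V x)))
        (Sigma.ι_desc (fun i => LAmple.homTop (v i)) i)
      refine h1.trans ((LAmple.val_homTop (v i) (V x)).trans ?_)
      exact congrArg _ (congrArg Subtype.val (A.equivFin.symm_apply_apply _))
    obtain ⟨a, rfl⟩ := hg
    exact ⟨SecTwist.tmul _ D (V x) a (res D le_rfl (τ x)),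
      LTensor.tmap_tmul p (𝟙 D) (V x) a (res D le_rfl (τ x))⟩

/-- A scheme X admitting an ample invertible O_X-module has the resolution property: every
quasi-coherent O_X-module of finite type is a quotient of a finite locally free O_X-module. -/
theorem result (X : Scheme.{u}) (L : X.Modules) (hL : CohB1.IsAmple L) : PerfAux.HasResolutionProperty X := by
  intro M hM hFT
  haveI : M.IsQuasicoherent := hM
  obtain ⟨n, D, hD, ⟨e⟩, k, p, hp⟩ := exists_affine_cover L hL M hFT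
  obtain ⟨a⟩ := LTensor.assoc M (CohB1.tensorPow L n) D
  refine ⟨CohB1.tensorMod (FlatMod.freeMod X k) D,
    LTensor.tmap p (𝟙 D) ≫ (a ≪≫ LTensor.mapIso (Iso.refl M) e ≪≫ SecTwist.unitorR M).hom, fun x => ?_,
    epi_comp _ _⟩
  obtain ⟨U, σ, hx, hσ⟩ := (isInvertible_iff D).1 hD x
  exact ⟨U, k, hx, ⟨(LTensor.restrictIso U.ι _ _).symm ≪≫
    LTensor.mapIso (PreservesCoproduct.iso (Scheme.Modules.restrictFunctor U.ι) _ ≪≫
      Sigma.mapIso (fun _ => Scheme.Modules.restrictUnitIso U.ι)) (LInv.iso hσ) ≪≫ SecTwist.unitorR _⟩⟩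

end Groth.Agent.S1108
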