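import Groth.Statements.S11100
import Mathlib
import Groth.Agent.Lib.H2SmoothRegular
import Groth.Agent.Lib.RegularLocalBasic

set_option autoImplicit false
universe u
open CategoryTheory AlgebraicGeometry
open Neron

namespace Groth.Agent.S11100


open scoped TensorProduct in
open IsLocalRing in
/-- A flat regular local algebra with a section over a local principal ideal domain is smooth. -/
theorem fs_of_section (R A R' : Type u) [CommRing R] [IsLocalRing R] [IsPrincipalIdealRing R]
    [CommRing A] [IsRegularLocalRing A] [Algebra R A] [Module.Flat R A] [IsLocalHom (algebraMap R A)]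
    [Algebra.EssFiniteType R A] [CommRing R'] (τ : A →+* R') [IsLocalHom τ]
    (hbij : Function.Bijective (τ.comp (algebraMap R A))) : Algebra.FormallySmooth R A := by
  let e : R ≃+* R' := RingEquiv.ofBijective _ hbij
  let τ0 : A →+* R := e.symm.toRingHom.comp τ
  have hτ0 : ∀ r, τ0 (algebraMap R A r) = r := fun r => e.symm_apply_apply r
  have hτm : ∀ a ∈ maximalIdeal A, τ0 a ∈ maximalIdeal R := fun a ha hu => by
    have h1 := hu.map e.toRingHom
    simp only [τ0, RingHom.coe_comp, Function.comp_apply, RingEquiv.toRingHom_eq_coe, RingHom.coe_coe,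
      RingEquiv.apply_symm_apply] at h1
    exact ha (IsLocalHom.map_nonunit (f := τ) _ h1)
  obtain ⟨π, hπ⟩ := (IsPrincipalIdealRing.principal (maximalIdeal R)).principal
  have hπ' : maximalIdeal R = Ideal.span {π} := hπ
  have hπm : π ∈ maximalIdeal R := hπ' ▸ Ideal.mem_span_singleton_self π
  have hmap : (maximalIdeal R).map (algebraMap R A) = Ideal.span {algebraMap R A π} := by
    rw [hπ', Ideal.map_span, Set.image_singleton]
  have hreg : IsRegularLocalRing (A ⧸ (maximalIdeal R).map (algebraMap R A)) := by
    rw [hmap]
    by_cases h0 : π = 0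
    · exact IsRegularLocalRing.of_ringEquiv ((Ideal.quotEquivOfEq (I := Ideal.span {algebraMap R A π}) (J := ⊥)
        (by simp [h0])).trans (RingEquiv.quotientBot A)).symm
    · refine (RegLocal.quotient_singleton (x := algebraMap R A π) ?_ ?_).1
      · exact fun hu => hπm (IsLocalHom.map_nonunit (f := algebraMap R A) _ hu)
      · intro h2
        have hle : (maximalIdeal A).map τ0 ≤ maximalIdeal R := Ideal.map_le_iff_le_comap.mpr hτm
        have h3 : π ∈ maximalIdeal R ^ 2 := by
          have h4 := Ideal.mem_map_of_mem τ0 h2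
          rw [hτ0, Ideal.map_pow] at h4
          exact Ideal.pow_right_mono hle 2 h4
        have hbot : maximalIdeal R = ⊥ := by
          refine Submodule.eq_bot_of_le_smul_of_le_jacobson_bot (maximalIdeal R) _ (IsNoetherian.noetherian _) ?_
            (IsLocalRing.jacobson_eq_maximalIdeal _ bot_ne_top).ge
          rw [smul_eq_mul, ← pow_two]
          conv_lhs => rw [hπ']
          rwa [Ideal.span_singleton_le_iff_mem]
        rw [hbot] at hπm
        exact h0 (Ideal.mem_bot.mp hπm)
  let κ := ResidueField R
  let eF : (A ⧸ (maximalIdeal R).map (algebraMap R A)) ≃+* κ ⊗[R] A :=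
    (Algebra.TensorProduct.quotIdealMapEquivTensorQuot A (maximalIdeal R)).toRingEquiv.trans
      (Algebra.TensorProduct.comm R A κ).toRingEquiv
  haveI : IsRegularLocalRing (κ ⊗[R] A) := IsRegularLocalRing.of_ringEquiv eF
  let σ : A →ₐ[R] κ :=
    { (IsLocalRing.residue R).comp τ0 with
      commutes' := fun r => by
        show IsLocalRing.residue R (τ0 (algebraMap R A r)) = _
        rw [hτ0]; rfl }
  let ψ : κ ⊗[R] A →ₐ[κ] κ := Algebra.TensorProduct.lift (AlgHom.id κ κ) σ (fun _ _ => .all _ _)
  have hψ : ∀ c : κ, ψ (algebraMap κ (κ ⊗[R] A) c) = c := fun c => by simp [ψ, Algebra.TensorProduct.algebraMap_apply]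
  have hker : RingHom.ker ψ.toRingHom = maximalIdeal (κ ⊗[R] A) :=
    IsLocalRing.eq_maximalIdeal (RingHom.ker_isMaximal_of_surjective ψ.toRingHom fun c => ⟨_, hψ c⟩)
  haveI : Algebra.FormallySmooth κ (ResidueField (κ ⊗[R] A)) := by
    refine Algebra.FormallySmooth.of_equiv (AlgEquiv.ofBijective (Algebra.ofId κ (ResidueField (κ ⊗[R] A)))
      ⟨(Algebra.ofId κ (ResidueField (κ ⊗[R] A))).toRingHom.injective, fun z => ?_⟩)
    obtain ⟨z, rfl⟩ := IsLocalRing.residue_surjective z
    refine ⟨ψ z, ?_⟩
    show IsLocalRing.residue _ (algebraMap κ (κ ⊗[R] A) (ψ z)) = IsLocalRing.residue _ z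
    refine Ideal.Quotient.eq.mpr ?_
    rw [← hker, RingHom.mem_ker, AlgHom.toRingHom_eq_coe, RingHom.coe_coe, map_sub, hψ, sub_self]
  haveI : Algebra.FormallySmooth κ (κ ⊗[R] A) := H2SmoothRegular.formallySmooth_iff_regular.mpr inferInstance
  let P := Algebra.EssFiniteType.subalgebra R A
  haveI : Algebra.FinitePresentation R P := Algebra.FinitePresentation.of_finiteType.mp inferInstance
  exact Algebra.FormallySmooth.of_formallySmooth_residueField_tensor (R := R) (S := A) (P := P)
    (Algebra.EssFiniteType.submonoid R A)

/-- Let R be a Dedekind domain and p : X → Spec R flat and locally of finite presentation with X regular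
(all local rings regular). Then every section s of p factors through the smooth locus of p: for
every point t of Spec R, p is smooth at s(t). (The published statement is for regular arithmetic
surfaces over a Dedekind domain with perfect residue fields; this row assumes only that X is flat,
locally of finite presentation and regular.) -/
theorem result {R : Type u} [CommRing R] [IsDedekindDomain R]
    {X : Scheme.{u}} (p : X ⟶ Spec (CommRingCat.of R)) [Flat p] [LocallyOfFinitePresentation p]
    (hreg : ∀ x : X, IsRegularLocalRing (X.presheaf.stalk x))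
    (s : Spec (CommRingCat.of R) ⟶ X) (hs : s ≫ p = 𝟙 _) (t : Spec (CommRingCat.of R)) :
    s.base t ∈ p.smoothLocus := by
  set x := s.base t with hxdef
  rw [Scheme.Hom.mem_smoothLocus]
  let pt : PrimeSpectrum R := p x
  let R0 := (Spec.structureSheaf R).presheaf.stalk (p x)
  haveI hloc : IsLocalization.AtPrime R0 pt.asIdeal :=
    inferInstanceAs (IsLocalization.AtPrime ((Spec.structureSheaf R).presheaf.stalk (p x)) (p x).asIdeal)
  haveI : IsDomain R0 := IsLocalization.isDomain_of_le_nonZeroDivisors (R := R) R0 (Ideal.primeCompl_le_nonZeroDivisors pt.asIdeal)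
  haveI : IsPrincipalIdealRing R0 := by
    by_cases h : pt.asIdeal = ⊥
    · haveI : IsFractionRing R R0 := by
        show IsLocalization (nonZeroDivisors R) R0
        have : pt.asIdeal.primeCompl = nonZeroDivisors R := by
          ext; simp [Ideal.primeCompl, h]
        rw [← this]; exact hloc
      letI := IsFractionRing.toField R (K := R0)
      infer_instance
    · haveI := IsLocalization.AtPrime.isDiscreteValuationRing_of_dedekind_domain R h R0
      infer_instance
  have e1 := LocallyOfFiniteType.stalkMap p x
  have e2 := Flat.stalkMap p x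
  haveI := hreg x
  have hc : IsIso (p.stalkMap x ≫ s.stalkMap t) := by
    have h1 : IsIso ((s ≫ p).stalkMap t) := by
      rw [Scheme.Hom.stalkMap_congr_hom _ _ hs t, Scheme.Hom.stalkMap_id]
      exact IsIso.comp_isIso' (Iso.isIso_hom _) (IsIso.id _)
    rw [Scheme.Hom.stalkMap_comp] at h1
    exact h1
  haveI : IsPrincipalIdealRing ((Spec (CommRingCat.of R)).presheaf.stalk (p x)) := ‹IsPrincipalIdealRing R0›
  algebraize [(p.stalkMap x).hom]
  haveI : IsLocalHom (algebraMap ((Spec (CommRingCat.of R)).presheaf.stalk (p x)) (X.presheaf.stalk x)) := p.toLRSHom.prop x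
  haveI : IsLocalHom (s.stalkMap t).hom := s.toLRSHom.prop t
  exact fs_of_section ((Spec (CommRingCat.of R)).presheaf.stalk (p x)) (X.presheaf.stalk x) ((Spec (CommRingCat.of R)).presheaf.stalk t) (s.stalkMap t).hom
    (ConcreteCategory.bijective_of_isIso (p.stalkMap x ≫ s.stalkMap t))

end Groth.Agent.S11100
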