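import Groth.Statements.S11104
import Mathlib
import Groth.Agent.Lib.RegularQuotient

set_option autoImplicit false
universe u
open Neron

namespace Groth.Agent.S11104

theorem regular_adjoinRoot {S : Type u} [CommRing S] (g : Polynomial S) (P : Ideal (AdjoinRoot g))
    [P.IsPrime] (Q : Ideal (Polynomial S)) [Q.IsPrime] (hQ : P.comap (AdjoinRoot.mk g) = Q)
    [IsRegularLocalRing (Localization.AtPrime Q)]
    (hsq : algebraMap _ (Localization.AtPrime Q) g ∉ IsLocalRing.maximalIdeal _ ^ 2) :
    IsRegularLocalRing (Localization.AtPrime P) := by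
  have hgQ : g ∈ Q := by
    rw [← hQ, Ideal.mem_comap, AdjoinRoot.mk_self]; exact P.zero_mem
  have hm : algebraMap _ (Localization.AtPrime Q) g ∈ IsLocalRing.maximalIdeal _ := by
    rw [← Localization.AtPrime.map_eq_maximalIdeal]
    exact Ideal.mem_map_of_mem _ hgQ
  have hreg := (RegLocal.quotient_singleton hm hsq).1
  have hmap : (Ideal.span {g}).map (algebraMap (Polynomial S) (Localization.AtPrime Q)) =
      Ideal.span {algebraMap (Polynomial S) (Localization.AtPrime Q) g} := by
    rw [Ideal.map_span, Set.image_singleton]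
  have hreg' : IsRegularLocalRing (Localization.AtPrime Q ⧸
      (Ideal.span {g}).map (algebraMap (Polynomial S) (Localization.AtPrime Q))) := by
    rw [hmap]; exact hreg
  haveI hP' : @Ideal.IsPrime (Polynomial S ⧸ Ideal.span {g}) _ P := ‹P.IsPrime›
  exact IsRegularLocalRing.of_ringEquiv (@RegLocal.quotientLocalizationEquiv _ _ (Ideal.span {g}) Q _
    ((Ideal.span_singleton_le_iff_mem Q).mpr hgQ) P hP' hQ).symm

/-- Let R be a discrete valuation ring with maximal ideal m and y² + a₁xy + a₃y = x³ + a₂x² + a₄x + a₆ a
Weierstrass equation over R with nonzero discriminant (an elliptic curve over the fraction field)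
such that a₃, a₄, a₆ ∈ m and a₆ ∉ m². Then the affine scheme over R defined by the equation is
regular: every localization of its coordinate ring at a prime ideal is a regular local ring. (The
published statement asserts regularity of the projective Weierstrass scheme in P²_R; this row states
it for the affine part.) -/
theorem result (R : Type u) [CommRing R] [IsDomain R]
    [IsDiscreteValuationRing R] (W : WeierstrassCurve.Affine R) (hΔ : W.Δ ≠ 0)
    (h3 : W.a₃ ∈ IsLocalRing.maximalIdeal R) (h4 : W.a₄ ∈ IsLocalRing.maximalIdeal R)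
    (h6 : W.a₆ ∈ IsLocalRing.maximalIdeal R) (h6' : W.a₆ ∉ IsLocalRing.maximalIdeal R ^ 2)
    (P : Ideal W.CoordinateRing) [P.IsPrime] :
    IsRegularLocalRing (Localization.AtPrime P) := by
  classical
  let f : Polynomial (Polynomial R) := WeierstrassCurve.Affine.polynomial W
  let Q : Ideal (Polynomial (Polynomial R)) := P.comap (AdjoinRoot.mk f)
  haveI hQ : Q.IsPrime := Ideal.comap_isPrime _ _
  have hfQ : f ∈ Q := by
    show AdjoinRoot.mk f f ∈ P
    rw [AdjoinRoot.mk_self]; exact P.zero_mem
  haveI : IsRegularLocalRing (Localization.AtPrime Q) := IsRegularRing.isRegularLocalRing_localization Q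
  have hm : algebraMap _ (Localization.AtPrime Q) f ∈ IsLocalRing.maximalIdeal _ := by
    rw [← Localization.AtPrime.map_eq_maximalIdeal]
    exact Ideal.mem_map_of_mem _ hfQ
  have hsq : algebraMap _ (Localization.AtPrime Q) f ∉ IsLocalRing.maximalIdeal _ ^ 2 := by
    intro h
    rw [← Localization.AtPrime.map_eq_maximalIdeal, ← Ideal.map_pow,
      IsLocalization.algebraMap_mem_map_algebraMap_iff Q.primeCompl] at h
    obtain ⟨s, hs, hsf⟩ := h
    let L := Q.ResidueField
    let ev : Polynomial (Polynomial R) →+* L := algebraMap _ L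
    let ι : R →+* L := ev.comp (Polynomial.C.comp Polynomial.C)
    set x : L := ev (Polynomial.C Polynomial.X) with hxdef
    set y : L := ev Polynomial.X with hydef
    have hev : ∀ z, z ∈ Q ↔ ev z = 0 := fun z => Ideal.algebraMap_residueField_eq_zero.symm
    have key : ∀ a b : L,
        a * (ι W.a₁ * y - (3 * x ^ 2 + 2 * ι W.a₂ * x + ι W.a₄)) + b * (2 * y + ι W.a₁ * x + ι W.a₃) = 0 := by
      intro a b
      let Ψ : Polynomial (Polynomial R) →+* TrivSqZeroExt L L :=
        Polynomial.eval₂RingHom (Polynomial.eval₂RingHom ((TrivSqZeroExt.inlHom L L).comp ι)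
          (TrivSqZeroExt.inl x + TrivSqZeroExt.inr a)) (TrivSqZeroExt.inl y + TrivSqZeroExt.inr b)
      have hfst : ∀ z, (Ψ z).fst = ev z := by
        have : (TrivSqZeroExt.fstHom L L L).toRingHom.comp Ψ = ev := by
          apply Polynomial.ringHom_ext'
          · apply Polynomial.ringHom_ext'
            · ext r; simp [Ψ, ι]
            · simp [Ψ, hxdef]
          · simp [Ψ, hydef]
        intro z
        exact RingHom.congr_fun this z
      have h2 : ∀ z ∈ Q ^ 2, Ψ z = 0 := by
        intro z hz
        rw [pow_two] at hz
        refine Submodule.mul_induction_on hz (fun b hb c hc => ?_) (fun b c hb hc => by rw [map_add, hb, hc, add_zero])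
        rw [map_mul]
        apply TrivSqZeroExt.ext
        · simp [hfst, (hev b).mp hb]
        · simp [hfst, (hev b).mp hb, (hev c).mp hc]
      have h3 := h2 _ hsf
      rw [map_mul] at h3
      have hu : IsUnit (Ψ s) := by
        rw [TrivSqZeroExt.isUnit_iff_isUnit_fst, hfst, isUnit_iff_ne_zero]
        exact fun h0 => hs ((hev s).mpr h0)
      have h4 : Ψ f = 0 := hu.mul_right_eq_zero.mp h3
      have h5 := congrArg TrivSqZeroExt.snd h4
      simp [Ψ, f, WeierstrassCurve.Affine.polynomial, pow_succ] at h5
      linear_combination h5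
    have hfx : ι W.a₁ * y - (3 * x ^ 2 + 2 * ι W.a₂ * x + ι W.a₄) = 0 := by simpa using key 1 0
    have hfy : 2 * y + ι W.a₁ * x + ι W.a₃ = 0 := by simpa using key 0 1
    have hf0 : y ^ 2 + ι W.a₁ * x * y + ι W.a₃ * y - (x ^ 3 + ι W.a₂ * x ^ 2 + ι W.a₄ * x + ι W.a₆) = 0 := by
      have h0 := (hev f).mp hfQ
      simp only [f, WeierstrassCurve.Affine.polynomial, map_sub, map_add, map_mul, map_pow] at h0
      simp only [hxdef, hydef, ι, RingHom.coe_comp, Function.comp_apply]
      linear_combination h0
    by_cases hπ : ∀ r ∈ IsLocalRing.maximalIdeal R, ι r = 0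
    · have e3 := hπ _ h3
      have e4 := hπ _ h4
      have e6 := hπ _ h6
      rw [e4, add_zero] at hfx
      rw [e3, add_zero] at hfy
      rw [e3, e4, e6, zero_mul, zero_mul, add_zero, add_zero, add_zero] at hf0
      have hx3 : x ^ 3 = 0 := by linear_combination 2 * hf0 - x * hfx - y * hfy
      have hx0 : x = 0 := eq_zero_of_pow_eq_zero hx3
      rw [hx0] at hf0
      have hy0 : y = 0 := eq_zero_of_pow_eq_zero (n := 2) (by linear_combination hf0)
      let φ : Polynomial (Polynomial R) →+* R :=
        (Polynomial.evalRingHom 0).comp (Polynomial.evalRingHom 0)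
      have hφ : ∀ z, ev z = ι (φ z) := by
        have : ev = ι.comp φ := by
          apply Polynomial.ringHom_ext'
          · apply Polynomial.ringHom_ext'
            · ext r; simp [φ, ι]
            · simp only [RingHom.coe_comp, Function.comp_apply]
              show ev (Polynomial.C Polynomial.X) = _
              rw [← hxdef, hx0]; simp [φ]
          · show ev Polynomial.X = _
            rw [← hydef, hy0]; simp [φ]
        intro z; exact RingHom.congr_fun this z
      have hunit : ∀ r, ι r = 0 → r ∈ IsLocalRing.maximalIdeal R := fun r hr hu => (hu.map ι).ne_zero hr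
      have hQφ : ∀ z ∈ Q ^ 2, φ z ∈ IsLocalRing.maximalIdeal R ^ 2 := by
        intro z hz
        have : (Q ^ 2).map φ ≤ IsLocalRing.maximalIdeal R ^ 2 := by
          rw [Ideal.map_pow]
          exact Ideal.pow_right_mono (Ideal.map_le_iff_le_comap.mpr fun w hw =>
            hunit _ (by rw [← hφ]; exact (hev w).mp hw)) 2
        exact this (Ideal.mem_map_of_mem φ hz)
      have h7 := hQφ _ hsf
      rw [map_mul] at h7
      have hus : IsUnit (φ s) := by
        by_contra hn
        exact hs ((hev s).mpr (by rw [hφ]; exact hπ _ hn))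
      rw [(IsLocalRing.maximalIdeal R ^ 2).unit_mul_mem_iff_mem hus] at h7
      apply h6'
      have hφf : φ f = - W.a₆ := by simp [φ, f, WeierstrassCurve.Affine.polynomial]
      rw [hφf] at h7
      exact neg_mem_iff.mp h7
    · push Not at hπ
      obtain ⟨π, hπm, hπ0⟩ := hπ
      have hinj : Function.Injective ι := by
        rw [injective_iff_map_eq_zero]
        intro r hr
        by_contra hr0
        haveI : (RingHom.ker ι).IsPrime := RingHom.ker_isPrime ι
        have hne : RingHom.ker ι ≠ ⊥ := fun hb => hr0 (by
          have : r ∈ RingHom.ker ι := hr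
          rwa [hb, Ideal.mem_bot] at this)
        have hmax : (RingHom.ker ι).IsMaximal := Ideal.IsPrime.isMaximal inferInstance hne
        exact hπ0 (show π ∈ RingHom.ker ι by rw [IsLocalRing.eq_maximalIdeal hmax]; exact hπm)
      let W' : WeierstrassCurve.Affine L := W.map ι
      have hΔ' : W'.Δ ≠ 0 := by
        show (W.map ι).Δ ≠ 0
        rw [WeierstrassCurve.map_Δ]
        exact fun h0 => hΔ (hinj (by rw [h0, map_zero]))
      have heq : W'.Equation x y := by
        rw [WeierstrassCurve.Affine.equation_iff']
        exact hf0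
      have hns := (W'.equation_iff_nonsingular_of_Δ_ne_zero hΔ').mp heq
      rw [WeierstrassCurve.Affine.nonsingular_iff'] at hns
      rcases hns.2 with h | h
      · exact h hfx
      · exact h hfy
  exact regular_adjoinRoot (S := Polynomial R) f P Q rfl hsq

end Groth.Agent.S11104
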