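import Groth.Statements.S11128
import Mathlib
import Groth.Agent.Lib.H6.GrothTransfer

set_option autoImplicit false
set_option backward.isDefEq.respectTransparency.types false
set_option maxHeartbeats 1000000
set_option linter.all false
universe w u₁ u₂
open CategoryTheory CategoryTheory.Limits
open CohDer

namespace Groth.Agent.S11128
open Groth.Agent
open CategoryTheory CategoryTheory.Limits

/-- Suppose A is an abelian category that has small hom-sets and all small colimits, B is a Grothendieck
abelian category, and F : A ⥤ B is a faithful exact functor with a right adjoint G preserving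
filtered colimits. Then A is a Grothendieck abelian category. -/
theorem result
    {A : Type u₁} [Category.{w} A] [Abelian A] [HasColimitsOfSize.{w, w} A]
    {B : Type u₂} [Category.{w} B] [Abelian B] [IsGrothendieckAbelian.{w} B]
    (F : A ⥤ B) (G : B ⥤ A) (adj : F ⊣ G) [F.Additive] [F.Faithful]
    [PreservesFiniteLimits F] [PreservesFiniteColimits F] [PreservesFilteredColimitsOfSize.{w, w} G] :
    IsGrothendieckAbelian.{w} A := by
    haveI : HasColimitsOfSize.{w, w} B := IsGrothendieckAbelian.hasColimits B
    let s : PUnit.{w + 1} → B := fun _ => separator B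
    have hsep : ∀ ⦃X Y : B⦄ (f g : X ⟶ Y), (∀ (i : PUnit.{w + 1}) (h : s i ⟶ X), h ≫ f = h ≫ g) → f = g :=
      fun X Y f g h => (isSeparator_separator B).def _ _ fun a => h PUnit.unit a
    obtain ⟨κ, t, -, hsep'⟩ := H6GT.exists_family s adj hsep
    haveI := H6GT.ab5 (B := B) adj
    haveI : HasSeparator A := ⟨⟨∐ t, (isSeparator_sigma t).2 fun X Y f g h =>
      hsep' f g fun k a => h _ (ObjectProperty.ofObj_apply t k) a⟩⟩
    exact { }

end Groth.Agent.S11128
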