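import Groth.Statements.S11135
import Mathlib

set_option autoImplicit false
set_option backward.isDefEq.respectTransparency.types false
set_option maxHeartbeats 1000000
set_option linter.all false
universe u
open InvTh

namespace Groth.Agent.S11135
open Groth.Agent

/-- Suppose S is the product of a finite family of integrally closed domains (a finite product of normal
domains), R is any commutative ring, and F is a family of ring maps S → R each carrying
non-zero-divisors of S to non-zero-divisors of R. Then the subring A of S on which all members of F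
coincide (a ∈ A iff f(a) = f'(a) for all f, f' in F) is ring-isomorphic to a product of finitely
many integrally closed domains. -/
theorem result {ι : Type u} [Fintype ι] (D : ι → Type u)
    [∀ i, CommRing (D i)] [∀ i, IsDomain (D i)] [∀ i, IsIntegrallyClosed (D i)]
    (R : Type u) [CommRing R] (F : Set ((Π i, D i) →+* R))
    (hF : ∀ f ∈ F, ∀ s ∈ nonZeroDivisors (Π i, D i), f s ∈ nonZeroDivisors R)
    (A : Subring (Π i, D i)) (hA : ∀ a, a ∈ A ↔ ∀ f ∈ F, ∀ f' ∈ F, f a = f' a) :
    ∃ (κ : Type u) (_ : Fintype κ) (E : κ → Type u) (_ : ∀ j, CommRing (E j)) (_ : ∀ j, IsDomain (E j))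
      (_ : ∀ j, IsIntegrallyClosed (E j)), Nonempty (A ≃+* Π j, E j) := by
    classical
    have nzd : ∀ b : (Π i, D i), (∀ i, b i ≠ 0) → b ∈ nonZeroDivisors (Π i, D i) := fun b hb => by
      rw [mem_nonZeroDivisors_iff_right]
      exact fun z hz => funext fun i => (mul_eq_zero.1 (congrFun hz i)).resolve_right (hb i)
    have sup : ∀ a ∈ A, (fun i => if a i = 0 then 0 else 1 : Π i, D i) ∈ A := by
      intro a ha
      rw [hA]
      intro f hf f' hf'
      set u : Π i, D i := fun i => if a i = 0 then 0 else 1 with hu
      have hb : a + (1 - u) ∈ nonZeroDivisors (Π i, D i) := nzd _ fun i => by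
        show a i + (1 - u i) ≠ 0
        simp only [hu]
        split_ifs with h <;> simp [h]
      have hau : a * u = a := funext fun i => by
        show a i * u i = a i
        simp only [hu]
        split_ifs with h <;> simp [h]
      have huu : u * u = u := funext fun i => by
        show u i * u i = u i
        simp only [hu]
        split_ifs with h <;> simp
      have key : ∀ g g' : (Π i, D i) →+* R, g ∈ F → g' ∈ F → g u * (1 - g' u) = 0 := by
        intro g g' hg hg'
        have h1 : g u * (1 - g' u) * g (a + (1 - u)) = 0 := by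
          have e1 : g' a * g' u = g' a := by rw [← map_mul, hau]
          have e2 : g u * g u = g u := by rw [← map_mul, huu]
          have e3 : g a = g' a := (hA a).1 ha g hg g' hg'
          rw [map_add, map_sub, map_one, e3]
          calc g u * (1 - g' u) * (g' a + (1 - g u))
              = g u * (g' a - g' a * g' u) + (1 - g' u) * (g u - g u * g u) := by ring
            _ = 0 := by rw [e1, e2]; ring
        exact (mem_nonZeroDivisors_iff_right.1 (hF g hg _ hb)) _ h1
      linear_combination key f f' hf hf' - key f' f hf' hf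
    let cls : ι → Finset ι := fun i => Finset.univ.filter fun j => ∀ a ∈ A, (a i = 0 ↔ a j = 0)
    have mcls : ∀ {i j}, j ∈ cls i ↔ ∀ a ∈ A, (a i = 0 ↔ a j = 0) := fun {i j} => by simp [cls]
    let ind : Finset ι → Π i, D i := fun C i => if i ∈ C then 1 else 0
    have indA : ∀ i, ind (cls i) ∈ A := by
      intro i
      have h : ∀ j, j ∉ cls i → ∃ u ∈ A, u j = 0 ∧ ∀ k ∈ cls i, u k = 1 := by
        intro j hj
        rw [mcls] at hj
        push Not at hj
        obtain ⟨a, ha, h⟩ := hj
        rcases h with ⟨h1, h2⟩ | ⟨h1, h2⟩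
        · refine ⟨1 - (fun k => if a k = 0 then 0 else 1), sub_mem (one_mem A) (sup a ha), by simp [h2], fun k hk => ?_⟩
          simp [(mcls.1 hk a ha).1 h1]
        · refine ⟨fun k => if a k = 0 then 0 else 1, sup a ha, by simp [h2], fun k hk => ?_⟩
          exact if_neg fun h => h1 ((mcls.1 hk a ha).2 h)
      choose u huA huj huk using h
      have : ind (cls i) = ∏ j : {j // j ∉ cls i}, u j.1 j.2 := by
        ext k
        rw [Finset.prod_apply]
        by_cases hk : k ∈ cls i
        · simp only [ind, if_pos hk]
          exact (Finset.prod_eq_one fun j _ => huk j.1 j.2 k hk).symm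
        · simp only [ind, if_neg hk]
          exact (Finset.prod_eq_zero (Finset.mem_univ ⟨k, hk⟩) (huj k hk)).symm
      rw [this]
      exact prod_mem fun j _ => huA _ _
    have clseq : ∀ {i j}, j ∈ cls i → cls j = cls i := fun {i j} h => by
      ext k
      rw [mcls, mcls]
      exact forall₂_congr fun a ha => by rw [mcls.1 h a ha]
    let κ := {C : Finset ι // ∃ i, C = cls i}
    let φ : ∀ C : κ, A →+* (Π j : C.1, D j) := fun C =>
      (Pi.ringHom fun j : C.1 => Pi.evalRingHom D j.1).comp A.subtype
    let E : κ → Type u := fun C => ↥(φ C).range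
    let cr : ∀ C, CommRing (E C) := fun C => inferInstanceAs (CommRing ↥(φ C).range)
    have hne : ∀ C : κ, ∃ i, i ∈ C.1 := fun ⟨C, i, h⟩ => ⟨i, h ▸ mcls.2 fun a _ => Iff.rfl⟩
    have key : ∀ C : κ, ∀ y : ↥(φ C).range, ∀ j : C.1, (y : Π j : C.1, D j) j = 0 → y = 0 := by
      rintro ⟨C, i, rfl⟩ ⟨_, a, rfl⟩ j hj
      refine Subtype.ext (funext fun k => ?_)
      have h1 := mcls.1 j.2 a.1 a.2
      have h2 := mcls.1 k.2 a.1 a.2
      exact h2.1 (h1.2 hj)
    have dom : ∀ C, @IsDomain (E C) (cr C).toSemiring := fun C => by
      obtain ⟨i, hi⟩ := hne C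
      haveI : Nontrivial ↥(φ C).range := ⟨⟨0, 1, fun h => zero_ne_one (α := D i)
        (congrFun (congrArg Subtype.val h) ⟨i, hi⟩)⟩⟩
      haveI : NoZeroDivisors ↥(φ C).range := ⟨fun {x y} h => by
        rcases mul_eq_zero.1 (congrFun (congrArg Subtype.val h) ⟨i, hi⟩) with h | h
        · exact Or.inl (key C x _ h)
        · exact Or.inr (key C y _ h)⟩
      exact NoZeroDivisors.to_isDomain _
    have ic : ∀ C, @IsIntegrallyClosed (E C) (cr C) := fun C => by
      haveI : IsDomain ↥(φ C).range := dom C
      show IsIntegrallyClosed ↥(φ C).range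
      refine (isIntegrallyClosed_iff (FractionRing ↥(φ C).range)).2 fun {x} hx => ?_
      obtain ⟨a, b, hb, rfl⟩ := IsFractionRing.div_surjective (A := ↥(φ C).range) x
      have hb0 : b ≠ 0 := nonZeroDivisors.ne_zero hb
      have hs : ∀ j : C.1, ∃ s : D j, s * b.1 j = a.1 j := by
        intro j
        let g : ↥(φ C).range →+* D j := (Pi.evalRingHom (fun j : C.1 => D j) j).comp (φ C).range.subtype
        have hg : Function.Injective g := (injective_iff_map_eq_zero g).2 fun y hy => key C y j hy
        let G : FractionRing ↥(φ C).range →+* FractionRing (D j) :=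
          IsFractionRing.lift (g := (algebraMap (D j) (FractionRing (D j))).comp g)
            ((IsFractionRing.injective (D j) (FractionRing (D j))).comp hg)
        have hG : ∀ y, G (algebraMap _ _ y) = algebraMap (D j) (FractionRing (D j)) (g y) := fun y =>
          IsFractionRing.lift_algebraMap _ y
        have hint := hx.map_of_comp_eq g G (RingHom.ext fun y => (hG y).symm)
        obtain ⟨s, hs⟩ := (isIntegrallyClosed_iff (FractionRing (D j))).1 inferInstance hint
        refine ⟨s, IsFractionRing.injective (D j) (FractionRing (D j)) ?_⟩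
        rw [map_mul, hs, map_div₀, hG, hG]
        refine div_mul_cancel₀ _ ?_
        rw [Ne, map_eq_zero_iff _ (IsFractionRing.injective (D j) (FractionRing (D j)))]
        exact fun h => hb0 (key C b j h)
      choose s hs using hs
      obtain ⟨a', ha'⟩ := a.2
      obtain ⟨b', hb'⟩ := b.2
      let u := ind C.1
      have huA : u ∈ A := by obtain ⟨_, i, rfl⟩ := C; exact indA i
      let s' : Π i, D i := fun i => if h : i ∈ C.1 then s ⟨i, h⟩ else 0
      let b'' : Π i, D i := b'.1 * u + (1 - u)
      have hb'' : b'' ∈ nonZeroDivisors (Π i, D i) := nzd _ fun i => by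
        show b'.1 i * u i + (1 - u i) ≠ 0
        by_cases h : i ∈ C.1
        · simp only [u, ind, if_pos h, mul_one, sub_self, add_zero]
          intro h0
          exact hb0 (key C b ⟨i, h⟩ ((congrFun hb' ⟨i, h⟩).symm.trans h0))
        · simp [u, ind, if_neg h]
      have hmul : s' * b'' = a'.1 * u := funext fun i => by
        show s' i * (b'.1 i * u i + (1 - u i)) = a'.1 i * u i
        by_cases h : i ∈ C.1
        · simp only [s', dif_pos h, u, ind, if_pos h, mul_one, sub_self, add_zero]
          exact (congrArg (s ⟨i, h⟩ * ·) (congrFun hb' ⟨i, h⟩)).trans ((hs ⟨i, h⟩).trans (congrFun ha' ⟨i, h⟩).symm)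
        · simp [s', h, u, ind]
      have hsA : s' ∈ A := (hA s').2 fun f hf f' hf' => by
        have e1 := congrArg f hmul
        have e2 := congrArg f' hmul
        rw [map_mul] at e1 e2
        rw [(hA _).1 (add_mem (mul_mem b'.2 huA) (sub_mem (one_mem A) huA) : b'' ∈ A) f hf f' hf',
          (hA _).1 (mul_mem a'.2 huA) f hf f' hf'] at e1
        exact (mul_cancel_right_mem_nonZeroDivisors (hF f' hf' _ hb'')).1 (e1.trans e2.symm)
      refine ⟨⟨φ C ⟨s', hsA⟩, ⟨⟨s', hsA⟩, rfl⟩⟩, ?_⟩
      rw [eq_div_iff (by simpa [map_eq_zero_iff _ (IsFractionRing.injective ↥(φ C).range (FractionRing ↥(φ C).range))] using hb0),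
        ← map_mul]
      refine congrArg _ (Subtype.ext (funext fun j => ?_))
      show s' j.1 * b.1 j = a.1 j
      rw [show s' j.1 = s j from dif_pos j.2]
      exact hs j
    let Φ : A →+* Π C : κ, ↥(φ C).range := Pi.ringHom fun C => (φ C).rangeRestrict
    have hbij : Function.Bijective Φ := by
      constructor
      · intro a a' h
        refine Subtype.ext (funext fun i => ?_)
        exact congrFun (congrArg Subtype.val (congrFun h ⟨cls i, i, rfl⟩)) ⟨i, mcls.2 fun a _ => Iff.rfl⟩
      · intro y
        choose p hp using fun C : κ => (y C).2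
        refine ⟨⟨∑ C : κ, (p C).1 * ind C.1, sum_mem fun C _ => mul_mem (p C).2 ?_⟩, funext fun C => Subtype.ext (funext fun j => ?_)⟩
        · obtain ⟨_, i, rfl⟩ := C; exact indA i
        · show (∑ C' : κ, (p C').1 * ind C'.1) j.1 = (y C).1 j
          rw [Finset.sum_apply, Finset.sum_eq_single C]
          · show (p C).1 j.1 * ind C.1 j.1 = _
            simp only [ind, if_pos j.2, mul_one]
            exact congrFun (hp C) j
          · intro C' _ hC
            show (p C').1 j.1 * ind C'.1 j.1 = 0
            have : j.1 ∉ C'.1 := by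
              intro h
              apply hC
              obtain ⟨c, i, rfl⟩ := C
              obtain ⟨c', i', rfl⟩ := C'
              exact Subtype.ext ((clseq h).symm.trans (clseq j.2))
            simp [ind, this]
          · simp
    exact ⟨κ, inferInstance, E, cr, dom, ic, ⟨RingEquiv.ofBijective Φ hbij⟩⟩

end Groth.Agent.S11135
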