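import Groth.Statements.S11174
import Mathlib
import Groth.Prelude.Def_Wider
import Groth.Agent.Lib.InjHullPrime
import Groth.Agent.Lib.MatlisDuality
import Groth.Agent.S0305
import Groth.Agent.S0300
import Groth.Agent.S11664

set_option autoImplicit false
universe u
open InjHull Pointwise DirectSum
open CategoryTheory
open InjHull

namespace Groth.Agent.S11174

/-- Fix a Noetherian local ring A, write m for its maximal ideal and k for its residue field, and let I
be an A-module such that (a) every element of I is killed by some power of m, (b) the A-module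
Hom_A(k, I) is isomorphic to k, and (c) there is a decreasing sequence of ideals a_1 ⊇ a_2 ⊇ … of A,
cofinal with the powers of m in both directions (each a_n contains a power of m and each power of m
contains some a_n), with length_A(A/a_n) = length_A(Hom_A(A/a_n, I)) for every n. Then I is an
injective hull of k: some A-linear map k → I is an essential injection into an injective module. -/
theorem result (A : Type u) [CommRing A] [IsLocalRing A] [IsNoetherianRing A] (I : Type u) [AddCommGroup I] [Module A I] (ha : LocCoh.IsPowerTorsion (IsLocalRing.maximalIdeal A) I) (hb : Nonempty ((IsLocalRing.ResidueField A →ₗ[A] I) ≃ₗ[A] IsLocalRing.ResidueField A)) (a : ℕ → Ideal A) (hanti : Antitone a) (hcof : ∀ n : ℕ, ∃ N : ℕ, IsLocalRing.maximalIdeal A ^ N ≤ a n) (hcof' : ∀ N : ℕ, ∃ n : ℕ, a n ≤ IsLocalRing.maximalIdeal A ^ N) (hlen : ∀ n : ℕ, Module.length A (A ⧸ a n) = Module.length A ((A ⧸ a n) →ₗ[A] I)) : ∃ f : IsLocalRing.ResidueField A →ₗ[A] I, InjHull.IsInjectiveHull f := by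
  classical
  let _ : Field (A ⧸ IsLocalRing.maximalIdeal A) := Ideal.Quotient.field _
  obtain ⟨e⟩ := hb
  -- the socle
  let G : (IsLocalRing.ResidueField A →ₗ[A] I) →ₗ[A] ↥(LocCoh.torsionBy (IsLocalRing.maximalIdeal A) I) :=
    (LinearMap.applyₗ (1 : IsLocalRing.ResidueField A)).codRestrict _ (fun φ => by
      rw [Submodule.mem_torsionBySet_iff]
      rintro ⟨r, hr⟩
      show r • φ 1 = 0
      rw [← map_smul, Groth.Agent.Matlis.smul_residue_eq_zero hr, map_zero])
  have hG : Function.Surjective G := by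
    intro x
    refine ⟨Submodule.liftQ (IsLocalRing.maximalIdeal A) (LinearMap.toSpanSingleton A I x.1)
      (fun c hc => (Submodule.mem_torsionBySet_iff _ _).mp x.2 ⟨c, hc⟩), Subtype.ext (one_smul A x.1)⟩
  have hlenS : Module.length A ↥(LocCoh.torsionBy (IsLocalRing.maximalIdeal A) I) ≤ 1 := by
    refine (Module.length_le_of_surjective (G ∘ₗ e.symm.toLinearMap) (hG.comp e.symm.surjective)).trans ?_
    have := Groth.Agent.Matlis.isSimpleModule_residue (R := A)
    rw [Module.length_eq_one]
  rw [Module.length_eq_of_surjective (R := A ⧸ IsLocalRing.maximalIdeal A) (S := A) Ideal.Quotient.mk_surjective] at hlenS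
  have hfin : Module.Finite (A ⧸ IsLocalRing.maximalIdeal A) ↥(LocCoh.torsionBy (IsLocalRing.maximalIdeal A) I) :=
    have := (isFiniteLength_iff_isNoetherian_isArtinian.mp (Module.length_ne_top_iff.mp
      (fun h => by rw [h] at hlenS; simp at hlenS))).1
    inferInstance
  rw [Module.length_eq_finrank, Nat.cast_le_one] at hlenS
  obtain ⟨E, _, _, f, hf, hess, hE⟩ := Groth.Agent.IH.exists_hull A (IsLocalRing.ResidueField A)
  have hf' : InjHull.IsInjectiveHull f := ⟨⟨hf, (Groth.Agent.IH.ess_iff _).mp hess⟩, hE⟩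
  obtain ⟨g₀, hg₀⟩ : ∃ g : I →ₗ[A] E, Function.Injective g := by
    obtain ⟨g, hg⟩ := Groth.Agent.Matlis.exists_embedding hf' I ha _ rfl
    rcases Nat.le_one_iff_eq_zero_or_eq_one.mp hlenS with h | h
    · refine ⟨0, fun x y _ => hg (funext fun i => absurd i.2 (by omega))⟩
    · refine ⟨LinearMap.proj ⟨0, by omega⟩ ∘ₗ g, fun x y hxy => hg (funext fun i => ?_)⟩
      rw [show i = ⟨0, by omega⟩ from Fin.ext (by omega)]
      exact hxy
  have hsurj : Function.Surjective g₀ := by
    intro x
    obtain ⟨N, hN⟩ := Groth.Agent.Matlis.isPowerTorsion hf' x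
    obtain ⟨n, hn⟩ := hcof' N
    obtain ⟨N', hN'⟩ := hcof n
    let c : ((A ⧸ a n) →ₗ[A] I) →ₗ[A] ((A ⧸ a n) →ₗ[A] E) := LinearMap.compRight A (M := A ⧸ a n) g₀
    have hc : Function.Injective c := fun φ ψ h => LinearMap.ext fun z => hg₀ (LinearMap.congr_fun h z)
    have hfl : IsFiniteLength A (A ⧸ a n) :=
      (Groth.Agent.Matlis.isFiniteLength_quotient_pow N').of_surjective
        (f := Submodule.factor (hN' : (IsLocalRing.maximalIdeal A ^ N' : Ideal A) ≤ a n)) (Submodule.factor_surjective _)
    have hcs := Groth.Agent.Matlis.surjective_of_length_eq c hc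
      (by rw [Groth.Agent.Matlis.length_dual hf' hfl, hlen]) (by rw [← hlen]; exact Module.length_ne_top_iff.mpr hfl)
    obtain ⟨φ, hφ⟩ := hcs (Submodule.liftQ (a n) (LinearMap.toSpanSingleton A E x) (fun r hr => hN r (hn hr)))
    refine ⟨φ (Submodule.Quotient.mk 1), ?_⟩
    have h1 := LinearMap.congr_fun hφ (Submodule.Quotient.mk (1 : A))
    exact h1.trans (one_smul A x)
  let eI := LinearEquiv.ofBijective g₀ ⟨hg₀, hsurj⟩
  refine ⟨eI.symm.toLinearMap ∘ₗ f, ⟨eI.symm.injective.comp hf, (Groth.Agent.IH.ess_iff _).mp fun x hx => ?_⟩,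
    Groth.Agent.IH.injective_congr hE eI⟩
  obtain ⟨r, ⟨m, hm⟩, hr0⟩ := hess (eI x) (fun h => hx (eI.injective (h.trans (map_zero eI).symm)))
  refine ⟨r, ⟨m, ?_⟩, fun h => hr0 (by rw [← map_smul, h, map_zero])⟩
  rw [LinearMap.comp_apply, hm, LinearEquiv.coe_coe, ← map_smul, LinearEquiv.symm_apply_apply]

end Groth.Agent.S11174
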