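import Groth.Statements.S11233
import Mathlib

set_option autoImplicit false
universe u
open CAlg

namespace Groth.Agent.S11233
open scoped TensorProduct
open CategoryTheory
set_option linter.style.haveILetI false

/-- Let k be an algebraically closed field, A an integral domain which is a k-algebra, T an m by m
matrix over A with invertible determinant, and let the additive group k^m act on the polynomial ring
A[y_1, ..., y_m] by the A-algebra maps y_s ↦ y_s + Σ_r h_r T_rs. Then the only invariant polynomials
are the constants: a polynomial fixed by all these substitutions lies in A. -/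
theorem result (k : Type u) [Field k] [IsAlgClosed k]
    (A : Type u) [CommRing A] [IsDomain A] [Algebra k A] (m : ℕ) (T : Matrix (Fin m) (Fin m) A)
    (hT : IsUnit T.det) (f : MvPolynomial (Fin m) A)
    (hf : ∀ h : Fin m → k, MvPolynomial.aeval
      (fun s : Fin m => MvPolynomial.X s + MvPolynomial.C (∑ r : Fin m, algebraMap k A (h r) * T r s)) f = f) :
    ∃ a : A, f = MvPolynomial.C a := by
  classical
  let S : Fin m → MvPolynomial (Fin m) A := fun s => ∑ r, MvPolynomial.C (T r s) * MvPolynomial.X r
  let S' : Fin m → MvPolynomial (Fin m) A := fun s => ∑ r, MvPolynomial.C (T⁻¹ r s) * MvPolynomial.X r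
  refine ⟨MvPolynomial.eval 0 f, ?_⟩
  have hg : MvPolynomial.aeval S f = MvPolynomial.C (MvPolynomial.eval 0 f) := by
    obtain ⟨D, hD⟩ : ∃ D, ∀ i, (MvPolynomial.aeval S f - MvPolynomial.C (MvPolynomial.eval 0 f)).degreeOf i < D :=
      ⟨Finset.univ.sup (fun i => (MvPolynomial.aeval S f - MvPolynomial.C (MvPolynomial.eval 0 f)).degreeOf i) + 1,
        fun i => Nat.lt_succ_of_le (Finset.le_sup (f := fun i => (MvPolynomial.aeval S f - MvPolynomial.C (MvPolynomial.eval 0 f)).degreeOf i) (Finset.mem_univ i))⟩
    obtain ⟨K, hK⟩ := Infinite.exists_subset_card_eq k D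
    refine sub_eq_zero.1 (MvPolynomial.eq_zero_of_eval_zero_at_prod_finset (σ := Fin m)
      (MvPolynomial.aeval S f - MvPolynomial.C (MvPolynomial.eval 0 f))
      (fun _ => K.map ⟨algebraMap k A, (algebraMap k A).injective⟩)
      (fun i => by rw [Finset.card_map, hK]; exact hD i)
      fun x hx => ?_)
    have hh : ∀ i, ∃ h : k, algebraMap k A h = x i := fun i => by
      obtain ⟨h, -, hh⟩ := Finset.mem_map.1 (hx i); exact ⟨h, hh⟩
    choose h hh using hh
    have h2 := congrArg (MvPolynomial.eval (0 : Fin m → A)) (hf h)
    rw [map_sub, MvPolynomial.eval_C, sub_eq_zero, ← h2]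
    have key : ((MvPolynomial.eval x).comp (MvPolynomial.aeval (R := A) S).toRingHom) = ((MvPolynomial.eval (0 : Fin m → A)).comp (MvPolynomial.aeval (R := A) (fun s : Fin m => MvPolynomial.X s + MvPolynomial.C (∑ r : Fin m, algebraMap k A (h r) * T r s))).toRingHom) := by
      refine MvPolynomial.ringHom_ext (fun a => by simp) (fun s => ?_)
      simp [S, hh, mul_comm]
    exact RingHom.congr_fun key f
  have hinv : (MvPolynomial.aeval S').comp (MvPolynomial.aeval S) = AlgHom.id A (MvPolynomial (Fin m) A) := by
    refine MvPolynomial.algHom_ext fun s => ?_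
    simp only [AlgHom.comp_apply, MvPolynomial.aeval_X, AlgHom.id_apply, S, map_sum, map_mul, MvPolynomial.aeval_C, S']
    simp only [MvPolynomial.algebraMap_eq, Finset.mul_sum, ← mul_assoc, ← map_mul]
    rw [Finset.sum_comm]
    simp only [← Finset.sum_mul, ← map_sum]
    have : ∀ q, ∑ r, T r s * T⁻¹ q r = (1 : Matrix (Fin m) (Fin m) A) q s := fun q => by
      rw [← Matrix.nonsing_inv_mul T hT, Matrix.mul_apply]; simp_rw [mul_comm]
    simp only [this, Matrix.one_apply]
    simp
  have := congrArg (MvPolynomial.aeval (R := A) S') hg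
  rw [MvPolynomial.aeval_C, ← AlgHom.comp_apply, hinv] at this
  exact this

end Groth.Agent.S11233
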