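import Groth.Statements.S11238
import Mathlib

set_option autoImplicit false
universe u
open AGF

namespace Groth.Agent.S11238
/-- A transcendence degree one field inside a rational function field embeds in one variable. -/
theorem exists_embedding_ratFunc (k : Type u) [Field k] [IsAlgClosed k] (K : Type u) [Field K] [Algebra k K]
    (x : K) (hx : Transcendental k x) (halg : Algebra.IsAlgebraic ↥(IntermediateField.adjoin k {x}) K)
    (F : Finset K) (hF : IntermediateField.adjoin k (F : Set K) = ⊤) (n : ℕ)
    (φ : K →ₐ[k] FractionRing (MvPolynomial (Fin n) k)) : Nonempty (K →ₐ[k] RatFunc k) := by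
  classical
  let P := MvPolynomial (Fin n) k
  let L := FractionRing P
  choose num den hden using fun z : K => IsFractionRing.div_surjective (A := P) (φ z)
  have hd0 : ∀ z, den z ≠ 0 := fun z => nonZeroDivisors.ne_zero (hden z).1
  have hval : ∀ z, algebraMap P L (num z) / algebraMap P L (den z) = φ z := fun z => (hden z).2
  let S : Finset K := insert x F
  let g : P := ∏ z ∈ S, den z
  have hg : g ≠ 0 := Finset.prod_ne_zero_iff.mpr fun z _ => hd0 z
  obtain ⟨a, ha⟩ : ∃ a : Fin n → k, MvPolynomial.eval a g ≠ 0 := by
    by_contra hcon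
    push Not at hcon
    exact hg (MvPolynomial.funext fun a => by rw [hcon, map_zero])
  have hax : MvPolynomial.eval a (den x) ≠ 0 := fun h => ha (by
    rw [show g = den x * ∏ z ∈ S.erase x, den z from (Finset.mul_prod_erase S den (Finset.mem_insert_self x F)).symm,
      map_mul, h, zero_mul])
  obtain ⟨b, hb, hab⟩ : ∃ b : Fin n → k, MvPolynomial.eval b g ≠ 0 ∧
      MvPolynomial.eval b (num x) * MvPolynomial.eval a (den x) ≠ MvPolynomial.eval a (num x) * MvPolynomial.eval b (den x) := by
    let c := MvPolynomial.eval a (num x)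
    let d := MvPolynomial.eval a (den x)
    have hne : g * (MvPolynomial.C d * num x - MvPolynomial.C c * den x) ≠ 0 := by
      refine mul_ne_zero hg fun h => ?_
      have h1 := congrArg (algebraMap P L) (sub_eq_zero.mp h)
      rw [map_mul, map_mul] at h1
      have h2 : φ x = algebraMap k L (c / d) := by
        rw [← hval, IsScalarTower.algebraMap_apply k P L, MvPolynomial.algebraMap_eq,
          div_eq_iff (by rw [ne_eq, map_eq_zero_iff _ (IsFractionRing.injective P L)]; exact hd0 x)]
        apply mul_left_cancel₀ (show algebraMap P L (MvPolynomial.C d) ≠ 0 by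
          rw [ne_eq, map_eq_zero_iff _ (IsFractionRing.injective P L), MvPolynomial.C_eq_zero]; exact hax)
        rw [h1, ← mul_assoc, ← map_mul _ (MvPolynomial.C d), ← map_mul MvPolynomial.C, mul_div_cancel₀ _ hax]
      rw [← φ.commutes] at h2
      exact hx (φ.injective h2 ▸ isAlgebraic_algebraMap _)
    by_contra hcon
    push Not at hcon
    refine hne (MvPolynomial.funext fun b => ?_)
    simp only [map_mul, map_sub, MvPolynomial.eval_C, map_zero]
    by_cases hbg : MvPolynomial.eval b g = 0
    · rw [hbg, zero_mul]
    · rw [mul_eq_zero, sub_eq_zero]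
      exact Or.inr (by rw [mul_comm d, mul_comm c, hcon b hbg, mul_comm c])
  let line : P →ₐ[k] RatFunc k := MvPolynomial.aeval fun i =>
    algebraMap k (RatFunc k) (a i) + RatFunc.X * algebraMap k (RatFunc k) (b i - a i)
  let lineP : P →ₐ[k] Polynomial k := MvPolynomial.aeval fun i =>
    Polynomial.C (a i) + Polynomial.X * Polynomial.C (b i - a i)
  have hline : ∀ p, line p = algebraMap (Polynomial k) (RatFunc k) (lineP p) := by
    intro p
    have : line = (IsScalarTower.toAlgHom k (Polynomial k) (RatFunc k)).comp lineP := MvPolynomial.algHom_ext fun i => by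
      simp [line, lineP, RatFunc.algebraMap_X, RatFunc.algebraMap_C]
    rw [this]; rfl
  have hev : ∀ p, (lineP p).eval 0 = MvPolynomial.eval a p ∧ (lineP p).eval 1 = MvPolynomial.eval b p := by
    intro p
    induction p using MvPolynomial.induction_on with
    | C c =>
      rw [show lineP (MvPolynomial.C c) = Polynomial.C c from (MvPolynomial.aeval_C _ c).trans rfl]
      simp
    | add p q hp hq => simp [map_add, Polynomial.eval_add, hp.1, hp.2, hq.1, hq.2]
    | mul_X p i hp =>
      constructor
      · rw [map_mul, Polynomial.eval_mul, hp.1, map_mul, show lineP (MvPolynomial.X i) = Polynomial.C (a i) + Polynomial.X * Polynomial.C (b i - a i) from MvPolynomial.aeval_X _ i]; simp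
      · rw [map_mul, Polynomial.eval_mul, hp.2, map_mul, show lineP (MvPolynomial.X i) = Polynomial.C (a i) + Polynomial.X * Polynomial.C (b i - a i) from MvPolynomial.aeval_X _ i]; simp
  have hgne : line g ≠ 0 := by
    rw [hline, ne_eq, map_eq_zero_iff _ (IsFractionRing.injective (Polynomial k) (RatFunc k))]
    intro h
    exact ha (by rw [← (hev g).1, h, Polynomial.eval_zero])
  let Pg := Localization.Away g
  let lineg : Pg →ₐ[k] RatFunc k := IsLocalization.liftAlgHom (M := Submonoid.powers g) (f := line) (by
    rintro ⟨_, m, rfl⟩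
    show IsUnit (line (g ^ m))
    rw [map_pow]
    exact (IsUnit.mk0 _ hgne).pow m)
  let ι : Pg →ₐ[k] L := IsLocalization.liftAlgHom (M := Submonoid.powers g) (f := IsScalarTower.toAlgHom k P L) (by
    rintro ⟨_, m, rfl⟩
    show IsUnit (algebraMap P L (g ^ m))
    exact IsUnit.mk0 _ (by rw [ne_eq, map_eq_zero_iff _ (IsFractionRing.injective P L)]; exact pow_ne_zero m hg))
  have hι : Function.Injective ι := by
    refine (injective_iff_map_eq_zero ι).mpr fun y hy => ?_
    obtain ⟨⟨w, s⟩, hw⟩ := IsLocalization.surj (Submonoid.powers g) y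
    have h1 := congrArg ι hw
    rw [map_mul, hy, zero_mul] at h1
    have h2 : algebraMap P L w = 0 := by
      rw [← IsLocalization.lift_eq (M := Submonoid.powers g) (S := Pg) (g := algebraMap P L) (fun y => ?_) w]
      · exact h1.symm
      · obtain ⟨m, hm⟩ := y.2
        rw [← hm]
        exact IsUnit.mk0 _ (by rw [ne_eq, map_eq_zero_iff _ (IsFractionRing.injective P L)]; exact pow_ne_zero m hg)
    rw [map_eq_zero_iff _ (IsFractionRing.injective P L)] at h2
    rw [h2, map_zero] at hw
    exact (IsLocalization.map_units Pg s).mul_left_eq_zero.mp hw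
  let A₀ := Algebra.adjoin k (S : Set K)
  have hrange : A₀.map φ ≤ ι.range := by
    rw [AlgHom.map_adjoin]
    refine Algebra.adjoin_le ?_
    rintro _ ⟨z, hz, rfl⟩
    refine ⟨algebraMap P Pg (num z * ∏ w ∈ S.erase z, den w) *
      IsLocalization.mk' Pg 1 (⟨g, Submonoid.mem_powers g⟩ : Submonoid.powers g), ?_⟩
    have hι1 : ∀ w, ι (algebraMap P Pg w) = algebraMap P L w := fun w => IsLocalization.lift_eq _ w
    have hu : algebraMap P L g ≠ 0 := by rw [ne_eq, map_eq_zero_iff _ (IsFractionRing.injective P L)]; exact hg
    show ι _ = φ z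
    rw [map_mul, hι1]
    apply mul_right_cancel₀ hu
    rw [mul_assoc, ← hι1 g, ← map_mul, IsLocalization.mk'_spec, map_one, map_one, mul_one, hι1, ← hval,
      show g = den z * ∏ w ∈ S.erase z, den w from (Finset.mul_prod_erase S den hz).symm, map_mul, map_mul,
      ← mul_assoc, div_mul_cancel₀ _ (by rw [ne_eq, map_eq_zero_iff _ (IsFractionRing.injective P L)]; exact hd0 z)]
  let j : A₀ →ₐ[k] Pg := (AlgEquiv.ofInjective ι hι).symm.toAlgHom.comp
    ((Subalgebra.inclusion hrange).comp ((φ.comp A₀.val).codRestrict (A₀.map φ) fun z => ⟨z, z.2, rfl⟩))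
  have hj : ∀ z, ι (j z) = φ z := fun z => congrArg Subtype.val ((AlgEquiv.ofInjective ι hι).apply_symm_apply _)
  let ψ : A₀ →ₐ[k] RatFunc k := lineg.comp j
  let xA : A₀ := ⟨x, Algebra.subset_adjoin (Finset.mem_coe.mpr (Finset.mem_insert_self x F))⟩
  have hψx : ψ xA * line (den x) = line (num x) := by
    have h1 : j xA * algebraMap P Pg (den x) = algebraMap P Pg (num x) := by
      apply hι
      rw [map_mul, hj, show ι (algebraMap P Pg (den x)) = algebraMap P L (den x) from IsLocalization.lift_eq _ _,
        show ι (algebraMap P Pg (num x)) = algebraMap P L (num x) from IsLocalization.lift_eq _ _,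
        show φ (xA : K) = φ x from rfl, ← hval,
        div_mul_cancel₀ _ (by rw [ne_eq, map_eq_zero_iff _ (IsFractionRing.injective P L)]; exact hd0 x)]
    have h2 := congrArg lineg h1
    rw [map_mul, show lineg (algebraMap P Pg (den x)) = line (den x) from IsLocalization.lift_eq _ _,
      show lineg (algebraMap P Pg (num x)) = line (num x) from IsLocalization.lift_eq _ _] at h2
    exact h2
  have htr : Transcendental k (ψ xA) := by
    intro halgx
    obtain ⟨c, hc⟩ := minpoly.mem_range_of_degree_eq_one k _ (IsAlgClosed.degree_eq_one_of_irreducible k (minpoly.irreducible halgx.isIntegral))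
    rw [← hc, hline, hline, IsScalarTower.algebraMap_apply k (Polynomial k) (RatFunc k), ← map_mul] at hψx
    have h1 := IsFractionRing.injective (Polynomial k) (RatFunc k) hψx
    have e0 := congrArg (Polynomial.eval 0) h1
    have e1 := congrArg (Polynomial.eval 1) h1
    simp only [Polynomial.eval_mul, Polynomial.algebraMap_eq, Polynomial.eval_C, (hev _).1, (hev _).2] at e0 e1
    exact hab (by rw [← e0, ← e1]; ring)
  have hψ : Function.Injective ψ := by
    refine (injective_iff_map_eq_zero ψ).mpr fun r hr => ?_
    by_contra hr0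
    have halg' : IsAlgebraic (Algebra.adjoin k ({x} : Set K)) (r : K) :=
      (IntermediateField.isAlgebraic_adjoin_iff).mp (halg.isAlgebraic (r : K))
    obtain ⟨q, hq0, hqr⟩ := halg'.exists_nonzero_coeff_and_aeval_eq_zero (mem_nonZeroDivisors_of_ne_zero
      (fun h => hr0 (Subtype.ext h)))
    have hle : Algebra.adjoin k ({x} : Set K) ≤ A₀ :=
      Algebra.adjoin_mono (Set.singleton_subset_iff.mpr (Finset.mem_coe.mpr (Finset.mem_insert_self x F)))
    let i₀ := Subalgebra.inclusion hle
    have hz : Polynomial.eval₂ i₀.toRingHom r q = 0 := by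
      apply Subtype.val_injective
      show A₀.val.toRingHom _ = _
      rw [Polynomial.hom_eval₂, ZeroMemClass.coe_zero]
      exact hqr
    have h1 := congrArg ψ.toRingHom hz
    rw [Polynomial.hom_eval₂, map_zero, show ψ.toRingHom r = 0 from hr, Polynomial.eval₂_at_zero] at h1
    obtain ⟨Q, hQ⟩ : ∃ Q : Polynomial k, Polynomial.aeval x Q = (q.coeff 0 : K) := by
      have h : (q.coeff 0 : K) ∈ (Polynomial.aeval (R := k) x).range := by
        rw [← Algebra.adjoin_singleton_eq_range_aeval]
        exact (q.coeff 0).2
      exact h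
    have h2 : i₀ (q.coeff 0) = Polynomial.aeval xA Q := Subtype.ext (by
      show (q.coeff 0 : K) = A₀.val (Polynomial.aeval xA Q)
      rw [← Polynomial.aeval_algHom_apply, ← hQ]; rfl)
    have h3 : Polynomial.aeval (ψ xA) Q = 0 := by
      rw [Polynomial.aeval_algHom_apply, ← h2]
      exact h1
    have h4 : Q = 0 := (transcendental_iff.mp htr) Q h3
    exact hq0 (Subtype.ext (by rw [← hQ, h4, map_zero]; rfl))
  haveI : IsFractionRing A₀ K := by
    refine IsFractionRing.of_field A₀ K fun z => ?_
    have hz : z ∈ IntermediateField.adjoin k (S : Set K) := by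
      have := IntermediateField.adjoin.mono k _ _ (show (F : Set K) ⊆ S from Finset.coe_subset.mpr (Finset.subset_insert x F))
      exact this (hF ▸ IntermediateField.mem_top)
    obtain ⟨r, hr, t, ht, rfl⟩ := IntermediateField.mem_adjoin_iff_div.mp hz
    exact ⟨⟨r, hr⟩, ⟨t, ht⟩, rfl⟩
  exact ⟨IsFractionRing.liftAlgHom (K := K) (L := RatFunc k) hψ⟩


/-- Over an algebraically closed field k, a unirational variety of dimension one is rational. Field
form: let K be a finitely generated field extension of k of transcendence degree one (K is algebraic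
over k(x) for some x ∈ K transcendental over k) admitting a k-embedding into a purely transcendental
extension k(t_1, ..., t_n). Then K = k(t) for some t ∈ K transcendental over k. -/
theorem result (k : Type u) [Field k] [IsAlgClosed k]
    (K : Type u) [Field K] [Algebra k K] (hfg : (⊤ : IntermediateField k K).FG)
    (x : K) (hx : Transcendental k x) (halg : Algebra.IsAlgebraic ↥(IntermediateField.adjoin k {x}) K)
    (n : ℕ) (φ : K →ₐ[k] FractionRing (MvPolynomial (Fin n) k)) :
    ∃ t : K, Transcendental k t ∧ IntermediateField.adjoin k {t} = ⊤ := by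
  classical
  obtain ⟨F, hF⟩ := hfg
  obtain ⟨θ⟩ := exists_embedding_ratFunc k K x hx halg F hF n φ
  let E : IntermediateField k (RatFunc k) := θ.fieldRange
  have hE : E ≠ ⊥ := fun h => by
    have h1 : θ x ∈ (⊥ : IntermediateField k (RatFunc k)) := h ▸ (⟨x, rfl⟩ : θ x ∈ θ.fieldRange)
    obtain ⟨c, hc⟩ := IntermediateField.mem_bot.mp h1
    rw [← θ.commutes] at hc
    exact hx (θ.injective hc ▸ isAlgebraic_algebraMap c)
  obtain ⟨t, ht⟩ := (RatFunc.Luroth.generator_mem (E := E) : RatFunc.Luroth.generator E ∈ θ.fieldRange)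
  change θ t = _ at ht
  have htr : Transcendental k t := fun h => RatFunc.Luroth.transcendental_generator hE (ht ▸ h.algHom θ)
  refine ⟨t, htr, top_le_iff.mp fun z _ => ?_⟩
  have h1 : θ z ∈ IntermediateField.adjoin k ({RatFunc.Luroth.generator E} : Set (RatFunc k)) :=
    RatFunc.Luroth.eq_adjoin_generator (E := E) ▸ (⟨z, rfl⟩ : θ z ∈ θ.fieldRange)
  rw [← ht, ← Set.image_singleton, ← IntermediateField.adjoin_map] at h1
  obtain ⟨w, hw, hwz⟩ := h1
  exact θ.injective hwz ▸ hw

end Groth.Agent.S11238
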