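import Groth.Statements.S11239
import Mathlib

set_option autoImplicit false
universe u
open AGF

namespace Groth.Agent.S11239

/-- Let X be an m × n matrix over a commutative ring, u an upper triangular n × n matrix with ones on
the diagonal, t a diagonal n × n matrix and p ≤ n. For any choice of p rows, the minor of X·t·u
formed with these rows and the first p columns equals (t_11 ⋯ t_pp) times the corresponding minor of
X: the minors on the first p columns are semi-invariant of weight ω_p under right multiplication by
the upper triangular group. (The published statement is for the generic matrix over an algebraically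
closed field; this row states the identity over any commutative ring.) -/
theorem result (R : Type u) [CommRing R] (m n p : ℕ) (hp : p ≤ n)
    (X : Matrix (Fin m) (Fin n) R) (d : Fin n → R) (u : Matrix (Fin n) (Fin n) R)
    (hu1 : ∀ i, u i i = 1) (hu0 : ∀ i j, j < i → u i j = 0) (I : Fin p → Fin m) :
    ((X * Matrix.diagonal d * u).submatrix I (Fin.castLE hp)).det =
      (∏ i : Fin p, d (Fin.castLE hp i)) * (X.submatrix I (Fin.castLE hp)).det := by
  set c := Fin.castLE hp
  have e : (X * Matrix.diagonal d * u).submatrix I c =
      (X.submatrix I c) * (Matrix.of fun a b : Fin p => d (c a) * u (c a) (c b)) := by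
    ext i j
    rw [Matrix.mul_assoc]
    simp only [Matrix.submatrix_apply, Matrix.mul_apply (M := X), Matrix.diagonal_mul,
      Matrix.mul_apply (M := X.submatrix I c), Matrix.of_apply]
    symm
    refine Finset.sum_of_injOn c (Set.injOn_of_injective (Fin.castLE_injective hp)) ?_ ?_ ?_
    · simp
    · intro a _ ha
      have : (j : ℕ) < a := by
        by_contra hlt
        exact ha ⟨⟨a, by omega⟩, by simp, by simp [c, Fin.ext_iff]⟩
      simp [hu0 a (c j) (by simpa [c, Fin.lt_def] using this)]
    · simp
  have hM : (Matrix.of fun a b : Fin p => d (c a) * u (c a) (c b)).IsUpperTriangular := fun a b hab => by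
    simp [hu0 (c a) (c b) (by exact hab)]
  rw [e, Matrix.det_mul, Matrix.det_of_isUpperTriangular hM, mul_comm]
  simp [hu1]

end Groth.Agent.S11239
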