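import Groth.Statements.S1124
import Groth.Agent.Lib.H6.ImmDescent
import Groth.Agent.Lib.H6.SubtrVal2

set_option autoImplicit false
set_option backward.isDefEq.respectTransparency.types false
set_option maxHeartbeats 1000000
set_option linter.all false
open CategoryTheory CategoryTheory.Limits AlgebraicGeometry Opposite
universe u
open Desc

namespace Groth.Agent.S1124
open Groth.Agent

/-- If the base change of a morphism of schemes along a quasi-compact, flat, surjective morphism is a
quasi-compact immersion, then the morphism itself is a quasi-compact immersion. (Stated for a single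
quasi-compact flat surjective base change; together with Zariski-locality on the target this is fpqc
descent for quasi-compact immersions.) -/
theorem result :
    MorphismProperty.DescendsAlong (@IsImmersion ⊓ @QuasiCompact : MorphismProperty Scheme.{u})
      (@Surjective ⊓ @Flat ⊓ @QuasiCompact : MorphismProperty Scheme.{u}) := by
    apply MorphismProperty.DescendsAlong.mk'
    intro X Y Z f g _ hf hg
    have : Surjective f := hf.1.1
    have : Flat f := hf.1.2
    have : QuasiCompact f := hf.2
    have : IsImmersion (Limits.pullback.fst f g) := hg.1
    have : QuasiCompact g := MorphismProperty.of_pullback_fst_of_descendsAlong (P := @QuasiCompact)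
      (Q := @Surjective ⊓ @Flat ⊓ @QuasiCompact) (f := f) hf hg.2
    refine ⟨H6.ImmDescent.isImmersion_of_pullback_fst (Q := @Surjective ⊓ @Flat ⊓ @QuasiCompact)
      f g hf (Flat.isQuotientMap_of_surjective f) ?_, inferInstance⟩
    simp only [coborder, Set.preimage_compl, Set.preimage_sdiff]
    congr 2
    refine Set.Subset.antisymm (f.continuous.closure_preimage_subset _) fun x hx => ?_
    obtain ⟨y, hy⟩ := H6.SubtrVal.exists_specializes_of_mem_closure_range g hx
    obtain ⟨x', h1, h2⟩ := Flat.generalizingMap f hy
    exact closure_mono (Set.singleton_subset_iff.2 (show x' ∈ f ⁻¹' Set.range g from ⟨y, h2.symm⟩))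
      (specializes_iff_mem_closure.1 h1)

end Groth.Agent.S1124
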