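import Groth.Statements.S11243
import Groth.Agent.Lib.RootBase

set_option autoImplicit false
universe u v w
open RootD

namespace Groth.Agent.S11243

/-- (b), for a connected group, as a statement about its root datum: let P be a finite reduced
crystallographic root pairing over ℤ with weight lattice M, and b a base of P (simple roots,
determining the positive roots). Then there is an additive map h : M → ℤ which is positive on every
positive root (so that h strictly increases along the dominance order) and non-negative on every
dominant weight, i.e. on every ω ∈ M pairing non-negatively with all simple coroots. (Part (c),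
invariance under the component group of a disconnected group, is not stated.) -/
theorem result {ι : Type u} {M : Type v} {N : Type w}
    [Fintype ι] [AddCommGroup M] [AddCommGroup N]
    (P : RootPairing ι ℤ M N) [P.IsReduced] [P.IsCrystallographic] (b : P.Base) :
    ∃ h : M →+ ℤ, (∀ i : ι, b.IsPos i → 0 < h (P.root i)) ∧
      ∀ ω : M, (∀ j ∈ b.support, 0 ≤ P.toLinearMap ω (P.coroot j)) → 0 ≤ h ω := by
  classical
  have hΔ := RootLib.base_isSimpleSys b
  refine ⟨∑ j, if j ∈ RootD.posOf P (b.support : Set ι) then (P.coroot' j).toAddMonoidHom else 0, fun i hi => ?_, fun ω hω => ?_⟩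
  · rw [RootLib.isPos_iff_mem_posOf] at hi
    have h2 := RootLib.ht_pos hΔ hi
    rw [AddMonoidHom.finsetSum_apply]
    refine lt_of_lt_of_eq (b := 2 * RootLib.ht hΔ i) (by omega) ?_
    rw [← RootLib.sum_pairing_pos hΔ i]
    refine Finset.sum_congr (by congr!) fun j _ => ?_
    split_ifs
    · simp only [LinearMap.toAddMonoidHom_coe, P.root_coroot'_eq_pairing, ← RootLib.cast_pZ, Int.cast_id]
    · rfl
  · rw [AddMonoidHom.finsetSum_apply]
    refine Finset.sum_nonneg fun j _ => ?_
    split_ifs with hj
    · rw [← RootLib.posOf_flip_base b] at hj
      have hgoal : ∀ y ∈ RootD.natSpan P.flip (b.support : Set ι), 0 ≤ P.toLinearMap ω y := by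
        intro y hy
        induction hy using AddSubmonoid.closure_induction with
        | mem y hy => obtain ⟨a, ha, rfl⟩ := hy; exact hω a ha
        | zero => simp
        | add x y _ _ hx hy => rw [map_add]; exact add_nonneg hx hy
      exact hgoal _ hj
    · exact le_rfl

end Groth.Agent.S11243
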