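import Groth.Statements.S1125
import Groth.Agent.Lib.H6.ImmDescent

set_option autoImplicit false
set_option backward.isDefEq.respectTransparency.types false
set_option maxHeartbeats 1000000
set_option linter.all false
open CategoryTheory CategoryTheory.Limits AlgebraicGeometry Opposite
universe u
open Desc

namespace Groth.Agent.S1125
open Groth.Agent

/-- If the base change of a morphism along a flat, surjective morphism locally of finite presentation is
an immersion, then the morphism is an immersion. (Single-cover form of the fppf-local statement;
Zariski-locality on the target gives the covering form.) -/
theorem result :
    MorphismProperty.DescendsAlong (@IsImmersion : MorphismProperty Scheme.{u})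
      (@Surjective ⊓ @Flat ⊓ @LocallyOfFinitePresentation : MorphismProperty Scheme.{u}) := by
    apply MorphismProperty.DescendsAlong.mk'
    intro X Y Z f g _ hf hg
    have : Surjective f := hf.1.1
    have : Flat f := hf.1.2
    have : LocallyOfFinitePresentation f := hf.2
    have : IsImmersion (Limits.pullback.fst f g) := hg
    exact H6.ImmDescent.isImmersion_of_pullback_fst (Q := @Surjective ⊓ @Flat ⊓ @LocallyOfFinitePresentation)
      f g hf (f.isOpenMap.isQuotientMap f.continuous f.surjective) (coborder_preimage f.isOpenMap f.continuous _)

end Groth.Agent.S1125
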