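import Groth.Statements.S1126
import Groth.Agent.Lib.FpqcDescent
import Groth.Agent.S0415
import Mathlib.AlgebraicGeometry.Morphisms.FlatDescent

set_option autoImplicit false
set_option linter.all false
open CategoryTheory CategoryTheory.Limits AlgebraicGeometry Opposite
universe u
open Desc

namespace Groth.Agent.S1126

/-- If the base change of a morphism along a quasi-compact flat surjective morphism to its target is a
universal homeomorphism, then the morphism is a universal homeomorphism. (Stated for a single
quasi-compact flat surjective base change; combined with Zariski-locality on the target this gives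
the fpqc-local form.) -/
theorem result :
    MorphismProperty.DescendsAlong (FlatMor.IsUnivHomeo.{u})
      (@Surjective ⊓ @Flat ⊓ @QuasiCompact : MorphismProperty Scheme.{u}) := by
  have e : (FlatMor.IsUnivHomeo.{u}) = ((@IsIntegralHom ⊓ @UniversallyInjective ⊓ @Surjective) : MorphismProperty Scheme.{u}) := by
    ext X Y f
    rw [Groth.Agent.S0415.result]
    exact ⟨fun h => ⟨⟨h.1, h.2.1⟩, h.2.2⟩, fun h => ⟨h.1.1, h.1.2, h.2⟩⟩
  rw [e]
  infer_instance

end Groth.Agent.S1126
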