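import Groth.Statements.S11262
import Mathlib

set_option autoImplicit false
set_option backward.isDefEq.respectTransparency.types false
set_option maxHeartbeats 1000000
set_option linter.all false
universe u v
open W4bk4grassmannian

namespace Groth.Agent.S11262
open Groth.Agent

/-- Hilbert function of the Stanley–Reisner ring of a finite distributive lattice: let K be a field, L a
finite distributive lattice, R = K[x_α : α ∈ L], I ⊆ R the ideal generated by the products x_α x_β
over the incomparable (skew) pairs α, β, and m ≥ 1. Then the image in R/I of the homogeneous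
polynomials of degree m has K-dimension equal to the sum, over the nonempty chains C ⊆ L, of the
binomial coefficient (m - 1 choose |C| - 1). (The published statement is that the degree of R/I
equals the number of maximal chains of L; this row states the Hilbert function from which that
degree is read off.) -/
theorem result (K : Type u) [Field K] (L : Type v) [DistribLattice L]
    [Fintype L] (m : ℕ) (hm : 1 ≤ m) :
    Module.finrank K ((MvPolynomial.homogeneousSubmodule L K m).map
        (Ideal.Quotient.mkₐ K (Ideal.span {f : MvPolynomial L K | ∃ a b : L, ¬ a ≤ b ∧ ¬ b ≤ a ∧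
          f = MvPolynomial.X a * MvPolynomial.X b})).toLinearMap) =
      ∑ᶠ C : {C : Finset L // C.Nonempty ∧ IsChain (fun a b : L => a ≤ b) (↑C : Set L)},
        Nat.choose (m - 1) (C.1.card - 1) := by
    classical
    set I := Ideal.span {f : MvPolynomial L K | ∃ a b : L, ¬ a ≤ b ∧ ¬ b ≤ a ∧
      f = MvPolynomial.X a * MvPolynomial.X b} with hIdef
    let S : Set (L →₀ ℕ) := {g | ∃ a b : L, ¬ a ≤ b ∧ ¬ b ≤ a ∧ g = Finsupp.single a 1 + Finsupp.single b 1}
    have hI : I = Ideal.span ((fun s => MvPolynomial.monomial s (1 : K)) '' S) := by
      rw [hIdef]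
      congr 1
      ext f
      constructor
      · rintro ⟨a, b, h1, h2, rfl⟩
        exact ⟨_, ⟨a, b, h1, h2, rfl⟩, by simp [MvPolynomial.X, MvPolynomial.monomial_mul]⟩
      · rintro ⟨g, ⟨a, b, h1, h2, rfl⟩, rfl⟩
        exact ⟨a, b, h1, h2, by simp [MvPolynomial.X, MvPolynomial.monomial_mul]⟩
    let good : (L →₀ ℕ) → Prop := fun e => IsChain (fun a b : L => a ≤ b) (e.support : Set L)
    have hbad : ∀ e : L →₀ ℕ, (∃ g ∈ S, g ≤ e) ↔ ¬ good e := by
      intro e
      constructor
      · rintro ⟨g, ⟨a, b, h1, h2, rfl⟩, hge⟩ hc
        have hab : a ≠ b := fun h => h1 h.le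
        have ha := hge a
        have hb := hge b
        simp [hab, hab.symm] at ha hb
        rcases hc (by simp; omega : a ∈ (e.support : Set L)) (by simp; omega : b ∈ (e.support : Set L)) hab with h | h
        · exact h1 h
        · exact h2 h
      · intro hc
        simp only [good, IsChain, Set.Pairwise, not_forall] at hc
        obtain ⟨a, ha, b, hb, hab, h⟩ := hc
        rw [not_or] at h
        refine ⟨_, ⟨a, b, h.1, h.2, rfl⟩, fun x => ?_⟩
        simp only [Finset.mem_coe, Finsupp.mem_support_iff] at ha hb
        by_cases hxa : a = x
        · subst hxa; simp [hab, hab.symm]; omega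
        · by_cases hxb : b = x
          · subst hxb; simp [hab, hab.symm]; omega
          · simp [hxa, hxb]
    let G : Finset (L →₀ ℕ) := ((Finset.univ : Finset L).finsuppAntidiag m).filter good
    have hG : ∀ e, e ∈ G ↔ e.degree = m ∧ good e := by
      intro e
      simp [G, Finset.mem_finsuppAntidiag, Finsupp.degree_eq_sum]
    let q := (Ideal.Quotient.mkₐ K I).toLinearMap
    let v : G → (MvPolynomial L K ⧸ I) := fun g => q (MvPolynomial.monomial g.1 1)
    have hli : LinearIndependent K v := by
      rw [Fintype.linearIndependent_iff]
      intro c hc g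
      by_contra hcg
      have h0 : q (∑ i : G, c i • MvPolynomial.monomial i.1 1) = 0 := by
        rw [map_sum]
        simpa only [map_smul] using hc
      have h1 : (∑ i : G, c i • MvPolynomial.monomial i.1 (1 : K)) ∈ I :=
        Ideal.Quotient.eq_zero_iff_mem.1 h0
      rw [hI, MvPolynomial.mem_ideal_span_monomial_image] at h1
      obtain ⟨s, hs, hsle⟩ := h1 g.1 (by
        rw [MvPolynomial.mem_support_iff, MvPolynomial.coeff_sum, Finset.sum_eq_single g]
        · simpa using hcg
        · intro b _ hb
          have : b.1 ≠ g.1 := fun h => hb (Subtype.ext h)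
          simp [MvPolynomial.coeff_monomial, this]
        · simp)
      exact (hbad g.1).1 ⟨s, hs, hsle⟩ ((hG _).1 g.2).2
    have hmap : (MvPolynomial.homogeneousSubmodule L K m).map q = Submodule.span K (Set.range v) := by
      refine le_antisymm ?_ (Submodule.span_le.2 ?_)
      · rintro _ ⟨p, hp, rfl⟩
        rw [p.as_sum, map_sum]
        refine Submodule.sum_mem _ fun e he => ?_
        have hdeg : e.degree = m := by
          have := hp (MvPolynomial.mem_support_iff.1 he)
          rwa [Finsupp.degree_eq_weight_one]
        by_cases hge : good e
        · rw [← mul_one (MvPolynomial.coeff e p), ← smul_eq_mul, ← MvPolynomial.smul_monomial, map_smul]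
          exact Submodule.smul_mem _ _ (Submodule.subset_span ⟨⟨e, (hG e).2 ⟨hdeg, hge⟩⟩, rfl⟩)
        · have : MvPolynomial.monomial e (MvPolynomial.coeff e p) ∈ I := by
            rw [hI, MvPolynomial.mem_ideal_span_monomial_image]
            intro xi hxi
            rw [Finset.mem_singleton.1 (MvPolynomial.support_monomial_subset hxi)]
            exact (hbad e).2 hge
          rw [show q (MvPolynomial.monomial e (MvPolynomial.coeff e p)) = 0 from Ideal.Quotient.eq_zero_iff_mem.2 this]
          exact Submodule.zero_mem _
      · rintro _ ⟨g, rfl⟩
        exact ⟨_, MvPolynomial.isHomogeneous_monomial _ ((hG _).1 g.2).1, rfl⟩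
    show Module.finrank K ↥(Submodule.map q (MvPolynomial.homogeneousSubmodule L K m)) = _
    rw [hmap, finrank_span_eq_card hli, Fintype.card_coe, finsum_eq_sum_of_fintype]
    let T : Finset (Finset L) := Finset.univ.filter fun C => C.Nonempty ∧ IsChain (fun a b : L => a ≤ b) (↑C : Set L)
    rw [← Finset.sum_subtype T (fun C => by simp [T]) fun C => Nat.choose (m - 1) (C.card - 1)]
    have hmaps : ∀ e ∈ G, e.support ∈ T := by
      intro e he
      simp only [T, Finset.mem_filter, Finset.mem_univ, true_and]
      refine ⟨?_, ((hG e).1 he).2⟩
      rw [Finset.nonempty_iff_ne_empty]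
      intro h
      rw [Finsupp.support_eq_empty] at h
      have := ((hG e).1 he).1
      simp [h] at this
      omega
    rw [Finset.card_eq_sum_card_fiberwise hmaps]
    refine Finset.sum_congr rfl fun C hC => ?_
    simp only [T, Finset.mem_filter, Finset.mem_univ, true_and] at hC
    have hc0 : 0 < C.card := Finset.card_pos.2 hC.1
    let one : L →₀ ℕ := Finsupp.indicator C (fun _ _ => 1)
    have hone : ∀ x, one x = if x ∈ C then 1 else 0 := fun x => by simp [one, Finsupp.indicator_apply]
    have hdone : one.degree = C.card := by
      rw [Finsupp.degree_eq_sum]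
      simp [hone]
    by_cases hcm : C.card ≤ m
    · calc _ = (C.finsuppAntidiag (m - C.card)).card := ?_
        _ = (C.card + (m - C.card) - 1).choose (m - C.card) := Finset.card_finsuppAntidiag_nat_eq_choose ..
        _ = _ := by
          rw [show C.card + (m - C.card) - 1 = m - 1 by omega,
            ← Nat.choose_symm (show m - C.card ≤ m - 1 by omega), show m - 1 - (m - C.card) = C.card - 1 by omega]
      have key : ∀ e : L →₀ ℕ, e.support = C → one ≤ e := by
        intro e he x
        rw [hone]
        split_ifs with hx
        · rw [← he, Finsupp.mem_support_iff] at hx; omega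
        · omega
      have hmem : ∀ f : L →₀ ℕ, f ∈ C.finsuppAntidiag (m - C.card) ↔ f.degree = m - C.card ∧ f.support ⊆ C := by
        intro f
        rw [Finset.mem_finsuppAntidiag]
        constructor
        · rintro ⟨h1, h2⟩
          exact ⟨(Finset.sum_subset h2 (fun x _ hx => Finsupp.notMem_support_iff.1 hx)).trans h1, h2⟩
        · rintro ⟨h1, h2⟩
          exact ⟨(Finset.sum_subset h2 (fun x _ hx => Finsupp.notMem_support_iff.1 hx)).symm.trans h1, h2⟩
      refine Finset.card_bij' (fun e _ => e - one) (fun f _ => f + one) ?_ ?_ ?_ ?_
      · intro e he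
        rw [Finset.mem_filter, hG] at he
        rw [hmem]
        refine ⟨?_, fun x hx => ?_⟩
        · have := congrArg Finsupp.degree (tsub_add_cancel_of_le (key e he.2))
          rw [map_add, hdone, he.1.1] at this
          omega
        · rw [Finsupp.mem_support_iff, Finsupp.tsub_apply] at hx
          rw [← he.2, Finsupp.mem_support_iff]
          omega
      · intro f hf
        rw [hmem] at hf
        have hsup : (f + one).support = C := by
          ext x
          simp only [Finsupp.mem_support_iff, Finsupp.add_apply, hone]
          split_ifs with hx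
          · simp [hx]
          · have := Finsupp.notMem_support_iff.1 (fun h => hx (hf.2 h))
            simp [hx, this]
        rw [Finset.mem_filter, hG]
        refine ⟨⟨?_, ?_⟩, hsup⟩
        · rw [map_add, hdone, hf.1]; omega
        · show IsChain _ _
          rw [hsup]
          exact hC.2
      · intro e he
        rw [Finset.mem_filter] at he
        exact tsub_add_cancel_of_le (key e he.2)
      · intro f _
        exact add_tsub_cancel_right f one
    · rw [Nat.choose_eq_zero_of_lt (show m - 1 < C.card - 1 by omega), Finset.card_eq_zero, Finset.filter_eq_empty_iff]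
      intro e he hsup
      have h1 := ((hG e).1 he).1
      have h2 : C.card ≤ e.degree := by
        rw [← hsup, Finset.card_eq_sum_ones]
        exact Finset.sum_le_sum fun x hx => Nat.one_le_iff_ne_zero.2 (Finsupp.mem_support_iff.1 hx)
      omega

end Groth.Agent.S11262
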