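import Groth.Statements.S11268
import Mathlib
import Groth.Prelude.Def_W4bk4grassmannianPl

set_option autoImplicit false
open W4bk4grassmannian

namespace Groth.Agent.S11268
open W4bk4grassmannian
open scoped TensorProduct

open W4bk4grassmannian in
/-- Let τ < w in I(d,n), the strictly increasing maps Fin d → Fin n ordered entrywise. Then there is a
Schubert divisor φ of w, i.e. φ < w with Σ_t (φ_t - t) + 1 = Σ_t (w_t - t), such that τ ≤ φ: every
proper Schubert subvariety of X(w) lies in a Schubert divisor of X(w). -/
theorem result (d n : ℕ) (τ w : Idx d n) (h : τ < w) :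
    ∃ φ ∈ divisors w, τ ≤ φ := by
  classical
  have hle : ∀ t, τ.1 t ≤ w.1 t := h.le
  have hex : ∃ t, τ.1 t < w.1 t := by
    by_contra hc
    push Not at hc
    exact h.ne (Subtype.ext (funext fun t => le_antisymm (hle t) (hc t)))
  let s := Finset.univ.filter fun t => τ.1 t < w.1 t
  have hs : s.Nonempty := by obtain ⟨t, ht⟩ := hex; exact ⟨t, by simp [s, ht]⟩
  let i := s.min' hs
  have hi : τ.1 i < w.1 i := by simpa [s] using s.min'_mem hs
  have hmin : ∀ t < i, τ.1 t = w.1 t := fun t ht => le_antisymm (hle t) (not_lt.1 fun hc => (not_le.2 ht) (s.min'_le t (by simp [s, hc])))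
  have hlow : ∀ k (hk : k < d), k ≤ (τ.1 ⟨k, hk⟩).val := by
    intro k
    induction k with
    | zero => intro _; exact Nat.zero_le _
    | succ k ih =>
      intro hk
      have h2 : τ.1 ⟨k, by omega⟩ < τ.1 ⟨k + 1, hk⟩ := τ.2 (by show k < k + 1; omega)
      have h3 := ih (by omega)
      rw [Fin.lt_def] at h2
      omega
  let v : Fin n := ⟨(w.1 i).val - 1, by have := (w.1 i).2; omega⟩
  have hv : (v : ℕ) + 1 = (w.1 i).val := by
    show (w.1 i).val - 1 + 1 = _
    rw [Fin.lt_def] at hi; omega
  have hmono : StrictMono (Function.update w.1 i v) := by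
    intro a b hab
    have hw : (w.1 a).val < (w.1 b).val := Fin.lt_def.1 (w.2 hab)
    rw [Fin.lt_def]
    by_cases ha : a = i
    · subst ha
      rw [Function.update_self, Function.update_of_ne hab.ne']
      omega
    · by_cases hb : b = i
      · subst hb
        rw [Function.update_self, Function.update_of_ne ha, ← hmin a hab]
        have h2 : (τ.1 a).val < (τ.1 i).val := Fin.lt_def.1 (τ.2 hab)
        rw [Fin.lt_def] at hi
        omega
      · rw [Function.update_of_ne ha, Function.update_of_ne hb]; exact hw
  refine ⟨⟨_, hmono⟩, ⟨?_, ?_⟩, fun t => ?_⟩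
  · refine lt_of_le_of_ne (fun t => ?_) fun he => ?_
    · show Function.update w.1 i v t ≤ w.1 t
      by_cases ht : t = i
      · subst ht; rw [Function.update_self, Fin.le_def]; omega
      · rw [Function.update_of_ne ht]
    · have := congrFun (congrArg Subtype.val he) i
      simp only [Function.update_self] at this
      rw [Fin.ext_iff] at this; omega
  · show (Finset.univ.sum fun t : Fin d => (Function.update w.1 i v t).val - t.val) + 1 = Finset.univ.sum fun t : Fin d => (w.1 t).val - t.val
    rw [← Finset.add_sum_erase _ _ (Finset.mem_univ i), ← Finset.add_sum_erase _ _ (Finset.mem_univ i), Function.update_self,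
      Finset.sum_congr rfl fun t ht => by rw [Function.update_of_ne (Finset.ne_of_mem_erase ht)]]
    have h1 : (i : ℕ) ≤ (τ.1 i).val := hlow i.val i.2
    rw [Fin.lt_def] at hi
    omega
  · show τ.1 t ≤ Function.update w.1 i v t
    by_cases ht : t = i
    · subst ht; rw [Function.update_self, Fin.le_def]; rw [Fin.lt_def] at hi; omega
    · rw [Function.update_of_ne ht]; exact hle t

universe u

end Groth.Agent.S11268
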