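import Groth.Statements.S11278
import Mathlib

set_option autoImplicit false
universe u v
open W4bk4grassmannian

namespace Groth.Agent.S11278

section aux

variable {K : Type u} [Field K] {R : Type v} [CommRing R] [Algebra K R] (𝒜 : ℕ → Submodule K R) [GradedAlgebra 𝒜]
variable {s : R} (hs : s ∈ 𝒜 1)

/-- `x ↦ (x / s^i) T^i` on the piece of degree `i`. -/
noncomputable def nagF (i : ℕ) : ↥(𝒜 i) →+ Polynomial (HomogeneousLocalization.Away 𝒜 s) :=
  (Polynomial.monomial i).toAddMonoidHom.comp
    { toFun := fun x => HomogeneousLocalization.Away.mk 𝒜 hs i x.1 (by simpa using x.2)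
      map_zero' := by
        apply HomogeneousLocalization.val_injective
        simp [HomogeneousLocalization.Away.val_mk, Localization.mk_zero]
      map_add' := fun x y => by
        apply HomogeneousLocalization.val_injective
        simp [HomogeneousLocalization.Away.val_mk, Localization.add_mk_self] }

noncomputable def nag : R →+* Polynomial (HomogeneousLocalization.Away 𝒜 s) :=
  (DirectSum.toSemiring (nagF 𝒜 hs)
    (by
      show Polynomial.monomial 0 _ = 1
      rw [← Polynomial.monomial_zero_one]
      congr 1
      apply HomogeneousLocalization.val_injective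
      simp [HomogeneousLocalization.Away.val_mk])
    (fun {i j} a b => by
      show Polynomial.monomial (i + j) _ = Polynomial.monomial i _ * Polynomial.monomial j _
      rw [Polynomial.monomial_mul_monomial]
      congr 1
      apply HomogeneousLocalization.val_injective
      simp [HomogeneousLocalization.Away.val_mk, Localization.mk_mul, pow_add])).comp
    (DirectSum.decomposeRingEquiv 𝒜).toRingHom

theorem nag_of_mem {i : ℕ} {x : R} (hx : x ∈ 𝒜 i) : nag 𝒜 hs x =
    Polynomial.monomial i (HomogeneousLocalization.Away.mk 𝒜 hs i x (by simpa using hx)) := by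
  unfold nag
  rw [RingHom.comp_apply, show (DirectSum.decomposeRingEquiv 𝒜).toRingHom x = DirectSum.decompose 𝒜 x from rfl,
    DirectSum.decompose_of_mem 𝒜 hx, DirectSum.toSemiring_of]
  rfl

theorem nag_s : nag 𝒜 hs s = Polynomial.X := by
  rw [nag_of_mem 𝒜 hs hs, ← Polynomial.monomial_one_one_eq_X]
  congr 1
  apply HomogeneousLocalization.val_injective
  simp [HomogeneousLocalization.Away.val_mk]

theorem nag_coeff (x : R) (i : ℕ) : (nag 𝒜 hs x).coeff i =
    HomogeneousLocalization.Away.mk 𝒜 hs i (DirectSum.decompose 𝒜 x i : R) (by simp) := by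
  classical
  apply HomogeneousLocalization.val_injective
  induction x using DirectSum.Decomposition.inductionOn 𝒜 with
  | zero => simp [HomogeneousLocalization.Away.val_mk, Localization.mk_zero]
  | @homogeneous j a =>
    rw [nag_of_mem 𝒜 hs a.2, Polynomial.coeff_monomial]
    by_cases hji : j = i
    · subst hji
      simp [HomogeneousLocalization.Away.val_mk]
    · rw [HomogeneousLocalization.Away.val_mk, DirectSum.decompose_of_mem_ne 𝒜 a.2 hji, if_neg hji,
        Localization.mk_zero, HomogeneousLocalization.val_zero]
  | add a b ha hb =>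
    simp only [map_add, Polynomial.coeff_add, HomogeneousLocalization.val_add, ha, hb,
      HomogeneousLocalization.Away.val_mk, Localization.add_mk_self, DirectSum.decompose_add,
      DirectSum.add_apply, Submodule.coe_add]

theorem nag_lift (P : Polynomial (HomogeneousLocalization.Away 𝒜 s)) :
    ∃ (k : ℕ) (r : R), nag 𝒜 hs r = Polynomial.X ^ k * P := by
  induction P using Polynomial.induction_on' with
  | add p q hp hq =>
    obtain ⟨k, r, hr⟩ := hp
    obtain ⟨l, t, ht⟩ := hq
    refine ⟨k + l, s ^ l * r + s ^ k * t, ?_⟩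
    rw [map_add, map_mul, map_mul, map_pow, map_pow, nag_s, hr, ht]
    ring
  | monomial i c =>
    obtain ⟨n, a, ha, rfl⟩ := HomogeneousLocalization.Away.mk_surjective 𝒜 hs c
    have hm : a * s ^ i ∈ 𝒜 (n + i) := by
      simpa using SetLike.mul_mem_graded (A := 𝒜) (by simpa using ha) (SetLike.pow_mem_graded i hs)
    refine ⟨n, a * s ^ i, ?_⟩
    rw [nag_of_mem 𝒜 hs hm, Polynomial.X_pow_eq_monomial, Polynomial.monomial_mul_monomial, one_mul]
    congr 1
    apply HomogeneousLocalization.val_injective
    rw [HomogeneousLocalization.Away.val_mk, HomogeneousLocalization.Away.val_mk,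
      Localization.mk_eq_mk_iff, Localization.r_iff_exists]
    exact ⟨1, by simp only [Submonoid.coe_one, one_mul]; ring⟩

theorem nag_injective [IsDomain R] (hs0 : s ≠ 0) : Function.Injective (nag 𝒜 hs) := by
  classical
  refine (injective_iff_map_eq_zero _).mpr fun x hx => ?_
  apply (DirectSum.decompose 𝒜).injective
  rw [DirectSum.decompose_zero]
  refine DFinsupp.ext fun i => Subtype.ext ?_
  have h1 := congrArg HomogeneousLocalization.val ((nag_coeff 𝒜 hs x i).symm.trans (by rw [hx, Polynomial.coeff_zero]))
  rw [HomogeneousLocalization.Away.val_mk, HomogeneousLocalization.val_zero, ← Localization.mk_zero 1,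
    Localization.mk_eq_mk_iff, Localization.r_iff_exists] at h1
  obtain ⟨⟨c, j, rfl⟩, hc⟩ := h1
  simp only [Submonoid.coe_one, one_mul, mul_zero] at hc
  exact (mul_eq_zero.mp hc).resolve_left (pow_ne_zero _ hs0)

end aux

/-- Unique factorization lifts from the homogeneous localization at a prime element of degree one, in
the generality of the published argument: let K be a field, R = ⊕_{i ≥ 0} R_i a Noetherian ℕ-graded
commutative K-algebra which is an integral domain, and s ∈ R_1 a homogeneous element of degree one
which is a prime element of R. If the homogeneous localization R_(s) (degree-zero part of R[1/s])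
has unique factorization, then R is a unique factorization domain. (The published statement is the
case where R is the homogeneous coordinate ring of a Schubert variety, s the Plücker coordinate of
the least index, which is a prime element there, and R_(s) the coordinate ring of the opposite
cell.) -/
theorem result (K : Type u) [Field K] (R : Type v)
    [CommRing R] [IsDomain R] [IsNoetherianRing R] [Algebra K R] (𝒜 : ℕ → Submodule K R) [GradedAlgebra 𝒜]
    (s : R) (hs : s ∈ 𝒜 1) (hp : Prime s)
    (h : UniqueFactorizationMonoid (HomogeneousLocalization.Away 𝒜 s)) :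
    UniqueFactorizationMonoid R := by
  classical
  haveI : IsDomain (HomogeneousLocalization.Away 𝒜 s) := by
    have hle : Submonoid.powers s ≤ nonZeroDivisors R := powers_le_nonZeroDivisors_of_noZeroDivisors hp.ne_zero
    haveI : IsDomain (Localization.Away s) := IsLocalization.isDomain_localization hle
    exact Function.Injective.isDomain (algebraMap (HomogeneousLocalization.Away 𝒜 s) (Localization.Away s))
      (HomogeneousLocalization.val_injective _)
  haveI := h
  let φ := nag 𝒜 hs
  have hφi : Function.Injective φ := nag_injective 𝒜 hs hp.ne_zero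
  have hφs : φ s = Polynomial.X := nag_s 𝒜 hs
  haveI : WfDvdMonoid R := IsNoetherianRing.wfDvdMonoid
  refine { irreducible_iff_prime := fun {q} => ⟨fun hq => ?_, fun hq => hq.irreducible⟩ }
  by_cases hsq : s ∣ q
  · exact (hp.irreducible.associated_of_dvd hq hsq).prime hp
  have hcancel : ∀ (k : ℕ) (a : R), ¬ s ∣ a → ∀ c d : R, a * c = s ^ k * d → s ^ k ∣ c := fun k a ha c d he =>
    hp.pow_dvd_of_dvd_mul_left k ha ⟨d, he⟩
  -- a prime factor of `φ q` other than `X`
  obtain ⟨p, hpp, hpX, hpq⟩ : ∃ p, Prime p ∧ ¬ Polynomial.X ∣ p ∧ p ∣ φ q := by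
    by_contra hno
    push_neg at hno
    obtain ⟨f, hf, u, hu⟩ := UniqueFactorizationMonoid.exists_prime_factors (φ q) (fun h0 => hq.ne_zero (hφi (by rw [h0, map_zero])))
    have hX : Prime (Polynomial.X : Polynomial (HomogeneousLocalization.Away 𝒜 s)) := Polynomial.prime_X
    have hfX : ∀ p ∈ f, Associated Polynomial.X p := fun p hpf => by
      by_contra hne
      exact hno p (hf p hpf) (fun hd => hne (hX.irreducible.associated_of_dvd (hf p hpf).irreducible hd))
        ((Multiset.dvd_prod hpf).trans ⟨_, hu.symm⟩)
    have hass : Associated (Polynomial.X ^ Multiset.card f) f.prod := by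
      clear hu hf
      induction f using Multiset.induction_on with
      | empty => simp
      | cons a g ih =>
        rw [Multiset.card_cons, pow_succ', Multiset.prod_cons]
        exact (hfX a (Multiset.mem_cons_self a g)).mul_mul (ih fun p hpg => hfX p (Multiset.mem_cons_of_mem hpg))
    obtain ⟨v, hv⟩ := hass.trans ⟨u, hu⟩
    set e := Multiset.card f
    obtain ⟨k, w, hw⟩ := nag_lift 𝒜 hs (↑v⁻¹)
    have h1 : q * w = s ^ (e + k) := hφi (by
      rw [map_mul, map_pow, hφs]
      change φ q * nag 𝒜 hs w = _
      rw [hw, ← hv, pow_add]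
      calc _ = Polynomial.X ^ e * Polynomial.X ^ k * ((v : Polynomial _) * ↑v⁻¹) := by ring
        _ = _ := by rw [Units.mul_inv, mul_one])
    obtain ⟨i, hi, hqi⟩ := (dvd_prime_pow hp _).mp ⟨w, h1.symm⟩
    rcases Nat.eq_zero_or_pos i with rfl | hipos
    · exact hq.not_isUnit (by simpa using hqi)
    · exact hsq ((dvd_pow_self s hipos.ne').trans hqi.symm.dvd)
  have hX : Prime (Polynomial.X : Polynomial (HomogeneousLocalization.Away 𝒜 s)) := Polynomial.prime_X
  -- lift it
  have hex : ∃ k, ∃ r : R, φ r = Polynomial.X ^ k * p := nag_lift 𝒜 hs p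
  obtain ⟨r, hr⟩ := Nat.find_spec hex
  set k := Nat.find hex with hk
  have hsr : ¬ s ∣ r := by
    rintro ⟨r', rfl⟩
    rw [map_mul, hφs] at hr
    rcases Nat.eq_zero_or_pos k with h0 | hpos
    · rw [h0, pow_zero, one_mul] at hr
      exact hpX ⟨_, hr.symm⟩
    · obtain ⟨j, hj⟩ : ∃ j, k = j + 1 := ⟨k - 1, by omega⟩
      rw [hj, pow_succ', mul_assoc] at hr
      exact Nat.find_min hex (by omega : j < Nat.find hex) ⟨r', mul_left_cancel₀ hX.ne_zero hr⟩
  have hdvd : ∀ a : R, p ∣ φ a → r ∣ a := by
    rintro a ⟨c, hc⟩
    obtain ⟨l, c', hc'⟩ := nag_lift 𝒜 hs c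
    have h1 : r * c' = s ^ (k + l) * a := hφi (by
      rw [map_mul, map_mul, map_pow, hφs, hr]
      change _ * nag 𝒜 hs c' = _
      rw [hc', hc]
      ring)
    obtain ⟨d, rfl⟩ := hcancel _ r hsr c' a h1
    exact ⟨d, mul_left_cancel₀ (pow_ne_zero (k + l) hp.ne_zero) (by rw [← h1]; ring)⟩
  have hpr : p ∣ φ r := ⟨Polynomial.X ^ k, by rw [hr, mul_comm]⟩
  have hrp : Prime r := by
    refine ⟨fun h0 => ?_, fun hu => hpp.not_unit (isUnit_of_dvd_unit hpr (hu.map φ)), fun a b hab => ?_⟩
    · subst h0; exact hsr (dvd_zero s)
    · have : p ∣ φ a * φ b := by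
        rw [← map_mul]; exact hpr.trans (map_dvd φ hab)
      exact (hpp.dvd_or_dvd this).imp (hdvd a) (hdvd b)
  exact (hrp.irreducible.associated_of_dvd hq (hdvd q hpq)).prime hrp

end Groth.Agent.S11278
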