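import Groth.Statements.S11298
import Mathlib
import Groth.Prelude.Def_CAlg
import Groth.Prelude.Def_Wider
import Groth.Agent.Lib.H2DepthLocal
import Groth.Agent.Lib.H2LCTop

set_option autoImplicit false
universe u v
open LocCoh

namespace Groth.Agent.S11298
open CategoryTheory Pointwise RingTheory.Sequence Groth.Agent.H2Depth Groth.Agent.H2DepthMore Groth.Agent.H2DepthLocal Groth.Agent.H2LC

/-- Let X = Spec B be an affine Noetherian scheme, Z = V(I) a closed subscheme and G a coherent sheaf,
i.e. a finitely generated B-module M, with dual G^v = Hom_B(M, B). If depth_Z(O_X) ≥ 2 then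
depth_Z(G^v) ≥ 2. Here the depth along I of a module N is the supremum of the lengths of N-regular
sequences contained in I (and is infinite when I N = N). (The published statement adds that sections
of the dual over X and over X minus Z agree; this row omits that clause.) -/
theorem result (B : Type u) [CommRing B] [IsNoetherianRing B]
    (I : Ideal B) (M : Type v) [AddCommGroup M] [Module B M] [Module.Finite B M]
    (h : 2 ≤ LocCoh.idealDepth I B) : 2 ≤ LocCoh.idealDepth I (M →ₗ[B] B) := by
  by_cases hI : I = ⊤
  · subst hI
    rw [LocCoh.idealDepth, if_pos (Submodule.top_smul _)]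
    exact le_top
  have hIB : I • (⊤ : Submodule B B) ≠ ⊤ := by rwa [smul_eq_mul, Ideal.mul_top]
  have h2 : HasReg I B 2 := (hasReg_iff_le_idealDepth hIB).2 (by exact_mod_cast h)
  obtain ⟨x, hxI, hx, hrest⟩ := h2.exists_cons
  obtain ⟨y, hyI, hy, -⟩ := hrest.exists_cons
  refine le_trans (by norm_num) (le_idealDepth (k := 2) (HasReg.cons hxI ?_ (HasReg.cons hyI ?_ (HasReg.zero I))))
  · intro φ ψ hφ
    ext m
    exact hx (LinearMap.congr_fun hφ m)
  · rw [isSMulRegular_quot_iff]
    intro φ ψ hψ
    have hy' := isSMulRegular_quot_iff.1 hy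
    choose c hc using fun m => hy' (φ m) (ψ m) (LinearMap.congr_fun hψ m)
    refine ⟨{ toFun := c, map_add' := fun m m' => hx ?_, map_smul' := fun r m => hx ?_ }, LinearMap.ext hc⟩
    · show x • c (m + m') = x • (c m + c m')
      rw [smul_add, hc, hc, hc, map_add]
    · show x • c (r • m) = x • (r • c m)
      rw [smul_comm x r, hc, hc, map_smul]

end Groth.Agent.S11298
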