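import Groth.Statements.S11306
import Mathlib

set_option autoImplicit false
universe u
open TensorProduct
open CAlg

namespace Groth.Agent.S11306
open scoped TensorProduct
set_option linter.style.haveILetI false

/-- Take a Noetherian local domain A, with residue field k and fraction field K, and let M be a finitely
generated A-module. If k ⊗_A M and K ⊗_A M have the same dimension r (over k and over K
respectively), then M is a free A-module of rank r. -/
theorem result (A : Type u) [CommRing A] [IsDomain A]
    [IsNoetherianRing A] [IsLocalRing A] (M : Type u) [AddCommGroup M] [Module A M] [Module.Finite A M] (r : ℕ)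
    (hk : Module.finrank (IsLocalRing.ResidueField A) (IsLocalRing.ResidueField A ⊗[A] M) = r)
    (hK : Module.finrank (FractionRing A) (FractionRing A ⊗[A] M) = r) :
    Module.Free A M ∧ Module.finrank A M = r := by
  let b := Module.finBasisOfFinrankEq (IsLocalRing.ResidueField A) (IsLocalRing.ResidueField A ⊗[A] M) hk
  have hsurjmk := TensorProduct.mk_surjective A M (IsLocalRing.ResidueField A) IsLocalRing.residue_surjective
  choose m hm using fun i => hsurjmk (b i)
  let π : (Fin r → A) →ₗ[A] M := Fintype.linearCombination A m
  have hπ : Function.Surjective π := by
    rw [← LinearMap.range_eq_top, Fintype.range_linearCombination]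
    exact IsLocalRing.span_eq_top_of_tmul_eq_basis m b hm
  have hπK : Function.Injective (π.baseChange (FractionRing A)) := by
    refine (LinearMap.injective_iff_surjective_of_finrank_eq_finrank ?_).2 (LinearMap.baseChange_surjective (A := FractionRing A) hπ)
    rw [hK, Module.finrank_baseChange, Module.finrank_fin_fun]
  have hinj : Function.Injective π := (injective_iff_map_eq_zero _).2 fun v hv => by
    have h1 : π.baseChange (FractionRing A) ((1 : FractionRing A) ⊗ₜ v) = 0 := by rw [LinearMap.baseChange_tmul, hv, TensorProduct.tmul_zero]
    have h2 := hπK (h1.trans (map_zero _).symm)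
    funext i
    have h3 := congrArg (fun z => TensorProduct.rid A (FractionRing A) ((LinearMap.proj i : (Fin r → A) →ₗ[A] A).lTensor (FractionRing A) z)) h2
    simp [Algebra.smul_def] at h3
    exact h3
  let e := LinearEquiv.ofBijective π ⟨hinj, hπ⟩
  haveI : Module.Free A M := Module.Free.of_equiv e
  exact ⟨inferInstance, by rw [← e.finrank_eq, Module.finrank_fin_fun]⟩

end Groth.Agent.S11306
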