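import Groth.Statements.S1131
import Mathlib

set_option autoImplicit false
open CategoryTheory CategoryTheory.Limits AlgebraicGeometry Opposite
universe u
open Desc

namespace Groth.Agent.S1131

/-- If p : X ⟶ S is surjective, flat and quasi-compact, then the functor sending a scheme over S to its
canonical descent datum relative to p is full. (Faithfulness, which needs no quasi-compactness, is a
companion statement.) (Descent data are taken in functor-of-points form, equivalent by the Yoneda
lemma to the usual form of an isomorphism over X ×_S X satisfying the cocycle condition.) -/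
theorem result {X S : Scheme.{u}} (p : X ⟶ S) [Surjective p] [Flat p] [QuasiCompact p] :
    (Desc.toDD p).Full := by

  refine ⟨fun {U U'} φ => ?_⟩
  haveI : AlgebraicGeometry.Surjective (pullback.snd p U.hom) := inferInstance
  haveI : Flat (pullback.snd p U.hom) := inferInstance
  haveI : QuasiCompact (pullback.snd p U.hom) := inferInstance
  haveI : EffectiveEpi (pullback.snd p U.hom) := inferInstance
  let f : pullback p U.hom ⟶ pullback p U'.hom := φ.hom.left
  have hf : f ≫ pullback.fst p U'.hom = pullback.fst p U.hom := Over.w φ.hom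
  have hco : ∀ {T : Scheme.{u}} (a b : T ⟶ pullback p U.hom), a ≫ pullback.snd p U.hom = b ≫ pullback.snd p U.hom →
      a ≫ f ≫ pullback.snd p U'.hom = b ≫ f ≫ pullback.snd p U'.hom := by
    intro T a b hab
    have hp : (a ≫ pullback.fst p U.hom) ≫ p = (b ≫ pullback.fst p U.hom) ≫ p := by
      simp only [Category.assoc, pullback.condition]
      rw [reassoc_of% hab]
    let v : Desc.Lifts ((Desc.toDD p).obj U).obj (a ≫ pullback.fst p U.hom) := ⟨a, rfl⟩
    let w : Desc.Lifts ((Desc.toDD p).obj U').obj (a ≫ pullback.fst p U.hom) :=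
      ⟨a ≫ f, (Category.assoc _ _ _).trans (congrArg (a ≫ ·) hf)⟩
    have h := φ.comm (a ≫ pullback.fst p U.hom) (b ≫ pullback.fst p U.hom) hp v w rfl
    have hb : (((Desc.toDD p).obj U).φ (a ≫ pullback.fst p U.hom) (b ≫ pullback.fst p U.hom) hp v).1 = b :=
      pullback.hom_ext (pullback.lift_fst _ _ _) ((pullback.lift_snd _ _ _).trans hab)
    rw [hb] at h
    exact (Category.assoc _ _ _).symm.trans ((pullback.lift_snd (f := p) (g := U'.hom) _ _ _).symm.trans
      ((congrArg (· ≫ pullback.snd p U'.hom) h).trans (Category.assoc _ _ _)))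
  let g := EffectiveEpi.desc (pullback.snd p U.hom) (f ≫ pullback.snd p U'.hom) hco
  have hg : pullback.snd p U.hom ≫ g = f ≫ pullback.snd p U'.hom := EffectiveEpi.fac _ _ hco
  have hgw : g ≫ U'.hom = U.hom := by
    rw [← cancel_epi (pullback.snd p U.hom), reassoc_of% hg, ← pullback.condition, ← pullback.condition,
      reassoc_of% hf]
  refine ⟨Over.homMk g hgw, ?_⟩
  refine Desc.SchDD.hom_ext (Over.OverMorphism.ext ?_)
  refine pullback.hom_ext (f := p) (g := U'.hom) ?_ ?_
  · exact (pullback.lift_fst _ _ _).trans ((Category.comp_id _).trans hf.symm)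
  · exact (pullback.lift_snd _ _ _).trans hg

end Groth.Agent.S1131
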