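import Groth.Statements.S14437
import Mathlib

set_option autoImplicit false
universe u
open CAlg

namespace Groth.Agent.S14437
open IsLocalRing TensorProduct
set_option backward.isDefEq.respectTransparency.types false

/-- Let k be a field and A → B a local homomorphism of Noetherian local k-algebras with residue fields k
(k → A/m_A and k → B/m_B bijective) — for instance the local rings at a closed point x and at its
image y under a morphism of schemes of finite type over an algebraically closed k. Then dim_k
(Ω_{B/A} ⊗_B B/m_B) + rank(m_A/m_A² → m_B/m_B²) = dim_k (m_B/m_B²): the fibre at x of the sheaf of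
relative differentials is dual to the kernel of the tangent map T_x X → T_y Y. (The published
statement is the canonical isomorphism (Ω_{X/Y})_(x)^∨ ≅ ker(df_x); stated here as the resulting
equality of dimensions. Its second assertion, dim (Ω_{X/Y})_(x) ≥ r when the fibre has an
r-dimensional component through x, is not included.) -/
theorem result (k : Type u) [Field k]
    (A B : Type u) [CommRing A] [CommRing B] [IsLocalRing A] [IsLocalRing B] [IsNoetherianRing A] [IsNoetherianRing B]
    [Algebra k A] [Algebra k B] [Algebra A B] [IsScalarTower k A B]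
    (hle : IsLocalRing.maximalIdeal A ≤ Ideal.comap (IsScalarTower.toAlgHom k A B) (IsLocalRing.maximalIdeal B))
    (hA : Function.Bijective (algebraMap k (IsLocalRing.ResidueField A)))
    (hB : Function.Bijective (algebraMap k (IsLocalRing.ResidueField B))) :
    Module.finrank (IsLocalRing.ResidueField B) (TensorProduct B (IsLocalRing.ResidueField B) (Ω[B⁄A])) +
      Module.finrank k ↥(LinearMap.range (Ideal.mapCotangent (IsLocalRing.maximalIdeal A) (IsLocalRing.maximalIdeal B)
        (IsScalarTower.toAlgHom k A B) hle)) =
      Module.finrank k (IsLocalRing.CotangentSpace B) := by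
  let φ := IsScalarTower.toAlgHom k A B
  let m := maximalIdeal B
  let eB := RingEquiv.ofBijective _ hB
  let eA := RingEquiv.ofBijective _ hA
  let ε : B →+* k := eB.symm.toRingHom.comp (residue B)
  have hε : ∀ b, b - algebraMap k B (ε b) ∈ m := by
    intro b
    rw [← residue_eq_zero_iff, map_sub, sub_eq_zero]
    exact (eB.apply_symm_apply (residue B b)).symm
  have hεc : ∀ c, ε (algebraMap k B c) = c := fun c => eB.symm_apply_apply c
  have hεm : ∀ x ∈ m, ε x = 0 := fun x hx => by
    show eB.symm (residue B x) = 0
    rw [(residue_eq_zero_iff x).mpr hx, map_zero]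
  have hεA : ∀ a : A, ∃ c : k, a - algebraMap k A c ∈ maximalIdeal A ∧ ε (algebraMap A B a) = c := by
    intro a
    refine ⟨eA.symm (residue A a), ?_, ?_⟩
    · rw [← residue_eq_zero_iff, map_sub, sub_eq_zero]; exact (eA.apply_symm_apply (residue A a)).symm
    · have hmem : a - algebraMap k A (eA.symm (residue A a)) ∈ maximalIdeal A := by
        rw [← residue_eq_zero_iff, map_sub, sub_eq_zero]; exact (eA.apply_symm_apply (residue A a)).symm
      have h0 := hεm (algebraMap A B (a - algebraMap k A (eA.symm (residue A a)))) (hle hmem)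
      rw [map_sub, ← IsScalarTower.algebraMap_apply, map_sub, hεc, sub_eq_zero] at h0
      exact h0
  -- the map cotangent → residue ⊗ Ω
  let θ0 : m →ₗ[B] (IsLocalRing.ResidueField B ⊗[B] Ω[B⁄A]) :=
    { toFun := fun x => (1 : IsLocalRing.ResidueField B) ⊗ₜ[B] KaehlerDifferential.D A B (x : B)
      map_add' := fun x y => by simp [tmul_add]
      map_smul' := fun b x => by
        simp only [RingHom.id_apply, Submodule.coe_smul, smul_eq_mul, Derivation.leibniz, tmul_add, tmul_smul]
        have : (x : B) • ((1 : IsLocalRing.ResidueField B) ⊗ₜ[B] KaehlerDifferential.D A B b) = 0 := by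
          rw [smul_tmul', Algebra.smul_def, mul_one, show algebraMap B (IsLocalRing.ResidueField B) (x : B) = 0 from (residue_eq_zero_iff _).mpr x.2, zero_tmul]
        rw [this, add_zero] }
  let θ : CotangentSpace B →ₗ[k] (IsLocalRing.ResidueField B ⊗[B] Ω[B⁄A]) :=
    (Submodule.liftQ (m • ⊤ : Submodule B m) θ0 (Submodule.smul_le.mpr fun r hr x _ => by
      rw [LinearMap.mem_ker, map_smul]
      show r • ((1 : IsLocalRing.ResidueField B) ⊗ₜ[B] KaehlerDifferential.D A B (x : B)) = 0
      rw [smul_tmul', Algebra.smul_def, mul_one, show algebraMap B (IsLocalRing.ResidueField B) r = 0 from (residue_eq_zero_iff _).mpr hr, zero_tmul])).restrictScalars k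
  have hθ : ∀ x : m, θ (m.toCotangent x) = (1 : IsLocalRing.ResidueField B) ⊗ₜ[B] KaehlerDifferential.D A B (x : B) := fun x => rfl
  have hDk : ∀ c : k, KaehlerDifferential.D A B (algebraMap k B c) = 0 := fun c => by
    rw [IsScalarTower.algebraMap_apply k A B, Derivation.map_algebraMap]
  have hsurj : Function.Surjective θ := by
    intro z
    induction z using TensorProduct.induction_on with
    | zero => exact ⟨0, map_zero θ⟩
    | add a b ha hb => obtain ⟨a', rfl⟩ := ha; obtain ⟨b', rfl⟩ := hb; exact ⟨a' + b', map_add θ a' b'⟩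
    | tmul r w =>
      obtain ⟨b, rfl⟩ := IsLocalRing.residue_surjective r
      rw [show (residue B b) ⊗ₜ[B] w = (1 : IsLocalRing.ResidueField B) ⊗ₜ[B] (b • w) by
        rw [tmul_smul, smul_tmul', Algebra.smul_def, mul_one]; rfl]
      have hw : b • w ∈ Submodule.span B (Set.range (KaehlerDifferential.D A B)) := by
        rw [KaehlerDifferential.span_range_derivation]; trivial
      clear_value θ
      generalize b • w = z at hw ⊢
      induction hw using Submodule.span_induction with
      | mem w hw =>
        obtain ⟨y, rfl⟩ := hw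
        refine ⟨m.toCotangent ⟨_, hε y⟩, ?_⟩
        rw [hθ, map_sub, hDk, sub_zero]
      | zero => exact ⟨0, by rw [map_zero, tmul_zero]⟩
      | add a c _ _ ha hc => obtain ⟨a', ha⟩ := ha; obtain ⟨c', hc⟩ := hc; exact ⟨a' + c', by rw [map_add, ha, hc, tmul_add]⟩
      | smul s a _ ha =>
        obtain ⟨a', ha⟩ := ha
        refine ⟨ε s • a', ?_⟩
        rw [map_smul, ha, ← algebraMap_smul B (ε s), tmul_smul]
        rw [← sub_eq_zero, ← sub_smul, smul_tmul', Algebra.smul_def, mul_one,
          show algebraMap B (IsLocalRing.ResidueField B) (algebraMap k B (ε s) - s) = 0 from (residue_eq_zero_iff _).mpr (by rw [← neg_sub]; exact m.neg_mem (hε s)), zero_tmul]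
  let Wk := LinearMap.range (Ideal.mapCotangent (maximalIdeal A) (maximalIdeal B) φ hle)
  have hscal : ∀ (b : B) (v : CotangentSpace B), b • v = ε b • v := by
    intro b v
    obtain ⟨x, rfl⟩ := m.toCotangent_surjective v
    rw [← algebraMap_smul B (ε b), ← map_smul, ← map_smul, Ideal.toCotangent_eq, pow_two]
    simp only [Submodule.coe_smul, smul_eq_mul, ← sub_mul]
    exact Ideal.mul_mem_mul (hε b) x.2
  let W : Submodule B (CotangentSpace B) :=
    { Wk.toAddSubmonoid with
      smul_mem' := fun b v hv => by
        show b • v ∈ Wk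
        rw [hscal]; exact Wk.smul_mem _ hv }
  have hVm : ∀ x ∈ m, ∀ v : CotangentSpace B ⧸ W, x • v = 0 := by
    intro x hx v
    obtain ⟨v, rfl⟩ := W.mkQ_surjective v
    rw [← map_smul, hscal, hεm x hx, zero_smul, map_zero]
  let δl : B → CotangentSpace B ⧸ W := fun b => W.mkQ (m.toCotangent ⟨_, hε b⟩)
  have hδadd : ∀ a b, δl (a + b) = δl a + δl b := by
    intro a b
    simp only [δl, ← map_add]
    congr 2
    ext
    simp only [Submodule.coe_add, map_add]; ring
  have hδmul : ∀ a b, δl (a * b) = a • δl b + b • δl a := by
    intro a b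
    simp only [δl, ← map_smul, hscal, ← map_add]
    congr 1
    simp only [← algebraMap_smul B (ε a), ← algebraMap_smul B (ε b), ← map_smul, ← map_add]
    rw [Ideal.toCotangent_eq, pow_two]
    simp only [Submodule.coe_smul, smul_eq_mul, Submodule.coe_add, map_mul]
    have := Ideal.mul_mem_mul (hε a) (hε b)
    convert this using 1
    ring
  have hδA : ∀ a : A, δl (algebraMap A B a) = 0 := by
    intro a
    obtain ⟨c, hc, hc'⟩ := hεA a
    simp only [δl, Submodule.mkQ_apply, Submodule.Quotient.mk_eq_zero]
    show _ ∈ Wk
    refine ⟨(maximalIdeal A).toCotangent ⟨_, hc⟩, ?_⟩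
    rw [Ideal.mapCotangent_toCotangent]
    congr 1
    ext
    show algebraMap A B (a - algebraMap k A c) = _
    simp only [map_sub, ← IsScalarTower.algebraMap_apply, hc']
  let δ : Derivation A B (CotangentSpace B ⧸ W) := Derivation.mk'
    { toFun := δl, map_add' := hδadd
      map_smul' := fun a b => by
        rw [Algebra.smul_def, hδmul, hδA, smul_zero, add_zero, algebraMap_smul]; rfl }
    hδmul
  have hker : LinearMap.ker θ = Wk := by
    apply le_antisymm
    · intro v hv
      obtain ⟨x, rfl⟩ := m.toCotangent_surjective v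
      rw [LinearMap.mem_ker, hθ] at hv
      have hD : KaehlerDifferential.D A B (x : B) ∈ (m • ⊤ : Submodule B (Ω[B⁄A])) := by
        have : TensorProduct.quotTensorEquivQuotSMul (Ω[B⁄A]) m ((1 : B ⧸ m) ⊗ₜ[B] KaehlerDifferential.D A B (x : B)) = 0 := by
          rw [show ((1 : B ⧸ m) ⊗ₜ[B] KaehlerDifferential.D A B (x : B)) = 0 from hv]; exact LinearEquiv.map_zero _
        exact (Submodule.Quotient.mk_eq_zero _).mp (by
          rw [← this]
          exact (congrArg Submodule.Quotient.mk (one_smul B _).symm).trans (TensorProduct.quotTensorEquivQuotSMul_mk_tmul m 1 _).symm)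
      have h0 : δ.liftKaehlerDifferential (KaehlerDifferential.D A B (x : B)) = 0 := by
        clear_value δ
        refine Submodule.smul_induction_on hD (fun r hr w _ => by rw [map_smul, hVm r hr]) (fun a b ha hb => by rw [map_add, ha, hb, add_zero])
      rw [Derivation.liftKaehlerDifferential_comp_D] at h0
      have h1 : W.mkQ (m.toCotangent x) = 0 := by
        rw [← h0]
        show _ = W.mkQ (m.toCotangent ⟨_, hε x⟩)
        congr 2
        ext
        simp [hεm _ x.2]
      exact (Submodule.Quotient.mk_eq_zero W).mp h1
    · rintro _ ⟨v, rfl⟩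
      obtain ⟨y, rfl⟩ := (maximalIdeal A).toCotangent_surjective v
      rw [LinearMap.mem_ker, Ideal.mapCotangent_toCotangent, hθ]
      show (1 : IsLocalRing.ResidueField B) ⊗ₜ[B] KaehlerDifferential.D A B (algebraMap A B y) = 0
      rw [Derivation.map_algebraMap, tmul_zero]
  haveI : Module.Finite k (IsLocalRing.ResidueField B) := Module.Finite.of_surjective (Algebra.linearMap k (IsLocalRing.ResidueField B)) hB.2
  haveI : IsScalarTower k (IsLocalRing.ResidueField B) (CotangentSpace B) := IsScalarTower.of_algebraMap_smul fun c v => by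
    rw [IsScalarTower.algebraMap_apply k B (IsLocalRing.ResidueField B), algebraMap_smul, algebraMap_smul]
  haveI : Module.Finite k (CotangentSpace B) := Module.Finite.trans (IsLocalRing.ResidueField B) _
  have h1 := LinearMap.finrank_range_add_finrank_ker θ
  rw [LinearMap.range_eq_top.mpr hsurj, finrank_top, hker] at h1
  have h2 : Module.finrank k (IsLocalRing.ResidueField B) = 1 :=
    (LinearEquiv.ofBijective (Algebra.linearMap k (IsLocalRing.ResidueField B)) hB).finrank_eq.symm.trans (Module.finrank_self k)
  rw [← Module.finrank_mul_finrank k (IsLocalRing.ResidueField B) (IsLocalRing.ResidueField B ⊗[B] Ω[B⁄A]), h2, one_mul] at h1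
  exact h1

end Groth.Agent.S14437
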