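import Groth.Statements.S11311
import Mathlib
import Groth.Agent.Lib.H2SmoothRegular
import Groth.Agent.Lib.H2PerfectSmooth
import Groth.Agent.S14437

set_option autoImplicit false
universe u
open CAlg

namespace Groth.Agent.S11311
open TensorProduct IsLocalRing
set_option backward.isDefEq.respectTransparency.types false

/-- Let k be a field and B a local ring containing k whose residue field is k (the composite k → B → B/m
is bijective), and which is a localization of a finitely generated k-algebra (essentially of finite
type over k); let d = dim B. If the module of differentials Ω_{B/k} is free of rank d then B is a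
regular local ring. Conversely, if k is perfect and B is a regular local ring, then Ω_{B/k} is free
of rank d. (The published statement assumes k perfect as one of its hypotheses and asserts the
equivalence; its proof of the first implication does not use perfectness, so that hypothesis is
placed on the converse only.) -/
theorem result (k B : Type u) [Field k] [CommRing B] [Algebra k B]
    [IsLocalRing B] [Algebra.EssFiniteType k B]
    (hres : Function.Bijective (algebraMap k (IsLocalRing.ResidueField B)))
    (d : ℕ) (hd : ringKrullDim B = (d : WithBot ℕ∞)) :
    ((Module.Free B (KaehlerDifferential k B) ∧ Module.finrank B (KaehlerDifferential k B) = d) →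
        IsRegularLocalRing B) ∧
      (PerfectField k → IsRegularLocalRing B →
        Module.Free B (KaehlerDifferential k B) ∧ Module.finrank B (KaehlerDifferential k B) = d) := by
  haveI : IsNoetherianRing B := Algebra.EssFiniteType.isNoetherianRing k B
  have hmk : maximalIdeal k = ⊥ := IsLocalRing.isField_iff_maximalIdeal_eq.1 (Field.toIsField k)
  have hk : Function.Bijective (algebraMap k (ResidueField k)) :=
    ⟨(algebraMap k (ResidueField k)).injective, residue_surjective⟩
  have hmain := Groth.Agent.S14437.result k k B (by rw [hmk]; exact bot_le) hk hres
  have hzero : ∀ l, Module.finrank k ↥(LinearMap.range (Ideal.mapCotangent (maximalIdeal k) (maximalIdeal B) (IsScalarTower.toAlgHom k k B) l)) = 0 := fun l => by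
    haveI : Subsingleton ↥(LinearMap.range (Ideal.mapCotangent (maximalIdeal k) (maximalIdeal B) (IsScalarTower.toAlgHom k k B) l)) := by
      refine ⟨fun a b => Subtype.ext ?_⟩
      have key : ∀ z ∈ LinearMap.range (Ideal.mapCotangent (maximalIdeal k) (maximalIdeal B) (IsScalarTower.toAlgHom k k B) l), z = 0 := by
        rintro _ ⟨w, rfl⟩
        obtain ⟨⟨x, hx⟩, rfl⟩ := Ideal.toCotangent_surjective _ w
        have hx0 : (⟨x, hx⟩ : maximalIdeal k) = 0 := Subtype.ext (by rw [hmk] at hx; exact hx)
        rw [hx0, map_zero, map_zero]
      rw [key _ a.2, key _ b.2]
    exact Module.finrank_zero_of_subsingleton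
  rw [hzero, add_zero] at hmain
  have hcot : Module.finrank k (CotangentSpace B) = Module.finrank (ResidueField B) (CotangentSpace B) := by
    have h1 : Module.finrank k (ResidueField B) = 1 := by
      rw [← (AlgEquiv.ofBijective (Algebra.ofId k (ResidueField B)) hres).toLinearEquiv.finrank_eq, Module.finrank_self]
    haveI : IsScalarTower k (ResidueField B) (CotangentSpace B) := ⟨fun c r x => by
      obtain ⟨r, rfl⟩ := residue_surjective r
      show residue B (c • r) • x = c • (r • x)
      exact smul_assoc c r x⟩
    rw [← Module.finrank_mul_finrank k (ResidueField B) (CotangentSpace B), h1, one_mul]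
  have hfr : Module.Free B (KaehlerDifferential k B) →
      Module.finrank (ResidueField B) (ResidueField B ⊗[B] KaehlerDifferential k B) = Module.finrank B (KaehlerDifferential k B) :=
    fun h => Module.finrank_baseChange
  refine ⟨fun ⟨hf, hr⟩ => ?_, fun hp hreg => ?_⟩
  · refine (IsRegularLocalRing.iff_finrank_cotangentSpace B).2 ?_
    rw [hd, ← hcot, ← hmain, hfr hf, hr]
  · haveI := hp
    haveI : Algebra.FormallySmooth k (ResidueField B) := Groth.Agent.H2PerfectSmooth.formallySmooth k _
    haveI : Algebra.FormallySmooth k B := Groth.Agent.H2SmoothRegular.formallySmooth_iff_regular.2 hreg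
    haveI : Module.Free B (KaehlerDifferential k B) := Module.free_of_flat_of_isLocalRing
    refine ⟨inferInstance, ?_⟩
    have h1 := (IsRegularLocalRing.iff_finrank_cotangentSpace B).1 hreg
    rw [hd, ← hcot, ← hmain, hfr inferInstance] at h1
    exact_mod_cast h1

end Groth.Agent.S11311
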