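import Groth.Statements.S11395
import Mathlib
import Groth.Agent.Lib.H8Rigidity2

set_option autoImplicit false
universe u
open CategoryTheory MonoidalCategory CartesianMonoidalCategory MonObj GrpObj AlgebraicGeometry CategoryTheory.Limits
open AlgGrp

namespace Groth.Agent.S11395

/-- Over an algebraically closed field k, let X, Y and Z be k-schemes of finite type such that the only
global functions on X are the constants, Y is connected and Z is separated over k. Let f : X × Y → Z
be a k-morphism and y₀, z₀ rational points of Y, Z such that the restriction of f to X × y₀ is the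
constant morphism with value z₀ (as a morphism of schemes; for reduced X this is the condition on
closed points). Then there is a unique morphism g : Y → Z with f = g ∘ pr₂. -/
theorem result (k : Type u) [Field k] [IsAlgClosed k]
    (X Y Z : Over (Spec (CommRingCat.of k))) [LocallyOfFiniteType X.hom] [QuasiCompact X.hom]
    [LocallyOfFiniteType Y.hom] [QuasiCompact Y.hom] [LocallyOfFiniteType Z.hom] [QuasiCompact Z.hom]
    (hX : Function.Bijective ((Scheme.ΓSpecIso (CommRingCat.of k)).inv ≫ X.hom.appTop).hom)
    [ConnectedSpace ↥Y.left] [IsSeparated Z.hom]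
    (f : X ⊗ Y ⟶ Z) (y₀ : 𝟙_ (Over (Spec (CommRingCat.of k))) ⟶ Y) (z₀ : 𝟙_ (Over (Spec (CommRingCat.of k))) ⟶ Z)
    (hf : (X ◁ y₀) ≫ f = toUnit _ ≫ z₀) :
    ∃! g : Y ⟶ Z, f = snd X Y ≫ g := by
  haveI : CompactSpace X.left := HasAffineProperty.iff_of_isAffine.mp ‹QuasiCompact X.hom›
  haveI : CompactSpace Y.left := HasAffineProperty.iff_of_isAffine.mp ‹QuasiCompact Y.hom›
  haveI := H8AntiAffineSmooth.isIso_appTop hX
  haveI := LocallyOfFiniteType.jacobsonSpace X.hom
  haveI : Nonempty X.left :=
    (H8AntiAffine.connectedSpace X.left H8AntiAffineSmooth.isField_appTop).toNonempty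
  obtain ⟨p, -, hp⟩ := nonempty_inter_closedPoints (Set.univ_nonempty (α := X.left))
    isOpen_univ.isLocallyClosed
  let x := H8Rigidity2.closedPt X p hp
  refine ⟨lift (toUnit Y ≫ x) (𝟙 Y) ≫ f, H8Rigidity2.rigidity_connected x y₀ f z₀ hf, ?_⟩
  rintro g rfl
  simp

end Groth.Agent.S11395
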