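import Groth.Statements.S11411
import Mathlib
import Groth.Agent.Lib.H8AffKernel
import Groth.Agent.Lib.H8AntiAffine2

set_option autoImplicit false
universe u
open CategoryTheory MonoidalCategory CartesianMonoidalCategory MonObj GrpObj AlgebraicGeometry CategoryTheory.Limits
open AlgGrp

namespace Groth.Agent.S11411
open CategoryTheory.Limits

/-- Over an algebraically closed field k, let G be an algebraic group (a smooth k-group scheme of finite
type) and N the kernel of the canonical morphism ρ : G → Spec O(G), i.e. the fibre of ρ over the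
image of the unit. Then N is the smallest normal subgroup scheme of G with affine quotient: for
every closed normal subgroup scheme H of G with a flat surjective homomorphism G → Q of k-group
schemes of finite type with kernel H and Q affine, the inclusion of N factors through H. And N is
the largest anti-affine subgroup scheme: every homomorphism and closed immersion into G from a
k-group scheme whose only global functions are the constants factors through N. (The published
statement also asserts O(N) = k, that N is a connected algebraic group central in G⁰, and O(G/N) =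
O(G) finitely generated; those parts are not restated here.) -/
theorem result (k : Type u) [Field k] [IsAlgClosed k]
    (G : Over (Spec (CommRingCat.of k))) [GrpObj G] [Smooth G.hom] [QuasiCompact G.hom] :
    (∀ (H Q : Over (Spec (CommRingCat.of k))) [GrpObj H] [GrpObj Q] (h : H ⟶ G) [IsMonHom h] [IsClosedImmersion h.left]
        [LocallyOfFiniteType Q.hom] [QuasiCompact Q.hom] (q : G ⟶ Q) [IsMonHom q] [Surjective q.left] [Flat q.left],
        AlgGrp.IsKernel h q → IsAffine Q.left →
        ∃ f : pullback G.left.toSpecΓ (η[G].left ≫ G.left.toSpecΓ) ⟶ H.left, f ≫ h.left = pullback.fst G.left.toSpecΓ (η[G].left ≫ G.left.toSpecΓ)) ∧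
    (∀ (M : Over (Spec (CommRingCat.of k))) [GrpObj M] (j : M ⟶ G) [IsMonHom j] [IsClosedImmersion j.left],
        Function.Bijective ((Scheme.ΓSpecIso (CommRingCat.of k)).inv ≫ M.hom.appTop).hom →
        ∃ f : M.left ⟶ pullback G.left.toSpecΓ (η[G].left ≫ G.left.toSpecΓ), f ≫ pullback.fst G.left.toSpecΓ (η[G].left ≫ G.left.toSpecΓ) = j.left) := by
  haveI : CompactSpace G.left := HasAffineProperty.iff_of_isAffine.mp ‹QuasiCompact G.hom›
  haveI hN := (H8AffKernel.antiAffine G).1
  let N : Over (Spec (CommRingCat.of k)) :=
    Over.mk (pullback.snd G.left.toSpecΓ (η[G].left ≫ G.left.toSpecΓ) ≫ (𝟙_ (Over (Spec (CommRingCat.of k)))).hom)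
  haveI : IsIso N.hom.appTop := hN
  let i : N ⟶ G := Over.homMk (pullback.fst G.left.toSpecΓ (η[G].left ≫ G.left.toSpecΓ)) (by
    let A : Over (Spec (CommRingCat.of k)) :=
      Over.mk (Spec.map G.hom.appTop ≫ (Spec (CommRingCat.of k)).isoSpec.inv)
    have hA : G.left.toSpecΓ ≫ A.hom = G.hom := by
      show G.left.toSpecΓ ≫ Spec.map G.hom.appTop ≫ _ = G.hom
      rw [← Scheme.toSpecΓ_naturality_assoc]
      simp [Scheme.isoSpec]
    show _ ≫ G.hom = pullback.snd _ _ ≫ (𝟙_ (Over (Spec (CommRingCat.of k)))).hom
    rw [← Over.w η[G], ← hA, ← Category.assoc, ← Category.assoc]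
    exact congrArg (· ≫ A.hom)
      (pullback.condition (f := G.left.toSpecΓ) (g := η[G].left ≫ G.left.toSpecΓ)))
  refine ⟨fun H Q _ _ h _ _ _ _ q _ _ _ hker hQ => ?_, fun M _ j _ _ hM => ?_⟩
  · haveI := hQ
    let e : 𝟙_ (Over (Spec (CommRingCat.of k))) ⟶ N := Over.homMk
      (pullback.lift η[G].left (𝟙 _) (Category.id_comp _).symm) (by
        show _ ≫ pullback.snd _ _ ≫ _ = _
        rw [pullback.lift_snd_assoc, Category.id_comp])
    have he : e ≫ i = η[G] := Over.OverMorphism.ext (pullback.lift_fst _ _ _)
    have hiq : i ≫ q = toUnit N ≫ η[Q] := by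
      rw [H8AntiAffine2.eq_const (i ≫ q) e, reassoc_of% he, IsMonHom.one_hom]
    exact ⟨(hker.lift i (toUnit N) hiq).left, by
      rw [← Over.comp_left, IsPullback.lift_fst]; rfl⟩
  · haveI := H8AntiAffineSmooth.isIso_appTop hM
    let e : M.left ⟶ (𝟙_ (Over (Spec (CommRingCat.of k)))).left := M.hom
    refine ⟨pullback.lift j.left e ?_, pullback.lift_fst _ _ _⟩
    haveI : IsIso (toUnit M).left.appTop := by
      rw [show (toUnit M).left = M.hom from
        (Category.comp_id _).symm.trans (Over.w (toUnit M))]
      infer_instance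
    apply ext_of_isAffine
    have h1 : η[M].left.appTop = inv M.hom.appTop := by
      apply IsIso.eq_inv_of_hom_inv_id
      rw [← Scheme.Hom.comp_appTop, Over.w η[M]]
      exact Scheme.Hom.id_appTop
    rw [← IsMonHom.one_hom (f := j), Over.comp_left]
    simp only [Scheme.Hom.comp_appTop, Category.assoc, e, h1, IsIso.inv_hom_id, Category.comp_id]

end Groth.Agent.S11411
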