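import Groth.Statements.S11421
import Mathlib
import Groth.Agent.Lib.H8Rigidity2
import Groth.Agent.Lib.H8AntiAffine

set_option autoImplicit false
universe u
open CategoryTheory MonoidalCategory CartesianMonoidalCategory MonObj GrpObj AlgebraicGeometry CategoryTheory.Limits
open AlgGrp

namespace Groth.Agent.S11421

/-- Over an algebraically closed field k, let G be an algebraic group (smooth k-group scheme of finite
type) whose only global functions are the constants, H a connected algebraic group, S a connected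
k-scheme of finite type and f : G × S → H a morphism of k-schemes. Then there are a unique
k-morphism φ : S → H and a unique homomorphism ψ : G → H with f(g, s) = φ(s) · ψ(g) on points. (This
is the decomposition, over a connected base, behind the identification of the functor of morphisms
from G to H with H × Hom_gp(G, H); the published statement is the equivalence of representability of
that functor with anti-affineness of G, whose converse direction is not stated here.) -/
theorem result (k : Type u) [Field k] [IsAlgClosed k]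
    (G H S : Over (Spec (CommRingCat.of k))) [GrpObj G] [Smooth G.hom] [QuasiCompact G.hom]
    (hG : Function.Bijective ((Scheme.ΓSpecIso (CommRingCat.of k)).inv ≫ G.hom.appTop).hom)
    [GrpObj H] [Smooth H.hom] [QuasiCompact H.hom] [ConnectedSpace ↥H.left]
    [LocallyOfFiniteType S.hom] [QuasiCompact S.hom] [ConnectedSpace ↥S.left]
    (f : G ⊗ S ⟶ H) :
    ∃ (φ : S ⟶ H) (ψ : G ⟶ H), IsMonHom ψ ∧ f = (snd G S ≫ φ) * (fst G S ≫ ψ) ∧
      ∀ (φ' : S ⟶ H) (ψ' : G ⟶ H), IsMonHom ψ' → f = (snd G S ≫ φ') * (fst G S ≫ ψ') → φ' = φ ∧ ψ' = ψ := by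
  haveI : CompactSpace G.left := HasAffineProperty.iff_of_isAffine.mp ‹QuasiCompact G.hom›
  haveI : CompactSpace S.left := HasAffineProperty.iff_of_isAffine.mp ‹QuasiCompact S.hom›
  haveI : LocallyOfFiniteType G.hom := inferInstance
  haveI : LocallyOfFiniteType H.hom := inferInstance
  haveI := H8AntiAffineSmooth.isIso_appTop hG
  haveI := H8AntiAffine.isSeparated H
  haveI := LocallyOfFiniteType.jacobsonSpace S.hom
  obtain ⟨p, -, hp⟩ := nonempty_inter_closedPoints (Set.univ_nonempty (α := S.left))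
    isOpen_univ.isLocallyClosed
  let s₀ := H8Rigidity2.closedPt S p hp
  let φ : S ⟶ H := lift (toUnit S ≫ η[G]) (𝟙 S) ≫ f
  let h : G ⊗ S ⟶ H := (snd G S ≫ φ)⁻¹ * f
  let ψ : G ⟶ H := lift (𝟙 G) (toUnit G ≫ s₀) ≫ h
  have hone : ∀ {T U : Over (Spec (CommRingCat.of k))} (a : T ⟶ U), a ≫ (1 : U ⟶ H) = 1 :=
    fun {T U} a => MonObj.comp_one a
  have hψ : η[G] ≫ ψ = η[H] := by
    have e1 : η[G] ≫ lift (𝟙 G) (toUnit G ≫ s₀) = s₀ ≫ lift (toUnit S ≫ η[G]) (𝟙 S) := by
      apply CartesianMonoidalCategory.hom_ext <;> simp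
    show η[G] ≫ lift (𝟙 G) (toUnit G ≫ s₀) ≫ h = η[H]
    rw [reassoc_of% e1, show lift (toUnit S ≫ η[G]) (𝟙 S) ≫ h = 1 by
      simp only [h, MonObj.comp_mul, GrpObj.comp_inv, lift_snd_assoc, Category.id_comp]
      exact inv_mul_cancel _, hone, Hom.one_def, toUnit_unit, Category.id_comp]
  haveI := H8AntiAffine.isMonHom G H ψ hψ
  have hh : h = fst G S ≫ ψ := by
    have hax : (G ◁ s₀) ≫ ((fst G S ≫ ψ)⁻¹ * h) =
        toUnit _ ≫ (1 : 𝟙_ (Over (Spec (CommRingCat.of k))) ⟶ H) := by
      have e2 : fst G (𝟙_ (Over (Spec (CommRingCat.of k)))) ≫ lift (𝟙 G) (toUnit G ≫ s₀) =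
          G ◁ s₀ := by
        apply CartesianMonoidalCategory.hom_ext
        · simp
        · simp [toUnit_unique (snd G (𝟙_ (Over (Spec (CommRingCat.of k))))) (toUnit _)]
      rw [hone, MonObj.comp_mul, GrpObj.comp_inv, whiskerLeft_fst_assoc,
        show fst G (𝟙_ (Over (Spec (CommRingCat.of k)))) ≫ ψ = (G ◁ s₀) ≫ h by
          simp only [ψ]; rw [reassoc_of% e2], inv_mul_cancel]
    have := H8Rigidity2.rigidity_connected (η[G]) s₀ ((fst G S ≫ ψ)⁻¹ * h) 1 hax
    rw [show lift (toUnit S ≫ η[G]) (𝟙 S) ≫ ((fst G S ≫ ψ)⁻¹ * h) = 1 by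
      simp only [h, MonObj.comp_mul, GrpObj.comp_inv, lift_snd_assoc, lift_fst_assoc,
        Category.id_comp, Category.assoc, IsMonHom.one_hom]
      rw [← Hom.one_def, inv_one, _root_.one_mul]
      exact inv_mul_cancel _, hone] at this
    exact (inv_mul_eq_one.mp this).symm
  refine ⟨φ, ψ, inferInstance, by rw [← hh]; simp [h], fun φ' ψ' hψ' e => ?_⟩
  haveI := hψ'
  have hφ : φ' = φ := by
    simp only [φ, e, MonObj.comp_mul, lift_snd_assoc, lift_fst_assoc, Category.id_comp,
      Category.assoc, IsMonHom.one_hom]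
    rw [← Hom.one_def, _root_.mul_one]
  refine ⟨hφ, ?_⟩
  have e3 : (snd G S ≫ φ) * (fst G S ≫ ψ') = (snd G S ≫ φ) * (fst G S ≫ ψ) := by
    rw [← hh]
    subst hφ
    rw [← e]
    simp [h]
  have e4 := congrArg (fun m => lift (𝟙 G) (toUnit G ≫ s₀) ≫ m) (mul_left_cancel e3)
  simpa using e4

end Groth.Agent.S11421
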