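import Groth.Statements.S11450
import Groth.Agent.Lib.H1TorRes
import Mathlib

set_option autoImplicit false
universe u
open CategoryTheory
open DefT

namespace Groth.Agent.S11450

open Groth.Agent.H1TorRes
open scoped TensorProduct

theorem inj_of_ex {A : Type u} [CommRing A] {M K L : Type u} [AddCommGroup M] [Module A M] [AddCommGroup K] [Module A K]
    [AddCommGroup L] [Module A L] {N : ModuleCat.{u} A} (P : ProjectiveResolution N) (hE : Ex (cd P.complex) M 1)
    (ι : K →ₗ[A] L) (g : L →ₗ[A] N) (hι : Function.Injective ι) (hg : Function.Surjective g)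
    (hex : Function.Exact ι g) : Function.Injective (ι.lTensor M) := by
  haveI : Module.Projective A (cF P.complex 0) := (IsProjective.iff_projective _).2 (P.projective 0)
  let π : cF P.complex 0 →ₗ[A] N := (P.π.f 0).hom
  have hπ : Function.Surjective π := (ModuleCat.epi_iff_surjective (P.π.f 0)).1 inferInstance
  have hπex : Function.Exact (cd P.complex 0) π := (ShortComplex.ShortExact.moduleCat_exact_iff_function_exact _).1 P.exact₀
  obtain ⟨φ, hφ⟩ := Module.projective_lifting_property g π hg
  have hφ' : ∀ y, g (φ y) = π y := fun y => congr($hφ y)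
  let d0 : cF P.complex 1 →ₗ[A] cF P.complex 0 := cd P.complex 0
  have hmem : ∀ y, -(φ (d0 y)) ∈ LinearMap.range ι := fun y =>
    (hex _).mp (by rw [map_neg, hφ', hπex.apply_apply_eq_zero, neg_zero])
  let κ : cF P.complex 1 →ₗ[A] K := (LinearEquiv.ofInjective ι hι).symm.toLinearMap.comp
    ((-(φ.comp d0)).codRestrict (LinearMap.range ι) hmem)
  have hκ : ∀ y, ι (κ y) = -(φ (d0 y)) := fun y =>
    congrArg Subtype.val ((LinearEquiv.ofInjective ι hι).apply_symm_apply ⟨_, hmem y⟩)
  have hκd : κ.comp (cd P.complex 1) = 0 := LinearMap.ext fun y => hι (by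
    show ι (κ (cd P.complex 1 y)) = ι 0
    rw [hκ, show d0 (cd P.complex 1 y) = 0 from congr($(cd_comp P.complex 0) y), map_zero, neg_zero, map_zero])
  have hseq : Function.Exact (κ.prod d0) (ι.coprod φ) := fun ⟨k, y⟩ => by
    constructor
    · intro h0
      have h0' : ι k + φ y = 0 := h0
      have : π y = 0 := by
        rw [← hφ', eq_neg_of_add_eq_zero_right h0', map_neg, hex.apply_apply_eq_zero, neg_zero]
      obtain ⟨z, hz⟩ := (hπex y).mp this
      have hk : κ z = k := hι (by rw [hκ, show d0 z = y from hz, eq_neg_of_add_eq_zero_left h0'])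
      exact ⟨z, Prod.ext hk hz⟩
    · rintro ⟨z, hz⟩
      rw [← hz]
      show ι (κ z) + φ (d0 z) = 0
      rw [hκ, neg_add_cancel]
  have hsurj : Function.Surjective (ι.coprod φ) := fun l => by
    obtain ⟨y, hy⟩ := hπ (g l)
    obtain ⟨k, hk⟩ := (hex (l - φ y)).mp (by rw [map_sub, hφ', hy, sub_self])
    exact ⟨(k, y), by show ι k + φ y = l; rw [hk, sub_add_cancel]⟩
  rw [injective_iff_map_eq_zero]
  intro x hx
  have h0 : (ι.coprod φ).lTensor M ((LinearMap.inl A K _).lTensor M x) = 0 := by
    rw [← LinearMap.lTensor_comp_apply, LinearMap.coprod_inl, hx]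
  obtain ⟨v, hv⟩ := (lTensor_exact M hseq hsurj _).mp h0
  have hd : d0.lTensor M v = 0 := by
    have := congrArg ((LinearMap.snd A K _).lTensor M) hv
    rwa [← LinearMap.lTensor_comp_apply, ← LinearMap.lTensor_comp_apply, LinearMap.snd_prod, LinearMap.snd_comp_inl,
      LinearMap.lTensor_zero, LinearMap.zero_apply] at this
  obtain ⟨w, hw⟩ := hE v hd
  have hx' : κ.lTensor M v = x := by
    have := congrArg ((LinearMap.fst A K _).lTensor M) hv
    rwa [← LinearMap.lTensor_comp_apply, ← LinearMap.lTensor_comp_apply, LinearMap.fst_prod, LinearMap.fst_comp_inl,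
      LinearMap.lTensor_id, LinearMap.id_apply] at this
  rw [← hx', ← hw, ← LinearMap.lTensor_comp_apply, hκd, LinearMap.lTensor_zero, LinearMap.zero_apply]

/-- A module M over a Noetherian commutative ring A is flat if and only if Tor_1^A(M, A/p) vanishes for
every prime ideal p of A. -/
theorem result (A : Type u) [CommRing A]
    [IsNoetherianRing A] (M : Type u) [AddCommGroup M] [Module A M] :
    Module.Flat A M ↔ ∀ p : Ideal A, p.IsPrime →
      Limits.IsZero (((CategoryTheory.Tor (ModuleCat.{u} A) 1).obj (ModuleCat.of A M)).obj (ModuleCat.of A (A ⧸ p))) := by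
  haveI hA : IsNoetherianRing A := inferInstance
  refine ⟨fun hM p _ => ?_, fun h => ?_⟩
  · let P : ProjectiveResolution (ModuleCat.of A (A ⧸ p)) := Classical.choice HasProjectiveResolution.out
    refine (isZero_tor_iff (ModuleCat.of A M) _ P 1).2 fun x hx => ?_
    exact (Module.Flat.lTensor_exact M ((ShortComplex.ShortExact.moduleCat_exact_iff_function_exact _).1 (P.exact_succ 0)) x).mp hx
  rw [Module.Flat.iff_lTensor_injective']
  intro J
  induction J using WellFoundedGT.induction with
  | ind J ih =>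
    by_cases hJ : J = ⊤
    · subst hJ
      exact (TensorProduct.congr (LinearEquiv.refl A M) Submodule.topEquiv).injective
    haveI : Nontrivial (A ⧸ J) := Ideal.Quotient.nontrivial_iff.mpr hJ
    obtain ⟨p, hp⟩ := associatedPrimes.nonempty A (A ⧸ J)
    obtain ⟨hpp, ψ, hψ⟩ := (isAssociatedPrime_iff_exists_injective_linearMap (M := A ⧸ J) (I := p)).mp hp
    let J' : Ideal A := (LinearMap.range ψ).comap J.mkQ
    have hle : J ≤ J' := fun x hx => by
      show J.mkQ x ∈ LinearMap.range ψ
      rw [show J.mkQ x = 0 from (Submodule.Quotient.mk_eq_zero _).mpr hx]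
      exact Submodule.zero_mem _
    obtain ⟨a, ha⟩ := Submodule.mkQ_surjective J (ψ 1)
    have haJ' : a ∈ J' := ⟨1, ha.symm⟩
    have haJ : a ∉ J := fun h0 => by
      have h1 : ψ 1 = 0 := ha ▸ (Submodule.Quotient.mk_eq_zero _).mpr h0
      have h10 : (1 : A ⧸ p) = 0 := hψ (h1.trans (map_zero ψ).symm)
      haveI := Ideal.Quotient.nontrivial_iff.mpr hpp.ne_top
      exact one_ne_zero h10
    have hJ' := ih J' (lt_of_le_of_ne hle fun e => haJ (e ▸ haJ'))
    let g : J' →ₗ[A] A ⧸ p := (LinearEquiv.ofInjective ψ hψ).symm.toLinearMap.comp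
      ((J.mkQ.comp J'.subtype).codRestrict (LinearMap.range ψ) fun x => x.2)
    have hg : Function.Surjective g := fun y => by
      obtain ⟨b, hb⟩ := Submodule.mkQ_surjective J (ψ y)
      refine ⟨⟨b, y, hb.symm⟩, (LinearEquiv.ofInjective ψ hψ).symm_apply_eq.mpr (Subtype.ext ?_)⟩
      exact hb
    have hex : Function.Exact (Submodule.inclusion hle) g := fun x => by
      have hg0 : g x = 0 ↔ J.mkQ x.1 = 0 := by
        simp only [g, LinearMap.comp_apply, LinearEquiv.coe_coe, LinearEquiv.map_eq_zero_iff, Subtype.ext_iff,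
          LinearMap.codRestrict_apply]
        rfl
      rw [hg0, Submodule.mkQ_apply, Submodule.Quotient.mk_eq_zero]
      exact ⟨fun hx => ⟨⟨x.1, hx⟩, rfl⟩, fun ⟨y, hy⟩ => hy ▸ y.2⟩
    let P : ProjectiveResolution (ModuleCat.of A (A ⧸ p)) := Classical.choice HasProjectiveResolution.out
    have h1 := inj_of_ex P ((isZero_tor_iff (ModuleCat.of A M) _ P 1).1 (h p hpp)) (Submodule.inclusion hle) g
      (Submodule.inclusion_injective hle) hg hex
    have he : (J.subtype : J →ₗ[A] A) = (J'.subtype).comp (Submodule.inclusion hle) := rfl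
    rw [he, LinearMap.lTensor_comp, LinearMap.coe_comp]
    exact hJ'.comp h1

end Groth.Agent.S11450
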