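import Groth.Statements.S1146
import Groth.Agent.Lib.H4SchTop
import Groth.Agent.Lib.AlgSpLocal

set_option autoImplicit false
open CategoryTheory CategoryTheory.Limits AlgebraicGeometry Opposite
universe u
open Desc

namespace Groth.Agent.S1146

/-- Let f : U ⟶ V be an etale morphism of schemes and u a point of U. Then the local dimension of U at u
(the infimum of the Krull dimensions of open neighbourhoods) equals the local dimension of V at
f(u). -/
theorem result {U V : Scheme.{u}} (f : U ⟶ V) [Etale f] (u : U) :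
    FlatMor.localDim U u = FlatMor.localDim V (f.base u) := by
  have key1 : ∀ {A B : Scheme.{u}} (g : A ⟶ B) [LocallyQuasiFinite g],
      topologicalKrullDim A ≤ topologicalKrullDim B := fun g _ =>
    Agent.H4SchTop.dim_le_of_fibre g.continuous fun x y hxy he =>
      (g.isDiscrete_preimage_singleton (g x)).eq_of_specializes hxy rfl he.symm
  have key2 : ∀ {A B : Scheme.{u}} (g : A ⟶ B) [Flat g], Function.Surjective g →
      topologicalKrullDim B ≤ topologicalKrullDim A := fun g _ hs =>
    Agent.H4SchTop.dim_le_of_generalizing hs fun x y hxy => Flat.generalizingMap g hxy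
  have hopen : IsOpenMap f := f.isOpenMap
  refine le_antisymm (le_iInf fun W => ?_) (le_iInf fun W => ?_)
  · refine iInf_le_of_le ⟨f ⁻¹ᵁ W.1, W.2⟩ ?_
    haveI : LocallyQuasiFinite f := Agent.ASp.locallyQuasiFinite_of_etale f
    exact key1 (f ∣_ W.1)
  · let V' : V.Opens := ⟨f '' (W.1 : Set U), hopen _ W.1.2⟩
    refine iInf_le_of_le ⟨V', ⟨u, W.2, rfl⟩⟩ ?_
    have hle : W.1 ≤ f ⁻¹ᵁ V' := fun z hz => ⟨z, hz, rfl⟩
    refine key2 (f.resLE V' W.1 hle) ?_
    rintro ⟨_, z, hz, rfl⟩
    refine ⟨⟨z, hz⟩, ?_⟩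
    apply V'.ι.isEmbedding.injective
    rw [← Scheme.Hom.comp_apply, Scheme.Hom.resLE_comp_ι]
    rfl

end Groth.Agent.S1146
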