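import Groth.Statements.S11470
import Mathlib
import Groth.Agent.Lib.H6.LambdaLine

set_option autoImplicit false
set_option backward.isDefEq.respectTransparency.types false
set_option maxHeartbeats 1000000
set_option linter.all false
universe u
open Curves

namespace Groth.Agent.S11470
open Groth.Agent

/-- The algebraic step of its proof: Fix an algebraically closed field k whose characteristic is neither
2 nor 3, let B ⊆ k(λ) be the k-subalgebra generated by λ, λ⁻¹ and (λ - 1)⁻¹ (the coordinate ring of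
the λ-line with 0 and 1 removed), and let σ and τ be the k-algebra automorphisms of k(λ) determined
by σ(λ) = λ⁻¹ and τ(λ) = 1 - λ (they generate the group of order six permuting λ, 1/λ, 1-λ, 1/(1-λ),
λ/(λ-1), (λ-1)/λ). Then the elements of B fixed by σ and τ are exactly the elements of the
k-subalgebra generated by j = 256 (λ² - λ + 1)³ / (λ² (λ - 1)²); in other words the ring of
invariants of B is the polynomial ring k[j]. -/
theorem result (k : Type u) [Field k] [IsAlgClosed k]
    (h2 : (2 : k) ≠ 0) (h3 : (3 : k) ≠ 0)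
    (σ τ : RatFunc k ≃ₐ[k] RatFunc k) (hσ : σ RatFunc.X = (RatFunc.X : RatFunc k)⁻¹)
    (hτ : τ RatFunc.X = 1 - (RatFunc.X : RatFunc k)) (b : RatFunc k) :
    (b ∈ Algebra.adjoin k ({RatFunc.X, (RatFunc.X : RatFunc k)⁻¹, ((RatFunc.X : RatFunc k) - 1)⁻¹} : Set (RatFunc k)) ∧
        σ b = b ∧ τ b = b) ↔
      b ∈ Algebra.adjoin k ({(256 : RatFunc k) * ((RatFunc.X : RatFunc k) ^ 2 - RatFunc.X + 1) ^ 3 /
        ((RatFunc.X : RatFunc k) ^ 2 * ((RatFunc.X : RatFunc k) - 1) ^ 2)} : Set (RatFunc k)) := by
    classical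
    set x : RatFunc k := RatFunc.X with hxdef
    have hx0 : x ≠ 0 := RatFunc.X_ne_zero
    have hx1 : x - 1 ≠ 0 := by
      have := (RatFunc.algebraMap_ne_zero (Polynomial.X_sub_C_ne_zero (1 : k)))
      rwa [map_sub, RatFunc.algebraMap_X, map_one, map_one] at this
    set j' : RatFunc k := (x ^ 2 - x + 1) ^ 3 / (x ^ 2 * (x - 1) ^ 2) with hj'
    have hj : H6.LambdaLine.φ (k := k) H6.LambdaLine.Q ^ 3 / H6.LambdaLine.φ H6.LambdaLine.D = j' := by
      simp only [H6.LambdaLine.Q, H6.LambdaLine.D, map_add, map_sub, map_mul, map_pow, map_one, RatFunc.algebraMap_X, hj']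
      rfl
    have h256 : (256 : k) ≠ 0 := by
      have : (256 : k) = 2 ^ 8 := by norm_num
      rw [this]; exact pow_ne_zero _ h2
    have hgen : (256 : RatFunc k) * (x ^ 2 - x + 1) ^ 3 / (x ^ 2 * (x - 1) ^ 2) = algebraMap k (RatFunc k) 256 * j' := by
      rw [map_ofNat, hj', mul_div_assoc]
    rw [hgen]
    have hspan : Algebra.adjoin k ({algebraMap k (RatFunc k) 256 * j'} : Set (RatFunc k)) = Algebra.adjoin k {j'} := by
      apply le_antisymm <;> refine Algebra.adjoin_le (Set.singleton_subset_iff.2 ?_)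
      · exact Subalgebra.mul_mem _ (Subalgebra.algebraMap_mem _ _) (Algebra.subset_adjoin (Set.mem_singleton _))
      · have h := Subalgebra.mul_mem _ (Subalgebra.algebraMap_mem (Algebra.adjoin k ({algebraMap k (RatFunc k) 256 * j'} : Set (RatFunc k))) (256 : k)⁻¹)
          (Algebra.subset_adjoin (Set.mem_singleton _))
        rwa [← mul_assoc, ← map_mul, inv_mul_cancel₀ h256, map_one, one_mul] at h
    rw [hspan]
    constructor
    · rintro ⟨hb, hσb, hτb⟩
      have hrep : ∃ (N : ℕ) (P : Polynomial k), b * H6.LambdaLine.φ H6.LambdaLine.D ^ N = H6.LambdaLine.φ P := by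
        clear hσb hτb
        induction hb using Algebra.adjoin_induction with
        | mem y hy =>
          rcases hy with rfl | rfl | rfl
          · exact ⟨0, Polynomial.X, by rw [pow_zero, mul_one, RatFunc.algebraMap_X]⟩
          · refine ⟨1, Polynomial.X * (Polynomial.X - 1) ^ 2, ?_⟩
            simp only [pow_one, H6.LambdaLine.D, map_mul, map_sub, map_pow, map_one, RatFunc.algebraMap_X]
            show x⁻¹ * (x ^ 2 * (x - 1) ^ 2) = x * (x - 1) ^ 2
            field_simp
          · refine ⟨1, Polynomial.X ^ 2 * (Polynomial.X - 1), ?_⟩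
            simp only [pow_one, H6.LambdaLine.D, map_mul, map_sub, map_pow, map_one, RatFunc.algebraMap_X]
            show (x - 1)⁻¹ * (x ^ 2 * (x - 1) ^ 2) = x ^ 2 * (x - 1)
            field_simp
        | algebraMap r =>
          exact ⟨0, Polynomial.C r, by rw [pow_zero, mul_one]; exact IsScalarTower.algebraMap_apply k (Polynomial k) (RatFunc k) r⟩
        | add y z _ _ hy hz =>
          obtain ⟨N, P, hP⟩ := hy
          obtain ⟨M, R, hR⟩ := hz
          exact ⟨N + M, P * H6.LambdaLine.D ^ M + R * H6.LambdaLine.D ^ N, by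
            rw [map_add, map_mul, map_mul, map_pow, map_pow, ← hP, ← hR, pow_add]; ring⟩
        | mul y z _ _ hy hz =>
          obtain ⟨N, P, hP⟩ := hy
          obtain ⟨M, R, hR⟩ := hz
          exact ⟨N + M, P * R, by rw [map_mul, ← hP, ← hR, pow_add]; ring⟩
      obtain ⟨N, P, hP⟩ := hrep
      have hDne : H6.LambdaLine.φ (k := k) H6.LambdaLine.D ≠ 0 := by
        simp only [H6.LambdaLine.D, map_mul, map_sub, map_pow, map_one, RatFunc.algebraMap_X]
        exact mul_ne_zero (pow_ne_zero _ hx0) (pow_ne_zero _ hx1)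
      have h := H6.LambdaLine.mem_adjoin σ τ h2 hσ hτ N P
        (by rw [← hP, map_mul τ, map_pow τ, hτb, H6.LambdaLine.τ_D τ hτ])
        (by rw [← hP, map_mul σ, map_pow σ, hσb, pow_mul x 6, mul_assoc, ← mul_pow, H6.LambdaLine.σ_D σ hσ])
      rw [hj, ← hP, mul_div_cancel_right₀ _ (pow_ne_zero _ hDne)] at h
      exact h
    · intro hb
      refine ⟨?_, ?_, ?_⟩
      · refine Algebra.adjoin_le (Set.singleton_subset_iff.2 ?_) hb
        have hmx : x ∈ Algebra.adjoin k ({x, x⁻¹, (x - 1)⁻¹} : Set (RatFunc k)) := Algebra.subset_adjoin (by simp)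
        have hmi : x⁻¹ ∈ Algebra.adjoin k ({x, x⁻¹, (x - 1)⁻¹} : Set (RatFunc k)) := Algebra.subset_adjoin (by simp)
        have hmj : (x - 1)⁻¹ ∈ Algebra.adjoin k ({x, x⁻¹, (x - 1)⁻¹} : Set (RatFunc k)) := Algebra.subset_adjoin (by simp)
        rw [SetLike.mem_coe, show j' = (x ^ 2 - x + 1) ^ 3 * (x⁻¹ ^ 2 * (x - 1)⁻¹ ^ 2) by rw [hj', div_eq_mul_inv, mul_inv, inv_pow, inv_pow]]
        exact Subalgebra.mul_mem _ (Subalgebra.pow_mem _ (Subalgebra.add_mem _ (Subalgebra.sub_mem _ (Subalgebra.pow_mem _ hmx 2) hmx) (Subalgebra.one_mem _)) 3)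
          (Subalgebra.mul_mem _ (Subalgebra.pow_mem _ hmi 2) (Subalgebra.pow_mem _ hmj 2))
      · induction hb using Algebra.adjoin_induction with
        | mem y hy =>
          rw [Set.mem_singleton_iff] at hy
          subst hy
          simp only [hj', map_div₀, map_pow, map_add, map_sub, map_mul, map_one]
          rw [hσ, show x⁻¹ - 1 = -(x - 1) * x⁻¹ by field_simp; ring,
            show x⁻¹ ^ 2 - x⁻¹ + 1 = (x ^ 2 - x + 1) * x⁻¹ ^ 2 by field_simp; ring]
          rw [div_eq_div_iff (mul_ne_zero (pow_ne_zero _ (inv_ne_zero hx0)) (pow_ne_zero _ (mul_ne_zero (neg_ne_zero.2 hx1) (inv_ne_zero hx0)))) (mul_ne_zero (pow_ne_zero _ hx0) (pow_ne_zero _ hx1))]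
          field_simp
        | algebraMap r => exact σ.commutes r
        | add y z _ _ hy hz => rw [map_add, hy, hz]
        | mul y z _ _ hy hz => rw [map_mul, hy, hz]
      · induction hb using Algebra.adjoin_induction with
        | mem y hy =>
          rw [Set.mem_singleton_iff] at hy
          subst hy
          simp only [hj', map_div₀, map_pow, map_add, map_sub, map_mul, map_one]
          rw [hτ]
          ring
        | algebraMap r => exact τ.commutes r
        | add y z _ _ hy hz => rw [map_add, hy, hz]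
        | mul y z _ _ hy hz => rw [map_mul, hy, hz]

end Groth.Agent.S11470
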