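import Groth.Statements.S11497
import Mathlib

set_option autoImplicit false
set_option backward.isDefEq.respectTransparency.types false
set_option maxHeartbeats 1000000
set_option linter.all false
universe w v u
open CategoryTheory
open VBPn

namespace Groth.Agent.S11497
open Groth.Agent

/-- In an abelian category, let M : A → B → C and M' : A' → B' → C' be monads, i.e. short complexes
whose first map is a monomorphism and whose second map is an epimorphism, with cohomology (homology)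
objects E and E'. Suppose Hom(B, A') = 0, Hom(C, B') = 0 and Ext^1(C, A') = Ext^1(B, A') = Ext^1(C,
B') = Ext^2(C, A') = 0. Then the map sending a morphism of monads M → M' to the induced morphism E →
E' is bijective. The published statement is for monads of vector bundles on a complex manifold X,
with Ext^i(C, A') written H^i(X, C^* ⊗ A'); this row is stated in any abelian category. -/
theorem result {C : Type u} [Category.{v} C] [Abelian C] [HasExt.{w} C]
    (M M' : ShortComplex C) [Mono M.f] [Epi M.g] [Mono M'.f] [Epi M'.g]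
    (hBA : ∀ f : M.X₂ ⟶ M'.X₁, f = 0) (hCB : ∀ f : M.X₃ ⟶ M'.X₂, f = 0)
    (hCA₁ : Subsingleton (Abelian.Ext M.X₃ M'.X₁ 1)) (hBA₁ : Subsingleton (Abelian.Ext M.X₂ M'.X₁ 1))
    (hCB₁ : Subsingleton (Abelian.Ext M.X₃ M'.X₂ 1)) (hCA₂ : Subsingleton (Abelian.Ext M.X₃ M'.X₁ 2)) :
    Function.Bijective (fun φ : M ⟶ M' => ShortComplex.homologyMap φ) := by
  have ses₁ : ∀ N : ShortComplex C, Epi N.g → (ShortComplex.mk N.iCycles N.g N.iCycles_g).ShortExact := fun N _ =>
    { exact := ShortComplex.exact_of_f_is_kernel _ N.cyclesIsKernel }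
  have ses₂ : ∀ N : ShortComplex C, Mono N.f → (ShortComplex.mk N.toCycles N.homologyπ N.toCycles_comp_homologyπ).ShortExact := fun N hN =>
    { exact := ShortComplex.exact_of_g_is_cokernel _ N.homologyIsCokernel
      mono_f := mono_of_mono_fac N.toCycles_i }
  have hM1 := ses₁ M inferInstance
  have hM'2 := ses₂ M' inferInstance
  -- every map cycles → A' is zero
  have hKA : ∀ u : M.cycles ⟶ M'.X₁, u = 0 := by
    intro u
    obtain ⟨y, hy⟩ := Abelian.Ext.contravariant_sequence_exact₁ hM1 _ (Abelian.Ext.mk₀ u) (n₁ := 1) (by simp) (hCA₁.elim _ _)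
    obtain ⟨v, rfl⟩ := (Abelian.Ext.mk₀_bijective _ _).2 y
    rw [Abelian.Ext.mk₀_comp_mk₀] at hy
    rw [← (Abelian.Ext.mk₀_bijective _ _).1 hy, hBA v, Limits.comp_zero]
  have hK1 : ∀ x : Abelian.Ext M.cycles M'.X₁ 1, x = 0 := by
    intro x
    obtain ⟨y, hy⟩ := Abelian.Ext.contravariant_sequence_exact₁ hM1 _ x (n₁ := 2) (by simp) (hCA₂.elim _ _)
    rw [← hy, hBA₁.elim y 0, Abelian.Ext.comp_zero]
  have hlift : ∀ h : M.cycles ⟶ M'.homology, ∃ ψ, ψ ≫ M'.homologyπ = h := by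
    intro h
    obtain ⟨y, hy⟩ := Abelian.Ext.covariant_sequence_exact₃ _ hM'2 (Abelian.Ext.mk₀ h) (n₁ := 1) (by simp) (hK1 _)
    obtain ⟨v, rfl⟩ := (Abelian.Ext.mk₀_bijective _ _).2 y
    rw [Abelian.Ext.mk₀_comp_mk₀] at hy
    exact ⟨v, (Abelian.Ext.mk₀_bijective _ _).1 hy⟩
  have hext : ∀ u : M.cycles ⟶ M'.X₂, ∃ v, M.iCycles ≫ v = u := by
    intro u
    obtain ⟨y, hy⟩ := Abelian.Ext.contravariant_sequence_exact₁ hM1 _ (Abelian.Ext.mk₀ u) (n₁ := 1) (by simp) (hCB₁.elim _ _)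
    obtain ⟨v, rfl⟩ := (Abelian.Ext.mk₀_bijective _ _).2 y
    rw [Abelian.Ext.mk₀_comp_mk₀] at hy
    exact ⟨v, (Abelian.Ext.mk₀_bijective _ _).1 hy⟩
  constructor
  · intro φ₁ φ₂ h
    have hz : ShortComplex.homologyMap (φ₁ - φ₂) = 0 := by
      rw [ShortComplex.homologyMap_sub]; exact sub_eq_zero.2 h
    rw [← sub_eq_zero]
    generalize φ₁ - φ₂ = φ at hz ⊢
    have h1 : ShortComplex.cyclesMap φ ≫ M'.homologyπ = 0 := by
      rw [← ShortComplex.homologyπ_naturality, hz, Limits.comp_zero]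
    have := hM'2.mono_f
    let u := hM'2.exact.lift (ShortComplex.cyclesMap φ) h1
    have h2 : ShortComplex.cyclesMap φ = 0 := by
      rw [← hM'2.exact.lift_f (ShortComplex.cyclesMap φ) h1, hKA (hM'2.exact.lift (ShortComplex.cyclesMap φ) h1)]
      exact Limits.zero_comp
    have h3 : M.iCycles ≫ φ.τ₂ = 0 := by
      rw [← ShortComplex.cyclesMap_i, h2, Limits.zero_comp]
    have := hM1.epi_g
    have h4 : φ.τ₂ = 0 := by
      have h5 := hM1.exact.g_desc φ.τ₂ h3
      rw [← h5, hCB (hM1.exact.desc φ.τ₂ h3)]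
      exact Limits.comp_zero
    refine ShortComplex.hom_ext _ _ ?_ h4 ?_
    · rw [ShortComplex.zero_τ₁, ← cancel_mono M'.f, φ.comm₁₂, h4, Limits.comp_zero, Limits.zero_comp]
    · rw [ShortComplex.zero_τ₃, ← cancel_epi M.g, ← φ.comm₂₃, h4, Limits.zero_comp, Limits.comp_zero]
  · intro h
    obtain ⟨ψ, hψ⟩ := hlift (M.homologyπ ≫ h)
    obtain ⟨τ₂, hτ₂⟩ := hext (ψ ≫ M'.iCycles)
    have h1 : (M.toCycles ≫ ψ) ≫ M'.homologyπ = 0 := by
      rw [Category.assoc, hψ, ShortComplex.toCycles_comp_homologyπ_assoc, Limits.zero_comp]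
    have := hM'2.mono_f
    let τ₁ := hM'2.exact.lift (M.toCycles ≫ ψ) h1
    have hτ₁ : τ₁ ≫ M'.toCycles = M.toCycles ≫ ψ := hM'2.exact.lift_f (M.toCycles ≫ ψ) h1
    have h2 : M.iCycles ≫ τ₂ ≫ M'.g = 0 := by
      rw [reassoc_of% hτ₂, M'.iCycles_g, Limits.comp_zero]
    have := hM1.epi_g
    let τ₃ := hM1.exact.desc (τ₂ ≫ M'.g) h2
    have hτ₃ : M.g ≫ τ₃ = τ₂ ≫ M'.g := hM1.exact.g_desc (τ₂ ≫ M'.g) h2
    let φ : M ⟶ M' := ShortComplex.homMk τ₁ τ₂ τ₃
      (by rw [← M'.toCycles_i, reassoc_of% hτ₁, ← hτ₂, M.toCycles_i_assoc]) hτ₃.symm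
    refine ⟨φ, ?_⟩
    have hc : ShortComplex.cyclesMap φ = ψ := by
      rw [← cancel_mono M'.iCycles, ShortComplex.cyclesMap_i]
      exact hτ₂
    show ShortComplex.homologyMap φ = h
    rw [← cancel_epi M.homologyπ, ShortComplex.homologyπ_naturality, hc, hψ]

end Groth.Agent.S11497
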