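import Groth.Statements.S11499
import Mathlib

set_option autoImplicit false
universe u
open TensorProduct
open VBPn

namespace Groth.Agent.S11499

/-- Let A be an integral domain with fraction field K and M a finitely generated torsion-free A-module
of rank r (K ⊗_A M is r-dimensional over K). Then there is an injective A-linear map M → A^r. The
published statement is for torsion-free coherent sheaves on a complex manifold, locally near a
point; this row is its statement for one stalk, over any domain. -/
theorem result (A : Type u) [CommRing A] [IsDomain A]
    (M : Type u) [AddCommGroup M] [Module A M] [Module.Finite A M] [NoZeroSMulDivisors A M] (r : ℕ)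
    (hr : Module.finrank (FractionRing A) (FractionRing A ⊗[A] M) = r) :
    ∃ f : M →ₗ[A] (Fin r → A), Function.Injective f := by
  classical
  let K := FractionRing A
  have : Module.IsTorsionFree A M := inferInstance
  have hinj : Function.Injective (TensorProduct.mk A K M 1) := by
    intro a b hab
    obtain ⟨⟨s, hs⟩, h⟩ := (IsLocalizedModule.eq_iff_exists (nonZeroDivisors A) (TensorProduct.mk A K M 1)).mp hab
    exact smul_right_injective M (nonZeroDivisors.ne_zero hs) h
  have : Module.Finite K (K ⊗[A] M) := inferInstance
  let b := Module.finBasisOfFinrankEq K (K ⊗[A] M) hr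
  obtain ⟨S, hS⟩ := Module.Finite.fg_top (R := A) (M := M)
  obtain ⟨c, hc⟩ := IsLocalization.exist_integer_multiples (nonZeroDivisors A) (S ×ˢ (Finset.univ : Finset (Fin r)))
    (fun p => b.repr ((1 : K) ⊗ₜ[A] p.1) p.2)
  let L : M →ₗ[A] (Fin r → K) :=
    (c : A) • ((b.equivFun.toLinearMap.restrictScalars A).comp (TensorProduct.mk A K M 1))
  let j : (Fin r → A) →ₗ[A] (Fin r → K) := (Algebra.linearMap A K).compLeft (Fin r)
  have hj : Function.Injective j := fun p q h =>
    funext fun i => IsFractionRing.injective A K (congrFun h i)
  have hmem : ∀ m, L m ∈ LinearMap.range j := by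
    intro m
    have hle : Submodule.span A (S : Set M) ≤ (LinearMap.range j).comap L := Submodule.span_le.mpr fun s hs => by
      have h := fun i => hc (s, i) (Finset.mk_mem_product hs (Finset.mem_univ i))
      choose a ha using h
      refine ⟨a, funext fun i => (ha i).trans ?_⟩
      simp [L]
    exact hle (hS ▸ Submodule.mem_top)
  refine ⟨(LinearEquiv.ofInjective j hj).symm.toLinearMap.comp (L.codRestrict _ hmem), ?_⟩
  refine (LinearEquiv.ofInjective j hj).symm.injective.comp fun p q h => ?_
  have h2 : L p = L q := congrArg Subtype.val h
  have h3 : (algebraMap A K (c : A)) • b.equivFun ((1 : K) ⊗ₜ[A] p) =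
      (algebraMap A K (c : A)) • b.equivFun ((1 : K) ⊗ₜ[A] q) := by
    simpa [L, algebraMap_smul] using h2
  exact hinj (b.equivFun.injective (smul_right_injective _
    (IsFractionRing.to_map_ne_zero_of_mem_nonZeroDivisors c.2) h3))

end Groth.Agent.S11499
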