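import Groth.Statements.S11523
import Mathlib

set_option autoImplicit false
universe v u v' u'
open CategoryTheory CategoryTheory.Limits
open PervT

namespace Groth.Agent.S11523
open CategoryTheory CategoryTheory.Limits
lemma aux {A : Type u} [Category.{v} A] [Abelian A] {B : Type u'} [Category.{v'} B] [Abelian B]
    (u : A ⥤ B) [u.Full] [u.Faithful] [PreservesFiniteLimits u] [PreservesFiniteColimits u]
    (hlen : ∀ X : A, IsArtinianObject X ∧ IsNoetherianObject X)
    (hsimple : ∀ X : A, Simple X → Simple (u.obj X)) (X0 : A) (S : B) (hS : ¬ IsZero S)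
    (ι : S ⟶ u.obj X0) [Mono ι] :
    ∀ (P : Subobject X0) (X : A) (p : X0 ⟶ X) [Epi p], kernelSubobject p = P → Mono (ι ≫ u.map p) →
      ∃ (T : A) (g : T ⟶ X) (h : u.obj T ⟶ S), g ≠ 0 ∧ h ≫ ι ≫ u.map p = u.map g := by
  have := (hlen X0).2
  intro P
  induction P using WellFoundedGT.induction with
  | _ P IH =>
    intro X p _ hP hm
    have := (hlen X).1
    have hX : ¬ IsZero X := fun hX => hS (IsZero.of_mono_eq_zero (ι ≫ u.map p) ((u.map_isZero hX).eq_of_tgt _ _))
    obtain ⟨Q, hQ⟩ := exists_simple_subobject hX
    by_cases hm' : Mono (ι ≫ u.map (p ≫ cokernel.π Q.arrow))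
    · have hlt : P < kernelSubobject (p ≫ cokernel.π Q.arrow) := by
        refine lt_of_le_of_ne (hP ▸ kernelSubobject_comp_le _ _) fun he => ?_
        have h0 : kernel.ι (p ≫ cokernel.π Q.arrow) ≫ p = 0 := by
          have := (kernelSubobject_factors_iff p (kernel.ι (p ≫ cokernel.π Q.arrow))).1 (by
            rw [hP, he]; exact (kernelSubobject_factors_iff _ _).2 (kernel.condition _))
          exact this
        have : Epi (p ≫ cokernel.π Q.arrow) := epi_comp _ _
        let q := Abelian.epiDesc (p ≫ cokernel.π Q.arrow) p h0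
        have hq : cokernel.π Q.arrow ≫ q = 𝟙 X := by
          rw [← cancel_epi p, ← Category.assoc, Category.comp_id]
          exact Abelian.comp_epiDesc _ _ _
        have : Q.arrow = 0 := by
          rw [← Category.comp_id Q.arrow, ← hq, ← Category.assoc, cokernel.condition, zero_comp]
        exact Simple.not_isZero _ (IsZero.of_mono_eq_zero Q.arrow this)
      obtain ⟨T, g, h, hg, hh⟩ := IH _ hlt _ (p ≫ cokernel.π Q.arrow) rfl hm'
      have e : h ≫ ι ≫ u.map p = u.map (u.preimage (h ≫ ι ≫ u.map p)) := (u.map_preimage _).symm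
      refine ⟨T, _, h, fun h0 => hg (u.map_injective ?_), e⟩
      rw [← hh, u.map_comp, Functor.map_zero]
      rw [h0, Functor.map_zero] at e
      rw [← Category.assoc ι, ← Category.assoc, e, zero_comp]
    · have hk : kernel.ι (ι ≫ u.map (p ≫ cokernel.π Q.arrow)) ≠ 0 := fun h0 =>
        hm' (Preadditive.mono_of_kernel_iso_zero (IsZero.isoZero (IsZero.of_mono_eq_zero _ h0)))
      let k := kernel.ι (ι ≫ u.map (p ≫ cokernel.π Q.arrow))
      have hl : IsLimit (KernelFork.ofι (u.map Q.arrow) (by rw [← u.map_comp, cokernel.condition, u.map_zero]) :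
          KernelFork (u.map (cokernel.π Q.arrow))) :=
        isLimitForkMapOfIsLimit' u _ (Abelian.monoIsKernelOfCokernel _ (colimit.isColimit _))
      obtain ⟨l, hl'⟩ := KernelFork.IsLimit.lift' hl (k ≫ ι ≫ u.map p) (by
        simp only [Category.assoc, ← u.map_comp]; exact kernel.condition _)
      change kernel _ ⟶ u.obj (Q : A) at l
      change l ≫ u.map Q.arrow = _ at hl'
      have : Mono (k ≫ ι ≫ u.map p) := mono_comp _ _
      have : Mono l := mono_of_mono_fac hl'
      have : Simple (u.obj (Q : A)) := hsimple _ hQ
      have : IsIso l := isIso_of_mono_of_nonzero (fun h0 => hk (by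
        rw [h0, zero_comp] at hl'
        exact (cancel_mono (ι ≫ u.map p)).1 (hl'.symm.trans zero_comp.symm)))
      refine ⟨Q, Q.arrow, inv l ≫ k, fun h0 => Simple.not_isZero _ (IsZero.of_mono_eq_zero Q.arrow h0), ?_⟩
      rw [Category.assoc, ← hl', IsIso.inv_hom_id_assoc]

/-- Let `u : A ⥤ B` be a fully faithful exact functor of abelian categories admitting a left adjoint and
a right adjoint `uStar`. Suppose every object of `A` has finite length (it is both an artinian and a
noetherian object) and that `u` sends simple objects to simple objects. Then for every object `Y` of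
`B` the counit `u (uStar Y) ⟶ Y` of the adjunction `u ⊣ uStar` is a monomorphism. (The published
statement also lists two further conditions equivalent to this one: that for every object `Y` of `B`
the unit `Y ⟶ u (L Y)` of the adjunction `L ⊣ u` of the left adjoint `L` is an epimorphism, and that
the essential image of `u` is stable under subobjects and quotients; this row states only the counit
condition.) -/
theorem result {A : Type u} [Category.{v} A] [Abelian A] {B : Type u'} [Category.{v'} B] [Abelian B]
    (u : A ⥤ B) [u.Full] [u.Faithful] [PreservesFiniteLimits u] [PreservesFiniteColimits u] [u.IsRightAdjoint]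
    (uStar : B ⥤ A) (adj : u ⊣ uStar)
    (hlen : ∀ X : A, IsArtinianObject X ∧ IsNoetherianObject X)
    (hsimple : ∀ X : A, Simple X → Simple (u.obj X)) (Y : B) :
    Mono (adj.counit.app Y) := by

  refine Preadditive.mono_of_kernel_iso_zero (IsZero.isoZero ?_)
  by_contra hS
  have : Mono (kernel.ι (adj.counit.app Y) ≫ u.map (𝟙 (uStar.obj Y))) := by
    rw [u.map_id]; exact (Category.comp_id (kernel.ι (adj.counit.app Y))).symm ▸ inferInstance
  obtain ⟨T, g, h, hg, hh⟩ := aux u hlen hsimple (uStar.obj Y) _ hS (kernel.ι (adj.counit.app Y)) _ _ (𝟙 _) rfl this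
  have : u.Additive := Functor.additive_of_preserves_binary_products u
  have := adj.right_adjoint_additive
  apply hg
  rw [u.map_id] at hh
  have h1 : u.map g ≫ adj.counit.app Y = 0 := by
    rw [← hh]; simp [kernel.condition]
  have h2 : (adj.homEquiv T Y).symm g = u.map g ≫ adj.counit.app Y := adj.homEquiv_counit _ _ g
  rw [h1, Equiv.symm_apply_eq, adj.homEquiv_unit, Functor.map_zero, comp_zero] at h2
  exact h2

end Groth.Agent.S11523
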