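import Groth.Statements.S1153
import Groth.Agent.Lib.LClSub
import Groth.Agent.Lib.FpqcDescent

set_option autoImplicit false
set_option backward.isDefEq.respectTransparency.types false
set_option maxHeartbeats 1000000
set_option linter.all false
open CategoryTheory CategoryTheory.Limits AlgebraicGeometry Opposite
universe u
open Desc

namespace Groth.Agent.S1153
open Groth.Agent CategoryTheory.Limits

/-- Let f : X ⟶ Y be locally of finite type, Z a closed subset of X and g : Y' ⟶ Y quasi-compact, flat
and surjective. If the preimage of Z in X ×_Y Y' is proper over Y', then Z is proper over Y. -/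
theorem result {X Y Y' : Scheme.{u}} (f : X ⟶ Y) [LocallyOfFiniteType f] (Z : Set X) (hZ : IsClosed Z)
    (g : Y' ⟶ Y) [QuasiCompact g] [Flat g] [Surjective g]
    (h : ClSub.IsProperOver (pullback.snd f g) ((pullback.fst f g).base ⁻¹' Z)) :
    ClSub.IsProperOver f Z := by
    refine ⟨hZ, ?_⟩
    let i := (LClSub.red hZ).subschemeι
    let i' := pullback.fst (pullback.fst f g) i
    have hi : Set.range i' = (pullback.fst f g).base ⁻¹' Z := by
      rw [Scheme.Pullback.range_fst, LClSub.range_red]
    have h1 : IsProper (i' ≫ pullback.snd f g) := (LClSub.isProperOver_iff i' hi).1 h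
    have sq : IsPullback (pullback.snd (pullback.fst f g) i) (i' ≫ pullback.snd f g) (i ≫ f) g :=
      (IsPullback.of_hasPullback (pullback.fst f g) i).flip.paste_vert (IsPullback.of_hasPullback f g)
    exact MorphismProperty.of_isPullback_of_descendsAlong (P := @IsProper)
      (Q := @Surjective ⊓ @Flat ⊓ @QuasiCompact) sq.flip ⟨⟨inferInstance, inferInstance⟩, inferInstance⟩ h1

end Groth.Agent.S1153
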