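import Groth.Statements.S11538
import Mathlib


set_option autoImplicit false
universe u v
open scoped TensorProduct
open AdicRing

namespace Groth.Agent.S11538

open scoped TensorProduct in
theorem rTensor_quotient_injective {A : Type u} [CommRing A] (π : A) (M : Type v) [AddCommGroup M] [Module A M]
    (hflat : Module.Flat (A ⧸ Ideal.span {π}) ((A ⧸ Ideal.span {π}) ⊗[A] M))
    {X Y : Type u} [AddCommGroup X] [AddCommGroup Y] [Module A X] [Module A Y]
    [Module (A ⧸ Ideal.span {π}) X] [Module (A ⧸ Ideal.span {π}) Y]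
    [IsScalarTower A (A ⧸ Ideal.span {π}) X] [IsScalarTower A (A ⧸ Ideal.span {π}) Y]
    (g : X →ₗ[A ⧸ Ideal.span {π}] Y) (hg : Function.Injective g) :
    Function.Injective ((g.restrictScalars A).rTensor M) := by
  let Ā := A ⧸ Ideal.span {π}
  let eX : X ⊗[Ā] (Ā ⊗[A] M) ≃ₗ[Ā] X ⊗[A] M := TensorProduct.AlgebraTensorModule.cancelBaseChange A Ā Ā X M
  let eY : Y ⊗[Ā] (Ā ⊗[A] M) ≃ₗ[Ā] Y ⊗[A] M := TensorProduct.AlgebraTensorModule.cancelBaseChange A Ā Ā Y M
  have h0 : Function.Injective (g.rTensor (Ā ⊗[A] M)) :=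
    Module.Flat.rTensor_preserves_injective_linearMap g hg
  have key : ∀ z, (g.restrictScalars A).rTensor M (eX z) = eY (g.rTensor (Ā ⊗[A] M) z) := by
    intro z
    induction z using TensorProduct.induction_on with
    | zero => simp
    | tmul x w =>
      induction w using TensorProduct.induction_on with
      | zero => simp
      | tmul a m =>
        change (g.restrictScalars A).rTensor M (eX (x ⊗ₜ (a ⊗ₜ m))) = eY ((g x) ⊗ₜ (a ⊗ₜ m))
        simp [eX, eY]
      | add u v hu hv => simp only [TensorProduct.tmul_add, map_add, hu, hv]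
    | add u v hu hv => simp only [map_add, hu, hv]
  intro a b hab
  obtain ⟨a, rfl⟩ := eX.surjective a
  obtain ⟨b, rfl⟩ := eX.surjective b
  rw [key, key] at hab
  rw [h0 (eY.injective hab)]

open scoped TensorProduct in
theorem smul_regular_aux {A : Type u} [CommRing A] (π : A)
    (M : Type v) [AddCommGroup M] [Module A M]
    (htf : ∀ x : M, π • x = 0 → x = 0)
    (hflat : Module.Flat (A ⧸ Ideal.span {π}) ((A ⧸ Ideal.span {π}) ⊗[A] M))
    {J : Type u} {F : Type u} [AddCommGroup F] [Module A F] (e : F ≃ₗ[A] (J →₀ A))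
    {P : Type u} [AddCommGroup P] [Module A P] (p : F →ₗ[A] P)
    (hp : Function.Surjective p) (hJtf : ∀ j : P, π • j = 0 → j = 0)
    (x : P ⊗[A] M) (hx : π • x = 0) : x = 0 := by
  classical
  have hKp : Function.Exact (LinearMap.ker p).subtype p := LinearMap.exact_subtype_ker_map p
  obtain ⟨y, rfl⟩ := LinearMap.rTensor_surjective M hp x
  rw [← map_smul] at hx
  obtain ⟨k, hk⟩ := (rTensor_exact (R := A) (M := (LinearMap.ker p)) (N := F) (P := P) (f := (LinearMap.ker p).subtype) (g := p) M hKp hp (π • y)).1 hx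
  -- reduce modulo `π`
  let I : Ideal A := Ideal.span {π}
  have hle : (I • ⊤ : Submodule A (LinearMap.ker p)) ≤ (I • ⊤ : Submodule A F).comap (LinearMap.ker p).subtype := by
    rw [← Submodule.map_le_iff_le_comap, Submodule.map_smul'']
    exact Submodule.smul_mono le_rfl le_top
  let g : ((LinearMap.ker p) ⧸ (I • ⊤ : Submodule A (LinearMap.ker p))) →ₗ[A] (F ⧸ (I • ⊤ : Submodule A F)) := Submodule.mapQ _ _ (LinearMap.ker p).subtype hle
  have hg : Function.Injective g := by
    rw [← LinearMap.ker_eq_bot, Submodule.ker_mapQ, eq_bot_iff]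
    rintro _ ⟨z, hz, rfl⟩
    rw [Submodule.mem_bot, Submodule.mkQ_apply, Submodule.Quotient.mk_eq_zero]
    have hz' : (z : F) ∈ (I • ⊤ : Submodule A F) := hz
    rw [Submodule.ideal_span_singleton_smul] at hz'
    obtain ⟨f', -, hf'⟩ := Submodule.mem_smul_pointwise_iff_exists _ π ⊤ |>.1 hz'
    have hf0 : p f' = 0 := hJtf _ (by rw [← map_smul, hf']; exact z.2)
    rw [show z = π • (⟨f', hf0⟩ : (LinearMap.ker p)) from Subtype.ext hf'.symm]
    exact Submodule.smul_mem_smul (Ideal.mem_span_singleton_self π) trivial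
  have hgsmul : ∀ (c : A ⧸ I) (z : ((LinearMap.ker p) ⧸ (I • ⊤ : Submodule A (LinearMap.ker p)))), g (c • z) = c • g z := fun c z => by
    obtain ⟨a, rfl⟩ := Ideal.Quotient.mk_surjective c
    exact g.map_smul a z
  let g' : ((LinearMap.ker p) ⧸ (I • ⊤ : Submodule A (LinearMap.ker p))) →ₗ[A ⧸ I] (F ⧸ (I • ⊤ : Submodule A F)) := ⟨⟨g, g.map_add⟩, hgsmul⟩
  have hinj : Function.Injective (g.rTensor M) := rTensor_quotient_injective π M hflat g' hg
  have hkill : ∀ w : (F ⧸ (I • ⊤ : Submodule A F)) ⊗[A] M, π • w = 0 := fun w => by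
    induction w using TensorProduct.induction_on with
    | zero => simp
    | tmul f m =>
      obtain ⟨f, rfl⟩ := Submodule.mkQ_surjective _ f
      rw [TensorProduct.smul_tmul', ← map_smul, Submodule.mkQ_apply, (Submodule.Quotient.mk_eq_zero _).2
        (Submodule.smul_mem_smul (Ideal.mem_span_singleton_self π) (Submodule.mem_top : f ∈ (⊤ : Submodule A F))), TensorProduct.zero_tmul]
    | add u v hu hv => rw [smul_add, hu, hv, add_zero]
  have h1 : g.rTensor M ((Submodule.mkQ (I • ⊤ : Submodule A (LinearMap.ker p))).rTensor M k) = 0 := by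
    rw [← LinearMap.comp_apply, ← LinearMap.rTensor_comp,
      show g.comp (Submodule.mkQ (I • ⊤ : Submodule A (LinearMap.ker p))) = (Submodule.mkQ (I • ⊤ : Submodule A F)).comp (LinearMap.ker p).subtype from rfl,
      LinearMap.rTensor_comp, LinearMap.comp_apply, hk, map_smul]
    exact hkill _
  have h2 := hinj (h1.trans (map_zero _).symm)
  let μ : (LinearMap.ker p) →ₗ[A] (LinearMap.ker p) := π • LinearMap.id
  have hex : Function.Exact μ (Submodule.mkQ (I • ⊤ : Submodule A (LinearMap.ker p))) := by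
    rw [LinearMap.exact_iff, Submodule.ker_mkQ]
    ext z
    refine ⟨fun hz => ?_, ?_⟩
    · refine Submodule.smul_induction_on hz (fun a ha w _ => ?_) fun u v hu hv => add_mem hu hv
      obtain ⟨c, rfl⟩ := Ideal.mem_span_singleton'.1 ha
      exact ⟨c • w, by simp [μ, smul_smul, mul_comm]⟩
    · rintro ⟨w, rfl⟩
      exact Submodule.smul_mem_smul (Ideal.mem_span_singleton_self π) trivial
  obtain ⟨k', rfl⟩ := (rTensor_exact M hex (Submodule.mkQ_surjective _) k).1 h2
  rw [show μ.rTensor M = π • LinearMap.id from by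
    rw [show μ = π • (LinearMap.id : (LinearMap.ker p) →ₗ[A] (LinearMap.ker p)) from rfl, LinearMap.rTensor_smul, LinearMap.rTensor_id],
    LinearMap.smul_apply, LinearMap.id_apply, map_smul, ← sub_eq_zero, ← smul_sub] at hk
  have hfree : (LinearMap.ker p).subtype.rTensor M k' - y = 0 := by
    let e' := (LinearEquiv.rTensor M e).trans (TensorProduct.finsuppScalarLeft A M J)
    apply e'.injective
    rw [map_zero]
    ext j
    apply htf
    rw [← Finsupp.smul_apply, ← map_smul, hk, map_zero, Finsupp.coe_zero, Pi.zero_apply]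
  rw [sub_eq_zero] at hfree
  rw [← hfree]
  exact (rTensor_exact M hKp hp _).2 ⟨k', rfl⟩
open scoped TensorProduct in
theorem smul_regular_tensor {A : Type u} [CommRing A] (π : A) (hπ : π ∈ nonZeroDivisors A)
    (M : Type v) [AddCommGroup M] [Module A M]
    (htf : ∀ x : M, π • x = 0 → x = 0)
    (hflat : Module.Flat (A ⧸ Ideal.span {π}) ((A ⧸ Ideal.span {π}) ⊗[A] M))
    (J : Ideal A) (x : J ⊗[A] M) (hx : π • x = 0) : x = 0 :=
  smul_regular_aux π M htf hflat (LinearEquiv.refl A (J →₀ A)) (Finsupp.linearCombination A (id : J → J))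
    (Finsupp.linearCombination_surjective A Function.surjective_id)
    (fun j hj => Subtype.ext ((mem_nonZeroDivisors_iff.1 hπ).1 _ (congrArg Subtype.val hj))) x hx

/-- Let A be a commutative ring, π an element of A which is not a zero divisor and M an A-module. Then M
is flat over A if and only if the π-power torsion of M vanishes, (A/πA) ⊗_A M is flat over A/πA, and
A[π⁻¹] ⊗_A M is flat over A[π⁻¹]. -/
theorem result
    (A : Type u) [CommRing A] (π : A) (hπ : π ∈ nonZeroDivisors A)
    (M : Type v) [AddCommGroup M] [Module A M] :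
    Module.Flat A M ↔
      (∀ (x : M) (n : ℕ), π ^ n • x = 0 → x = 0) ∧
        Module.Flat (A ⧸ Ideal.span {π}) ((A ⧸ Ideal.span {π}) ⊗[A] M) ∧
        Module.Flat (Localization.Away π) ((Localization.Away π) ⊗[A] M) := by
  refine ⟨fun h => ⟨fun x n hx => ?_, inferInstance, inferInstance⟩, fun ⟨htf, hq, hloc⟩ => ?_⟩
  · exact Module.Flat.isSMulRegular_of_nonZeroDivisors (M := M) (pow_mem hπ n) (by simpa using hx)
  rw [Module.Flat.iff_rTensor_injective']
  intro J
  rw [← LinearMap.ker_eq_bot, eq_bot_iff]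
  intro x hx
  rw [LinearMap.mem_ker] at hx
  rw [Submodule.mem_bot]
  have key : ∀ (n : ℕ) (z : J ⊗[A] M), π ^ n • z = 0 → z = 0 := by
    intro n
    induction n with
    | zero => simp
    | succ n ih =>
      intro z hz
      refine smul_regular_tensor π hπ M (fun m hm => htf m 1 (by simpa using hm)) hq J z (ih _ ?_)
      rwa [smul_smul, ← pow_succ]
  let B := Localization.Away π
  let ι : M →ₗ[A] B ⊗[A] M := TensorProduct.mk A B M 1
  have : IsLocalizedModule (Submonoid.powers π) ι := inferInstance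
  have hB : Module.Flat A (B ⊗[A] M) := Module.Flat.trans A B _
  have h1 : (TensorProduct.map (LinearMap.id : J →ₗ[A] J) ι) x = 0 := by
    apply Module.Flat.rTensor_preserves_injective_linearMap (M := B ⊗[A] M) J.subtype Subtype.val_injective
    rw [map_zero, ← LinearMap.comp_apply, LinearMap.rTensor_comp_map, LinearMap.comp_id]
    have : TensorProduct.map J.subtype ι = ι.lTensor A ∘ₗ J.subtype.rTensor M := by
      rw [LinearMap.lTensor_comp_rTensor]
    rw [this, LinearMap.comp_apply, hx, map_zero]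
  let e : J ⊗[A] (B ⊗[A] M) ≃ₗ[A] B ⊗[A] (J ⊗[A] M) := TensorProduct.leftComm A J B M
  have h2 : ∀ z, e (TensorProduct.map (LinearMap.id : J →ₗ[A] J) ι z) = TensorProduct.mk A B (J ⊗[A] M) 1 z := by
    intro z
    induction z using TensorProduct.induction_on with
    | zero => simp
    | tmul a b => simp [e, ι]
    | add u v hu hv => simp only [map_add, hu, hv]
  have h3 : TensorProduct.mk A B (J ⊗[A] M) 1 x = 0 := by rw [← h2, h1, map_zero]
  obtain ⟨⟨_, n, rfl⟩, hn⟩ := (IsLocalizedModule.eq_zero_iff (Submonoid.powers π) (TensorProduct.mk A B (J ⊗[A] M) 1)).1 h3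
  exact key n x hn

end Groth.Agent.S11538
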