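import Groth.Statements.S6416
import Groth.Agent.Lib.LFibCat

set_option autoImplicit false
set_option backward.isDefEq.respectTransparency false
set_option backward.isDefEq.respectTransparency.types false
open CategoryTheory
universe v₁ u₁ v₂ u₂ v₃ u₃
open FibCat

namespace Groth.Agent.S6416

/-- The composite of two functors fibred in groupoids is fibred in groupoids. -/
theorem result {𝒜 : Type u₁} [Category.{v₁} 𝒜] {ℬ : Type u₂} [Category.{v₂} ℬ] {𝒞 : Type u₃} [Category.{v₃} 𝒞] (F : 𝒜 ⥤ ℬ) (G : ℬ ⥤ 𝒞) (hF : FibCat.IsFibGrpd F) (hG : FibCat.IsFibGrpd G) : FibCat.IsFibGrpd (F ⋙ G) := by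
  refine { exists_lift := fun {x V} f => ?_, isStronglyCartesian := fun {y x} φ => ?_ }
  · obtain ⟨b, m, hm⟩ := hG.exists_lift (x := F.obj x) f
    obtain ⟨a, φ, hφ⟩ := hF.exists_lift (x := x) m
    haveI := hm; haveI := hφ
    obtain rfl := IsHomLift.domain_eq F m φ
    obtain rfl := IsHomLift.eq_of_isHomLift F m φ
    exact ⟨a, φ, IsHomLift.of_fac' _ _ _ (IsHomLift.domain_eq G f (F.map φ)) rfl (IsHomLift.fac' G f (F.map φ))⟩
  · haveI := hF.isStronglyCartesian φ
    haveI := hG.isStronglyCartesian (F.map φ)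
    exact H5Cat.sc_comp F G φ

end Groth.Agent.S6416
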