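import Groth.Statements.S1188
import Groth.Agent.Lib.H6.GaloisX

set_option autoImplicit false
set_option linter.all false
universe u v w
open CategoryTheory PreGaloisCategory
open Pi1

namespace Groth.Agent.S1188

/-- Let H : C ⥤ C' be an exact functor between Galois categories and F' a fibre functor on C' such that
F' ∘ H is a fibre functor on C; write h : π_1(C', F') → π_1(C, F' ∘ H) for the induced homomorphism
of fundamental groups. Then h is injective if and only if for every connected object X' of C' there
are an object X of C, an object Y' of C', an epimorphism Y' ⟶ X' and a monomorphism Y' ⟶ H(X). -/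
theorem result {C C' : Type u} [Category.{v} C] [Category.{v} C'] [GaloisCategory C] [GaloisCategory C']
    (H : C ⥤ C') [Limits.PreservesFiniteLimits H] [Limits.PreservesFiniteColimits H]
    (F' : C' ⥤ FintypeCat.{w}) [FiberFunctor F'] [FiberFunctor (H ⋙ F')] :
    Function.Injective (Pi1X.autWhisker H F') ↔
      ∀ X' : C', IsConnected X' → ∃ (X : C) (Y' : C') (p : Y' ⟶ X') (q : Y' ⟶ H.obj X), Epi p ∧ Mono q := by
    constructor
    · intro h X' hX'
      obtain ⟨a'⟩ := nonempty_fiber_of_isConnected F' X'
      obtain ⟨X, Y', i, q, hi, hY'⟩ := (Groth.Agent.H6.GaloisX.ker_le_iff H F' X' a').1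
        (((MonoidHom.ker_eq_bot_iff _).2 h).le.trans bot_le)
      haveI := hX'
      obtain ⟨y⟩ := nonempty_fiber_of_isConnected F' Y'
      haveI : Nonempty (F'.obj Y') := ⟨y⟩
      exact ⟨X, Y', q, i, epi_of_nonempty_of_isConnected F' q, hi⟩
    · intro h
      rw [← MonoidHom.ker_eq_bot_iff, eq_bot_iff]
      intro σ hσ
      rw [Subgroup.mem_bot]
      refine Aut.ext (NatTrans.ext (funext fun Z => FintypeCat.hom_ext _ _ fun z => ?_))
      obtain ⟨X', j, a', rfl, hX', hj⟩ := fiber_in_connected_component F' Z z
      obtain ⟨X, Y', p, q, hp, hq⟩ := h X' hX'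
      obtain ⟨y, rfl⟩ : ∃ y, F'.map p y = a' := by
        haveI := hp
        obtain ⟨y, hy⟩ := surjective_of_epi (FintypeCat.incl.map (F'.map p)) a'
        exact ⟨y, hy⟩
      have hy : σ • y = y := by
        haveI := hq
        apply ConcreteCategory.injective_of_mono_of_preservesPullback (F'.map q)
        rw [← mulAction_naturality]
        exact (congrArg (fun τ : Aut (H ⋙ F') => τ • Groth.Agent.H6.GaloisX.ofF' H F' (F'.map q y)) (MonoidHom.mem_ker.1 hσ)).trans (one_smul _ _)
      show σ • F'.map j (F'.map p y) = F'.map j (F'.map p y)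
      rw [mulAction_naturality, mulAction_naturality, hy]

end Groth.Agent.S1188
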