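import Groth.Statements.S1190
import Groth.Agent.Lib.H6.GaloisX

set_option autoImplicit false
set_option linter.all false
universe u v w
open CategoryTheory PreGaloisCategory
open Pi1

namespace Groth.Agent.S1190

/-- Let H : C ⥤ C' and H' : C' ⥤ C'' be exact functors between Galois categories, F'' a fibre functor on
C'' with F'' ∘ H' and F'' ∘ H' ∘ H fibre functors, and h', h the induced homomorphisms of
fundamental groups. Then: h is surjective, h ∘ h' is trivial and the kernel of h is the closed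
normal subgroup generated by the image of h', if and only if H is fully faithful and its essential
image consists exactly of those X' in C' for which H'(X') is a finite coproduct of copies of the
final object. -/
theorem result {C C' C'' : Type u} [Category.{v} C] [Category.{v} C'] [Category.{v} C'']
    [GaloisCategory C] [GaloisCategory C'] [GaloisCategory C'']
    (H : C ⥤ C') [Limits.PreservesFiniteLimits H] [Limits.PreservesFiniteColimits H]
    (H' : C' ⥤ C'') [Limits.PreservesFiniteLimits H'] [Limits.PreservesFiniteColimits H']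
    (F'' : C'' ⥤ FintypeCat.{w}) [FiberFunctor F''] [FiberFunctor (H' ⋙ F'')] [FiberFunctor (H ⋙ (H' ⋙ F''))] :
    (Function.Surjective (Pi1X.autWhisker H (H' ⋙ F'')) ∧
      (∀ σ : Aut F'', Pi1X.autWhisker H (H' ⋙ F'') (Pi1X.autWhisker H' F'' σ) = 1) ∧
      (Pi1X.autWhisker H (H' ⋙ F'')).ker = (Subgroup.normalClosure (Set.range (Pi1X.autWhisker H' F''))).topologicalClosure) ↔
    ((H.Full ∧ H.Faithful) ∧
      ∀ X' : C', (∃ X : C, Nonempty (H.obj X ≅ X')) ↔ ∃ n : ℕ, Nonempty (H'.obj X' ≅ ∐ fun _ : Fin n => ⊤_ C'')) := by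
    have hN : (Subgroup.normalClosure (Set.range (Pi1X.autWhisker H' F''))).topologicalClosure.Normal :=
      Subgroup.is_normal_topologicalClosure _
    have htriv : ∀ (X' : C'), (∃ n : ℕ, Nonempty (H'.obj X' ≅ ∐ fun _ : Fin n => ⊤_ C'')) →
        ∀ τ ∈ (Subgroup.normalClosure (Set.range (Pi1X.autWhisker H' F''))).topologicalClosure,
          ∀ x : (H' ⋙ F'').obj X', τ • x = x := by
      intro X' hX' τ hτ x
      have h2 : Subgroup.normalClosure (Set.range (Pi1X.autWhisker H' F'')) ≤ MulAction.stabilizer (Aut (H' ⋙ F'')) x := by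
        have : Subgroup.normalClosure (Set.range (Pi1X.autWhisker H' F'')) ≤
            (MulAction.toPermHom (Aut (H' ⋙ F'')) ((H' ⋙ F'').obj X')).ker := by
          refine Subgroup.normalClosure_le_normal ?_
          rintro _ ⟨σ, rfl⟩
          exact Equiv.ext fun z => (Groth.Agent.H6.GaloisX.split_iff F'' (H'.obj X')).2 hX' σ z
        intro τ hτ
        exact congrArg (fun e : Equiv.Perm ((H' ⋙ F'').obj X') => e x) (this hτ)
      exact Subgroup.topologicalClosure_minimal _ h2
        (Subgroup.isClosed_of_isOpen _ (Groth.Agent.H6.GaloisX.isOpen_stabilizer (H' ⋙ F'') x)) hτ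
    constructor
    · rintro ⟨hsurj, hzero, hker⟩
      have hff : H.Full ∧ H.Faithful :=
        ⟨Groth.Agent.H6.GaloisX.full_of_surjective H (H' ⋙ F'') hsurj,
          Groth.Agent.H6.GaloisX.faithful_of_fiber H (H' ⋙ F'')⟩
      refine ⟨hff, fun X' => ⟨?_, fun hX' => ?_⟩⟩
      · rintro ⟨X, ⟨e⟩⟩
        obtain ⟨n, ⟨d⟩⟩ := (Groth.Agent.H6.GaloisX.split_iff F'' (H'.obj (H.obj X))).1 fun σ x =>
          (congrArg (fun τ : Aut (H ⋙ (H' ⋙ F'')) => τ • (show (H ⋙ (H' ⋙ F'')).obj X from x)) (hzero σ)).trans (one_smul _ _)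
        exact ⟨n, ⟨H'.mapIso e.symm ≪≫ d⟩⟩
      · let ρ : Aut (H ⋙ (H' ⋙ F'')) →* Equiv.Perm ((H' ⋙ F'').obj X') :=
          (Pi1X.autWhisker H (H' ⋙ F'')).liftOfSurjective hsurj
            ⟨MulAction.toPermHom (Aut (H' ⋙ F'')) ((H' ⋙ F'').obj X'), fun τ hτ => Equiv.ext fun x => htriv X' hX' τ (hker ▸ hτ) x⟩
        have hρ : ∀ (σ : Aut (H' ⋙ F'')) x, ρ (Pi1X.autWhisker H (H' ⋙ F'') σ) x = σ • x := fun σ x => by
          simp [ρ]
        letI : MulAction (Aut (H ⋙ (H' ⋙ F''))) ((H' ⋙ F'').obj X') := MulAction.compHom _ ρ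
        have hst : ∀ y : (H' ⋙ F'').obj X', IsClosed (MulAction.stabilizer (Aut (H ⋙ (H' ⋙ F''))) y : Set (Aut (H ⋙ (H' ⋙ F'')))) := fun y => by
          have : (MulAction.stabilizer (Aut (H ⋙ (H' ⋙ F''))) y : Set (Aut (H ⋙ (H' ⋙ F'')))) =
              Pi1X.autWhisker H (H' ⋙ F'') '' (MulAction.stabilizer (Aut (H' ⋙ F'')) y : Set (Aut (H' ⋙ F''))) := by
            ext τ
            obtain ⟨σ, rfl⟩ := hsurj τ
            constructor
            · exact fun h => ⟨σ, (hρ σ y).symm.trans h, rfl⟩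
            · rintro ⟨σ', h', he⟩
              rw [← he]
              exact (hρ σ' y).trans h'
          rw [this]
          exact ((Subgroup.isClosed_of_isOpen _ (Groth.Agent.H6.GaloisX.isOpen_stabilizer (H' ⋙ F'') y)).isCompact.image
            (Groth.Agent.H6.GaloisX.continuous_whisker H (H' ⋙ F''))).isClosed
        obtain ⟨X, e, he⟩ := Groth.Agent.H6.GaloisX.exists_obj_of_action (H ⋙ (H' ⋙ F'')) _ hst
        exact ⟨X, Groth.Agent.H6.GaloisX.nonempty_iso_of_equivariant (H' ⋙ F'') e
          fun σ x => (he (Pi1X.autWhisker H (H' ⋙ F'') σ) x).trans (hρ σ _)⟩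
    · rintro ⟨⟨hfull, hfaith⟩, hess⟩
      have hzero : ∀ σ : Aut F'', Pi1X.autWhisker H (H' ⋙ F'') (Pi1X.autWhisker H' F'' σ) = 1 := fun σ =>
        Aut.ext (NatTrans.ext (funext fun X => FintypeCat.hom_ext _ _ fun x =>
          (Groth.Agent.H6.GaloisX.split_iff F'' (H'.obj (H.obj X))).2 ((hess (H.obj X)).1 ⟨X, ⟨Iso.refl _⟩⟩) σ x))
      refine ⟨Groth.Agent.H6.GaloisX.surjective_of_full H (H' ⋙ F''), hzero, le_antisymm ?_ ?_⟩
      · intro τ hτ
        by_contra hn
        obtain ⟨X', a', hX', hle, hne⟩ := Groth.Agent.H6.GaloisX.exists_pointed_sep (H' ⋙ F'') _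
          (Subgroup.isClosed_topologicalClosure _) hn
        have hall : ∀ σ : Aut F'', ∀ x : F''.obj (H'.obj X'), σ • x = x := fun σ x => by
          obtain ⟨g, hg⟩ := MulAction.exists_smul_eq (Aut (H' ⋙ F'')) a' (show (H' ⋙ F'').obj X' from x)
          have hm : Pi1X.autWhisker H' F'' σ ∈ (Subgroup.normalClosure (Set.range (Pi1X.autWhisker H' F''))).topologicalClosure :=
            Subgroup.le_topologicalClosure _ (Subgroup.subset_normalClosure ⟨σ, rfl⟩)
          have := hle (hN.conj_mem _ hm g⁻¹)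
          rw [MulAction.mem_stabilizer_iff, inv_inv, mul_smul, mul_smul, hg, inv_smul_eq_iff, hg] at this
          exact this
        obtain ⟨X, ⟨e⟩⟩ := (hess X').2 ((Groth.Agent.H6.GaloisX.split_iff F'' (H'.obj X')).1 hall)
        apply hne
        have hx : (H' ⋙ F'').map e.hom ((H' ⋙ F'').map e.inv a') = a' := by
          rw [Groth.Agent.H6.GaloisX.map_map, Iso.inv_hom_id, (H' ⋙ F'').map_id, FintypeCat.id_apply]
        have hfix : τ • (H' ⋙ F'').map e.inv a' = (H' ⋙ F'').map e.inv a' :=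
          (congrArg (fun k : Aut (H ⋙ (H' ⋙ F'')) => k • (show (H ⋙ (H' ⋙ F'')).obj X from (H' ⋙ F'').map e.inv a'))
            (MonoidHom.mem_ker.1 hτ)).trans (one_smul _ _)
        rw [← hx, mulAction_naturality, hfix]
      · refine Subgroup.topologicalClosure_minimal _ (Subgroup.normalClosure_le_normal ?_) ?_
        · rintro _ ⟨σ, rfl⟩
          exact hzero σ
        · exact isClosed_singleton.preimage (Groth.Agent.H6.GaloisX.continuous_whisker H (H' ⋙ F''))

end Groth.Agent.S1190
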