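import Groth.Statements.S1191
import Mathlib
import Groth.Prelude.Def_FlatCA
import Groth.Agent.Lib.H2FiberMod

set_option autoImplicit false
universe u
open FlatMor

namespace Groth.Agent.S1191
open scoped TensorProduct
open Groth.Agent.H2WeakAss Groth.Agent.H2FiberMod
set_option linter.style.haveILetI false

open TensorProduct in
/-- For a finitely presented algebra S over R, a finitely presented S-module N and a prime q of S over
p, some element of S outside q maps into every associated prime of the fibre module of N over p that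
is not contained in the extension of q to the fibre ring. -/
theorem result {R S : Type u} [CommRing R] [CommRing S] [Algebra R S] [Algebra.FinitePresentation R S]
    (N : Type u) [AddCommGroup N] [Module S N] [Module R N] [IsScalarTower R S N] [Module.FinitePresentation S N]
    (p : Ideal R) [p.IsPrime] (q : Ideal S) [q.IsPrime] [q.LiesOver p] :
    ∃ g : S, g ∉ q ∧ ∀ r ∈ associatedPrimes (p.Fiber S) (FlatCA.fiberMod p S N),
      ¬ r ≤ FlatCA.fiberIdeal p q → (1 : p.ResidueField) ⊗ₜ[R] g ∈ r := by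
  classical
  letI : Algebra S (p.Fiber S) := Algebra.TensorProduct.rightAlgebra
  haveI : Algebra.FiniteType p.ResidueField (p.Fiber S) := inferInstance
  haveI : IsNoetherianRing (p.Fiber S) := Algebra.FiniteType.isNoetherianRing p.ResidueField _
  haveI : Module.Finite (p.Fiber S) (FlatCA.fiberMod p S N) :=
    inferInstanceAs (Module.Finite (p.Fiber S) ((p.Fiber S) ⊗[S] N))
  have hfin := associatedPrimes.finite (p.Fiber S) (FlatCA.fiberMod p S N)
  have key : ∀ r ∈ hfin.toFinset.filter fun r => ¬ r ≤ FlatCA.fiberIdeal p q,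
      ∃ s : S, s ∉ q ∧ ((1 : p.ResidueField) ⊗ₜ[R] s : p.Fiber S) ∈ r := by
    intro r hr
    obtain ⟨hr', hrq⟩ := Finset.mem_filter.1 hr
    obtain ⟨z, hz, hzq⟩ := SetLike.not_le_iff_exists.1 hrq
    obtain ⟨c, hc, s, hs⟩ := Ideal.Fiber.exists_smul_eq_one_tmul p z
    refine ⟨s, fun hsq => hzq ?_, by rw [← hs, Algebra.smul_def]; exact Ideal.mul_mem_left _ _ hz⟩
    have hu : IsUnit (algebraMap R (p.Fiber S) c) := by
      rw [IsScalarTower.algebraMap_apply R p.ResidueField (p.Fiber S)]
      exact (isUnit_iff_ne_zero.2 fun h0 => hc (Ideal.algebraMap_residueField_eq_zero.1 h0)).map _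
    refine (Ideal.unit_mul_mem_iff_mem _ hu).1 ?_
    rw [← Algebra.smul_def, hs]
    exact Ideal.mem_map_of_mem _ hsq
  choose! s hs hsr using key
  refine ⟨∏ r ∈ hfin.toFinset.filter fun r => ¬ r ≤ FlatCA.fiberIdeal p q, s r, fun h => ?_, fun r hr hrq => ?_⟩
  · obtain ⟨r, hr, h'⟩ := Ideal.IsPrime.prod_mem_iff.1 h
    exact hs r hr h'
  · have hmem : r ∈ hfin.toFinset.filter fun r => ¬ r ≤ FlatCA.fiberIdeal p q := Finset.mem_filter.2 ⟨hfin.mem_toFinset.2 hr, hrq⟩
    rw [← Finset.prod_erase_mul _ s hmem]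
    rw [show ((1 : p.ResidueField) ⊗ₜ[R] ((∏ x ∈ (hfin.toFinset.filter fun r => ¬ r ≤ FlatCA.fiberIdeal p q).erase r, s x) * s r) : p.Fiber S)
      = ((1 : p.ResidueField) ⊗ₜ[R] (∏ x ∈ (hfin.toFinset.filter fun r => ¬ r ≤ FlatCA.fiberIdeal p q).erase r, s x)) * ((1 : p.ResidueField) ⊗ₜ[R] s r) by
        rw [Algebra.TensorProduct.tmul_mul_tmul, one_mul]]
    exact Ideal.mul_mem_left _ _ (hsr r hmem)

end Groth.Agent.S1191
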