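import Groth.Statements.S1193
import Mathlib
import Groth.Prelude.Def_FlatCA
import Groth.Agent.Lib.H2FiberMod

set_option autoImplicit false
universe u
open FlatMor

namespace Groth.Agent.S1193
open scoped TensorProduct
open Groth.Agent.H2WeakAss Groth.Agent.H2FiberMod
open IsLocalRing
set_option linter.style.haveILetI false

open IsLocalRing in
/-- Let R be a local ring, S an R-algebra whose closed fibre ring is Noetherian and N an S-module whose
closed fibre module N/𝔪N is finite. Let Σ be the set of elements of S acting injectively on N/𝔪N.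
Then a prime of S is disjoint from Σ exactly when it lies inside an associated prime of N/𝔪N (the
primes of the localization at Σ), the localization of S at Σ has finitely many maximal ideals, and
an ideal of that localization is maximal exactly when it is prime and contracts to a maximal member
of the set of associated primes of N/𝔪N. -/
theorem result {R S : Type u} [CommRing R] [IsLocalRing R] [CommRing S] [Algebra R S]
    (N : Type u) [AddCommGroup N] [Module S N] [Module R N] [IsScalarTower R S N]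
    [IsNoetherianRing ((maximalIdeal R).Fiber S)]
    [Module.Finite ((maximalIdeal R).Fiber S) (FlatCA.fiberMod (maximalIdeal R) S N)] :
    (∀ (q : Ideal S) [q.IsPrime], Disjoint (q : Set S) (FlatCA.nzdFiber R S N) ↔
        ∃ q' ∈ associatedPrimes S (FlatCA.fiberMod (maximalIdeal R) S N), q ≤ q') ∧
    {Q : Ideal (Localization (FlatCA.nzdFiber R S N)) | Q.IsMaximal}.Finite ∧
    (∀ Q : Ideal (Localization (FlatCA.nzdFiber R S N)), Q.IsMaximal ↔ (Q.IsPrime ∧
        Maximal (fun r => r ∈ associatedPrimes S (FlatCA.fiberMod (maximalIdeal R) S N))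
          (Q.comap (algebraMap S (Localization (FlatCA.nzdFiber R S N)))))) := by
  classical
  set m := maximalIdeal R
  set X := FlatCA.fiberMod m S N
  let π : S →+* m.Fiber S := (Algebra.TensorProduct.includeRight (R := R) (A := m.ResidueField) (B := S)).toRingHom
  have hπ : ∀ (s : S) (x : X), π s • x = s • x := fun s x => includeRight_smul m s x
  have hfinF := associatedPrimes.finite (m.Fiber S) X
  let T : Finset (Ideal S) := hfinF.toFinset.image (Ideal.comap π)
  have hT : ∀ σ ∈ T, σ ∈ associatedPrimes S X := by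
    intro σ hσ
    obtain ⟨Q, hQ, rfl⟩ := Finset.mem_image.1 hσ
    obtain ⟨hQp, x, hx⟩ := hfinF.mem_toFinset.1 hQ
    refine ⟨hQp.comap π, x, ?_⟩
    rw [hx, Ideal.comap_radical]
    congr 1
  have hdisj : ∀ σ ∈ associatedPrimes S X, Disjoint (σ : Set S) (FlatCA.nzdFiber R S N : Set S) := by
    rintro σ ⟨hσp, x, hx⟩
    rw [Set.disjoint_left]
    intro s hs hnzd
    obtain ⟨n, hn⟩ := hx.le hs
    rw [Submodule.mem_colon_singleton, Submodule.mem_bot] at hn
    have hx0 : x = 0 := (pow_mem hnzd n : s ^ n ∈ nonZeroSMulDivisors S X) x hn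
    refine hσp.ne_top ((Ideal.eq_top_iff_one _).2 (hx.ge (Ideal.le_radical ?_)))
    rw [Submodule.mem_colon_singleton, Submodule.mem_bot, hx0, smul_zero]
  have hcover : ∀ q : Ideal S, Disjoint (q : Set S) (FlatCA.nzdFiber R S N : Set S) → ∃ σ ∈ T, q ≤ σ := by
    intro q hd
    have hsub : (q : Set S) ⊆ ⋃ σ ∈ (T : Set (Ideal S)), (σ : Set S) := by
      intro s hs
      have hns : s ∉ nonZeroSMulDivisors S X := Set.disjoint_left.1 hd hs
      have : ∃ x : X, x ≠ 0 ∧ π s • x = 0 := by
        by_contra hcon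
        push Not at hcon
        exact hns fun x hx => by_contra fun h0 => hcon x h0 (by rw [hπ]; exact hx)
      have hmem : π s ∈ ⋃ Q ∈ associatedPrimes (m.Fiber S) X, (Q : Set (m.Fiber S)) := by
        rw [biUnion_associatedPrimes_eq_zero_divisors]; exact this
      obtain ⟨Q, hQ, hsQ⟩ := Set.mem_iUnion₂.1 hmem
      exact Set.mem_iUnion₂.2 ⟨Q.comap π, Finset.mem_image.2 ⟨Q, hfinF.mem_toFinset.2 hQ, rfl⟩, hsQ⟩
    obtain ⟨σ, hσ, hle⟩ := (Ideal.subset_union_prime (f := id) ⊥ ⊥ fun σ hσ _ _ => (hT σ hσ).1).1 hsub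
    exact ⟨σ, hσ, hle⟩
  have hmax : ∀ Q : Ideal (Localization (FlatCA.nzdFiber R S N)), Q.IsMaximal →
      Q.comap (algebraMap S _) ∈ T ∧ Maximal (fun r => r ∈ associatedPrimes S X) (Q.comap (algebraMap S _)) := by
    intro Q hQ
    obtain ⟨hqp, hd⟩ := (IsLocalization.isPrime_iff_isPrime_disjoint (FlatCA.nzdFiber R S N) _ Q).1 hQ.isPrime
    obtain ⟨σ, hσ, hle⟩ := hcover _ hd.symm
    have key : ∀ r ∈ associatedPrimes S X, Q.comap (algebraMap S _) ≤ r → Q.comap (algebraMap S _) = r := by
      intro r hr hqr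
      have hrd := (hdisj r hr).symm
      have hp' : (r.map (algebraMap S (Localization (FlatCA.nzdFiber R S N)))).IsPrime :=
        IsLocalization.isPrime_of_isPrime_disjoint (FlatCA.nzdFiber R S N) _ r hr.1 hrd
      have hle' : Q ≤ r.map (algebraMap S _) := by
        rw [← IsLocalization.map_comap (FlatCA.nzdFiber R S N) _ Q]; exact Ideal.map_mono hqr
      rw [hQ.eq_of_le hp'.ne_top hle']
      exact IsLocalization.comap_map_of_isPrime_disjoint (FlatCA.nzdFiber R S N) _ hr.1 hrd
    have heq := key σ (hT σ hσ) hle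
    refine ⟨heq ▸ hσ, heq ▸ hT σ hσ, fun r hr hqr => (key r hr hqr).ge⟩
  refine ⟨fun q _ => ⟨fun hd => ?_, fun ⟨q', hq', hle⟩ => (hdisj q' hq').mono_left hle⟩, ?_, fun Q => ⟨fun hQ => ⟨hQ.isPrime, (hmax Q hQ).2⟩, fun ⟨hQp, hQm⟩ => ?_⟩⟩
  · obtain ⟨σ, hσ, hle⟩ := hcover q hd
    exact ⟨σ, hT σ hσ, hle⟩
  · refine Set.Finite.of_finite_image (f := Ideal.comap (algebraMap S (Localization (FlatCA.nzdFiber R S N)))) (T.finite_toSet.subset ?_) ?_
    · rintro _ ⟨Q, hQ, rfl⟩; exact (hmax Q hQ).1
    · intro Q _ Q' _ h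
      rw [← IsLocalization.map_comap (FlatCA.nzdFiber R S N) _ Q, ← IsLocalization.map_comap (FlatCA.nzdFiber R S N) _ Q']
      exact congrArg _ h
  · obtain ⟨M, hM, hle⟩ := Ideal.exists_le_maximal Q hQp.ne_top
    have h := hQm.2 (hT _ (hmax M hM).1) (Ideal.comap_mono hle)
    have : M ≤ Q := by
      rw [← IsLocalization.map_comap (FlatCA.nzdFiber R S N) _ M, ← IsLocalization.map_comap (FlatCA.nzdFiber R S N) _ Q]
      exact Ideal.map_mono h
    exact (le_antisymm hle this) ▸ hM

end Groth.Agent.S1193
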