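import Groth.Statements.S9664
import Mathlib
import Groth.Prelude.Def_FlatCA
import Groth.Agent.Lib.H2FiberMod

set_option autoImplicit false
universe u
open CAlg

namespace Groth.Agent.S9664
open scoped TensorProduct
open Groth.Agent.H2WeakAss Groth.Agent.H2FiberMod
set_option linter.style.haveILetI false

/-- Let R → S be a ring map, N an S-module, q a prime of S and p the prime of R below q; an associated
prime of a module is a prime ideal equal to the annihilator of some element. Then q is an associated
prime of the S-module N ⊗_R κ(p) (the fibre module of N over p, an S-module by restriction of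
scalars along S → S ⊗_R κ(p)) if and only if q is the inverse image in S of an associated prime of N
⊗_R κ(p) regarded as a module over the fibre ring S ⊗_R κ(p). -/
theorem result {R S : Type u} [CommRing R] [CommRing S] [Algebra R S] (N : Type u) [AddCommGroup N] [Module S N] [Module R N] [IsScalarTower R S N]
    (p : Ideal R) [p.IsPrime] (q : Ideal S) [q.IsPrime] (hq : q.comap (algebraMap R S) = p) :
    q ∈ FlatCA.ass S (FlatCA.fiberMod p S N) ↔
      ∃ Q ∈ FlatCA.ass (p.Fiber S) (FlatCA.fiberMod p S N),
        Q.comap (Algebra.TensorProduct.includeRight (R := R) (A := p.ResidueField) (B := S)).toRingHom = q := by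
  have key : ∀ x : FlatCA.fiberMod p S N, (Submodule.span (p.Fiber S) {x}).annihilator.comap (Algebra.TensorProduct.includeRight (R := R) (A := p.ResidueField) (B := S)).toRingHom = ann S x := fun x => by
    ext s
    rw [Ideal.mem_comap, Submodule.mem_annihilator_span_singleton, mem_ann, ← includeRight_smul p s x]
    rfl
  constructor
  · rintro ⟨hqp, x, hx⟩
    refine ⟨(Submodule.span (p.Fiber S) {x}).annihilator, ⟨⟨fun htop => ?_, fun {a b} hab => ?_⟩, x, rfl⟩, (key x).trans hx.symm⟩
    · exact hqp.ne_top (hx.trans ((key x).symm.trans (by rw [htop, Ideal.comap_top])))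
    · obtain ⟨r, hr, s, hs⟩ := Ideal.Fiber.exists_smul_eq_one_tmul p a
      obtain ⟨r', hr', t, ht⟩ := Ideal.Fiber.exists_smul_eq_one_tmul p b
      have hu : ∀ r : R, r ∉ p → IsUnit (algebraMap R (p.Fiber S) r) := fun r hr => by
        rw [IsScalarTower.algebraMap_apply R p.ResidueField (p.Fiber S)]
        exact (isUnit_iff_ne_zero.2 fun h0 => hr (Ideal.algebraMap_residueField_eq_zero.1 h0)).map _
      have hst : s * t ∈ q := by
        rw [hx]
        refine (key x).le (Ideal.mem_comap.2 ?_)
        show ((1 : p.ResidueField) ⊗ₜ[R] (s * t) : p.Fiber S) ∈ _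
        rw [show ((1 : p.ResidueField) ⊗ₜ[R] (s * t) : p.Fiber S) = ((1 : p.ResidueField) ⊗ₜ[R] s) * (1 ⊗ₜ[R] t) by
          rw [Algebra.TensorProduct.tmul_mul_tmul, one_mul], ← hs, ← ht, smul_mul_smul_comm, Algebra.smul_def]
        exact Ideal.mul_mem_left _ _ hab
      rcases hqp.mem_or_mem hst with h | h
      · refine Or.inl ?_
        have h' := (key x).ge (hx.le h)
        rw [Ideal.mem_comap] at h'
        change ((1 : p.ResidueField) ⊗ₜ[R] s : p.Fiber S) ∈ _ at h'
        rw [← hs, Algebra.smul_def] at h'
        exact ((Ideal.unit_mul_mem_iff_mem _ (hu r hr)).1 h')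
      · refine Or.inr ?_
        have h' := (key x).ge (hx.le h)
        rw [Ideal.mem_comap] at h'
        change ((1 : p.ResidueField) ⊗ₜ[R] t : p.Fiber S) ∈ _ at h'
        rw [← ht, Algebra.smul_def] at h'
        exact ((Ideal.unit_mul_mem_iff_mem _ (hu r' hr')).1 h')
  · rintro ⟨Q, ⟨hQ, x, hx⟩, hcom⟩
    exact ⟨inferInstance, x, hcom.symm.trans (by rw [hx]; exact key x)⟩

end Groth.Agent.S9664
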