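import Groth.Statements.S9669
import Mathlib
import Groth.Prelude.Def_FlatCA
import Groth.Agent.Lib.H2FiberMod

set_option autoImplicit false
universe u
open CAlg

namespace Groth.Agent.S9669
open scoped TensorProduct
open Groth.Agent.H2WeakAss Groth.Agent.H2FiberMod
set_option linter.style.haveILetI false

/-- Part (4): (A = A_fin = A'_fin): let R → S be a ring map, N an S-module flat over R and p a prime of
R; an associated prime of a module is a prime ideal equal to the annihilator of some element. Then
the set of associated primes of the S-module N/pN equals the set of associated primes of the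
S-module N ⊗_R κ(p) (the fibre module over p, an S-module by restriction of scalars), and every
prime in this set lies over p. -/
theorem result {R S : Type u} [CommRing R] [CommRing S] [Algebra R S] (N : Type u) [AddCommGroup N] [Module S N] [Module R N] [IsScalarTower R S N] [Module.Flat R N] (p : Ideal R) [p.IsPrime] :
    FlatCA.ass S (N ⧸ (p.map (algebraMap R S)) • (⊤ : Submodule S N)) = FlatCA.ass S (FlatCA.fiberMod p S N) ∧
      ∀ q ∈ FlatCA.ass S (N ⧸ (p.map (algebraMap R S)) • (⊤ : Submodule S N)), q.comap (algebraMap R S) = p := by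
  have hone : (1 : R) ∉ p := fun h => (inferInstance : p.IsPrime).ne_top ((Ideal.eq_top_iff_one _).2 h)
  have hz : ∀ n : N, toFib (S := S) p n = 0 ↔ (Submodule.Quotient.mk n : N ⧸ (p.map (algebraMap R S)) • (⊤ : Submodule S N)) = 0 := fun n => by
    rw [toFib_eq_zero_iff, Submodule.Quotient.mk_eq_zero]
    refine ⟨fun ⟨r, hr, h⟩ => ?_, fun h => ⟨1, hone, by rwa [map_one, one_smul]⟩⟩
    rw [mem_map_smul_top, algebraMap_smul] at h
    rw [mem_map_smul_top]
    exact mem_smul_top_of_smul_mem p hr h
  have hann : ∀ n : N, ann S (toFib (S := S) p n) = ann S (Submodule.Quotient.mk n : N ⧸ (p.map (algebraMap R S)) • (⊤ : Submodule S N)) := fun n => by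
    ext s
    rw [mem_ann, mem_ann, ← map_smul, hz, Submodule.Quotient.mk_smul]
  constructor
  · ext q
    constructor
    · rintro ⟨hqp, x, hx⟩
      obtain ⟨n, rfl⟩ := Submodule.Quotient.mk_surjective _ x
      exact ⟨hqp, toFib p n, hx.trans (hann n).symm⟩
    · rintro ⟨hqp, x, hx⟩
      obtain ⟨r, hr, n, hn⟩ := exists_smul_eq p x
      exact ⟨hqp, Submodule.Quotient.mk n, hx.trans ((ann_eq_of_smul_eq p hr hn).symm.trans (hann n))⟩
  · rintro q ⟨hqp, x, hx⟩
    obtain ⟨n, rfl⟩ := Submodule.Quotient.mk_surjective _ x
    refine le_antisymm (fun r hr => ?_) fun r hr => ?_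
    · by_contra hrp
      have h1 := mem_ann.1 (hx.le (Ideal.mem_comap.1 hr))
      rw [← Submodule.Quotient.mk_smul, Submodule.Quotient.mk_eq_zero, mem_map_smul_top, algebraMap_smul] at h1
      refine hqp.ne_top ((Ideal.eq_top_iff_one _).2 (hx.ge (mem_ann.2 ?_)))
      rw [one_smul, Submodule.Quotient.mk_eq_zero, mem_map_smul_top]
      exact mem_smul_top_of_smul_mem p hrp h1
    · refine Ideal.mem_comap.2 (hx.ge (mem_ann.2 ?_))
      rw [← Submodule.Quotient.mk_smul, Submodule.Quotient.mk_eq_zero]
      exact Submodule.smul_mem_smul (Ideal.mem_map_of_mem _ hr) trivial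

end Groth.Agent.S9669
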