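import Groth.Statements.S9670
import Mathlib
import Groth.Prelude.Def_FlatCA
import Groth.Agent.Lib.H2FiberMod
import Groth.Agent.S9669

set_option autoImplicit false
universe u
open CAlg

namespace Groth.Agent.S9670
open scoped TensorProduct
open Groth.Agent.H2WeakAss Groth.Agent.H2FiberMod
set_option linter.style.haveILetI false

open TensorProduct in
/-- Part (5): (B_fin ⊆ A_fin): let R → S be a ring map with R Noetherian, N an S-module flat over R, M a
finite R-module, q a prime of S and p the prime of R below q; an associated prime of a module is a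
prime ideal equal to the annihilator of some element. If q is an associated prime of the S-module N
⊗_R M, then q is an associated prime of the S-module N/pN. -/
theorem result {R S : Type u} [CommRing R] [CommRing S] [Algebra R S] (N : Type u) [AddCommGroup N] [Module S N] [Module R N] [IsScalarTower R S N] [IsNoetherianRing R] [Module.Flat R N]
    (M : Type u) [AddCommGroup M] [Module R M] [Module.Finite R M] (p : Ideal R) [p.IsPrime] (q : Ideal S) [q.IsPrime] (hq : q.comap (algebraMap R S) = p)
    (h : q ∈ FlatCA.ass S (N ⊗[R] M)) :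
    q ∈ FlatCA.ass S (N ⧸ (p.map (algebraMap R S)) • (⊤ : Submodule S N)) := by
  revert h
  refine IsNoetherianRing.induction_on_isQuotientEquivQuotientPrime R (M := M) inferInstance ?_ ?_ ?_
  · intro L _ _ _ _ h
    obtain ⟨hqp, z, hz⟩ := h
    haveI : Subsingleton (N ⊗[R] L) := inferInstance
    exact (hqp.ne_top ((Ideal.eq_top_iff_one _).2 (hz.ge (mem_ann.2 (Subsingleton.elim _ _))))).elim
  · intro L _ _ _ P e h
    obtain ⟨hqp, z, hz⟩ := h
    let g : N ⊗[R] L ≃ₗ[R] N ⧸ (P.asIdeal • ⊤ : Submodule R N) :=
      (e.lTensor N) ≪≫ₗ TensorProduct.comm R N _ ≪≫ₗ TensorProduct.quotTensorEquivQuotSMul N P.asIdeal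
    have hsm : ∀ (s : S) (z : N ⊗[R] L) (y : N), g z = Submodule.Quotient.mk y → g (s • z) = Submodule.Quotient.mk (s • y) := by
      intro s z
      induction z using TensorProduct.induction_on with
      | zero =>
        intro y hy
        rw [map_zero, eq_comm, Submodule.Quotient.mk_eq_zero, ← mem_map_smul_top (S := S)] at hy
        rw [smul_zero, map_zero, eq_comm, Submodule.Quotient.mk_eq_zero, ← mem_map_smul_top (S := S)]
        exact Submodule.smul_mem _ s hy
      | tmul n l =>
        intro y hy
        obtain ⟨a, ha⟩ := Ideal.Quotient.mk_surjective (e l)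
        have hg : ∀ n : N, g (n ⊗ₜ l) = Submodule.Quotient.mk (a • n) := fun n => by
          simp only [g, LinearEquiv.trans_apply, LinearEquiv.lTensor_tmul, TensorProduct.comm_tmul]
          rw [← ha, TensorProduct.quotTensorEquivQuotSMul_mk_tmul]
        rw [hg, Submodule.Quotient.eq, ← mem_map_smul_top (S := S)] at hy
        rw [TensorProduct.smul_tmul', hg, Submodule.Quotient.eq, ← mem_map_smul_top (S := S), smul_comm, ← smul_sub]
        exact Submodule.smul_mem _ s hy
      | add u v hu hv =>
        intro y hy
        obtain ⟨a, ha⟩ := Submodule.Quotient.mk_surjective _ (g u)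
        obtain ⟨b, hb⟩ := Submodule.Quotient.mk_surjective _ (g v)
        rw [map_add, ← ha, ← hb, ← Submodule.Quotient.mk_add, Submodule.Quotient.eq, ← mem_map_smul_top (S := S)] at hy
        rw [smul_add, map_add, hu a ha.symm, hv b hb.symm, ← Submodule.Quotient.mk_add, Submodule.Quotient.eq, ← mem_map_smul_top (S := S), ← smul_add, ← smul_sub]
        exact Submodule.smul_mem _ s hy
    obtain ⟨y, hy⟩ := Submodule.Quotient.mk_surjective _ (g z)
    have hmem : q ∈ FlatCA.ass S (N ⧸ (P.asIdeal.map (algebraMap R S)) • (⊤ : Submodule S N)) := by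
      refine ⟨hqp, Submodule.Quotient.mk y, hz.trans ?_⟩
      ext s
      rw [Submodule.mem_annihilator_span_singleton, Submodule.mem_annihilator_span_singleton, ← g.map_eq_zero_iff, hsm s z y hy.symm,
        ← Submodule.Quotient.mk_smul, Submodule.Quotient.mk_eq_zero, Submodule.Quotient.mk_eq_zero, mem_map_smul_top]
    have hP : q.comap (algebraMap R S) = P.asIdeal := (Groth.Agent.S9669.result N P.asIdeal).2 q hmem
    rw [← hq, hP]
    exact hmem
  · intro L₁ _ _ _ L₂ _ _ _ L₃ _ _ _ f g hf hg hfg h1 h3 h
    obtain ⟨hqp, z, hz⟩ := h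
    let G := TensorProduct.AlgebraTensorModule.lTensor S N g
    let F := TensorProduct.AlgebraTensorModule.lTensor S N f
    have hFinj : Function.Injective F := Module.Flat.lTensor_preserves_injective_linearMap f hf
    have hex : Function.Exact F G := Module.Flat.lTensor_exact N hfg
    by_cases hc : ∀ s, s • G z = 0 → s ∈ q
    · exact h3 ⟨hqp, G z, le_antisymm (fun s hs => mem_ann.2 (by rw [← map_smul, mem_ann.1 (hz.le hs), map_zero])) fun s hs => hc s (mem_ann.1 hs)⟩
    · push Not at hc
      obtain ⟨t, ht, htq⟩ := hc
      obtain ⟨w, hw⟩ := (hex (t • z)).1 (by rw [map_smul]; exact ht)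
      refine h1 ⟨hqp, w, le_antisymm (fun s hs => mem_ann.2 (hFinj ?_)) fun s hs => ?_⟩
      · rw [map_smul, hw, map_zero, smul_comm, mem_ann.1 (hz.le hs), smul_zero]
      · have h2 := congrArg F (mem_ann.1 hs)
        rw [map_smul, hw, map_zero, ← mul_smul] at h2
        exact (hqp.mem_or_mem (hz.ge (mem_ann.2 h2))).resolve_right htq


end Groth.Agent.S9670
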