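import Groth.Statements.S1199
import Mathlib
import Groth.Prelude.Def_FlatCA
import Groth.Agent.Lib.H2FiberMod
import Groth.Agent.S9664
import Groth.Agent.S9669
import Groth.Agent.S9670

set_option autoImplicit false
universe u
open FlatMor

namespace Groth.Agent.S1199
open scoped TensorProduct
open Groth.Agent.H2WeakAss Groth.Agent.H2FiberMod
set_option linter.style.haveILetI false

open TensorProduct in
/-- Let R → S be a map of Noetherian rings, I an ideal of R and N a finite S-module. Assume that for
every finite R-module Q and every associated prime q of the S-module N ⊗_R Q the ideal IS + q is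
proper. Then the canonical map from N to its I-adic completion is universally injective as a map of
R-modules. -/
theorem result {R S : Type u} [CommRing R] [CommRing S] [Algebra R S] [IsNoetherianRing R] [IsNoetherianRing S] (I : Ideal R)
    (N : Type u) [AddCommGroup N] [Module S N] [Module R N] [IsScalarTower R S N] [Module.Finite S N]
    (h : ∀ (Q : Type u) [AddCommGroup Q] [Module R Q], Module.Finite R Q →
      ∀ q ∈ associatedPrimes S (N ⊗[R] Q), I.map (algebraMap R S) ⊔ q ≠ ⊤) :
    FlatCA.UnivInj R (AdicCompletion.of I N) := by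
  intro Q _ _
  have hfinQ : ∀ (P : Submodule R Q), P.FG → ∀ y : P ⊗[R] N, (AdicCompletion.of I N).lTensor P y = 0 → y = 0 := by
    intro P hPfg y hy
    haveI : Module.Finite R P := Module.Finite.iff_fg.2 hPfg
    by_contra hne
    let z : N ⊗[R] P := TensorProduct.comm R P N y
    have hmem : ∀ n : ℕ, z ∈ ((I.map (algebraMap R S)) ^ n • ⊤ : Submodule S (N ⊗[R] P)) := by
      intro n
      have h0 : (Submodule.mkQ (I ^ n • ⊤ : Submodule R N)).rTensor P z = 0 := by
        have h1 := congrArg (TensorProduct.comm R P (AdicCompletion I N)) hy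
        rw [map_zero] at h1
        have h2 : (AdicCompletion.of I N).rTensor P z = 0 := by
          rw [← h1]
          show ((AdicCompletion.of I N).rTensor P ∘ₗ (TensorProduct.comm R P N).toLinearMap) y = ((TensorProduct.comm R P (AdicCompletion I N)).toLinearMap ∘ₗ (AdicCompletion.of I N).lTensor P) y
          congr 1
          ext a b; rfl
        rw [← AdicCompletion.eval_comp_of, LinearMap.rTensor_comp_apply, h2, map_zero]
      obtain ⟨w, hw⟩ := (rTensor_exact P (LinearMap.exact_subtype_mkQ _) (Submodule.mkQ_surjective _) z).1 h0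
      rw [← hw]
      clear hw h0
      induction w using TensorProduct.induction_on with
      | zero => rw [map_zero]; exact Submodule.zero_mem _
      | add a b ha hb => rw [map_add]; exact Submodule.add_mem _ ha hb
      | tmul a q =>
        rw [LinearMap.rTensor_tmul, Submodule.subtype_apply]
        obtain ⟨a, ha⟩ := a
        show a ⊗ₜ[R] q ∈ _
        refine Submodule.smul_induction_on ha ?_ fun u v hu hv => by rw [TensorProduct.add_tmul]; exact Submodule.add_mem _ hu hv
        intro r hr m _
        rw [← algebraMap_smul S r m, ← TensorProduct.smul_tmul', ← Ideal.map_pow]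
        exact Submodule.smul_mem_smul (Ideal.mem_map_of_mem _ hr) trivial
    haveI : Module.Finite S (N ⊗[R] P) :=
      Module.Finite.equiv (TensorProduct.AlgebraTensorModule.cancelBaseChange R S S N P)
    obtain ⟨j, hj⟩ := (Ideal.mem_iInf_smul_pow_eq_bot_iff (I.map (algebraMap R S)) z).1 (Submodule.mem_iInf _ |>.2 hmem)
    have hz : z ≠ 0 := fun h0 => hne ((TensorProduct.comm R P N).map_eq_zero_iff.1 h0)
    obtain ⟨q, hq, hle⟩ := exists_le_isAssociatedPrime_of_isNoetherianRing S z hz
    refine h P inferInstance q hq ((Ideal.eq_top_iff_one _).2 ?_)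
    have hmemq : (1 - (j : S)) ∈ q := hle (Submodule.mem_colon_singleton.2 (by
      rw [Submodule.mem_bot, sub_smul, one_smul, hj, sub_self]))
    exact Submodule.mem_sup.2 ⟨j, j.2, 1 - j, hmemq, add_sub_cancel _ _⟩
  refine (injective_iff_map_eq_zero _).2 fun y hy => ?_
  obtain ⟨P, hPfin, hP⟩ := TensorProduct.exists_finite_submodule_left_of_setFinite {y} (Set.finite_singleton y)
  obtain ⟨y₀, rfl⟩ := hP rfl
  rw [← LinearMap.comp_apply, LinearMap.lTensor_comp_rTensor, ← LinearMap.rTensor_comp_lTensor, LinearMap.comp_apply] at hy
  obtain ⟨P', hle, hP'fg, h0⟩ := TensorProduct.eq_zero_of_fg_of_subtype_eq_zero (Module.Finite.iff_fg.1 hPfin) hy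
  rw [← LinearMap.comp_apply, LinearMap.rTensor_comp_lTensor, ← LinearMap.lTensor_comp_rTensor, LinearMap.comp_apply] at h0
  rw [← Submodule.subtype_comp_inclusion P P' hle, LinearMap.rTensor_comp_apply, hfinQ P' hP'fg _ h0, map_zero]

end Groth.Agent.S1199
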