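import Groth.Statements.S1200
import Mathlib
import Groth.Prelude.Def_FlatCA
import Groth.Agent.Lib.H2FiberMod
import Groth.Agent.S9664
import Groth.Agent.S9669
import Groth.Agent.S9670
import Groth.Agent.S1199

set_option autoImplicit false
universe u
open FlatMor

namespace Groth.Agent.S1200
open scoped TensorProduct
open Groth.Agent.H2WeakAss Groth.Agent.H2FiberMod
set_option linter.style.haveILetI false

/-- Let R → S be a map of Noetherian rings, I an ideal of R and N a finite S-module which is flat over
R. Assume that for every prime q of S, over p in R, whose extension to the fibre ring over p is an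
associated prime of the fibre module of N, the ideal IS + q is proper. Then the canonical map from N
to its I-adic completion is universally injective as a map of R-modules. -/
theorem result {R S : Type u} [CommRing R] [CommRing S] [Algebra R S] [IsNoetherianRing R] [IsNoetherianRing S] (I : Ideal R)
    (N : Type u) [AddCommGroup N] [Module S N] [Module R N] [IsScalarTower R S N] [Module.Finite S N] [Module.Flat R N]
    (h : ∀ (p : Ideal R) (q : Ideal S) [p.IsPrime] [q.IsPrime] [q.LiesOver p],
      FlatCA.fiberIdeal p q ∈ associatedPrimes (p.Fiber S) (FlatCA.fiberMod p S N) → I.map (algebraMap R S) ⊔ q ≠ ⊤) :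
    FlatCA.UnivInj R (AdicCompletion.of I N) := by
  refine Groth.Agent.S1199.result (S := S) I N fun M _ _ hM q hq => ?_
  haveI := hM
  obtain ⟨hqp, z, hz⟩ := isAssociatedPrime_iff.1 hq
  have hz' : q ∈ FlatCA.ass S (N ⊗[R] M) := ⟨hqp, z, hz.trans (by
    ext s; rw [Submodule.mem_colon_singleton, Submodule.mem_bot, Submodule.mem_annihilator_span_singleton])⟩
  haveI := hqp
  haveI hp : (q.comap (algebraMap R S)).IsPrime := Ideal.comap_isPrime _ _
  haveI : q.LiesOver (q.comap (algebraMap R S)) := ⟨rfl⟩
  set p := q.comap (algebraMap R S)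
  have h2 := (Groth.Agent.S9669.result (S := S) N p).1.le (Groth.Agent.S9670.result N M p q rfl hz')
  obtain ⟨Q, ⟨hQp, x, hx⟩, hQ⟩ := (Groth.Agent.S9664.result N p q rfl).1 h2
  refine h p q ?_
  have hfib : FlatCA.fiberIdeal p q = Q := by
    refine le_antisymm (Ideal.map_le_iff_le_comap.2 hQ.ge) fun a ha => ?_
    obtain ⟨r, hr, s, hs⟩ := Ideal.Fiber.exists_smul_eq_one_tmul p a
    have hu : IsUnit (algebraMap R (p.Fiber S) r) := by
      rw [IsScalarTower.algebraMap_apply R p.ResidueField (p.Fiber S)]
      exact (isUnit_iff_ne_zero.2 fun h0 => hr (Ideal.algebraMap_residueField_eq_zero.1 h0)).map _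
    refine (Ideal.unit_mul_mem_iff_mem _ hu).1 ?_
    rw [← Algebra.smul_def, hs]
    refine Ideal.mem_map_of_mem _ (hQ.le (Ideal.mem_comap.2 ?_))
    show ((1 : p.ResidueField) ⊗ₜ[R] s : p.Fiber S) ∈ Q
    rw [← hs, Algebra.smul_def]
    exact Ideal.mul_mem_left _ _ ha
  rw [hfib]
  refine ⟨hQp, x, ?_⟩
  have e : (⊥ : Submodule (p.Fiber S) (FlatCA.fiberMod p S N)).colon {x} = Q := by
    rw [hx]; ext s; rw [Submodule.mem_colon_singleton, Submodule.mem_bot, Submodule.mem_annihilator_span_singleton]
  rw [e, (hQp.isRadical).radical]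

end Groth.Agent.S1200
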