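import Groth.Statements.S12058
import Mathlib

set_option autoImplicit false
universe w v u
open CategoryTheory CategoryTheory.Limits CategoryTheory.Abelian
open SGA3

namespace Groth.Agent.S12058

/-- In an abelian category, let 0 → A' → A → A'' → 0 be a short exact sequence, φ : A' ⟶ Q a morphism
and π : A'' ⟶ P an epimorphism with kernel C. Consider the quadruples (B, f, g, h) with 0 → Q → B →
P → 0 short exact (maps f, g) and h : A ⟶ B such that the squares commute: (A' → A → B) = (A' → Q →
B) and (A → B → P) = (A → A'' → P). Such a quadruple exists if and only if the image in Ext¹(C, Q)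
of the class of the given extension in Ext¹(A'', A') (push forward along φ, pull back along the
inclusion C → A'') is zero. -/
theorem result {C : Type u} [Category.{v} C] [Abelian C]
    [HasExt.{w} C] {S : ShortComplex C} (hS : S.ShortExact) {Q P : C} (φ : S.X₁ ⟶ Q) (π : S.X₃ ⟶ P) [Epi π] :
    (∃ (B : C) (f : Q ⟶ B) (g : B ⟶ P) (h : S.X₂ ⟶ B) (w : f ≫ g = 0),
        (ShortComplex.mk f g w).ShortExact ∧ S.f ≫ h = φ ≫ f ∧ h ≫ g = S.g ≫ π) ↔
      (Ext.mk₀ (kernel.ι π)).comp (hS.extClass.comp (Ext.mk₀ φ) (add_zero 1)) (zero_add 1) = 0 := by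
  constructor
  · rintro ⟨B, f, g, h, w, hse, h1, h2⟩
    let F : S ⟶ ShortComplex.mk f g w := { τ₁ := φ, τ₂ := h, τ₃ := π, comm₁₂ := h1.symm, comm₂₃ := h2 }
    have hn := ShortComplex.ShortExact.extClass_naturality hS hse F
    rw [hn, ← Ext.comp_assoc (a₁₂ := 0) _ _ _ (by lia) (by lia) (by lia), Ext.mk₀_comp_mk₀, kernel.condition,
      Ext.mk₀_zero, Ext.zero_comp]
  · intro h0
    haveI := hS.mono_f
    haveI := hS.epi_g
    let B' := pushout S.f φ
    let q : B' ⟶ S.X₃ := pushout.desc S.g 0 (by simp)
    have hiq : pushout.inr S.f φ ≫ q = 0 := pushout.inr_desc _ _ _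
    haveI : Epi q := epi_of_epi_fac (pushout.inl_desc S.g 0 (by simp))
    have hcok : IsColimit (CokernelCofork.ofπ q hiq) := CokernelCofork.IsColimit.ofπ q hiq
      (fun k hk => hS.exact.desc (pushout.inl S.f φ ≫ k) (by rw [← Category.assoc, pushout.condition, Category.assoc, hk, comp_zero]))
      (fun k hk => by
        apply pushout.hom_ext
        · rw [← Category.assoc, pushout.inl_desc, hS.exact.g_desc]
        · rw [← Category.assoc, pushout.inr_desc, zero_comp, hk])
      (fun k hk m hm => by
        rw [← cancel_epi q, hm]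
        apply pushout.hom_ext
        · rw [← Category.assoc, pushout.inl_desc, hS.exact.g_desc]
        · rw [← Category.assoc, pushout.inr_desc, zero_comp, hk])
    let T := ShortComplex.mk (pushout.inr S.f φ) q hiq
    have hTex : T.Exact := ShortComplex.exact_of_g_is_cokernel T hcok
    have hT : T.ShortExact := ShortComplex.ShortExact.mk' hTex (show Mono (pushout.inr S.f φ) from inferInstance) (show Epi q from inferInstance)
    let F : S ⟶ T := { τ₁ := φ, τ₂ := pushout.inl S.f φ, τ₃ := 𝟙 _, comm₁₂ := pushout.condition.symm,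
                       comm₂₃ := (pushout.inl_desc _ _ _).trans (Category.comp_id _).symm }
    have hn := ShortComplex.ShortExact.extClass_naturality hS hT F
    rw [Ext.mk₀_id_comp] at hn
    rw [hn] at h0
    obtain ⟨x₂, hx₂⟩ := Ext.covariant_sequence_exact₃ (kernel π) hT (Ext.mk₀ (kernel.ι π)) (n₁ := 1) (by lia) h0
    obtain ⟨s, rfl⟩ : ∃ s : kernel π ⟶ B', Ext.mk₀ s = x₂ := ⟨Ext.homEquiv₀ x₂, Ext.mk₀_homEquiv₀_apply x₂⟩
    rw [Ext.mk₀_comp_mk₀] at hx₂
    have hs : s ≫ q = kernel.ι π := (Ext.mk₀_bijective _ _).1 hx₂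
    let g : cokernel s ⟶ P := cokernel.desc s (q ≫ π) (by rw [← Category.assoc, hs, kernel.condition])
    haveI : Epi g := epi_of_epi_fac (cokernel.π_desc s (q ≫ π) (by rw [← Category.assoc, hs, kernel.condition]))
    have hfg : (pushout.inr S.f φ ≫ cokernel.π s) ≫ g = 0 := by
      rw [Category.assoc, cokernel.π_desc, ← Category.assoc, hiq, zero_comp]
    have hsex : (ShortComplex.mk s (cokernel.π s) (cokernel.condition s)).Exact :=
      ShortComplex.exact_of_g_is_cokernel _ (cokernelIsCokernel s)
    haveI : Mono (pushout.inr S.f φ ≫ cokernel.π s) := by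
      refine Preadditive.mono_of_cancel_zero _ fun {A} y hy => ?_
      obtain ⟨A', p, hp, z, hz⟩ := hsex.exact_up_to_refinements (y ≫ pushout.inr S.f φ) (by rw [Category.assoc]; exact hy)
      have h3 := congrArg (fun m => m ≫ q) hz
      simp only [Category.assoc, hiq, comp_zero, hs] at h3
      have hz0 : z = 0 := zero_of_comp_mono (kernel.ι π) h3.symm
      rw [hz0, zero_comp] at hz
      have h4 : p ≫ y = 0 := zero_of_comp_mono (pushout.inr S.f φ) (by rw [Category.assoc]; exact hz)
      exact zero_of_epi_comp p h4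
    refine ⟨cokernel s, pushout.inr S.f φ ≫ cokernel.π s, g, pushout.inl S.f φ ≫ cokernel.π s, hfg, ?_, ?_, ?_⟩
    · refine ShortComplex.ShortExact.mk' ?_ (show Mono (pushout.inr S.f φ ≫ cokernel.π s) from inferInstance) (show Epi g from inferInstance)
      rw [ShortComplex.exact_iff_exact_up_to_refinements]
      intro A x hx
      obtain ⟨A₁, p₁, hp₁, x', hx'⟩ := surjective_up_to_refinements_of_epi (cokernel.π s) x
      have h5 : (x' ≫ q) ≫ π = 0 := by
        rw [Category.assoc, ← cokernel.π_desc s (q ≫ π) (by rw [← Category.assoc, hs, kernel.condition]), ← Category.assoc, ← hx',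
          Category.assoc]
        rw [show x ≫ g = 0 from hx, comp_zero]
      have h6 : (x' - kernel.lift π (x' ≫ q) h5 ≫ s) ≫ q = 0 := by
        rw [Preadditive.sub_comp, Category.assoc, hs, kernel.lift_ι, sub_self]
      obtain ⟨A₂, p₂, hp₂, y, hy⟩ := hTex.exact_up_to_refinements _ h6
      refine ⟨A₂, p₂ ≫ p₁, epi_comp _ _, y, ?_⟩
      show (p₂ ≫ p₁) ≫ x = y ≫ pushout.inr S.f φ ≫ cokernel.π s
      rw [Category.assoc, hx', ← Category.assoc y]
      rw [show y ≫ pushout.inr S.f φ = p₂ ≫ (x' - kernel.lift π (x' ≫ q) h5 ≫ s) from hy.symm, Category.assoc, Preadditive.sub_comp, Category.assoc, cokernel.condition, comp_zero, sub_zero]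
    · rw [← Category.assoc, pushout.condition, Category.assoc]
    · rw [Category.assoc, cokernel.π_desc, ← Category.assoc, pushout.inl_desc]

end Groth.Agent.S12058
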