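import Groth.Statements.S12059
import Groth.Agent.Lib.H6.QuotSpec

set_option autoImplicit false
set_option backward.isDefEq.respectTransparency.types false
set_option linter.all false
universe u
open CategoryTheory CategoryTheory.Limits AlgebraicGeometry
open SGA1

namespace Groth.Agent.S12059

/-- Let a finite group G act on a commutative ring A by ring automorphisms σ_g, and let B → A be
injective, G-equivariant for the trivial action on B, with image containing all G-invariants (so B
is the ring of invariants A^G). Let ρ be an action of G on Spec A by scheme automorphisms whose
automorphisms are exactly the maps Spec(σ_g). Then Spec A ⟶ Spec B is a quotient of Spec A by G, and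
the structure sheaf of Spec B is the sheaf of G-invariants of the direct image of the structure
sheaf of Spec A: the map is affine and G-invariant, and for every open U of Spec B the sections of
the structure sheaf of Spec B over U map injectively onto the G-invariant sections of the structure
sheaf of Spec A over the inverse image of U. -/
theorem result (G : Type u) [Group G] [Finite G] (A B : Type u) [CommRing A] [CommRing B]
    [Algebra B A] [MulSemiringAction G A] [SMulCommClass G B A] [Algebra.IsInvariant B A G] [FaithfulSMul B A]
    (ρ : G →* Aut (Spec (CommRingCat.of A)))
    (hρ : Set.range (fun g : G => (ρ g).hom) =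
      Set.range (fun g : G => Spec.map (CommRingCat.ofHom (MulSemiringAction.toRingHom G A g)))) :
    SGA1.IsQuot ρ (Spec.map (CommRingCat.ofHom (algebraMap B A))) := by
  refine H6.QuotSpec.isQuot (φ := CommRingCat.ofHom (algebraMap B A))
    (σ := fun g : G => CommRingCat.ofHom (MulSemiringAction.toRingHom G A g)) ρ (fun g => ?_) (FaithfulSMul.algebraMap_injective B A)
    (fun a ha => Algebra.IsInvariant.isInvariant (A := B) a ha) (fun g => ?_) (fun g' => ?_)
  · ext b
    exact smul_algebraMap g b
  · obtain ⟨g', hg'⟩ := hρ.le ⟨g, rfl⟩
    exact ⟨g', hg'.symm⟩
  · exact hρ.ge ⟨g', rfl⟩

end Groth.Agent.S12059
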