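import Mathlib
import Groth.Statements.S1206
-- import your own Groth.Agent.* helpers here

set_option autoImplicit false
universe u
open FlatMor

namespace Groth.Agent.S1206

/-- Let A be a local domain which is not a field and 𝒮 a set of finitely generated ideals of A, closed
under products, such that the union of the closed sets V(I), I ∈ 𝒮, is exactly the set of nonzero
primes (every nonzero prime contains a member of 𝒮 and no member is zero). Then the intersection of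
all members of 𝒮 is zero. -/
theorem result (A : Type u) [CommRing A] [IsDomain A] [IsLocalRing A] (hA : ¬ IsField A)
    (𝒮 : Set (Ideal A)) (hfg : ∀ I ∈ 𝒮, I.FG) (hmul : ∀ I ∈ 𝒮, ∀ J ∈ 𝒮, I * J ∈ 𝒮)
    (hne : ∀ I ∈ 𝒮, I ≠ ⊥) (hcov : ∀ (p : Ideal A), p.IsPrime → p ≠ ⊥ → ∃ I ∈ 𝒮, I ≤ p) :
    sInf 𝒮 = ⊥ := by
  rw [eq_bot_iff]
  intro x hx
  rw [Ideal.mem_bot]
  by_contra hx0
  have hxI : ∀ I ∈ 𝒮, x ∈ I := fun I hI => Submodule.mem_sInf.1 hx I hI
  have hm0 : IsLocalRing.maximalIdeal A ≠ ⊥ := fun h => hA (IsLocalRing.isField_iff_maximalIdeal_eq.2 h)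
  obtain ⟨I₀, hI₀, hI₀m⟩ := hcov _ (IsLocalRing.maximalIdeal.isMaximal A).isPrime hm0
  have hxm : x ∈ IsLocalRing.maximalIdeal A := hI₀m (hxI I₀ hI₀)
  by_cases hex : ∃ I ∈ 𝒮, I ≤ Ideal.span {x ^ 2}
  · obtain ⟨I, hI, hle⟩ := hex
    obtain ⟨c, hc⟩ := Ideal.mem_span_singleton.1 (hle (hxI I hI))
    have h1 : x * c = 1 := mul_left_cancel₀ hx0 (by linear_combination -hc)
    exact (IsLocalRing.mem_maximalIdeal x).1 hxm (IsUnit.of_mul_eq_one c h1)
  · push Not at hex
    let C : Set (Ideal A) := {K | ∀ I ∈ 𝒮, ¬ I ≤ K}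
    obtain ⟨P, hxP, hP⟩ := zorn_le_nonempty₀ C (fun c hc hchain y hy => by
      refine ⟨sSup c, fun I hI hle => ?_, fun z hz => le_sSup hz⟩
      obtain ⟨z, hz, hIz⟩ := (CompleteLattice.isCompactElement_iff_le_of_directed_sSup_le _ I).1
        ((Submodule.fg_iff_compact I).1 (hfg I hI)) c ⟨y, hy⟩ hchain.directedOn hle
      exact hc hz I hI hIz) (Ideal.span {x ^ 2}) hex
    have hPC : ∀ I ∈ 𝒮, ¬ I ≤ P := hP.1
    have hbig : ∀ a ∉ P, ∃ I ∈ 𝒮, I ≤ P ⊔ Ideal.span {a} := fun a ha => by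
      by_contra h
      push Not at h
      exact ha (hP.2 (y := P ⊔ Ideal.span {a}) h le_sup_left (Ideal.mem_sup_right (Ideal.mem_span_singleton_self a)))
    have hprime : P.IsPrime := by
      refine Ideal.isPrime_iff.2 ⟨fun h => hPC I₀ hI₀ (h ▸ le_top), fun {a b} hab => ?_⟩
      by_contra h
      push Not at h
      obtain ⟨I, hI, hIa⟩ := hbig a h.1
      obtain ⟨J, hJ, hJb⟩ := hbig b h.2
      refine hPC _ (hmul I hI J hJ) ((Ideal.mul_mono hIa hJb).trans ?_)
      rw [Ideal.sup_mul, Ideal.mul_sup, Ideal.mul_sup, Ideal.span_singleton_mul_span_singleton]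
      exact sup_le (sup_le Ideal.mul_le_right Ideal.mul_le_left) (sup_le Ideal.mul_le_right ((Ideal.span_singleton_le_iff_mem _).2 hab))
    obtain ⟨I, hI, hIP⟩ := hcov P hprime (fun h => hx0 (pow_eq_zero_iff two_ne_zero |>.1 (by
      have := hxP (Ideal.mem_span_singleton_self (x ^ 2)); rwa [h, Ideal.mem_bot] at this)))
    exact hPC I hI hIP

end Groth.Agent.S1206
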