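import Mathlib
import Groth.Statements.S1207
-- import your own Groth.Agent.* helpers here

set_option autoImplicit false
universe u
open FlatMor

namespace Groth.Agent.S1207

/-- Let A be a local ring and I, J ideals of A with J finitely generated, J ≠ A, and I ⊆ J^n for all n ≥
1. Then every prime p not containing J which is maximal among the primes not containing J (a closed
point of Spec A ∖ V(J)) contains I. (The published statement leaves the hypothesis J ≠ A implicit;
for J = A the assertion fails.) -/
theorem result (A : Type u) [CommRing A] [IsLocalRing A] (I J : Ideal A) (hJ : J.FG) (hJ1 : J ≠ ⊤)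
    (hI : ∀ n : ℕ, 1 ≤ n → I ≤ J ^ n) (p : Ideal A) [p.IsPrime] (hp : ¬ J ≤ p)
    (hmax : ∀ (p' : Ideal A), p'.IsPrime → p ≤ p' → ¬ J ≤ p' → p' = p) : I ≤ p := by
  classical
  intro x hx
  by_contra hxp
  have hrad : J ≤ (p ⊔ Ideal.span {x}).radical := by
    rw [Ideal.radical_eq_sInf]
    refine le_sInf fun q hq => ?_
    by_contra hJq
    have := hmax q hq.2 (le_sup_left.trans hq.1) hJq
    exact hxp (this ▸ hq.1 (Ideal.mem_sup_right (Ideal.mem_span_singleton_self x)))
  obtain ⟨m, hm⟩ := Ideal.exists_pow_le_of_le_radical_of_fg hrad hJ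
  have hle : J ^ m ≤ p ⊔ J • (J ^ m : Ideal A) := by
    refine hm.trans (sup_le_sup_left ?_ p)
    rw [Ideal.span_singleton_le_iff_mem, smul_eq_mul, ← pow_succ']
    exact hI (m + 1) (by omega) hx
  have h2 : J ^ m ≤ p := Submodule.le_of_le_smul_of_le_jacobson_bot (hJ.pow)
    (by rw [IsLocalRing.jacobson_eq_maximalIdeal _ bot_ne_top]; exact IsLocalRing.le_maximalIdeal hJ1) hle
  exact hp ((Ideal.IsPrime.le_of_pow_le h2))

end Groth.Agent.S1207
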