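import Groth.Statements.S12071
import Mathlib

set_option autoImplicit false
open RootD

namespace Groth.Agent.S12071

/-- Let G be the group generated by two elements x, y subject to x² = y² = 1 (the infinite dihedral
group; here Mathlib's DihedralGroup 0 with x = sr 0 and y = sr 1, so that x y = r 1). Then every
normal subgroup of G containing neither x nor y is generated by an element (x y)^n with n > 0; such
a subgroup is cyclic, generated by r n. (The published statement does not exclude the trivial
subgroup, for which no n > 0 works; this row assumes the subgroup nontrivial.) -/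
theorem result (N : Subgroup (DihedralGroup 0)) [N.Normal]
    (hN : N ≠ ⊥) (hx : DihedralGroup.sr (0 : ZMod 0) ∉ N) (hy : DihedralGroup.sr (1 : ZMod 0) ∉ N) :
    ∃ n : ℕ, 0 < n ∧ N = Subgroup.zpowers (DihedralGroup.r (n : ZMod 0)) := by
  have hn1 : ∀ k : ℤ, (DihedralGroup.sr (k : ZMod 0)) ∉ N := by
    intro k hk
    have hc : ∀ j : ℤ, DihedralGroup.sr ((k + 2 * j : ℤ) : ZMod 0) ∈ N := fun j => by
      have := ‹N.Normal›.conj_mem _ hk (DihedralGroup.r ((-j : ℤ) : ZMod 0))
      simp at this
      convert this using 2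
      show (k + 2 * j : ℤ) = k - -j + - -j
      ring
    rcases Int.even_or_odd' k with ⟨m, rfl | rfl⟩
    · have := hc (-m); simp at this; exact hx this
    · have := hc (-m); simp at this; exact hy this
  let H : AddSubgroup ℤ :=
    { carrier := {j : ℤ | DihedralGroup.r (n := 0) j ∈ N}
      zero_mem' := N.one_mem
      add_mem' := fun {a b} ha hb => N.mul_mem ha hb
      neg_mem' := fun {a} ha => N.inv_mem ha }
  obtain ⟨c, hc⟩ := Int.subgroup_cyclic H
  have hcm : ∀ j : ℤ, DihedralGroup.r ((j : ℤ) : ZMod 0) ∈ N ↔ c ∣ j := fun j => by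
    show j ∈ H ↔ _
    rw [hc, AddSubgroup.mem_closure_singleton]
    exact ⟨fun ⟨m, hm⟩ => ⟨m, by rw [← hm, smul_eq_mul, mul_comm]⟩, fun ⟨m, hm⟩ => ⟨m, by rw [hm, smul_eq_mul, mul_comm]⟩⟩
  have hc0 : c ≠ 0 := by
    rintro rfl
    apply hN
    rw [eq_bot_iff]
    rintro (j | j) hg
    · have := (hcm j).1 hg
      rw [zero_dvd_iff] at this
      subst this
      simp
      try exact DihedralGroup.r_zero
    · exact absurd hg (hn1 j)
  refine ⟨c.natAbs, Int.natAbs_pos.2 hc0, le_antisymm ?_ ?_⟩
  · rintro (j | j) hg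
    · obtain ⟨m, hm⟩ := (Int.natAbs_dvd.2 ((hcm j).1 hg) : (c.natAbs : ℤ) ∣ j)
      refine ⟨m, ?_⟩
      show DihedralGroup.r (c.natAbs : ZMod 0) ^ m = DihedralGroup.r j
      rw [DihedralGroup.r_zpow]
      congr 1
      push_cast
      exact hm.symm
    · exact absurd hg (hn1 j)
  · rw [Subgroup.zpowers_le]
    have := (hcm (c.natAbs : ℤ)).2 (Int.dvd_natAbs.2 dvd_rfl)
    convert this using 2
    first | rfl | simp | exact (Int.cast_natCast _).symm

end Groth.Agent.S12071
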