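import Groth.Statements.S12076
import Groth.Agent.Lib.RootBase

set_option autoImplicit false
open RootD

namespace Groth.Agent.S12076

/-- Let Δ be a system of simple roots (a base b of a root pairing P over ℤ) and Γ₀ the subgroup
generated by the roots. Then Γ₀ has a structure of totally ordered group for which the roots > 0 are
exactly the positive roots defined by Δ and for which the height (the additive function with value 1
on each simple root) is monotone. The order is given here by its positive cone C ⊆ Γ₀: 0 ∉ C, C + C
⊆ C, and for every x ≠ 0 exactly one of x, −x lies in C (x < y meaning y − x ∈ C). -/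
theorem result {ι M N : Type*} [AddCommGroup M] [AddCommGroup N]
    (P : RootPairing ι ℤ M N) [Finite ι] (b : P.Base) :
    ∃ C : Set ↥(Submodule.span ℤ (Set.range P.root)),
      0 ∉ C ∧ (∀ x ∈ C, ∀ y ∈ C, x + y ∈ C) ∧ (∀ x, x ≠ 0 → (x ∈ C ∨ -x ∈ C)) ∧ (∀ x ∈ C, -x ∉ C) ∧
      (∀ i : ι, (⟨P.root i, Submodule.subset_span (Set.mem_range_self i)⟩ : ↥(Submodule.span ℤ (Set.range P.root))) ∈ C ↔
        b.IsPos i) ∧
      ∀ φ : ↥(Submodule.span ℤ (Set.range P.root)) →+ ℤ,
        (∀ j ∈ b.support, φ ⟨P.root j, Submodule.subset_span (Set.mem_range_self j)⟩ = 1) →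
        ∀ x y : ↥(Submodule.span ℤ (Set.range P.root)), y - x ∈ C → φ x ≤ φ y := by
  classical
  letI := Fintype.ofFinite ι
  let B := b.toWeightBasisInt
  let e := Fintype.equivFin b.support
  let hf : Submodule.span ℤ (Set.range P.root) →+ ℤ :=
    { toFun := fun x => ∑ t : b.support, B.repr x t
      map_zero' := by simp
      map_add' := fun x y => by simp [Finset.sum_add_distrib] }
  let lf : Submodule.span ℤ (Set.range P.root) →+ Lex (Fin (Fintype.card b.support) → ℤ) :=
    { toFun := fun x => toLex (fun t => B.repr x (e.symm t))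
      map_zero' := by apply ofLex.injective; funext t; simp; rfl
      map_add' := fun x y => by apply ofLex.injective; funext t; simp; rfl }
  have hB : ∀ t : b.support, hf ⟨P.root (t : ι), Submodule.subset_span (Set.mem_range_self _)⟩ = 1 := fun t => by
    have : (⟨P.root (t : ι), Submodule.subset_span (Set.mem_range_self _)⟩ : Submodule.span ℤ (Set.range P.root)) = B t := by
      ext; simp [B]
    simp [hf, this, Finsupp.single_apply]
  refine ⟨{x | 0 < hf x ∨ (hf x = 0 ∧ 0 < lf x)}, ?_, ?_, ?_, ?_, ?_, ?_⟩
  · rintro (h | ⟨-, h⟩) <;> rw [map_zero] at h <;> exact lt_irrefl _ h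
  · intro x hx y hy
    simp only [Set.mem_setOf_eq, map_add] at hx hy ⊢
    rcases hx with hx | ⟨hx, hx'⟩ <;> rcases hy with hy | ⟨hy, hy'⟩
    · left; omega
    · left; omega
    · left; omega
    · exact Or.inr ⟨by omega, add_pos hx' hy'⟩
  · intro x hx
    simp only [Set.mem_setOf_eq, map_neg, Left.neg_pos_iff, neg_eq_zero]
    rcases lt_trichotomy 0 (hf x) with h | h | h
    · exact Or.inl (Or.inl h)
    · rcases lt_trichotomy 0 (lf x) with h' | h' | h'
      · exact Or.inl (Or.inr ⟨h.symm, h'⟩)
      · refine absurd (B.repr.injective ?_) hx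
        ext t
        have := congrFun (congrArg ofLex h'.symm) (e t)
        simp [lf] at this
        simpa using! this
      · exact Or.inr (Or.inr ⟨h.symm, h'⟩)
    · exact Or.inr (Or.inl h)
  · intro x hx hnx
    simp only [Set.mem_setOf_eq, map_neg, Left.neg_pos_iff, neg_eq_zero] at hx hnx
    rcases hx with hx | ⟨hx, hx'⟩ <;> rcases hnx with hy | ⟨hy, hy'⟩
    · omega
    · omega
    · omega
    · exact lt_asymm hx' hy'
  · intro i
    have hi : hf ⟨P.root i, Submodule.subset_span (Set.mem_range_self i)⟩ = b.height i := by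
      obtain ⟨c, -, -, hc⟩ := b.exists_root_eq_sum_int i
      have : (⟨P.root i, Submodule.subset_span (Set.mem_range_self i)⟩ : Submodule.span ℤ (Set.range P.root)) =
          ∑ t : b.support, c t • (⟨P.root (t : ι), Submodule.subset_span (Set.mem_range_self _)⟩ : Submodule.span ℤ (Set.range P.root)) := by
        ext; rw [Submodule.coe_sum]; simp only [Submodule.coe_smul]
        rw [hc, ← Finset.sum_coe_sort]
      rw [this, map_sum, RootPairing.Base.height_eq_sum hc]
      simp only [map_zsmul, hB, smul_eq_mul, mul_one]
      rw [← Finset.sum_coe_sort b.support]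
    simp only [Set.mem_setOf_eq, hi, RootPairing.Base.isPos_iff]
    exact ⟨fun h => h.elim id fun h' => absurd h'.1 (b.height_ne_zero i), Or.inl⟩
  · intro φ hφ x y hxy
    have hφ' : φ = hf := by
      have : φ.toIntLinearMap = hf.toIntLinearMap := by
        refine B.ext fun t => ?_
        have ht : B t = (⟨P.root (t : ι), Submodule.subset_span (Set.mem_range_self _)⟩ : Submodule.span ℤ (Set.range P.root)) := by
          ext; simp [B]
        rw [ht]
        exact (hφ t t.2).trans (hB t).symm
      ext z; exact LinearMap.congr_fun this z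
    rw [hφ']
    simp only [Set.mem_setOf_eq, map_sub] at hxy
    rcases hxy with h | ⟨h, -⟩ <;> omega

end Groth.Agent.S12076
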