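import Groth.Statements.S12078
import Mathlib

set_option autoImplicit false
universe u
open CAlg

namespace Groth.Agent.S12078
open scoped TensorProduct
set_option linter.style.haveILetI false

/-- An elementary divisor domain is Bézout. Here `R` is a domain such that for all `n, m ≥ 1` and every
`n × m` matrix `A` there are invertible matrices `U` (`n × n`) and `V` (`m × m`) with `U * A * V`
zero off the diagonal and with diagonal entries `f 0 ∣ f 1 ∣ f 2 ∣ …`; the conclusion is that every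
finitely generated ideal of `R` is principal. -/
theorem result (R : Type u) [CommRing R] [IsDomain R]
    (hR : ∀ n m : ℕ, 1 ≤ n → 1 ≤ m → ∀ A : Matrix (Fin n) (Fin m) R,
      ∃ (U : (Matrix (Fin n) (Fin n) R)ˣ) (V : (Matrix (Fin m) (Fin m) R)ˣ) (f : ℕ → R),
        (∀ k : ℕ, f k ∣ f (k + 1)) ∧
        ∀ (i : Fin n) (j : Fin m), ((U : Matrix (Fin n) (Fin n) R) * A * (V : Matrix (Fin m) (Fin m) R)) i j =
          if (i : ℕ) = (j : ℕ) then f i else 0) :
    IsBezout R := by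
  rw [IsBezout.iff_span_pair_isPrincipal]
  intro a b
  obtain ⟨U, V, f, -, h⟩ := hR 1 2 le_rfl one_le_two !![a, b]
  refine ⟨f 0, ?_⟩
  let g : R := (U : Matrix (Fin 1) (Fin 1) R) 0 0
  let g' : R := ((U⁻¹ : (Matrix (Fin 1) (Fin 1) R)ˣ) : Matrix (Fin 1) (Fin 1) R) 0 0
  have hg : g' * g = 1 := by
    have := congrFun (congrFun U.inv_mul 0) 0
    rwa [Matrix.mul_apply, Fin.sum_univ_one, Matrix.one_apply_eq] at this
  have h0 := h 0 0
  simp [Matrix.mul_apply, Fin.sum_univ_two] at h0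
  have hV : ∀ j : Fin 2, (!![a, b] : Matrix (Fin 1) (Fin 2) R) 0 j = g' * f 0 * ((V⁻¹ : (Matrix (Fin 2) (Fin 2) R)ˣ) : Matrix (Fin 2) (Fin 2) R) 0 j := by
    intro j
    have e : (!![a, b] : Matrix (Fin 1) (Fin 2) R) = ((U⁻¹ : (Matrix (Fin 1) (Fin 1) R)ˣ) : Matrix (Fin 1) (Fin 1) R) * (((U : Matrix (Fin 1) (Fin 1) R) * !![a, b] * (V : Matrix (Fin 2) (Fin 2) R)) * ((V⁻¹ : (Matrix (Fin 2) (Fin 2) R)ˣ) : Matrix (Fin 2) (Fin 2) R)) := by
      rw [Matrix.mul_assoc ((U : Matrix (Fin 1) (Fin 1) R) * !![a, b]), Units.mul_inv, Matrix.mul_one, ← Matrix.mul_assoc, Units.inv_mul, Matrix.one_mul]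
    have h0' := h 0 0
    have h1' := h 0 1
    conv_lhs => rw [e]
    rw [Matrix.mul_apply, Fin.sum_univ_one, Matrix.mul_apply, Fin.sum_univ_two, h0', h1']
    simp [g', mul_assoc]
  refine le_antisymm (Ideal.span_le.2 ?_) (Ideal.span_le.2 (Set.singleton_subset_iff.2 ?_))
  · rintro x (rfl | rfl)
    · exact Ideal.mem_span_singleton'.2 ⟨g' * ((V⁻¹ : (Matrix (Fin 2) (Fin 2) R)ˣ) : Matrix (Fin 2) (Fin 2) R) 0 0, by have := hV 0; rw [mul_right_comm, ← this]; rfl⟩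
    · exact Ideal.mem_span_singleton'.2 ⟨g' * ((V⁻¹ : (Matrix (Fin 2) (Fin 2) R)ˣ) : Matrix (Fin 2) (Fin 2) R) 0 1, by have := hV 1; rw [mul_right_comm, ← this]; rfl⟩
  · refine Ideal.mem_span_pair.2 ⟨g * (V : Matrix (Fin 2) (Fin 2) R) 0 0, g * (V : Matrix (Fin 2) (Fin 2) R) 1 0, ?_⟩
    rw [← h0]; simp [g]; ring

end Groth.Agent.S12078
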