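import Groth.Statements.S12118
import Mathlib

set_option autoImplicit false
set_option backward.isDefEq.respectTransparency.types false
set_option maxHeartbeats 1000000
set_option linter.all false
universe u v
open EGA41

namespace Groth.Agent.S12118
open Groth.Agent

/-- Let A be a commutative ring, M an A-module, (M_k)_{k ≥ 0} a decreasing filtration of M by submodules
with M_0 = M and ⋂_k M_k = 0, and f an element of A which is a non-zero-divisor on every graded
piece M_k/M_{k+1} (equivalently on the associated graded module). Then (i) f is a non-zero-divisor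
on M, and (ii) M_k ∩ fM = fM_k for every k ≥ 0. -/
theorem result {A : Type u} [CommRing A] {M : Type v} [AddCommGroup M] [Module A M]
    (F : ℕ → Submodule A M) (hanti : Antitone F) (h0 : F 0 = ⊤) (hsep : ⨅ k, F k = ⊥) (f : A)
    (hreg : ∀ k : ℕ, IsSMulRegular (↥(F k) ⧸ Submodule.comap (F k).subtype (F (k + 1))) f) :
    IsSMulRegular M f ∧ ∀ k : ℕ, F k ⊓ (Ideal.span {f} • (⊤ : Submodule A M)) = Ideal.span {f} • F k := by
  have key : ∀ k (x : M), f • x ∈ F k → x ∈ F k := by
    intro k
    induction k with
    | zero => intro x _; rw [h0]; trivial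
    | succ k ih =>
      intro x hx
      have hxk := ih x (hanti (Nat.le_succ k) hx)
      have h1 : f • (Submodule.Quotient.mk (⟨x, hxk⟩ : F k) : ↥(F k) ⧸ Submodule.comap (F k).subtype (F (k + 1))) = f • 0 := by
        rw [smul_zero, ← Submodule.Quotient.mk_smul, Submodule.Quotient.mk_eq_zero]
        exact hx
      have h2 : (⟨x, hxk⟩ : F k) ∈ Submodule.comap (F k).subtype (F (k + 1)) := (Submodule.Quotient.mk_eq_zero _).1 (hreg k h1)
      exact h2
  refine ⟨fun a b hab => ?_, fun k => ?_⟩
  · rw [← sub_eq_zero]
    have : a - b ∈ ⨅ k, F k := Submodule.mem_iInf _ |>.2 fun k => key k _ (by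
      have hab' : f • a = f • b := hab
      rw [smul_sub, hab', sub_self]; exact zero_mem _)
    rw [hsep] at this
    exact this
  · refine le_antisymm ?_ ?_
    · rintro x ⟨hxF, hxs⟩
      rw [Submodule.ideal_span_singleton_smul] at hxs
      obtain ⟨y, -, rfl⟩ := hxs
      exact Submodule.smul_mem_smul (Ideal.mem_span_singleton_self f) (key k y hxF)
    · exact le_inf Submodule.smul_le_right (Submodule.smul_mono le_rfl le_top)

end Groth.Agent.S12118
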