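import Groth.Statements.S1212
import Mathlib
import Groth.Prelude.Def_FlatCA
import Groth.Agent.Lib.H2FiberMod

set_option autoImplicit false
universe u
open FlatMor

namespace Groth.Agent.S1212
open scoped TensorProduct
open Groth.Agent.H2WeakAss Groth.Agent.H2FiberMod
set_option linter.style.haveILetI false

open TensorProduct IsLocalRing in
/-- Let R be a local ring, S an R-algebra and N an S-module which is projective as an R-module, such
that the closed fibre ring of S is Noetherian and the closed fibre module of N is finite over it.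
Then every prime q of S, over p in R, which is an associated prime (the annihilator of an element)
of the S-module N ⊗_R κ(p) satisfies q + 𝔪_R S ≠ S. -/
theorem result {R S : Type u} [CommRing R] [IsLocalRing R] [CommRing S] [Algebra R S]
    (N : Type u) [AddCommGroup N] [Module S N] [Module R N] [IsScalarTower R S N] [Module.Projective R N]
    [IsNoetherianRing ((maximalIdeal R).Fiber S)]
    [Module.Finite ((maximalIdeal R).Fiber S) (FlatCA.fiberMod (maximalIdeal R) S N)]
    (p : Ideal R) [p.IsPrime] (q : Ideal S) [q.IsPrime] [q.LiesOver p]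
    (hq : q ∈ FlatCA.ass S (N ⊗[R] p.ResidueField)) :
    q ⊔ (maximalIdeal R).map (algebraMap R S) ≠ ⊤ := by
  classical
  intro htop
  obtain ⟨hq', z, hz⟩ := hq
  obtain ⟨b, hb, c, hc, hbc⟩ := Submodule.mem_sup.1 (htop.symm ▸ Submodule.mem_top : (1 : S) ∈ q ⊔ (maximalIdeal R).map (algebraMap R S))
  have hc0 : ∀ n : N, c • n ∈ (maximalIdeal R • ⊤ : Submodule R N) := fun n =>
    (mem_map_smul_top (S := S) (maximalIdeal R)).1 (Submodule.smul_mem_smul hc trivial)
  obtain ⟨i, hi⟩ := Module.projective_def'.1 (inferInstance : Module.Projective R N)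
  set s := Finsupp.linearCombination R (id : N → N) with hs_def
  let γ : (N →₀ R) →ₗ[R] (N →₀ R) := i ∘ₗ ((LinearMap.lsmul S N c).restrictScalars R) ∘ₗ s
  have hγ : ∀ y, γ y ∈ (maximalIdeal R • ⊤ : Submodule R (N →₀ R)) := fun y => by
    have : (maximalIdeal R • ⊤ : Submodule R N).map i ≤ maximalIdeal R • ⊤ := by
      rw [Submodule.map_smul'']; exact Submodule.smul_mono le_rfl le_top
    exact this (Submodule.mem_map_of_mem (hc0 (s y)))
  let z' := i.rTensor p.ResidueField z
  have hsz : s.rTensor p.ResidueField z' = z := by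
    rw [← LinearMap.rTensor_comp_apply, hi, LinearMap.rTensor_id, LinearMap.id_apply]
  have hcz : ((LinearMap.lsmul S N c).restrictScalars R).rTensor p.ResidueField z = z := by
    have h1 : ∀ y : N ⊗[R] p.ResidueField, ((LinearMap.lsmul S N c).restrictScalars R).rTensor p.ResidueField y = c • y := by
      intro y
      induction y using TensorProduct.induction_on with
      | zero => simp
      | add x y hx hy => rw [map_add, hx, hy, smul_add]
      | tmul n m => rw [LinearMap.rTensor_tmul, TensorProduct.smul_tmul']; rfl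
    rw [h1]
    conv_rhs => rw [← one_smul S z, ← hbc, add_smul, mem_ann.1 (hz.le hb), zero_add]
  have hγz : γ.rTensor p.ResidueField z' = z' := by
    simp only [γ, LinearMap.rTensor_comp_apply, hsz, hcz]
    rfl
  obtain ⟨F₀, hF₀fin, hF₀⟩ := TensorProduct.exists_finite_submodule_left_of_setFinite {z'} (Set.finite_singleton z')
  obtain ⟨z₀, hz₀⟩ := hF₀ rfl
  obtain ⟨G, hG⟩ : F₀.FG := Module.Finite.iff_fg.1 hF₀fin
  let J : Finset N := G.sup Finsupp.support
  let π : (N →₀ R) →ₗ[R] ({n // n ∈ J} →₀ R) := Finsupp.lcomapDomain Subtype.val Subtype.val_injective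
  let ι : ({n // n ∈ J} →₀ R) →ₗ[R] (N →₀ R) := Finsupp.lmapDomain R R Subtype.val
  have hιπ : ∀ y ∈ F₀, ι (π y) = y := by
    intro y hy
    rw [← hG] at hy
    refine (LinearMap.eqLocus (ι ∘ₗ π) LinearMap.id).mem_carrier.1 ?_
    refine (Submodule.span_le.2 ?_) hy
    intro g hg
    show Finsupp.mapDomain Subtype.val (Finsupp.comapDomain Subtype.val g Subtype.val_injective.injOn) = g
    refine Finsupp.mapDomain_comapDomain _ Subtype.val_injective _ fun a ha => ⟨⟨a, ?_⟩, rfl⟩
    exact Finset.le_sup (f := Finsupp.support) hg ha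
  let w := π.rTensor p.ResidueField z'
  have hw : ι.rTensor p.ResidueField w = z' := by
    show ι.rTensor p.ResidueField (π.rTensor p.ResidueField z') = z'
    rw [← hz₀, ← LinearMap.rTensor_comp_apply, ← LinearMap.rTensor_comp_apply,
      show (ι ∘ₗ π) ∘ₗ F₀.subtype = F₀.subtype from LinearMap.ext fun y => hιπ y.1 y.2]
  let φ := π ∘ₗ γ ∘ₗ ι
  have hφ : ∀ y, φ y ∈ (maximalIdeal R • ⊤ : Submodule R ({n // n ∈ J} →₀ R)) := fun y => by
    have : (maximalIdeal R • ⊤ : Submodule R (N →₀ R)).map π ≤ maximalIdeal R • ⊤ := by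
      rw [Submodule.map_smul'']; exact Submodule.smul_mono le_rfl le_top
    exact this (Submodule.mem_map_of_mem (hγ _))
  have hsurj : Function.Surjective ⇑(LinearMap.id - φ : ({n // n ∈ J} →₀ R) →ₗ[R] ({n // n ∈ J} →₀ R)) := by
    rw [← LinearMap.range_eq_top, eq_top_iff]
    refine Submodule.le_of_le_smul_of_le_jacobson_bot Module.Finite.fg_top (IsLocalRing.maximalIdeal_le_jacobson _) fun y _ => ?_
    exact Submodule.mem_sup.2 ⟨y - φ y, ⟨y, rfl⟩, φ y, hφ y, sub_add_cancel y _⟩
  obtain ⟨e, he⟩ : ∃ e : ({n // n ∈ J} →₀ R) ≃ₗ[R] ({n // n ∈ J} →₀ R), (e : ({n // n ∈ J} →₀ R) →ₗ[R] ({n // n ∈ J} →₀ R)) = LinearMap.id - φ :=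
    ⟨LinearEquiv.ofBijective _ ⟨OrzechProperty.injective_of_surjective_endomorphism _ hsurj, hsurj⟩, rfl⟩
  have h2 : (e.rTensor p.ResidueField) w = 0 := by
    rw [← LinearEquiv.coe_coe, LinearEquiv.coe_rTensor, he, LinearMap.rTensor_sub]
    show (LinearMap.id.rTensor p.ResidueField) w - φ.rTensor p.ResidueField w = 0
    rw [LinearMap.rTensor_id, LinearMap.id_apply, sub_eq_zero]
    simp only [φ, LinearMap.rTensor_comp_apply, hw, hγz]
    rfl
  have h3 : z = 0 := by rw [← hsz, ← hw, (e.rTensor p.ResidueField).map_eq_zero_iff.1 h2, map_zero, map_zero]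
  exact hq'.ne_top ((Ideal.eq_top_iff_one _).2 (hz.ge (mem_ann.2 (by rw [h3, smul_zero]))))

end Groth.Agent.S1212
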