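import Groth.Statements.S12123
import Mathlib
import Groth.Agent.Lib.H4ProCons


set_option autoImplicit false
universe u
open EGA41

namespace Groth.Agent.S12123

open AlgebraicGeometry Topology in
/-- Let X be a quasi-separated scheme and X^cons its underlying set with the constructible topology,
generated by the quasi-compact open subsets and their complements (for X quasi-separated this is the
topology whose open sets are the ind-constructible subsets). Then X^cons is a Hausdorff, locally
compact, totally disconnected space. (The published statement also asserts that X^cons is Hausdorff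
only if X is quasi-separated; for the topology used here that converse fails when X is not
quasi-separated, where the two constructible topologies differ, so it is not part of this row.) -/
theorem result (X : Scheme.{u}) [QuasiSeparatedSpace X] :
    T2Space (WithConstructibleTopology X) ∧ LocallyCompactSpace (WithConstructibleTopology X) ∧
      TotallyDisconnectedSpace (WithConstructibleTopology X) := by
  let π : WithConstructibleTopology X → X := WithTopology.ofTopology
  have hsep : ∀ x y : X, x ≠ y → ∃ U : Set X, IsOpen U ∧ IsCompact U ∧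
      ¬(x ∈ U ↔ y ∈ U) := by
    intro x y hxy
    obtain ⟨O, hO, hiff⟩ := exists_isOpen_xor'_mem hxy
    rcases hiff with ⟨hx, hy⟩ | ⟨hy, hx⟩
    · obtain ⟨_, ⟨V, hV, rfl⟩, hxV, hVO⟩ := X.isBasis_affineOpens.exists_subset_of_mem_open hx hO
      exact ⟨V, V.isOpen, hV.isCompact, fun h => hy (hVO (h.mp hxV))⟩
    · obtain ⟨_, ⟨V, hV, rfl⟩, hyV, hVO⟩ := X.isBasis_affineOpens.exists_subset_of_mem_open hy hO
      exact ⟨V, V.isOpen, hV.isCompact, fun h => hx (hVO (h.mpr hyV))⟩
  have hclopen : ∀ U : Set X, IsOpen U → IsCompact U → IsClopen (π ⁻¹' U) := by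
    intro U hUo hUc
    refine ⟨⟨?_⟩, ?_⟩
    · rw [← Set.preimage_compl]
      exact WithConstructibleTopology.isOpen_iff.mpr
        (IsCompact.isOpen_constructibleTopology_of_isClosed (s := Uᶜ) (by rw [compl_compl]; exact hUc)
          hUo.isClosed_compl)
    · exact WithConstructibleTopology.isOpen_iff.mpr (hUc.isOpen_constructibleTopology_of_isOpen hUo)
  haveI : TotallySeparatedSpace (WithConstructibleTopology X) := by
    rw [totallySeparatedSpace_iff_exists_isClopen]
    intro a b hab
    obtain ⟨U, hUo, hUc, hU⟩ := hsep (π a) (π b) fun e => hab (by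
      exact WithTopology.ofTopology_injective _ e)
    by_cases ha : π a ∈ U
    · exact ⟨π ⁻¹' U, hclopen U hUo hUc, ha, fun hb => hU (iff_of_true ha hb)⟩
    · exact ⟨(π ⁻¹' U)ᶜ, (hclopen U hUo hUc).compl, ha, fun hb => hU (iff_of_false ha hb)⟩
  haveI : WeaklyLocallyCompactSpace (WithConstructibleTopology X) := by
    refine ⟨fun a => ?_⟩
    obtain ⟨_, ⟨V, hV, rfl⟩, haV, -⟩ :=
      X.isBasis_affineOpens.exists_subset_of_mem_open (Set.mem_univ (π a)) isOpen_univ
    refine ⟨π ⁻¹' (V : Set X), ?_, (hclopen _ V.isOpen hV.isCompact).isOpen.mem_nhds haV⟩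
    have h := @IsCompact.image X (WithConstructibleTopology X) (constructibleTopology X) _ _ _
      (H4ProCons.isCompact_constr V.isOpen hV.isCompact) (WithTopology.continuous_toTopology _)
    convert h using 1
    ext b
    exact ⟨fun hb => ⟨π b, hb, rfl⟩, fun ⟨c, hc, e⟩ => e ▸ hc⟩
  exact ⟨inferInstance, inferInstance, inferInstance⟩

end Groth.Agent.S12123
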