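import Groth.Statements.S1213
import Mathlib
import Groth.Prelude.Def_FlatCA
import Groth.Agent.Lib.H2WeakAss
import Groth.Agent.S9590
import Groth.Agent.S9595

set_option autoImplicit false
universe u
open scoped Classical
open FlatMor

namespace Groth.Agent.S1213
open scoped TensorProduct
open Groth.Agent.H2WeakAss
set_option linter.style.haveILetI false

open TensorProduct IsLocalRing in
/-- Let R be a local ring, S an R-algebra and N an S-module which, as an R-module, is an internal direct
sum of finite R-submodules. Then for every R-module M and every prime q of S which is the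
annihilator of an element of the S-module N ⊗_R M we have q + 𝔪_R S ≠ S. -/
theorem result {R S : Type u} [CommRing R] [IsLocalRing R] [CommRing S] [Algebra R S]
    (N : Type u) [AddCommGroup N] [Module S N] [Module R N] [IsScalarTower R S N]
    (ι : Type u) (F : ι → Submodule R N) (hF : DirectSum.IsInternal F) (hfin : ∀ i, Module.Finite R (F i))
    (M : Type u) [AddCommGroup M] [Module R M]
    (q : Ideal S) [q.IsPrime] (hq : q ∈ FlatCA.ass S (N ⊗[R] M)) :
    q ⊔ (maximalIdeal R).map (algebraMap R S) ≠ ⊤ := by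
  classical
  intro htop
  obtain ⟨hq', z, hz⟩ := hq
  obtain ⟨b, hb, c, hc, hbc⟩ := Submodule.mem_sup.1 (htop.symm ▸ Submodule.mem_top : (1 : S) ∈ q ⊔ (maximalIdeal R).map (algebraMap R S))
  have hc0 : ∀ n : N, c • n ∈ (maximalIdeal R • ⊤ : Submodule R N) := by
    clear hbc
    induction hc using Submodule.span_induction with
    | mem x hx =>
      obtain ⟨r, hr, rfl⟩ := hx
      intro n; rw [algebraMap_smul]; exact Submodule.smul_mem_smul hr trivial
    | zero => intro n; rw [zero_smul]; exact Submodule.zero_mem _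
    | add x y _ _ hx hy => intro n; rw [add_smul]; exact Submodule.add_mem _ (hx n) (hy n)
    | smul s x _ hx => intro n; rw [smul_eq_mul, mul_comm, mul_smul]; exact hx _
  obtain ⟨N₀, hN₀fin, hN₀⟩ := TensorProduct.exists_finite_submodule_left_of_setFinite {z} (Set.finite_singleton z)
  obtain ⟨z₀, hz₀⟩ := hN₀ rfl
  obtain ⟨J, hJ⟩ : ∃ J : Finset ι, N₀ ≤ ⨆ i ∈ J, F i := by
    have h := (Submodule.fg_iff_compact N₀).1 (Module.Finite.iff_fg.1 hN₀fin)
    exact CompleteLattice.IsCompactElement.exists_finset_of_le_iSup _ h F (by rw [hF.submodule_iSup_eq_top]; exact le_top)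
  let FJ : Submodule R N := ⨆ i ∈ J, F i
  haveI : Module.Finite R FJ := Module.Finite.iff_fg.2 (Submodule.fg_biSup J F fun i _ => Module.Finite.iff_fg.1 (hfin i))
  let G : Submodule R N := ⨆ i ∈ (↑J : Set ι)ᶜ, F i
  have hcompl : IsCompl FJ G := by
    refine ⟨hF.submodule_iSupIndep.disjoint_biSup_biSup (s := (↑J : Set ι)) disjoint_compl_right, ?_⟩
    rw [codisjoint_iff, eq_top_iff, ← hF.submodule_iSup_eq_top]
    refine iSup_le fun i => ?_
    by_cases hi : i ∈ J
    · exact le_sup_of_le_left (le_biSup F hi)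
    · exact le_sup_of_le_right (le_biSup F (show i ∈ (↑J : Set ι)ᶜ by simpa using hi))
  let π : N →ₗ[R] FJ := FJ.projectionOnto G hcompl
  let φ : FJ →ₗ[R] FJ := π ∘ₗ ((LinearMap.lsmul S N c).restrictScalars R) ∘ₗ FJ.subtype
  have hφ : ∀ y, φ y ∈ (maximalIdeal R • ⊤ : Submodule R FJ) := fun y => by
    have : (maximalIdeal R • ⊤ : Submodule R N).map π ≤ maximalIdeal R • ⊤ := by
      rw [Submodule.map_smul'']; exact Submodule.smul_mono le_rfl le_top
    exact this (Submodule.mem_map_of_mem (hc0 y))
  have hsurj : Function.Surjective ⇑(LinearMap.id - φ : FJ →ₗ[R] FJ) := by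
    rw [← LinearMap.range_eq_top, eq_top_iff]
    refine Submodule.le_of_le_smul_of_le_jacobson_bot Module.Finite.fg_top (IsLocalRing.maximalIdeal_le_jacobson _) fun y _ => ?_
    exact Submodule.mem_sup.2 ⟨y - φ y, ⟨y, rfl⟩, φ y, hφ y, sub_add_cancel y _⟩
  obtain ⟨e, he⟩ : ∃ e : FJ ≃ₗ[R] FJ, (e : FJ →ₗ[R] FJ) = LinearMap.id - φ :=
    ⟨LinearEquiv.ofBijective _ ⟨OrzechProperty.injective_of_surjective_endomorphism _ hsurj, hsurj⟩, rfl⟩
  obtain ⟨w, hw⟩ : ∃ w : FJ ⊗[R] M, FJ.subtype.rTensor M w = z :=
    ⟨(Submodule.inclusion hJ).rTensor M z₀, by rw [← LinearMap.rTensor_comp_apply, Submodule.subtype_comp_inclusion, hz₀]⟩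
  have hcz : ((LinearMap.lsmul S N c).restrictScalars R).rTensor M z = z := by
    have h1 : ∀ y : N ⊗[R] M, ((LinearMap.lsmul S N c).restrictScalars R).rTensor M y = c • y := by
      intro y
      induction y using TensorProduct.induction_on with
      | zero => simp
      | add x y hx hy => rw [map_add, hx, hy, smul_add]
      | tmul n m => rw [LinearMap.rTensor_tmul, TensorProduct.smul_tmul']; rfl
    rw [h1]
    conv_rhs => rw [← one_smul S z, ← hbc, add_smul, mem_ann.1 (hz.le hb), zero_add]
  have hπw : π.rTensor M z = w := by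
    rw [← hw, ← LinearMap.rTensor_comp_apply,
      show π ∘ₗ FJ.subtype = LinearMap.id from LinearMap.ext fun y => Submodule.projectionOnto_apply_left hcompl y,
      LinearMap.rTensor_id, LinearMap.id_apply]
  have h2 : (e.rTensor M) w = 0 := by
    rw [← LinearEquiv.coe_coe, LinearEquiv.coe_rTensor, he, LinearMap.rTensor_sub, LinearMap.sub_apply, LinearMap.rTensor_id, LinearMap.id_apply, sub_eq_zero]
    simp only [φ, LinearMap.rTensor_comp_apply, hw, hcz, hπw]
  have h3 : z = 0 := by rw [← hw, (e.rTensor M).map_eq_zero_iff.1 h2, map_zero]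
  exact hq'.ne_top ((Ideal.eq_top_iff_one _).2 (hz.ge (mem_ann.2 (by rw [h3, smul_zero]))))

end Groth.Agent.S1213
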