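import Groth.Statements.S12135
import Mathlib
import Groth.Agent.Lib.H4ProCons


set_option autoImplicit false
universe u
open EGA41

namespace Groth.Agent.S12135

open Topology in
theorem oc {Z : Type u} (t : TopologicalSpace Z) (s : Set Z) :
    IsOpen[t] sᶜ ↔ IsClosed[t] s := by
  letI := t
  exact isOpen_compl_iff

open AlgebraicGeometry Topology in
/-- Let f : X → Y be a morphism of schemes with X and Y quasi-separated, and let X^cons, Y^cons denote
the underlying sets with the constructible topology (generated by the quasi-compact open subsets and
their complements; for quasi-separated schemes the open sets are exactly the ind-constructible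
subsets). Then f is quasi-compact if and only if the map X^cons → Y^cons underlying f is proper
(continuous and universally closed). (The published statement is for arbitrary schemes with the
ind-constructible topology; this row covers the quasi-separated case, where that topology is the one
used here.) -/
theorem result {X Y : Scheme.{u}} [QuasiSeparatedSpace X]
    [QuasiSeparatedSpace Y] (f : X ⟶ Y) :
    QuasiCompact f ↔ @IsProperMap X Y (constructibleTopology X) (constructibleTopology Y) f := by
  classical
  constructor
  · intro hf
    have hcompact : ∀ (W : Y.Opens), IsAffineOpen W →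
        @IsCompact X (constructibleTopology X) (f.base ⁻¹' (W : Set Y)) := fun W hW =>
      H4ProCons.isCompact_constr (W.isOpen.preimage f.continuous)
        (QuasiCompact.isCompact_preimage (f := f) _ W.isOpen hW.isCompact)
    have hcont : @Continuous X Y (constructibleTopology X) (constructibleTopology Y) f := by
      rw [@continuous_def X Y (constructibleTopology X) (constructibleTopology Y)]
      intro s hs
      exact H4ProCons.isOpen_constr_of_isInd
        (H4ProCons.isInd_preimage f ((H4ProCons.isOpen_constr_iff s).mp hs))
    have hclopen : ∀ (W : Y.Opens), IsAffineOpen W →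
        IsOpen[constructibleTopology Y] (W : Set Y) ∧ IsClosed[constructibleTopology Y] (W : Set Y) :=
      fun W hW => ⟨hW.isCompact.isOpen_constructibleTopology_of_isOpen W.isOpen,
        (oc (constructibleTopology Y) _).mp
          (IsCompact.isOpen_constructibleTopology_of_isClosed (by rw [compl_compl]; exact hW.isCompact)
            W.isOpen.isClosed_compl)⟩
    have hnb : ∀ y : Y, ∃ V : Y.Opens, IsAffineOpen V ∧ y ∈ V := fun y => by
      obtain ⟨_, ⟨V, hV, rfl⟩, hyV, -⟩ :=
        Y.isBasis_affineOpens.exists_subset_of_mem_open (Set.mem_univ y) isOpen_univ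
      exact ⟨V, hV, hyV⟩
    refine (@isProperMap_iff_isClosedMap_and_compact_fibers X Y (constructibleTopology X)
      (constructibleTopology Y) f).mpr ?_
    have hfib : ∀ y : Y, IsClosed[constructibleTopology Y] ({y} : Set Y) := fun y => by
      rw [← oc (constructibleTopology Y), @isOpen_iff_forall_mem_open Y (constructibleTopology Y)]
      intro z hz
      obtain ⟨O, hO, hiff⟩ := exists_isOpen_xor'_mem (X := Y)
        (show z ≠ y from hz)
      rcases hiff with ⟨h1, h2⟩ | ⟨h1, h2⟩
      · obtain ⟨_, ⟨V, hV, rfl⟩, hzV, hVO⟩ := Y.isBasis_affineOpens.exists_subset_of_mem_open h1 hO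
        exact ⟨V, fun w hw e => h2 (hVO (e ▸ hw)), (hclopen V hV).1, hzV⟩
      · obtain ⟨_, ⟨V, hV, rfl⟩, hyV, hVO⟩ := Y.isBasis_affineOpens.exists_subset_of_mem_open h1 hO
        exact ⟨(V : Set Y)ᶜ, fun w hw e => hw (e ▸ hyV),
          (oc (constructibleTopology Y) _).mpr (hclopen V hV).2, fun hzV => h2 (hVO hzV)⟩
    refine ⟨hcont, fun s hs => ?_, fun y => ?_⟩
    · rw [← oc (constructibleTopology Y), H4ProCons.isOpen_constr_iff,
        ← H4ProCons.isPro_iff_compl]
      refine H4ProCons.isPro_image f ?_
      rw [H4ProCons.isPro_iff_compl, ← H4ProCons.isOpen_constr_iff]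
      exact (oc (constructibleTopology X) _).mpr hs
    · obtain ⟨V, hV, hyV⟩ := hnb y
      refine @IsCompact.of_isClosed_subset X (constructibleTopology X) _ _ (hcompact V hV)
        (@IsClosed.preimage X Y (constructibleTopology X) (constructibleTopology Y) _ hcont _ (hfib y)) ?_
      rintro z (hz : f.base z = y)
      show f.base z ∈ (V : Set Y)
      rw [hz]
      exact hyV
  · intro h
    refine ⟨fun U hUo hUc => ?_⟩
    have hK : @IsCompact Y (constructibleTopology Y) U := H4ProCons.isCompact_constr hUo hUc
    have h2 : @IsCompact X (constructibleTopology X) (f.base ⁻¹' U) :=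
      @IsProperMap.isCompact_preimage X Y (constructibleTopology X) (constructibleTopology Y) _ h _ hK
    have hid : @Continuous X X (constructibleTopology X) _ id := by
      rw [@continuous_def X X (constructibleTopology X)]
      exact fun s hs => H4ProCons.isOpen_constr_of_isInd (H4ProCons.isInd_of_isOpen hs)
    simpa using @IsCompact.image X X (constructibleTopology X) _ _ _ h2 hid

end Groth.Agent.S12135
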