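import Groth.Statements.S1214
import Mathlib
import Groth.Prelude.Def_FlatCA
import Groth.Agent.Lib.H2WeakAss
import Groth.Agent.S9590
import Groth.Agent.S9595

set_option autoImplicit false
universe u
open FlatMor

namespace Groth.Agent.S1214
open scoped TensorProduct
open Groth.Agent.H2WeakAss
set_option linter.style.haveILetI false

open TensorProduct in
/-- Let R → S be a ring map, I an ideal of R and N an S-module which is I-adically complete. Then for
every R-module M and every prime q of S which is the annihilator of an element of the S-module N ⊗_R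
M we have q + IS ≠ S. -/
theorem result {R S : Type u} [CommRing R] [CommRing S] [Algebra R S] (I : Ideal R)
    (N : Type u) [AddCommGroup N] [Module S N] [Module R N] [IsScalarTower R S N] [IsAdicComplete I N]
    (M : Type u) [AddCommGroup M] [Module R M]
    (q : Ideal S) [q.IsPrime] (hq : q ∈ FlatCA.ass S (N ⊗[R] M)) :
    q ⊔ I.map (algebraMap R S) ≠ ⊤ := by
  intro htop
  obtain ⟨hq', z, hz⟩ := hq
  obtain ⟨b, hb, c, hc, hbc⟩ := Submodule.mem_sup.1 (htop.symm ▸ Submodule.mem_top : (1 : S) ∈ q ⊔ I.map (algebraMap R S))
  have hc0 : ∀ n : N, c • n ∈ (I • ⊤ : Submodule R N) := by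
    clear hbc
    induction hc using Submodule.span_induction with
    | mem x hx =>
      obtain ⟨r, hr, rfl⟩ := hx
      intro n; rw [algebraMap_smul]; exact Submodule.smul_mem_smul hr trivial
    | zero => intro n; rw [zero_smul]; exact Submodule.zero_mem _
    | add x y _ _ hx hy => intro n; rw [add_smul]; exact Submodule.add_mem _ (hx n) (hy n)
    | smul s x _ hx => intro n; rw [smul_eq_mul, mul_comm, mul_smul]; exact hx _
  let L : N →ₗ[R] N := (LinearMap.lsmul S N c).restrictScalars R
  have hLap : ∀ n, L n = c • n := fun n => rfl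
  have hpow : ∀ k n, (L ^ k) n ∈ (I ^ k • ⊤ : Submodule R N) := by
    intro k
    induction k with
    | zero => intro n; simp
    | succ k ih =>
      intro n
      rw [show (L ^ (k + 1)) n = L ((L ^ k) n) by rw [pow_succ' L k]; rfl]
      have : (I ^ k • ⊤ : Submodule R N) ≤ Submodule.comap L (I ^ (k + 1) • ⊤) := by
        refine Submodule.smul_le.2 fun a ha m _ => ?_
        rw [Submodule.mem_comap, map_smul, pow_succ, Submodule.mul_smul]
        exact Submodule.smul_mem_smul ha (hc0 m)
      exact this (ih n)
  have hker : ∀ y : N, y - L y = 0 → y = 0 := by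
    intro y hy
    refine IsHausdorff.haus' (I := I) _ fun k => SModEq.zero.2 ?_
    have : (L ^ k) y = y := by
      induction k with
      | zero => simp
      | succ k ih => rw [pow_succ' L k, Module.End.mul_apply, ih, ← sub_eq_zero.1 hy]
    rw [← this]; exact hpow k y
  have hex : ∀ n, ∃ y : N, y - L y = n := by
    intro n
    let f : ℕ → N := fun k => ∑ i ∈ Finset.range k, (L ^ i) n
    obtain ⟨y, hy⟩ := IsPrecomplete.prec (I := I) (M := N) inferInstance (f := f) (fun {a b} hab => SModEq.sub_mem.2 (by
      rw [← neg_sub]
      refine Submodule.neg_mem _ ?_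
      rw [show f b - f a = ∑ i ∈ Finset.Ico a b, (L ^ i) n from (Finset.sum_Ico_eq_sub _ hab).symm]
      exact Submodule.sum_mem _ fun i hi => Submodule.smul_mono (Ideal.pow_le_pow_right (Finset.mem_Ico.1 hi).1) le_rfl (hpow i n)))
    refine ⟨y, sub_eq_zero.1 (IsHausdorff.haus' (I := I) _ fun k => SModEq.zero.2 ?_)⟩
    have hmem : y - f k ∈ (I ^ k • ⊤ : Submodule R N) := by
      rw [← neg_sub]; exact Submodule.neg_mem _ (SModEq.sub_mem.1 (hy k))
    have htel : ∀ j, f j - L (f j) = n - (L ^ j) n := by
      intro j
      induction j with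
      | zero => simp [f]
      | succ j ih =>
        simp only [f, Finset.sum_range_succ, map_add] at ih ⊢
        rw [add_sub_add_comm, ih, pow_succ' L j, Module.End.mul_apply]; abel
    have e : y - L y - n = (y - f k) - L (y - f k) - (L ^ k) n := by
      rw [map_sub]
      linear_combination (norm := abel) (htel k)
    rw [e]
    refine Submodule.sub_mem _ (Submodule.sub_mem _ hmem ?_) (hpow k n)
    have : (I ^ k • ⊤ : Submodule R N).map L ≤ I ^ k • ⊤ := by
      rw [Submodule.map_smul'']; exact Submodule.smul_mono le_rfl le_top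
    exact this (Submodule.mem_map_of_mem hmem)
  have hbij : Function.Bijective (LinearMap.id - L : N →ₗ[R] N) :=
    ⟨(injective_iff_map_eq_zero _).2 hker, hex⟩
  let e := LinearEquiv.ofBijective _ hbij
  have h1 : (LinearMap.id - L : N →ₗ[R] N).rTensor M z = b • z := by
    clear hz
    induction z using TensorProduct.induction_on with
    | zero => simp
    | add x y hx hy => rw [map_add, hx, hy, smul_add]
    | tmul n m =>
      rw [LinearMap.rTensor_tmul, TensorProduct.smul_tmul']
      congr 1
      rw [LinearMap.sub_apply, LinearMap.id_apply, hLap, sub_eq_iff_eq_add, ← add_smul, hbc, one_smul]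
  rw [mem_ann.1 (hz.le hb)] at h1
  have h2 : (e.rTensor M) z = 0 := h1
  have h3 : z = 0 := (e.rTensor M).map_eq_zero_iff.1 h2
  exact hq'.ne_top ((Ideal.eq_top_iff_one _).2 (hz.ge (mem_ann.2 (by rw [h3, smul_zero]))))


end Groth.Agent.S1214
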