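import Groth.Statements.S12142
import Mathlib

set_option autoImplicit false
universe u
open CategoryTheory CategoryTheory.Limits AlgebraicGeometry TopologicalSpace Opposite
open scoped HomogeneousIdeal
noncomputable section
open EGA2

namespace Groth.Agent.S12142

theorem chart_pullback {S : Scheme.{u}} (A : RelSpec.QCAlg S) (U : S.Opens) (hU : IsAffineOpen U) :
    IsPullback (A.ι U hU) (Spec.map (A.str.app (Opposite.op U))) A.π hU.fromSpec := by
  refine (IsOpenImmersion.isPullback _ _ _ _ (A.ι_π U hU) ?_).flip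
  rw [hU.opensRange_fromSpec]
  exact A.π_preimage U hU


/-- Let g : S' → S be a morphism of schemes, A a quasi-coherent O_S-algebra and B = g^*A, presented as a
quasi-coherent O_{S'}-algebra with a g-morphism u : A → g_*B whose squares of rings over affine
opens U' ⊆ g⁻¹(U) are pushouts; let h = Spec(u) : Spec(B) → Spec(A) be the induced morphism of
relative spectra (chartwise Spec of A(U) → B(U')). Then h and the structure morphisms form a
cartesian square: Spec(g^*A) is the fibre product Spec(A) ×_S S'. -/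
theorem result {S S' : Scheme.{u}} (g : S' ⟶ S)
    (A : RelSpec.QCAlg S) (B : RelSpec.QCAlg S') (u : RelSpec.QHom g A B) (hu : RelSpec.IsQBaseChange u)
    (h : B.spec ⟶ A.spec) (hh : RelSpec.IsSpecQMap u h) :
    IsPullback h B.π A.π g := by
  classical
  let J : Type u := {p : S.affineOpens × S'.affineOpens // p.2.1 ≤ g ⁻¹ᵁ p.1.1}
  have hcov : ∀ x : S', ∃ j : J, x ∈ j.1.2.1 := fun x => by
    obtain ⟨U, hU, hxU, -⟩ := exists_isAffineOpen_mem_and_subset (X := S) (x := g.base x) (U := ⊤) trivial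
    obtain ⟨U', hU', hxU', hle⟩ := exists_isAffineOpen_mem_and_subset (X := S') (x := x) (U := g ⁻¹ᵁ U) hxU
    exact ⟨⟨(⟨U, hU⟩, ⟨U', hU'⟩), hle⟩, hxU'⟩
  have hw : h ≫ A.π = B.π ≫ g := by
    refine Scheme.hom_ext_of_forall _ _ fun z => ?_
    obtain ⟨⟨⟨⟨U, hU⟩, ⟨U', hU'⟩⟩, hle⟩, hz⟩ := hcov (B.π.base z)
    have hz' : z ∈ (B.ι U' hU').opensRange := by rw [← B.π_preimage U' hU']; exact hz
    refine ⟨_, hz', ?_⟩
    rw [← cancel_epi (B.ι U' hU').isoOpensRange.hom, Scheme.Hom.isoOpensRange_hom_ι_assoc,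
      Scheme.Hom.isoOpensRange_hom_ι_assoc, reassoc_of% (hh U hU U' hU' hle), A.ι_π, ← Category.assoc, ← Spec.map_comp,
      ← Category.assoc (B.ι U' hU'), B.ι_π, Category.assoc, ← IsAffineOpen.SpecMap_appLE_fromSpec g hU hU' hle, ← Category.assoc,
      ← Spec.map_comp]
    congr 2
    exact (hu U hU U' hU' hle).w.symm
  let P := pullback A.π g
  have hP : IsPullback (pullback.fst A.π g) (pullback.snd A.π g) A.π g := IsPullback.of_hasPullback _ _
  let l : B.spec ⟶ P := pullback.lift h B.π hw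
  let c : ∀ j : J, Spec (B.presheaf.obj (op j.1.2.1)) ⟶ P := fun j =>
    pullback.lift (Spec.map (u.appLE j.1.1.1 j.1.2.1 j.2) ≫ A.ι j.1.1.1 j.1.1.2) (Spec.map (B.str.app (op j.1.2.1)) ≫ j.1.2.2.fromSpec) (by
      rw [Category.assoc, A.ι_π, ← Category.assoc, ← Spec.map_comp, Category.assoc,
        ← IsAffineOpen.SpecMap_appLE_fromSpec g j.1.1.2 j.1.2.2 j.2, ← Category.assoc, ← Spec.map_comp]
      congr 2
      exact (hu _ j.1.1.2 _ j.1.2.2 j.2).w.symm)
  have hc : ∀ j : J, IsPullback (c j) (Spec.map (B.str.app (op j.1.2.1))) (pullback.snd A.π g) j.1.2.2.fromSpec := by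
    intro j
    refine IsPullback.of_right ?_ (pullback.lift_snd _ _ _) hP
    rw [pullback.lift_fst, ← IsAffineOpen.SpecMap_appLE_fromSpec g j.1.1.2 j.1.2.2 j.2]
    exact (isPullback_SpecMap_of_isPushout _ _ _ _ (hu _ j.1.1.2 _ j.1.2.2 j.2)).flip.paste_horiz (chart_pullback A _ j.1.1.2)
  haveI hoi : ∀ j, IsOpenImmersion (c j) := fun j => MorphismProperty.of_isPullback (hc j).flip inferInstance
  have hl : ∀ j : J, IsPullback (B.ι j.1.2.1 j.1.2.2) (𝟙 _) l (c j) := by
    intro j
    refine IsPullback.of_bot ?_ ?_ (hc j)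
    · rw [Category.id_comp, pullback.lift_snd]
      exact chart_pullback B _ j.1.2.2
    · refine pullback.hom_ext ?_ ?_
      · rw [Category.assoc, pullback.lift_fst, Category.id_comp, pullback.lift_fst]
        exact hh _ j.1.1.2 _ j.1.2.2 j.2
      · rw [Category.assoc, pullback.lift_snd, Category.id_comp, pullback.lift_snd, B.ι_π]
  let 𝒰 : P.OpenCover :=
    { I₀ := J, X := fun j => Spec (B.presheaf.obj (op j.1.2.1)), f := c
      mem₀ := by
        rw [Scheme.presieve₀_mem_precoverage_iff]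
        refine ⟨fun p => ?_, hoi⟩
        obtain ⟨j, hj⟩ := hcov ((pullback.snd A.π g).base p)
        refine ⟨j, ?_⟩
        have hr : (pullback.snd A.π g).base p ∈ Set.range j.1.2.2.fromSpec.base := by
          rw [j.1.2.2.range_fromSpec]
          exact hj
        obtain ⟨q, hq⟩ := hr
        obtain ⟨z, hz, -⟩ := Scheme.exists_preimage_of_isPullback (hc j) p q hq.symm
        exact ⟨z, hz⟩ }
  haveI : IsIso l := by
    refine IsZariskiLocalAtTarget.of_openCover (P := MorphismProperty.isomorphisms Scheme) 𝒰 fun j => ?_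
    show IsIso (pullback.snd l (c j))
    rw [← (hl j).isoPullback_inv_snd]
    infer_instance
  exact IsPullback.of_iso hP (asIso l).symm (Iso.refl _) (Iso.refl _) (Iso.refl _)
    (by rw [Iso.refl_hom, Category.comp_id, Iso.symm_hom, asIso_inv, ← cancel_epi l, IsIso.hom_inv_id_assoc, pullback.lift_fst])
    (by rw [Iso.refl_hom, Category.comp_id, Iso.symm_hom, asIso_inv, ← cancel_epi l, IsIso.hom_inv_id_assoc, pullback.lift_snd])
    (by simp) (by simp)

end Groth.Agent.S12142
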