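import Mathlib
import Groth.Statements.S12187
import Groth.Agent.Lib.H4GlueAlg
-- import your own Groth.Agent.* helpers here

set_option autoImplicit false
universe u
open TensorProduct
open EtAlg

namespace Groth.Agent.S12187

/-- Glueing along a glueing pair detects finite morphisms of affine schemes, stated for coordinate
rings. Let (R → R', f) be a glueing pair and φ : A → B a homomorphism of R-algebras with A and B
glueable as R-modules. Then φ is finite exactly when both induced maps A_f → B_f and R' ⊗_R A → R'
⊗_R B are finite. -/
theorem result (R : Type u) [CommRing R] (R' : Type u) [CommRing R'] [Algebra R R'] (f : R)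
    (hRR' : EtGlue.IsGlueingPair R R' f) (A B : Type u) [CommRing A] [Algebra R A] [CommRing B] [Algebra R B]
    (hA : EtGlue.IsGlueable R R' f A) (hB : EtGlue.IsGlueable R R' f B) (φ : A →ₐ[R] B) :
    φ.toRingHom.Finite ↔ (Localization.awayMap φ.toRingHom (algebraMap R A f)).Finite ∧
      (Algebra.TensorProduct.map (AlgHom.id R R') φ).toRingHom.Finite := by
  letI : Algebra A B := φ.toRingHom.toAlgebra
  haveI : IsScalarTower R A B := IsScalarTower.of_algebraMap_eq fun r => (φ.commutes r).symm
  letI : Algebra A (R' ⊗[R] A) := Algebra.TensorProduct.rightAlgebra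
  letI : Algebra (R' ⊗[R] A) (R' ⊗[R] B) := (Algebra.TensorProduct.map (AlgHom.id R R') φ).toRingHom.toAlgebra
  obtain ⟨e, -⟩ := H4GlueAlg.exists_cancel (R := R) (R' := R') (A := A) (B := B) (fun r a => rfl)
  letI : Algebra (Localization.Away (algebraMap R A f)) (Localization.Away (algebraMap A B (algebraMap R A f))) :=
    (Localization.awayMap φ.toRingHom (algebraMap R A f)).toAlgebra
  haveI : IsScalarTower A (Localization.Away (algebraMap R A f)) (Localization.Away (algebraMap A B (algebraMap R A f))) :=
    IsScalarTower.of_algebraMap_eq fun a => by
      show _ = Localization.awayMap φ.toRingHom (algebraMap R A f) (algebraMap A _ a)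
      rw [Localization.awayMap, IsLocalization.Away.map, IsLocalization.map_eq]
      exact IsScalarTower.algebraMap_apply A B _ a
  obtain ⟨el⟩ := H4GlueAlg.exists_locEquiv (A := A) (B := B) (algebraMap R A f)
  have hg := H4GlueAlg.glueingPair hRR' hA (fun a => rfl)
  constructor
  · intro h
    haveI : Module.Finite A B := h
    haveI : Module.Finite (Localization.Away (algebraMap R A f)) (LocalizedModule (Submonoid.powers (algebraMap R A f)) B) :=
      Module.Finite.equiv ((IsLocalizedModule.isBaseChange (Submonoid.powers (algebraMap R A f)) (Localization.Away (algebraMap R A f))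
        (LocalizedModule.mkLinearMap (Submonoid.powers (algebraMap R A f)) B)).equiv)
    exact ⟨(Module.Finite.equiv el :), (Module.Finite.equiv e :)⟩
  · rintro ⟨h1, h2⟩
    haveI : Module.Finite (Localization.Away (algebraMap R A f)) (Localization.Away (algebraMap A B (algebraMap R A f))) := h1
    haveI : Module.Finite (R' ⊗[R] A) (R' ⊗[R] B) := h2
    haveI := Module.Finite.equiv e.symm
    haveI := Module.Finite.equiv el.symm
    exact H4GlueFinite.finite hg B

end Groth.Agent.S12187
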