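import Groth.Statements.S12205
import Mathlib
import Groth.Agent.Lib.H2TorBalance
import Groth.Agent.Lib.H5FCxTor
import Groth.Agent.Lib.H2LocalCrit

set_option autoImplicit false
universe u
open CategoryTheory
open scoped TensorProduct
open CAlg

namespace Groth.Agent.S12205
open TensorProduct LinearMap CategoryTheory Limits

/-- Let I be an ideal of a commutative ring R and M an R-module such that M/IM is flat over R/I and
Tor_1^R(R/I, M) = 0. Then Tor_1^R(N, M) = 0 for every R-module N annihilated by I^m for some m ≥ 0.
Here Tor_1^R(N, M) is the first left derived functor of N ⊗_R − evaluated at M. -/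
theorem result (R : Type u) [CommRing R] (I : Ideal R) (M : Type u)
    [AddCommGroup M] [Module R M] [Module.Flat (R ⧸ I) ((R ⧸ I) ⊗[R] M)]
    (h : Limits.IsZero (((CategoryTheory.Tor (ModuleCat.{u} R) 1).obj (ModuleCat.of R (R ⧸ I))).obj (ModuleCat.of R M)))
    (N : Type u) [AddCommGroup N] [Module R N] (m : ℕ) (hN : ∀ a : R, a ∈ I ^ m → ∀ x : N, a • x = 0) :
    Limits.IsZero (((CategoryTheory.Tor (ModuleCat.{u} R) 1).obj (ModuleCat.of R N)).obj (ModuleCat.of R M)) := by
  let P := ProjectiveResolution.of (ModuleCat.of R M)
  haveI : Module.Projective R (P.complex.X 0) := (IsProjective.iff_projective _).2 (P.projective 0)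
  let p : P.complex.X 0 →ₗ[R] M := (P.π.f 0).hom
  have hp : Function.Surjective p := (ModuleCat.epi_iff_surjective (P.π.f 0)).1 inferInstance
  let K := LinearMap.ker p
  have hex : Function.Exact K.subtype p := LinearMap.exact_subtype_ker_map p
  have key : ∀ (H : Type u) [AddCommGroup H] [Module R H],
      Limits.IsZero (((CategoryTheory.Tor (ModuleCat.{u} R) 1).obj (ModuleCat.of R H)).obj (ModuleCat.of R M)) ↔
        Function.Injective (K.subtype.lTensor H) := by
    intro H _ _
    obtain ⟨e⟩ := Groth.Agent.H5FCxTor.torOne_equiv H M P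
    rw [ModuleCat.isZero_iff_subsingleton, e.toEquiv.subsingleton_congr, Submodule.subsingleton_iff_eq_bot,
      LinearMap.ker_eq_bot]
    rfl
  have hI : Function.Injective (I.subtype.rTensor M) := by
    refine Groth.Agent.H2TorBalance.bal I.subtype I.mkQ (LinearMap.exact_subtype_mkQ I) I.mkQ_surjective K.subtype p hex hp ?_ ((key _).mp h)
    exact Module.Flat.rTensor_preserves_injective_linearMap _ I.injective_subtype
  let B := N →₀ R
  let g : B →ₗ[R] N := Finsupp.linearCombination R (_root_.id : N → N)
  have hg : Function.Surjective g :=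
    fun n => ⟨Finsupp.single n 1, (Finsupp.linearCombination_single R _ _).trans (one_smul R n)⟩
  have hin : Function.Injective ((LinearMap.ker g).subtype.rTensor M) :=
    Groth.Agent.H2LocalCrit.Inj.of_killed_pow I hI m N hN B g hg
  refine (key N).mpr ((lTensor_inj_iff_rTensor_inj N _).mpr ?_)
  refine Groth.Agent.H2TorBalance.bal K.subtype p hex hp (K := ↥(LinearMap.ker g)) (F := B) (M := N) (LinearMap.ker g).subtype g (LinearMap.exact_subtype_ker_map g) hg ?_ ?_
  · exact Module.Flat.rTensor_preserves_injective_linearMap _ (Submodule.injective_subtype _)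
  · exact (lTensor_inj_iff_rTensor_inj M _).mpr hin

end Groth.Agent.S12205
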