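import Groth.Statements.S12222
import Mathlib
import Groth.Agent.Lib.H4HenselSections


set_option autoImplicit false
universe u
open Hensel

namespace Groth.Agent.S12222

/-- (11) ⇒ (1): let R be a local ring such that every finite-type R-algebra S can be written as a
product A × B with A finite over R and R → B quasi-finite at no prime lying over the maximal ideal —
concretely, S has an idempotent e with S/(1 − e) finite over R and R → S/(e) quasi-finite at no
prime over the maximal ideal. Then R is henselian. -/
theorem result (R : Type u) [CommRing R] [IsLocalRing R]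
    (h : ∀ (S : Type u) [CommRing S] [Algebra R S] [Algebra.FiniteType R S],
      ∃ e : S, IsIdempotentElem e ∧ Module.Finite R (S ⧸ Ideal.span ({1 - e} : Set S)) ∧
        ∀ (q : Ideal (S ⧸ Ideal.span ({e} : Set S))) [q.IsPrime],
          q.LiesOver (IsLocalRing.maximalIdeal R) → ¬ Algebra.QuasiFiniteAt R q) :
    HenselianLocalRing R := by
  refine H4HenselPair.of_standardEtale fun P σ hσ => ?_
  let m := IsLocalRing.maximalIdeal R
  let q := RingHom.ker (σ : P.Ring →+* IsLocalRing.ResidueField R)
  have hqp : q.IsPrime := RingHom.ker_isPrime _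
  obtain ⟨e, he, hfin, hno⟩ := h P.Ring
  have heq : σ e = 1 := by
    refine (IsIdempotentElem.iff_eq_zero_or_one.mp (he.map σ)).resolve_left fun h0 => ?_
    have hle : Ideal.span {e} ≤ q := (Ideal.span_singleton_le_iff_mem _).mpr h0
    let q' := q.map (Ideal.Quotient.mk (Ideal.span {e}))
    have : q'.IsPrime := Ideal.map_isPrime_of_surjective Ideal.Quotient.mk_surjective (by simpa using hle)
    have hl : q'.LiesOver m := ⟨by
      rw [Ideal.under, IsScalarTower.algebraMap_eq R P.Ring (P.Ring ⧸ Ideal.span {e}),
        ← Ideal.comap_comap, Ideal.Quotient.algebraMap_eq,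
        Ideal.comap_map_of_surjective _ Ideal.Quotient.mk_surjective]
      rw [sup_eq_left.mpr (by simpa [← RingHom.ker_eq_comap_bot] using hle)]
      ext r
      rw [Ideal.mem_comap, RingHom.mem_ker, AlgHom.coe_toRingHom, AlgHom.commutes]
      exact (IsLocalRing.residue_eq_zero_iff r).symm⟩
    exact hno q' hl inferInstance
  obtain ⟨s, hs⟩ := Module.finite_def.mp hfin
  choose g hg using fun z : P.Ring ⧸ Ideal.span {1 - e} => Ideal.Quotient.mk_surjective z
  let N : Submodule R P.Ring := LinearMap.range (LinearMap.mulRight R e)
  have hNfg : N.FG := by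
    classical
    refine ⟨s.image fun z => g z * e, le_antisymm ?_ ?_⟩
    · rw [Submodule.span_le]
      intro y hy
      obtain ⟨z, -, rfl⟩ := Finset.mem_image.mp hy
      exact ⟨g z, rfl⟩
    · rintro _ ⟨y, rfl⟩
      have hy : Ideal.Quotient.mk (Ideal.span {1 - e}) y ∈ Submodule.span R (s : Set (P.Ring ⧸ Ideal.span {1 - e})) :=
        hs ▸ Submodule.mem_top
      have lift_mul : ∀ a b : P.Ring, Ideal.Quotient.mk (Ideal.span {1 - e}) a = Ideal.Quotient.mk _ b →
          a * e = b * e := by
        intro a b hab
        obtain ⟨c, hc⟩ := Ideal.mem_span_singleton'.mp (Ideal.Quotient.eq.mp hab)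
        linear_combination -e * hc - c * he.eq
      suffices ∀ w ∈ Submodule.span R (s : Set (P.Ring ⧸ Ideal.span {1 - e})),
          g w * e ∈ Submodule.span R ((s.image fun z => g z * e : Finset P.Ring) : Set P.Ring) by
        rw [LinearMap.mulRight_apply, lift_mul y (g (Ideal.Quotient.mk _ y)) (hg _).symm]
        exact this _ hy
      intro w hw
      induction hw using Submodule.span_induction with
      | mem w hw => exact Submodule.subset_span (Finset.mem_image_of_mem _ hw)
      | zero =>
        rw [lift_mul (g 0) 0 (by rw [hg, map_zero]), zero_mul]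
        exact zero_mem _
      | add a b _ _ ha hb =>
        rw [lift_mul (g (a + b)) (g a + g b) (by rw [map_add, hg, hg, hg]), add_mul]
        exact add_mem ha hb
      | smul r a _ ha =>
        rw [lift_mul (g (r • a)) (r • g a) (by rw [hg]; exact (congrArg (r • ·) (hg a)).symm),
          smul_mul_assoc]
        exact Submodule.smul_mem _ _ ha
  have hcyc : ∀ y, ∃ a : R, y * e = a • e := by
    intro y
    have hN : N ≤ Submodule.span R {e} := by
      refine Submodule.le_of_le_smul_of_le_jacobson_bot hNfg
        (IsLocalRing.jacobson_eq_maximalIdeal ⊥ bot_ne_top).ge ?_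
      rintro _ ⟨z, rfl⟩
      obtain ⟨r, hr⟩ := IsLocalRing.residue_surjective (σ z)
      have hd : z - algebraMap R P.Ring r ∈ m.map (algebraMap R P.Ring) := by
        rw [hσ, RingHom.mem_ker, map_sub, sub_eq_zero]
        exact hr.symm.trans (σ.commutes r).symm
      have hd' : z - algebraMap R P.Ring r ∈ m • (⊤ : Submodule R P.Ring) := by
        rw [Ideal.smul_top_eq_map]; exact hd
      have h3 := Submodule.mem_map_of_mem (f := LinearMap.mulRight R e) hd'
      rw [Submodule.map_smul'', Submodule.map_top, LinearMap.mulRight_apply, sub_mul,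
        ← Algebra.smul_def] at h3
      have : LinearMap.mulRight R e z = r • e + (z * e - r • e) := by
        rw [LinearMap.mulRight_apply]; abel
      rw [this]
      exact Submodule.add_mem_sup (Submodule.smul_mem _ _ (Submodule.mem_span_singleton_self e)) h3
    obtain ⟨a, ha⟩ := Submodule.mem_span_singleton.mp (hN ⟨y, rfl⟩)
    exact ⟨a, ha.symm⟩
  obtain ⟨τ, -⟩ := H4HenselPair.section_of_idempotent m
    (IsLocalRing.jacobson_eq_maximalIdeal ⊥ bot_ne_top).ge σ e he heq hcyc
  exact ⟨τ⟩

end Groth.Agent.S12222
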