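import Groth.Statements.S1223
import Mathlib
import Groth.Prelude.Def_FlatCA
import Groth.Agent.Lib.H2FiberMod

set_option autoImplicit false
universe u
open FlatMor

namespace Groth.Agent.S1223
open scoped TensorProduct
open Groth.Agent.H2WeakAss Groth.Agent.H2FiberMod
open AlgebraicGeometry CategoryTheory
set_option linter.style.haveILetI false

/-- Ring form, X = Spec B affine: a finite type, flat A-algebra B with geometrically integral fibres is
universally pure relative to Spec A. -/
theorem result {A B : Type u} [CommRing A] [CommRing B] [Algebra A B] [Algebra.FiniteType A B] [Module.Flat A B]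
    (h : FlatCA.GeomIntegralFibres A B) : FlatCA.IsUnivPure A B B := by
  intro p _ A' B' N' _ _ _ _ _ _ _ _ _ _ _ _ _ _ f t' t _ _ P _ himp
  obtain ⟨hpush, hbc, hle, -, hPt', hass, hno⟩ := himp
  haveI := hpush
  haveI : Algebra.IsPushout A A' B B' := hpush.symm
  haveI : Module.Flat A' B' := Module.Flat.isBaseChange (R := A) (S := A') (M := B) B' hpush.symm.out
  have hdom : ∀ (K : Ideal A') [K.IsPrime], IsDomain (K.Fiber B') := by
    intro K _
    letI : Algebra A K.ResidueField := inferInstance
    have h1 := h.geometrically_isIntegral (K := K.ResidueField) (Spec.map (CommRingCat.ofHom (algebraMap A K.ResidueField)))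
      (Limits.pullback.fst (Spec.map (CommRingCat.ofHom (algebraMap A B))) (Spec.map (CommRingCat.ofHom (algebraMap A K.ResidueField))))
      (Limits.pullback.snd _ _) (.of_hasPullback _ _)
    haveI : IsIntegral (Spec (CommRingCat.of (B ⊗[A] K.ResidueField))) :=
      haveI := h1
      haveI : Nonempty (Spec (CommRingCat.of (B ⊗[A] K.ResidueField))) :=
        Nonempty.map (pullbackSpecIso A B K.ResidueField).hom.base inferInstance
      isIntegral_of_isOpenImmersion (pullbackSpecIso A B K.ResidueField).inv
    haveI : IsDomain (B ⊗[A] K.ResidueField) := (affine_isIntegral_iff (CommRingCat.of (B ⊗[A] K.ResidueField))).mp inferInstance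
    have e₁ : K.ResidueField ⊗[A'] B' ≃ₐ[A'] K.ResidueField ⊗[A'] (A' ⊗[A] B) :=
      Algebra.TensorProduct.congr AlgEquiv.refl (Algebra.IsPushout.equiv A A' B B').symm
    have e₂ : K.ResidueField ⊗[A'] (A' ⊗[A] B) ≃ₐ[K.ResidueField] K.ResidueField ⊗[A] B :=
      Algebra.TensorProduct.cancelBaseChange A A' K.ResidueField K.ResidueField B
    exact ((e₁.toRingEquiv.trans e₂.toRingEquiv).trans (Algebra.TensorProduct.comm A K.ResidueField B).toRingEquiv).toMulEquiv.isDomain _
  haveI := hdom t'
  haveI := hdom t
  obtain ⟨o⟩ : Nonempty (PrimeSpectrum (t.Fiber B')) := inferInstance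
  haveI : (o.asIdeal.comap (Algebra.TensorProduct.includeRight (R := A') (A := t.ResidueField) (B := B'))).IsPrime := Ideal.comap_isPrime _ _
  let Q := o.asIdeal.comap (Algebra.TensorProduct.includeRight (R := A') (A := t.ResidueField) (B := B'))
  haveI hQt : Q.LiesOver t := by
    refine ⟨?_⟩
    rw [Ideal.over_def o.asIdeal t]
    ext c
    simp [Q, Ideal.mem_comap, AlgHom.commutes]
  obtain ⟨Q', hQ', hQ'p, hQ't'⟩ := Ideal.exists_ideal_le_liesOver_of_le (p := t') (q := t) Q hle
  haveI := hQ'p
  haveI := hQ't'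
  refine hno Q (le_trans ?_ hQ') hQt
  -- `P` is the generic point of the fibre over `t'`
  letI : Algebra B' (t'.Fiber B') := Algebra.TensorProduct.rightAlgebra
  obtain ⟨hP, x, hx⟩ := hass
  have hann : FlatCA.fiberIdeal t' P = ⊥ := by
    have hfaith : ∀ c : t'.Fiber B', c ∈ (⊥ : Submodule (t'.Fiber B') (FlatCA.fiberMod t' B' N')).colon {x} → c = 0 := by
      intro c hc
      rw [Submodule.mem_colon_singleton, Submodule.mem_bot] at hc
      let e : FlatCA.fiberMod t' B' N' ≃ₗ[t'.Fiber B'] t'.Fiber B' :=
        (TensorProduct.AlgebraTensorModule.congr (LinearEquiv.refl (t'.Fiber B') (t'.Fiber B'))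
          ((hbc.equiv).symm.trans (TensorProduct.AlgebraTensorModule.rid B B' B'))).trans
            (TensorProduct.AlgebraTensorModule.rid B' (t'.Fiber B') (t'.Fiber B'))
      have h0 := congrArg e hc
      rw [map_smul, map_zero, smul_eq_mul] at h0
      refine (mul_eq_zero.1 h0).resolve_right fun hx0 => hP.ne_top ((Ideal.eq_top_iff_one _).2 ?_)
      rw [hx]
      exact Ideal.le_radical (Submodule.mem_colon_singleton.2 ((Submodule.mem_bot _).2 (by
        rw [e.map_eq_zero_iff.1 hx0, smul_zero])))
    refine eq_bot_iff.2 fun c hc => ?_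
    obtain ⟨n, hn⟩ := hx.le hc
    exact (Ideal.mem_bot).2 (eq_zero_of_pow_eq_zero (hfaith _ hn))
  intro a ha
  have h1 : Algebra.TensorProduct.includeRight (R := A') (A := t'.ResidueField) (B := B') a = 0 := by
    rw [← Ideal.mem_bot (R := t'.Fiber B'), ← hann]
    exact Ideal.mem_map_of_mem _ ha
  let o' := (PrimeSpectrum.preimageOrderIsoFiber A' B' ⟨t', inferInstance⟩) ⟨⟨Q', inferInstance⟩, PrimeSpectrum.ext (Ideal.over_def Q' t').symm⟩
  have ho := congrArg (fun z => (Subtype.val z).asIdeal)
    ((PrimeSpectrum.preimageOrderIsoFiber A' B' ⟨t', inferInstance⟩).symm_apply_apply ⟨⟨Q', inferInstance⟩, PrimeSpectrum.ext (Ideal.over_def Q' t').symm⟩)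
  refine ho.le ?_
  show Algebra.TensorProduct.includeRight (R := A') (A := t'.ResidueField) (B := B') a ∈ o'.asIdeal
  rw [h1]; exact Ideal.zero_mem _

end Groth.Agent.S1223
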