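import Groth.Statements.S1224
import Mathlib
import Groth.Prelude.Def_FlatCA
import Groth.Agent.Lib.H2FiberMod

set_option autoImplicit false
universe u
open FlatMor

namespace Groth.Agent.S1224
open scoped TensorProduct
open Groth.Agent.H2WeakAss Groth.Agent.H2FiberMod
set_option linter.style.haveILetI false

/-- Ring form, X = Spec B affine, where proper support means finite support: let B be a finite type
A-algebra and N a finite B-module such that B modulo the annihilator of N is finite over A. Then N
is universally pure relative to Spec A. -/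
theorem result {A B : Type u} [CommRing A] [CommRing B] [Algebra A B] [Algebra.FiniteType A B]
    (N : Type u) [AddCommGroup N] [Module B N] [Module A N] [IsScalarTower A B N] [Module.Finite B N]
    [Module.Finite A (B ⧸ Module.annihilator B N)] : FlatCA.IsUnivPure A B N := by
  intro p _ A' B' N' _ _ _ _ _ _ _ _ _ _ _ _ _ _ f t' t _ _ P _ himp
  obtain ⟨hpush, hbc, hle, -, hPt', hass, hno⟩ := himp
  letI : Algebra B' (t'.Fiber B') := Algebra.TensorProduct.rightAlgebra
  -- the annihilator of `N` maps into `P`
  have hJ : ∀ a ∈ Module.annihilator B N, algebraMap B B' a ∈ P := by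
    intro a ha
    have h0 : ∀ y : N', algebraMap B B' a • y = 0 := by
      intro y
      induction y using hbc.inductionOn with
      | zero => exact smul_zero _
      | tmul n => rw [algebraMap_smul, ← map_smul, Module.mem_annihilator.1 ha n, map_zero]
      | smul s y hy => rw [smul_comm, hy, smul_zero]
      | add y₁ y₂ h₁ h₂ => rw [smul_add, h₁, h₂, add_zero]
    obtain ⟨hQp, x, hx⟩ := hass
    obtain ⟨r, hr, n, hn⟩ := exists_smul_eq t' x
    have hax : algebraMap B B' a • x = 0 := by
      refine smul_eq_zero_of_notMem t' hr ?_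
      rw [smul_comm, hn, ← map_smul, h0, map_zero]
    have hmem : Algebra.TensorProduct.includeRight (R := A') (A := t'.ResidueField) (B := B') (algebraMap B B' a) ∈ FlatCA.fiberIdeal t' P := by
      rw [hx]
      refine Ideal.le_radical (Submodule.mem_colon_singleton.2 ((Submodule.mem_bot _).2 ?_))
      rw [includeRight_smul]; exact hax
    -- descend along `includeRight`
    by_contra hnot
    have hdisj : Disjoint (Algebra.algebraMapSubmonoid B' t'.primeCompl : Set B') (P : Set B') := by
      rw [Set.disjoint_left]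
      rintro _ ⟨c, hc, rfl⟩ hcP
      exact hc ((Ideal.over_def P t').ge hcP)
    obtain ⟨Q, hQ, hQP⟩ : ∃ Q : Ideal (t'.Fiber B'), FlatCA.fiberIdeal t' P ≤ Q ∧
        Q.comap (Algebra.TensorProduct.includeRight (R := A') (A := t'.ResidueField) (B := B')).toRingHom ≤ P := by
      let o : PrimeSpectrum (t'.Fiber B') := (PrimeSpectrum.preimageOrderIsoFiber A' B' ⟨t', inferInstance⟩)
        ⟨⟨P, inferInstance⟩, PrimeSpectrum.ext (Ideal.over_def P t').symm⟩
      have ho := congrArg (fun z => (Subtype.val z).asIdeal)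
        ((PrimeSpectrum.preimageOrderIsoFiber A' B' ⟨t', inferInstance⟩).symm_apply_apply ⟨⟨P, inferInstance⟩, PrimeSpectrum.ext (Ideal.over_def P t').symm⟩)
      exact ⟨o.asIdeal, Ideal.map_le_iff_le_comap.2 ho.ge, ho.le⟩
    exact hnot (hQP (hQ hmem))
  -- `B' ⧸ P` is integral over `A'`
  haveI : Algebra.IsIntegral A' (B' ⧸ P) := by
    refine ⟨fun z => ?_⟩
    obtain ⟨z, rfl⟩ := Ideal.Quotient.mk_surjective z
    induction z using hpush.symm.out.inductionOn with
    | zero => rw [map_zero]; exact isIntegral_zero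
    | tmul b =>
      obtain ⟨g, hg, hgb⟩ := Algebra.IsIntegral.isIntegral (R := A) (Ideal.Quotient.mk (Module.annihilator B N) b)
      refine ⟨g.map (algebraMap A A'), hg.map _, ?_⟩
      rw [Polynomial.eval₂_map]
      have h1 : Ideal.Quotient.mk P (algebraMap B B' (g.eval₂ (algebraMap A B) b)) = 0 :=
        Ideal.Quotient.eq_zero_iff_mem.2 (hJ _ (by
          rw [← Ideal.Quotient.eq_zero_iff_mem, Polynomial.hom_eval₂]
          exact hgb))
      rw [Polynomial.hom_eval₂, Polynomial.hom_eval₂] at h1
      rw [IsScalarTower.algebraMap_eq A' B' (B' ⧸ P), Ideal.Quotient.algebraMap_eq, RingHom.comp_assoc,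
        ← IsScalarTower.algebraMap_eq A A' B', IsScalarTower.algebraMap_eq A B B']
      exact h1
    | smul s z hz => rw [Algebra.smul_def, map_mul]; exact isIntegral_algebraMap.mul hz
    | add z₁ z₂ h₁ h₂ => rw [map_add]; exact h₁.add h₂
  obtain ⟨Q, -, hQ, hQt⟩ := Ideal.exists_ideal_over_prime_of_isIntegral t (⊥ : Ideal (B' ⧸ P)) (by
    rw [show (⊥ : Ideal (B' ⧸ P)).comap (algebraMap A' (B' ⧸ P)) = t' from ?_]
    · exact hle
    · ext c
      rw [Ideal.mem_comap, Ideal.mem_bot, IsScalarTower.algebraMap_apply A' B' (B' ⧸ P),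
        Ideal.Quotient.algebraMap_eq, Ideal.Quotient.eq_zero_iff_mem, Ideal.over_def P t']
      rfl)
  haveI := hQ
  haveI : (Q.comap (Ideal.Quotient.mk P)).IsPrime := Ideal.comap_isPrime _ _
  exact hno (Q.comap (Ideal.Quotient.mk P)) (fun c hc => by
    rw [Ideal.mem_comap, Ideal.Quotient.eq_zero_iff_mem.2 hc]; exact Ideal.zero_mem _)
    ⟨by rw [← hQt]; ext c; rfl⟩

end Groth.Agent.S1224
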