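import Groth.Statements.S12257
import Mathlib
import Groth.Agent.Lib.H9Art


set_option autoImplicit false
universe u v
open CategoryTheory CategoryTheory.Limits
open Deform

namespace Groth.Agent.S12257

/-- Let k be an algebraically closed field, Λ a complete local Noetherian k-algebra with residue field
k, and F, G, H set-valued functors on local Artinian Λ-algebras with residue field k, each with
one-point value at k. If F → G is a smooth morphism of functors and H → G is any morphism, then the
second projection F ×_G H → H of the fibre product of functors is smooth. -/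
theorem result
    {k Λ : Type u} [Field k] [IsAlgClosed k] [CommRing Λ] [IsLocalRing Λ] [IsNoetherianRing Λ]
    [IsAdicComplete (IsLocalRing.maximalIdeal Λ) Λ] [Algebra k Λ] [Algebra Λ k] [IsScalarTower k Λ k]
    {F G H : ArtFun.Art Λ k ⥤ Type v} (η : F ⟶ G) (θ : H ⟶ G)
    (hF : ArtFun.H0 F) (hG : ArtFun.H0 G) (hH : ArtFun.H0 H) (hη : ArtFun.IsSmooth η) :
    ArtFun.IsSmooth (pullback.snd η θ) := by
  intro B A μ hμ
  rw [H9Art.relCmp_surjective_iff]
  intro a b hab
  have hw : η.app A ((pullback.fst η θ).app A a) = G.map μ (θ.app B b) := by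
    have := congr_fun (congrArg (fun t => (t.app A : _ → _)) (pullback.condition (f := η) (g := θ))) a
    simp only [NatTrans.comp_app] at this
    rw [← NatTrans.naturality_apply θ μ b, ← hab]
    exact this
  obtain ⟨y, hy₁, hy₂⟩ := (H9Art.relCmp_surjective_iff η μ).1 (hη μ hμ) _ _ hw
  have eF : ∀ C (x : (pullback η θ).obj C), pullback.fst (η.app C) (θ.app C) ((pullbackObjIso η θ C).hom x) = (pullback.fst η θ).app C x :=
    fun C x => ConcreteCategory.congr_hom (pullbackObjIso_hom_comp_fst η θ C) x
  have eS : ∀ C (x : (pullback η θ).obj C), pullback.snd (η.app C) (θ.app C) ((pullbackObjIso η θ C).hom x) = (pullback.snd η θ).app C x :=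
    fun C x => ConcreteCategory.congr_hom (pullbackObjIso_hom_comp_snd η θ C) x
  let z := (pullbackObjIso η θ B).inv ((Limits.Types.pullbackIsoPullback (η.app B) (θ.app B)).inv ⟨(y, b), hy₂⟩)
  have hz₁ : (pullback.fst η θ).app B z = y := by rw [← eF]; simp [z]
  have hz₂ : (pullback.snd η θ).app B z = b := by rw [← eS]; simp [z]
  refine ⟨z, ?_, hz₂⟩
  apply (ConcreteCategory.bijective_of_isIso (pullbackObjIso η θ A).hom).1
  apply (ConcreteCategory.bijective_of_isIso (Limits.Types.pullbackIsoPullback (η.app A) (θ.app A)).hom).1
  refine Subtype.ext (Prod.ext ?_ ?_)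
  · have h1 : (pullback.fst η θ).app A ((pullback η θ).map μ z) = (pullback.fst η θ).app A a := by
      rw [NatTrans.naturality_apply, hz₁, hy₁]
    rw [← eF, ← eF] at h1
    simpa using h1
  · have h1 : (pullback.snd η θ).app A ((pullback η θ).map μ z) = (pullback.snd η θ).app A a := by
      rw [NatTrans.naturality_apply, hz₂, hab]
    rw [← eS, ← eS] at h1
    simpa using h1

end Groth.Agent.S12257
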