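import Groth.Statements.S12258
import Mathlib
import Groth.Agent.Lib.H9Art


set_option autoImplicit false
universe u v
open CategoryTheory CategoryTheory.Limits
open Deform

namespace Groth.Agent.S12258

/-- Let k be an algebraically closed field, Λ a complete local Noetherian k-algebra with residue field
k, and F, G set-valued functors on local Artinian Λ-algebras with residue field k, each with
one-point value at k. If F and G are smooth functors, i.e. F(B) → F(A) and G(B) → G(A) are
surjective for every surjection B → A, then the product functor F × G is smooth. -/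
theorem result
    {k Λ : Type u} [Field k] [IsAlgClosed k] [CommRing Λ] [IsLocalRing Λ] [IsNoetherianRing Λ]
    [IsAdicComplete (IsLocalRing.maximalIdeal Λ) Λ] [Algebra k Λ] [Algebra Λ k] [IsScalarTower k Λ k]
    {F G : ArtFun.Art Λ k ⥤ Type v}
    (hF : ArtFun.H0 F) (hG : ArtFun.H0 G) (sF : ArtFun.IsSmoothFunctor F) (sG : ArtFun.IsSmoothFunctor G) :
    ArtFun.IsSmoothFunctor (F ⨯ G) := by
  intro B A μ hμ x
  let e := fun C => PreservesLimitPair.iso ((evaluation (ArtFun.Art Λ k) (Type v)).obj C) F G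
  have eF : ∀ C (x : (F ⨯ G).obj C), (Limits.prod.fst : F.obj C ⨯ G.obj C ⟶ F.obj C) ((e C).hom x) = (Limits.prod.fst : F ⨯ G ⟶ F).app C x :=
    fun C x => ConcreteCategory.congr_hom (prodComparison_fst ((evaluation (ArtFun.Art Λ k) (Type v)).obj C) F G) x
  have eS : ∀ C (x : (F ⨯ G).obj C), (Limits.prod.snd : F.obj C ⨯ G.obj C ⟶ G.obj C) ((e C).hom x) = (Limits.prod.snd : F ⨯ G ⟶ G).app C x :=
    fun C x => ConcreteCategory.congr_hom (prodComparison_snd ((evaluation (ArtFun.Art Λ k) (Type v)).obj C) F G) x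
  obtain ⟨y₁, hy₁⟩ := sF μ hμ ((Limits.prod.fst : F ⨯ G ⟶ F).app A x)
  obtain ⟨y₂, hy₂⟩ := sG μ hμ ((Limits.prod.snd : F ⨯ G ⟶ G).app A x)
  let z := (e B).inv ((Limits.Types.binaryProductIso _ _).inv (y₁, y₂))
  refine ⟨z, ?_⟩
  apply (ConcreteCategory.bijective_of_isIso (e A).hom).1
  apply (ConcreteCategory.bijective_of_isIso (Limits.Types.binaryProductIso _ _).hom).1
  refine Prod.ext ?_ ?_
  · have h1 : ((Limits.prod.fst : F ⨯ G ⟶ F).app A) ((F ⨯ G).map μ z) = ((Limits.prod.fst : F ⨯ G ⟶ F).app A) x := by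
      have hz : (Limits.prod.fst : F ⨯ G ⟶ F).app B z = y₁ := by rw [← eF]; simp [z]
      rw [NatTrans.naturality_apply, ← hy₁, hz]
    rw [← eF, ← eF] at h1
    simpa using h1
  · have h1 : ((Limits.prod.snd : F ⨯ G ⟶ G).app A) ((F ⨯ G).map μ z) = ((Limits.prod.snd : F ⨯ G ⟶ G).app A) x := by
      have hz : (Limits.prod.snd : F ⨯ G ⟶ G).app B z = y₂ := by rw [← eS]; simp [z]
      rw [NatTrans.naturality_apply, ← hy₂, hz]
    rw [← eS, ← eS] at h1
    simpa using h1

end Groth.Agent.S12258
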