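import Groth.Statements.S12299
import Groth.Agent.Lib.H9ArtLift

set_option autoImplicit false
set_option backward.isDefEq.respectTransparency.types false
universe u v
open CategoryTheory
open ArtFun

namespace Groth.Agent.S12299

/-- Let k be an algebraically closed field, F a set-valued functor on local Artinian k-algebras with
residue field k, and (R, ξ) a miniversal family for F, with R a complete local Noetherian k-algebra
with residue field k: the morphism h_R → F has the lifting property along surjections and is
bijective on the dual numbers. Let S be a complete local Noetherian k-algebra with residue field k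
and g₁, g₂ : R → S two k-algebra maps compatible with the augmentations along which ξ induces the
same formal family over S (the same compatible sequence in the F(S/m^(n+1))). Then g₁ and g₂ induce
the same map R → S/m_S², so the map R/m_R² → S/m_S² attached to a formal family over S is well
defined. (Coefficient rings are taken Noetherian here.) -/
theorem result
    {k : Type u} [Field k] [IsAlgClosed k] {F : ArtFun.Art k k ⥤ Type v}
    (R : ArtFun.CRing k k) (ξ : ArtFun.Family R.carrier R.res F) (hξ : ArtFun.IsMiniversal ξ)
    (S : ArtFun.CRing k k) (g₁ g₂ : R.carrier →ₐ[k] S.carrier)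
    (hg₁ : S.res.comp g₁ = R.res) (hg₂ : S.res.comp g₂ = R.res)
    (h : (ξ.along g₁ hg₁).toFormalElt = (ξ.along g₂ hg₂).toFormalElt) :
    (S.truncHom 1).1.comp g₁ = (S.truncHom 1).1.comp g₂ := by
  have hsq : IsLocalRing.maximalIdeal (S.trunc 1) ^ 2 = ⊥ := by
    rw [eq_bot_iff]
    calc IsLocalRing.maximalIdeal (S.trunc 1) ^ 2
        ≤ ((IsLocalRing.maximalIdeal S.carrier).map (Ideal.Quotient.mk (S.mpow 1))) ^ 2 :=
          Ideal.pow_right_mono (ArtFun.CRing.maximalIdeal_quot_le S 1) _
      _ = (S.mpow 1).map (Ideal.Quotient.mk (S.mpow 1)) := by rw [← Ideal.map_pow]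
      _ = ⊥ := Ideal.map_quotient_self _
  let σ : ArtFun.Art.base k k ⟶ S.trunc 1 := ⟨Algebra.ofId k _, AlgHom.ext fun c => (S.trunc 1).res.commutes c⟩
  have hsame := congrArg (fun t => t.elt 1) h
  exact congrArg Subtype.val (H9Art.homSet_ext_dual hsq σ
    (φ := ⟨(S.truncHom 1).1.comp g₁, by rw [← AlgHom.comp_assoc, (S.truncHom 1).2, hg₁]⟩)
    (ψ := ⟨(S.truncHom 1).1.comp g₂, by rw [← AlgHom.comp_assoc, (S.truncHom 1).2, hg₂]⟩)
    fun π => hξ.2.1 (by rw [ξ.natural, ξ.natural]; exact congrArg (F.map π) hsame))

end Groth.Agent.S12299
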