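import Groth.Statements.S12301
import Groth.Agent.Lib.H9ArtFormal

set_option autoImplicit false
set_option backward.isDefEq.respectTransparency.types false
universe u v
open CategoryTheory
open ArtFun

namespace Groth.Agent.S12301

/-- Let k be an algebraically closed field, f : F₁ → F₂ a morphism of set-valued functors on local
Artinian k-algebras with residue field k, (R₁, ξ₁) a family for F₁ and (R₂, ξ₂) a versal family for
F₂, where R₁, R₂ are complete local Noetherian k-algebras with residue field k and versal is meant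
in the strong sense: h_{R₂} → F₂ is surjective on every object and has the lifting property along
surjections. Then there is a k-algebra map φ : R₂ → R₁, compatible with the augmentations, such that
for every local Artinian A and every u : R₁ → A the element of F₂(A) given by ξ₂ at u ∘ φ equals the
image under f of the element of F₁(A) given by ξ₁ at u; in other words composition with φ, h_{R₁} →
h_{R₂}, covers f. (The published statement assumes (R₁, ξ₁) versal as well; this row asks nothing of
ξ₁, which is all the argument uses, and takes the coefficient rings Noetherian.) -/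
theorem result
    {k : Type u} [Field k] [IsAlgClosed k] {F₁ F₂ : ArtFun.Art k k ⥤ Type v} (f : F₁ ⟶ F₂)
    (R₁ : ArtFun.CRing k k) (ξ₁ : ArtFun.Family R₁.carrier R₁.res F₁)
    (R₂ : ArtFun.CRing k k) (ξ₂ : ArtFun.Family R₂.carrier R₂.res F₂) (hξ₂ : ArtFun.IsVersal ξ₂)
    (hsurj : ∀ A : ArtFun.Art k k, Function.Surjective (ξ₂.app A)) :
    ∃ (φ : R₂.carrier →ₐ[k] R₁.carrier) (hφ : R₁.res.comp φ = R₂.res),
      ∀ (A : ArtFun.Art k k) (u : ArtFun.HomSet R₁.carrier R₁.res A),
        (ξ₂.along φ hφ).app A u = f.app A (ξ₁.app A u) := by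
  have h0 := H9Art.h0_of_surjective ξ₂ hsurj
  let η := (ξ₁.push f).toFormalElt
  have step : ∀ n (φ : ArtFun.HomSet R₂.carrier R₂.res (R₁.trunc n)), ξ₂.app _ φ = η.elt n →
      ∃ ψ : ArtFun.HomSet R₂.carrier R₂.res (R₁.trunc (n + 1)),
        ArtFun.HomSet.map (R₁.truncMap n) ψ = φ ∧ ξ₂.app _ ψ = η.elt (n + 1) := fun n φ hφ =>
    hξ₂ _ (H9Art.truncMap_surjective R₁ n) φ (η.elt (n + 1)) (by rw [hφ, η.compat])
  choose next hn₁ hn₂ using step
  obtain ⟨φ₀, hφ₀⟩ := hsurj (R₁.trunc 0) (η.elt 0)
  let u : ∀ n, {φ : ArtFun.HomSet R₂.carrier R₂.res (R₁.trunc n) // ξ₂.app _ φ = η.elt n} :=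
    fun n => Nat.rec ⟨φ₀, hφ₀⟩ (fun n a => ⟨next n a.1 a.2, hn₂ n a.1 a.2⟩) n
  obtain ⟨g, hg, hgn⟩ := H9Art.exists_lim R₁ (fun n => (u n).1) (fun n => hn₁ n (u n).1 (u n).2)
  refine ⟨g, hg, fun A v => ?_⟩
  exact H9Art.family_ext R₁ (ξ := ξ₂.along g hg) (η := ξ₁.push f)
    (ArtFun.FormalElt.ext' fun n => (congrArg (ξ₂.app _) (Subtype.ext (hgn n))).trans (u n).2) A v

end Groth.Agent.S12301
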