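import Groth.Statements.S12418
import Mathlib

set_option autoImplicit false
universe u
open CAlg

namespace Groth.Agent.S12418
open scoped TensorProduct
set_option linter.style.haveILetI false

/-- Let R be a Noetherian ring and b ∈ R; for x outside the ideal (b) put I_x = ((b) : x), the ideal of
r with r x ∈ (b). If s ∉ (b) and I_s is maximal among the I_x (x ∉ (b)), then I_s is prime. -/
theorem result {R : Type u} [CommRing R] [IsNoetherianRing R]
    (b s : R) (hs : s ∉ Ideal.span {b})
    (hmax : ∀ x : R, x ∉ Ideal.span {b} →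
      Submodule.colon (Ideal.span {b}) (Ideal.span {s}) ≤ Submodule.colon (Ideal.span {b}) (Ideal.span {x}) →
      Submodule.colon (Ideal.span {b}) (Ideal.span {x}) = Submodule.colon (Ideal.span {b}) (Ideal.span {s})) :
    (Submodule.colon (Ideal.span {b}) (Ideal.span ({s} : Set R))).IsPrime := by
  have hm : ∀ x r : R, r ∈ Submodule.colon (Ideal.span {b}) (Ideal.span ({x} : Set R)) ↔ r * x ∈ Ideal.span {b} := fun x r => by
    rw [Submodule.mem_colon]
    refine ⟨fun h => h x (Ideal.subset_span rfl), fun h y hy => ?_⟩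
    obtain ⟨c, rfl⟩ := Ideal.mem_span_singleton'.1 hy
    rw [smul_eq_mul, mul_left_comm]; exact Ideal.mul_mem_left _ c h
  refine ⟨fun htop => hs ?_, fun {x y} hxy => ?_⟩
  · simpa using (hm s 1).1 (htop ▸ trivial)
  · rw [hm] at hxy
    by_contra hcon
    push Not at hcon
    obtain ⟨hx, hy⟩ := hcon
    rw [hm] at hy
    have hle : Submodule.colon (Ideal.span {b}) (Ideal.span {s}) ≤ Submodule.colon (Ideal.span {b}) (Ideal.span {y * s}) := fun r hr => by
      rw [hm] at hr ⊢; rw [mul_left_comm]; exact Ideal.mul_mem_left _ y hr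
    have heq := hmax (y * s) hy hle
    apply hx
    rw [← heq, hm]
    rwa [← mul_assoc]

end Groth.Agent.S12418
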