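import Groth.Statements.S12419
import Mathlib
import Groth.Agent.Lib.H2FibreCrit
import Groth.Agent.Lib.H2FibreInj
import Groth.Agent.Lib.H2ArtFlat
import Groth.Agent.Lib.H2LocalCrit

set_option autoImplicit false
universe u
open TensorProduct
open CAlg

namespace Groth.Agent.S12419
set_option maxHeartbeats 4000000
set_option synthInstance.maxHeartbeats 400000
open TensorProduct

/-- Let A → B be a local homomorphism of Noetherian local rings, m the maximal ideal of A, and φ : A →
A' a ring homomorphism to a semi-local Noetherian ring A' with Jacobson radical r', such that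
φ⁻¹(r') = m and such that every power m^n contains φ⁻¹(r'^N) for some N. Then B is flat over A if
and only if A' ⊗_A B is flat over A'. (Given φ⁻¹(r') = m, the condition on powers says that the
m-adic topology of A is induced by the r'-adic topology of A', equivalently that the induced
homomorphism of adic completions is injective, which is how the published statement phrases this
hypothesis.) -/
theorem result (A B A' : Type u) [CommRing A] [CommRing B]
    [CommRing A'] [IsNoetherianRing A] [IsLocalRing A] [IsNoetherianRing B] [IsLocalRing B]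
    [Algebra A B] [IsLocalHom (algebraMap A B)] [IsNoetherianRing A'] [Finite (MaximalSpectrum A')]
    [Algebra A A']
    (hrad : (Ideal.jacobson (⊥ : Ideal A')).comap (algebraMap A A') = IsLocalRing.maximalIdeal A)
    (htop : ∀ n : ℕ, ∃ N : ℕ,
      ((Ideal.jacobson (⊥ : Ideal A')) ^ N).comap (algebraMap A A') ≤ (IsLocalRing.maximalIdeal A) ^ n) :
    Module.Flat A B ↔ Module.Flat A' (A' ⊗[A] B) := by
  refine ⟨fun _ => Module.Flat.baseChange A A' B, fun hflat => ?_⟩
  set m := IsLocalRing.maximalIdeal A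
  have hm : m.map (algebraMap A B) ≤ Ideal.jacobson ⊥ := by
    rw [IsLocalRing.jacobson_eq_maximalIdeal (⊥ : Ideal B) bot_ne_top]
    exact ((IsLocalRing.local_hom_TFAE (algebraMap A B)).out 0 2).1 ‹IsLocalHom (algebraMap A B)›
  refine Groth.Agent.H2LocalCrit.flat_of_flat_pow (S := B) m hm fun n hn => ?_
  obtain ⟨N, hN⟩ := htop n
  let K := (Ideal.jacobson (⊥ : Ideal A')) ^ N
  let J := K.comap (algebraMap A A')
  have hJn : J ≤ m ^ n := hN
  have hinjJ : Function.Injective (algebraMap (A ⧸ J) (A' ⧸ K)) := Ideal.quotientMap_injective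
  have hJm : m ^ N ≤ J := by
    intro x hx
    have : algebraMap A A' x ∈ (m.map (algebraMap A A')) ^ N := by rw [← Ideal.map_pow]; exact Ideal.mem_map_of_mem _ hx
    exact Ideal.pow_right_mono (Ideal.map_le_iff_le_comap.2 hrad.ge) N this
  haveI : IsArtinianRing (A ⧸ J) := IsLocalRing.quotient_artinian_of_mem_minimalPrimes_of_isLocalRing J ⟨⟨inferInstance, fun x hx => by
      by_contra hh
      have hu : IsUnit x := IsLocalRing.notMem_maximalIdeal.1 hh
      have h1 : (1 : A) ∈ m ^ n := hJn (J.eq_top_of_isUnit_mem hx hu ▸ trivial)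
      exact (IsLocalRing.maximalIdeal.isMaximal A).isPrime.one_notMem (Ideal.pow_le_self hn.ne' h1)⟩,
    fun q hq _ => fun x hx => hq.1.mem_of_pow_mem _ (hq.2 (hJm (Ideal.pow_mem_pow hx _)))⟩
  haveI : Module.Flat (A' ⧸ K) ((A' ⧸ K) ⊗[A'] (A' ⊗[A] B)) := Module.Flat.baseChange A' (A' ⧸ K) _
  haveI : Module.Flat (A' ⧸ K) ((A' ⧸ K) ⊗[A ⧸ J] ((A ⧸ J) ⊗[A] B)) :=
    Module.Flat.of_linearEquiv ((AlgebraTensorModule.cancelBaseChange A (A ⧸ J) (A' ⧸ K) (A' ⧸ K) B).trans
      (AlgebraTensorModule.cancelBaseChange A A' (A' ⧸ K) (A' ⧸ K) B).symm)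
  haveI : Module.Flat (A ⧸ J) ((A ⧸ J) ⊗[A] B) :=
    Groth.Agent.H2ArtFlat.flat_of_baseChange (R := A ⧸ J) (S := A' ⧸ K) hinjJ
  letI := (Ideal.Quotient.factor hJn).toAlgebra
  haveI : IsScalarTower A (A ⧸ J) (A ⧸ m ^ n) := IsScalarTower.of_algebraMap_eq fun _ => rfl
  haveI : Module.Flat (A ⧸ m ^ n) ((A ⧸ m ^ n) ⊗[A ⧸ J] ((A ⧸ J) ⊗[A] B)) := Module.Flat.baseChange (A ⧸ J) (A ⧸ m ^ n) _
  exact Module.Flat.of_linearEquiv (AlgebraTensorModule.cancelBaseChange A (A ⧸ J) (A ⧸ m ^ n) (A ⧸ m ^ n) B).symm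

end Groth.Agent.S12419
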