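import Groth.Statements.S12421
import Mathlib

set_option autoImplicit false
set_option backward.isDefEq.respectTransparency.types false
set_option maxHeartbeats 1000000
set_option linter.all false
universe u
open TensorProduct
open Desc

namespace Groth.Agent.S12421
open Groth.Agent

/-- Let R → R' be faithfully flat and M an R-module. With δ¹ : M ⊗ R' → M ⊗ (R' ⊗ R'), m ⊗ r ↦ m ⊗ (1 ⊗
r) − m ⊗ (r ⊗ 1), and δ² : M ⊗ (R' ⊗ R') → M ⊗ (R' ⊗ (R' ⊗ R')), m ⊗ x ↦ m ⊗ (1 ⊗ x) − m ⊗ (ins₁ x)
+ m ⊗ (ins₂ x), where ins₁ (r₁ ⊗ r₂) = r₁ ⊗ (1 ⊗ r₂) and ins₂ (r₁ ⊗ r₂) = r₁ ⊗ (r₂ ⊗ 1), the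
sequence M ⊗ R' → M ⊗ R'^{⊗2} → M ⊗ R'^{⊗3} is exact: the kernel of δ² is the image of δ¹. (The
published statement asserts exactness of the whole complex; this row states exactness at M ⊗ R′ ⊗ R′
only.) -/
theorem result (R R' : Type u) [CommRing R] [CommRing R'] [Algebra R R']
    [Module.FaithfullyFlat R R'] (M : Type u) [AddCommGroup M] [Module R M] :
    Function.Exact
      (LinearMap.lTensor M (Algebra.TensorProduct.includeRight : R' →ₐ[R] R' ⊗[R] R').toLinearMap -
        LinearMap.lTensor M
          (Algebra.TensorProduct.includeLeft : R' →ₐ[R] R' ⊗[R] R').toLinearMap)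
      (LinearMap.lTensor M
          (Algebra.TensorProduct.includeRight : R' ⊗[R] R' →ₐ[R] R' ⊗[R] (R' ⊗[R] R')).toLinearMap -
        LinearMap.lTensor M
          (Algebra.TensorProduct.map (AlgHom.id R R')
            (Algebra.TensorProduct.includeRight : R' →ₐ[R] R' ⊗[R] R')).toLinearMap +
        LinearMap.lTensor M
          (Algebra.TensorProduct.map (AlgHom.id R R')
            (Algebra.TensorProduct.includeLeft : R' →ₐ[R] R' ⊗[R] R')).toLinearMap) := by
    let r := LinearMap.lTensor M (Algebra.TensorProduct.includeRight : R' →ₐ[R] R' ⊗[R] R').toLinearMap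
    let l := LinearMap.lTensor M (Algebra.TensorProduct.includeLeft : R' →ₐ[R] R' ⊗[R] R').toLinearMap
    let d := LinearMap.lTensor M (Algebra.TensorProduct.includeRight : R' ⊗[R] R' →ₐ[R] R' ⊗[R] (R' ⊗[R] R')).toLinearMap -
          LinearMap.lTensor M (Algebra.TensorProduct.map (AlgHom.id R R')
              (Algebra.TensorProduct.includeRight : R' →ₐ[R] R' ⊗[R] R')).toLinearMap +
          LinearMap.lTensor M (Algebra.TensorProduct.map (AlgHom.id R R')
              (Algebra.TensorProduct.includeLeft : R' →ₐ[R] R' ⊗[R] R')).toLinearMap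
    intro x
    constructor
    · intro hx
      have h0 : d x = 0 := hx
      let E := (M ⊗[R] (R' ⊗[R] R')) ⧸ LinearMap.range (r - l)
      have key : (TensorProduct.leftComm R M R' (R' ⊗[R] R')).toLinearMap ∘ₗ d = TensorProduct.mk R R' (M ⊗[R] (R' ⊗[R] R')) 1 -
          (r - l).lTensor R' ∘ₗ (TensorProduct.leftComm R M R' R').toLinearMap := by
        refine TensorProduct.ext' fun m z => ?_
        induction z using TensorProduct.induction_on with
        | zero => simp
        | tmul a b => simp [d, r, l, TensorProduct.tmul_sub]; abel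
        | add z w hz hw => simp only [TensorProduct.tmul_add, map_add, hz, hw]
      have hk := congr($key x)
      simp only [LinearMap.comp_apply, LinearMap.sub_apply, h0, map_zero] at hk
      change x ∈ LinearMap.range (r - l)
      rw [← (LinearMap.range (r - l)).ker_mkQ, LinearMap.mem_ker]
      refine Module.FaithfullyFlat.tensorProduct_mk_injective (A := R) (B := R') _ ?_
      rw [map_zero]
      have h1 := congrArg (LinearMap.lTensor R' (LinearMap.range (r - l)).mkQ) (sub_eq_zero.1 hk.symm)
      rw [← LinearMap.comp_apply (g := LinearMap.lTensor R' (r - l)), ← LinearMap.lTensor_comp, LinearMap.range_mkQ_comp, LinearMap.lTensor_zero, LinearMap.zero_apply] at h1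
      exact h1
    · rintro ⟨y, rfl⟩
      induction y using TensorProduct.induction_on with
      | zero => simp
      | tmul m a => simp [TensorProduct.tmul_sub, Algebra.TensorProduct.one_def]
      | add z w hz hw => simp only [map_add, hz, hw, add_zero]

end Groth.Agent.S12421
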