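import Groth.Statements.S12424
import Mathlib

set_option autoImplicit false
universe u
open Cubic

namespace Groth.Agent.S12424


open MvPolynomial in
theorem eval_smul_of_isHomogeneous {σ k : Type*} [CommRing k] {φ : MvPolynomial σ k} {n : ℕ}
    (h : φ.IsHomogeneous n) (r : k) (w : σ → k) :
    eval (r • w) φ = r ^ n * eval w φ := by
  rw [eval_eq, eval_eq, Finset.mul_sum]
  refine Finset.sum_congr rfl (fun d hd => ?_)
  rw [h.degree_eq_sum_deg_support hd]
  simp only [Pi.smul_apply, smul_eq_mul, mul_pow, Finset.prod_mul_distrib, Finset.prod_pow_eq_pow_sum]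
  ring

open MvPolynomial in
theorem pderiv_aeval_chain {σ τ k : Type*} [CommRing k] [Fintype σ] (g : σ → MvPolynomial τ k)
    (j : τ) (f : MvPolynomial σ k) :
    pderiv j (aeval g f) = ∑ i, aeval g (pderiv i f) * pderiv j (g i) := by
  classical
  induction f using MvPolynomial.induction_on with
  | C a => simp
  | add p q hp hq => simp only [map_add, hp, hq, add_mul, Finset.sum_add_distrib]
  | mul_X p i hp =>
    simp only [map_mul, Derivation.leibniz, smul_eq_mul, hp, aeval_X, map_add, pderiv_X,
      Pi.single_apply, add_mul, Finset.sum_add_distrib, Finset.mul_sum]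
    congr 1
    · simp [apply_ite]
    · exact Finset.sum_congr rfl (fun _ _ => by ring)

open MvPolynomial in
theorem exists_linearMap_of_isHomogeneous_one {σ k : Type*} [CommRing k] {h : MvPolynomial σ k}
    (hh : h.IsHomogeneous 1) : ∃ L : (σ → k) →ₗ[k] k, ∀ w, eval w h = L w := by
  have : h ∈ Submodule.span k (Set.range (X : σ → MvPolynomial σ k)) := by
    rw [← homogeneousSubmodule_one_eq_span_X]; exact hh
  clear hh
  induction this using Submodule.span_induction with
  | mem x hx => obtain ⟨i, rfl⟩ := hx; exact ⟨LinearMap.proj i, fun w => by simp⟩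
  | zero => exact ⟨0, fun w => by simp⟩
  | add x y _ _ hx hy =>
    obtain ⟨L, hL⟩ := hx; obtain ⟨M, hM⟩ := hy
    exact ⟨L + M, fun w => by simp [hL, hM]⟩
  | smul a x _ hx =>
    obtain ⟨L, hL⟩ := hx
    exact ⟨a • L, fun w => by simp [hL]⟩

/-- A degree-two form has a nontrivial zero on every plane, over an algebraically closed field. -/
theorem exists_zero_on_plane {k : Type*} [Field k] [IsAlgClosed k] {σ : Type*}
    {φ : MvPolynomial σ k} (hφ : φ.IsHomogeneous 2) (u v : σ → k)
    (huv : LinearIndependent k ![u, v]) :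
    ∃ a b : k, a • u + b • v ≠ 0 ∧ MvPolynomial.eval (a • u + b • v) φ = 0 := by
  have hind := LinearIndependent.pair_iff.mp huv
  have hne : ∀ a b : k, (a ≠ 0 ∨ b ≠ 0) → a • u + b • v ≠ 0 := fun a b hab h0 => by
    obtain ⟨h1, h2⟩ := hind a b h0
    tauto
  let Q : Polynomial k :=
    MvPolynomial.aeval (fun i => Polynomial.C (u i) + Polynomial.X * Polynomial.C (v i)) φ
  have hQ : ∀ r : k, Q.eval r = MvPolynomial.eval ((1 : k) • u + r • v) φ := by
    intro r
    show (Polynomial.evalRingHom r) (MvPolynomial.aeval _ φ) = _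
    rw [MvPolynomial.map_aeval]
    simp only [MvPolynomial.eval, Polynomial.coe_evalRingHom]
    congr 1
    ext x <;> simp <;> ring
  by_cases hdeg : Q.degree ≠ 0
  · obtain ⟨r, hr⟩ := IsAlgClosed.exists_root Q hdeg
    exact ⟨1, r, hne _ _ (Or.inl one_ne_zero), (hQ r) ▸ hr⟩
  push Not at hdeg
  have hconst : ∀ r : k, Q.eval r = Q.eval 0 := by
    intro r
    rw [Polynomial.eq_C_of_degree_eq_zero hdeg]; simp
  let R : Polynomial k :=
    MvPolynomial.aeval (fun i => Polynomial.X * Polynomial.C (u i) + Polynomial.C (v i)) φ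
  have hR : ∀ r : k, R.eval r = MvPolynomial.eval (r • u + (1 : k) • v) φ := by
    intro r
    show (Polynomial.evalRingHom r) (MvPolynomial.aeval _ φ) = _
    rw [MvPolynomial.map_aeval]
    simp only [MvPolynomial.eval, Polynomial.coe_evalRingHom]
    congr 1
    ext x <;> simp <;> ring
  have hXR : (Polynomial.X : Polynomial k) * (R - Polynomial.C (Q.eval 0) * Polynomial.X ^ 2) = 0 := by
    refine Polynomial.funext (fun r => ?_)
    by_cases hr : r = 0
    · simp [hr]
    · have : r • u + (1 : k) • v = r • ((1 : k) • u + r⁻¹ • v) := by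
        rw [smul_add, smul_smul, smul_smul, mul_inv_cancel₀ hr, mul_one]
      simp only [Polynomial.eval_mul, Polynomial.eval_X, Polynomial.eval_sub, Polynomial.eval_C,
        Polynomial.eval_pow, Polynomial.eval_zero]
      rw [hR, this, eval_smul_of_isHomogeneous hφ, ← hQ, hconst]
      ring
  have hR0 := (mul_eq_zero.mp hXR).resolve_left Polynomial.X_ne_zero
  have := congr_arg (Polynomial.eval 0) hR0
  simp [hR] at this
  exact ⟨0, 1, hne _ _ (Or.inr one_ne_zero), by simpa using this⟩

/-- The zero set of a non-unit `q` whose square divides a cubic form contains a plane, or the form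
vanishes. -/
theorem exists_plane {k : Type*} [Field k] [IsAlgClosed k] [CharZero k]
    {g : MvPolynomial (Fin 3) k} (hg : g.IsHomogeneous 3) (hsq : ¬ Squarefree g) :
    ∃ (q : MvPolynomial (Fin 3) k) (L : (Fin 3 → k) →ₗ[k] k), q * q ∣ g ∧
      ∀ w, MvPolynomial.eval w q = L w := by
  classical
  obtain ⟨q, hq, hqu⟩ : ∃ q, q * q ∣ g ∧ ¬ IsUnit q := by
    simpa [Squarefree] using hsq
  by_cases hg0 : g = 0
  · obtain ⟨L, hL⟩ := exists_linearMap_of_isHomogeneous_one (MvPolynomial.isHomogeneous_X k (0 : Fin 3))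
    exact ⟨MvPolynomial.X 0, L, hg0 ▸ dvd_zero _, hL⟩
  obtain ⟨l, hl⟩ := hq
  have hq0 : q ≠ 0 := by rintro rfl; simp at hl; exact hg0 hl
  have hl0 : l ≠ 0 := by rintro rfl; simp at hl; exact hg0 hl
  have hd := hg.totalDegree hg0
  rw [hl, MvPolynomial.totalDegree_mul_of_isDomain (mul_ne_zero hq0 hq0) hl0,
    MvPolynomial.totalDegree_mul_of_isDomain hq0 hq0] at hd
  have hqd : q.totalDegree = 1 := by
    rcases Nat.eq_zero_or_pos q.totalDegree with h | h
    · exfalso
      refine hqu (MvPolynomial.isUnit_iff_totalDegree_of_isReduced.mpr ⟨?_, h⟩)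
      rw [isUnit_iff_ne_zero]
      intro h0
      rw [MvPolynomial.totalDegree_eq_zero_iff_eq_C.mp h, h0, map_zero] at hq0
      exact hq0 rfl
    · omega
  have hsplit : q = MvPolynomial.C (MvPolynomial.coeff 0 q) + MvPolynomial.homogeneousComponent 1 q := by
    conv_lhs => rw [← MvPolynomial.sum_homogeneousComponent q, hqd]
    simp [Finset.sum_range_succ, MvPolynomial.homogeneousComponent_zero]
  obtain ⟨L, hL⟩ := exists_linearMap_of_isHomogeneous_one
    (MvPolynomial.homogeneousComponent_isHomogeneous 1 q)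
  set c := MvPolynomial.coeff 0 q
  set h1 := MvPolynomial.homogeneousComponent 1 q
  refine ⟨q, L, ⟨l, hl⟩, fun w => ?_⟩
  rw [hsplit]
  simp only [map_add, MvPolynomial.eval_C, hL]
  suffices c = 0 by simp [this]
  by_contra hc
  have h10 : h1 ≠ 0 := by
    intro h0
    rw [h0, add_zero] at hsplit
    rw [hsplit, MvPolynomial.totalDegree_C] at hqd
    exact zero_ne_one hqd
  have : g * h1 = 0 := by
    refine MvPolynomial.funext (fun w => ?_)
    rw [map_mul, map_zero, hL]
    by_cases hLw : L w = 0
    · rw [hLw, mul_zero]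
    · have hqz : MvPolynomial.eval ((-c / L w) • w) q = 0 := by
        rw [hsplit]
        simp only [map_add, MvPolynomial.eval_C, hL, map_smul, smul_eq_mul]
        field_simp
        ring
      have hgz : MvPolynomial.eval ((-c / L w) • w) g = 0 := by
        rw [hl, map_mul, map_mul, hqz]; simp
      rw [eval_smul_of_isHomogeneous hg] at hgz
      rw [(mul_eq_zero.mp hgz).resolve_left (pow_ne_zero _ (div_ne_zero (neg_ne_zero.mpr hc) hLw)),
        zero_mul]
  exact (mul_ne_zero hg0 h10) this


/-- Let k be an algebraically closed field of characteristic zero and S = V_+(f) ⊂ P^3_k a smooth cubic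
surface, f a nonzero homogeneous cubic in four variables with the Jacobian condition at every
nonzero zero. For every hyperplane H of P^3_k the scheme-theoretic intersection S ∩ H is reduced;
concretely, for every 4 × 3 matrix A of rank 3 over k (a linear parametrisation of H), the ternary
cubic obtained from f by substituting X_i ↦ Σ_j A_{ij} Y_j is squarefree. -/
theorem result (k : Type u) [Field k] [IsAlgClosed k] [CharZero k]
    (f : MvPolynomial (Fin 4) k) (hf : f.IsHomogeneous 3) (hf0 : f ≠ 0)
    (hsm : ∀ v : Fin 4 → k, v ≠ 0 → MvPolynomial.eval v f = 0 →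
      ∃ i : Fin 4, MvPolynomial.eval v (MvPolynomial.pderiv i f) ≠ 0)
    (A : Matrix (Fin 4) (Fin 3) k) (hA : A.rank = 3) :
    Squarefree (MvPolynomial.aeval (fun i : Fin 4 => ∑ j : Fin 3, MvPolynomial.C (A i j) * MvPolynomial.X j) f) := by
  classical
  set gA : Fin 4 → MvPolynomial (Fin 3) k :=
    fun i : Fin 4 => ∑ j : Fin 3, MvPolynomial.C (A i j) * MvPolynomial.X j with hgA
  have hgA1 : ∀ i, (gA i).IsHomogeneous 1 := fun i =>
    MvPolynomial.IsHomogeneous.sum _ _ _ (fun j _ => MvPolynomial.isHomogeneous_C_mul_X _ _)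
  have hg : (MvPolynomial.aeval gA f).IsHomogeneous 3 := by
    simpa using hf.aeval gA hgA1
  have hevA : ∀ w i, MvPolynomial.eval w (gA i) = A.mulVec w i := by
    intro w i; simp [gA, Matrix.mulVec, dotProduct]
  have hev : ∀ (w : Fin 3 → k) (h : MvPolynomial (Fin 4) k),
      MvPolynomial.eval w (MvPolynomial.aeval gA h) = MvPolynomial.eval (A.mulVec w) h := by
    intro w h
    rw [MvPolynomial.map_aeval]
    simp only [hevA]
    simp only [MvPolynomial.eval]
    congr 1
    ext x <;> simp <;> ring
  have hker : ∀ w, A.mulVec w = 0 → w = 0 := by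
    intro w hw
    have hrn := LinearMap.finrank_range_add_finrank_ker A.mulVecLin
    have hrange : Module.finrank k (LinearMap.range A.mulVecLin) = 3 := hA
    rw [hrange, Module.finrank_fin_fun] at hrn
    have hbot : LinearMap.ker A.mulVecLin = ⊥ := Submodule.finrank_eq_zero.mp (by omega)
    have : w ∈ LinearMap.ker A.mulVecLin := hw
    rw [hbot] at this
    exact this
  obtain ⟨η, hη0, hη⟩ : ∃ η : Fin 4 → k, η ≠ 0 ∧
      ∀ x : Fin 4 → k, (∀ j, ∑ i, x i * A i j = 0) → ∃ c : k, x = c • η := by
    have hrn := LinearMap.finrank_range_add_finrank_ker A.transpose.mulVecLin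
    have hrange : Module.finrank k (LinearMap.range A.transpose.mulVecLin) = 3 := by
      show A.transpose.rank = 3
      rw [Matrix.rank_transpose, hA]
    rw [hrange, Module.finrank_fin_fun] at hrn
    obtain ⟨⟨η, hη⟩, hne, hall⟩ := finrank_eq_one_iff'.mp
      (show Module.finrank k (LinearMap.ker A.transpose.mulVecLin) = 1 by omega)
    refine ⟨η, fun h => hne (Subtype.ext h), fun x hx => ?_⟩
    have hxk : x ∈ LinearMap.ker A.transpose.mulVecLin := by
      rw [LinearMap.mem_ker]
      funext j
      simp only [Matrix.mulVecLin_apply, Matrix.mulVec, dotProduct, Matrix.transpose_apply,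
        Pi.zero_apply]
      refine Eq.trans (Finset.sum_congr rfl (fun i _ => mul_comm _ _)) (hx j)
    obtain ⟨c, hc⟩ := hall ⟨x, hxk⟩
    exact ⟨c, (congr_arg Subtype.val hc).symm⟩
  obtain ⟨i0, hi0⟩ : ∃ i, η i ≠ 0 := Function.ne_iff.mp hη0
  by_contra hsq
  obtain ⟨q, L, ⟨l, hl⟩, hqL⟩ := exists_plane hg hsq
  have hK : 2 ≤ Module.finrank k (LinearMap.ker L) := by
    have hrn := LinearMap.finrank_range_add_finrank_ker L
    have := Submodule.finrank_le (LinearMap.range L)
    rw [Module.finrank_fin_fun] at hrn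
    rw [Module.finrank_self] at this
    omega
  obtain ⟨u, hu⟩ : ∃ u : LinearMap.ker L, u ≠ 0 := by
    haveI : Nontrivial (LinearMap.ker L) := Module.nontrivial_of_finrank_pos (R := k) (by omega)
    exact exists_ne 0
  obtain ⟨v, huv⟩ := exists_linearIndependent_pair_of_one_lt_finrank (R := k) (by omega) hu
  have huv' : LinearIndependent k ![(u : Fin 3 → k), v] := by
    rw [LinearIndependent.pair_iff] at huv ⊢
    exact fun s t hst => huv s t (Subtype.ext (by simpa using hst))
  have hφ : (MvPolynomial.aeval gA (MvPolynomial.pderiv i0 f)).IsHomogeneous 2 := by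
    simpa using (hf.pderiv (i := i0)).aeval gA hgA1
  obtain ⟨a, b, hw0, hwφ⟩ := exists_zero_on_plane hφ u v huv'
  set w := a • (u : Fin 3 → k) + b • (v : Fin 3 → k)
  have hqw : MvPolynomial.eval w q = 0 := by
    rw [hqL, map_add, map_smul, map_smul, LinearMap.mem_ker.mp u.2, LinearMap.mem_ker.mp v.2]
    simp
  have hgw : MvPolynomial.eval (A.mulVec w) f = 0 := by
    rw [← hev, hl, map_mul, map_mul, hqw]; simp
  obtain ⟨i, hi⟩ := hsm (A.mulVec w) (fun h => hw0 (hker w h)) hgw
  apply hi
  obtain ⟨c, hc⟩ := hη (fun i => MvPolynomial.eval (A.mulVec w) (MvPolynomial.pderiv i f)) (by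
    intro j
    have h1 : MvPolynomial.eval w (MvPolynomial.pderiv j (MvPolynomial.aeval gA f)) = 0 := by
      rw [hl]; simp [hqw]
    rw [pderiv_aeval_chain, map_sum] at h1
    refine Eq.trans (Finset.sum_congr rfl (fun i _ => ?_)) h1
    rw [map_mul, hev]
    congr 1
    simp [gA, MvPolynomial.pderiv_X, Pi.single_apply])
  have hc0 : c = 0 := by
    have h2 := congr_fun hc i0
    simp only [Pi.smul_apply, smul_eq_mul] at h2
    rw [← hev, hwφ] at h2
    exact (mul_eq_zero.mp h2.symm).resolve_right hi0
  have := congr_fun hc i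
  simpa [hc0] using this

end Groth.Agent.S12424
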