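import Groth.Statements.S12456
import Mathlib

set_option autoImplicit false
set_option backward.isDefEq.respectTransparency.types false
set_option linter.all false
universe u
open CategoryTheory AlgebraicGeometry
open OmegaSh

namespace Groth.Agent.S12456

open AlgebraicGeometry CategoryTheory in
theorem app_zero_of_eq {A B : Scheme.{u}} {f g : A ⟶ B} (e : f = g) (V : B.Opens) (r : Γ(B, V))
    (hr : f.app V r = 0) : g.app V r = 0 := by subst e; exact hr

/-- Let i : Z → X be an immersion, written as the closed subscheme of an open U ⊆ X cut out by an ideal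
sheaf I followed by the inclusion of U. Then the first order infinitesimal neighbourhood of Z in X —
the closed subscheme of U cut out by I² — together with Z ⊂ V(I²) and V(I²) → U → X is a universal
first order thickening of Z over X. (The inequality I² ≤ I is carried as an argument h; it always
holds.) -/
theorem result {X : Scheme.{u}} (U : X.Opens) (I : (U : Scheme.{u}).IdealSheafData)
    (h : I ^ 2 ≤ I) :
    OmegaSh.IsUnivThickening (I.subschemeι ≫ U.ι) (Scheme.IdealSheafData.inclusion h)
      ((I ^ 2).subschemeι ≫ U.ι) := by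
  refine ⟨?_, by simp [← Category.assoc], ?_⟩
  · haveI : IsClosedImmersion (Scheme.IdealSheafData.inclusion h ≫ (I ^ 2).subschemeι) := by
      rw [Scheme.IdealSheafData.inclusion_subschemeι]; infer_instance
    haveI hcl : IsClosedImmersion (Scheme.IdealSheafData.inclusion h) := IsClosedImmersion.of_comp _ (I ^ 2).subschemeι
    refine ⟨⟨hcl, ⟨fun y => ?_⟩⟩, ?_⟩
    · have hy : (I ^ 2).subschemeι y ∈ Set.range I.subschemeι := by
        rw [Scheme.IdealSheafData.range_subschemeι, ← Scheme.IdealSheafData.support_pow I 2 two_ne_zero, ← Scheme.IdealSheafData.range_subschemeι]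
        exact ⟨y, rfl⟩
      obtain ⟨z, hz⟩ := hy
      refine ⟨z, (I ^ 2).subschemeι.isClosedEmbedding.injective ?_⟩
      rw [← Scheme.Hom.comp_apply, Scheme.IdealSheafData.inclusion_subschemeι, hz]
    · refine bot_unique (Scheme.IdealSheafData.le_of_iSup_eq_top
        (fun V : (U : Scheme.{u}).affineOpens => ⟨(I ^ 2).subschemeι ⁻¹ᵁ V.1, V.2.preimage _⟩) ?_ fun V => ?_)
      · rw [← Scheme.Hom.preimage_iSup, iSup_affineOpens_eq_top, Scheme.Hom.preimage_top]
      · rw [Scheme.IdealSheafData.ideal_mul, Pi.mul_apply, Ideal.mul_le]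
        intro p hp q hq
        obtain ⟨p, rfl⟩ := (I ^ 2).subschemeι_app_surjective V p
        obtain ⟨q, rfl⟩ := (I ^ 2).subschemeι_app_surjective V q
        have key : ∀ r : Γ(U, V.1), ((I ^ 2).subschemeι.app V.1) r ∈ (Scheme.IdealSheafData.inclusion h).ker.ideal ⟨(I ^ 2).subschemeι ⁻¹ᵁ V.1, V.2.preimage _⟩ → r ∈ I.ideal V := fun r hr => by
          rw [Scheme.Hom.ker_apply, RingHom.mem_ker] at hr
          rw [← I.ker_subschemeι, Scheme.Hom.ker_apply, RingHom.mem_ker]
          refine app_zero_of_eq (Scheme.IdealSheafData.inclusion_subschemeι h) V.1 r ?_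
          exact hr
        have hm : p * q ∈ (I ^ 2).ideal V := by
          rw [Scheme.IdealSheafData.ideal_pow, Pi.pow_apply, sq]
          exact Ideal.mul_mem_mul (key p hp) (key q hq)
        rw [← map_mul]
        have h0 : (I ^ 2).subschemeι.app V.1 (p * q) = 0 := by
          rw [← RingHom.mem_ker, ← Scheme.Hom.ker_apply, Scheme.IdealSheafData.ker_subschemeι]; exact hm
        rw [h0]; exact zero_mem _
  intro T T' j b a hj hjb
  haveI := hj.1.1
  haveI := hj.1.2
  have hr : Set.range b ⊆ Set.range U.ι := by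
    rintro _ ⟨t, rfl⟩
    obtain ⟨s, rfl⟩ := j.surjective t
    refine ⟨(a ≫ I.subschemeι) s, ?_⟩
    rw [← Scheme.Hom.comp_apply, ← Scheme.Hom.comp_apply, Category.assoc, ← hjb]
  let b' := IsOpenImmersion.lift U.ι b hr
  have hb' : b' ≫ U.ι = b := IsOpenImmersion.lift_fac _ _ _
  have hjb' : j ≫ b' = a ≫ I.subschemeι := (cancel_mono U.ι).1 (by simpa [hb'] using hjb)
  have hker : (I ^ 2).subschemeι.ker ≤ b'.ker := by
    rw [Scheme.IdealSheafData.ker_subschemeι]
    refine Scheme.IdealSheafData.le_ofIdeals_iff.2 fun V => ?_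
    rw [Scheme.IdealSheafData.ideal_pow, Pi.pow_apply, sq, Ideal.mul_le]
    intro p hp q hq
    rw [RingHom.mem_ker, map_mul]
    have hk : ∀ r ∈ I.ideal V, j.app (b' ⁻¹ᵁ V.1) (b'.app V.1 r) = 0 := fun r hr => by
      have h0 : I.subschemeι.app V.1 r = 0 := by
        have h1 : r ∈ I.subschemeι.ker.ideal V := I.ker_subschemeι.symm ▸ hr
        rwa [Scheme.Hom.ker_apply, RingHom.mem_ker] at h1
      refine app_zero_of_eq (f := a ≫ I.subschemeι) (g := j ≫ b') hjb'.symm V.1 r ?_
      show a.app _ (I.subschemeι.app V.1 r) = 0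
      rw [h0, map_zero]
    refine TopCat.Sheaf.eq_of_locally_eq' T'.sheaf (fun W : {W : T'.affineOpens // W.1 ≤ b' ⁻¹ᵁ V.1} => W.1.1) (b' ⁻¹ᵁ V.1)
      (fun W => homOfLE W.2) (fun t ht => ?_) _ _ fun W => ?_
    · obtain ⟨W, hW, htW, hWV⟩ := exists_isAffineOpen_mem_and_subset ht
      exact TopologicalSpace.Opens.mem_iSup.2 ⟨⟨⟨W, hW⟩, hWV⟩, htW⟩
    · have hres : ∀ r ∈ I.ideal V, T'.presheaf.map (homOfLE W.2).op (b'.app V.1 r) ∈ j.ker.ideal W.1 := fun r hr => by
        rw [j.ker_apply, RingHom.mem_ker]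
        rw [← CommRingCat.comp_apply, Scheme.Hom.naturality, CommRingCat.comp_apply, hk r hr, map_zero]
      have := Ideal.mul_mem_mul (hres p hp) (hres q hq)
      rw [← Pi.mul_apply (f := j.ker.ideal) (g := j.ker.ideal), ← Scheme.IdealSheafData.ideal_mul, hj.2] at this
      show T'.presheaf.map (homOfLE W.2).op _ = T'.presheaf.map (homOfLE W.2).op 0
      rw [map_mul, map_zero]
      simpa using this
  refine ⟨IsClosedImmersion.lift (I ^ 2).subschemeι b' hker, ⟨?_, ?_⟩, ?_⟩
  · rw [← cancel_mono (I ^ 2).subschemeι, Category.assoc, IsClosedImmersion.lift_fac, hjb', Category.assoc, Scheme.IdealSheafData.inclusion_subschemeι]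
  · rw [IsClosedImmersion.lift_fac_assoc, hb']
  · rintro a' ⟨-, h2⟩
    rw [← cancel_mono (I ^ 2).subschemeι, IsClosedImmersion.lift_fac, ← cancel_mono U.ι, Category.assoc, h2, hb']

end Groth.Agent.S12456
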