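import Groth.Statements.S7532
import Mathlib
import Groth.Agent.Lib.H6.SierpinskiProd

set_option autoImplicit false
set_option backward.isDefEq.respectTransparency.types false
set_option maxHeartbeats 1000000
set_option linter.all false
universe u
open SpecSp

namespace Groth.Agent.S7532
open Groth.Agent

open Topology in
/-- Let W be the two-point space with one closed and one non-closed point (here the Sierpiński topology
on Prop). A topological space X is spectral exactly when, for some index type I, X admits a
topological embedding into the power W^I whose image is a closed set for the constructible topology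
on W^I. -/
theorem result (X : Type u) [TopologicalSpace X] :
    SpectralSpace X ↔ ∃ (I : Type u) (f : X → (I → Prop)),
      Topology.IsEmbedding f ∧ @IsClosed (I → Prop) (constructibleTopology (I → Prop)) (Set.range f) := by
    classical
    constructor
    · intro hX
      let I := {U : Set X // IsOpen U ∧ IsCompact U}
      let f : X → (I → Prop) := fun x U => x ∈ U.1
      have hpre : ∀ F : Finset I, f ⁻¹' H6.Sierp.U F = ⋂₀ ((fun U : I => U.1) '' (F : Set I)) := by
        intro F; ext x; simp [f, H6.Sierp.U]
      have hcont : Continuous f := continuous_pi fun U => continuous_Prop.2 U.2.1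
      have hind : Topology.IsInducing f := by
        rw [Topology.isInducing_iff_nhds]
        intro x
        refine le_antisymm hcont.continuousAt.le_comap (fun s hs => ?_)
        obtain ⟨V, ⟨hV1, hV2⟩, hxV, hVs⟩ := PrespectralSpace.isTopologicalBasis.mem_nhds_iff.1 hs
        refine Filter.mem_comap.2 ⟨{g | g ⟨V, hV1, hV2⟩}, ?_, fun y hy => hVs hy⟩
        refine IsOpen.mem_nhds ?_ hxV
        convert H6.Sierp.isOpen_U {(⟨V, hV1, hV2⟩ : I)} using 1
        ext g; simp [H6.Sierp.U]; rfl
      refine ⟨I, f, ⟨hind, fun x y h => ?_⟩, ?_⟩
      · exact (hind.inseparable_iff.1 (h ▸ Inseparable.refl _)).eq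
      · rw [H6.Sierp.discrete_eq]
        have hcs : @CompactSpace X (constructibleTopology X) := by
          have h : CompactSpace (WithConstructibleTopology X) := inferInstance
          exact @Function.Surjective.compactSpace (WithConstructibleTopology X) X _ (constructibleTopology X) _
            (WithTopology.continuous_ofTopology (t := constructibleTopology X)) h
            (WithTopology.ofTopology_surjective _)
        have hc : @Continuous X (I → Prop) (constructibleTopology X) (H6.Sierp.discrete I) f := by
          refine @continuous_pi X I (fun _ => Prop) (constructibleTopology X) (fun _ => ⊥) f fun U => ?_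
          refine @Continuous.mk _ _ (constructibleTopology X) ⊥ _ fun s _ => ?_
          by_cases hT : True ∈ s <;> by_cases hF : False ∈ s
          · rw [show (fun x => f x U) ⁻¹' s = Set.univ by
              ext x; by_cases hx : f x U <;> simp [hx, hT, hF]]
            exact @isOpen_univ _ (constructibleTopology X)
          · rw [show (fun x => f x U) ⁻¹' s = U.1 by
              ext x; by_cases hx : x ∈ U.1 <;> simp [f, hx, hT, hF]]
            exact TopologicalSpace.isOpen_generateFrom_of_mem (Or.inl U.2)
          · rw [show (fun x => f x U) ⁻¹' s = U.1ᶜ by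
              ext x; by_cases hx : x ∈ U.1 <;> simp [f, hx, hT, hF]]
            exact TopologicalSpace.isOpen_generateFrom_of_mem
              (Or.inr ⟨U.2.1.isClosed_compl, by rw [compl_compl]; exact U.2.2⟩)
          · rw [show (fun x => f x U) ⁻¹' s = ∅ by
              ext x; by_cases hx : f x U <;> simp [hx, hT, hF]]
            exact @isOpen_empty _ (constructibleTopology X)
        exact @IsCompact.isClosed _ (H6.Sierp.discrete I) H6.Sierp.t2Space_discrete _
          (@isCompact_range X (I → Prop) (constructibleTopology X) (H6.Sierp.discrete I) hcs f hc)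
    · rintro ⟨I, f, hf, hcl⟩
      rw [H6.Sierp.discrete_eq] at hcl
      have hK : ∀ F : Set (I → Prop), IsClosed[H6.Sierp.discrete I] F → IsCompact (f ⁻¹' F) := by
        intro F hF
        have h1 : @IsCompact _ (H6.Sierp.discrete I) (Set.range f ∩ F) :=
          @IsClosed.isCompact _ (H6.Sierp.discrete I) _ H6.Sierp.compactSpace_discrete
            (@IsClosed.inter _ _ _ (H6.Sierp.discrete I) hcl hF)
        have h2 : IsCompact (Set.range f ∩ F) := by
          have := @IsCompact.image _ _ (H6.Sierp.discrete I) Pi.topologicalSpace _ id h1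
            (continuous_id_of_le H6.Sierp.discrete_le)
          simpa using this
        rw [hf.isCompact_iff, Set.image_preimage_eq_inter_range, Set.inter_comm]
        exact h2
      have hclU : ∀ F : Finset I, IsClosed[H6.Sierp.discrete I] (H6.Sierp.U F) := fun F =>
        @IsClosed.mk _ (H6.Sierp.discrete I) _ (H6.Sierp.isClopen_U F).2
      have hbasis : TopologicalSpace.IsTopologicalBasis (Set.range fun F : Finset I => f ⁻¹' H6.Sierp.U F) := by
        have := H6.Sierp.isBasis_U.isInducing hf.isInducing
        rwa [← Set.range_comp] at this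
      haveI : PrespectralSpace X := .of_isTopologicalBasis hbasis (by rintro _ ⟨F, rfl⟩; exact hK _ (hclU F))
      haveI : CompactSpace X := ⟨by simpa using hK Set.univ (@isClosed_univ _ (H6.Sierp.discrete I))⟩
      haveI : T0Space X := hf.t0Space
      haveI : QuasiSeparatedSpace X := by
        refine ⟨fun A B hA hAc hB hBc => ?_⟩
        have hrep : ∀ A : Set X, IsOpen A → IsCompact A → ∃ F, IsClosed[H6.Sierp.discrete I] F ∧ f ⁻¹' F = A := by
          intro A hA hAc
          obtain ⟨t, ht⟩ := hAc.elim_finite_subcover (fun F : {F : Finset I // f ⁻¹' H6.Sierp.U F ⊆ A} => f ⁻¹' H6.Sierp.U F.1)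
            (fun F => (H6.Sierp.isOpen_U _).preimage hf.continuous) (fun x hx => by
              obtain ⟨_, ⟨F, rfl⟩, h1, h2⟩ := hbasis.exists_subset_of_mem_open hx hA
              exact Set.mem_iUnion.2 ⟨⟨F, h2⟩, h1⟩)
          refine ⟨⋃ F ∈ (t : Set {F : Finset I // f ⁻¹' H6.Sierp.U F ⊆ A}), H6.Sierp.U F.1,
            @Set.Finite.isClosed_biUnion _ _ (H6.Sierp.discrete I) _ _ t.finite_toSet (fun F _ => hclU _), ?_⟩
          rw [Set.preimage_iUnion₂]
          exact subset_antisymm (Set.iUnion₂_subset fun F _ => F.2) ht
        obtain ⟨F, hF, rfl⟩ := hrep A hA hAc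
        obtain ⟨G, hG, rfl⟩ := hrep B hB hBc
        rw [← Set.preimage_inter]
        exact hK _ (@IsClosed.inter _ _ _ (H6.Sierp.discrete I) hF hG)
      haveI : QuasiSober X := by
        refine ⟨fun {C} hC hCcl => ?_⟩
        let g : I → Prop := fun i => ∃ x ∈ C, f x i
        have hfin : ∀ J : Finset I, (∀ i ∈ J, g i) → ∃ x ∈ C, ∀ i ∈ J, f x i := by
          intro J
          induction J using Finset.induction_on with
          | empty => intro _; obtain ⟨x, hx⟩ := hC.nonempty; exact ⟨x, hx, by simp⟩
          | @insert i J hi ih =>
            intro h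
            obtain ⟨x, hx, hxi⟩ := h i (Finset.mem_insert_self i J)
            obtain ⟨y, hy, hyJ⟩ := ih fun j hj => h j (Finset.mem_insert_of_mem hj)
            obtain ⟨z, hzC, hz1, hz2⟩ := hC.isPreirreducible (f ⁻¹' H6.Sierp.U {i}) (f ⁻¹' H6.Sierp.U J)
              ((H6.Sierp.isOpen_U _).preimage hf.continuous) ((H6.Sierp.isOpen_U _).preimage hf.continuous)
              ⟨x, hx, by intro j hj; rw [Finset.mem_singleton] at hj; exact hj ▸ hxi⟩ ⟨y, hy, hyJ⟩
            refine ⟨z, hzC, fun j hj => ?_⟩
            rcases Finset.mem_insert.1 hj with rfl | hj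
            · exact hz1 _ (Finset.mem_singleton_self _)
            · exact hz2 j hj
        have hg : g ∈ Set.range f := by
          have h1 : g ∈ @closure _ (H6.Sierp.discrete I) (Set.range f) := by
            rw [@mem_closure_iff _ (H6.Sierp.discrete I)]
            intro o ho hgo
            obtain ⟨J, u, hu, hsub⟩ := (@isOpen_pi_iff I (fun _ => Prop) (fun _ => ⊥) o).1 ho g hgo
            obtain ⟨x, hxC, hx⟩ := hfin (J.filter fun i => g i) fun i hi => (Finset.mem_filter.1 hi).2
            refine ⟨f x, hsub fun i hi => ?_, x, rfl⟩
            have he : f x i = g i := propext ⟨fun h => ⟨x, hxC, h⟩, fun h => hx i (Finset.mem_filter.2 ⟨hi, h⟩)⟩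
            rw [he]; exact (hu i hi).2
          rwa [@IsClosed.closure_eq _ (H6.Sierp.discrete I) _ hcl] at h1
        obtain ⟨x0, hx0⟩ := hg
        have hx0C : x0 ∈ C := by
          rw [← hCcl.closure_eq, hbasis.mem_closure_iff]
          rintro _ ⟨F, rfl⟩ hF
          obtain ⟨y, hy, hyF⟩ := hfin F fun i hi => by rw [← hx0]; exact hF i hi
          exact ⟨y, hyF, hy⟩
        refine ⟨x0, subset_antisymm (closure_minimal (Set.singleton_subset_iff.2 hx0C) hCcl) fun c hc => ?_⟩
        rw [hbasis.mem_closure_iff]
        rintro _ ⟨F, rfl⟩ hF
        refine ⟨x0, ?_, rfl⟩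
        intro i hi
        rw [hx0]
        exact ⟨c, hc, hF i hi⟩
      exact {}

end Groth.Agent.S7532
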