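import Groth.Statements.S12462
import Mathlib
import Groth.Agent.S7532

set_option autoImplicit false
set_option backward.isDefEq.respectTransparency.types false
set_option maxHeartbeats 1000000
set_option linter.all false
universe u
open CategoryTheory CategoryTheory.Limits
open SpecSp

namespace Groth.Agent.S12462
open Groth.Agent

/-- A spectral space is a directed inverse limit of finite sober topological spaces. Precisely: for X
spectral there exist a nonempty directed preordered index set J, a functor from the opposite of J to
topological spaces whose values are finite sober (T0, every irreducible closed subset has a generic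
point) spaces, and a limit cone of it whose vertex is isomorphic to X. -/
theorem result (X : Type u) [TopologicalSpace X] [SpectralSpace X] :
    ∃ (J : Type u) (_ : Preorder J) (_ : Nonempty J) (_ : IsDirected J (· ≤ ·)) (F : Jᵒᵖ ⥤ TopCat.{u})
      (c : Cone F), Nonempty (IsLimit c) ∧
        (∀ j : Jᵒᵖ, Finite (F.obj j) ∧ T0Space (F.obj j) ∧ QuasiSober (F.obj j)) ∧
        Nonempty (c.pt ≅ TopCat.of X) := by
    classical
    obtain ⟨I, f, hf, hcl0⟩ := (Groth.Agent.S7532.result X).1 inferInstance
    rw [H6.Sierp.discrete_eq] at hcl0
    let res : ∀ j : Finset I, X → (j → Prop) := fun j x m => f x m.1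
    let Fo : Finset I → TopCat.{u} := fun j => TopCat.of (Set.range (res j))
    have hmem : ∀ {i j : Finset I} (h : i ≤ j) (y : Set.range (res j)),
        (fun m : (i : Finset I) => y.1 ⟨m.1, h m.2⟩) ∈ Set.range (res i) := fun {i j} h y => by
      obtain ⟨x, hx⟩ := y.2
      exact ⟨x, funext fun m => congrFun hx ⟨m.1, h m.2⟩⟩
    let mp : ∀ {i j : Finset I}, i ≤ j → C(Set.range (res j), Set.range (res i)) := fun {i j} h =>
      ⟨fun y => ⟨_, hmem h y⟩,
        Continuous.subtype_mk (continuous_pi fun (m : (i : Finset I)) =>
          (continuous_apply (A := fun _ : (j : Finset I) => Prop) ⟨m.1, h m.2⟩).comp continuous_subtype_val) (hmem h)⟩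
    let F : (Finset I)ᵒᵖ ⥤ TopCat.{u} :=
      { obj := fun j => Fo j.unop
        map := fun {j i} a => TopCat.ofHom (mp (leOfHom a.unop))
        map_id := fun j => by ext; rfl
        map_comp := fun a b => by ext; rfl }
    have hres : ∀ j : Finset I, Continuous (res j) := fun j =>
      continuous_pi fun m => (continuous_apply m.1).comp hf.continuous
    let c : Cone F :=
      { pt := TopCat.of X
        π := { app := fun j => TopCat.ofHom ⟨fun x => ⟨res j.unop x, x, rfl⟩, (hres j.unop).subtype_mk _⟩
               naturality := fun j i a => by ext; rfl } }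
    have hlim : Nonempty (IsLimit c) := by
      have h1 : Nonempty (IsLimit ((forget TopCat.{u}).mapCone c)) := by
        rw [Types.isLimit_iff]
        intro s hs
        let s' : ∀ j : Finset I, Set.range (res j) := fun j => s (Opposite.op j)
        have hsc : ∀ {i j : Finset I} (h : i ≤ j), mp h (s' j) = s' i := fun {i j} h => hs (homOfLE h).op
        let G : I → Prop := fun m => (s' {m}).1 ⟨m, Finset.mem_singleton_self m⟩
        have hG : ∀ (j : Finset I) (m : j), (s' j).1 m = G m.1 := fun j m =>
          congrFun (congrArg Subtype.val (hsc (Finset.singleton_subset_iff.2 m.2))) ⟨m.1, Finset.mem_singleton_self _⟩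
        have hGr : G ∈ Set.range f := by
          have h1 : G ∈ @closure _ (H6.Sierp.discrete I) (Set.range f) := by
            rw [@mem_closure_iff _ (H6.Sierp.discrete I)]
            intro o ho hgo
            obtain ⟨J, u, hu, hsub⟩ := (@isOpen_pi_iff I (fun _ => Prop) (fun _ => ⊥) o).1 ho G hgo
            obtain ⟨x, hx⟩ := (s' J).2
            refine ⟨f x, hsub fun i hi => ?_, x, rfl⟩
            have : f x i = G i := (congrFun hx ⟨i, hi⟩).trans (hG J ⟨i, hi⟩)
            rw [this]; exact (hu i hi).2
          rwa [@IsClosed.closure_eq _ (H6.Sierp.discrete I) _ hcl0] at h1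
        obtain ⟨x, hx⟩ := hGr
        refine ⟨x, fun j => Subtype.ext (funext fun m => ?_), fun y hy => hf.injective (funext fun m => ?_)⟩
        · show f x m.1 = (s' j.unop).1 m
          rw [hG, hx]
        · rw [hx]
          exact congrFun (congrArg Subtype.val (hy (Opposite.op {m}))) ⟨m, Finset.mem_singleton_self m⟩
      obtain ⟨h1⟩ := h1
      rw [TopCat.nonempty_isLimit_iff_eq_induced c h1]
      refine le_antisymm (le_iInf fun j => continuous_iff_le_induced.1 (c.π.app j).hom.continuous) ?_
      show _ ≤ (inferInstance : TopologicalSpace X)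
      rw [hf.eq_induced, Pi.topologicalSpace, induced_iInf]
      refine le_iInf fun m => iInf_le_of_le (Opposite.op {m}) ?_
      rw [induced_compose]
      have hproj : Continuous (fun y : Set.range (res {m}) => y.1 ⟨m, Finset.mem_singleton_self m⟩) :=
        (continuous_apply (A := fun _ : ({m} : Finset I) => Prop) _).comp continuous_subtype_val
      have := induced_mono (g := fun x : X => (⟨res {m} x, x, rfl⟩ : Set.range (res {m}))) (continuous_iff_le_induced.1 hproj)
      rw [induced_compose] at this
      exact this
    refine ⟨Finset I, inferInstance, inferInstance, inferInstance, F, c, hlim, fun j => ?_, ⟨Iso.refl _⟩⟩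
    haveI : Finite (F.obj j) := Subtype.finite
    refine ⟨this, inferInstanceAs (T0Space (Set.range (res j.unop))), ⟨fun {S} hS hcl' => ?_⟩⟩
    let T := (S.toFinite.toFinset).image fun x => closure ({x} : Set (F.obj j))
    obtain ⟨t, ht, hSt⟩ := isIrreducible_iff_sUnion_isClosed.1 hS T
      (fun t ht => by obtain ⟨x, -, rfl⟩ := Finset.mem_image.1 ht; exact isClosed_closure)
      (fun x hx => ⟨closure {x}, Finset.mem_coe.2 (Finset.mem_image_of_mem _ (S.toFinite.mem_toFinset.2 hx)),
        subset_closure rfl⟩)
    obtain ⟨x, hx, rfl⟩ := Finset.mem_image.1 ht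
    exact ⟨x, subset_antisymm (closure_minimal (Set.singleton_subset_iff.2 (S.toFinite.mem_toFinset.1 hx)) hcl') hSt⟩

end Groth.Agent.S12462
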