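import Groth.Statements.S12482
import Mathlib

set_option autoImplicit false
universe u
open Dual

namespace Groth.Agent.S12482
open RingTheory.Sequence IsLocalRing
set_option linter.style.haveILetI false

/-- Let `A` be a commutative ring, `x_1, …, x_p` a sequence of elements of `A` such that each `x_i` is a
non-zero-divisor on `A/(x_1, …, x_{i-1})`, and `J` the ideal generated by the `x_i`. Then `J/J²` is
a free `(A/J)`-module with basis the classes of the `x_i`: there is a basis of `J/J²` over `A/J`,
indexed by `1, …, p`, whose `i`-th vector is the class of `x_i`. (The other assertions of the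
published statement, on the Koszul complex and on Ext and Tor against `A/J`, are stated separately.) -/
theorem result (A : Type u) [CommRing A] (p : ℕ) (x : Fin p → A)
    (hreg : RingTheory.Sequence.IsWeaklyRegular A (List.ofFn x)) :
    ∃ b : Module.Basis (Fin p) (A ⧸ Ideal.span (Set.range x)) (Ideal.span (Set.range x)).Cotangent,
      ∀ i, b i = (Ideal.span (Set.range x)).toCotangent ⟨x i, Ideal.subset_span (Set.mem_range_self i)⟩ := by
  have rel : ∀ (k : ℕ) (hk : k ≤ p) (c : Fin k → A), ∑ i, c i * x (Fin.castLE hk i) = 0 →
      ∀ i, c i ∈ Ideal.span (Set.range x) := by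
    intro k
    induction k with
    | zero => intro _ _ _ i; exact i.elim0
    | succ k ih =>
      intro hk c hc
      rw [Fin.sum_univ_castSucc] at hc
      set y : Fin k → A := fun i => x (Fin.castLE hk i.castSucc)
      have hlast : c (Fin.last k) ∈ Ideal.span (Set.range y) := by
        have hk' : k < (List.ofFn x).length := by simp; omega
        have h := hreg.regular_mod_prev k hk'
        rw [isSMulRegular_quotient_iff_mem_of_smul_mem] at h
        have e : (Ideal.ofList ((List.ofFn x).take k) • ⊤ : Submodule A A) = Ideal.span (Set.range y) := by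
          rw [Ideal.smul_eq_mul, Ideal.mul_top, Ideal.ofList]
          congr 1
          ext a
          simp only [Set.mem_setOf_eq, List.mem_take_iff_getElem, List.length_ofFn, List.getElem_ofFn, Set.mem_range, y]
          constructor
          · rintro ⟨j, hj, rfl⟩; exact ⟨⟨j, by omega⟩, rfl⟩
          · rintro ⟨j, rfl⟩; exact ⟨j, by omega, rfl⟩
        have h2 := h (c (Fin.last k))
        rw [e] at h2
        refine h2 ?_
        have : (List.ofFn x)[k] • c (Fin.last k) = -∑ i : Fin k, c i.castSucc * x (Fin.castLE hk i.castSucc) := by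
          rw [List.getElem_ofFn, smul_eq_mul, eq_neg_iff_add_eq_zero, ← hc, mul_comm, add_comm]
          rfl
        rw [this]
        exact Submodule.neg_mem _ (Ideal.sum_mem _ fun i _ => Ideal.mul_mem_left _ _ (Ideal.subset_span ⟨i, rfl⟩))
      obtain ⟨d, hd⟩ := (Submodule.mem_span_range_iff_exists_fun A).1 hlast
      have hle : Set.range y ⊆ Set.range x := by rintro _ ⟨i, rfl⟩; exact ⟨_, rfl⟩
      have := ih (by omega) (fun i => c i.castSucc + d i * x (Fin.castLE hk (Fin.last k))) (by
        rw [← hc, ← hd]
        simp only [add_mul, Finset.sum_add_distrib, Finset.sum_mul, smul_eq_mul]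
        congr 1
        exact Finset.sum_congr rfl fun i _ => by simp only [y]; rw [mul_assoc, mul_comm (x _) (x _), ← mul_assoc]; rfl)
      intro i
      induction i using Fin.lastCases with
      | last => exact Ideal.span_mono hle hlast
      | cast i =>
        have h3 := this i
        have h4 : d i * x (Fin.castLE hk (Fin.last k)) ∈ Ideal.span (Set.range x) := Ideal.mul_mem_left _ _ (Ideal.subset_span ⟨_, rfl⟩)
        simpa using Ideal.sub_mem _ h3 h4
  set I := Ideal.span (Set.range x)
  let g : Fin p → I.Cotangent := fun i => I.toCotangent ⟨x i, Ideal.subset_span (Set.mem_range_self i)⟩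
  have hli : LinearIndependent (A ⧸ I) g := by
    rw [Fintype.linearIndependent_iff]
    intro c hc
    choose a ha using fun i => Ideal.Quotient.mk_surjective (c i)
    have h : I.toCotangent (∑ i, a i • ⟨x i, Ideal.subset_span (Set.mem_range_self i)⟩) = 0 := by
      rw [map_sum, ← hc]
      refine Finset.sum_congr rfl fun i _ => ?_
      rw [map_smul, ← ha i]; rfl
    rw [Ideal.toCotangent_eq_zero] at h
    simp only [Submodule.coe_sum, SetLike.val_smul, smul_eq_mul, sq] at h
    rw [← Ideal.smul_eq_mul] at h
    obtain ⟨b, hb, hsum⟩ := (Submodule.mem_ideal_smul_span_iff_exists_sum I x _).1 h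
    intro i
    have := rel p le_rfl (fun j => a j - b j) (by
      rw [Finsupp.sum_fintype _ _ (by simp)] at hsum
      simp [sub_mul, Finset.sum_sub_distrib]
      simpa [sub_eq_zero] using hsum.symm) i
    rw [← ha i, Ideal.Quotient.eq_zero_iff_mem]
    simpa using I.add_mem this (hb i)
  have hsp : ⊤ ≤ Submodule.span (A ⧸ I) (Set.range g) := by
    rintro z -
    obtain ⟨⟨w, hw⟩, rfl⟩ := I.toCotangent_surjective z
    obtain ⟨c, rfl⟩ := (Submodule.mem_span_range_iff_exists_fun A).1 hw
    rw [Submodule.mem_span_range_iff_exists_fun]
    refine ⟨fun i => Ideal.Quotient.mk I (c i), ?_⟩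
    rw [show (⟨∑ i, c i • x i, hw⟩ : I) = ∑ i, c i • (⟨x i, Ideal.subset_span (Set.mem_range_self i)⟩ : I) from
      Subtype.ext (by simp), map_sum]
    simp only [map_smul, g]
    rfl
  exact ⟨Module.Basis.mk hli hsp, fun i => by rw [Module.Basis.mk_apply]⟩

end Groth.Agent.S12482
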