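import Groth.Statements.S12491
import Mathlib
import Groth.Agent.Lib.RegularLocalSerre

set_option autoImplicit false
set_option backward.isDefEq.respectTransparency.types false
set_option maxHeartbeats 1000000
set_option linter.all false
universe u
open VBPn

namespace Groth.Agent.S12491
open Groth.Agent

/-- Let A be a regular local ring, k ≥ 0, and N_0, N_1, … A-modules with N_0 finitely generated and N_1,
…, N_k finitely generated and free, with linear maps d_i : N_i → N_{i+1} such that d_0 is injective
and the sequence 0 → N_0 → N_1 → ⋯ → N_k is exact. Then for every prime ideal p of A of height at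
most k the localization of N_0 at p is a free module over A_p. The published statement is for a
coherent analytic sheaf on a complex manifold that is locally a k-th syzygy sheaf and says its set
of non-free stalks has codimension greater than k; this row is the statement at one stalk, over any
regular local ring. -/
theorem result (A : Type u) [CommRing A] [IsRegularLocalRing A]
    (k : ℕ) (N : ℕ → Type u) [∀ i, AddCommGroup (N i)] [∀ i, Module A (N i)] [Module.Finite A (N 0)]
    (hfree : ∀ i, 1 ≤ i → i ≤ k → Module.Free A (N i) ∧ Module.Finite A (N i))
    (d : ∀ i, N i →ₗ[A] N (i + 1)) (hinj : Function.Injective (d 0))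
    (hex : ∀ i, i + 1 < k → LinearMap.range (d i) = LinearMap.ker (d (i + 1)))
    (p : Ideal A) [p.IsPrime] (hp : p.height ≤ k) :
    Module.Free (Localization.AtPrime p) (LocalizedModule p.primeCompl (N 0)) := by
    haveI := RegLocal.regular_localization p (Localization.AtPrime p)
    haveI : ∀ i, i ≤ k → Module.Finite A (N i) := fun i hi => by
      cases i with
      | zero => infer_instance
      | succ i => exact (hfree _ (Nat.le_add_left 1 i) hi).2
    have hd : (IsLocalRing.maximalIdeal (Localization.AtPrime p)).spanFinrank ≤ k := by
      have h1 := (IsRegularLocalRing.spanFinrank_maximalIdeal (R := Localization.AtPrime p))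
      rw [IsLocalization.AtPrime.ringKrullDim_eq_height p (Localization.AtPrime p)] at h1
      have h2 : ((IsLocalRing.maximalIdeal (Localization.AtPrime p)).spanFinrank : WithBot ℕ∞) ≤ ((k : ℕ∞) : WithBot ℕ∞) := h1 ▸ WithBot.coe_le_coe.2 hp
      exact_mod_cast h2
    have hpd : ∀ (M : Type u) [AddCommGroup M] [Module (Localization.AtPrime p) M], RegLocal.PdLT (Localization.AtPrime p) M (k + 1) := fun M _ _ =>
      RegLocal.pdLT_mono (by omega) (RegLocal.pdLT_of_regular _ rfl M)
    rcases Nat.eq_zero_or_pos k with rfl | hk
    · haveI : Module.Finite (Localization.AtPrime p) (LocalizedModule p.primeCompl (N 0)) := inferInstance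
      exact RegLocal.free_of_pdLT_one (hpd _)
    let D := fun i => LocalizedModule.map p.primeCompl (d i)
    have hproj : ∀ i, 1 ≤ i → i ≤ k → Module.Projective (Localization.AtPrime p) (LocalizedModule p.primeCompl (N i)) := fun i h1 h2 => by
      haveI := (hfree i h1 h2).1
      exact Module.Projective.of_equiv (LocalizedModule.equivTensorProduct p.primeCompl (N i)).symm
    have hker : ∀ i, i + 1 < k → LinearMap.range (D i) = LinearMap.ker (D (i + 1)) := fun i hi =>
      SetLike.ext fun x => ((LocalizedModule.map_exact p.primeCompl (d i) (d (i + 1)) (LinearMap.exact_iff.2 (hex i hi).symm)) x).symm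
    have key : ∀ m i, i + m + 1 = k → RegLocal.PdLT (Localization.AtPrime p) (LinearMap.range (D i)) (i + 1) := by
      intro m
      induction m with
      | zero =>
        intro i hi
        haveI := hproj (i + 1) (by omega) (by omega)
        have h1 : RegLocal.PdLT (Localization.AtPrime p) (LocalizedModule p.primeCompl (N (i + 1)) ⧸ LinearMap.range (D i)) (i + 2) := RegLocal.pdLT_mono (by omega) (hpd _)
        exact RegLocal.pdLT_congr (LinearEquiv.ofEq _ _ (Submodule.ker_mkQ _)) ((RegLocal.pdLT_ker_iff _ (Submodule.mkQ_surjective _) i).1 h1)
      | succ m ih =>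
        intro i hi
        haveI := hproj (i + 1) (by omega) (by omega)
        have h1 := (RegLocal.pdLT_ker_iff (D (i + 1)).rangeRestrict (LinearMap.surjective_rangeRestrict _) i).1 (ih (i + 1) (by omega))
        exact RegLocal.pdLT_congr (LinearEquiv.ofEq _ _ ((LinearMap.ker_rangeRestrict _).trans (hker i (by omega)).symm)) h1
    haveI : Module.Finite (Localization.AtPrime p) (LocalizedModule p.primeCompl (N 0)) := inferInstance
    exact RegLocal.free_of_pdLT_one (RegLocal.pdLT_congr (LinearEquiv.ofInjective _ (LocalizedModule.map_injective p.primeCompl (d 0) hinj)).symm (key (k - 1) 0 (by omega)))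

end Groth.Agent.S12491
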