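import Groth.Statements.S12498
import Mathlib

set_option autoImplicit false
set_option backward.isDefEq.respectTransparency.types false
set_option maxHeartbeats 1000000
set_option linter.all false
universe u
open Deform

namespace Groth.Agent.S12498
open Groth.Agent

/-- Let k be an algebraically closed field, A a local Artinian k-algebra with residue field k, and t a
nonzero element of the maximal ideal m_A annihilated by m_A, so that A → A/tA is a small extension.
Let B be a flat A-algebra (a deformation over A of its closed fibre B_0 = B/m_A B), and σ an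
A-algebra automorphism of B/tB inducing the identity on B_0. Fix an A-algebra automorphism τ of B
inducing σ (so τ induces the identity on B_0). Then the A-algebra automorphisms η of B inducing σ
correspond bijectively to the k-derivations d of B_0 through the rule η = τ + t·d, meaning η(b) =
τ(b) + t b′ for all b ∈ B and all b′ ∈ B lifting d applied to the image of b in B_0: every such η
determines a unique d, and every d comes from some such η. (The published statement phrases the
conclusion as a free and transitive action of Der_k(B_0, B_0) on the nonempty set of lifts of σ; the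
condition that σ induces the identity on B_0 is expressed here through the chosen lift τ.) -/
theorem result
    {k : Type u} [Field k] [IsAlgClosed k]
    {A : Type u} [CommRing A] [Algebra k A] [IsLocalRing A] [IsArtinianRing A]
    (hres : ∀ a : A, ∃ c : k, a - algebraMap k A c ∈ IsLocalRing.maximalIdeal A)
    (t : A) (ht : t ∈ IsLocalRing.maximalIdeal A) (ht0 : t ≠ 0)
    (htm : ∀ a ∈ IsLocalRing.maximalIdeal A, a * t = 0)
    {B : Type u} [CommRing B] [Algebra A B] [Module.Flat A B] [Algebra k B] [IsScalarTower k A B]
    (σ : (B ⧸ Ideal.span {algebraMap A B t}) ≃ₐ[A] (B ⧸ Ideal.span {algebraMap A B t}))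
    (τ : B ≃ₐ[A] B)
    (hτ : ∀ b : B, Ideal.Quotient.mk (Ideal.span {algebraMap A B t}) (τ b) =
      σ (Ideal.Quotient.mk (Ideal.span {algebraMap A B t}) b))
    (hτ0 : ∀ b : B, τ b - b ∈ (IsLocalRing.maximalIdeal A).map (algebraMap A B)) :
    (∀ η : B ≃ₐ[A] B, (∀ b : B, Ideal.Quotient.mk (Ideal.span {algebraMap A B t}) (η b) =
        σ (Ideal.Quotient.mk (Ideal.span {algebraMap A B t}) b)) →
      ∃! d : Derivation k (B ⧸ (IsLocalRing.maximalIdeal A).map (algebraMap A B))
          (B ⧸ (IsLocalRing.maximalIdeal A).map (algebraMap A B)),
        ∀ b b' : B, Ideal.Quotient.mk ((IsLocalRing.maximalIdeal A).map (algebraMap A B)) b' =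
            d (Ideal.Quotient.mk ((IsLocalRing.maximalIdeal A).map (algebraMap A B)) b) →
          η b = τ b + algebraMap A B t * b') ∧
    (∀ d : Derivation k (B ⧸ (IsLocalRing.maximalIdeal A).map (algebraMap A B))
        (B ⧸ (IsLocalRing.maximalIdeal A).map (algebraMap A B)),
      ∃ η : B ≃ₐ[A] B, (∀ b : B, Ideal.Quotient.mk (Ideal.span {algebraMap A B t}) (η b) =
          σ (Ideal.Quotient.mk (Ideal.span {algebraMap A B t}) b)) ∧
        ∀ b b' : B, Ideal.Quotient.mk ((IsLocalRing.maximalIdeal A).map (algebraMap A B)) b' =
            d (Ideal.Quotient.mk ((IsLocalRing.maximalIdeal A).map (algebraMap A B)) b) →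
          η b = τ b + algebraMap A B t * b') := by
    classical
    set mB := (IsLocalRing.maximalIdeal A).map (algebraMap A B) with hmB
    let q := Ideal.Quotient.mk mB
    let T := algebraMap A B t
    have hmem : ∀ a ∈ IsLocalRing.maximalIdeal A, algebraMap A B a ∈ mB := fun a ha => Ideal.mem_map_of_mem _ ha
    have hTm : ∀ z ∈ mB, T * z = 0 := by
      intro z hz
      induction hz using Submodule.span_induction with
      | mem x hx =>
        obtain ⟨a, ha, rfl⟩ := hx
        show algebraMap A B t * algebraMap A B a = 0
        rw [← map_mul, mul_comm, htm a ha, map_zero]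
      | zero => exact mul_zero _
      | add x y _ _ hx hy => rw [mul_add, hx, hy, add_zero]
      | smul r x _ hx => rw [smul_eq_mul, mul_left_comm, hx, mul_zero]
    have hker : ∀ b, T * b = 0 → b ∈ mB := by
      intro b hb
      obtain ⟨κ, a, y, hy, ha⟩ := Module.Flat.isTrivialRelation_of_sum_smul_eq_zero (R := A) (ι := Fin 1)
        (f := fun _ => t) (x := fun _ => b) (by simpa [Algebra.smul_def] using hb)
      rw [show b = _ from hy 0]
      refine Submodule.sum_mem _ fun j _ => ?_
      rw [Algebra.smul_def]
      refine mB.mul_mem_right _ (hmem _ ?_)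
      by_contra hu
      have hu' : IsUnit (a 0 j) := by simpa [IsLocalRing.mem_maximalIdeal] using hu
      exact ht0 (hu'.mul_left_eq_zero.1 (by simpa using ha j))
    have hTT : T * T = 0 := hTm T (hmem t ht)
    have hcong : ∀ x y, q x = q y → T * x = T * y := fun x y h => by
      rw [← sub_eq_zero, ← mul_sub]; exact hTm _ (Ideal.Quotient.eq.1 h)
    have hqc : ∀ x y, T * x = T * y → q x = q y := fun x y h =>
      Ideal.Quotient.eq.2 (hker _ (by rw [mul_sub, h, sub_self]))
    have hτq : ∀ b, q (τ b) = q b := fun b => Ideal.Quotient.eq.2 (hτ0 b)
    refine ⟨fun η hη => ?_, fun d => ?_⟩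
    · have hc : ∀ b, ∃ c, η b - τ b = T * c := fun b => by
        obtain ⟨c, hc⟩ := Ideal.mem_span_singleton'.1 (Ideal.Quotient.eq.1 ((hη b).trans (hτ b).symm))
        exact ⟨c, by rw [← hc, mul_comm]⟩
      choose c hc using hc
      have hadd : ∀ x y, q (c (x + y)) = q (c x + c y) := fun x y => hqc _ _ (by
        rw [← hc, mul_add, ← hc, ← hc, map_add, map_add]; ring)
      have hsmulA : ∀ (a : A) b, q (c (algebraMap A B a * b)) = q (algebraMap A B a * c b) := fun a b => hqc _ _ (by
        rw [← hc, map_mul, map_mul, η.commutes, τ.commutes, ← mul_sub, hc, mul_left_comm])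
      have hmul : ∀ x y, q (c (x * y)) = q (x * c y + y * c x) := fun x y => by
        refine (hqc _ (τ x * c y + τ y * c x) ?_).trans ?_
        · have ex : η x = τ x + T * c x := by rw [← hc]; ring
          have ey : η y = τ y + T * c y := by rw [← hc]; ring
          rw [← hc, map_mul, map_mul, ex, ey]
          linear_combination c x * c y * hTT
        · simp only [map_add, map_mul, hτq]
      have hwell : ∀ z ∈ mB, q (c z) = 0 := by
        intro z hz
        have hzero : ∀ x, q x = 0 ↔ x ∈ mB := fun x => Ideal.Quotient.eq_zero_iff_mem
        have hz' : ∀ r, q (r * z) = 0 := fun r => (hzero _).2 (mB.mul_mem_left r hz)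
        induction hz using Submodule.span_induction with
        | mem x hx =>
          obtain ⟨a, ha, rfl⟩ := hx
          rw [← mul_one (algebraMap A B a), hsmulA]
          exact (hzero _).2 (mB.mul_mem_right _ (hmem a ha))
        | zero =>
          have := hsmulA 0 0
          simpa using this
        | add x y hx hy ihx ihy =>
          rw [hadd, map_add, ihx (fun r => (hzero _).2 (mB.mul_mem_left r hx)), ihy (fun r => (hzero _).2 (mB.mul_mem_left r hy)), add_zero]
        | smul r x hx ihx =>
          rw [smul_eq_mul, hmul, map_add, map_mul q r, ihx (fun r => (hzero _).2 (mB.mul_mem_left r hx)), mul_zero, zero_add,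
            map_mul, (hzero x).2 hx, zero_mul]
      have hlift : ∀ x y, q x = q y → q (c x) = q (c y) := fun x y h => by
        have h1 := hadd (x - y) y
        rw [sub_add_cancel, map_add, hwell _ (Ideal.Quotient.eq.1 h), zero_add] at h1
        exact h1
      let s : B ⧸ mB → B := fun z => (Ideal.Quotient.mk_surjective z).choose
      have hs : ∀ z, q (s z) = z := fun z => (Ideal.Quotient.mk_surjective z).choose_spec
      let dl : (B ⧸ mB) →ₗ[k] B ⧸ mB :=
        { toFun := fun z => q (c (s z))
          map_add' := fun z w => by
            rw [hlift (s (z + w)) (s z + s w) (by rw [map_add, hs, hs, hs]), hadd, map_add]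
          map_smul' := fun r z => by
            rw [RingHom.id_apply, hlift (s (r • z)) (algebraMap A B (algebraMap k A r) * s z)
              (by rw [hs, map_mul, hs, ← IsScalarTower.algebraMap_apply, Algebra.smul_def]; rfl), hsmulA,
              ← IsScalarTower.algebraMap_apply, map_mul, Algebra.smul_def]
            rfl }
      let D : Derivation k (B ⧸ mB) (B ⧸ mB) := Derivation.mk' dl fun z w => by
        show q (c (s (z * w))) = z * q (c (s w)) + w * q (c (s z))
        rw [hlift (s (z * w)) (s z * s w) (by rw [map_mul, hs, hs, hs]), hmul, map_add, map_mul, map_mul, hs, hs]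
      have hD : ∀ b, D (q b) = q (c b) := fun b => hlift _ _ (hs _)
      refine ⟨D, fun b b' hb' => ?_, fun D' hD' => Derivation.ext fun z => ?_⟩
      · change q b' = D (q b) at hb'
        rw [hD] at hb'
        show η b = τ b + T * b'
        rw [hcong _ _ hb', ← hc]; ring
      · obtain ⟨b, rfl⟩ := Ideal.Quotient.mk_surjective z
        obtain ⟨b', hb'⟩ := Ideal.Quotient.mk_surjective (D' (q b))
        refine Eq.trans hb'.symm (Eq.trans (hqc b' (c b) ?_) (hD b).symm)
        have := hD' b b' hb'
        rw [← hc, this]; ring
    · let s : B ⧸ mB → B := fun z => (Ideal.Quotient.mk_surjective z).choose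
      have hs : ∀ z, q (s z) = z := fun z => (Ideal.Quotient.mk_surjective z).choose_spec
      let δ : B → B := fun b => T * s (d (q b))
      have hδ : ∀ b b', q b' = d (q b) → δ b = T * b' := fun b b' h => hcong _ _ (by rw [hs, h])
      have hka : ∀ (a : A) (x : B), ∃ r : k, q (algebraMap A B a * x) = r • q x := fun a x => by
        obtain ⟨r, hr⟩ := hres a
        refine ⟨r, ?_⟩
        rw [Algebra.smul_def, map_mul]
        congr 1
        have h1 : q (algebraMap A B a) = q (algebraMap A B (algebraMap k A r)) :=
          Ideal.Quotient.eq.2 (by rw [← map_sub]; exact hmem _ hr)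
        rw [h1, ← IsScalarTower.algebraMap_apply]
        rfl
      let h : B →ₐ[A] B :=
        { toFun := fun b => τ b + δ b
          map_one' := by
            rw [map_one, hδ 1 0 (by rw [map_zero, map_one, Derivation.map_one_eq_zero]), mul_zero, add_zero]
          map_mul' := fun x y => by
            rw [map_mul, hδ (x * y) (τ x * s (d (q y)) + τ y * s (d (q x)))
              (by rw [map_mul q x y, Derivation.leibniz, map_add, map_mul, map_mul, hs, hs, hτq, hτq]; rfl)]
            show _ = (τ x + T * s (d (q x))) * (τ y + T * s (d (q y)))
            linear_combination (- s (d (q x)) * s (d (q y))) * hTT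
          map_zero' := by rw [map_zero, hδ 0 0 (by simp), mul_zero, add_zero]
          map_add' := fun x y => by
            rw [map_add, hδ (x + y) (s (d (q x)) + s (d (q y))) (by simp [hs])]
            show _ = τ x + T * _ + (τ y + T * _)
            ring
          commutes' := fun a => by
            obtain ⟨r, hr⟩ := hka a 1
            rw [τ.commutes, hδ (algebraMap A B a) 0 (by
              rw [mul_one] at hr
              rw [map_zero, hr, map_one, Derivation.map_smul, Derivation.map_one_eq_zero, smul_zero]), mul_zero, add_zero] }
      have hh : ∀ b, h b = τ b + δ b := fun b => rfl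
      have hδT : ∀ x, δ (T * x) = 0 := fun x => by
        rw [hδ (T * x) 0 (by rw [map_zero, map_mul, show q T = 0 from Ideal.Quotient.eq_zero_iff_mem.2 (hmem t ht), zero_mul, map_zero]), mul_zero]
      have hτT : τ T = T := τ.commutes t
      have hbij : Function.Bijective h := by
        constructor
        · rw [injective_iff_map_eq_zero]
          intro b hb
          rw [hh] at hb
          have hb' : τ b = T * -s (d (q b)) := by rw [mul_neg]; exact eq_neg_of_add_eq_zero_left hb
          have e : b = T * τ.symm (-s (d (q b))) := τ.injective (by rw [map_mul, hτT, AlgEquiv.apply_symm_apply, hb'])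
          rw [e] at hb ⊢
          rw [hδT, add_zero, map_mul, hτT] at hb
          refine hTm _ ?_
          have h1 := hker _ hb
          have h2 := mB.sub_mem h1 (hτ0 (τ.symm (-s (d (q b)))))
          simpa using h2
        · intro y
          refine ⟨τ.symm y - T * τ.symm (s (d (q (τ.symm y)))), ?_⟩
          rw [map_sub, hh, hh, hδT, map_mul, hτT, AlgEquiv.apply_symm_apply, AlgEquiv.apply_symm_apply]
          show y + T * _ - _ = y
          ring
      refine ⟨AlgEquiv.ofBijective h hbij, fun b => ?_, fun b b' hb' => ?_⟩
      · rw [← hτ]
        refine Ideal.Quotient.eq.2 ?_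
        show τ b + δ b - τ b ∈ _
        rw [add_sub_cancel_left]
        exact Ideal.mul_mem_right _ _ (Ideal.subset_span rfl)
      · show τ b + δ b = _
        rw [hδ b b' hb']

end Groth.Agent.S12498
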