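import Groth.Statements.S12524
import Mathlib
import Groth.Agent.Lib.H2PowerSeries

set_option autoImplicit false
universe u v
open CAlg

namespace Groth.Agent.S12524
open IsLocalRing Groth.Agent.H2PowerSeries
set_option backward.isDefEq.respectTransparency.types false

open IsLocalRing in
/-- Let `A` be a complete discrete valuation ring with maximal ideal `m`, containing a field `K` such
that `K → A → A/m` is bijective (a coefficient field), and let `x` be any generator of `m`. Then the
`K`-algebra map `K[X] → A`, `X ↦ x`, extends to a bijective `K`-algebra map `φ : K⟦X⟧ → A`,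
characterised by `φ(∑ aᵢ Xⁱ) ≡ ∑_{i<n} aᵢ xⁱ (mod mⁿ)` for every `n`. -/
theorem result (K : Type u) (A : Type v) [Field K]
    [CommRing A] [IsDomain A] [IsDiscreteValuationRing A] [Algebra K A]
    [IsAdicComplete (maximalIdeal A) A]
    (hK : Function.Bijective ((residue A).comp (algebraMap K A)))
    (x : A) (hx : maximalIdeal A = Ideal.span {x}) :
    ∃ φ : PowerSeries K →ₐ[K] A, φ PowerSeries.X = x ∧ Function.Bijective φ ∧
      ∀ (f : PowerSeries K) (n : ℕ),
        φ f - (Finset.range n).sum (fun i => algebraMap K A (PowerSeries.coeff i f) * x ^ i) ∈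
          maximalIdeal A ^ n := by
  obtain ⟨φ, hφ, happ⟩ := exists_aeval (R := K) (σ := Unit) (IsLocalRing.maximalIdeal A) (fun _ => x)
    (fun _ => hx ▸ Ideal.mem_span_singleton_self x)
  have hsurj : Function.Surjective φ := surjective_of (IsLocalRing.maximalIdeal A) φ (by
      simp only [hφ, Set.range_const]; exact hx.symm) (fun y => by
    obtain ⟨r, hr⟩ := hK.2 (show IsLocalRing.ResidueField A from y)
    exact ⟨r, hr⟩)
  have hinj : Function.Injective φ := by
    rw [injective_iff_map_eq_zero]
    intro f hf
    by_contra hne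
    obtain ⟨n, u, hu⟩ := IsDiscreteValuationRing.eq_unit_mul_pow_irreducible (show (f : PowerSeries K) ≠ 0 from hne)
      PowerSeries.X_irreducible
    have hX : φ (PowerSeries.X : PowerSeries K) = x := hφ ()
    have h1 : φ ((u : PowerSeries K) * PowerSeries.X ^ n) = 0 := (congrArg φ hu.symm).trans hf
    have h2 : IsUnit (φ (u : PowerSeries K)) := u.isUnit.map φ
    have h3 : x ≠ 0 := by
      rintro rfl
      exact IsDiscreteValuationRing.not_a_field A (hx.trans (by simp))
    have h4 : φ (u : PowerSeries K) * φ ((PowerSeries.X : PowerSeries K)) ^ n = 0 := by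
      rw [← map_pow, ← map_mul]; exact h1
    rw [hX] at h4
    exact pow_ne_zero n h3 ((h2.mul_right_eq_zero).1 h4)
  refine ⟨φ, hφ (), ⟨hinj, hsurj⟩, fun f n => ?_⟩
  have h := happ f n
  rw [MvPolynomial.aeval_def] at h
  convert h using 2
  classical
  let j : ℕ → (Unit →₀ ℕ) := fun i => Finsupp.single () i
  have hsupp : (MvPowerSeries.truncTotal n (f : MvPowerSeries Unit K)).support ⊆ (Finset.range n).image j := by
    intro m hm
    have hdeg : Finsupp.degree m < n := by
      by_contra hn
      exact MvPolynomial.mem_support_iff.1 hm (MvPowerSeries.coeff_truncTotal_eq_zero _ (not_lt.1 hn))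
    refine Finset.mem_image.2 ⟨m (), Finset.mem_range.2 ?_, (Finsupp.unique_single m).symm⟩
    rw [show m = Finsupp.single () (m ()) from Finsupp.unique_single m, Finsupp.degree_single] at hdeg
    exact hdeg
  rw [MvPolynomial.eval₂_eq', Finset.sum_subset hsupp (fun m _ hm => by
    rw [MvPolynomial.notMem_support_iff.1 hm, map_zero, zero_mul]),
    Finset.sum_image (fun a _ b _ h => Finsupp.single_injective () h)]
  refine Finset.sum_congr rfl fun i hi => ?_
  rw [MvPowerSeries.coeff_truncTotal _ (by simpa [j] using Finset.mem_range.1 hi)]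
  simp [j, PowerSeries.coeff_def (s := Finsupp.single () i) rfl]

end Groth.Agent.S12524
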