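import Groth.Statements.S12550
import Mathlib

set_option autoImplicit false
universe u
open GIT

namespace Groth.Agent.S12550

/-- Let V be a finite-dimensional vector space over a field K and x_0, …, x_m non-zero vectors, a
configuration of m + 1 points of the projective space P(V). If for every subspace L with 0 ≠ L ≠ V
the number of indices i with x_i ∈ L, multiplied by dim V, is less than dim L · (m + 1) (the
configuration is stable), then no two proper subspaces L', L'' with L' ∩ L'' = 0 contain between
them all the x_i. -/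
theorem result (K : Type u) [Field K]
    (V : Type u) [AddCommGroup V] [Module K V] [FiniteDimensional K V]
    (m : ℕ) (x : Fin (m + 1) → V) (hx : ∀ i, x i ≠ 0)
    (hst : ∀ L : Submodule K V, L ≠ ⊥ → L ≠ ⊤ →
      Set.ncard {i : Fin (m + 1) | x i ∈ L} * Module.finrank K V < Module.finrank K L * (m + 1)) :
    ¬ ∃ L' L'' : Submodule K V, L' ≠ ⊤ ∧ L'' ≠ ⊤ ∧ Disjoint L' L'' ∧ ∀ i, x i ∈ L' ∨ x i ∈ L'' := by
  rintro ⟨L', L'', h1, h2, hd, hall⟩
  have hn : 0 < Module.finrank K V := by
    rcases Nat.eq_zero_or_pos (Module.finrank K V) with h | h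
    · haveI := Module.finrank_zero_iff.mp h
      exact absurd (Subsingleton.elim (x 0) 0) (hx 0)
    · exact h
  have hs : ∀ L : Submodule K V, L ≠ ⊤ → (∃ i, x i ∈ L) →
      Set.ncard {i : Fin (m + 1) | x i ∈ L} * Module.finrank K V < Module.finrank K L * (m + 1) := by
    rintro L hL ⟨i, hi⟩
    refine hst L (fun h => hx i ?_) hL
    rw [h] at hi; simpa using hi
  have hle : Module.finrank K L' + Module.finrank K L'' ≤ Module.finrank K V := by
    rw [← Submodule.finrank_sup_add_finrank_inf_eq, hd.eq_bot, finrank_bot, add_zero]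
    exact Submodule.finrank_le _
  have hcard : m + 1 ≤ Set.ncard {i : Fin (m + 1) | x i ∈ L'} + Set.ncard {i : Fin (m + 1) | x i ∈ L''} := by
    refine le_trans (le_of_eq ?_) (Set.ncard_union_le _ _)
    have : {i : Fin (m + 1) | x i ∈ L'} ∪ {i : Fin (m + 1) | x i ∈ L''} = Set.univ := Set.eq_univ_of_forall hall
    rw [this, Set.ncard_univ, Nat.card_eq_fintype_card, Fintype.card_fin]
  have hb : ∀ L : Submodule K V, L ≠ ⊤ →
      Set.ncard {i : Fin (m + 1) | x i ∈ L} * Module.finrank K V ≤ Module.finrank K L * (m + 1) := by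
    intro L hL
    by_cases he : ∃ i, x i ∈ L
    · exact (hs L hL he).le
    · have : {i : Fin (m + 1) | x i ∈ L} = ∅ := Set.eq_empty_of_forall_notMem fun i hi => he ⟨i, hi⟩
      simp [this]
  rcases hall 0 with h | h
  · have := hs L' h1 ⟨0, h⟩; have := hb L'' h2; nlinarith
  · have := hs L'' h2 ⟨0, h⟩; have := hb L' h1; nlinarith

end Groth.Agent.S12550
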