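import Groth.Statements.S12612
import Mathlib

set_option autoImplicit false
set_option backward.isDefEq.respectTransparency.types false
set_option maxHeartbeats 1000000
set_option linter.all false
open FunFld

namespace Groth.Agent.S12612
open Groth.Agent

/-- For a plane curve given by a homogeneous `f` of degree `e` with `f(1, x, y) = 0` and a change of
projective coordinates `X = AX'` (`A` invertible over `k`), with new affine coordinates `x' =
u₁/u₀`, `y' = u₂/u₀`, `z = 1/u₀ = X₀/X₀'` where `u = A⁻¹(1, x, y)ᵗ`, and `f'(X') = f(AX')`, the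
differentials satisfy `dx/f̂_y = det(A) z^(e-3) dx'/f̂'_{y'}`, where `f̂_y = (∂f/∂X₂)(1, x, y)` and
`f̂'_{y'} = (∂f'/∂X₂')(1, x', y')` are assumed nonzero. (Stated for any field `K` over `k`
containing such `x`, `y`; the published setting is a plane model of a function field over an
algebraically closed field, and the computation uses only the relation `f(1, x, y) = 0`.) -/
theorem result
    (k K : Type*) [Field k] [Field K] [Algebra k K]
    (f : MvPolynomial (Fin 3) k) (e : ℕ) (hf : f.IsHomogeneous e)
    (x y : K) (hfxy : MvPolynomial.aeval ![(1 : K), x, y] f = 0)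
    (A : Matrix (Fin 3) (Fin 3) k) (hA : A.det ≠ 0)
    (u : Fin 3 → K) (hu : ∀ i, ∑ j, algebraMap k K (A i j) * u j = ![(1 : K), x, y] i)
    (hu0 : u 0 ≠ 0)
    (hfy : MvPolynomial.aeval ![(1 : K), x, y] (MvPolynomial.pderiv 2 f) ≠ 0)
    (hfy' : MvPolynomial.aeval ![(1 : K), u 1 / u 0, u 2 / u 0]
      (MvPolynomial.pderiv 2
        (MvPolynomial.aeval (fun i : Fin 3 => ∑ j, MvPolynomial.C (A i j) * MvPolynomial.X j) f)) ≠ 0) :
    (MvPolynomial.aeval ![(1 : K), x, y] (MvPolynomial.pderiv 2 f))⁻¹ • KaehlerDifferential.D k K x =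
      (algebraMap k K A.det * (u 0)⁻¹ ^ ((e : ℤ) - 3) *
        (MvPolynomial.aeval ![(1 : K), u 1 / u 0, u 2 / u 0]
          (MvPolynomial.pderiv 2
            (MvPolynomial.aeval (fun i : Fin 3 => ∑ j, MvPolynomial.C (A i j) * MvPolynomial.X j) f)))⁻¹) •
        KaehlerDifferential.D k K (u 1 / u 0) := by
    classical
    let p : Fin 3 → K := ![(1 : K), x, y]
    let a : Fin 3 → Fin 3 → K := fun i j => algebraMap k K (A i j)
    let c : Fin 3 → K := fun i => MvPolynomial.aeval p (MvPolynomial.pderiv i f)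
    let G : Fin 3 → K := fun j => ∑ i, a i j * c i
    have hp : ∀ i, ∑ j, a i j * u j = p i := hu
    have scale : ∀ (q : MvPolynomial (Fin 3) k) (n : ℕ), q.IsHomogeneous n → ∀ (s : K) (z : Fin 3 → K),
        MvPolynomial.aeval (fun i => s * z i) q = s ^ n * MvPolynomial.aeval z q := by
      intro q n hq s z
      rw [MvPolynomial.aeval_def, MvPolynomial.aeval_def, MvPolynomial.eval₂_eq', MvPolynomial.eval₂_eq', Finset.mul_sum]
      refine Finset.sum_congr rfl fun d hd => ?_
      have hdeg : ∑ i, d i = n := by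
        have h := hq (MvPolynomial.mem_support_iff.1 hd)
        simpa [Finsupp.weight_apply, Finsupp.sum_fintype] using h
      simp only [mul_pow, Finset.prod_mul_distrib, Finset.prod_pow_eq_pow_sum, hdeg]
      ring
    have chain : ∀ q : MvPolynomial (Fin 3) k, KaehlerDifferential.D k K (MvPolynomial.aeval p q) =
        ∑ i, MvPolynomial.aeval p (MvPolynomial.pderiv i q) • KaehlerDifferential.D k K (p i) := by
      intro q
      induction q using MvPolynomial.induction_on with
      | C r => simp
      | add g h hg hh => simp only [map_add, hg, hh, add_smul, Finset.sum_add_distrib]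
      | mul_X g i hg =>
        have hpX : ∀ j, MvPolynomial.aeval p (MvPolynomial.pderiv j (MvPolynomial.X i : MvPolynomial (Fin 3) k)) =
            if j = i then 1 else 0 := fun j => by
          by_cases h : j = i
          · subst h; simp
          · rw [MvPolynomial.pderiv_X_of_ne (fun h' => h h'.symm), map_zero, if_neg h]
        rw [map_mul, MvPolynomial.aeval_X, Derivation.leibniz, hg]
        simp only [MvPolynomial.pderiv_mul, map_add, map_mul, MvPolynomial.aeval_X, hpX, mul_ite, mul_one, mul_zero,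
          add_smul, ite_smul, zero_smul, Finset.sum_add_distrib, Finset.sum_ite_eq', Finset.mem_univ, if_true,
          Finset.smul_sum, smul_smul]
        rw [add_comm]
        congr 1
        exact Finset.sum_congr rfl fun j _ => by rw [mul_comm]
    have chainA : ∀ (q : MvPolynomial (Fin 3) k) (j : Fin 3),
        MvPolynomial.pderiv j (MvPolynomial.aeval (fun i : Fin 3 => ∑ l, MvPolynomial.C (A i l) * MvPolynomial.X l) q) =
        ∑ i, MvPolynomial.C (A i j) *
          MvPolynomial.aeval (fun i : Fin 3 => ∑ l, MvPolynomial.C (A i l) * MvPolynomial.X l) (MvPolynomial.pderiv i q) := by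
      intro q j
      induction q using MvPolynomial.induction_on with
      | C r => simp
      | add g h hg hh => simp only [map_add, hg, hh, mul_add, Finset.sum_add_distrib]
      | mul_X g i hg =>
        have hL : MvPolynomial.pderiv j (∑ l, MvPolynomial.C (A i l) * MvPolynomial.X l) = MvPolynomial.C (A i j) := by
          rw [map_sum, Finset.sum_eq_single (a := j)]
          · simp [MvPolynomial.pderiv_mul]
          · intro l _ hl
            simp [MvPolynomial.pderiv_mul, MvPolynomial.pderiv_X_of_ne hl]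
          · simp
        have hX : ∀ l, MvPolynomial.aeval (fun i : Fin 3 => ∑ m, MvPolynomial.C (A i m) * MvPolynomial.X m)
            (MvPolynomial.pderiv l (MvPolynomial.X i : MvPolynomial (Fin 3) k)) =
            if l = i then (1 : MvPolynomial (Fin 3) k) else 0 := fun l => by
          by_cases h : l = i
          · subst h; simp
          · rw [MvPolynomial.pderiv_X_of_ne (fun h' => h h'.symm), map_zero, if_neg h]
        simp only [map_mul, MvPolynomial.aeval_X, MvPolynomial.pderiv_mul, hg, hL, map_add, hX, mul_ite, mul_one, mul_zero,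
          mul_add, Finset.sum_add_distrib, Finset.sum_ite_eq', Finset.mem_univ, if_true]
        rw [Finset.sum_mul]
        congr 1
        · exact Finset.sum_congr rfl fun _ _ => mul_assoc _ _ _
        · exact mul_comm _ _
    have hG : MvPolynomial.aeval ![(1 : K), u 1 / u 0, u 2 / u 0]
        (MvPolynomial.pderiv 2 (MvPolynomial.aeval (fun i : Fin 3 => ∑ j, MvPolynomial.C (A i j) * MvPolynomial.X j) f))
          = (u 0)⁻¹ ^ (e - 1) * G 2 := by
      rw [chainA, map_sum, Finset.mul_sum]
      refine Finset.sum_congr rfl fun i _ => ?_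
      rw [map_mul, MvPolynomial.aeval_C]
      have : MvPolynomial.aeval ![(1 : K), u 1 / u 0, u 2 / u 0]
          (MvPolynomial.aeval (fun i : Fin 3 => ∑ l, MvPolynomial.C (A i l) * MvPolynomial.X l) (MvPolynomial.pderiv i f)) =
          (u 0)⁻¹ ^ (e - 1) * c i := by
        rw [← AlgHom.comp_apply, MvPolynomial.comp_aeval, ← scale _ (e - 1) hf.pderiv]
        congr 1
        refine MvPolynomial.algHom_ext fun l => ?_
        simp only [MvPolynomial.aeval_X, map_sum, map_mul, MvPolynomial.aeval_C]
        rw [← hp l, Finset.mul_sum]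
        refine Finset.sum_congr rfl fun m _ => ?_
        show algebraMap k K (A l m) * _ = (u 0)⁻¹ * (algebraMap k K (A l m) * u m)
        fin_cases m <;> simp [div_eq_mul_inv, hu0] <;> field_simp
      rw [this]; ring
    have e0 : e ≠ 0 := by
      rintro rfl
      apply hfy
      have hc := hf
      rw [← MvPolynomial.totalDegree_zero_iff_isHomogeneous, MvPolynomial.totalDegree_eq_zero_iff_eq_C] at hc
      rw [hc]; simp
    have hcp : c 0 + c 1 * x + c 2 * y = 0 := by
      have := congrArg (MvPolynomial.aeval p) hf.sum_X_mul_pderiv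
      simp only [map_sum, map_mul, MvPolynomial.aeval_X, map_nsmul, Fin.sum_univ_three] at this
      rw [show MvPolynomial.aeval p f = 0 from hfxy, smul_zero] at this
      simp [p, c] at this ⊢
      linear_combination this
    have hcd : c 1 • KaehlerDifferential.D k K x + c 2 • KaehlerDifferential.D k K y = 0 := by
      have := chain f
      rw [show MvPolynomial.aeval p f = 0 from hfxy, map_zero, Fin.sum_univ_three] at this
      simpa [p, c] using this.symm
    set du : Fin 3 → _ := fun j => KaehlerDifferential.D k K (u j) with hdu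
    have hdp : ∀ i, a i 0 • du 0 + a i 1 • du 1 + a i 2 • du 2 = KaehlerDifferential.D k K (p i) := fun i => by
      rw [← hp i, Fin.sum_univ_three]
      simp [du, a, Derivation.leibniz]
    have h0 : a 0 0 • du 0 + a 0 1 • du 1 + a 0 2 • du 2 = 0 := by rw [hdp]; simp [p]
    have h1 : a 1 0 • du 0 + a 1 1 • du 1 + a 1 2 • du 2 = KaehlerDifferential.D k K x := by rw [hdp]; rfl
    have h2 : a 2 0 • du 0 + a 2 1 • du 1 + a 2 2 • du 2 = KaehlerDifferential.D k K y := by rw [hdp]; rfl
    have g0 : G 0 • du 0 + G 1 • du 1 + G 2 • du 2 = 0 := by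
      simp only [G, Fin.sum_univ_three]
      rw [← hcd, ← h1, ← h2]
      linear_combination (norm := module) c 0 • h0
    have hu' : ∀ i, a i 0 * u 0 + a i 1 * u 1 + a i 2 * u 2 = p i := fun i => by rw [← hp i, Fin.sum_univ_three]
    have g1 : G 0 * u 0 + G 1 * u 1 + G 2 * u 2 = 0 := by
      simp only [G, Fin.sum_univ_three]
      have q0 : a 0 0 * u 0 + a 0 1 * u 1 + a 0 2 * u 2 = 1 := hu' 0
      have q1 : a 1 0 * u 0 + a 1 1 * u 1 + a 1 2 * u 2 = x := hu' 1
      have q2 : a 2 0 * u 0 + a 2 1 * u 1 + a 2 2 * u 2 = y := hu' 2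
      linear_combination c 0 * q0 + c 1 * q1 + c 2 * q2 + hcp
    set W01 := u 0 • du 1 - u 1 • du 0 with hW01
    set W02 := u 0 • du 2 - u 2 • du 0 with hW02
    set W12 := u 1 • du 2 - u 2 • du 1 with hW12
    have r1 : G 2 • W02 = -(G 1 • W01) := by
      rw [hW01, hW02]
      linear_combination (norm := module) u 0 • g0 - g1 • (du 0)
    have r2 : G 2 • W12 = G 0 • W01 := by
      rw [hW01, hW12]
      linear_combination (norm := module) u 1 • g0 - g1 • (du 1)
    have hdx : KaehlerDifferential.D k K x = (a 0 0 * a 1 1 - a 0 1 * a 1 0) • W01 +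
        (a 0 0 * a 1 2 - a 0 2 * a 1 0) • W02 + (a 0 1 * a 1 2 - a 0 2 * a 1 1) • W12 := by
      have q0 : a 0 0 * u 0 + a 0 1 * u 1 + a 0 2 * u 2 = 1 := hu' 0
      have q1 : a 1 0 * u 0 + a 1 1 * u 1 + a 1 2 * u 2 = x := hu' 1
      rw [hW01, hW02, hW12]
      calc KaehlerDifferential.D k K x
          = (a 0 0 * u 0 + a 0 1 * u 1 + a 0 2 * u 2) • (a 1 0 • du 0 + a 1 1 • du 1 + a 1 2 • du 2)
            - (a 1 0 * u 0 + a 1 1 * u 1 + a 1 2 * u 2) • (a 0 0 • du 0 + a 0 1 • du 1 + a 0 2 • du 2) := by
            rw [q0, h1, h0, one_smul, smul_zero, sub_zero]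
        _ = _ := by module
    have key : G 2 • KaehlerDifferential.D k K x = (algebraMap k K A.det * c 2) • W01 := by
      rw [hdx, smul_add, smul_add, smul_comm (G 2), smul_comm (G 2) (a 0 0 * a 1 2 - _), smul_comm (G 2) (a 0 1 * a 1 2 - _), r1, r2]
      rw [Matrix.det_fin_three]
      simp only [map_add, map_sub, map_mul, G, a, Fin.sum_univ_three]
      module
    have hG2 : G 2 ≠ 0 := fun h => hfy' (by rw [hG, h, mul_zero])
    have hD' : KaehlerDifferential.D k K (u 1 / u 0) = ((u 0)⁻¹ ^ 2) • W01 := by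
      rw [Derivation.leibniz_div, hW01]
    rw [hD', hG, smul_smul]
    have hfin : KaehlerDifferential.D k K x = ((G 2)⁻¹ * (algebraMap k K A.det * c 2)) • W01 := by
      rw [← smul_smul, ← key, smul_smul, inv_mul_cancel₀ hG2, one_smul]
    rw [hfin, smul_smul]
    congr 1
    show (c 2)⁻¹ * _ = _
    have hc2 : c 2 ≠ 0 := hfy
    have hz : (u 0)⁻¹ ^ ((e : ℤ) - 3) * (u 0)⁻¹ ^ 2 = (u 0)⁻¹ ^ (e - 1) := by
      rw [← zpow_natCast ((u 0)⁻¹) 2, ← zpow_add₀ (inv_ne_zero hu0), ← zpow_natCast ((u 0)⁻¹) (e - 1)]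
      congr 1
      omega
    rw [mul_inv, show algebraMap k K A.det * (u 0)⁻¹ ^ ((e : ℤ) - 3) * (((u 0)⁻¹ ^ (e - 1))⁻¹ * (G 2)⁻¹) * (u 0)⁻¹ ^ 2
      = algebraMap k K A.det * (G 2)⁻¹ * ((u 0)⁻¹ ^ ((e : ℤ) - 3) * (u 0)⁻¹ ^ 2 * ((u 0)⁻¹ ^ (e - 1))⁻¹) by ring, hz,
      mul_inv_cancel₀ (pow_ne_zero _ (inv_ne_zero hu0)), mul_one]
    field_simp

end Groth.Agent.S12612
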