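import Groth.Statements.S12630
import Mathlib
import Groth.Agent.Lib.H2PowerSeries

set_option autoImplicit false
universe u v
open CAlg

namespace Groth.Agent.S12630
open IsLocalRing Groth.Agent.H2PowerSeries
set_option backward.isDefEq.respectTransparency.types false

/-- Let `A` be a complete discrete valuation ring containing a field `K` that maps bijectively onto the
residue field (a coefficient field). Then for every generator `x` of the maximal ideal there is a
`K`-algebra isomorphism from the formal power series ring `K[[t]]` onto `A` sending `t` to `x`; it
extends the evaluation map `K[t] → A`, `t ↦ x`, and is the only `K`-algebra map `K[[t]] → A` with `t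
↦ x` since `A` is separated. (The first assertion, the mere existence of an isomorphism with a power
series ring, is the one-variable case of the structure of complete regular local rings with a
coefficient field and is not restated.) -/
theorem result (K : Type u) (A : Type v) [Field K]
    [CommRing A] [IsDomain A] [IsDiscreteValuationRing A] [IsAdicComplete (IsLocalRing.maximalIdeal A) A]
    [Algebra K A] (hK : Function.Bijective (algebraMap K (IsLocalRing.ResidueField A)))
    (x : A) (hx : IsLocalRing.maximalIdeal A = Ideal.span {x}) :
    ∃ e : PowerSeries K ≃ₐ[K] A, e PowerSeries.X = x := by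
  obtain ⟨φ, hφ, happ⟩ := exists_aeval (R := K) (σ := Unit) (IsLocalRing.maximalIdeal A) (fun _ => x)
    (fun _ => hx ▸ Ideal.mem_span_singleton_self x)
  have hsurj : Function.Surjective φ := surjective_of (IsLocalRing.maximalIdeal A) φ (by
      simp only [hφ, Set.range_const]; exact hx.symm) (fun y => by
    obtain ⟨r, hr⟩ := hK.2 (show IsLocalRing.ResidueField A from y)
    exact ⟨r, hr⟩)
  have hinj : Function.Injective φ := by
    rw [injective_iff_map_eq_zero]
    intro f hf
    by_contra hne
    obtain ⟨n, u, hu⟩ := IsDiscreteValuationRing.eq_unit_mul_pow_irreducible (show (f : PowerSeries K) ≠ 0 from hne)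
      PowerSeries.X_irreducible
    have hX : φ (PowerSeries.X : PowerSeries K) = x := hφ ()
    have h1 : φ ((u : PowerSeries K) * PowerSeries.X ^ n) = 0 := (congrArg φ hu.symm).trans hf
    have h2 : IsUnit (φ (u : PowerSeries K)) := u.isUnit.map φ
    have h3 : x ≠ 0 := by
      rintro rfl
      exact IsDiscreteValuationRing.not_a_field A (hx.trans (by simp))
    have h4 : φ (u : PowerSeries K) * φ ((PowerSeries.X : PowerSeries K)) ^ n = 0 := by
      rw [← map_pow, ← map_mul]; exact h1
    rw [hX] at h4
    exact pow_ne_zero n h3 ((h2.mul_right_eq_zero).1 h4)
  exact ⟨AlgEquiv.ofBijective φ ⟨hinj, hsurj⟩, hφ ()⟩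

end Groth.Agent.S12630
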