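import Groth.Statements.S12712
import Groth.Agent.Lib.H9Art
import Mathlib

set_option autoImplicit false
set_option backward.isDefEq.respectTransparency.types false
universe u v
open CategoryTheory
open ArtFun ArtFun.Art

namespace Groth.Agent.S12712

/-- If k is separable over the image of Λ → k, then for any two morphisms f₁ : A₁ → A and f₂ : A₂ → A in
the category of Artinian local Λ-algebras with residue field k the set-theoretic fibre product A₁
×_A A₂ is again an object of the category. -/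
theorem result {Λ : Type u} {k : Type u} [CommRing Λ] [Field k] [Algebra Λ k]
    [IsNoetherianRing Λ] [Module.Finite Λ k]
    [Algebra.IsSeparable (↥(algebraMap Λ k).range) k]
    {A A₁ A₂ : ArtFun.Art Λ k} (f₁ : A₁ ⟶ A) (f₂ : A₂ ⟶ A) :
    ∃ (B : ArtFun.Art Λ k) (p₁ : B ⟶ A₁) (p₂ : B ⟶ A₂), ArtFun.Art.IsFibreProd p₁ p₂ f₁ f₂ := by
  refine Groth.Agent.H9Art.exists_fibreProd_of_res f₁ f₂ fun c => ?_
  classical
  let K₀ := (algebraMap Λ k).range
  have hint : IsIntegral K₀ c := Algebra.IsSeparable.isIntegral K₀ c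
  have hsep : (minpoly K₀ c).Separable := Algebra.IsSeparable.isSeparable K₀ c
  obtain ⟨P, hP⟩ : ∃ P : Polynomial Λ, P.map (algebraMap Λ k).rangeRestrict = minpoly K₀ c :=
    Polynomial.map_surjective _ (RingHom.rangeRestrict_surjective _) _
  have hev : ∀ q : Polynomial Λ, Polynomial.aeval c (q.map (algebraMap Λ k).rangeRestrict) = Polynomial.aeval c q := fun q => by
    rw [Polynomial.aeval_def, Polynomial.aeval_def, Polynomial.eval₂_map]
    rfl
  have hnil : ∀ (X : Art Λ k) (y : X), X.res y = 0 → IsNilpotent y := fun X y hy => by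
    obtain ⟨n, hn⟩ := Groth.Agent.H9Art.exists_pow_maximalIdeal_eq_bot X
    exact ⟨n, Ideal.mem_bot.1 (hn.le (Ideal.pow_mem_pow ((Art.mem_maximalIdeal_iff X y).2 hy) n))⟩
  have h0 : Polynomial.aeval c P = 0 := by
    have := minpoly.aeval K₀ c
    rw [← hP, hev] at this
    exact this
  have h1 : Polynomial.aeval c (Polynomial.derivative P) ≠ 0 := by
    have := hsep.aeval_derivative_ne_zero (minpoly.aeval K₀ c)
    rw [← hP, Polynomial.derivative_map, hev] at this
    exact this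
  have root : ∀ X : Art Λ k, ∀ x : X, X.res x = c → ∃! r, IsNilpotent (x - r) ∧ Polynomial.aeval r P = 0 := by
    intro X x hx
    refine Polynomial.existsUnique_nilpotent_sub_and_aeval_eq_zero ?_ ?_
    · exact hnil X _ (by rw [← Polynomial.aeval_algHom_apply, hx, h0])
    · refine of_not_not fun hu => h1 ?_
      have := (Art.mem_maximalIdeal_iff X _).1 ((IsLocalRing.mem_maximalIdeal _).2 hu)
      rwa [← Polynomial.aeval_algHom_apply, hx] at this
  obtain ⟨x₁, hx₁⟩ := A₁.res_surjective c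
  obtain ⟨x₂, hx₂⟩ := A₂.res_surjective c
  obtain ⟨r₁, ⟨hn₁, hr₁⟩, -⟩ := root A₁ x₁ hx₁
  obtain ⟨r₂, ⟨hn₂, hr₂⟩, -⟩ := root A₂ x₂ hx₂
  have res_eq : ∀ (X : Art Λ k) (x r : X), IsNilpotent (x - r) → X.res x = X.res r := by
    intro X x r h
    have := (h.map X.res).eq_zero
    rwa [map_sub, sub_eq_zero] at this
  have e₁ : A.res (f₁ r₁) = c := (Art.res_app f₁ r₁).trans ((res_eq A₁ x₁ r₁ hn₁).symm.trans hx₁)
  have e₂ : A.res (f₂ r₂) = c := (Art.res_app f₂ r₂).trans ((res_eq A₂ x₂ r₂ hn₂).symm.trans hx₂)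
  have heq : f₁ r₁ = f₂ r₂ := by
    obtain ⟨r, -, hu⟩ := root A (f₁ r₁) e₁
    have ha : ∀ {X : Art Λ k} (f : X ⟶ A) (y : X), Polynomial.aeval y P = 0 → Polynomial.aeval (f y) P = 0 := fun f y hy => by
      show Polynomial.aeval (f.toAlgHom y) P = 0
      rw [Polynomial.aeval_algHom_apply, hy, map_zero]
    have u₁ := hu (f₁ r₁) ⟨by rw [sub_self]; exact IsNilpotent.zero, ha f₁ r₁ hr₁⟩
    have u₂ := hu (f₂ r₂) ⟨hnil A _ (by rw [map_sub, e₁, e₂, sub_self]), ha f₂ r₂ hr₂⟩
    rw [u₁, u₂]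
  exact ⟨⟨(r₁, r₂), heq⟩, (res_eq A₁ x₁ r₁ hn₁).symm.trans hx₁⟩

end Groth.Agent.S12712
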