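import Groth.Statements.S12713
import Groth.Agent.Lib.H9Art

set_option autoImplicit false
set_option backward.isDefEq.respectTransparency.types false
universe u v
open CategoryTheory
open ArtFun ArtFun.Art

namespace Groth.Agent.S12713

/-- A small extension f : B → A in the category of Artinian local Λ-algebras with residue field k is not
an essential surjection (some morphism g : C → B is non-surjective although the composite C → A is
surjective) if and only if f has a section A → B in the category. -/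
theorem result {Λ : Type u} {k : Type u} [CommRing Λ] [Field k] [Algebra Λ k]
    [IsNoetherianRing Λ] [Module.Finite Λ k]
    {A B : ArtFun.Art Λ k} (f : B ⟶ A) (hf : ArtFun.Art.IsSmallExt f) :
    (∃ (C : ArtFun.Art Λ k) (g : C ⟶ B), Function.Surjective (g ≫ f) ∧ ¬ Function.Surjective g) ↔
      ∃ s : A ⟶ B, s ≫ f = 𝟙 A := by
  constructor
  · rintro ⟨C, g, hs, hns⟩
    obtain ⟨t, ht0, htf, htm, htgen⟩ := H9Art.exists_smallExt_generator hf
    have hinj : Function.Injective (f.toAlgHom.comp g.toAlgHom.range.val) := by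
      rw [injective_iff_map_eq_zero]
      intro x hx
      by_contra hx0
      obtain ⟨a, ha⟩ := htgen x.1 hx
      have hau : IsUnit a := by
        by_contra hau
        exact hx0 (Subtype.ext (ha.trans (htm a ((IsLocalRing.mem_maximalIdeal _).2 hau))))
      obtain ⟨v, hv⟩ := hau
      obtain ⟨c, hc⟩ := x.2
      have hu : ∀ b : B, ∃ d : C, g.toAlgHom d * t = b * t := by
        intro b
        obtain ⟨d, hd⟩ := C.res_surjective (B.res b)
        refine ⟨d, sub_eq_zero.1 ?_⟩
        rw [← sub_mul]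
        exact htm _ ((ArtFun.Art.mem_maximalIdeal_iff B _).2 (by rw [map_sub, ArtFun.Art.res_app g d, hd, sub_self]))
      have htimg : ∃ e : C, g.toAlgHom e = t := by
        obtain ⟨d, hd⟩ := hu (↑v⁻¹ : B)
        refine ⟨d * c, ?_⟩
        have hxc : g.toAlgHom c = (v : B) * t := hc.trans (ha.trans (by rw [hv]))
        rw [map_mul, hxc, mul_left_comm, hd, ← mul_assoc, Units.mul_inv, one_mul]
      refine hns fun b => ?_
      obtain ⟨e, he⟩ := htimg
      obtain ⟨c₁, hc₁⟩ := hs (f b)
      obtain ⟨a', ha'⟩ := htgen (b - g.toAlgHom c₁) (by rw [map_sub]; exact sub_eq_zero.2 hc₁.symm)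
      obtain ⟨d, hd⟩ := hu a'
      refine ⟨c₁ + d * e, ?_⟩
      change g.toAlgHom (c₁ + d * e) = b
      rw [map_add, map_mul, he, hd, ← ha', add_sub_cancel]
    have hsurj : Function.Surjective (f.toAlgHom.comp g.toAlgHom.range.val) := fun a => by
      obtain ⟨c, hc⟩ := hs a
      exact ⟨⟨g.toAlgHom c, c, rfl⟩, hc⟩
    refine ⟨⟨g.toAlgHom.range.val.comp (AlgEquiv.ofBijective _ ⟨hinj, hsurj⟩).symm.toAlgHom, ?_⟩, ?_⟩
    · apply AlgHom.ext
      intro a
      obtain ⟨y, rfl⟩ := (AlgEquiv.ofBijective _ ⟨hinj, hsurj⟩).surjective a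
      change B.res (g.toAlgHom.range.val ((AlgEquiv.ofBijective _ ⟨hinj, hsurj⟩).symm ((AlgEquiv.ofBijective _ ⟨hinj, hsurj⟩) y))) = _
      rw [AlgEquiv.symm_apply_apply]
      exact (ArtFun.Art.res_app f y.1).symm
    · apply ArtFun.Art.hom_ext
      apply AlgHom.ext
      intro a
      exact (AlgEquiv.ofBijective _ ⟨hinj, hsurj⟩).apply_symm_apply a
  · rintro ⟨s, hs⟩
    have hsf : ∀ a, f (s a) = a := fun a => congrArg (fun t : A ⟶ A => t a) hs
    refine ⟨A, s, fun a => ⟨a, hsf a⟩, fun hsurj => hf.2.1 ?_⟩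
    rw [eq_bot_iff]
    intro b hb
    obtain ⟨a, rfl⟩ := hsurj b
    have ha : a = 0 := (hsf a).symm.trans (RingHom.mem_ker.1 hb)
    rw [Ideal.mem_bot, ha]
    exact map_zero s.toAlgHom

end Groth.Agent.S12713
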