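import Groth.Statements.S12714
import Groth.Agent.Lib.H9ArtFormal

set_option autoImplicit false
set_option backward.isDefEq.respectTransparency.types false
universe u v
open CategoryTheory
open ArtFun ArtFun.CRing

namespace Groth.Agent.S12714

/-- For a morphism f : R → S of complete local Noetherian Λ-algebras with residue field k (compatible
with the augmentations to k), the following are equivalent: (1) f is surjective; (2) m_R/m_R² →
m_S/m_S² is surjective, written as f(m_R)S + m_S² = m_S; (3) the map of cotangent spaces relative to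
Λ is surjective, written as m_Λ S + f(m_R)S + m_S² = m_S with m_Λ the kernel of Λ → k. -/
theorem result {Λ : Type u} {k : Type u} [CommRing Λ] [Field k] [Algebra Λ k]
    [IsNoetherianRing Λ] [Module.Finite Λ k]
    (R S : ArtFun.CRing Λ k) (f : R.carrier →ₐ[Λ] S.carrier) (hf : S.res.comp f = R.res) :
    List.TFAE [Function.Surjective f,
      Ideal.map f (IsLocalRing.maximalIdeal R.carrier) ⊔ IsLocalRing.maximalIdeal S.carrier ^ 2 =
        IsLocalRing.maximalIdeal S.carrier,
      Ideal.map (algebraMap Λ S.carrier) (RingHom.ker (algebraMap Λ k)) ⊔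
        Ideal.map f (IsLocalRing.maximalIdeal R.carrier) ⊔ IsLocalRing.maximalIdeal S.carrier ^ 2 =
        IsLocalRing.maximalIdeal S.carrier] := by
  have hfa : ∀ a, S.res (f a) = R.res a := fun a => congrArg (fun t : R.carrier →ₐ[Λ] k => t a) hf
  tfae_have 1 → 2 := fun hs => by
    refine le_antisymm (sup_le (Ideal.map_le_iff_le_comap.2 fun a ha => ?_) (Ideal.pow_le_self two_ne_zero))
      fun b hb => ?_
    · exact (ArtFun.CRing.mem_maximalIdeal_iff S _).2 ((hfa a).trans ((ArtFun.CRing.mem_maximalIdeal_iff R a).1 ha))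
    · obtain ⟨a, rfl⟩ := hs b
      exact Submodule.mem_sup_left (Ideal.mem_map_of_mem _ ((ArtFun.CRing.mem_maximalIdeal_iff R a).2
        ((hfa a).symm.trans ((ArtFun.CRing.mem_maximalIdeal_iff S _).1 hb))))
  have hsub : Ideal.map (algebraMap Λ S.carrier) (RingHom.ker (algebraMap Λ k)) ≤
      Ideal.map f (IsLocalRing.maximalIdeal R.carrier) := Ideal.map_le_iff_le_comap.2 fun l hl => by
    rw [Ideal.mem_comap, ← f.commutes]
    exact Ideal.mem_map_of_mem _ ((ArtFun.CRing.mem_maximalIdeal_iff R _).2
      ((R.res.commutes l).trans (RingHom.mem_ker.1 hl)))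
  tfae_have 2 → 3 := fun h => by rw [sup_eq_right.2 hsub, h]
  tfae_have 3 → 1 := fun h => by
    rw [sup_eq_right.2 hsub] at h
    exact H9Art.surjective_of_cotangent_cring R S f hf h
  tfae_finish

end Groth.Agent.S12714
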