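import Groth.Statements.S12715
import Groth.Agent.Lib.H9ArtLift
import Mathlib.RingTheory.Noetherian.Basic

set_option autoImplicit false
set_option backward.isDefEq.respectTransparency.types false
universe u v
open CategoryTheory
open ArtFun

namespace Groth.Agent.S12715

/-- For Λ Noetherian with a finite map to the field k and S a complete local Noetherian Λ-algebra with
residue field k (through a surjective map S → k over Λ), the space of Λ-derivations S → k is
finite-dimensional over k. -/
theorem result {Λ : Type u} {k : Type u} [CommRing Λ] [Field k] [Algebra Λ k]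
    [IsNoetherianRing Λ] [Module.Finite Λ k]
    (S : Type u) [CommRing S] [Algebra Λ S] [IsLocalRing S] [IsNoetherianRing S]
    [IsAdicComplete (IsLocalRing.maximalIdeal S) S] [Algebra S k] [IsScalarTower Λ S k]
    (hres : Function.Surjective (algebraMap S k)) :
    Module.Finite k (Derivation Λ S k) := by
  obtain ⟨s, hs, hdet⟩ := H9Art.exists_finite_detecting (k := k) S (IsScalarTower.toAlgHom Λ S k) hres
  have := hs.to_subtype
  let L : Derivation Λ S k →ₗ[k] (s → k) := { toFun := fun D x => D x.1, map_add' := fun _ _ => rfl, map_smul' := fun _ _ => rfl }
  refine Module.Finite.of_injective L fun D₁ D₂ h => Derivation.ext fun a => sub_eq_zero.1 ?_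
  refine hdet (fun a => D₁ a - D₂ a) (fun a b => by simp only [map_add]; ring)
    (fun l a => by simp only [Derivation.map_smul, smul_sub]) (fun a b => ?_) (fun a ha => ?_) a
  · simp only [Derivation.leibniz, Algebra.smul_def, IsScalarTower.coe_toAlgHom']
    ring
  · exact sub_eq_zero.2 (congrFun h ⟨a, ha⟩)

end Groth.Agent.S12715
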