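import Groth.Statements.S12716
import Groth.Agent.Lib.H9ArtLift

set_option autoImplicit false
set_option backward.isDefEq.respectTransparency.types false
universe u v
open CategoryTheory
open ArtFun

namespace Groth.Agent.S12716

/-- Let f : R → S be a morphism of complete local Noetherian Λ-algebras with residue field k (Λ
Noetherian, Λ → k finite). If the restriction map Der_Λ(S, k) → Der_Λ(R, k) is injective — two
Λ-derivations S → k that agree after composing with f are equal — then f is surjective. -/
theorem result {Λ : Type u} {k : Type u} [CommRing Λ] [Field k] [Algebra Λ k]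
    [IsNoetherianRing Λ] [Module.Finite Λ k]
    (R : ArtFun.CRing Λ k)
    (S : Type u) [CommRing S] [Algebra Λ S] [IsLocalRing S] [IsNoetherianRing S]
    [IsAdicComplete (IsLocalRing.maximalIdeal S) S] [Algebra S k] [IsScalarTower Λ S k]
    (hres : Function.Surjective (algebraMap S k))
    (f : R.carrier →ₐ[Λ] S) (hf : (IsScalarTower.toAlgHom Λ S k).comp f = R.res)
    (hinj : ∀ D₁ D₂ : Derivation Λ S k, (∀ r : R.carrier, D₁ (f r) = D₂ (f r)) → D₁ = D₂) :
    Function.Surjective f := by
  let S' : ArtFun.CRing Λ k := { carrier := S, res := IsScalarTower.toAlgHom Λ S k, res_surjective := hres, isAdicComplete := ‹_› }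
  refine H9Art.surjective_of_cotangent_cring R S' f hf (H9Art.cotangent_of_injective_dual R S' f hf fun φ hφ a => ?_)
  obtain ⟨hadd, hsm, hmul, -⟩ := H9Art.snd_hom_rules φ
  let L : S →ₗ[Λ] k := { toFun := fun x => (φ.1 x).snd, map_add' := hadd, map_smul' := hsm }
  let D : Derivation Λ S k := Derivation.mk' L (fun x y => by
    rw [Algebra.smul_def, Algebra.smul_def]
    exact hmul x y)
  have := hinj D 0 (fun r => hφ r)
  exact DFunLike.congr_fun this a

end Groth.Agent.S12716
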