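import Groth.Statements.S12720
import Groth.Agent.Lib.H9ArtFormal

set_option autoImplicit false
set_option backward.isDefEq.respectTransparency.types false
universe u v
open CategoryTheory
open ArtFun

namespace Groth.Agent.S12720

/-- For functors, let F be a functor on Artinian local Λ-algebras with residue field k with F(k) a
point, and ξ a versal family of F over a complete local Noetherian R with residue field k. Then
every formal element η of F over a complete local Noetherian S with residue field k is induced from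
ξ: there is a morphism g : R → S (over Λ, compatible with the augmentations) such that the family
obtained from ξ by composing with g has formal element η. -/
theorem result {Λ : Type u} {k : Type u} [CommRing Λ] [Field k] [Algebra Λ k]
    [IsNoetherianRing Λ] [Module.Finite Λ k]
    {F : ArtFun.Art Λ k ⥤ Type v} (h0 : ArtFun.H0 F)
    (R : ArtFun.CRing Λ k) (ξ : ArtFun.Family R.carrier R.res F) (hξ : ArtFun.IsVersal ξ)
    (S : ArtFun.CRing Λ k) (η : ArtFun.FormalElt F S) :
    ∃ (g : R.carrier →ₐ[Λ] S.carrier) (hg : S.res.comp g = R.res), (ξ.along g hg).toFormalElt = η := by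
  have step : ∀ n (φ : ArtFun.HomSet R.carrier R.res (S.trunc n)), ξ.app _ φ = η.elt n →
      ∃ ψ : ArtFun.HomSet R.carrier R.res (S.trunc (n + 1)),
        ArtFun.HomSet.map (S.truncMap n) ψ = φ ∧ ξ.app _ ψ = η.elt (n + 1) := fun n φ hφ =>
    hξ _ (H9Art.truncMap_surjective S n) φ (η.elt (n + 1)) (by rw [hφ, η.compat])
  choose next hn₁ hn₂ using step
  obtain ⟨φ₀, hφ₀⟩ := H9Art.versal_surjective ξ hξ h0 (S.trunc 0) (η.elt 0)
  let u : ∀ n, {φ : ArtFun.HomSet R.carrier R.res (S.trunc n) // ξ.app _ φ = η.elt n} :=
    fun n => Nat.rec ⟨φ₀, hφ₀⟩ (fun n a => ⟨next n a.1 a.2, hn₂ n a.1 a.2⟩) n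
  obtain ⟨g, hg, hgn⟩ := H9Art.exists_lim S (fun n => (u n).1) (fun n => hn₁ n (u n).1 (u n).2)
  refine ⟨g, hg, ArtFun.FormalElt.ext' fun n => ?_⟩
  exact (congrArg (ξ.app _) (Subtype.ext (hgn n))).trans (u n).2

end Groth.Agent.S12720
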