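import Groth.Statements.S12722
import Groth.Agent.Lib.H9ArtVersalPS

set_option autoImplicit false
set_option backward.isDefEq.respectTransparency.types false
universe u v
open CategoryTheory
open ArtFun

namespace Groth.Agent.S12722

/-- (1) ⇔ (5): let Λ be a complete local Noetherian ring with residue field k. For a complete local
Noetherian Λ-algebra R with residue field k, the functor h_R on Artinian local Λ-algebras with
residue field k is smooth if and only if R is isomorphic over Λ to a power series ring Λ[[x₁, …,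
xₙ]] for some n. -/
theorem result {Λ : Type u} {k : Type u} [CommRing Λ] [Field k] [Algebra Λ k]
    [IsNoetherianRing Λ] [Module.Finite Λ k]
    [IsLocalRing Λ] [IsAdicComplete (IsLocalRing.maximalIdeal Λ) Λ]
    (hk : Function.Surjective (algebraMap Λ k)) (R : ArtFun.CRing Λ k) :
    ArtFun.IsSmoothFunctor (ArtFun.hR R.carrier R.res) ↔
      ∃ n : ℕ, Nonempty (R.carrier ≃ₐ[Λ] MvPowerSeries (Fin n) Λ) := by
  let L : ArtFun.CRing Λ k :=
    { carrier := Λ, res := Algebra.ofId Λ k, res_surjective := hk, isAdicComplete := ‹_› }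
  let ι : L.carrier →ₐ[Λ] R.carrier := Algebra.ofId Λ R.carrier
  have hι : R.res.comp ι = L.res := AlgHom.ext fun r => R.res.commutes r
  have hpt : ∀ (A : ArtFun.Art Λ k) (f g : ArtFun.HomSet L.carrier L.res A), f = g := fun A f g =>
    Subtype.ext (AlgHom.ext fun r => (f.1.commutes r).trans (g.1.commutes r).symm)
  constructor
  · intro hR
    have hv : ArtFun.IsVersal ((ArtFun.Family.self L.carrier L.res).along ι hι) := fun B A μ hμ φ y _ => by
      obtain ⟨ψ, hψ⟩ := hR μ hμ φ
      exact ⟨ψ, hψ, hpt _ _ _⟩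
    obtain ⟨n, g, -, -, hgb⟩ := H9Art.exists_powerSeries_of_versal ι hι hv
    exact ⟨n, ⟨(AlgEquiv.ofBijective g hgb).symm⟩⟩
  · rintro ⟨n, ⟨e⟩⟩
    intro B A μ hμ φ
    have hv := H9Art.isVersal_of_powerSeries (R := L) ι hι n e fun r => e.commutes r
    let y : ArtFun.HomSet L.carrier L.res B := ⟨Algebra.ofId Λ B, AlgHom.ext fun r => B.res.commutes r⟩
    obtain ⟨ψ, hψ, -⟩ := hv μ hμ φ y (hpt A _ _)
    exact ⟨ψ, hψ⟩

end Groth.Agent.S12722
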