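import Groth.Statements.S12728
import Groth.Agent.Lib.H9ArtLift

set_option autoImplicit false
set_option backward.isDefEq.respectTransparency.types false
universe u v
open CategoryTheory
open ArtFun

namespace Groth.Agent.S12728

/-- For functors, let F be a functor on Artinian local Λ-algebras with residue field k with F(k) a
point, satisfying (S1) and (S2), and ξ a family of F over a complete local Noetherian R with residue
field k. Then ξ is versal if and only if (1) the map h_R(k[ε]) → F(k[ε]) on tangent spaces is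
surjective, and (2) whenever μ : B → A is a small extension, φ : R → A, and y ∈ F(B) lies over ξ(φ),
the map φ lifts to some R → B. -/
theorem result {Λ : Type u} {k : Type u} [CommRing Λ] [Field k] [Algebra Λ k]
    [IsNoetherianRing Λ] [Module.Finite Λ k]
    {F : ArtFun.Art Λ k ⥤ Type v} (h0 : ArtFun.H0 F) (h1 : ArtFun.S1 F) (h2 : ArtFun.Heps F)
    (R : ArtFun.CRing Λ k) (ξ : ArtFun.Family R.carrier R.res F) :
    ArtFun.IsVersal ξ ↔
      (Function.Surjective (ArtFun.TangentSpace.ofFamily ξ) ∧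
        ∀ ⦃B A : ArtFun.Art Λ k⦄ (μ : B ⟶ A), ArtFun.Art.IsSmallExt μ →
          ∀ (φ : ArtFun.HomSet R.carrier R.res A) (y : F.obj B), F.map μ y = ξ.app A φ →
            ∃ ψ : ArtFun.HomSet R.carrier R.res B, ArtFun.HomSet.map μ ψ = φ) := by
  constructor
  · intro hξ
    refine ⟨H9Art.versal_surjective ξ hξ h0 _, fun B A μ hμ φ y hy => ?_⟩
    obtain ⟨ψ, hψ, -⟩ := hξ μ hμ.1 φ y hy
    exact ⟨ψ, hψ⟩
  · rintro ⟨ht, hl⟩
    intro B A μ hμ
    refine H9Art.surjective_induction (P := fun A B μ => ∀ (φ : ArtFun.HomSet R.carrier R.res A) (y : F.obj B),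
      F.map μ y = ξ.app A φ → ∃ ψ, ArtFun.HomSet.map μ ψ = φ ∧ ξ.app B ψ = y) ?_ ?_ ?_ μ hμ
    · intro A B e he φ y hy
      refine ⟨ArtFun.HomSet.map (CategoryTheory.inv e) φ, ?_, ?_⟩
      · rw [← H9Art.homSet_map_comp, CategoryTheory.IsIso.inv_hom_id, H9Art.homSet_map_id]
      · rw [ξ.natural, ← hy, ← CategoryTheory.FunctorToTypes.map_comp_apply, CategoryTheory.IsIso.hom_inv_id,
          CategoryTheory.FunctorToTypes.map_id_apply]
    · intro A B p hp φ y hy
      obtain ⟨ψ₀, hψ₀⟩ := hl p hp φ y hy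
      obtain ⟨z, hz₁, hz₂⟩ := H9Art.lift_of_tangent (F := ArtFun.hR R.carrier R.res) (G := F)
        (fun A => ξ.app A) (fun g x => ξ.natural g x) (H9Art.h0_hR _ _) (H9Art.heps_hR _ _) h2
        (H9Art.hbar_of_s1 h1) ht p hp ψ₀ y (by rw [← ξ.natural, hψ₀, hy])
      exact ⟨z, hz₁.trans hψ₀, hz₂⟩
    · intro A B C p q _ _ hp hq φ y hy
      rw [CategoryTheory.FunctorToTypes.map_comp_apply] at hy
      obtain ⟨ψ, hψ₁, hψ₂⟩ := hq φ _ hy
      obtain ⟨χ, hχ₁, hχ₂⟩ := hp ψ y hψ₂.symm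
      exact ⟨χ, by rw [H9Art.homSet_map_comp, hχ₁, hψ₁], hχ₂⟩

end Groth.Agent.S12728
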