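import Groth.Statements.S12729
import Groth.Agent.Lib.H9Art

set_option autoImplicit false
set_option backward.isDefEq.respectTransparency.types false
universe u v
open CategoryTheory
open ArtFun

namespace Groth.Agent.S12729

/-- For functors, let F satisfy (S1), let p : B → A be a surjection in the category of Artinian local
Λ-algebras with residue field k whose kernel I is annihilated by m_B, and let x ∈ F(A). Then the set
of ideals J ⊆ I for which x lifts to F(B/J) along B/J → A has a least element. -/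
theorem result {Λ : Type u} {k : Type u} [CommRing Λ] [Field k] [Algebra Λ k]
    [IsNoetherianRing Λ] [Module.Finite Λ k]
    {F : ArtFun.Art Λ k ⥤ Type v} (h1 : ArtFun.S1 F)
    {B A : ArtFun.Art Λ k} (p : B ⟶ A) (hp : ArtFun.Art.IsSemismallExt p) (x : F.obj A) :
    ∃ (J₀ : Ideal B) (hJ₀ : J₀ ≤ RingHom.ker p.toAlgHom) (hJ₀' : J₀ ≤ IsLocalRing.maximalIdeal B),
      (∃ y : F.obj (ArtFun.Art.quot B J₀ hJ₀'), F.map (ArtFun.Art.quotFactor hJ₀' p hJ₀) y = x) ∧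
      ∀ (J : Ideal B) (hJ : J ≤ RingHom.ker p.toAlgHom) (hJ' : J ≤ IsLocalRing.maximalIdeal B),
        (∃ y : F.obj (ArtFun.Art.quot B J hJ'), F.map (ArtFun.Art.quotFactor hJ' p hJ) y = x) → J₀ ≤ J := by
  let S : Set (Ideal B) := {J | ∃ (hJ : J ≤ RingHom.ker p.toAlgHom) (hJ' : J ≤ IsLocalRing.maximalIdeal B),
    ∃ y : F.obj (ArtFun.Art.quot B J hJ'), F.map (ArtFun.Art.quotFactor hJ' p hJ) y = x}
  have hker : RingHom.ker p.toAlgHom ∈ S := by
    refine ⟨le_rfl, H9Art.ker_le_maximalIdeal p, ?_⟩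
    have hb : Function.Bijective (ArtFun.Art.quotFactor (H9Art.ker_le_maximalIdeal p) p le_rfl) := by
      refine ⟨fun u v huv => ?_, fun a => ?_⟩
      · obtain ⟨b, rfl⟩ := Ideal.Quotient.mk_surjective u
        obtain ⟨c, rfl⟩ := Ideal.Quotient.mk_surjective v
        exact Ideal.Quotient.eq.2 (RingHom.mem_ker.2 (by rw [map_sub]; exact sub_eq_zero.2 huv))
      · obtain ⟨b, rfl⟩ := hp.1 a
        exact ⟨Ideal.Quotient.mk _ b, rfl⟩
    haveI := H9Art.isIso_of_bij _ hb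
    exact (H9Art.map_bij_of_isIso F _).2 x
  obtain ⟨J₀, hJ₀, hmin⟩ := wellFounded_lt.has_min S ⟨_, hker⟩
  obtain ⟨h₀, h₀', hy₀⟩ := hJ₀
  refine ⟨J₀, h₀, h₀', hy₀, fun J hJ hJ' hy => ?_⟩
  obtain ⟨y₀, hy₀⟩ := hy₀
  obtain ⟨y, hy⟩ := hy
  have hkm : ∀ c ∈ IsLocalRing.maximalIdeal B, ∀ b ∈ RingHom.ker p.toAlgHom, c * b = 0 := fun c hc b hb => by
    have := Ideal.mul_mem_mul hc hb
    rw [hp.2] at this
    exact this
  let T : Set (Ideal B) := {K | J₀ ≤ K ∧ K ≤ RingHom.ker p.toAlgHom ∧ K ⊓ J ≤ J₀}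
  obtain ⟨K, ⟨hK₀, hKker, hKJ⟩, hKmax⟩ := wellFounded_gt.has_min T ⟨J₀, le_rfl, h₀, inf_le_left⟩
  have hcomp : RingHom.ker p.toAlgHom ≤ K ⊔ J := by
    intro a ha
    by_contra haKJ
    have hlt : K < K ⊔ Ideal.span {a} := lt_of_le_of_ne le_sup_left fun e =>
      haKJ (Submodule.mem_sup_left (e ▸ (Submodule.mem_sup_right (Ideal.mem_span_singleton_self a))))
    refine hKmax _ ⟨hK₀.trans le_sup_left, sup_le hKker ((Ideal.span_singleton_le_iff_mem _).2 ha), ?_⟩ hlt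
    rintro z ⟨hz₁, hz₂⟩
    obtain ⟨j, hj, w, hw, rfl⟩ := Submodule.mem_sup.1 hz₁
    obtain ⟨c, rfl⟩ := Ideal.mem_span_singleton'.1 hw
    by_cases hc : IsUnit c
    · exfalso
      obtain ⟨u, rfl⟩ := hc
      refine haKJ ?_
      have hmem : (↑u⁻¹ : B) * (j + ↑u * a) - ↑u⁻¹ * j ∈ K ⊔ J :=
        sub_mem (Submodule.mem_sup_right (Ideal.mul_mem_left _ _ hz₂)) (Submodule.mem_sup_left (Ideal.mul_mem_left _ _ hj))
      rwa [mul_add, add_sub_cancel_left, ← mul_assoc, Units.inv_mul, one_mul] at hmem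
    · rw [hkm c ((IsLocalRing.mem_maximalIdeal c).2 hc) a ha, add_zero] at hz₂ ⊢
      exact hKJ ⟨hj, hz₂⟩
  have hKm : K ≤ IsLocalRing.maximalIdeal B := hKker.trans (H9Art.ker_le_maximalIdeal p)
  have hIm : J₀ ⊓ J ≤ IsLocalRing.maximalIdeal B := inf_le_left.trans h₀'
  let aK : ArtFun.Art.quot B (J₀ ⊓ J) hIm ⟶ ArtFun.Art.quot B K hKm :=
    ArtFun.Art.quotFactor hIm (ArtFun.Art.quotMk B K hKm) (fun b hb =>
      RingHom.mem_ker.2 (Ideal.Quotient.eq_zero_iff_mem.2 (hK₀ hb.1)))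
  let aJ : ArtFun.Art.quot B (J₀ ⊓ J) hIm ⟶ ArtFun.Art.quot B J hJ' :=
    ArtFun.Art.quotFactor hIm (ArtFun.Art.quotMk B J hJ') (fun b hb =>
      RingHom.mem_ker.2 (Ideal.Quotient.eq_zero_iff_mem.2 hb.2))
  let qK := ArtFun.Art.quotFactor hKm p hKker
  let qJ := ArtFun.Art.quotFactor hJ' p hJ
  have hfp : ArtFun.Art.IsFibreProd aK aJ qK qJ := by
    refine ⟨ArtFun.Art.hom_ext (AlgHom.ext fun u => ?_), fun u v e₁ e₂ => ?_, fun u v e => ?_⟩
    · obtain ⟨b, rfl⟩ := Ideal.Quotient.mk_surjective u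
      rfl
    · obtain ⟨b, rfl⟩ := Ideal.Quotient.mk_surjective u
      obtain ⟨c, rfl⟩ := Ideal.Quotient.mk_surjective v
      have h1 : b - c ∈ K := Ideal.Quotient.eq.1 e₁
      have h2 : b - c ∈ J := Ideal.Quotient.eq.1 e₂
      exact Ideal.Quotient.eq.2 ⟨hKJ ⟨h1, h2⟩, h2⟩
    · obtain ⟨b, rfl⟩ := Ideal.Quotient.mk_surjective u
      obtain ⟨c, rfl⟩ := Ideal.Quotient.mk_surjective v
      have h1 : b - c ∈ RingHom.ker p.toAlgHom := RingHom.mem_ker.2 (by rw [map_sub]; exact sub_eq_zero.2 e)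
      obtain ⟨i, hi, j, hj, hij⟩ := Submodule.mem_sup.1 (hcomp h1)
      refine ⟨Ideal.Quotient.mk _ (b - i), Ideal.Quotient.eq.2 ?_, Ideal.Quotient.eq.2 ?_⟩
      · rw [sub_sub_cancel_left]; exact neg_mem hi
      · rw [show b - i - c = j by linear_combination -hij]; exact hj
  have hqJ : Function.Surjective qJ := fun a => by
    obtain ⟨b, rfl⟩ := hp.1 a
    exact ⟨Ideal.Quotient.mk _ b, rfl⟩
  let m₀ : ArtFun.Art.quot B J₀ h₀' ⟶ ArtFun.Art.quot B K hKm :=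
    ArtFun.Art.quotFactor h₀' (ArtFun.Art.quotMk B K hKm) (fun b hb =>
      RingHom.mem_ker.2 (Ideal.Quotient.eq_zero_iff_mem.2 (hK₀ hb)))
  have hm₀ : m₀ ≫ qK = ArtFun.Art.quotFactor h₀' p h₀ := ArtFun.Art.hom_ext (AlgHom.ext fun u => by
    obtain ⟨b, rfl⟩ := Ideal.Quotient.mk_surjective u
    rfl)
  obtain ⟨z, hz₁, hz₂⟩ := (H9Art.cmp_surjective_iff hfp).1 (h1 aK aJ qK qJ hfp hqJ) (F.map m₀ y₀) y
    (by rw [← CategoryTheory.FunctorToTypes.map_comp_apply, hm₀, hy₀, hy])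
  have hIS : J₀ ⊓ J ∈ S := by
    refine ⟨inf_le_left.trans h₀, hIm, z, ?_⟩
    have hcompq : aJ ≫ qJ = ArtFun.Art.quotFactor hIm p (inf_le_left.trans h₀) :=
      ArtFun.Art.hom_ext (AlgHom.ext fun u => by
        obtain ⟨b, rfl⟩ := Ideal.Quotient.mk_surjective u
        rfl)
    rw [← hcompq, CategoryTheory.FunctorToTypes.map_comp_apply, hz₂, hy]
  by_contra hne
  exact hmin _ hIS (lt_of_le_of_ne inf_le_left fun e => hne (inf_eq_left.1 e))

end Groth.Agent.S12729
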