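import Groth.Statements.S12731
import Groth.Agent.Lib.H9ArtLift
import Mathlib.RingTheory.Noetherian.Basic

set_option autoImplicit false
set_option backward.isDefEq.respectTransparency.types false
universe u v
open CategoryTheory
open ArtFun

namespace Groth.Agent.S12731

/-- For functors, if a functor F on Artinian local Λ-algebras with residue field k with F(k) a point has
a versal family over a complete local Noetherian ring with residue field k which is bijective on
tangent spaces (a hull), then F satisfies (S1) and (S2) and has finite-dimensional tangent space. -/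
theorem result {Λ : Type u} {k : Type u} [CommRing Λ] [Field k] [Algebra Λ k]
    [IsNoetherianRing Λ] [Module.Finite Λ k]
    (F : ArtFun.Art Λ k ⥤ Type v) [ArtFun.TangentStr F] (h0 : ArtFun.H0 F) (h : ArtFun.HasHull F) :
    ArtFun.S1 F ∧ ArtFun.Heps F ∧ ArtFun.Hfin F := by
  obtain ⟨H⟩ := h
  have hs := H9Art.versal_surjective H.family H.miniversal.1 h0
  have he := H9Art.heps_of_miniversal H.family H.miniversal hs
  refine ⟨H9Art.s1_of_versal H.family H.miniversal.1 hs, he, ?_⟩
  obtain ⟨s, hsf, hdet⟩ := H9Art.exists_finite_detecting H.ring.carrier H.ring.res H.ring.res_surjective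
  have := hsf.to_subtype
  choose inv hinv using H.miniversal.2.2
  have huniq : ∀ x φ, H.family.app _ φ = x → inv x = φ := fun x φ hφ => H.miniversal.2.1 ((hinv x).trans hφ.symm)
  let L : ArtFun.TangentSpace F →ₗ[k] (s → k) :=
    { toFun := fun x r => ((inv (ArtFun.TangentSpace.val x)).1 r.1).snd
      map_add' := fun x y => by
        obtain ⟨c, hc₁, hc₂⟩ := H9Art.exists_liftHomSet ArtFun.Art.isFibreProd_dual2
          (inv (ArtFun.TangentSpace.val x)) (inv (ArtFun.TangentSpace.val y)) (Subsingleton.elim _ _)
        have hx : F.map ArtFun.Art.pr₁ (H.family.app _ c) = ArtFun.TangentSpace.val x := by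
          rw [← H.family.natural, hc₁, hinv]
        have hy : F.map ArtFun.Art.pr₂ (H.family.app _ c) = ArtFun.TangentSpace.val y := by
          rw [← H.family.natural, hc₂, hinv]
        have hsum : inv (ArtFun.TangentSpace.val (x + y)) = ArtFun.HomSet.map ArtFun.Art.plus c := huniq _ _ (by
          letI := ‹ArtFun.TangentStr F›.addCommGroup
          rw [H.family.natural, ← ArtFun.TangentStr.add_eq, hx, hy]
          rfl)
        funext r
        change ((inv (ArtFun.TangentSpace.val (x + y))).1 r.1).snd = ((inv (ArtFun.TangentSpace.val x)).1 r.1).snd + ((inv (ArtFun.TangentSpace.val y)).1 r.1).snd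
        rw [hsum, ← hc₁, ← hc₂]
        rfl
      map_smul' := fun c x => by
        have hsm : inv (ArtFun.TangentSpace.val (c • x)) =
            ArtFun.HomSet.map (ArtFun.Art.scale c) (inv (ArtFun.TangentSpace.val x)) := huniq _ _ (by
          rw [H.family.natural, hinv]
          exact (ArtFun.TangentStr.smul_eq c (ArtFun.TangentSpace.val x)).symm)
        funext r
        change ((inv (ArtFun.TangentSpace.val (c • x))).1 r.1).snd = c • ((inv (ArtFun.TangentSpace.val x)).1 r.1).snd
        rw [hsm]
        rfl }
  refine Module.Finite.of_injective L fun x y hxy => ?_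
  obtain ⟨a₁, a₂, a₃, a₄⟩ := H9Art.snd_hom_rules (inv (ArtFun.TangentSpace.val x))
  obtain ⟨b₁, b₂, b₃, b₄⟩ := H9Art.snd_hom_rules (inv (ArtFun.TangentSpace.val y))
  have key : inv (ArtFun.TangentSpace.val x) = inv (ArtFun.TangentSpace.val y) :=
    Subtype.ext (AlgHom.ext fun r => TrivSqZeroExt.ext ((a₄ r).trans (b₄ r).symm) (sub_eq_zero.1
      (hdet (fun r => ((inv (ArtFun.TangentSpace.val x)).1 r).snd - ((inv (ArtFun.TangentSpace.val y)).1 r).snd)
        (fun a b => by rw [a₁, b₁]; ring) (fun l a => by rw [a₂, b₂, smul_sub])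
        (fun a b => by rw [a₃, b₃]; ring) (fun a ha => sub_eq_zero.2 (congrFun hxy ⟨a, ha⟩)) r)))
  exact (hinv x).symm.trans ((congrArg (H.family.app _) key).trans (hinv y))

end Groth.Agent.S12731
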