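import Groth.Statements.S12733
import Groth.Agent.Lib.H9ArtLift

set_option autoImplicit false
set_option backward.isDefEq.respectTransparency.types false
universe u v
open CategoryTheory
open ArtFun

namespace Groth.Agent.S12733

/-- Let F, G be deformation functors on Artinian local Λ-algebras with residue field k (value at k a
point, and condition (RS): the comparison map for A₁ ×_A A₂ is bijective whenever A₂ → A is
surjective). A smooth morphism φ : F → G inducing a bijection on tangent spaces is an isomorphism: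
every φ_A is bijective. -/
theorem result {Λ : Type u} {k : Type u} [CommRing Λ] [Field k] [Algebra Λ k]
    [IsNoetherianRing Λ] [Module.Finite Λ k]
    {F G : ArtFun.Art Λ k ⥤ Type v}
    (hF0 : ArtFun.H0 F) (hF : (∀ ⦃B A A' A'' : ArtFun.Art Λ k⦄ (p' : B ⟶ A') (p'' : B ⟶ A'') (f' : A' ⟶ A) (f'' : A'' ⟶ A)
        (h : ArtFun.Art.IsFibreProd p' p'' f' f''), Function.Surjective f'' → Function.Bijective (ArtFun.cmp F h)))
    (hG0 : ArtFun.H0 G) (hG : (∀ ⦃B A A' A'' : ArtFun.Art Λ k⦄ (p' : B ⟶ A') (p'' : B ⟶ A'') (f' : A' ⟶ A) (f'' : A'' ⟶ A)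
        (h : ArtFun.Art.IsFibreProd p' p'' f' f''), Function.Surjective f'' → Function.Bijective (ArtFun.cmp G h)))
    (φ : F ⟶ G) (hφ : ArtFun.IsSmooth φ) (hd : Function.Bijective (ArtFun.TangentSpace.map φ))
    (A : ArtFun.Art Λ k) : Function.Bijective (φ.app A) := by
  obtain ⟨hFe, hFh⟩ := H9Art.heps_of_bijective hF
  obtain ⟨hGe, hGh⟩ := H9Art.heps_of_bijective hG
  haveI := hF0.2
  haveI := hG0.2
  refine ⟨?_, H9Art.app_surjective_of_isSmooth φ hφ (fun y => ⟨hF0.1.some, Subsingleton.elim _ _⟩) A⟩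
  refine H9Art.surjective_induction (P := fun A B (p : B ⟶ A) => Function.Injective (φ.app A) → Function.Injective (φ.app B))
    ?_ ?_ ?_ (ArtFun.Art.toBase A) (H9Art.toBase_surjective A) (fun x y _ => Subsingleton.elim _ _)
  · intro A B e he hA x y hxy
    exact (H9Art.map_bij_of_isIso F e).1 (hA (by rw [NatTrans.naturality_apply φ e, NatTrans.naturality_apply φ e, hxy]))
  · intro A B p hp hA z₁ z₂ hz
    obtain ⟨t, ht0, htp, htm, hgen⟩ := H9Art.exists_smallExt_generator hp
    obtain ⟨Q, q₁, q₂, hQ⟩ := H9Art.exists_fibreProd p p hp.1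
    obtain ⟨Δ, hΔ₁, hΔ₂⟩ := H9Art.exists_lift hQ (𝟙 B) (𝟙 B) rfl
    obtain ⟨δ, hδ, -⟩ := H9Art.exists_delta hQ ht0 htp htm hgen
    obtain ⟨w, hw₁, hw₂⟩ := (H9Art.cmp_surjective_iff hQ).1 (hFh q₁ q₂ p p hQ hp) z₁ z₂
      (hA (by rw [NatTrans.naturality_apply φ p, NatTrans.naturality_apply φ p, hz]))
    have e : φ.app Q w = φ.app Q (F.map Δ (F.map q₁ w)) := by
      refine (H9Art.cmp_injective_iff hQ).1 (hG q₁ q₂ p p hQ hp.1).1 _ _ ?_ ?_
      · rw [← NatTrans.naturality_apply φ q₁, ← NatTrans.naturality_apply φ q₁,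
          ← CategoryTheory.FunctorToTypes.map_comp_apply F Δ q₁, hΔ₁, CategoryTheory.FunctorToTypes.map_id_apply]
      · rw [← NatTrans.naturality_apply φ q₂, ← NatTrans.naturality_apply φ q₂,
          ← CategoryTheory.FunctorToTypes.map_comp_apply F Δ q₂, hΔ₂, CategoryTheory.FunctorToTypes.map_id_apply,
          hw₁, hw₂, hz]
    have key : F.map δ w = F.map δ (F.map Δ (F.map q₁ w)) := hd.1 (by
      change φ.app _ (F.map δ w) = φ.app _ (F.map δ (F.map Δ (F.map q₁ w)))
      rw [NatTrans.naturality_apply φ δ, NatTrans.naturality_apply φ δ, e])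
    rw [← hw₁, ← hw₂]
    exact (H9Art.eq_of_delta hFe hδ hΔ₁ hΔ₂ w key).symm
  · intro A B C p q _ _ hp hq hA
    exact hp (hq hA)

end Groth.Agent.S12733
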