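import Groth.Statements.S12734
import Groth.Agent.Lib.H9ArtPresent
import Groth.Agent.S12731

set_option autoImplicit false
set_option backward.isDefEq.respectTransparency.types false
universe u v
open CategoryTheory
open ArtFun

namespace Groth.Agent.S12734

/-- A functor F on Artinian local Λ-algebras with residue field k is prorepresentable if and only if (a)
F(k) is a point and F satisfies (RS): F(A₁ ×_A A₂) → F(A₁) ×_{F(A)} F(A₂) is bijective whenever A₂ →
A is surjective; (b) its tangent space is finite-dimensional; and (c) the map from morphisms k →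
k[ε] of the category (the Λ-derivations of k) to the tangent space, σ ↦ F(σ)(x₀), is injective.
Condition (c) is empty when k is separable over the image of Λ in k. -/
theorem result {Λ : Type u} {k : Type u} [CommRing Λ] [Field k] [Algebra Λ k]
    [IsNoetherianRing Λ] [Module.Finite Λ k]
    (F : ArtFun.Art Λ k ⥤ Type v) [ArtFun.TangentStr F] :
    ArtFun.IsProrepresentable F ↔
      ((ArtFun.H0 F ∧ (∀ ⦃B A A' A'' : ArtFun.Art Λ k⦄ (p' : B ⟶ A') (p'' : B ⟶ A'') (f' : A' ⟶ A) (f'' : A'' ⟶ A)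
        (h : ArtFun.Art.IsFibreProd p' p'' f' f''), Function.Surjective f'' → Function.Bijective (ArtFun.cmp F h))) ∧
        ArtFun.Hfin F ∧
        ∀ x₀ : F.obj (ArtFun.Art.base Λ k),
          Function.Injective (fun σ : ArtFun.Art.base Λ k ⟶ ArtFun.Art.dual Λ k => F.map σ x₀)) := by
  constructor
  · rintro ⟨⟨R, ξ, hu⟩⟩
    have h0 : ArtFun.H0 F := H9Art.h0_of_surjective ξ fun A => (hu A).2
    refine ⟨⟨h0, ?_⟩, ?_, fun x₀ σ₁ σ₂ h => ?_⟩
    · intro B A A' A'' p' p'' f' f'' h hf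
      have hb := H9Art.bijective_cmp_hR R.carrier R.res p' p'' f' f'' h
      refine ⟨(H9Art.cmp_injective_iff h).2 fun z₁ z₂ e₁ e₂ => ?_, (H9Art.cmp_surjective_iff h).2 fun x y e => ?_⟩
      · obtain ⟨a, rfl⟩ := (hu B).2 z₁
        obtain ⟨b, rfl⟩ := (hu B).2 z₂
        rw [← ξ.natural, ← ξ.natural] at e₁ e₂
        exact congrArg (ξ.app B) ((H9Art.cmp_injective_iff h).1 hb.1 a b ((hu A').1 e₁) ((hu A'').1 e₂))
      · obtain ⟨a, rfl⟩ := (hu A').2 x
        obtain ⟨b, rfl⟩ := (hu A'').2 y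
        rw [← ξ.natural, ← ξ.natural] at e
        obtain ⟨c, hc₁, hc₂⟩ := (H9Art.cmp_surjective_iff h).1 hb.2 a b ((hu A).1 e)
        exact ⟨ξ.app B c, (ξ.natural p' c).symm.trans (congrArg (ξ.app A') hc₁),
          (ξ.natural p'' c).symm.trans (congrArg (ξ.app A'') hc₂)⟩
    · refine (Groth.Agent.S12731.result F h0 ⟨⟨R, ξ, fun B A μ _ φ y hy => ?_, hu _⟩⟩).2.2
      obtain ⟨ψ, rfl⟩ := (hu B).2 y
      exact ⟨ψ, (hu A).1 ((ξ.natural μ ψ).trans hy), rfl⟩
    · haveI := h0.2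
      have e : x₀ = ξ.app _ H9Art.homSetBase := Subsingleton.elim _ _
      simp only [e] at h
      rw [← ξ.natural, ← ξ.natural] at h
      refine ArtFun.Art.hom_ext (AlgHom.ext fun a => ?_)
      obtain ⟨r, rfl⟩ := R.res_surjective a
      exact congrArg (fun t : ArtFun.HomSet R.carrier R.res (ArtFun.Art.dual Λ k) => t.1 r) ((hu _).1 h)
  · rintro ⟨⟨h0, hF⟩, h3, hinj⟩
    obtain ⟨he, -⟩ := H9Art.heps_of_bijective hF
    have h1 : ArtFun.S1 F := fun B A A' A'' p' p'' f' f'' h hf => (hF p' p'' f' f'' h hf).2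
    obtain ⟨⟨R, ξ, hξ⟩⟩ := H9Art.hasVersal_of_conditions h0 h1 he h3
    obtain ⟨R', q, hq, -, hv, hnull⟩ := H9Art.exists_nullVanish he ξ hξ
    refine ⟨⟨R', ξ.along q hq, fun A => ⟨H9Art.injective_app_of_injective_tangent _ hF (fun θ₁ θ₂ h12 => ?_) A,
      H9Art.versal_surjective _ hv h0 A⟩⟩⟩
    obtain ⟨θ, hθ, hθs⟩ := H9Art.exists_sub he (ξ.along q hq) θ₁ θ₂ h12
    have hker : ∀ g, R'.res g = 0 → θ.1 g = 0 := fun g hg =>
      TrivSqZeroExt.ext ((congrArg (fun t : R'.carrier →ₐ[Λ] k => t g) θ.2).trans hg)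
        (hnull θ hθ g ((ArtFun.CRing.mem_maximalIdeal_iff R' g).2 hg))
    let e := Ideal.quotientKerAlgEquivOfSurjective R'.res_surjective
    let σ : ArtFun.Art.base Λ k ⟶ ArtFun.Art.dual Λ k := ⟨(Ideal.Quotient.liftₐ (RingHom.ker R'.res) θ.1
      (fun g hg => hker g (RingHom.mem_ker.1 hg))).comp e.symm.toAlgHom, AlgHom.ext fun a => by
        obtain ⟨r, rfl⟩ := R'.res_surjective a
        have he' : e.symm (R'.res r) = Ideal.Quotient.mk _ r := by rw [AlgEquiv.symm_apply_eq]; rfl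
        change (ArtFun.Art.dual Λ k).res (Ideal.Quotient.liftₐ (RingHom.ker R'.res) θ.1 (fun g hg => hker g (RingHom.mem_ker.1 hg)) (e.symm (R'.res r))) = R'.res r
        rw [he']
        exact congrArg (fun t : R'.carrier →ₐ[Λ] k => t r) θ.2⟩
    have hσθ : ∀ r, σ.toAlgHom (R'.res r) = θ.1 r := fun r => by
      have he' : e.symm (R'.res r) = Ideal.Quotient.mk _ r := by rw [AlgEquiv.symm_apply_eq]; rfl
      change Ideal.Quotient.liftₐ (RingHom.ker R'.res) θ.1 (fun g hg => hker g (RingHom.mem_ker.1 hg)) (e.symm (R'.res r)) = _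
      rw [he']; rfl
    have hσ : ArtFun.HomSet.map σ H9Art.homSetBase = θ := Subtype.ext (AlgHom.ext hσθ)
    have hs0 : σ = ArtFun.Art.baseToDual := hinj ((ξ.along q hq).app _ H9Art.homSetBase) (by
      change F.map σ _ = F.map ArtFun.Art.baseToDual _
      rw [← (ξ.along q hq).natural, ← (ξ.along q hq).natural, hσ]
      exact hθ)
    refine Subtype.ext (AlgHom.ext fun r => TrivSqZeroExt.ext ?_ (sub_eq_zero.1 ?_))
    · exact (congrArg (fun t : R'.carrier →ₐ[Λ] k => t r) θ₁.2).trans (congrArg (fun t : R'.carrier →ₐ[Λ] k => t r) θ₂.2).symm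
    · rw [← hθs, ← hσθ, hs0]
      rfl

end Groth.Agent.S12734
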