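import Groth.Statements.S12735
import Groth.Agent.Lib.H9ArtLift

set_option autoImplicit false
set_option backward.isDefEq.respectTransparency.types false
universe u v
open CategoryTheory
open ArtFun

namespace Groth.Agent.S12735

/-- Let U be a prorepresentable functor on Artinian local Λ-algebras with residue field k and φ : U → U
an endomorphism of functors which is bijective on the tangent space U(k[ε]). Then φ is an
isomorphism: every component is bijective. -/
theorem result {Λ : Type u} {k : Type u} [CommRing Λ] [Field k] [Algebra Λ k]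
    [IsNoetherianRing Λ] [Module.Finite Λ k]
    {U : ArtFun.Art Λ k ⥤ Type v} (hU : ArtFun.IsProrepresentable U)
    (φ : U ⟶ U) (hd : Function.Bijective (ArtFun.TangentSpace.map φ)) (A : ArtFun.Art Λ k) :
    Function.Bijective (φ.app A) := by
  obtain ⟨⟨R, ξ, hξ⟩⟩ := hU
  choose ψ hψ using fun n => (hξ (R.trunc n)).2 (φ.app _ (ξ.app _ (R.truncHom n)))
  have hψc : ∀ n, ArtFun.HomSet.map (R.truncMap n) (ψ (n + 1)) = ψ n := fun n => (hξ _).1 (by
    rw [ξ.natural, hψ, hψ, ← ArtFun.CRing.truncMap_truncHom R n, ξ.natural]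
    exact (NatTrans.naturality_apply φ (R.truncMap n) _).symm)
  obtain ⟨g, hg, hgn⟩ := H9Art.exists_lim R ψ hψc
  have key : ∀ (A : ArtFun.Art Λ k) (u : ArtFun.HomSet R.carrier R.res A),
      φ.app A (ξ.app A u) = (ξ.along g hg).app A u := fun A u =>
    H9Art.family_ext R (ξ := ξ.push φ) (η := ξ.along g hg)
      (ArtFun.FormalElt.ext' fun n => (hψ n).symm.trans (congrArg (ξ.app _) (Subtype.ext (hgn n).symm))) A u
  let pre : ∀ A : ArtFun.Art Λ k, ArtFun.HomSet R.carrier R.res A → ArtFun.HomSet R.carrier R.res A :=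
    fun A u => ⟨u.1.comp g, by rw [← AlgHom.comp_assoc, u.2, hg]⟩
  have hsurj : Function.Surjective g := H9Art.surjective_of_cotangent_cring R R g hg
    (H9Art.cotangent_of_injective_dual R R g hg fun u hu a => by
      obtain ⟨-, -, -, hfst⟩ := H9Art.snd_hom_rules u
      let z : ArtFun.HomSet R.carrier R.res (ArtFun.Art.dual Λ k) :=
        ArtFun.HomSet.map (ArtFun.Art.toBase _ ≫ ArtFun.Art.baseToDual) u
      have h1 : pre _ u = pre _ z := Subtype.ext (AlgHom.ext fun r => TrivSqZeroExt.ext rfl
        ((hu r).trans (TrivSqZeroExt.snd_inl k _).symm))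
      have h2 : ξ.app _ u = ξ.app _ z := hd.1 ((key _ u).trans ((congrArg (ξ.app _) h1).trans (key _ z).symm))
      exact (congrArg (fun t : ArtFun.HomSet R.carrier R.res (ArtFun.Art.dual Λ k) => (t.1 a).snd) ((hξ _).1 h2)).trans
        (TrivSqZeroExt.snd_inl k _))
  have hinj : Function.Injective g := H9Art.injective_of_surjective_endo g.toRingHom hsurj
  let e := AlgEquiv.ofBijective g ⟨hinj, hsurj⟩
  have hpre : Function.Bijective (pre A) := by
    refine ⟨fun u v huv => Subtype.ext (AlgHom.ext fun r => ?_), fun v => ?_⟩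
    · obtain ⟨s, rfl⟩ := hsurj r
      exact congrArg (fun t : ArtFun.HomSet R.carrier R.res A => t.1 s) huv
    · refine ⟨⟨v.1.comp e.symm.toAlgHom, AlgHom.ext fun r => ?_⟩, Subtype.ext (AlgHom.ext fun r => ?_)⟩
      · obtain ⟨s, rfl⟩ := e.surjective r
        change A.res (v.1 (e.symm (e s))) = R.res (g s)
        rw [e.symm_apply_apply]
        exact (congrArg (fun t : R.carrier →ₐ[Λ] k => t s) v.2).trans
          (congrArg (fun t : R.carrier →ₐ[Λ] k => t s) hg).symm
      · exact congrArg v.1 (e.symm_apply_apply r)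
  have hfun : φ.app A ∘ ξ.app A = ξ.app A ∘ pre A := funext fun u => key A u
  have hb : Function.Bijective (φ.app A ∘ ξ.app A) := hfun ▸ (hξ A).comp hpre
  exact (Function.Bijective.of_comp_iff _ (hξ A)).1 hb

end Groth.Agent.S12735
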