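import Groth.Statements.S12739
import Groth.Agent.Lib.H9ArtPresent
import Mathlib.LinearAlgebra.FiniteDimensional.Lemmas

set_option autoImplicit false
set_option backward.isDefEq.respectTransparency.types false
universe u v
open CategoryTheory
open ArtFun

namespace Groth.Agent.S12739

/-- Let … → A₃ → A₂ → A₁ be surjective morphisms of Artinian local Λ-algebras with residue field k (Λ
Noetherian, Λ → k finite) with dim_k m_{A_n}/m_{A_n}² bounded. Then lim A_n is a complete local
Noetherian Λ-algebra with residue field k: some such S carries compatible surjective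
augmentation-preserving maps S → A_n identifying S with the set of compatible sequences, and the
kernels of S → A_n define the m_S-adic topology on S. -/
theorem result {Λ : Type u} {k : Type u} [CommRing Λ] [Field k] [Algebra Λ k]
    [IsNoetherianRing Λ] [Module.Finite Λ k]
    (A : ℕ → ArtFun.Art Λ k) (f : ∀ n, A (n + 1) ⟶ A n) (hf : ∀ n, Function.Surjective (f n))
    (d : ℕ) (hd : ∀ n, Module.finrank (IsLocalRing.ResidueField (A n)) (IsLocalRing.CotangentSpace (A n)) ≤ d) :
    ∃ (S : ArtFun.CRing Λ k) (π : ∀ n, ArtFun.HomSet S.carrier S.res (A n)),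
      (∀ n, ArtFun.HomSet.map (f n) (π (n + 1)) = π n) ∧
      (∀ n, Function.Surjective (π n).1) ∧
      (∀ a : ∀ n, A n, (∀ n, f n (a (n + 1)) = a n) → ∃! s : S.carrier, ∀ n, (π n).1 s = a n) ∧
      (∀ n, ∃ N, RingHom.ker (π N).1 ≤ IsLocalRing.maximalIdeal S.carrier ^ n) ∧
      (∀ n, ∃ N, IsLocalRing.maximalIdeal S.carrier ^ N ≤ RingHom.ker (π n).1) := by
  classical
  -- compatible sequences through a given element
  have hcompat : ∀ (N : ℕ) (A : ℕ → ArtFun.Art Λ k) (f : ∀ n, A (n + 1) ⟶ A n), (∀ n, Function.Surjective (f n)) →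
      ∀ x : A N, ∃ a : ∀ n, A n, (∀ n, f n (a (n + 1)) = a n) ∧ a N = x := by
    intro N
    induction N with
    | zero =>
      intro A f hf x
      choose g hg using fun n => hf n
      let a : ∀ n, A n := fun n => Nat.rec (motive := fun n => A n) x (fun n y => g n y) n
      exact ⟨a, fun n => hg n (a n), rfl⟩
    | succ N ih =>
      intro A f hf x
      obtain ⟨a, ha, haN⟩ := ih (fun n => A (n + 1)) (fun n => f (n + 1)) (fun n => hf (n + 1)) x
      refine ⟨fun n => Nat.casesOn (motive := fun n => A n) n (f 0 (a 0)) a, fun n => ?_, haN⟩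
      cases n with
      | zero => rfl
      | succ n => exact ha n
  let r := sSup (Set.range fun n => Module.finrank (IsLocalRing.ResidueField (A n)) (IsLocalRing.CotangentSpace (A n)))
  have hbdd : BddAbove (Set.range fun n => Module.finrank (IsLocalRing.ResidueField (A n)) (IsLocalRing.CotangentSpace (A n))) :=
    ⟨d, by rintro _ ⟨n, rfl⟩; exact hd n⟩
  obtain ⟨N, hN⟩ : ∃ N, Module.finrank (IsLocalRing.ResidueField (A N)) (IsLocalRing.CotangentSpace (A N)) = r :=
    Nat.sSup_mem (Set.range_nonempty _) hbdd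
  have hle : ∀ n, Module.finrank (IsLocalRing.ResidueField (A n)) (IsLocalRing.CotangentSpace (A n)) ≤ r := fun n =>
    le_csSup hbdd ⟨n, rfl⟩
  let b := Module.finBasisOfFinrankEq _ _ hN
  choose g hg using fun i => Ideal.toCotangent_surjective (IsLocalRing.maximalIdeal (A N)) (b i)
  choose x hx hxN using fun i => hcompat N A f hf (g i).1
  obtain ⟨m, e, he⟩ := H9Art.exists_generators Λ k
  choose e₀ he₀ using fun i => (A 0).res_surjective (e i)
  choose w hw hw0 using fun i => hcompat 0 A f hf (e₀ i)
  have hres : ∀ (n : ℕ) (a : ∀ n, A n), (∀ n, f n (a (n + 1)) = a n) → (A n).res (a n) = (A 0).res (a 0) := by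
    intro n a ha
    induction n with
    | zero => rfl
    | succ n ih => rw [← ih, ← ha n, ArtFun.Art.res_app]
  have hxm : ∀ i n, x i n ∈ IsLocalRing.maximalIdeal (A n) := fun i n => by
    rw [ArtFun.Art.mem_maximalIdeal_iff, hres n (x i) (hx i), ← hres N (x i) (hx i), hxN,
      ← ArtFun.Art.mem_maximalIdeal_iff]
    exact (g i).2
  obtain ⟨Q⟩ := H9Art.nonempty_freeCRing_sum (Λ := Λ) (d := r) e he
  choose φ hφ using fun n => Q.hom_exists (A n) (Sum.elim (fun i => w i n) (fun i => x i n)) (fun i => by
    cases i with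
    | inl i => exact (hres n (w i) (hw i)).trans ((congrArg (A 0).res (hw0 i)).trans (he₀ i))
    | inr i => exact (ArtFun.Art.mem_maximalIdeal_iff _ _).1 (hxm i n))
  have hφc : ∀ n, ArtFun.HomSet.map (f n) (φ (n + 1)) = φ n := fun n => Q.hom_ext _ _ _ fun i => by
    refine (congrArg (f n).toAlgHom (hφ (n + 1) i)).trans ?_
    rw [hφ n i]
    cases i with
    | inl i => exact hw i n
    | inr i => exact hx i n
  -- the transition maps down to stage `N`
  have hdown : ∀ n, N ≤ n → ∃ p : A n ⟶ A N, ∀ a : ∀ n, A n, (∀ n, f n (a (n + 1)) = a n) → p (a n) = a N := by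
    intro n hn
    induction hn with
    | refl => exact ⟨𝟙 _, fun _ _ => rfl⟩
    | @step n hn ih =>
      obtain ⟨p, hp⟩ := ih
      exact ⟨f n ≫ p, fun a ha => (congrArg p.toAlgHom (ha n)).trans (hp a ha)⟩
  have hspan : ∀ n, N ≤ n → Function.Surjective (φ n).1 := by
    intro n hn
    obtain ⟨p, hp⟩ := hdown n hn
    let v : Fin r → IsLocalRing.CotangentSpace (A n) := fun i =>
      (IsLocalRing.maximalIdeal (A n)).toCotangent ⟨x i n, hxm i n⟩
    have hli : LinearIndependent (IsLocalRing.ResidueField (A n)) v := by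
      rw [Fintype.linearIndependent_iff]
      intro c hc i
      choose c' hc' using fun i => Ideal.Quotient.mk_surjective (c i)
      have h0 : (IsLocalRing.maximalIdeal (A n)).toCotangent (∑ i, c' i • ⟨x i n, hxm i n⟩) = 0 := by
        rw [map_sum, ← hc]
        refine Finset.sum_congr rfl fun i _ => ?_
        rw [map_smul, ← hc']
        rfl
      rw [Ideal.toCotangent_eq_zero] at h0
      have h1 : p (∑ i, c' i * x i n) ∈ IsLocalRing.maximalIdeal (A N) ^ 2 := by
        have hle' : (IsLocalRing.maximalIdeal (A n)).map p.toAlgHom ≤ IsLocalRing.maximalIdeal (A N) :=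
          Ideal.map_le_iff_le_comap.2 fun a ha => (ArtFun.Art.mem_maximalIdeal_iff _ _).2
            ((ArtFun.Art.res_app p a).trans ((ArtFun.Art.mem_maximalIdeal_iff _ _).1 ha))
        refine Ideal.pow_right_mono hle' 2 ?_
        rw [← Ideal.map_pow]
        refine Ideal.mem_map_of_mem _ ?_
        simpa using h0
      have h2 : (IsLocalRing.maximalIdeal (A N)).toCotangent (∑ i, p (c' i) • g i) = 0 := by
        rw [Ideal.toCotangent_eq_zero]
        simp only [Submodule.coe_sum, Submodule.coe_smul, smul_eq_mul]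
        rw [map_sum] at h1
        simp only [map_mul, hp _ (hx _), hxN] at h1
        exact h1
      have h3 : ∑ i, (IsLocalRing.residue (A N) (p (c' i))) • b i = 0 := by
        rw [← h2, map_sum]
        refine Finset.sum_congr rfl fun i _ => ?_
        rw [map_smul, hg]
        rfl
      have h4 := Fintype.linearIndependent_iff.1 b.linearIndependent _ h3 i
      rw [IsLocalRing.residue_eq_zero_iff, ArtFun.Art.mem_maximalIdeal_iff, ArtFun.Art.res_app,
        ← ArtFun.Art.mem_maximalIdeal_iff, ← IsLocalRing.residue_eq_zero_iff] at h4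
      rw [← hc']
      exact h4
    have hcard : Fintype.card (Fin r) = Module.finrank (IsLocalRing.ResidueField (A n)) (IsLocalRing.CotangentSpace (A n)) := by
      rw [Fintype.card_fin]
      refine le_antisymm ?_ (hle n)
      simpa using hli.fintype_card_le_finrank
    have htop := hli.span_eq_top_of_card_eq_finrank' hcard
    rw [show Set.range v = (IsLocalRing.maximalIdeal (A n)).toCotangent '' Set.range (fun i => (⟨x i n, hxm i n⟩ : IsLocalRing.maximalIdeal (A n))) by
      rw [← Set.range_comp]; rfl, IsLocalRing.CotangentSpace.span_image_eq_top_iff] at htop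
    haveI := Q.ring.isAdicComplete.toIsPrecomplete
    refine H9Art.surjective_of_cotangent (φ n).1.toRingHom (fun a => ?_) (Ideal.map_le_iff_le_comap.2 fun q hq => ?_) ?_
    · obtain ⟨q, hq⟩ := Q.ring.res_surjective ((A n).res a)
      refine ⟨q, (ArtFun.Art.mem_maximalIdeal_iff _ _).2 ((map_sub (A n).res _ _).trans (sub_eq_zero.2 ?_))⟩
      exact hq.symm.trans (congrArg (fun t : Q.ring.carrier →ₐ[Λ] k => t q) (φ n).2).symm
    · exact (ArtFun.Art.mem_maximalIdeal_iff _ _).2 ((congrArg (fun t : Q.ring.carrier →ₐ[Λ] k => t q) (φ n).2).trans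
        ((ArtFun.CRing.mem_maximalIdeal_iff _ q).1 hq))
    · refine le_antisymm (sup_le (Ideal.map_le_iff_le_comap.2 fun q hq => ?_) (Ideal.pow_le_self two_ne_zero)) fun a ha => ?_
      · exact (ArtFun.Art.mem_maximalIdeal_iff _ _).2 ((congrArg (fun t : Q.ring.carrier →ₐ[Λ] k => t q) (φ n).2).trans
          ((ArtFun.CRing.mem_maximalIdeal_iff _ q).1 hq))
      · refine Submodule.mem_sup_left ?_
        have hmem : (⟨a, ha⟩ : IsLocalRing.maximalIdeal (A n)) ∈
            Submodule.span (A n) (Set.range fun i => (⟨x i n, hxm i n⟩ : IsLocalRing.maximalIdeal (A n))) := htop ▸ Submodule.mem_top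
        obtain ⟨c, hc⟩ := (Submodule.mem_span_range_iff_exists_fun _).1 hmem
        have hca : ∑ i, c i * x i n = a := by simpa using congrArg Subtype.val hc
        rw [← hca]
        refine Ideal.sum_mem _ fun i _ => Ideal.mul_mem_left _ _ ?_
        have hi := Ideal.mem_map_of_mem (φ n).1.toRingHom ((ArtFun.CRing.mem_maximalIdeal_iff Q.ring _).2 (Q.res_X (Sum.inr i)))
        have hii : (φ n).1.toRingHom (Q.X (Sum.inr i)) = x i n := hφ n (Sum.inr i)
        rwa [hii] at hi
  have hsurj : ∀ j n, Function.Surjective (φ (n + j)).1 → Function.Surjective (φ n).1 := by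
    intro j
    induction j with
    | zero => exact fun n h => h
    | succ j ih =>
      intro n h a
      obtain ⟨y, rfl⟩ := hf n a
      obtain ⟨q, hq⟩ := ih (n + 1) (by rwa [Nat.add_right_comm]) y
      exact ⟨q, by rw [← hq, ← hφc n]; rfl⟩
  obtain ⟨S, q, hq, π, -, -, h₁, h₂, h₃, h₄, h₅⟩ := H9Art.exists_limit Q.ring A f φ hφc
    (fun n => hsurj N n (hspan (n + N) (Nat.le_add_left N n)))
  exact ⟨S, π, h₁, h₂, h₃, h₄, h₅⟩

end Groth.Agent.S12739
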