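import Groth.Statements.S12744
import Groth.Agent.Lib.H9ArtFormal

set_option autoImplicit false
set_option backward.isDefEq.respectTransparency.types false
universe u v
open CategoryTheory
open ArtFun

namespace Groth.Agent.S12744

/-- For functors, if η : F → G is a smooth morphism of functors on Artinian local Λ-algebras with
residue field k and F(k) → G(k) is surjective, then for every complete local Noetherian R with
residue field k the induced map on formal elements over R (compatible systems of elements over the
truncations R/m^(n+1)) is surjective. -/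
theorem result {Λ : Type u} {k : Type u} [CommRing Λ] [Field k] [Algebra Λ k]
    [IsNoetherianRing Λ] [Module.Finite Λ k]
    {F G : ArtFun.Art Λ k ⥤ Type v} (η : F ⟶ G) (hη : ArtFun.IsSmooth η)
    (h0 : Function.Surjective (η.app (ArtFun.Art.base Λ k))) (R : ArtFun.CRing Λ k) :
    Function.Surjective (fun u : ArtFun.FormalElt F R => u.map η) := by
  intro y
  have step : ∀ n (a : F.obj (R.trunc n)), η.app _ a = y.elt n →
      ∃ b : F.obj (R.trunc (n + 1)), F.map (R.truncMap n) b = a ∧ η.app _ b = y.elt (n + 1) := fun n a ha =>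
    (H9Art.relCmp_surjective_iff η _).1 (hη _ (H9Art.truncMap_surjective R n)) a (y.elt (n + 1))
      (by rw [ha, y.compat])
  choose next hn₁ hn₂ using step
  obtain ⟨u₀, hu₀⟩ := H9Art.app_surjective_of_isSmooth η hη h0 (R.trunc 0) (y.elt 0)
  let u : ∀ n, {a : F.obj (R.trunc n) // η.app _ a = y.elt n} :=
    fun n => Nat.rec ⟨u₀, hu₀⟩ (fun n a => ⟨next n a.1 a.2, hn₂ n a.1 a.2⟩) n
  exact ⟨⟨fun n => (u n).1, fun n => hn₁ n (u n).1 (u n).2⟩, ArtFun.FormalElt.ext' fun n => (u n).2⟩

end Groth.Agent.S12744
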