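import Groth.Statements.S12746
import Groth.Agent.Lib.H9Art
import Mathlib.CategoryTheory.Limits.Types.Pullbacks
import Mathlib.CategoryTheory.Limits.FunctorCategory.Basic
import Mathlib.CategoryTheory.Limits.Shapes.Pullback.IsPullback.Basic

set_option autoImplicit false
set_option backward.isDefEq.respectTransparency.types false
universe u v
open CategoryTheory
open ArtFun

namespace Groth.Agent.S12746

/-- For functors, if F, G, H are functors on Artinian local Λ-algebras with residue field k satisfying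
(RS) and f : H → F, g : G → F are morphisms, then the fibre product functor H ×_F G satisfies (RS). -/
theorem result {Λ : Type u} {k : Type u} [CommRing Λ] [Field k] [Algebra Λ k]
    [IsNoetherianRing Λ] [Module.Finite Λ k]
    {F G H : ArtFun.Art Λ k ⥤ Type v} (f : H ⟶ F) (g : G ⟶ F)
    (hF : (∀ ⦃B A A' A'' : ArtFun.Art Λ k⦄ (p' : B ⟶ A') (p'' : B ⟶ A'') (f' : A' ⟶ A) (f'' : A'' ⟶ A)
        (h : ArtFun.Art.IsFibreProd p' p'' f' f''), Function.Surjective f'' → Function.Bijective (ArtFun.cmp F h))) (hG : (∀ ⦃B A A' A'' : ArtFun.Art Λ k⦄ (p' : B ⟶ A') (p'' : B ⟶ A'') (f' : A' ⟶ A) (f'' : A'' ⟶ A)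
        (h : ArtFun.Art.IsFibreProd p' p'' f' f''), Function.Surjective f'' → Function.Bijective (ArtFun.cmp G h))) (hH : (∀ ⦃B A A' A'' : ArtFun.Art Λ k⦄ (p' : B ⟶ A') (p'' : B ⟶ A'') (f' : A' ⟶ A) (f'' : A'' ⟶ A)
        (h : ArtFun.Art.IsFibreProd p' p'' f' f''), Function.Surjective f'' → Function.Bijective (ArtFun.cmp H h))) :
    (∀ ⦃B A A' A'' : ArtFun.Art Λ k⦄ (p' : B ⟶ A') (p'' : B ⟶ A'') (f' : A' ⟶ A) (f'' : A'' ⟶ A)
        (h : ArtFun.Art.IsFibreProd p' p'' f' f''), Function.Surjective f'' → Function.Bijective (ArtFun.cmp (CategoryTheory.Limits.pullback f g) h)) := by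
  intro B A A' A'' p' p'' f' f'' hsq hs
  have sq : ∀ C, CategoryTheory.IsPullback ((CategoryTheory.Limits.pullback.fst f g).app C)
      ((CategoryTheory.Limits.pullback.snd f g).app C) (f.app C) (g.app C) := fun C =>
    CategoryTheory.Functor.map_isPullback ((CategoryTheory.evaluation _ _).obj C)
      (CategoryTheory.IsPullback.of_hasPullback f g)
  set π₁ := CategoryTheory.Limits.pullback.fst f g
  set π₂ := CategoryTheory.Limits.pullback.snd f g
  have n₁ : ∀ {C D : ArtFun.Art Λ k} (u : C ⟶ D) x, π₁.app D ((CategoryTheory.Limits.pullback f g).map u x) = H.map u (π₁.app C x) :=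
    fun u x => NatTrans.naturality_apply π₁ u x
  have n₂ : ∀ {C D : ArtFun.Art Λ k} (u : C ⟶ D) x, π₂.app D ((CategoryTheory.Limits.pullback f g).map u x) = G.map u (π₂.app C x) :=
    fun u x => NatTrans.naturality_apply π₂ u x
  refine ⟨(H9Art.cmp_injective_iff hsq).2 fun z₁ z₂ h₁ h₂ => ?_, (H9Art.cmp_surjective_iff hsq).2 fun a b hab => ?_⟩
  · refine CategoryTheory.Limits.Types.ext_of_isPullback (sq B) ?_ ?_
    · exact (H9Art.cmp_injective_iff hsq).1 (hH p' p'' f' f'' hsq hs).1 _ _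
        (by rw [← n₁, ← n₁, h₁]) (by rw [← n₁, ← n₁, h₂])
    · exact (H9Art.cmp_injective_iff hsq).1 (hG p' p'' f' f'' hsq hs).1 _ _
        (by rw [← n₂, ← n₂, h₁]) (by rw [← n₂, ← n₂, h₂])
  · obtain ⟨x, hx₁, hx₂⟩ := (H9Art.cmp_surjective_iff hsq).1 (hH p' p'' f' f'' hsq hs).2 (π₁.app _ a) (π₁.app _ b)
      (by rw [← n₁, ← n₁, hab])
    obtain ⟨y, hy₁, hy₂⟩ := (H9Art.cmp_surjective_iff hsq).1 (hG p' p'' f' f'' hsq hs).2 (π₂.app _ a) (π₂.app _ b)
      (by rw [← n₂, ← n₂, hab])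
    have hxy : f.app B x = g.app B y := by
      refine (H9Art.cmp_injective_iff hsq).1 (hF p' p'' f' f'' hsq hs).1 _ _ ?_ ?_
      · rw [← NatTrans.naturality_apply f p', ← NatTrans.naturality_apply g p', hx₁, hy₁]
        exact congrArg (fun t => t a) (sq A').w
      · rw [← NatTrans.naturality_apply f p'', ← NatTrans.naturality_apply g p'', hx₂, hy₂]
        exact congrArg (fun t => t b) (sq A'').w
    obtain ⟨z, hz₁, hz₂⟩ := CategoryTheory.Limits.Types.exists_of_isPullback (sq B) x y hxy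
    refine ⟨z, CategoryTheory.Limits.Types.ext_of_isPullback (sq A') ?_ ?_,
      CategoryTheory.Limits.Types.ext_of_isPullback (sq A'') ?_ ?_⟩
    · rw [n₁, hz₁, hx₁]
    · rw [n₂, hz₂, hy₁]
    · rw [n₁, hz₁, hx₂]
    · rw [n₂, hz₂, hy₂]

end Groth.Agent.S12746
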