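import Groth.Statements.S12747
import Groth.Agent.Lib.H9ArtLift
import Mathlib.CategoryTheory.Limits.Types.Pullbacks
import Mathlib.CategoryTheory.Limits.FunctorCategory.Basic
import Mathlib.CategoryTheory.Limits.Shapes.Pullback.IsPullback.Basic

set_option autoImplicit false
set_option backward.isDefEq.respectTransparency.types false
universe u v
open CategoryTheory
open ArtFun

namespace Groth.Agent.S12747

/-- For functors, let H₁ → G, H₂ → G and q : G → F be morphisms of functors on Artinian local Λ-algebras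
with residue field k where F and G are deformation functors (value at k a point, condition (RS)) and
q is injective on tangent spaces. Then the induced morphism H₁ ×_G H₂ → H₁ ×_F H₂ is smooth. (The
published statement also assumes that infinitesimal automorphisms of G map onto those of F; for
functors that condition is empty.) -/
theorem result {Λ : Type u} {k : Type u} [CommRing Λ] [Field k] [Algebra Λ k]
    [IsNoetherianRing Λ] [Module.Finite Λ k]
    {F G H₁ H₂ : ArtFun.Art Λ k ⥤ Type v} (p₁ : H₁ ⟶ G) (p₂ : H₂ ⟶ G) (q : G ⟶ F)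
    (hF0 : ArtFun.H0 F) (hF : (∀ ⦃B A A' A'' : ArtFun.Art Λ k⦄ (p' : B ⟶ A') (p'' : B ⟶ A'') (f' : A' ⟶ A) (f'' : A'' ⟶ A)
        (h : ArtFun.Art.IsFibreProd p' p'' f' f''), Function.Surjective f'' → Function.Bijective (ArtFun.cmp F h)))
    (hG0 : ArtFun.H0 G) (hG : (∀ ⦃B A A' A'' : ArtFun.Art Λ k⦄ (p' : B ⟶ A') (p'' : B ⟶ A'') (f' : A' ⟶ A) (f'' : A'' ⟶ A)
        (h : ArtFun.Art.IsFibreProd p' p'' f' f''), Function.Surjective f'' → Function.Bijective (ArtFun.cmp G h)))
    (hq : Function.Injective (ArtFun.TangentSpace.map q)) :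
    ArtFun.IsSmooth (CategoryTheory.Limits.pullback.map p₁ p₂ (p₁ ≫ q) (p₂ ≫ q) (𝟙 H₁) (𝟙 H₂) q
      (CategoryTheory.Category.id_comp _).symm (CategoryTheory.Category.id_comp _).symm) := by
  obtain ⟨hGe, hGh⟩ := H9Art.heps_of_bijective hG
  refine H9Art.isSmooth_of_smallExt _ fun B A μ hμ => ?_
  rw [H9Art.relCmp_surjective_iff]
  intro a b hab
  have sq : ∀ C, CategoryTheory.IsPullback ((CategoryTheory.Limits.pullback.fst p₁ p₂).app C)
      ((CategoryTheory.Limits.pullback.snd p₁ p₂).app C) (p₁.app C) (p₂.app C) := fun C =>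
    CategoryTheory.Functor.map_isPullback ((CategoryTheory.evaluation _ _).obj C)
      (CategoryTheory.IsPullback.of_hasPullback p₁ p₂)
  have sq' : ∀ C, CategoryTheory.IsPullback ((CategoryTheory.Limits.pullback.fst (p₁ ≫ q) (p₂ ≫ q)).app C)
      ((CategoryTheory.Limits.pullback.snd (p₁ ≫ q) (p₂ ≫ q)).app C) ((p₁ ≫ q).app C) ((p₂ ≫ q).app C) := fun C =>
    CategoryTheory.Functor.map_isPullback ((CategoryTheory.evaluation _ _).obj C)
      (CategoryTheory.IsPullback.of_hasPullback (p₁ ≫ q) (p₂ ≫ q))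
  set M := CategoryTheory.Limits.pullback.map p₁ p₂ (p₁ ≫ q) (p₂ ≫ q) (𝟙 H₁) (𝟙 H₂) q
    (CategoryTheory.Category.id_comp _).symm (CategoryTheory.Category.id_comp _).symm
  have hM₁ : ∀ C x, (CategoryTheory.Limits.pullback.fst (p₁ ≫ q) (p₂ ≫ q)).app C (M.app C x) =
      (CategoryTheory.Limits.pullback.fst p₁ p₂).app C x := fun C x => by
    have := congrArg (fun t => t.app C x) (CategoryTheory.Limits.pullback.lift_fst
      (f := p₁ ≫ q) (g := p₂ ≫ q) (CategoryTheory.Limits.pullback.fst p₁ p₂ ≫ 𝟙 H₁)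
      (CategoryTheory.Limits.pullback.snd p₁ p₂ ≫ 𝟙 H₂) (by
        simp [CategoryTheory.Limits.pullback.condition_assoc]))
    exact this
  have hM₂ : ∀ C x, (CategoryTheory.Limits.pullback.snd (p₁ ≫ q) (p₂ ≫ q)).app C (M.app C x) =
      (CategoryTheory.Limits.pullback.snd p₁ p₂).app C x := fun C x => by
    have := congrArg (fun t => t.app C x) (CategoryTheory.Limits.pullback.lift_snd
      (f := p₁ ≫ q) (g := p₂ ≫ q) (CategoryTheory.Limits.pullback.fst p₁ p₂ ≫ 𝟙 H₁)
      (CategoryTheory.Limits.pullback.snd p₁ p₂ ≫ 𝟙 H₂) (by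
        simp [CategoryTheory.Limits.pullback.condition_assoc]))
    exact this
  set b₁ := (CategoryTheory.Limits.pullback.fst (p₁ ≫ q) (p₂ ≫ q)).app B b
  set b₂ := (CategoryTheory.Limits.pullback.snd (p₁ ≫ q) (p₂ ≫ q)).app B b
  have hb₁ : H₁.map μ b₁ = (CategoryTheory.Limits.pullback.fst p₁ p₂).app A a := by
    rw [← hM₁ A a, hab]; exact (NatTrans.naturality_apply (CategoryTheory.Limits.pullback.fst (p₁ ≫ q) (p₂ ≫ q)) μ b).symm
  have hb₂ : H₂.map μ b₂ = (CategoryTheory.Limits.pullback.snd p₁ p₂).app A a := by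
    rw [← hM₂ A a, hab]; exact (NatTrans.naturality_apply (CategoryTheory.Limits.pullback.snd (p₁ ≫ q) (p₂ ≫ q)) μ b).symm
  have hy : q.app B (p₁.app B b₁) = q.app B (p₂.app B b₂) := congrArg (fun t => t b) (sq' B).w
  have hy' : G.map μ (p₁.app B b₁) = G.map μ (p₂.app B b₂) := by
    rw [← NatTrans.naturality_apply p₁ μ, ← NatTrans.naturality_apply p₂ μ, hb₁, hb₂]
    exact congrArg (fun t => t a) (sq A).w
  have hyeq : p₁.app B b₁ = p₂.app B b₂ := by
    obtain ⟨t, ht0, htp, htm, hgen⟩ := H9Art.exists_smallExt_generator hμ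
    obtain ⟨Q, q₁, q₂, hQ⟩ := H9Art.exists_fibreProd μ μ hμ.1
    obtain ⟨Δ, hΔ₁, hΔ₂⟩ := H9Art.exists_lift hQ (𝟙 B) (𝟙 B) rfl
    obtain ⟨δ, hδ, hδv⟩ := H9Art.exists_delta hQ ht0 htp htm hgen
    obtain ⟨w, hw₁, hw₂⟩ := (H9Art.cmp_surjective_iff hQ).1 (hGh q₁ q₂ μ μ hQ hμ) _ _ hy'
    have e : q.app Q w = q.app Q (G.map Δ (G.map q₁ w)) := by
      refine (H9Art.cmp_injective_iff hQ).1 (hF q₁ q₂ μ μ hQ hμ.1).1 _ _ ?_ ?_
      · rw [← NatTrans.naturality_apply q q₁, ← NatTrans.naturality_apply q q₁,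
          ← CategoryTheory.FunctorToTypes.map_comp_apply G Δ q₁, hΔ₁, CategoryTheory.FunctorToTypes.map_id_apply]
      · rw [← NatTrans.naturality_apply q q₂, ← NatTrans.naturality_apply q q₂,
          ← CategoryTheory.FunctorToTypes.map_comp_apply G Δ q₂, hΔ₂, CategoryTheory.FunctorToTypes.map_id_apply,
          hw₁, hw₂, hy]
    have key : G.map δ w = G.map δ (G.map Δ (G.map q₁ w)) := hq (by
      change q.app _ (G.map δ w) = q.app _ (G.map δ (G.map Δ (G.map q₁ w)))
      rw [NatTrans.naturality_apply q δ, NatTrans.naturality_apply q δ, e])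
    rw [← hw₁, ← hw₂]
    exact (H9Art.eq_of_delta hGe hδ hΔ₁ hΔ₂ w key).symm
  obtain ⟨z, hz₁, hz₂⟩ := CategoryTheory.Limits.Types.exists_of_isPullback (sq B) b₁ b₂ hyeq
  refine ⟨z, CategoryTheory.Limits.Types.ext_of_isPullback (sq A) ?_ ?_,
    CategoryTheory.Limits.Types.ext_of_isPullback (sq' B) ((hM₁ B z).trans hz₁) ((hM₂ B z).trans hz₂)⟩
  · rw [← hb₁, ← hz₁]; exact NatTrans.naturality_apply (CategoryTheory.Limits.pullback.fst p₁ p₂) μ z
  · rw [← hb₂, ← hz₂]; exact NatTrans.naturality_apply (CategoryTheory.Limits.pullback.snd p₁ p₂) μ z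

end Groth.Agent.S12747
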