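import Groth.Statements.S12748
import Groth.Agent.Lib.H9ArtPowerSeries
import Groth.Agent.Lib.H9ArtFormal
import Mathlib

set_option autoImplicit false
set_option backward.isDefEq.respectTransparency.types false
universe u v
open CategoryTheory
open ArtFun ArtFun.CRing

namespace Groth.Agent.S12748

/-- Let R' → R be a morphism of complete local Noetherian Λ-algebras with residue field k with an
R'-algebra retraction ρ : R → R', so that R = R' ⊕ I for the ideal I = ker ρ; let x₁, …, x_r ∈ I map
to a basis of I/m_R I and let φ : R'[[X₁, …, X_r]] → R be an R'-algebra map sending X_i to x_i. If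
for all large n the induced map R'[[X]]/m^n → R/m_R^n has a left inverse — a Λ-algebra map g_n : R →
R'[[X]]/m^n with g_n ∘ φ equal to the quotient map — then φ is an isomorphism. -/
theorem result {Λ : Type u} {k : Type u} [CommRing Λ] [Field k] [Algebra Λ k]
    [IsNoetherianRing Λ] [Module.Finite Λ k]
    (R' R : ArtFun.CRing Λ k) [Algebra R'.carrier R.carrier] [IsScalarTower Λ R'.carrier R.carrier]
    (hc : R.res.comp (IsScalarTower.toAlgHom Λ R'.carrier R.carrier) = R'.res)
    (ρ : R.carrier →ₐ[R'.carrier] R'.carrier)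
    (r : ℕ) (x : Fin r → R.carrier) (hxI : ∀ i, ρ (x i) = 0)
    (hspan : Ideal.span (Set.range x) ⊔ IsLocalRing.maximalIdeal R.carrier * RingHom.ker ρ = RingHom.ker ρ)
    (hli : ∀ c : Fin r → R.carrier, (∑ i, c i * x i) ∈ IsLocalRing.maximalIdeal R.carrier * RingHom.ker ρ →
      ∀ i, c i ∈ IsLocalRing.maximalIdeal R.carrier)
    (φ : MvPowerSeries (Fin r) R'.carrier →ₐ[R'.carrier] R.carrier) (hφ : ∀ i, φ (MvPowerSeries.X i) = x i)
    (hinv : ∃ N : ℕ, ∀ n, N ≤ n →
      ∃ g : R.carrier →ₐ[Λ] (MvPowerSeries (Fin r) R'.carrier ⧸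
          IsLocalRing.maximalIdeal (MvPowerSeries (Fin r) R'.carrier) ^ n),
        ∀ s, g (φ s) = Ideal.Quotient.mk _ s) :
    Function.Bijective φ := by
  haveI : IsNoetherianRing (MvPowerSeries (Fin r) R'.carrier) := (Groth.Agent.H9Art.psCRing R' r).isNoetherianRing
  refine ⟨(injective_iff_map_eq_zero φ).2 fun s hs => ?_, ?_⟩
  · obtain ⟨N, hN⟩ := hinv
    have h : s ∈ ⨅ j : ℕ, IsLocalRing.maximalIdeal (MvPowerSeries (Fin r) R'.carrier) ^ j := Ideal.mem_iInf.2 fun j => by
      obtain ⟨g, hg⟩ := hN (max N j) (le_max_left _ _)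
      refine Ideal.pow_le_pow_right (le_max_right N j) (Ideal.Quotient.eq_zero_iff_mem.1 ?_)
      rw [← hg, hs, map_zero]
    rwa [Ideal.iInf_pow_eq_bot_of_isLocalRing _ (IsLocalRing.maximalIdeal.isMaximal _).ne_top, Ideal.mem_bot] at h
  · have hne : RingHom.ker ρ ≤ IsLocalRing.maximalIdeal R.carrier :=
      IsLocalRing.le_maximalIdeal (RingHom.ker_ne_top _)
    have halg : ∀ a : R'.carrier, R.res (algebraMap R'.carrier R.carrier a) = R'.res a := fun a =>
      congrArg (fun t : R'.carrier →ₐ[Λ] k => t a) hc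
    have hsub : ∀ y : R.carrier, y - algebraMap R'.carrier R.carrier (ρ y) ∈ RingHom.ker ρ := fun y => by
      rw [RingHom.mem_ker, map_sub, AlgHom.commutes, Algebra.algebraMap_self, RingHom.id_apply, sub_self]
    have hres : ∀ y : R.carrier, R'.res (ρ y) = R.res y := fun y => by
      have h1 := (CRing.mem_maximalIdeal_iff R _).1 (hne (hsub y))
      rw [map_sub, halg, sub_eq_zero] at h1
      exact h1.symm
    let P := Groth.Agent.H9Art.psCRing R' r
    let f : P.carrier →ₐ[Λ] R.carrier := φ.restrictScalars Λ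
    have hf : R.res.comp f = P.res := by
      refine AlgHom.ext fun (s : MvPowerSeries (Fin r) R'.carrier) => ?_
      have hs : s - MvPowerSeries.C (MvPowerSeries.constantCoeff s) ∈
          Ideal.span (Set.range (MvPowerSeries.X : Fin r → MvPowerSeries (Fin r) R'.carrier)) ^ 1 :=
        Groth.Agent.H9Art.mem_span_X_pow fun x hx => by
          rw [(Finsupp.degree_eq_zero_iff x).1 (by omega), MvPowerSeries.coeff_zero_eq_constantCoeff_apply, map_sub,
            MvPowerSeries.constantCoeff_C, sub_self]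
      rw [pow_one] at hs
      have hle : (Ideal.span (Set.range (MvPowerSeries.X : Fin r → MvPowerSeries (Fin r) R'.carrier))).map φ ≤
          IsLocalRing.maximalIdeal R.carrier := by
        rw [Ideal.map_span, Ideal.span_le]
        rintro _ ⟨_, ⟨i, rfl⟩, rfl⟩
        rw [SetLike.mem_coe, hφ]
        exact hne (RingHom.mem_ker.2 (hxI i))
      have h1 := (CRing.mem_maximalIdeal_iff R _).1 (hle (Ideal.mem_map_of_mem φ hs))
      rw [map_sub, map_sub, sub_eq_zero] at h1
      refine h1.trans ?_
      show R.res (φ (MvPowerSeries.C (MvPowerSeries.constantCoeff s))) = R'.res (MvPowerSeries.constantCoeff s)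
      rw [MvPowerSeries.c_eq_algebraMap, AlgHom.commutes, halg]
    have hloc : ∀ s ∈ IsLocalRing.maximalIdeal P.carrier, f s ∈ IsLocalRing.maximalIdeal R.carrier := fun s hs =>
      (CRing.mem_maximalIdeal_iff R _).2 ((congrArg (fun t : P.carrier →ₐ[Λ] k => t s) hf).trans
        ((CRing.mem_maximalIdeal_iff P s).1 hs))
    refine Groth.Agent.H9Art.surjective_of_cotangent_cring P R f hf
      (le_antisymm (sup_le (Ideal.map_le_iff_le_comap.2 hloc) (Ideal.pow_le_self two_ne_zero)) fun y hy => ?_)
    have h1 : algebraMap R'.carrier R.carrier (ρ y) ∈ (IsLocalRing.maximalIdeal P.carrier).map f := by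
      have : f (Groth.Agent.H9Art.psC R' r (ρ y)) = algebraMap R'.carrier R.carrier (ρ y) := by
        show φ (MvPowerSeries.C (ρ y)) = _
        rw [MvPowerSeries.c_eq_algebraMap, AlgHom.commutes]
      rw [← this]
      refine Ideal.mem_map_of_mem _ ((CRing.mem_maximalIdeal_iff P _).2 ?_)
      refine (congrArg (fun t : R'.carrier →ₐ[Λ] k => t (ρ y)) (Groth.Agent.H9Art.psC_res R' r)).trans ?_
      exact (hres y).trans ((CRing.mem_maximalIdeal_iff R y).1 hy)
    have h2 : RingHom.ker ρ ≤ (IsLocalRing.maximalIdeal P.carrier).map f ⊔ IsLocalRing.maximalIdeal R.carrier ^ 2 := by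
      rw [← hspan, pow_two]
      refine sup_le (le_sup_of_le_left (Ideal.span_le.2 ?_)) (le_sup_of_le_right (Ideal.mul_mono_right hne))
      rintro _ ⟨i, rfl⟩
      rw [← hφ i]
      exact Ideal.mem_map_of_mem f ((CRing.mem_maximalIdeal_iff P _).2 (Groth.Agent.H9Art.psX_res R' r i))
    have := add_mem (h2 (hsub y)) (Submodule.mem_sup_left (T := IsLocalRing.maximalIdeal R.carrier ^ 2) h1)
    rwa [sub_add_cancel] at this

end Groth.Agent.S12748
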