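import Groth.Statements.S12749
import Groth.Agent.Lib.H9ArtLift
import Groth.Agent.S12720

set_option autoImplicit false
set_option linter.deprecated false
set_option backward.isDefEq.respectTransparency.types false
universe u v
open CategoryTheory
open ArtFun

namespace Groth.Agent.S12749

/-- For functors, suppose k admits no nonzero Λ-derivation into itself (that is, k is separable over the
image of Λ in k). Let F be a functor on Artinian local Λ-algebras with residue field k with F(k) a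
point which satisfies (S2), and let ξ be a minimal versal family of F over a complete local
Noetherian R with residue field k: ξ is versal, and every morphism of such coefficient rings R' → R
along which some formal element of F over R' pushes forward to the formal element of ξ is
surjective. Then ξ is a hull of F: it is moreover bijective on tangent spaces. (The published
statement, for arbitrary k, concludes that the tangent map of the minimal versal family is bijective
on orbits under the Λ-derivations of k; when k has no nonzero Λ-derivation into itself the orbits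
are points and this is plain bijectivity, which is the case stated here.) -/
theorem result {Λ : Type u} {k : Type u} [CommRing Λ] [Field k] [Algebra Λ k]
    [IsNoetherianRing Λ] [Module.Finite Λ k]
    (hk : Subsingleton (Derivation Λ k k))
    {F : ArtFun.Art Λ k ⥤ Type v} (h0 : ArtFun.H0 F) (h2 : ArtFun.Heps F)
    {R : ArtFun.CRing Λ k} (ξ : ArtFun.Family R.carrier R.res F) (hξ : ξ.IsMinimalVersal) :
    ArtFun.IsMiniversal ξ := by
  have hsurj := H9Art.versal_surjective ξ hξ.1 h0
  refine ⟨hξ.1, fun θ₁ θ₂ h12 => ?_, hsurj _⟩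
  by_contra hne
  haveI := h0.2
  -- the difference θ of θ₁ and θ₂
  let mi : ArtFun.Art.dual2 Λ k ⟶ ArtFun.Art.dual Λ k :=
    ⟨ArtFun.Art.tszeMap (LinearMap.fst k k k - LinearMap.snd k k k), AlgHom.ext fun _ => rfl⟩
  let dg : ArtFun.Art.dual Λ k ⟶ ArtFun.Art.dual2 Λ k :=
    ⟨ArtFun.Art.tszeMap (LinearMap.id.prod LinearMap.id), AlgHom.ext fun _ => rfl⟩
  let zd : ArtFun.Art.dual Λ k ⟶ ArtFun.Art.dual Λ k := ArtFun.Art.toBase _ ≫ ArtFun.Art.baseToDual
  have hdg₁ : dg ≫ ArtFun.Art.pr₁ = 𝟙 _ := ArtFun.Art.hom_ext (AlgHom.ext fun _ => rfl)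
  have hdg₂ : dg ≫ ArtFun.Art.pr₂ = 𝟙 _ := ArtFun.Art.hom_ext (AlgHom.ext fun _ => rfl)
  have hmi : dg ≫ mi = zd := ArtFun.Art.hom_ext (AlgHom.ext fun x => TrivSqZeroExt.ext rfl
    ((sub_self (TrivSqZeroExt.snd x)).trans (TrivSqZeroExt.snd_inl k _).symm))
  obtain ⟨pair, hp₁, hp₂⟩ := H9Art.exists_liftHomSet ArtFun.Art.isFibreProd_dual2 θ₁ θ₂ (Subsingleton.elim _ _)
  set θ := ArtFun.HomSet.map mi pair with hθdef
  have hθval : ∀ r, (θ.1 r).snd = (θ₁.1 r).snd - (θ₂.1 r).snd := fun r => by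
    rw [hθdef, ← hp₁, ← hp₂]; rfl
  have hθξ : ξ.app _ θ = F.map zd (ξ.app _ θ₁) := by
    have h : ξ.app _ pair = F.map dg (ξ.app _ θ₁) := by
      refine (H9Art.cmp_injective_iff ArtFun.Art.isFibreProd_dual2).1 (h2 _ _ ArtFun.Art.isFibreProd_dual2).1 _ _ ?_ ?_
      · rw [← ξ.natural, hp₁, ← CategoryTheory.FunctorToTypes.map_comp_apply, hdg₁, CategoryTheory.FunctorToTypes.map_id_apply]
      · rw [← ξ.natural, hp₂, ← h12, ← CategoryTheory.FunctorToTypes.map_comp_apply, hdg₂, CategoryTheory.FunctorToTypes.map_id_apply]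
    rw [hθdef, ξ.natural, h, ← CategoryTheory.FunctorToTypes.map_comp_apply, hmi]
  obtain ⟨a₁, a₂, a₃, a₄⟩ := H9Art.snd_hom_rules θ
  have hex : ∃ t ∈ IsLocalRing.maximalIdeal R.carrier, (θ.1 t).snd ≠ 0 := by
    by_contra hcon
    have hm : ∀ t ∈ IsLocalRing.maximalIdeal R.carrier, (θ.1 t).snd = 0 := fun t ht => by
      by_contra h'
      exact hcon ⟨t, ht, h'⟩
    choose sec hsec using R.res_surjective
    have hindep : ∀ r, (θ.1 r).snd = (θ.1 (sec (R.res r))).snd := fun r => by
      have h := hm (r - sec (R.res r)) ((ArtFun.CRing.mem_maximalIdeal_iff R _).2 (by rw [map_sub, hsec, sub_self]))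
      have h' := a₁ (r - sec (R.res r)) (sec (R.res r))
      rw [sub_add_cancel, h, zero_add] at h'
      exact h'
    let L : k →ₗ[Λ] k :=
      { toFun := fun c => (θ.1 (sec c)).snd
        map_add' := fun c d => by
          have h := hindep (sec c + sec d)
          rw [map_add R.res, hsec, hsec, a₁] at h
          exact h.symm
        map_smul' := fun l c => by
          have h := hindep (l • sec c)
          rw [map_smul R.res, hsec, a₂] at h
          exact h.symm }
    let D : Derivation Λ k k := Derivation.mk' L (fun c d => by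
      have h := hindep (sec c * sec d)
      rw [map_mul R.res, hsec, hsec, a₃, hsec, hsec] at h
      exact h.symm)
    have hD : D = 0 := Subsingleton.elim _ _
    refine hne (Subtype.ext (AlgHom.ext fun r => TrivSqZeroExt.ext
      (((H9Art.snd_hom_rules θ₁).2.2.2 r).trans ((H9Art.snd_hom_rules θ₂).2.2.2 r).symm) ?_))
    have h' : (θ.1 r).snd = 0 := (hindep r).trans (DFunLike.congr_fun hD (R.res r))
    exact sub_eq_zero.1 ((hθval r).symm.trans h')
  obtain ⟨t, htm, ht⟩ := hex
  have hsq : IsLocalRing.maximalIdeal (R.trunc 1) ^ 2 = ⊥ := by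
    rw [eq_bot_iff]
    calc IsLocalRing.maximalIdeal (R.trunc 1) ^ 2
        ≤ ((IsLocalRing.maximalIdeal R.carrier).map (Ideal.Quotient.mk (R.mpow 1))) ^ 2 :=
          Ideal.pow_right_mono (ArtFun.CRing.maximalIdeal_quot_le R 1) _
      _ = (R.mpow 1).map (Ideal.Quotient.mk (R.mpow 1)) := by rw [← Ideal.map_pow]
      _ = ⊥ := Ideal.map_quotient_self _
  set E := R.trunc 1
  set T : E := (R.truncHom 1).1 t
  have hTm : T ∈ IsLocalRing.maximalIdeal E := (ArtFun.Art.mem_maximalIdeal_iff E T).2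
    ((congrArg (fun s : R.carrier →ₐ[Λ] k => s t) (R.truncHom 1).2).trans ((ArtFun.CRing.mem_maximalIdeal_iff R t).1 htm))
  have hfac : ∃ g : E ⟶ ArtFun.Art.dual Λ k, ArtFun.HomSet.map g (R.truncHom 1) = θ := by
    have hk : ∀ r ∈ R.mpow 1, θ.1 r = 0 := by
      intro r hr
      have hle : (IsLocalRing.maximalIdeal R.carrier).map θ.1 ≤ IsLocalRing.maximalIdeal (ArtFun.Art.dual Λ k) :=
        Ideal.map_le_iff_le_comap.2 fun a ha => by
          rw [Ideal.mem_comap, ArtFun.Art.mem_maximalIdeal_iff]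
          exact (congrArg (fun s : R.carrier →ₐ[Λ] k => s a) θ.2).trans ((ArtFun.CRing.mem_maximalIdeal_iff R a).1 ha)
      have h1 : θ.1 r ∈ IsLocalRing.maximalIdeal (ArtFun.Art.dual Λ k) ^ 2 :=
        Ideal.pow_right_mono hle 2 (Ideal.map_pow θ.1 _ 2 ▸ Ideal.mem_map_of_mem θ.1 hr)
      rw [pow_two] at h1
      refine Submodule.mul_induction_on h1 (fun x hx y hy => ?_) (fun x y hx hy => by rw [hx, hy, add_zero])
      have hx' : TrivSqZeroExt.fst x = 0 := (ArtFun.Art.mem_maximalIdeal_iff _ x).1 hx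
      have hy' : TrivSqZeroExt.fst y = 0 := (ArtFun.Art.mem_maximalIdeal_iff _ y).1 hy
      refine TrivSqZeroExt.ext ?_ ?_
      · exact (TrivSqZeroExt.fst_mul x y).trans (by rw [hx', zero_mul]; rfl)
      · exact (DualNumber.snd_mul x y).trans (by rw [hx', hy', zero_mul, mul_zero, add_zero]; rfl)
    exact ⟨⟨Ideal.Quotient.liftₐ (R.mpow 1) θ.1 hk, AlgHom.ext fun x => by
      obtain ⟨a, rfl⟩ := Ideal.Quotient.mk_surjective x
      exact congrArg (fun s : R.carrier →ₐ[Λ] k => s a) θ.2⟩, Subtype.ext (AlgHom.ext fun _ => rfl)⟩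
  obtain ⟨g, hg⟩ := hfac
  set c : k := (θ.1 t).snd with hc
  obtain ⟨P, pE, pD, hP⟩ := H9Art.exists_fibreProd (ArtFun.Art.toBase E) (ArtFun.Art.toBase (ArtFun.Art.dual Λ k))
    (H9Art.toBase_surjective _)
  have hmulT : ∀ {a b : E}, E.res a = E.res b → a * T = b * T := fun h => H9Art.mul_eq_mul_of_res_eq hsq h hTm
  let sec := Function.surjInv E.res_surjective
  have hsec : ∀ a, E.res (sec a) = a := Function.surjInv_eq E.res_surjective
  have hmulsnd : ∀ x y : ArtFun.Art.dual Λ k, TrivSqZeroExt.snd (x * y) =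
      TrivSqZeroExt.fst x * TrivSqZeroExt.snd y + TrivSqZeroExt.snd x * TrivSqZeroExt.fst y := fun x y => DualNumber.snd_mul x y
  let Φ : P →ₐ[Λ] E :=
    { toFun := fun x => pE x + sec ((pD x).snd) * T
      map_one' := by
        have h1 : (pD.toAlgHom 1).snd = 0 := by rw [map_one]; exact TrivSqZeroExt.snd_one
        have h2 := hmulT (a := sec ((pD.toAlgHom 1).snd)) (b := 0) (by rw [hsec, h1, map_zero])
        change pE.toAlgHom 1 + sec ((pD.toAlgHom 1).snd) * T = 1
        rw [h2, zero_mul, map_one, add_zero]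
      map_mul' := fun x y => by
        change pE.toAlgHom (x * y) + sec ((pD.toAlgHom (x * y)).snd) * T =
          (pE.toAlgHom x + sec ((pD.toAlgHom x).snd) * T) * (pE.toAlgHom y + sec ((pD.toAlgHom y).snd) * T)
        have hT2 : T * T = 0 := by
          have := Ideal.mul_mem_mul hTm hTm
          rw [← pow_two, hsq] at this
          exact this
        have h2 := hmulT (a := sec ((pD.toAlgHom (x * y)).snd))
          (b := pE.toAlgHom x * sec ((pD.toAlgHom y).snd) + pE.toAlgHom y * sec ((pD.toAlgHom x).snd)) (by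
            simp only [map_add, map_mul, hsec]
            rw [hmulsnd,
              show (TrivSqZeroExt.fst (pD.toAlgHom x) : k) = E.res (pE.toAlgHom x) from
                (ArtFun.Art.res_app pD x).trans (ArtFun.Art.res_app pE x).symm,
              show (TrivSqZeroExt.fst (pD.toAlgHom y) : k) = E.res (pE.toAlgHom y) from
                (ArtFun.Art.res_app pD y).trans (ArtFun.Art.res_app pE y).symm]
            ring)
        rw [h2, map_mul]
        linear_combination -(sec ((pD.toAlgHom x).snd) * sec ((pD.toAlgHom y).snd)) * hT2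
      map_zero' := by
        have h1 : (pD.toAlgHom 0).snd = 0 := by rw [map_zero]; exact TrivSqZeroExt.snd_zero
        have h2 := hmulT (a := sec ((pD.toAlgHom 0).snd)) (b := 0) (by rw [hsec, h1, map_zero])
        change pE.toAlgHom 0 + sec ((pD.toAlgHom 0).snd) * T = 0
        rw [h2, zero_mul, map_zero, add_zero]
      map_add' := fun x y => by
        change pE.toAlgHom (x + y) + sec ((pD.toAlgHom (x + y)).snd) * T =
          (pE.toAlgHom x + sec ((pD.toAlgHom x).snd) * T) + (pE.toAlgHom y + sec ((pD.toAlgHom y).snd) * T)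
        have h2 := hmulT (a := sec ((pD.toAlgHom (x + y)).snd))
          (b := sec ((pD.toAlgHom x).snd) + sec ((pD.toAlgHom y).snd)) (by
            simp only [map_add, hsec]; rfl)
        rw [h2, map_add]; ring
      commutes' := fun l => by
        change pE.toAlgHom (algebraMap Λ P l) + sec ((pD.toAlgHom (algebraMap Λ P l)).snd) * T = _
        have h1 : (pD.toAlgHom (algebraMap Λ P l)).snd = 0 := by
          rw [AlgHom.commutes]
          exact TrivSqZeroExt.snd_inl k _
        have h2 := hmulT (a := sec ((pD.toAlgHom (algebraMap Λ P l)).snd)) (b := 0) (by rw [hsec, h1, map_zero])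
        rw [h2, zero_mul, AlgHom.commutes, add_zero] }
  let Φ' : P ⟶ E := ⟨Φ, AlgHom.ext fun x => by
    change E.res (pE x + sec ((pD x).snd) * T) = P.res x
    rw [map_add, map_mul, (ArtFun.Art.mem_maximalIdeal_iff E T).1 hTm, mul_zero, add_zero]
    exact ArtFun.Art.res_app pE x⟩
  let gd : E ⟶ ArtFun.Art.dual Λ k := g ≫ ArtFun.Art.scale (-c⁻¹)
  let gz : E ⟶ ArtFun.Art.dual Λ k := ArtFun.Art.toBase E ≫ ArtFun.Art.baseToDual
  obtain ⟨τ, hτ, hτ'⟩ := H9Art.exists_lift hP (𝟙 E) gd ((ArtFun.Art.eq_toBase _).trans (ArtFun.Art.eq_toBase _).symm)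
  obtain ⟨τ₀, hτ₀, hτ₀'⟩ := H9Art.exists_lift hP (𝟙 E) gz ((ArtFun.Art.eq_toBase _).trans (ArtFun.Art.eq_toBase _).symm)
  have hid : τ₀ ≫ Φ' = 𝟙 E := ArtFun.Art.hom_ext (AlgHom.ext fun x => by
    change pE (τ₀ x) + sec ((pD (τ₀ x)).snd) * T = x
    rw [show pE (τ₀ x) = (τ₀ ≫ pE) x from rfl, show pD (τ₀ x) = (τ₀ ≫ pD) x from rfl, hτ₀, hτ₀']
    have h2 := hmulT (a := sec ((gz x).snd)) (b := 0) (by
      rw [hsec, map_zero]; exact TrivSqZeroExt.snd_inl k _)
    change x + sec ((gz x).snd) * T = x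
    rw [h2, zero_mul, add_zero])
  set η₁ := ξ.app E (R.truncHom 1)
  have hη : F.map (τ ≫ Φ') η₁ = η₁ := by
    have hgd : F.map gd η₁ = F.map gz η₁ := by
      have e1 : g ≫ zd ≫ ArtFun.Art.scale (-c⁻¹) = gz := ArtFun.Art.hom_ext (AlgHom.ext fun x => TrivSqZeroExt.ext
        (ArtFun.Art.res_app g x) (smul_zero (-c⁻¹) : (-c⁻¹) • (0 : k) = 0))
      have e2 : F.map g η₁ = F.map zd (ξ.app _ θ₁) := by rw [← ξ.natural, hg, hθξ]
      have e3 : F.map g η₁ = F.map zd (F.map g η₁) := by
        rw [e2, ← CategoryTheory.FunctorToTypes.map_comp_apply F zd zd]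
        congr 2
      rw [← e1, CategoryTheory.FunctorToTypes.map_comp_apply, CategoryTheory.FunctorToTypes.map_comp_apply,
        CategoryTheory.FunctorToTypes.map_comp_apply, ← e3]
    have : F.map τ η₁ = F.map τ₀ η₁ := by
      refine (H9Art.cmp_injective_iff hP).1 (h2 pE pD hP).1 _ _ ?_ ?_
      · rw [← CategoryTheory.FunctorToTypes.map_comp_apply, ← CategoryTheory.FunctorToTypes.map_comp_apply, hτ, hτ₀]
      · rw [← CategoryTheory.FunctorToTypes.map_comp_apply, ← CategoryTheory.FunctorToTypes.map_comp_apply, hτ', hτ₀', hgd]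
    rw [CategoryTheory.FunctorToTypes.map_comp_apply, this, ← CategoryTheory.FunctorToTypes.map_comp_apply, hid,
      CategoryTheory.FunctorToTypes.map_id_apply]
  have hkill : (τ ≫ Φ') T = 0 := by
    change pE (τ T) + sec ((pD (τ T)).snd) * T = 0
    rw [show pE (τ T) = (τ ≫ pE) T from rfl, show pD (τ T) = (τ ≫ pD) T from rfl, hτ, hτ']
    have hgT : (g T).snd = c := congrArg (fun s : ArtFun.HomSet R.carrier R.res (ArtFun.Art.dual Λ k) => (s.1 t).snd) hg
    have h2 := hmulT (a := sec ((gd T).snd)) (b := -1) (by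
      rw [hsec, map_neg, map_one]
      change -c⁻¹ * (g T).snd = -1
      rw [hgT, neg_mul, inv_mul_cancel₀ ht])
    change T + sec ((gd T).snd) * T = 0
    rw [h2, neg_one_mul, add_neg_cancel]
  have hT0 : T ≠ 0 := fun e => ht (by
    have h := congrArg (fun s : ArtFun.HomSet R.carrier R.res (ArtFun.Art.dual Λ k) => (s.1 t).snd) hg
    refine h.symm.trans ?_
    change (g.toAlgHom T).snd = 0
    rw [e, map_zero]; rfl)
  -- lift the endomorphism to `R` along versality
  let N : ℕ → ℕ := fun n => n + 1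
  have step : ∀ n (φ : ArtFun.HomSet R.carrier R.res (R.trunc (n + 1))), ξ.app _ φ = ξ.app _ (R.truncHom (n + 1)) →
      ∃ ψ : ArtFun.HomSet R.carrier R.res (R.trunc (n + 1 + 1)),
        ArtFun.HomSet.map (R.truncMap (n + 1)) ψ = φ ∧ ξ.app _ ψ = ξ.app _ (R.truncHom (n + 1 + 1)) := fun n φ hφ =>
    hξ.1 _ (H9Art.truncMap_surjective R (n + 1)) φ _
      (by rw [hφ, ← ξ.natural, ArtFun.CRing.truncMap_truncHom])
  choose next hn₁ hn₂ using step
  let φ₁ : ArtFun.HomSet R.carrier R.res E := ArtFun.HomSet.map (τ ≫ Φ') (R.truncHom 1)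
  have hφ₁ : ξ.app _ φ₁ = ξ.app _ (R.truncHom 1) := by rw [ξ.natural]; exact hη
  let u : ∀ n, {φ : ArtFun.HomSet R.carrier R.res (R.trunc (n + 1)) // ξ.app _ φ = ξ.app _ (R.truncHom (n + 1))} :=
    fun n => Nat.rec ⟨φ₁, hφ₁⟩ (fun n a => ⟨next n a.1 a.2, hn₂ n a.1 a.2⟩) n
  let v : ∀ n, ArtFun.HomSet R.carrier R.res (R.trunc n) := fun n => ArtFun.HomSet.map (R.truncMap n) (u n).1
  have hv : ∀ n, ArtFun.HomSet.map (R.truncMap n) (v (n + 1)) = v n := fun n =>
    congrArg (ArtFun.HomSet.map (R.truncMap n)) (hn₁ n (u n).1 (u n).2)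
  obtain ⟨h, hh, hhn⟩ := H9Art.exists_lim R v hv
  have hpush : ξ.toFormalElt.push h hh = ξ.toFormalElt := by
    refine ArtFun.FormalElt.ext' fun n => ?_
    have e : ξ.app _ (v n) = ξ.app _ (R.truncHom n) := by
      rw [ξ.natural, (u n).2, ← ξ.natural, ArtFun.CRing.truncMap_truncHom]
    change F.map _ (ξ.app _ _) = ξ.app _ _
    rw [← ξ.natural, ← e]
    exact congrArg (ξ.app _) (Subtype.ext ((AlgHom.ext fun _ => rfl).trans (hhn n)))
  have hhs : Function.Surjective h := hξ.2 R ξ.toFormalElt h hh hpush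
  have he : Function.Surjective (τ ≫ Φ') := fun a => by
    obtain ⟨r, rfl⟩ := H9Art.truncHom_surjective R 1 a
    obtain ⟨s, rfl⟩ := hhs r
    refine ⟨(R.truncHom 1).1 s, ?_⟩
    refine Eq.trans ?_ (congrArg (fun q : R.carrier →ₐ[Λ] E => q s) (hhn 1)).symm
    exact (congrArg (fun q : ArtFun.HomSet R.carrier R.res E => q.1 s) (hn₁ 0 φ₁ hφ₁)).symm
  exact hT0 (H9Art.injective_of_surjective_endo (τ ≫ Φ').toAlgHom.toRingHom he (hkill.trans (map_zero (τ ≫ Φ').toAlgHom).symm))

end Groth.Agent.S12749
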