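<<<<<<< HEAD
import Groth.Statements.S12754
import Mathlib

set_option autoImplicit false
set_option backward.isDefEq.respectTransparency.types false
set_option maxHeartbeats 1000000
set_option linter.all false
=======
-- Template for statement S12754 (row 12753; see the milestone table for weights).
-- Copy to Groth/Agent/S12754.lean and replace the sorry. The statement below is byte-identical to the frozen
-- statement ArtFun.GrothFrozen.S12754 (Groth/Statements/S12754.lean; the theorem ArtFun.nonempty_iso_tensorLeft_of_linear);
-- the grader kernel-checks Groth.Agent.S12754.result against that frozen type. Keep the theorem IN THIS FILE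
-- (a `result` declared elsewhere and merely imported here is not credited); helpers may live anywhere
-- under Groth/Agent/.
import Groth.Statements.S12754
-- import your own Groth.Agent.* helpers here

set_option autoImplicit false
set_option backward.isDefEq.respectTransparency.types false
>>>>>>> e6911127 (S12754 linear functor = tensor)
universe u
open CategoryTheory
open ArtFun

namespace Groth.Agent.S12754
<<<<<<< HEAD
open Groth.Agent
=======
>>>>>>> e6911127 (S12754 linear functor = tensor)

/-- A K-linear functor L from finite-dimensional K-vector spaces to K-vector spaces (K a field) is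
isomorphic to the functor V ↦ L(K) ⊗_K V. (Existence of an isomorphism of functors, which is how the
published statement reads; the natural choice sends x ⊗ v to L(f_v)(x) with f_v : K → V, 1 ↦ v.) -/
theorem result (K : Type u) [Field K]
    (L : FGModuleCat.{u} K ⥤ ModuleCat.{u} K) [L.Additive] [Functor.Linear K L] :
    Nonempty (L ≅ (ModuleCat.isFG.{u} K).ι ⋙ MonoidalCategory.tensorLeft (L.obj (FGModuleCat.of K K))) := by
  classical
<<<<<<< HEAD
  let W := FGModuleCat.of K K
  have hadd : ∀ {A B : FGModuleCat.{u} K} (a b : A ⟶ B), (a + b).hom = a.hom + b.hom := fun a b => (ModuleCat.isFG.{u} K).ι.map_add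
  have hsmul : ∀ {A B : FGModuleCat.{u} K} (c : K) (a : A ⟶ B), (c • a).hom = c • a.hom := fun c a => (ModuleCat.isFG.{u} K).ι.map_smul c a
  have hsum : ∀ {A B : FGModuleCat.{u} K} {n : ℕ} (a : Fin n → (A ⟶ B)), (∑ i, a i).hom = ∑ i, (a i).hom := fun a => (ModuleCat.isFG.{u} K).ι.map_sum a Finset.univ
  let sp : ∀ (V : FGModuleCat.{u} K), V.obj → (W ⟶ V) := fun V v => ObjectProperty.homMk (ModuleCat.ofHom (LinearMap.toSpanSingleton K V.obj v))
  have sp_add : ∀ V (v w : (V : FGModuleCat.{u} K).obj), sp V (v + w) = sp V v + sp V w := by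
    intro V v w; apply ObjectProperty.hom_ext; rw [hadd]; apply ModuleCat.hom_ext; apply LinearMap.ext_ring; simp [sp]
  have sp_smul : ∀ V (c : K) (v : (V : FGModuleCat.{u} K).obj), sp V (c • v) = c • sp V v := by
    intro V c v; apply ObjectProperty.hom_ext; rw [hsmul]; apply ModuleCat.hom_ext; apply LinearMap.ext_ring; simp [sp]
  let τ : ∀ V : FGModuleCat.{u} K, (L.obj W : ModuleCat K) →ₗ[K] V.obj →ₗ[K] (L.obj V : ModuleCat K) := fun V =>
    LinearMap.mk₂ K (fun l v => (L.map (sp V v)).hom l)
      (fun l l' v => map_add _ _ _) (fun c l v => map_smul _ _ _)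
      (fun l v w => by rw [sp_add, L.map_add]; rfl) (fun c l v => by rw [sp_smul, L.map_smul]; rfl)
  have hnat : ∀ {V V' : FGModuleCat.{u} K} (g : V ⟶ V') (l : (L.obj W : ModuleCat K)) (v : V.obj), (L.map g).hom (τ V l v) = τ V' l (g.hom.hom v) := by
    intro V V' g l v
    show (L.map g).hom ((L.map (sp V v)).hom l) = (L.map (sp V' (g.hom.hom v))).hom l
    rw [show sp V' (g.hom.hom v) = sp V v ≫ g by ext; simp [sp], L.map_comp]
    rfl
  have hbij : ∀ V : FGModuleCat.{u} K, Function.Bijective (TensorProduct.lift (τ V)) := by
    intro V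
    haveI : Module.Finite K V.obj := V.property
    let b := Module.finBasis K V.obj
    let co : ∀ i, (V ⟶ W) := fun i => ObjectProperty.homMk (ModuleCat.ofHom (b.coord i))
    let inv' : (L.obj V : ModuleCat K) →ₗ[K] TensorProduct K (L.obj W : ModuleCat K) V.obj :=
      ∑ i, ((TensorProduct.mk K _ _).flip (b i)) ∘ₗ (L.map (co i)).hom
    refine ⟨Function.LeftInverse.injective (g := inv') ?_, Function.RightInverse.surjective (g := inv') ?_⟩
    · intro t
      induction t using TensorProduct.induction_on with
      | zero => simp
      | add x y hx hy => simp only [map_add, hx, hy]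
      | tmul l v =>
        have e : ∀ i, (L.map (co i)).hom (τ V l v) = b.repr v i • l := by
          intro i
          show (L.map (co i)).hom ((L.map (sp V v)).hom l) = b.repr v i • l
          have : sp V v ≫ co i = b.repr v i • 𝟙 W := by
            apply ObjectProperty.hom_ext; rw [hsmul]; apply ModuleCat.hom_ext; apply LinearMap.ext_ring; simp [sp, co, W]
          have h2 := congrArg L.map this
          rw [L.map_comp, L.map_smul, L.map_id] at h2
          exact congrArg (fun f => f.hom l) h2
        simp only [TensorProduct.lift.tmul, inv', LinearMap.sum_apply, LinearMap.comp_apply, e, LinearMap.flip_apply, TensorProduct.mk_apply, TensorProduct.smul_tmul]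
        rw [← TensorProduct.tmul_sum, b.sum_repr]
    · intro y
      simp only [inv', LinearMap.sum_apply, LinearMap.comp_apply, LinearMap.flip_apply, TensorProduct.mk_apply, map_sum, TensorProduct.lift.tmul]
      have hid : ∑ i, co i ≫ sp V (b i) = 𝟙 V := by
        apply ObjectProperty.hom_ext
        apply ModuleCat.hom_ext
        ext v
        have : ((∑ i, co i ≫ sp V (b i)).hom.hom : V.obj →ₗ[K] V.obj) v = ∑ i, b.repr v i • b i := by
          rw [hsum, ModuleCat.hom_sum, LinearMap.sum_apply]
          simp [co, sp, W]
          all_goals rfl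
        rw [this, b.sum_repr]
        rfl
      have h2 := congrArg L.map hid
      rw [L.map_sum, L.map_id] at h2
      have h3 := congrArg (fun f => f.hom y) h2
      simp only [L.map_comp, ModuleCat.hom_sum, LinearMap.sum_apply] at h3
      exact h3
  let e : ∀ V : FGModuleCat.{u} K, ((ModuleCat.isFG.{u} K).ι ⋙ MonoidalCategory.tensorLeft (L.obj W)).obj V ≅ L.obj V := fun V =>
    (LinearEquiv.ofBijective _ (hbij V)).toModuleIso
  refine ⟨(NatIso.ofComponents e ?_).symm⟩
  intro V V' g
  apply ModuleCat.hom_ext
  apply TensorProduct.ext'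
  intro l v
  exact (hnat g l v).symm
=======
  let O : FGModuleCat.{u} K := FGModuleCat.of K K
  let ι := (ModuleCat.isFG.{u} K).ι
  have hA : ∀ {V W : FGModuleCat.{u} K} (f g : V ⟶ W), (f + g).hom = f.hom + g.hom := fun f g => rfl
  have hM : ∀ {V W : FGModuleCat.{u} K} (c : K) (f : V ⟶ W), (c • f).hom = c • f.hom := fun c f => rfl
  have hS : ∀ {V W : FGModuleCat.{u} K} {n : ℕ} (f : Fin n → (V ⟶ W)), (∑ i, f i).hom = ∑ i, (f i).hom := fun {V W n} f =>
    map_sum ((ModuleCat.isFG.{u} K).ι.mapAddHom (X := V) (Y := W)) f Finset.univ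
  let hat : ∀ V : FGModuleCat.{u} K, V.obj → (O ⟶ V) := fun V v =>
    ObjectProperty.homMk (ModuleCat.ofHom (LinearMap.toSpanSingleton K V.obj v))
  have hadd : ∀ V v w, hat V (v + w) = hat V v + hat V w := fun V v w => by
    apply ι.map_injective; ext; simp [hat, ι, hA, LinearMap.toSpanSingleton_apply, smul_add]
  have hsmul : ∀ V (c : K) v, hat V (c • v) = c • hat V v := fun V c v => by
    apply ι.map_injective; ext; simp [hat, ι, hM, LinearMap.toSpanSingleton_apply, smul_comm]
  let B : ∀ V : FGModuleCat.{u} K, (L.obj O) →ₗ[K] V.obj →ₗ[K] (L.obj V) := fun V =>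
    LinearMap.mk₂ K (fun x v => (L.map (hat V v)).hom x)
      (fun x y v => map_add _ _ _) (fun c x v => map_smul _ _ _)
      (fun x v w => by rw [hadd, Functor.map_add]; rfl)
      (fun c x v => by rw [hsmul, Functor.map_smul]; rfl)
  let η : ∀ V : FGModuleCat.{u} K, (ι ⋙ MonoidalCategory.tensorLeft (L.obj O)).obj V ⟶ L.obj V := fun V =>
    ModuleCat.ofHom (TensorProduct.lift (B V))
  have hηa : ∀ V (x : L.obj O) (v : V.obj), (η V).hom (x ⊗ₜ[K] v) = (L.map (hat V v)).hom x := fun V x v => rfl
  have hiso : ∀ V, IsIso (η V) := fun V => by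
    haveI : Module.Finite K V.obj := V.property
    suffices hb : Function.Bijective (η V).hom from (LinearEquiv.ofBijective (η V).hom hb).toModuleIso.isIso_hom
    let b := Module.finBasis K V.obj
    let co : Fin (Module.finrank K V.obj) → (V ⟶ O) := fun i => ObjectProperty.homMk (ModuleCat.ofHom (b.coord i))
    let inv : L.obj V →ₗ[K] TensorProduct K (L.obj O) V.obj :=
      ∑ i, ((TensorProduct.mk K (L.obj O) V.obj).flip (b i)).comp (L.map (co i)).hom
    have hid : ∑ i, co i ≫ hat V (b i) = 𝟙 V := by
      apply (ι.map_injective)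
      ext v
      simp [co, hat, ι, hS]
      exact b.sum_repr v
    refine Function.bijective_iff_has_inverse.2 ⟨inv, ?_, ?_⟩
    · intro z
      suffices inv.comp (η V).hom = LinearMap.id from LinearMap.congr_fun this z
      refine TensorProduct.ext' fun x v => ?_
      show inv ((η V).hom (x ⊗ₜ v)) = x ⊗ₜ v
      rw [hηa]
      have hc : ∀ i, hat V v ≫ co i = b.repr v i • 𝟙 O := fun i => by
        ext
        simp [co, hat, O, hM, LinearMap.toSpanSingleton_apply]
      have : ∀ i, (L.map (co i)).hom ((L.map (hat V v)).hom x) = b.repr v i • x := fun i => by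
        have := congrArg (fun f => (L.map f).hom x) (hc i)
        simp only [Functor.map_comp, Functor.map_smul, CategoryTheory.Functor.map_id] at this
        exact this
      simp only [inv, LinearMap.sum_apply, LinearMap.comp_apply, LinearMap.flip_apply, TensorProduct.mk_apply, this]
      simp only [TensorProduct.smul_tmul, ← TensorProduct.tmul_sum, b.sum_repr]
    · intro y
      show (η V).hom (inv y) = y
      simp only [inv, LinearMap.sum_apply, LinearMap.comp_apply, LinearMap.flip_apply, TensorProduct.mk_apply, map_sum, hηa]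
      have := congrArg (fun f => (L.map f).hom y) hid
      simp only [Functor.map_sum, Functor.map_comp, CategoryTheory.Functor.map_id] at this
      simpa using this
  refine ⟨(NatIso.ofComponents (fun V => @asIso _ _ _ _ (η V) (hiso V)) (fun {V W} f => ?_)).symm⟩
  apply ModuleCat.hom_ext
  refine TensorProduct.ext' fun x v => ?_
  show (η W).hom (x ⊗ₜ f.hom.hom v) = (L.map f).hom ((η V).hom (x ⊗ₜ v))
  rw [hηa, hηa]
  have : hat W (f.hom.hom v) = hat V v ≫ f := by
    ext; simp [hat, LinearMap.toSpanSingleton_apply]
  rw [this, Functor.map_comp]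
  rfl
>>>>>>> e6911127 (S12754 linear functor = tensor)

end Groth.Agent.S12754
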