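import Groth.Statements.S12757
import Groth.Agent.Lib.H9ArtLift
import Groth.Agent.S12720

set_option autoImplicit false
set_option backward.isDefEq.respectTransparency.types false
universe u v
open CategoryTheory
open ArtFun

namespace Groth.Agent.S12757

/-- For functors, let F be a functor on Artinian local Λ-algebras with residue field k with F(k) a
point. A versal family of F over a complete local Noetherian R with residue field k which is
bijective on tangent spaces (a hull; bijectivity implies bijectivity on orbits of the derivations of
k) is minimal: every morphism of coefficient rings R' → R along which some formal element over R'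
pushes forward to the formal element of the family is surjective. -/
theorem result {Λ : Type u} {k : Type u} [CommRing Λ] [Field k] [Algebra Λ k]
    [IsNoetherianRing Λ] [Module.Finite Λ k]
    {F : ArtFun.Art Λ k ⥤ Type v} (h0 : ArtFun.H0 F) (P : ArtFun.Hull F) :
    P.family.IsMinimalVersal := by
  refine ⟨P.miniversal.1, fun R' u f hf hu => ?_⟩
  obtain ⟨g, hg, hgu⟩ := Groth.Agent.S12720.result h0 P.ring P.family P.miniversal.1 R' u
  have hfg : P.ring.res.comp (f.comp g) = P.ring.res := by rw [← AlgHom.comp_assoc, hf, hg]
  have hfor : (P.family.along (f.comp g) hfg).toFormalElt = P.family.toFormalElt := by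
    rw [← hu, ← hgu]
    refine ArtFun.FormalElt.ext' fun n => ?_
    change P.family.app _ _ = F.map _ (P.family.app _ _)
    rw [← P.family.natural]
    rfl
  refine H9Art.surjective_of_cotangent_cring R' P.ring f hf
    (H9Art.cotangent_of_injective_dual R' P.ring f hf fun φ hφ a => ?_)
  have h1 := H9Art.family_ext P.ring hfor (ArtFun.Art.dual Λ k) φ
  have h2 := congrArg (fun t : ArtFun.HomSet P.ring.carrier P.ring.res (ArtFun.Art.dual Λ k) => (t.1 a).snd)
    (P.miniversal.2.1 h1)
  exact h2.symm.trans (hφ (g a))

end Groth.Agent.S12757
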