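import Groth.Statements.S12758
import Groth.Agent.Lib.H9ArtLift
import Groth.Agent.S12720

set_option autoImplicit false
set_option backward.isDefEq.respectTransparency.types false
universe u v
open CategoryTheory
open ArtFun

namespace Groth.Agent.S12758

/-- For functors, two minimal versal families of a functor F on Artinian local Λ-algebras with residue
field k with F(k) a point — over complete local Noetherian coefficient rings R₁, R₂ with residue
field k — are isomorphic: there is an isomorphism R₁ ≅ R₂ over Λ, compatible with the augmentations,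
along which the formal element of the first family pushes forward to that of the second. -/
theorem result {Λ : Type u} {k : Type u} [CommRing Λ] [Field k] [Algebra Λ k]
    [IsNoetherianRing Λ] [Module.Finite Λ k]
    {F : ArtFun.Art Λ k ⥤ Type v} (h0 : ArtFun.H0 F) {R₁ R₂ : ArtFun.CRing Λ k}
    (ξ₁ : ArtFun.Family R₁.carrier R₁.res F) (ξ₂ : ArtFun.Family R₂.carrier R₂.res F)
    (h₁ : ξ₁.IsMinimalVersal) (h₂ : ξ₂.IsMinimalVersal) :
    ∃ (e : R₁.carrier ≃ₐ[Λ] R₂.carrier) (he : R₂.res.comp (e : R₁.carrier →ₐ[Λ] R₂.carrier) = R₁.res),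
      (ξ₁.along (e : R₁.carrier →ₐ[Λ] R₂.carrier) he).toFormalElt = ξ₂.toFormalElt := by
  have key : ∀ {R S : ArtFun.CRing Λ k} (ξ : ArtFun.Family R.carrier R.res F) (η : ArtFun.Family S.carrier S.res F),
      ArtFun.IsVersal ξ → η.IsMinimalVersal → ∃ (g : R.carrier →ₐ[Λ] S.carrier) (hg : S.res.comp g = R.res),
        (ξ.along g hg).toFormalElt = η.toFormalElt ∧ Function.Surjective g := by
    intro R S ξ η hξ hη
    obtain ⟨g, hg, hgη⟩ := Groth.Agent.S12720.result h0 R ξ hξ S η.toFormalElt
    refine ⟨g, hg, hgη, hη.2 R ξ.toFormalElt g hg ?_⟩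
    rw [← hgη]
    refine ArtFun.FormalElt.ext' fun n => ?_
    change F.map _ (ξ.app _ _) = ξ.app _ _
    rw [← ξ.natural]
    rfl
  obtain ⟨g, hg, hgη, hgs⟩ := key ξ₁ ξ₂ h₁.1 h₂
  obtain ⟨h, hh, -, hhs⟩ := key ξ₂ ξ₁ h₂.1 h₁
  have hinj : Function.Injective g :=
    Function.Injective.of_comp (H9Art.injective_of_surjective_endo (h.comp g).toRingHom (hhs.comp hgs))
  exact ⟨AlgEquiv.ofBijective g ⟨hinj, hgs⟩, hg, hgη⟩

end Groth.Agent.S12758
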