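import Groth.Statements.S12781
import Groth.Agent.Lib.H9StDescent

set_option autoImplicit false
set_option backward.isDefEq.respectTransparency.types false
open CategoryTheory AlgebraicGeometry
universe u
open AlgSt

namespace Groth.Agent.S12781

/-- Let `𝒳`, `𝒴`, `𝒵` be fibred in groupoids over `(Sch/S)`, `P` a property of morphisms of algebraic
spaces stable under base change and fppf local on the base, `f : 𝒳 ⟶ 𝒴` representable by algebraic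
spaces and `g : 𝒵 ⟶ 𝒴` a 1-morphism such that for every scheme `U` and every `y : (Sch/U) ⟶ 𝒴` there
is an fppf covering sieve of `U` on whose members `V ⟶ U` the restriction of `y` is 2-isomorphic to
`g ∘ z` for some `z : (Sch/V) ⟶ 𝒵`. If the base change `𝒵 ×_𝒴 𝒳 ⟶ 𝒵` has `P`, then `f` has `P`.
(Stability under base change is asked for every pullback square of fppf sheaves whose four corners
are algebraic spaces.) -/
theorem result {S : Scheme.{u}} {𝒳 𝒴 𝒵 : AlgSt.Cat S}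
    (h𝒳 : FibCat.IsFibGrpd 𝒳.p) (h𝒴 : FibCat.IsFibGrpd 𝒴.p) (h𝒵 : FibCat.IsFibGrpd 𝒵.p)
    (P : MorphismProperty (AlgSp.Sp S))
    (hPb : ∀ ⦃X₁ Y₁ X₂ Y₂ : AlgSp.Sp S⦄, AlgSp.IsAlgSpace X₁ → AlgSp.IsAlgSpace Y₁ → AlgSp.IsAlgSpace X₂ →
      AlgSp.IsAlgSpace Y₂ → ∀ (a : X₁ ⟶ Y₁) (b : Y₂ ⟶ Y₁) (a' : X₂ ⟶ Y₂) (b' : X₂ ⟶ X₁),
      IsPullback b' a' a b → P a → P a')
    (hP : AlgSp.IsLocalOnBase AlgSp.IsFppfCover P)
    (f : 𝒳 ⥤ᵇ 𝒴) (hf : AlgSt.RepByAlgSp1 f) (g : 𝒵 ⥤ᵇ 𝒴)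
    (hg : ∀ (U : Over S) (y : FibCat.overCat U ⥤ᵇ 𝒴), ∃ R ∈ (QuotSh.J Scheme.fppfPrecoverage S) U,
      ∀ ⦃V : Over S⦄ (h : V ⟶ U), R.arrows h →
        ∃ z : FibCat.overCat V ⥤ᵇ 𝒵, Nonempty (BasedFunctor.comp z g ≅ BasedFunctor.comp (AlgSt.overMap h) y))
    (h' : AlgSt.RepByAlgSpWith P (FibCat.fpFst g f)) :
    AlgSt.RepByAlgSpWith P f := by
  refine H9St.repWith_of_cover P hPb hP hf fun U y => ?_
  obtain ⟨R, hR, hlift⟩ := hg U y
  obtain ⟨ι, V, c, h₁, h₂, h₃, h₄⟩ := H9St.exists_family_of_mem hR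
  refine ⟨ι, V, c, h₁, h₂, h₃, fun i => ?_⟩
  obtain ⟨z, ⟨α⟩⟩ := hlift (c i) (h₄ i)
  haveI : FibCat.IsFibGrpd (FibCat.overCat (V i)).p := H9St.isFibGrpd_overCat (V i)
  haveI : FibCat.IsFibGrpd (FibCat.overCat U).p := H9St.isFibGrpd_overCat U
  haveI : FibCat.IsFibGrpd (FibCat.fp g f).p := H9Fib.isFibGrpd_fp _ _
  have hp := H9St.repByAlgSpWith_transport (f := f) (f' := FibCat.fpFst g f) (y := BasedFunctor.comp z g) (y' := z)
    (H9St.pasteFun z g f) (H9St.isEquivOver_paste z g f) rfl (h' (V i) z)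
  exact H9St.repByAlgSpWith_transport
    (H9St.fpCongr (g := BasedFunctor.comp (AlgSt.overMap (c i)) y) (f := f) (g' := BasedFunctor.comp z g) (f' := f)
      (BasedFunctor.id (FibCat.overCat (V i))) (BasedFunctor.id 𝒳) (BasedFunctor.id 𝒴) α (Iso.refl _))
    (H9St.isEquivOver_fpCongr _ _ (H9Fib.isEquivOver_id _) (H9Fib.isEquivOver_id _) (H9Fib.isEquivOver_id _)) rfl hp

end Groth.Agent.S12781
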