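import Groth.Statements.S12783
import Groth.Agent.Lib.LFibOver

set_option autoImplicit false
set_option backward.isDefEq.respectTransparency false
set_option backward.isDefEq.respectTransparency.types false
set_option linter.style.haveILetI false
open CategoryTheory CategoryTheory.Limits
universe v u
open FibCat

namespace Groth.Agent.S12783

/-- For a morphism `f : X ⟶ Y` in a category `C` with fibre products, the induced functor `C/X ⟶ C/Y`
over `C` is a representable 1-morphism. (The published statement is for schemes over a base; this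
row holds in any category with fibre products.) -/
theorem result {C : Type u} [Category.{v} C] [HasPullbacks C] {X Y : C} (f : X ⟶ Y) :
    FibCat.IsRepresentable1 (⟨Over.map f, Over.mapForget_eq f⟩ : FibCat.overCat X ⥤ᵇ FibCat.overCat Y) := by
  intro U G
  have hP : IsPullback (pullback.fst (LFib.ehom G) f) (pullback.snd (LFib.ehom G) f) (LFib.ehom G) f := IsPullback.of_hasPullback _ _
  let a : FibCat.overCat (pullback (LFib.ehom G) f) ⥤ᵇ FibCat.overCat U := ⟨Over.map (pullback.fst (LFib.ehom G) f), Over.mapForget_eq _⟩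
  let b : FibCat.overCat (pullback (LFib.ehom G) f) ⥤ᵇ FibCat.overCat X := ⟨Over.map (pullback.snd (LFib.ehom G) f), Over.mapForget_eq _⟩
  let F : FibCat.overCat X ⥤ᵇ FibCat.overCat Y := ⟨Over.map f, Over.mapForget_eq f⟩
  let M : FibCat.overCat U ⥤ᵇ FibCat.overCat Y := ⟨Over.map (LFib.ehom G), Over.mapForget_eq _⟩
  let e0 : BasedFunctor.comp a M ≅ BasedFunctor.comp b F := BasedNatIso.mkNatIso
    (NatIso.ofComponents (fun o => Over.isoMk (Iso.refl o.left) (by
      show 𝟙 o.left ≫ (o.hom ≫ pullback.snd _ _) ≫ f = (o.hom ≫ pullback.fst _ _) ≫ LFib.ehom G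
      rw [Category.id_comp, Category.assoc, Category.assoc, pullback.condition]))
      (fun {o o'} m => by apply Over.OverMorphism.ext; show m.left ≫ 𝟙 _ = 𝟙 _ ≫ m.left; simp))
    (fun o => IsHomLift.of_fac' _ _ _ rfl rfl (by simp; rfl))
  let e : BasedFunctor.comp a G ≅ BasedFunctor.comp b F := H9Fib.wLeft a (LFib.mapIso G).symm ≪≫ e0
  let E := FibCat.fpLift a b e
  have hE : FibCat.IsEquivOver E := by
    have hleft : ∀ {o o' : Over (pullback (LFib.ehom G) f)} (m : E.obj o ⟶ E.obj o'), m.hom.snd.left = m.hom.fst.left := fun {o o'} m => by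
      haveI := FibCat.fp_isHomLift_snd G F m
      have := IsHomLift.fac' (FibCat.overCat X).p ((FibCat.fp G F).p.map m) m.hom.snd
      simp at this
      exact this
    refine H9Fib.isEquivOver_of E ⟨fun {o o'} m => ?_⟩ ⟨fun {o o'} {s t} h => ?_⟩ fun η => ?_
    · have w1 : m.hom.fst.left ≫ o'.hom ≫ pullback.fst _ _ = o.hom ≫ pullback.fst _ _ := Over.w m.hom.fst
      have w2 : m.hom.snd.left ≫ o'.hom ≫ pullback.snd _ _ = o.hom ≫ pullback.snd _ _ := Over.w m.hom.snd
      rw [hleft m] at w2
      let k : o ⟶ o' := Over.homMk m.hom.fst.left (hP.hom_ext (by rw [Category.assoc]; exact w1) (by rw [Category.assoc]; exact w2))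
      refine ⟨k, ObjectProperty.hom_ext _ (CategoricalPullback.hom_ext (Over.OverMorphism.ext rfl) (Over.OverMorphism.ext ?_))⟩
      show m.hom.fst.left = m.hom.snd.left
      rw [hleft m]
    · exact Over.OverMorphism.ext (congrArg (fun q => q.hom.fst.left) h)
    · obtain ⟨⟨o, o', i⟩, hi⟩ := η
      change Over U at o
      change Over X at o'
      haveI hi' : (Over.forget Y).IsHomLift (𝟙 o.left) i.hom := hi
      have hl : o'.left = o.left := IsHomLift.codomain_eq (Over.forget Y) (𝟙 o.left) i.hom
      have hGl : (G.obj o : Over Y).left = o.left := LFib.hw G o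
      have hil : (show (G.obj o : Over Y) ⟶ (Over.map f).obj o' from i.hom).left = eqToHom (hGl.trans hl.symm) := by
        have := IsHomLift.fac' (Over.forget Y) (𝟙 o.left) i.hom
        simpa using this
      have hcond : o.hom ≫ LFib.ehom G = (eqToHom hl.symm ≫ o'.hom) ≫ f := by
        have w := Over.w (show (G.obj o : Over Y) ⟶ (Over.map f).obj o' from i.hom)
        rw [hil, LFib.obj_hom] at w
        rw [← cancel_epi (eqToHom hGl), ← w]
        simp
      let p : Over (pullback (LFib.ehom G) f) := Over.mk (pullback.lift o.hom (eqToHom hl.symm ≫ o'.hom) hcond)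
      let i1 : a.obj p ≅ o := Over.isoMk (Iso.refl _) (by show 𝟙 _ ≫ o.hom = pullback.lift _ _ _ ≫ pullback.fst _ _; simp)
      let i2 : b.obj p ≅ o' := Over.isoMk (eqToIso hl.symm) (by show eqToHom hl.symm ≫ o'.hom = pullback.lift _ _ _ ≫ pullback.snd _ _; simp)
      refine ⟨p, ObjectProperty.isoMk _ (CategoricalPullback.mkIso i1 i2 ?_), IsHomLift.of_fac' _ _ _ rfl rfl (by simp; rfl)⟩
      apply Over.OverMorphism.ext
      show (show (G.obj (a.obj p) : Over Y) ⟶ G.obj o from G.map i1.hom).left ≫ (show (G.obj o : Over Y) ⟶ (Over.map f).obj o' from i.hom).left = (_ ≫ 𝟙 _) ≫ eqToHom hl.symm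
      rw [LFib.map_left, hil]
      simp [i1]
      exact (eqToHom_trans (LFib.hw G (a.obj p)) hl.symm).symm
  obtain ⟨F', u, w⟩ := hE
  exact ⟨_, F', E, w, u⟩

end Groth.Agent.S12783
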