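import Groth.Statements.S12800
import Groth.Agent.Lib.LFibCat2

set_option autoImplicit false
set_option backward.isDefEq.respectTransparency false
set_option backward.isDefEq.respectTransparency.types false
set_option linter.style.haveILetI false
open CategoryTheory
universe v u
open FibCat

namespace Groth.Agent.S12800

/-- For categories `𝒮`, `𝒯` fibred in groupoids over `C`, a category `ℛ` fibred in setoids over `C`, a
functor `f : 𝒯 ⟶ 𝒮` over `C` with faithful underlying functor and a functor `g : ℛ ⟶ 𝒮` over `C`,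
the 2-fibre product `𝒯 ×_𝒮 ℛ` over `C` is fibred in setoids. (The published statement takes stacks
in groupoids over a site and concludes a stack in setoids; the stack property of the 2-fibre product
is the separate result on 2-fibre products of stacks in groupoids, and the setoid property stated
here needs no topology.) -/
theorem result {C : Type u} [Category.{v} C] {𝒮 𝒯 ℛ : BasedCategory.{v, max u v} C}
    (h𝒮 : FibCat.IsFibGrpd 𝒮.p) (h𝒯 : FibCat.IsFibGrpd 𝒯.p) (hℛ : FibCat.IsFibSetoid ℛ.p) (f : 𝒯 ⥤ᵇ 𝒮) [f.toFunctor.Faithful] (g : ℛ ⥤ᵇ 𝒮) :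
    FibCat.IsFibSetoid (FibCat.fp f g).p := by
  haveI := h𝒮; haveI := h𝒯; haveI := hℛ.1
  refine ⟨H9Fib.isFibGrpd_fp f g, fun U a b => ⟨fun k l => ?_⟩⟩
  apply Functor.Fiber.hom_ext
  have hk := k.2; have hl := l.2
  have hs : k.1.hom.snd = l.1.hom.snd := by
    haveI := hk
    haveI := hl
    haveI := BasedFunctor.preserves_isHomLift (FibCat.fpSnd f g) (𝟙 U) k.1
    haveI := BasedFunctor.preserves_isHomLift (FibCat.fpSnd f g) (𝟙 U) l.1
    exact @LFib.ext_thin _ _ _ _ _ hℛ.1 _ _ (hℛ.2 U) _ _ (𝟙 U) ((FibCat.fpSnd f g).map k.1) ((FibCat.fpSnd f g).map l.1) inferInstance inferInstance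
  have hf : k.1.hom.fst = l.1.hom.fst := by
    apply f.toFunctor.map_injective
    rw [← cancel_mono b.1.obj.iso.hom, k.1.hom.w, l.1.hom.w, hs]
  exact ObjectProperty.hom_ext _ (Limits.CategoricalPullback.hom_ext hf hs)

end Groth.Agent.S12800
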