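import Groth.Statements.S12803
import Groth.Agent.Lib.H9FibRestrTop

set_option autoImplicit false
set_option backward.isDefEq.respectTransparency.types false
open CategoryTheory
universe v₂ u₂ v u
open Stk

namespace Groth.Agent.S12803

/-- Let `p : 𝒳 ⥤ C` make `𝒳` fibred in groupoids over `C`, let `J` be a topology on `C` and `x` an
object of `𝒳`. The functor `𝒳/x ⥤ C/p(x)` induced by `p` is an equivalence of categories, and it
identifies the localisation at `x` of the topology on `𝒳` inherited from `J` with the localisation
of `J` at `p x`: a sieve on an object of `𝒳/x` covers if and only if its image covers. -/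
theorem result {C : Type u} [Category.{v} C] {𝒳 : Type u₂} [Category.{v₂} 𝒳] (p : 𝒳 ⥤ C)
    (hp : FibCat.IsFibGrpd p) (J : GrothendieckTopology C) (x : 𝒳) :
    (Over.post p : Over x ⥤ Over (p.obj x)).IsEquivalence ∧
      ∀ (a : Over x) (S : Sieve a), S ∈ (p.restrictedTopology J).over x a ↔
        S.functorPushforward (Over.post p) ∈ (J.over (p.obj x)) ((Over.post p).obj a) := by
  constructor
  · haveI : (Over.post p : Over x ⥤ Over (p.obj x)).Faithful := ⟨fun {a b} φ ψ h => by
      haveI := hp.isStronglyCartesian b.hom
      haveI : p.IsHomLift (p.map φ.left) φ.left := inferInstance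
      haveI : p.IsHomLift (p.map φ.left) ψ.left := by
        have e : p.map φ.left = p.map ψ.left := congrArg (fun q => q.left) h
        rw [e]; infer_instance
      ext
      exact Functor.IsStronglyCartesian.ext p (p.map b.hom) b.hom (p.map φ.left) ((Over.w φ).trans (Over.w ψ).symm)⟩
    haveI : (Over.post p : Over x ⥤ Over (p.obj x)).Full := ⟨fun {a b} g => by
      haveI := hp.isStronglyCartesian b.hom
      have hg : p.map a.hom = g.left ≫ p.map b.hom := (Over.w g).symm
      refine ⟨Over.homMk (Functor.IsStronglyCartesian.map p (p.map b.hom) b.hom hg a.hom) (Functor.IsStronglyCartesian.fac p (p.map b.hom) b.hom hg a.hom), ?_⟩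
      ext
      exact (IsHomLift.eq_of_isHomLift p g.left (Functor.IsStronglyCartesian.map p (p.map b.hom) b.hom hg a.hom)).symm⟩
    haveI : (Over.post p : Over x ⥤ Over (p.obj x)).EssSurj := ⟨fun b => by
      obtain ⟨y, φ, hφ⟩ := hp.exists_lift b.hom
      refine ⟨Over.mk φ, ⟨Over.isoMk (eqToIso (IsHomLift.domain_eq p b.hom φ)) ?_⟩⟩
      have := IsHomLift.fac' p b.hom φ
      exact (by simpa using this.symm : eqToHom _ ≫ b.hom = p.map φ)⟩
    exact { faithful := inferInstance, full := inferInstance, essSurj := inferInstance }
  · intro a S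
    rw [GrothendieckTopology.mem_over_iff, GrothendieckTopology.mem_over_iff, Groth.Agent.H9FibRestrTop.mem_iff p hp J]
    have e : Sieve.overEquiv ((Over.post p).obj a) (S.functorPushforward (Over.post p)) = (Sieve.overEquiv a S).functorPushforward p := by
      ext Z h
      rw [Sieve.overEquiv_iff]
      constructor
      · rintro ⟨b, f, k, hf, hk⟩
        refine ⟨b.left, f.left, k.left, ?_, congrArg (fun q => q.left) hk⟩
        rw [Sieve.overEquiv_iff]
        have : (Over.homMk f.left : Over.mk (f.left ≫ a.hom) ⟶ a) = Over.homMk (U := Over.mk (f.left ≫ a.hom)) (V := b) (𝟙 _) (by simp) ≫ f := by ext; simp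
        rw [this]
        exact S.downward_closed hf _
      · rintro ⟨w, f, k, hf, hk⟩
        rw [Sieve.overEquiv_iff] at hf
        exact ⟨Over.mk (f ≫ a.hom), Over.homMk f, Over.homMk k (show k ≫ p.map (f ≫ a.hom) = h ≫ p.map a.hom by subst hk; rw [p.map_comp]; exact (Category.assoc _ _ _).symm), hf, by ext; exact hk⟩
    exact iff_of_eq (congrArg (fun T => T ∈ J (p.obj a.left)) e).symm

end Groth.Agent.S12803
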