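import Groth.Statements.S12807
import Groth.Agent.Lib.LFibCat2

set_option autoImplicit false
set_option backward.isDefEq.respectTransparency false
set_option backward.isDefEq.respectTransparency.types false
set_option linter.style.haveILetI false
open CategoryTheory CategoryTheory.Limits
universe v₃ u₃ v₂ u₂ v u
open FibCat

namespace Groth.Agent.S12807

/-- Let `u : C ⥤ D` be a functor and `𝒮` a category over `D` whose structure functor is a fibred
category. Then the 2-fibre product `C ×_D 𝒮` of `u` and the structure functor (triples `(U, y, u U ≅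
p y)`), with its first projection, is a fibred category over `C`. (The published statement uses the
strict fibre product, pairs with `u U = p y`; for `𝒮` fibred over `D` it is equivalent over `C` to
the 2-fibre product used here.) -/
theorem result {C : Type u} [Category.{v} C] {D : Type u₂} [Category.{v₂} D] (u : C ⥤ D)
    (𝒮 : BasedCategory.{v₃, u₃} D) [𝒮.p.IsFibered] :
    (CategoricalPullback.π₁ u 𝒮.p).IsFibered := by
  refine Functor.IsFibered.of_exists_isStronglyCartesian fun w V g => ?_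
  obtain ⟨U, y, i⟩ := w
  change V ⟶ U at g
  change u.obj U ≅ 𝒮.p.obj y at i
  obtain ⟨y', β, hβ⟩ := Functor.IsPreFibered.exists_isCartesian' (p := 𝒮.p) (a := y) (u.map g ≫ i.hom)
  haveI := hβ
  haveI : 𝒮.p.IsStronglyCartesian (u.map g ≫ i.hom) β := inferInstance
  have hy' : 𝒮.p.obj y' = u.obj V := IsHomLift.domain_eq 𝒮.p (u.map g ≫ i.hom) β
  have eβ : 𝒮.p.map β = eqToHom hy' ≫ u.map g ≫ i.hom := by simpa using IsHomLift.fac' 𝒮.p (u.map g ≫ i.hom) β
  let φ : ({ fst := V, snd := y', iso := eqToIso hy'.symm } : CategoricalPullback u 𝒮.p) ⟶ { fst := U, snd := y, iso := i } :=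
    { fst := g, snd := β, w := by simp [eβ] }
  refine ⟨_, φ, ?_⟩
  refine { toIsHomLift := IsHomLift.of_fac' _ _ _ rfl rfl (by simp [φ]), universal_property' := fun {z} h ψ hψ => ?_ }
  change z.fst ⟶ V at h
  have eψ : ψ.fst = h ≫ g := by
    simpa using @IsHomLift.fac' _ _ _ _ (CategoricalPullback.π₁ u 𝒮.p) _ _ _ _ _ ψ hψ
  let m : 𝒮.p.obj z.snd ⟶ u.obj V := z.iso.inv ≫ u.map h
  have em : 𝒮.p.map ψ.snd = m ≫ u.map g ≫ i.hom := by
    have w := ψ.w
    rw [← cancel_epi z.iso.hom]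
    show z.iso.hom ≫ 𝒮.p.map ψ.snd = _
    rw [← w, eψ]; simp [m]
  haveI : 𝒮.p.IsHomLift (m ≫ u.map g ≫ i.hom) ψ.snd := by rw [← em]; infer_instance
  obtain ⟨χ, ⟨h1, h2⟩, hu⟩ := Functor.IsStronglyCartesian.universal_property 𝒮.p (u.map g ≫ i.hom) β m _ rfl ψ.snd
  haveI := h1
  have eχ : 𝒮.p.map χ = m ≫ eqToHom hy'.symm := by simpa using IsHomLift.fac' 𝒮.p m χ
  refine ⟨{ fst := h, snd := χ, w := by simp [eχ, m] }, ⟨IsHomLift.of_fac' _ _ _ rfl rfl (by simp), CategoricalPullback.hom_ext eψ.symm h2⟩, ?_⟩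
  rintro κ ⟨k1, k2⟩
  have ef : κ.fst = h := by
    simpa using @IsHomLift.fac' _ _ _ _ (CategoricalPullback.π₁ u 𝒮.p) _ _ _ _ _ κ k1
  refine CategoricalPullback.hom_ext ef (hu _ ⟨?_, congrArg CategoricalPullback.Hom.snd k2⟩)
  refine IsHomLift.of_fac' _ _ _ rfl hy' ?_
  have w := κ.w
  rw [ef] at w
  rw [← cancel_epi z.iso.hom]
  show z.iso.hom ≫ 𝒮.p.map κ.snd = _
  rw [← w]; simp [m]

end Groth.Agent.S12807
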