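import Groth.Statements.S12810
import Groth.Agent.Lib.H9Stk

set_option autoImplicit false
set_option backward.isDefEq.respectTransparency.types false
open CategoryTheory
universe v u
open Stk

namespace Groth.Agent.S12810

/-- If two categories over `C` are equivalent in the 2-category of categories over `C`, then one is a
stack in setoids for the topology `J` (a stack in groupoids fibred in setoids) if and only if the
other is. -/
theorem result {C : Type u} [Category.{v} C] (J : GrothendieckTopology C) {𝒳 𝒴 : BasedCategory.{v, max u v} C}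
    (F : 𝒳 ⥤ᵇ 𝒴) (hF : FibCat.IsEquivOver F) :
    (Stk.IsStack J 𝒳 ∧ FibCat.IsFibSetoid 𝒳.p) ↔ (Stk.IsStack J 𝒴 ∧ FibCat.IsFibSetoid 𝒴.p) := by
  refine and_congr (H9Stk.isStack_iff J hF) (and_congr (H9Stk.isFibGrpd_iff hF) ?_)
  obtain ⟨G, hG⟩ := H9Stk.isEquivOver_symm' hF
  exact ⟨fun h U => H9Stk.isThin_of_isEquivOver hG h U, fun h U => H9Stk.isThin_of_isEquivOver hF h U⟩

end Groth.Agent.S12810
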