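import Groth.Statements.S12819
import Groth.Agent.Lib.H9StFPt

set_option autoImplicit false
set_option backward.isDefEq.respectTransparency.types false
universe u
open CategoryTheory AlgebraicGeometry
open AlgSt

namespace Groth.Agent.S12819

/-- For a morphism `f : 𝒳 ⟶ 𝒴` of algebraic stacks over `S` that is representable by algebraic spaces,
the map `|f| : |𝒳| → |𝒴|` is surjective if and only if every base change of `f` to a scheme is a
surjective morphism of algebraic spaces. -/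
theorem result {S : Scheme.{u}} {𝒳 𝒴 : AlgSt.Cat S}
    (h𝒳 : AlgSt.IsAlgStack Scheme.fppfPrecoverage 𝒳) (h𝒴 : AlgSt.IsAlgStack Scheme.fppfPrecoverage 𝒴)
    (f : 𝒳 ⥤ᵇ 𝒴) (hf : AlgSt.RepByAlgSp1 f) :
    AlgSt.IsSurjective f ↔ AlgSt.RepByAlgSpWith AlgSp.IsSurjectiveMor f := by
  haveI hX : FibCat.IsFibGrpd 𝒳.p := h𝒳.isStack.1
  haveI hY : FibCat.IsFibGrpd 𝒴.p := h𝒴.isStack.1
  refine ⟨fun h U y => ?_, fun h => H9St.isSurjective_of_rep h⟩
  obtain ⟨F, e, he⟩ := hf U y
  exact ⟨F, e, he, H9St.isSurjectiveMor_of_isSurjective h he⟩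

end Groth.Agent.S12819
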