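import Groth.Statements.S12824
import Groth.Agent.Lib.H9StTop

set_option autoImplicit false
set_option backward.isDefEq.respectTransparency.types false
universe u
open CategoryTheory AlgebraicGeometry
open AlgSt

namespace Groth.Agent.S12824

/-- For an algebraic stack `𝒳` over `S`, every open neighbourhood of a point of `|𝒳|` contains a
quasi-compact open neighbourhood of that point; hence `|𝒳|` is locally quasi-compact. -/
theorem result {S : Scheme.{u}} {𝒳 : AlgSt.Cat S}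
    (h𝒳 : AlgSt.IsAlgStack Scheme.fppfPrecoverage 𝒳) (x : AlgSt.Points 𝒳) (W : Set (AlgSt.Points 𝒳)) (hW : IsOpen W) (hx : x ∈ W) :
    ∃ V : Set (AlgSt.Points 𝒳), IsOpen V ∧ IsCompact V ∧ x ∈ V ∧ V ⊆ W := by
  haveI : FibCat.IsFibGrpd 𝒳.p := h𝒳.isStack.1
  obtain ⟨U, p, hp, hps⟩ := h𝒳.atlas
  have hc := Groth.Agent.H9St.continuous_ofChart_of_atlas h𝒳.atlas p
  obtain ⟨u, rfl⟩ := Groth.Agent.H9St.surjective_ofChart (Y := 𝒳) hps x
  obtain ⟨A, hA, huA, hAW⟩ := exists_isAffineOpen_mem_and_subset (X := U.left) (x := u)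
    (U := ⟨AlgSt.Points.ofChart p ⁻¹' W, hW.preimage hc⟩) hx
  exact ⟨_, Groth.Agent.H9St.isOpenMap_ofChart (Groth.Agent.H9St.smooth_flat_lfp hp).1 (Groth.Agent.H9St.smooth_flat_lfp hp).2 _ A.2,
    hA.isCompact.image hc, ⟨u, huA, rfl⟩, by rintro _ ⟨a, ha, rfl⟩; exact hAW ha⟩

end Groth.Agent.S12824
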