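import Groth.Statements.S12845
import Groth.Agent.Lib.H9StDescent

set_option autoImplicit false
set_option backward.isDefEq.respectTransparency.types false
open CategoryTheory AlgebraicGeometry
universe u
open AlgSt

namespace Groth.Agent.S12845

/-- Let `P` be a property of morphisms of algebraic spaces over `S` which is stable under base change
and fppf local on the base, and `f : 𝒳 ⟶ 𝒴` a 1-morphism of algebraic stacks over `S` representable
by algebraic spaces. Then `f` has `P` (a condition on its base changes to schemes) if and only if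
for every algebraic space `Z` and every `z : Z ⟶ 𝒴` the projection `Z ×_𝒴 𝒳 ⟶ Z` has `P`, the
projection being named by an algebraic space `V`, a morphism `a : V ⟶ Z` and an equivalence over
`(Sch/S)` from the category of `V` to the 2-fibre product whose composite with the first projection
is 2-isomorphic to the functor of `a`. (Stability under base change is asked for every pullback
square of fppf sheaves whose four corners are algebraic spaces.) -/
theorem result {S : Scheme.{u}} {𝒳 𝒴 : AlgSt.Cat S}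
    (h𝒳 : AlgSt.IsAlgStack Scheme.fppfPrecoverage 𝒳) (h𝒴 : AlgSt.IsAlgStack Scheme.fppfPrecoverage 𝒴)
    (P : MorphismProperty (AlgSp.Sp S))
    (hPb : ∀ ⦃X₁ Y₁ X₂ Y₂ : AlgSp.Sp S⦄, AlgSp.IsAlgSpace X₁ → AlgSp.IsAlgSpace Y₁ → AlgSp.IsAlgSpace X₂ →
      AlgSp.IsAlgSpace Y₂ → ∀ (a : X₁ ⟶ Y₁) (b : Y₂ ⟶ Y₁) (a' : X₂ ⟶ Y₂) (b' : X₂ ⟶ X₁),
      IsPullback b' a' a b → P a → P a')
    (hP : AlgSp.IsLocalOnBase AlgSp.IsFppfCover P)
    (f : 𝒳 ⥤ᵇ 𝒴) (hf : AlgSt.RepByAlgSp1 f) :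
    AlgSt.RepByAlgSpWith P f ↔
      ∀ (Z : AlgSp.Space S) (z : AlgSt.ofSp Z.obj ⥤ᵇ 𝒴),
        ∃ (V : AlgSp.Space S) (a : V ⟶ Z) (e : AlgSt.ofSp V.obj ⥤ᵇ FibCat.fp z f),
          FibCat.IsEquivOver e ∧
            Nonempty (BasedFunctor.comp e (FibCat.fpFst z f) ≅ AlgSt.ofSpMap a.hom) ∧ P a.hom := by
  haveI := h𝒳.isStack.1
  haveI := h𝒴.isStack.1
  refine ⟨fun h Z z => H9St.exists_space_model P hPb hP h Z z, fun h => ?_⟩
  refine H9St.repWith_of_cover P hPb hP hf fun U y => ?_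
  haveI : FibCat.IsFibGrpd (FibCat.overCat U).p := H9St.isFibGrpd_overCat U
  obtain ⟨Z, e, he⟩ := H9St.repByAlgSp_overCat U
  haveI : FibCat.IsFibGrpd (AlgSt.ofSp Z.obj).p := H9St.isFibGrpd_ofPsh Z.obj.obj
  obtain ⟨e', ⟨i₁⟩, ⟨i₂⟩⟩ := id he
  obtain ⟨V, a, ε, hε, ⟨j⟩, ha⟩ := h Z (BasedFunctor.comp e y)
  have hm := H9St.repWith_fpFst_of_model P hPb Z V (BasedFunctor.comp e y) a ε hε j ha
  let l : FibCat.overCat U ⥤ᵇ AlgSt.ofSp Z.obj := e'
  let α : BasedFunctor.comp l (BasedFunctor.comp e y) ≅ BasedFunctor.comp (AlgSt.overMap (𝟙 U)) y :=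
    H9Fib.wRight (i₂ ≪≫ Classical.choice (H9St.exists_iso_of_clsMap_eq (by
      rw [← cancel_mono (H9St.clsOverCat U).hom, H9St.clsMap_overMap, H9St.clsMap_id]
      simp))) y
  refine ⟨PUnit.{u + 1}, fun _ => U, fun _ => 𝟙 U, fun _ => inferInstanceAs (Flat (𝟙 U.left)),
    fun _ => inferInstanceAs (LocallyOfFinitePresentation (𝟙 U.left)), fun x => ⟨PUnit.unit, x, rfl⟩, fun _ => ?_⟩
  haveI : FibCat.IsFibGrpd (FibCat.fp (BasedFunctor.comp e y) f).p := H9Fib.isFibGrpd_fp _ _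
  have hp := H9St.repByAlgSpWith_transport (f := f) (f' := FibCat.fpFst (BasedFunctor.comp e y) f)
    (y := BasedFunctor.comp l (BasedFunctor.comp e y)) (y' := l)
    (H9St.pasteFun l _ f) (H9St.isEquivOver_paste l _ f) rfl (hm U l)
  exact H9St.repByAlgSpWith_transport
    (H9St.fpCongr (g := BasedFunctor.comp (AlgSt.overMap (𝟙 U)) y) (f := f) (g' := BasedFunctor.comp l (BasedFunctor.comp e y))
      (f' := f) (BasedFunctor.id (FibCat.overCat U)) (BasedFunctor.id 𝒳) (BasedFunctor.id 𝒴) α (Iso.refl _))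
    (H9St.isEquivOver_fpCongr _ _ (H9Fib.isEquivOver_id _) (H9Fib.isEquivOver_id _) (H9Fib.isEquivOver_id _)) rfl hp

end Groth.Agent.S12845
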