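import Groth.Statements.S12847
import Groth.Agent.Lib.H9StTop

set_option autoImplicit false
set_option backward.isDefEq.respectTransparency.types false
open CategoryTheory AlgebraicGeometry
universe u
open AlgSt

namespace Groth.Agent.S12847

/-- (1) ⇔ (2): an algebraic stack `𝒳` over `S` admits a surjective smooth `U ⟶ 𝒳` with `U` an affine
scheme if and only if the topological space `|𝒳|` of its points is quasi-compact. -/
theorem result {S : Scheme.{u}} {𝒳 : AlgSt.Cat S}
    (h𝒳 : AlgSt.IsAlgStack Scheme.fppfPrecoverage 𝒳) :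
    AlgSt.IsQuasiCompact 𝒳 ↔ CompactSpace (AlgSt.Points 𝒳) := by
  haveI : FibCat.IsFibGrpd 𝒳.p := h𝒳.isStack.1
  exact ⟨fun h => Groth.Agent.H9St.compactSpace_points h h𝒳.atlas, fun h => Groth.Agent.H9St.isQuasiCompact_of_compactSpace h𝒳.atlas⟩

end Groth.Agent.S12847
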