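import Groth.Statements.S12852
import Groth.Agent.Lib.H9StSmLoc

set_option autoImplicit false
set_option backward.isDefEq.respectTransparency.types false
open CategoryTheory AlgebraicGeometry
universe u
open AlgSt

namespace Groth.Agent.S12852

/-- (2) ⇔ (4): suppose `P`, a property of schemes, is local for the smooth topology (for every jointly
surjective family of smooth morphisms `V_i ⟶ U`, `U` has `P` if and only if every `V_i` has `P`) and
`𝒳` an algebraic stack over `S`. Then every scheme admitting a smooth morphism to `𝒳` has `P` if and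
only if every algebraic space `U` admitting a smooth `U ⟶ 𝒳` has `P` (that is, some surjective etale
scheme chart of `U` has `P`). -/
theorem result {S : Scheme.{u}} {𝒳 : AlgSt.Cat S}
    (h𝒳 : AlgSt.IsAlgStack Scheme.fppfPrecoverage 𝒳) (P : Scheme.{u} → Prop)
    (hP : ∀ (U : Scheme.{u}) (R : Presieve U), R ∈ Scheme.precoverage @Smooth U →
      (P U ↔ ∀ ⦃V : Scheme.{u}⦄ (g : V ⟶ U), R g → P V)) :
    AlgSt.SmoothLocally P 𝒳 ↔
      ∀ (U : AlgSp.Space S) (x : AlgSt.ofSp U.obj ⥤ᵇ 𝒳),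
        AlgSt.RepByAlgSpWith (AlgSp.LocP @Smooth) x → AlgSp.EtaleLocally P U.obj := by
  refine ⟨fun h U x hx => H9St.etaleLocally_of_smoothLocally h𝒳 h U x hx, fun h => ?_⟩
  haveI := h𝒳.isStack.1
  obtain ⟨U, x, hx, hxs⟩ := h𝒳.atlas
  haveI : FibCat.IsFibGrpd (FibCat.overCat U).p := H9St.isFibGrpd_overCat U
  haveI : FibCat.IsFibGrpd (AlgSt.ofSch U).p := H9St.isFibGrpd_ofPsh _
  haveI := H9St.respectsIso_isSurjectiveMor (S := S)
  have e : FibCat.IsEquivOver (AlgSt.toOverCat U) := ⟨AlgSt.ofOverCat U, ⟨eqToIso rfl⟩, ⟨eqToIso rfl⟩⟩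
  have h1 := H9St.repWith_comp H9St.standard_smooth
    (H9St.repByAlgSpWith_of_isEquivOver (fun m _ => H9St.locP_smooth_of_iso m) e) hx
  exact H9St.smoothLocally_of_space_atlas h𝒳 (H9St.smProp_of_local hP) ⟨(AlgSp.yon S).obj U, AlgSp.IsAlgSpace.yon_obj U⟩ _ h1
    (H9St.surjective_comp (H9St.rep1_of_with h1)
      (H9St.repByAlgSpWith_of_isEquivOver (fun m _ => H9St.isSurjectiveMor_of_iso m) e) hxs)
    (h ⟨(AlgSp.yon S).obj U, AlgSp.IsAlgSpace.yon_obj U⟩ _ h1)

end Groth.Agent.S12852
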