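import Groth.Statements.S12854
import Groth.Agent.Lib.H9StSmLoc

set_option autoImplicit false
set_option backward.isDefEq.respectTransparency.types false
open CategoryTheory AlgebraicGeometry
universe u
open AlgSt

namespace Groth.Agent.S12854

/-- Suppose `P`, a property of schemes, is local for the smooth topology (for every jointly surjective
family of smooth morphisms `V_i ⟶ U`, `U` has `P` if and only if every `V_i` has `P`) and `U` a
scheme over `S`. Then every scheme admitting a smooth morphism to (the algebraic stack of) `U` has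
`P` if and only if `U` has `P`. -/
theorem result {S : Scheme.{u}} (U : Over S) (P : Scheme.{u} → Prop)
    (hP : ∀ (U : Scheme.{u}) (R : Presieve U), R ∈ Scheme.precoverage @Smooth U →
      (P U ↔ ∀ ⦃V : Scheme.{u}⦄ (g : V ⟶ U), R g → P V)) :
    AlgSt.SmoothLocally P (AlgSt.ofSch U) ↔ P U.left := by
  haveI : FibCat.IsFibGrpd (FibCat.overCat U).p := H9St.isFibGrpd_overCat U
  haveI : FibCat.IsFibGrpd (AlgSt.ofSch U).p := H9St.isFibGrpd_ofPsh _
  haveI := H9St.respectsIso_isSurjectiveMor (S := S)
  have e := H9St.isEquivOver_ofOverCat U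
  have h1 := H9St.repByAlgSpWith_of_isEquivOver (P := AlgSp.LocP @Smooth) (fun m _ => H9St.locP_smooth_of_iso m) e
  exact ⟨fun h => h U _ h1, fun h => H9St.smoothLocally_of_atlas
    (H9St.isAlgStack_ofSp ⟨(AlgSp.yon S).obj U, AlgSp.IsAlgSpace.yon_obj U⟩) (H9St.smProp_of_local hP) _ h1
    (H9St.repByAlgSpWith_of_isEquivOver (fun m _ => H9St.isSurjectiveMor_of_iso m) e) h⟩

end Groth.Agent.S12854
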