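import Groth.Statements.S12855
import Groth.Agent.Lib.H9StSmLoc

set_option autoImplicit false
set_option backward.isDefEq.respectTransparency.types false
open CategoryTheory AlgebraicGeometry
universe u
open AlgSt

namespace Groth.Agent.S12855

/-- Suppose `P`, a property of schemes, is local for the smooth topology (for every jointly surjective
family of smooth morphisms `V_i ⟶ U`, `U` has `P` if and only if every `V_i` has `P`) and `X` an
algebraic space over `S`. Then every scheme admitting a smooth morphism to (the algebraic stack of)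
`X` has `P` if and only if `X` has `P`, i.e. some surjective etale scheme chart of `X` has `P`. -/
theorem result {S : Scheme.{u}} (X : AlgSp.Space S) (P : Scheme.{u} → Prop)
    (hP : ∀ (U : Scheme.{u}) (R : Presieve U), R ∈ Scheme.precoverage @Smooth U →
      (P U ↔ ∀ ⦃V : Scheme.{u}⦄ (g : V ⟶ U), R g → P V)) :
    AlgSt.SmoothLocally P (AlgSt.ofSp X.obj) ↔ AlgSp.EtaleLocally P X.obj := by
  haveI : FibCat.IsFibGrpd (AlgSt.ofSp X.obj).p := H9St.isFibGrpd_ofPsh _
  haveI := H9St.respectsIso_isSurjectiveMor (S := S)
  have h1 := H9St.repByAlgSpWith_of_isEquivOver (P := AlgSp.LocP @Smooth) (fun m _ => H9St.locP_smooth_of_iso m)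
    (H9Fib.isEquivOver_id (AlgSt.ofSp X.obj))
  exact ⟨fun h => H9St.etaleLocally_of_smoothLocally (H9St.isAlgStack_ofSp X) h X _ h1,
    fun h => H9St.smoothLocally_of_space_atlas (H9St.isAlgStack_ofSp X) (H9St.smProp_of_local hP) X _ h1
      (H9St.repByAlgSpWith_of_isEquivOver (fun m _ => H9St.isSurjectiveMor_of_iso m) (H9Fib.isEquivOver_id _)) h⟩

end Groth.Agent.S12855
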