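import Groth.Statements.S12856
import Groth.Agent.Lib.H9StSmLoc
import Groth.Agent.Lib.H9StQC

set_option autoImplicit false
set_option backward.isDefEq.respectTransparency.types false
open CategoryTheory AlgebraicGeometry
universe u
open AlgSt

namespace Groth.Agent.S12856

/-- (2) ⇔ (4): an algebraic stack `𝒳` over `S` admits a surjective smooth morphism from an affine scheme
if and only if it admits a surjective smooth morphism from a quasi-compact algebraic space. -/
theorem result {S : Scheme.{u}} {𝒳 : AlgSt.Cat S}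
    (h𝒳 : AlgSt.IsAlgStack Scheme.fppfPrecoverage 𝒳) :
    AlgSt.IsQuasiCompact 𝒳 ↔
      ∃ (U : AlgSp.Space S) (x : AlgSt.ofSp U.obj ⥤ᵇ 𝒳), AlgSp.IsQuasiCompactSp U.obj ∧
        AlgSt.RepByAlgSpWith (AlgSp.LocP @Smooth) x ∧ AlgSt.RepByAlgSpWith AlgSp.IsSurjectiveMor x := by
  haveI := h𝒳.isStack.1
  haveI := H9St.respectsIso_isSurjectiveMor (S := S)
  constructor
  · rintro ⟨U, x, hU, hx, hxs⟩
    haveI := hU
    haveI : FibCat.IsFibGrpd (FibCat.overCat U).p := H9St.isFibGrpd_overCat U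
    haveI : FibCat.IsFibGrpd (AlgSt.ofSch U).p := H9St.isFibGrpd_ofPsh _
    have e : FibCat.IsEquivOver (AlgSt.toOverCat U) := ⟨AlgSt.ofOverCat U, ⟨eqToIso rfl⟩, ⟨eqToIso rfl⟩⟩
    have h1 := H9St.repWith_comp H9St.standard_smooth
      (H9St.repByAlgSpWith_of_isEquivOver (fun m _ => H9St.locP_smooth_of_iso m) e) hx
    exact ⟨⟨(AlgSp.yon S).obj U, AlgSp.IsAlgSpace.yon_obj U⟩, _, ASp.isQuasiCompactSp_yon inferInstance, h1,
      H9St.surjective_comp (H9St.rep1_of_with h1)
        (H9St.repByAlgSpWith_of_isEquivOver (fun m _ => H9St.isSurjectiveMor_of_iso m) e) hxs⟩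
  · rintro ⟨U, x, hU, hx, hxs⟩
    haveI : FibCat.IsFibGrpd (AlgSt.ofSp U.obj).p := H9St.isFibGrpd_ofPsh _
    exact (H9St.isQuasiCompact_iff_compact h𝒳).2
      (H9St.compact_of_surjective h𝒳.atlas (H9St.isSurjective_of_rep hxs) ((H9St.compact_ofSp_iff U.property).2 hU))

end Groth.Agent.S12856
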