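import Groth.Statements.S12862
import Groth.Agent.Lib.H9StQC

set_option autoImplicit false
set_option backward.isDefEq.respectTransparency.types false
open CategoryTheory AlgebraicGeometry
universe u w
open AlgSt

namespace Groth.Agent.S12862

/-- Let `𝒳` be an algebraic stack over `S`, `𝒳' ⊂ 𝒳` a quasi-compact open substack and `𝒳_i ⊂ 𝒳` a
family of open substacks with `𝒳' ⊂ ⋃ 𝒳_i`. Then `𝒳' ⊂ ⋃_{i ∈ I'} 𝒳_i` for a finite set `I'` of
indices. Containments between open substacks are read on their points in `|𝒳|`, which is the same as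
containment of the substacks. -/
theorem result {S : Scheme.{u}} {𝒳 : AlgSt.Cat S}
    (h𝒳 : AlgSt.IsAlgStack Scheme.fppfPrecoverage 𝒳) (Q' : 𝒳.obj → Prop) (hQ' : AlgSt.IsOpenSubstack 𝒳 Q' Scheme.fppfPrecoverage)
    (hqc : AlgSt.IsQuasiCompact (AlgSt.fullSub 𝒳 Q'))
    {ι : Type w} (Q : ι → 𝒳.obj → Prop) (hQ : ∀ i, AlgSt.IsOpenSubstack 𝒳 (Q i) Scheme.fppfPrecoverage)
    (hcov : Set.range (AlgSt.Points.map (AlgSt.subIncl 𝒳 Q')) ⊆ ⋃ i, Set.range (AlgSt.Points.map (AlgSt.subIncl 𝒳 (Q i)))) :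
    ∃ I' : Finset ι, Set.range (AlgSt.Points.map (AlgSt.subIncl 𝒳 Q')) ⊆ ⋃ i ∈ I', Set.range (AlgSt.Points.map (AlgSt.subIncl 𝒳 (Q i))) := by
  haveI := h𝒳.isStack.1
  have hopen : ∀ i, IsOpen (Set.range (AlgSt.Points.map (AlgSt.subIncl 𝒳 (Q i)))) := fun i => by
    obtain ⟨-, hst, him⟩ := hQ i
    haveI := hst.isStack.1
    have key : ∀ {P : MorphismProperty Scheme.{u}} [ASp.EtaleLocal P] [IsZariskiLocalAtSource P],
        @IsOpenImmersion ≤ P → AlgSt.RepByAlgSpWith (AlgSp.LocP P) (AlgSt.subIncl 𝒳 (Q i)) :=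
      fun {P} _ _ hle U y => by
        obtain ⟨F, e, he, hP⟩ := him U y
        exact ⟨F, e, he, ASp.locP_of_repWith (AlgSp.IsAlgSpace.yon_obj U) (ASp.repWith_mono hle hP)⟩
    exact (Groth.Agent.H9St.isOpenMap_map
      (key (P := @Flat) fun {A B} g (hg : IsOpenImmersion g) => inferInstance)
      (key (P := @LocallyOfFinitePresentation) fun {A B} g (hg : IsOpenImmersion g) => inferInstance) hst.atlas).isOpen_range
  obtain ⟨-, hst', -⟩ := hQ'
  haveI := hst'.isStack.1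
  haveI : CompactSpace (AlgSt.Points (AlgSt.fullSub 𝒳 Q')) :=
    (Groth.Agent.H9St.isQuasiCompact_iff_compact hst').1 hqc
  exact (isCompact_range (Groth.Agent.H9St.continuous_map h𝒳.atlas (AlgSt.subIncl 𝒳 Q'))).elim_finite_subcover
    (fun i => Set.range (AlgSt.Points.map (AlgSt.subIncl 𝒳 (Q i)))) hopen hcov

end Groth.Agent.S12862
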