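import Groth.Statements.S12909
import Mathlib
import Groth.Agent.Lib.FreeResolutionRank

set_option autoImplicit false
universe u
open IsLocalRing Matrix
open Groth.Agent.FreeResolutionRank
open CAlgX

namespace Groth.Agent.S12909

/-- Let R be a Noetherian ring and I a nonzero ideal with a finite free resolution 0 → R^{n_e} → … →
R^{n_1} → R^{n_0} → I → 0 with e ≥ 1: the map R^{n_{i+1}} → R^{n_i} is the matrix A_i, the map π :
R^{n_0} → R is linear with image I, the kernel of π is the image of A_0, the kernel of A_i is the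
image of A_{i+1} for 0 ≤ i ≤ e - 2, and A_{e-1} is injective. Then I contains a non-zero-divisor of
R. (The hypothesis that I is nonzero is implicit in the published statement: the zero ideal of a
domain has a finite free resolution and contains no non-zero-divisor.) -/
theorem result {R : Type u} [CommRing R] [IsNoetherianRing R]
    (e : ℕ) (he : 1 ≤ e) (n : ℕ → ℕ) (A : (i : ℕ) → Matrix (Fin (n i)) (Fin (n (i + 1))) R)
    (π : (Fin (n 0) → R) →ₗ[R] R) (hI : LinearMap.range π ≠ ⊥)
    (h0 : LinearMap.ker π = LinearMap.range (A 0).mulVecLin)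
    (hA : ∀ i, i + 2 ≤ e → LinearMap.ker (A i).mulVecLin = LinearMap.range (A (i + 1)).mulVecLin)
    (hlast : LinearMap.ker (A (e - 1)).mulVecLin = ⊥) :
    ∃ x : R, x ∈ LinearMap.range π ∧ x ∈ nonZeroDivisors R := by
  classical
  obtain ⟨ρ, hρ⟩ := ranks e n A hA hlast (e - 1) 0 (by omega)
  let P : Matrix (Fin 1) (Fin (n 0)) R := Matrix.of fun _ j => π (Pi.single j 1)
  have hP : ∀ v, P.mulVec v = fun _ => π v := fun v => by
    funext i
    conv_rhs => rw [pi_eq_sum_univ' v]
    simp [P, Matrix.mulVec, dotProduct, mul_comm]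
  have hkerP : LinearMap.ker P.mulVecLin = LinearMap.range (A 0).mulVecLin := by
    rw [← h0]
    ext v
    simp [hP, funext_iff]
  have key : ∀ (p : Ideal R) [p.IsPrime], p ∈ associatedPrimes R R →
      ((LinearMap.range (P.map (algebraMap R (Localization.AtPrime p))).mulVecLin = ⊥ ∧ n 0 - ρ = 0) ∨
        (LinearMap.range (P.map (algebraMap R (Localization.AtPrime p))).mulVecLin = ⊤ ∧ n 0 - ρ = 1)) := by
    intro p _ hp
    obtain ⟨z, hz0, hz⟩ := exists_killed p hp
    obtain ⟨C, hC, hfree, hr⟩ := hρ p hp
    let f := (P.map (algebraMap R (Localization.AtPrime p))).mulVecLin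
    have hker : LinearMap.ker f = LinearMap.range ((A 0).map (algebraMap R (Localization.AtPrime p))).mulVecLin :=
      map_exact p.primeCompl (Localization.AtPrime p) _ _ hkerP
    haveI : Module.Free (Localization.AtPrime p) (LinearMap.ker f) := by rw [hker]; exact hfree
    haveI : Module.Finite (Localization.AtPrime p) (LinearMap.ker f) := by rw [hker]; infer_instance
    obtain ⟨D, h1, h2, -, h3⟩ := range_step hz0 hz f (k := ρ) C (by rw [hker]; exact hC) (by rw [hker]; exact hr)
    rcases compl_dichotomy _ _ h1 with h | h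
    · exact Or.inl ⟨h, by rw [← h3, show LinearMap.range f = ⊥ from h]; simp⟩
    · exact Or.inr ⟨h, by rw [← h3, show LinearMap.range f = ⊤ from h]; simp⟩
  by_cases hall : n 0 - ρ = 0
  · exfalso
    obtain ⟨x, hx, hx0⟩ := (Submodule.ne_bot_iff _).mp hI
    obtain ⟨p, hp, hle⟩ := exists_le_isAssociatedPrime_of_isNoetherianRing (R := R) x hx0
    haveI := hp.isPrime
    rcases key p hp with ⟨h, -⟩ | ⟨-, h⟩
    · obtain ⟨v, rfl⟩ := hx
      have h1 : (P.map (algebraMap R (Localization.AtPrime p))).mulVecLin (algebraMap R _ ∘ v) = 0 :=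
        (Submodule.eq_bot_iff _).mp h _ ⟨_, rfl⟩
      have h2 := congrFun h1 0
      rw [Matrix.mulVecLin_apply, ← RingHom.map_mulVec, hP, Pi.zero_apply,
        IsLocalization.map_eq_zero_iff p.primeCompl] at h2
      obtain ⟨s, hs⟩ := h2
      exact s.2 (hle (Submodule.mem_colon_singleton.mpr (by simpa using hs)))
    · omega
  · by_contra hcon
    push_neg at hcon
    have hsub : ((LinearMap.range π : Ideal R) : Set R) ⊆ ⋃ p ∈ associatedPrimes R R, (p : Set R) := by
      rw [biUnion_associatedPrimes_eq_compl_nonZeroDivisors]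
      exact hcon
    obtain ⟨p, hp, hle⟩ := (Ideal.subset_union_prime_finite (associatedPrimes.finite R R) ⊥ ⊥
      (fun p hp _ _ => IsAssociatedPrime.isPrime hp)).mp hsub
    haveI := IsAssociatedPrime.isPrime hp
    rcases key p hp with ⟨-, h⟩ | ⟨h, -⟩
    · exact hall h
    · obtain ⟨y, hy⟩ : (fun _ => (1 : Localization.AtPrime p)) ∈
        LinearMap.range (P.map (algebraMap R (Localization.AtPrime p))).mulVecLin := h ▸ Submodule.mem_top
      have h2 := congrFun hy 0
      have hmem : (P.map (algebraMap R (Localization.AtPrime p))).mulVecLin y 0 ∈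
          maximalIdeal (Localization.AtPrime p) := by
        rw [Matrix.mulVecLin_apply, Matrix.mulVec, dotProduct]
        refine Ideal.sum_mem (maximalIdeal (Localization.AtPrime p)) fun j _ => Ideal.mul_mem_right _ (maximalIdeal (Localization.AtPrime p)) ?_
        rw [← Localization.AtPrime.map_eq_maximalIdeal]
        exact Ideal.mem_map_of_mem (algebraMap R (Localization.AtPrime p)) (hle (show P 0 j ∈ LinearMap.range π from ⟨_, rfl⟩))
      rw [h2] at hmem
      exact (Ideal.ne_top_iff_one _).mp (IsLocalRing.maximalIdeal.isMaximal _).ne_top hmem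

end Groth.Agent.S12909
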