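import Groth.Statements.S12915
import Mathlib

set_option autoImplicit false
universe u
open CAlgX

namespace Groth.Agent.S12915

/-- Let k be a field, S = k[x_0, …, x_r], and f a nonzero homogeneous polynomial of degree m. For every
t ≥ m the image in S/(f) of the homogeneous polynomials of degree t is a k-vector space of dimension
C(t + r, r) - C(t + r - m, r). (The published clause states that the hypersurface f = 0 in P^r has
degree m; its proof computes exactly this Hilbert function, whose polynomial has leading term m
t^(r-1)/(r-1)!, and that computation is what is stated here.) -/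
theorem result (k : Type u) [Field k] (r m : ℕ)
    (f : MvPolynomial (Fin (r + 1)) k) (hf : f.IsHomogeneous m) (hf0 : f ≠ 0) (t : ℕ) (ht : m ≤ t) :
    Module.finrank k
        (Submodule.map ((Ideal.Quotient.mkₐ k (Ideal.span {f})).toLinearMap)
          (MvPolynomial.homogeneousSubmodule (Fin (r + 1)) k t)) =
      Nat.choose (t + r) r - Nat.choose (t + r - m) r := by
  classical
  have hdim : ∀ N, Module.finrank k ↥(MvPolynomial.homogeneousSubmodule (Fin (r + 1)) k N) = (N + r).choose r := by
    intro N
    let e : ↥(MvPolynomial.homogeneousSubmodule (Fin (r + 1)) k N) ≃ₗ[k] ↥(MvPolynomial.restrictSupport k {d : Fin (r + 1) →₀ ℕ | d.degree = N}) :=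
      LinearEquiv.ofEq _ _ (MvPolynomial.homogeneousSubmodule_eq_finsupp_supported (Fin (r + 1)) k N)
    have hs : {d : Fin (r + 1) →₀ ℕ | d.degree = N} = ↑((Finset.univ : Finset (Fin (r + 1))).finsuppAntidiag N) := by
      ext d
      simp [Finsupp.degree_eq_sum]
    rw [e.finrank_eq, Module.finrank_eq_nat_card_basis (MvPolynomial.basisRestrictSupport k _), hs,
      Nat.card_coe_set_eq, Set.ncard_coe_finset, Finset.card_finsuppAntidiag_nat_eq_choose,
      Finset.card_univ, Fintype.card_fin, show r + 1 + N - 1 = N + r by omega]
    exact Nat.choose_symm_of_eq_add (by omega)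
  let H : ℕ → Submodule k (MvPolynomial (Fin (r + 1)) k) := MvPolynomial.homogeneousSubmodule (Fin (r + 1)) k
  haveI : ∀ N, Module.Finite k (H N) := fun N => Module.finite_of_finrank_pos (by rw [hdim]; exact Nat.choose_pos (by omega))
  let q : MvPolynomial (Fin (r + 1)) k →ₗ[k] _ := (Ideal.Quotient.mkₐ k (Ideal.span {f})).toLinearMap
  let φ : H (t - m) →ₗ[k] H t := ((LinearMap.mulLeft k f) ∘ₗ (H (t - m)).subtype).codRestrict (H t) fun p => by
    have := hf.mul p.2
    rwa [show m + (t - m) = t by omega] at this
  have hφ : Function.Injective φ := fun a b h => by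
    apply Subtype.ext
    exact mul_left_cancel₀ hf0 (congrArg Subtype.val h)
  let ψ : H t →ₗ[k] _ := q ∘ₗ (H t).subtype
  have hker : LinearMap.ker ψ = LinearMap.range φ := by
    ext p
    constructor
    · intro hp
      have hp' : Ideal.Quotient.mk (Ideal.span {f}) p.1 = 0 := hp
      rw [Ideal.Quotient.eq_zero_iff_mem, Ideal.mem_span_singleton'] at hp'
      obtain ⟨g, hg⟩ := hp'
      refine ⟨⟨MvPolynomial.homogeneousComponent (t - m) g, MvPolynomial.homogeneousComponent_mem (t - m) g⟩, Subtype.ext ?_⟩
      show f * MvPolynomial.homogeneousComponent (t - m) g = p.1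
      rw [← MvPolynomial.homogeneousComponent_eq_self p.2, ← hg]
      conv_rhs => rw [← MvPolynomial.sum_homogeneousComponent g, Finset.sum_mul, map_sum]
      have hterm : ∀ i, MvPolynomial.homogeneousComponent t (MvPolynomial.homogeneousComponent i g * f) =
          if i = t - m then f * MvPolynomial.homogeneousComponent (t - m) g else 0 := by
        intro i
        have hh : (MvPolynomial.homogeneousComponent i g * f) ∈ H (i + m) :=
          (MvPolynomial.homogeneousComponent_isHomogeneous i g).mul hf
        rw [MvPolynomial.homogeneousComponent_of_mem hh]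
        by_cases hi : i = t - m
        · rw [if_pos hi, if_pos (by omega), hi, mul_comm]
        · rw [if_neg hi, if_neg (by omega)]
      rw [Finset.sum_congr rfl (fun i _ => hterm i), Finset.sum_ite_eq']
      split_ifs with h
      · rfl
      · rw [MvPolynomial.homogeneousComponent_eq_zero (t - m) g (by simp at h; omega), mul_zero]
    · rintro ⟨g, rfl⟩
      show Ideal.Quotient.mk (Ideal.span {f}) (f * g.1) = 0
      rw [Ideal.Quotient.eq_zero_iff_mem]
      exact Ideal.mem_span_singleton'.mpr ⟨g.1, mul_comm _ _⟩
  have h1 := LinearMap.finrank_range_add_finrank_ker ψ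
  have h2 : LinearMap.range ψ = Submodule.map q (H t) := by
    show LinearMap.range (q ∘ₗ (H t).subtype) = _
    rw [LinearMap.range_comp, Submodule.range_subtype]
  rw [hker, h2, LinearMap.finrank_range_of_inj hφ, hdim, hdim] at h1
  show Module.finrank k (Submodule.map q (H t)) = _
  rw [show t + r - m = t - m + r by omega]
  omega

end Groth.Agent.S12915
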