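import Groth.Statements.S12916
import Mathlib

set_option autoImplicit false
universe u
open MvPolynomial
open CAlgX

namespace Groth.Agent.S12916

/-- Let k be an infinite field, S = k[x_0, …, x_r], M a finitely generated S-module and d a natural
number. Then some nonzero homogeneous polynomial f of degree d is quasi-regular on M: the submodule
(0 :_M f) of elements of M annihilated by f has finite length. (The published statement assumes M
graded; this row assumes only that M is finitely generated.) -/
theorem result (k : Type u) [Field k] [Infinite k] (r d : ℕ)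
    (M : Type u) [AddCommGroup M] [Module (MvPolynomial (Fin (r + 1)) k) M] [Module.Finite (MvPolynomial (Fin (r + 1)) k) M] :
    ∃ f : MvPolynomial (Fin (r + 1)) k, f.IsHomogeneous d ∧ f ≠ 0 ∧
      IsFiniteLength (MvPolynomial (Fin (r + 1)) k) ↥(Submodule.torsionBy (MvPolynomial (Fin (r + 1)) k) M f) := by
  classical
  rcases Nat.eq_zero_or_pos d with rfl | hd
  · refine ⟨1, isHomogeneous_one _ _, one_ne_zero, ?_⟩
    haveI : Subsingleton ↥(Submodule.torsionBy (MvPolynomial (Fin (r + 1)) k) M 1) :=
      ⟨fun x y => by
        have hx := x.2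
        have hy := y.2
        rw [Submodule.mem_torsionBy_iff, one_smul] at hx hy
        exact Subtype.ext (hx.trans hy.symm)⟩
    exact IsFiniteLength.of_subsingleton
  set R := MvPolynomial (Fin (r + 1)) k
  let V := homogeneousSubmodule (Fin (r + 1)) k d
  let S : Set (Ideal R) := {p ∈ associatedPrimes R M | ∃ g ∈ V, g ∉ p}
  haveI : Finite S := ((associatedPrimes.finite R M).subset (Set.sep_subset _ _)).to_subtype
  let P : Option S → Submodule k V := fun o =>
    o.elim ⊥ fun p => ((p.1.restrictScalars k).comap V.subtype)
  have hVne : ∃ g : V, g ≠ 0 := ⟨⟨X 0 ^ d, by simpa [V] using (isHomogeneous_X k (0 : Fin (r + 1))).pow d⟩,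
    fun h => by simpa [X_ne_zero] using congrArg Subtype.val h⟩
  obtain ⟨f, hf⟩ := Submodule.exists_forall_notMem_of_forall_ne_top P fun o => by
    cases o with
    | none =>
      obtain ⟨g, hg⟩ := hVne
      intro h
      have : g ∈ P none := h ▸ Submodule.mem_top
      exact hg (by simpa [P] using this)
    | some p =>
      obtain ⟨g, hgV, hgp⟩ := p.2.2
      intro h
      have : (⟨g, hgV⟩ : V) ∈ P (some p) := h ▸ Submodule.mem_top
      exact hgp this
  refine ⟨f.1, f.2, fun h => hf none (show f ∈ (⊥ : Submodule k V) from (Submodule.mem_bot k).mpr (Subtype.ext h)), ?_⟩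
  set T := Submodule.torsionBy R M f.1
  set m : Ideal R := RingHom.ker (constantCoeff (σ := Fin (r + 1)) (R := k))
  have hmax : m.IsMaximal := RingHom.ker_isMaximal_of_surjective _ fun a => ⟨C a, constantCoeff_C _ a⟩
  have hX : m ≤ Ideal.span (Set.range X) := by
    intro g hg
    rw [show Set.range (X : Fin (r+1) → R) = X '' Set.univ from Set.image_univ.symm, MvPolynomial.mem_ideal_span_X_image]
    intro e he
    have : e ≠ 0 := fun h0 => by
      rw [h0, mem_support_iff] at he
      exact he hg
    obtain ⟨i, hi⟩ := Finsupp.ne_iff.mp this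
    exact ⟨i, trivial, by simpa using hi⟩
  have hass : ∀ p ∈ associatedPrimes R T, m ≤ p := by
    intro p hp
    have hfp : f.1 ∈ p := by
      refine hp.isPrime.radical ▸ ?_
      have := IsAssociatedPrime.annihilator_le hp
      exact Ideal.le_radical (this (Submodule.mem_annihilator.mpr fun x _ => Subtype.ext ((Submodule.mem_torsionBy_iff _ _).mp x.2)))
    have hpM : p ∈ associatedPrimes R M := associatedPrimes.subset_of_injective T.injective_subtype hp
    have hVp : ∀ g ∈ V, g ∈ p := by
      by_contra h
      push Not at h
      exact hf (some ⟨p, hpM, h⟩) hfp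
    refine hX.trans (Ideal.span_le.mpr ?_)
    rintro _ ⟨i, rfl⟩
    exact hp.isPrime.mem_of_pow_mem d (hVp _ (by simpa [V] using (isHomogeneous_X k i).pow d))
  have hrad : m ≤ (Module.annihilator R T).radical := by
    rw [← Ideal.sInf_minimalPrimes]
    exact le_sInf fun p hp => hass p (Module.associatedPrimes.minimalPrimes_annihilator_subset_associatedPrimes R T hp)
  haveI : IsArtinianRing (R ⧸ Module.annihilator R T) := by
    rw [isArtinianRing_iff_isNoetherianRing_krullDimLE_zero]
    refine ⟨inferInstance, Ring.krullDimLE_zero_iff.mpr fun J hJ => ?_⟩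
    haveI := hJ
    let J' : Ideal R := J.comap (Ideal.Quotient.mk (Module.annihilator R T))
    have hJ' : Module.annihilator R T ≤ J' := fun x hx => by
      show Ideal.Quotient.mk _ x ∈ J
      rw [Ideal.Quotient.eq_zero_iff_mem.mpr hx]; exact zero_mem J
    have hle : m ≤ J' := hrad.trans ((Ideal.IsPrime.radical_le_iff (Ideal.IsPrime.comap _)).mpr hJ')
    have : J' = m := (hmax.eq_of_le (Ideal.IsPrime.comap _).ne_top hle).symm
    haveI : J'.IsMaximal := this ▸ hmax
    have hJmax : (J'.map (Ideal.Quotient.mk (Module.annihilator R T))).IsMaximal :=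
      Ideal.IsMaximal.map_of_surjective_of_ker_le Ideal.Quotient.mk_surjective
        (by rw [Ideal.mk_ker]; exact hJ')
    rwa [Ideal.map_comap_of_surjective _ Ideal.Quotient.mk_surjective] at hJmax
  letI : Module (R ⧸ Module.annihilator R T) T := (Module.isTorsionBySet_annihilator (R := R) (M := T)).module
  haveI : IsScalarTower R (R ⧸ Module.annihilator R T) T := ⟨fun a b x => by
    obtain ⟨c, rfl⟩ := Ideal.Quotient.mk_surjective b
    show (a * c) • x = a • c • x
    rw [mul_smul]⟩
  haveI : Module.Finite (R ⧸ Module.annihilator R T) T :=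
    Module.Finite.of_restrictScalars_finite R (R ⧸ Module.annihilator R T) T
  haveI : IsArtinian (R ⧸ Module.annihilator R T) T := inferInstance
  rw [isFiniteLength_iff_isNoetherian_isArtinian]
  exact ⟨inferInstance, isArtinian_of_surjective_algebraMap (S := R) (R := R ⧸ Module.annihilator R T) Ideal.Quotient.mk_surjective⟩

end Groth.Agent.S12916
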