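import Groth.Statements.S12917
import Mathlib
import Groth.Agent.Lib.PointsIdeal
import Groth.Agent.Lib.PointsResolution

set_option autoImplicit false
universe u
open MvPolynomial
open Groth.Agent.Points (theta coeff_theta vanishes_iff Vanishes vanishes_component)
open Groth.Agent.PointsResolution
open CAlgX

namespace Groth.Agent.S12917

/-- Let k be a field, Z a finite set of nonzero vectors in k^3, regarded as points of the projective
plane, and I the homogeneous vanishing ideal of Z in S = k[x_0, x_1, x_2]: a polynomial belongs to I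
exactly when each of its homogeneous components vanishes at every vector of Z. Then I has a free
resolution of length one: for some t there are a (t+1) × t matrix Ψ over S, injective as a map S^t →
S^{t+1}, and an S-linear map π : S^{t+1} → S with ker π = im Ψ and im π = I. (The published
statement speaks of the minimal free resolution of I having length 1; stated here as the existence
of such a resolution.) -/
theorem result (k : Type u) [Field k]
    (Z : Finset (Fin 3 → k)) (hZ : ∀ p ∈ Z, p ≠ 0) (I : Ideal (MvPolynomial (Fin 3) k))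
    (hI : ∀ f : MvPolynomial (Fin 3) k, f ∈ I ↔
      ∀ p ∈ Z, ∀ j : ℕ, MvPolynomial.eval p (MvPolynomial.homogeneousComponent j f) = 0) :
    ∃ (t : ℕ) (Ψ : Matrix (Fin (t + 1)) (Fin t) (MvPolynomial (Fin 3) k)) (π : (Fin (t + 1) → MvPolynomial (Fin 3) k) →ₗ[MvPolynomial (Fin 3) k] MvPolynomial (Fin 3) k),
      LinearMap.ker Ψ.mulVecLin = ⊥ ∧ LinearMap.ker π = LinearMap.range Ψ.mulVecLin ∧ LinearMap.range π = I := by
  obtain ⟨t, ψ, π, h1, h2, h3⟩ := res_points Z hZ
  have hψ : (LinearMap.toMatrix' ψ).mulVecLin = ψ := Matrix.toLin'_toMatrix' ψ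
  refine ⟨t, LinearMap.toMatrix' ψ, π, ?_, ?_, h3.trans ?_⟩
  · rw [hψ]; exact LinearMap.ker_eq_bot.mpr h1
  · rw [hψ]; exact h2.linearMap_ker_eq
  · ext f
    simp only [Submodule.mem_iInf, RingHom.mem_ker, hI]
    exact (vanishes_iff (k := k) (Z := (Z : Set (Fin 3 → k)))).symm

end Groth.Agent.S12917
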