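import Groth.Statements.S12919
import Mathlib
import Groth.Agent.Lib.H8Hopf

set_option autoImplicit false
universe u v w w'
open HopfRep

namespace Groth.Agent.S12919

/-- Let `k` be a commutative ring, `A` a commutative Hopf algebra over `k`, flat as a `k`-module, `B` a
commutative `k`-algebra with a coaction of `A` that is an algebra map, and `α : A → B` a total
integral (a comodule map with `α 1 = 1`). For every `B`-module `M` with a compatible `A`-coaction,
the map `m ↦ Σ α(S(m₁)) • m₀` lands in the invariants `M^A = {m | ρ(m) = m ⊗ 1}` and is the identity
on them: it is a `k`-linear projector of `M` onto `M^A`. -/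
theorem result
    (k : Type u) [CommRing k] (A : Type v) [CommRing A] [HopfAlgebra k A] [Module.Flat k A]
    (B : Type w) [CommRing B] [Algebra k B] [HopfRep.Comod k A B] [GLin.IsCoactAlg k A B]
    (α : A →ₗ[k] B) (hα : Hoch.IsComodHom A α) (hα1 : α 1 = 1)
    (M : Type w') [AddCommGroup M] [Module k M] [Module B M] [IsScalarTower k B M]
    [HopfRep.Comod k A M] [TameAct.IsHopfMod k A B M] :
    (∀ m : M, TameAct.reynolds k A B M α m ∈ HopfRep.fixedPts k A M) ∧
      ∀ m ∈ HopfRep.fixedPts k A M, TameAct.reynolds k A B M α m = m := by
  constructor
  · intro m
    show HopfRep.Comod.coact (k := k) (A := A) (TameAct.reynolds k A B M α m) =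
      TensorProduct.tmul k (TameAct.reynolds k A B M α m) (1 : A)
    open TensorProduct in
    let S := HopfAlgebraStruct.antipode (R := k) (A := A)
    let T : TensorProduct k A A →ₗ[k] TensorProduct k B A := α.rTensor A
    let Φ : M → TensorProduct k A A →ₗ[k] TensorProduct k M A := fun x => TensorProduct.lift
      (LinearMap.mk₂ k (fun a b => TameAct.hmSMul k A B M (T (CoalgebraStruct.comul (R := k) (S b))) (TensorProduct.tmul k x a))
        (fun a a' b => by simp [TensorProduct.tmul_add]) (fun r a b => by simp [TensorProduct.tmul_smul])
        (fun a b b' => by simp) (fun r a b => by simp))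
    have hΦ : ∀ x a b, Φ x (TensorProduct.tmul k a b) =
        TameAct.hmSMul k A B M (T (CoalgebraStruct.comul (R := k) (S b))) (TensorProduct.tmul k x a) := fun x a b => rfl
    let Q : TensorProduct k M (TensorProduct k A A) →ₗ[k] TensorProduct k M A := TensorProduct.lift
      (LinearMap.mk₂ k (fun x w => Φ x w)
        (fun x x' w => by
          induction w using TensorProduct.induction_on with
          | zero => simp
          | tmul a b => simp [hΦ, TensorProduct.add_tmul]
          | add p q hp hq => simp only [map_add, hp, hq]; abel)
        (fun r x w => by
          induction w using TensorProduct.induction_on with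
          | zero => simp
          | tmul a b => simp [hΦ, ← TensorProduct.smul_tmul']
          | add p q hp hq => simp only [map_add, hp, hq, smul_add])
        (fun x w w' => map_add _ _ _) (fun r x w => map_smul _ _ _))
    have hQ : ∀ x w, Q (TensorProduct.tmul k x w) = Φ x w := fun x w => rfl
    let L : TensorProduct k M A →ₗ[k] M :=
      TensorProduct.lift ((Algebra.lsmul k k M : B →ₐ[k] Module.End k M).toLinearMap ∘ₗ α ∘ₗ S).flip
    have k1 : ∀ z : TensorProduct k M A, HopfRep.Comod.coact (k := k) (A := A) (L z) =
        Q (TensorProduct.assoc k M A A ((HopfRep.Comod.coact (k := k) (A := A)).rTensor A z)) := by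
      intro z
      induction z using TensorProduct.induction_on with
      | zero => simp
      | tmul x b =>
        have h1 : HopfRep.Comod.coact (k := k) (A := A) (α (S b)) = T (CoalgebraStruct.comul (R := k) (S b)) :=
          LinearMap.congr_fun hα (S b)
        show HopfRep.Comod.coact (k := k) (A := A) (α (S b) • x) = _
        rw [TameAct.IsHopfMod.coact_smul, h1, LinearMap.rTensor_tmul]
        generalize HopfRep.Comod.coact (k := k) (A := A) x = y
        induction y using TensorProduct.induction_on with
        | zero => simp
        | tmul p q => rw [TensorProduct.assoc_tmul, hQ, hΦ]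
        | add p q hp hq => simp only [map_add, TensorProduct.add_tmul, hp, hq]
      | add p q hp hq => simp only [map_add, hp, hq]
    have k2 : ∀ (x : M) (a : A), Q (TensorProduct.tmul k x (CoalgebraStruct.comul (R := k) a)) =
        TensorProduct.tmul k (α (S a) • x) (1 : A) := by
      intro x a
      let G : TensorProduct k A (TensorProduct k A A) →ₗ[k] TensorProduct k M A :=
        (TensorProduct.comm k A M).toLinearMap ∘ₗ
        TensorProduct.map (LinearMap.mul' k A ∘ₗ S.lTensor A)
          (((Algebra.lsmul k k M : B →ₐ[k] Module.End k M).toLinearMap ∘ₗ α ∘ₗ S).flip x) ∘ₗ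
        (TensorProduct.assoc k A A A).symm.toLinearMap
      have key : ∀ w : TensorProduct k A A, Q (TensorProduct.tmul k x w) =
          G ((CoalgebraStruct.comul (R := k) (A := A)).lTensor A w) := by
        intro w
        induction w using TensorProduct.induction_on with
        | zero => simp
        | tmul p q =>
          rw [hQ, hΦ, H8Hopf.comul_antipode, LinearMap.lTensor_tmul]
          generalize CoalgebraStruct.comul (R := k) q = v
          induction v using TensorProduct.induction_on with
          | zero => simp
          | tmul c d => simp [T, G, S, mul_comm]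
          | add c d hc hd => simp only [TensorProduct.tmul_add, map_add, LinearMap.add_apply, hc, hd]
        | add p q hp hq => simp only [TensorProduct.tmul_add, map_add, hp, hq]
      rw [key, ← Coalgebra.coassoc_apply]
      have key2 : ∀ w : TensorProduct k A A, G (TensorProduct.assoc k A A A ((CoalgebraStruct.comul (R := k) (A := A)).rTensor A w)) =
          TensorProduct.tmul k (α (S (TensorProduct.lid k A ((CoalgebraStruct.counit (R := k) (A := A)).rTensor A w))) • x) (1 : A) := by
        intro w
        induction w using TensorProduct.induction_on with
        | zero => simp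
        | tmul p q =>
          simp only [G, LinearMap.comp_apply, LinearEquiv.coe_coe, LinearEquiv.symm_apply_apply, LinearMap.rTensor_tmul,
            TensorProduct.map_tmul, S]
          rw [HopfAlgebra.mul_antipode_lTensor_comul_apply]
          simp [Algebra.algebraMap_eq_smul_one, TensorProduct.smul_tmul']
        | add p q hp hq => simp only [map_add, hp, hq, add_smul, TensorProduct.add_tmul]
      rw [key2, Coalgebra.rTensor_counit_comul, TensorProduct.lid_tmul, one_smul]
    have hco := LinearMap.congr_fun (HopfRep.Comod.coassoc (k := k) (A := A) (V := M)) m
    simp only [LinearMap.comp_apply, LinearEquiv.coe_coe] at hco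
    rw [show TameAct.reynolds k A B M α m = L (HopfRep.Comod.coact (k := k) (A := A) m) from rfl, k1, hco]
    generalize HopfRep.Comod.coact (k := k) (A := A) m = z
    induction z using TensorProduct.induction_on with
    | zero => simp
    | tmul x a => rw [LinearMap.lTensor_tmul, k2]; rfl
    | add p q hp hq => simp only [map_add, hp, hq, TensorProduct.add_tmul]
  · intro m hm
    rw [TameAct.reynolds_apply_of_coact_eq k A B M α m m 1 hm, HopfAlgebra.antipode_one, hα1, one_smul]

end Groth.Agent.S12919
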