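import Groth.Statements.S12925
import Mathlib

set_option autoImplicit false
universe u w
open HopfRep

namespace Groth.Agent.S12925

/-- Let `k` be a commutative ring, `M` a commutative group and `B` a commutative `k`-algebra with a
coaction of the group algebra `k[M]` that is an algebra map (an action of the diagonalizable group
scheme `D(M) = Spec k[M]` on `Spec B`). Then the action is tame: there is a comodule map `α : k[M] →
B`, for the regular coaction on `k[M]`, with `α 1 = 1`. -/
theorem result
    (k : Type u) [CommRing k] (M : Type u) [CommGroup M]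
    (B : Type w) [CommRing B] [Algebra k B] [HopfRep.Comod k (MonoidAlgebra k M) B]
    [GLin.IsCoactAlg k (MonoidAlgebra k M) B] :
    ∃ α : MonoidAlgebra k M →ₗ[k] B, Hoch.IsComodHom (MonoidAlgebra k M) α ∧ α 1 = 1 := by
  classical
  let c : MonoidAlgebra k M →ₗ[k] k := Finsupp.lapply 1 ∘ₗ (MonoidAlgebra.coeffLinearEquiv k).toLinearMap
  have hc : ∀ (m : M) (r : k), c (MonoidAlgebra.single m r) = if m = 1 then r else 0 := fun m r => by
    simp [c, Finsupp.single_apply]
  refine ⟨c.smulRight (1 : B), LinearMap.ext fun x => ?_, by simp [MonoidAlgebra.one_def, hc]⟩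
  show HopfRep.Comod.coact (c x • (1 : B)) = (c.smulRight (1 : B)).rTensor _ (CoalgebraStruct.comul (R := k) x)
  rw [map_smul, GLin.IsCoactAlg.coact_one (k := k)]
  induction x using MonoidAlgebra.induction_linear with
  | zero => simp
  | add x y hx hy => simp only [map_add, add_smul, hx, hy]
  | single m r =>
    simp only [MonoidAlgebra.comul_single, CommSemiring.comul_apply, TensorProduct.map_tmul, LinearMap.rTensor_tmul,
      LinearMap.smulRight_apply, hc, MonoidAlgebra.lsingle_apply]
    split_ifs with h
    · subst h
      rw [Algebra.TensorProduct.one_def, MonoidAlgebra.one_def, TensorProduct.smul_tmul', one_smul, TensorProduct.smul_tmul]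
      simp
    · simp

end Groth.Agent.S12925
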