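import Groth.Statements.S12926
import Mathlib

set_option autoImplicit false
universe u v
open HopfRep

namespace Groth.Agent.S12926

/-- Let `k` be a commutative ring and `A` a commutative bialgebra over `k`, flat as a `k`-module. If the
submodule `k · 1` of the regular comodule `A` has a complement `H` which is a subcomodule — the case
used when `A` is cosemisimple, i.e. every subcomodule of every comodule is a direct summand as a
comodule — then the trivial action of `Spec A` on `Spec k` is tame: there is a comodule map `α : A →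
k`, for the regular coaction on `A` and the trivial coaction `r ↦ r ⊗ 1` on `k`, with `α 1 = 1`. -/
theorem result
    (k : Type u) [CommRing k] (A : Type v) [CommRing A] [Bialgebra k A] [Module.Flat k A]
    (H : Submodule k A) (hH : HopfRep.IsSubcomod (k := k) (A := A) H)
    (hc : IsCompl (Submodule.span k {(1 : A)}) H) :
    ∃ α : A →ₗ[k] k, @Hoch.IsComodHom k _ A _ _ _ A _ _ _ k _ _ (HopfRep.Comod.trivial k A k) α ∧ α 1 = 1 := by
  let α : A →ₗ[k] k := CoalgebraStruct.counit (R := k) (A := A) ∘ₗ (Submodule.span k {(1 : A)}).subtype ∘ₗ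
    Submodule.projectionOnto _ _ hc
  have hα1 : α 1 = 1 := by
    simp [α, Submodule.projectionOnto_apply_left hc ⟨1, Submodule.mem_span_singleton_self 1⟩]
  have hαH : ∀ h ∈ H, α h = 0 := fun h hh => by simp [α, (Submodule.projectionOnto_apply_eq_zero_iff hc).mpr hh]
  refine ⟨α, LinearMap.ext fun a => ?_, hα1⟩
  obtain ⟨x, hx, w, hw, rfl⟩ := Submodule.mem_sup.mp (hc.2.eq_top ▸ Submodule.mem_top : a ∈ _ ⊔ _)
  obtain ⟨t, rfl⟩ := Submodule.mem_span_singleton.mp hx
  obtain ⟨z, hz⟩ := hH w hw
  show α (t • (1 : A) + w) ⊗ₜ[k] (1 : A) = α.rTensor A (CoalgebraStruct.comul (R := k) (t • (1 : A) + w))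
  simp only [map_add, map_smul, hα1, hαH w hw, Bialgebra.comul_one, Algebra.TensorProduct.one_def,
    LinearMap.rTensor_tmul]
  rw [show CoalgebraStruct.comul (R := k) w = H.subtype.rTensor A z from hz.symm, ← LinearMap.rTensor_comp_apply,
    show α ∘ₗ H.subtype = 0 from LinearMap.ext fun y => hαH y y.2]
  simp [TensorProduct.smul_tmul']

end Groth.Agent.S12926
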