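import Groth.Statements.S16984
import Mathlib
import Groth.Agent.Lib.H8Hoch

set_option autoImplicit false
universe u v w
open Hoch

namespace Groth.Agent.S16984
open TensorProduct in
theorem counit_coact {k : Type u} [CommRing k] {A : Type v} [CommRing A] [Bialgebra k A] {P : Type w}
    [AddCommGroup P] [Module k P] (z : Hoch.Ind k A P) :
    (Hoch.Ind.counit k A P).rTensor A (HopfRep.Comod.coact (k := k) (A := A) z) = (Hoch.Ind.equiv k A P).symm z := by
  obtain ⟨z, rfl⟩ := (Hoch.Ind.equiv k A P).surjective z
  rw [LinearEquiv.symm_apply_apply]
  induction z using TensorProduct.induction_on with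
  | zero => simp
  | tmul p a =>
    have key : ∀ w : A ⊗[k] A, (Hoch.Ind.counit k A P).rTensor A
        ((Hoch.Ind.equiv k A P).toLinearMap.rTensor A ((TensorProduct.assoc k P A A).symm (p ⊗ₜ w))) =
        p ⊗ₜ[k] TensorProduct.lid k A ((CoalgebraStruct.counit (R := k) (A := A)).rTensor A w) := by
      intro w
      induction w using TensorProduct.induction_on with
      | zero => simp
      | tmul s t => simp [TensorProduct.smul_tmul]
      | add s t hs ht => simp only [tmul_add, map_add, hs, ht]
    have h2 := key (CoalgebraStruct.comul (R := k) a)
    rw [Coalgebra.rTensor_counit_comul, TensorProduct.lid_tmul, one_smul] at h2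
    have h3 : HopfRep.Comod.coact (k := k) (A := A) (Hoch.Ind.equiv k A P (p ⊗ₜ a)) =
        (Hoch.Ind.equiv k A P).toLinearMap.rTensor A ((TensorProduct.assoc k P A A).symm (p ⊗ₜ CoalgebraStruct.comul (R := k) a)) :=
      by
        show (TensorProduct.assoc k P A A).symm (p ⊗ₜ CoalgebraStruct.comul (R := k) a) = _
        generalize CoalgebraStruct.comul (R := k) a = w
        induction w using TensorProduct.induction_on with
        | zero => simp only [tmul_zero, map_zero]; rfl
        | tmul s t => rfl
        | add s t hs ht => simp only [tmul_add, map_add]; exact congrArg₂ _ hs ht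
    rw [h3, h2]
  | add s t hs ht => simp only [map_add, hs, ht]

open TensorProduct in
/-- Let k be a commutative ring, A a commutative k-bialgebra that is flat over k (the coordinate ring of
a flat affine group scheme over Spec k; flatness and commutativity are the standing hypotheses of
the appendix and are not needed for the assertion) and P a k-module. Then p ↦ p ⊗ 1 is an injection
of P into the induced comodule P ⊗ A (coaction id ⊗ Δ) whose image is exactly the submodule of
invariants, i.e. the elements with coaction x ↦ x ⊗ 1. (The published statement writes the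
coordinate-ring factor on the left and calls this module coinduced; this row is its degree-zero
part, the identification of P with the invariants of the coinduced module.) -/
theorem result (k : Type u) [CommRing k] (A : Type v) [CommRing A] [Bialgebra k A]
    [Module.Flat k A] (P : Type w) [AddCommGroup P] [Module k P] :
    Function.Injective ((Hoch.Ind.equiv k A P).toLinearMap ∘ₗ (TensorProduct.mk k P A).flip (1 : A)) ∧
    LinearMap.range ((Hoch.Ind.equiv k A P).toLinearMap ∘ₗ (TensorProduct.mk k P A).flip (1 : A)) =
      HopfRep.fixedPts k A (Hoch.Ind k A P) := by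
  let j := (Hoch.Ind.equiv k A P).toLinearMap ∘ₗ (TensorProduct.mk k P A).flip (1 : A)
  have hj : ∀ p, Hoch.Ind.counit k A P (j p) = p := fun p => by simp [j, Bialgebra.counit_one]
  refine ⟨fun p q h => by rw [← hj p, ← hj q]; exact congrArg _ h, le_antisymm ?_ ?_⟩
  · rintro _ ⟨p, rfl⟩
    show (TensorProduct.assoc k P A A).symm (p ⊗ₜ CoalgebraStruct.comul (R := k) (1 : A)) = _
    rw [Bialgebra.comul_one, Algebra.TensorProduct.one_def, TensorProduct.assoc_symm_tmul]
    rfl
  · intro z hz
    refine ⟨Hoch.Ind.counit k A P z, ?_⟩
    have h := counit_coact z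
    rw [show HopfRep.Comod.coact (k := k) (A := A) z = z ⊗ₜ (1 : A) from hz, LinearMap.rTensor_tmul] at h
    simp [h]

end Groth.Agent.S16984
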