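import Groth.Statements.S12929
import Mathlib
import Groth.Agent.S16984

set_option autoImplicit false
universe u v w w'
open HopfRep

namespace Groth.Agent.S12929

/-- Let `k` be a commutative ring, `A` a commutative Hopf algebra over `k`, `M` a right `A`-comodule and
`N` a `k`-module; give `N ⊗ A` the coaction `id ⊗ Δ`. Then for every `k`-linear map `h : M → N` the
composite `(h ⊗ id_A) ∘ ρ_M : M → N ⊗ A` is a comodule map, and every comodule map `f : M → N ⊗ A`
is of this form for exactly one `h` (which is `(id_N ⊗ ε) ∘ f`): comodule maps `M → N ⊗ A`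
correspond bijectively to linear maps `M → N`. -/
theorem result
    (k : Type u) [CommRing k] (A : Type v) [CommRing A] [HopfAlgebra k A]
    (M : Type w) [AddCommGroup M] [Module k M] [HopfRep.Comod k A M]
    (N : Type w') [AddCommGroup N] [Module k N] :
    (∀ h : M →ₗ[k] N, Hoch.IsComodHom A
        ((Hoch.Ind.equiv k A N).toLinearMap ∘ₗ h.rTensor A ∘ₗ HopfRep.Comod.coact (k := k) (A := A))) ∧
      ∀ f : M →ₗ[k] Hoch.Ind k A N, Hoch.IsComodHom A f →
        ∃! h : M →ₗ[k] N,
          f = (Hoch.Ind.equiv k A N).toLinearMap ∘ₗ h.rTensor A ∘ₗ HopfRep.Comod.coact (k := k) (A := A) := by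
  refine ⟨fun h => LinearMap.ext fun m => ?_, fun f hf => ⟨Hoch.Ind.counit k A N ∘ₗ f, ?_, ?_⟩⟩
  · have hco := LinearMap.congr_fun (HopfRep.Comod.coassoc (k := k) (A := A) (V := M)) m
    simp only [LinearMap.comp_apply, LinearEquiv.coe_coe] at hco
    show (TensorProduct.assoc k N A A).symm ((CoalgebraStruct.comul (R := k) (A := A)).lTensor N
        (h.rTensor A (HopfRep.Comod.coact (k := k) (A := A) m))) =
      (h.rTensor A ∘ₗ HopfRep.Comod.coact (k := k) (A := A)).rTensor A (HopfRep.Comod.coact (k := k) (A := A) m)
    rw [← LinearMap.comp_apply ((CoalgebraStruct.comul (R := k) (A := A)).lTensor N) (h.rTensor A),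
      LinearMap.lTensor_comp_rTensor, ← LinearMap.rTensor_comp_lTensor, LinearMap.comp_apply, ← hco]
    generalize HopfRep.Comod.coact (k := k) (A := A) m = z
    induction z using TensorProduct.induction_on with
    | zero => simp
    | tmul a q =>
      simp only [LinearMap.rTensor_tmul, LinearMap.comp_apply]
      generalize HopfRep.Comod.coact (k := k) (A := A) a = y
      induction y using TensorProduct.induction_on with
      | zero => simp
      | tmul p r => simp
      | add p r hp hr => simp only [map_add, TensorProduct.add_tmul, hp, hr]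
    | add p r hp hr => simp only [map_add, hp, hr]
  · refine LinearMap.ext fun m => ?_
    have h1 := LinearMap.congr_fun hf m
    simp only [LinearMap.comp_apply] at h1
    have h2 := Groth.Agent.S16984.counit_coact (f m)
    rw [h1, ← LinearMap.rTensor_comp_apply] at h2
    simp only [LinearMap.comp_apply, LinearEquiv.coe_coe, h2, LinearEquiv.apply_symm_apply]
  · intro h hh
    subst hh
    refine LinearMap.ext fun m => ?_
    have hc := LinearMap.congr_fun (HopfRep.Comod.counit_comp (k := k) (A := A) (V := M)) m
    simp only [LinearMap.comp_apply, LinearMap.flip_apply, TensorProduct.mk_apply] at hc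
    simp only [LinearMap.comp_apply, LinearEquiv.coe_coe, Hoch.Ind.counit, LinearEquiv.symm_apply_apply]
    rw [← LinearMap.comp_apply (CoalgebraStruct.counit.lTensor N) (h.rTensor A), LinearMap.lTensor_comp_rTensor,
      ← LinearMap.rTensor_comp_lTensor, LinearMap.comp_apply, hc]
    simp

end Groth.Agent.S12929
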