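import Groth.Statements.S12931
import Mathlib

set_option autoImplicit false
universe u v w
open HopfRep

namespace Groth.Agent.S12931

/-- Let `R` be a commutative ring, `Γ` a finite set and `T` a commutative `R`-algebra which is
connected: nonzero, with no idempotents other than `0` and `1`. Then `γ ↦ (evaluation at γ : (Γ → R)
→ R → T)` is a bijection from `Γ` onto the `R`-algebra maps `(Γ → R) → T`: every such map sends
exactly one of the indicator functions to `1` and the others to `0`. (Only the bijection of sets is
stated; when `Γ` is a group, the compatibility with the group structures on both sides is not.) -/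
theorem result
    (R : Type u) [CommRing R] (Γ : Type v) [Finite Γ]
    (T : Type w) [CommRing T] [Algebra R T] [Nontrivial T]
    (hT : ∀ e : T, IsIdempotentElem e → e = 0 ∨ e = 1) :
    Function.Bijective (fun γ : Γ => (Algebra.ofId R T).comp (Pi.evalAlgHom R (fun _ : Γ => R) γ)) := by
  classical
  have hfin := Fintype.ofFinite Γ
  constructor
  · intro a b hab
    by_contra hne
    have := DFunLike.congr_fun hab (Pi.single a (1:R))
    simp [Pi.single_apply, Ne.symm hne] at this
  · intro φ
    have hi : ∀ γ, φ (Pi.single γ 1) = 0 ∨ φ (Pi.single γ 1) = 1 := fun γ => hT _ (by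
      show _ * _ = _; rw [← map_mul]; congr 1; ext i; by_cases hi' : i = γ <;> simp [hi'])
    have hsum : ∑ γ, φ (Pi.single γ (1:R)) = 1 := by
      rw [← map_sum, Finset.univ_sum_single]; exact map_one φ
    obtain ⟨γ, hγ⟩ : ∃ γ, φ (Pi.single γ (1:R)) = 1 := by
      by_contra hne
      push_neg at hne
      simp [fun γ => (hi γ).resolve_right (hne γ)] at hsum
    refine ⟨γ, AlgHom.ext fun f => ?_⟩
    have hz : f * Pi.single γ 1 = f γ • Pi.single γ (1:R) := by
      ext i; by_cases hi' : i = γ <;> simp [Pi.single_apply, hi']
    have := congrArg φ hz
    rw [map_mul, hγ, mul_one, map_smul, hγ, Algebra.smul_def, mul_one] at this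
    simpa using this.symm

end Groth.Agent.S12931
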