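import Groth.Statements.S12932
import Mathlib

set_option autoImplicit false
universe u v
open scoped BigOperators
open InvTh

namespace Groth.Agent.S12932

/-- Let `B` be a commutative ring with an action of a finite group `Γ` by ring automorphisms, and call a
prime ideal `P` of `B` tame when the order of its inertia group `{γ | γ • x - x ∈ P for all x}` is
not divisible by the characteristic of `B/P` (its ramification group is trivial). Then every prime
of `B` is tame if and only if the trace `b ↦ Σ_γ γ • b`, which takes values in the invariant ring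
`B^Γ` and is `B^Γ`-linear, is onto `B^Γ` — equivalently, some element of `B` has trace `1`. -/
theorem result
    (B : Type u) [CommRing B] (Γ : Type v) [Group Γ] [Fintype Γ] [MulSemiringAction Γ B] :
    (∃ b : B, ∑ γ : Γ, γ • b = 1) ↔
      ∀ P : Ideal B, P.IsPrime → ((Nat.card (P.inertia Γ) : ℕ) : B ⧸ P) ≠ 0 := by
  classical
  let T : B → B := fun b => ∑ γ : Γ, γ • b
  have hTinv : ∀ (σ : Γ) b, σ • T b = T b := fun σ b => by
    simp only [T, Finset.smul_sum, smul_smul]
    exact Fintype.sum_equiv (Equiv.mulLeft σ) _ _ fun γ => rfl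
  let φ : (P : Ideal B) → Γ → (B →* B ⧸ P) := fun P γ =>
    ((Ideal.Quotient.mk P).comp (MulSemiringAction.toRingHom Γ B γ)).toMonoidHom
  have hfib : ∀ (P : Ideal B) (γ δ : Γ), φ P γ = φ P δ ↔ γ * δ⁻¹ ∈ P.inertia Γ := by
    intro P γ δ
    rw [Ideal.inertia, AddSubgroup.mem_inertia]
    constructor
    · intro h x
      have := DFunLike.congr_fun h (δ⁻¹ • x)
      simp only [φ, RingHom.toMonoidHom_eq_coe, MonoidHom.coe_coe, RingHom.comp_apply,
        MulSemiringAction.toRingHom_apply, smul_smul, mul_inv_cancel, one_smul] at this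
      exact Ideal.Quotient.eq.1 this
    · intro h
      ext x
      simp only [φ, RingHom.toMonoidHom_eq_coe, MonoidHom.coe_coe, RingHom.comp_apply,
        MulSemiringAction.toRingHom_apply]
      rw [Ideal.Quotient.eq]
      have := h (δ • x)
      rwa [smul_smul, inv_mul_cancel_right] at this
  have hsum : ∀ (P : Ideal B) (b : B), Ideal.Quotient.mk P (T b) =
      (Nat.card (P.inertia Γ) : B ⧸ P) * ∑ χ ∈ Finset.univ.image (φ P), χ b := by
    intro P b
    rw [map_sum, Finset.mul_sum]
    rw [← Finset.sum_fiberwise_of_maps_to (g := φ P) (t := Finset.univ.image (φ P))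
      (fun γ _ => Finset.mem_image_of_mem _ (Finset.mem_univ γ))]
    refine Finset.sum_congr rfl fun χ hχ => ?_
    obtain ⟨δ, -, rfl⟩ := Finset.mem_image.1 hχ
    rw [Finset.sum_congr rfl (g := fun _ => φ P δ b) (fun γ hγ => by
      rw [← (Finset.mem_filter.1 hγ).2]; rfl), Finset.sum_const, nsmul_eq_mul]
    congr 2
    rw [Nat.card_eq_fintype_card, ← Finset.card_univ]
    refine Finset.card_bij (fun γ hγ => ⟨γ * δ⁻¹, (hfib P γ δ).1 (Finset.mem_filter.1 hγ).2⟩)
      (fun _ _ => Finset.mem_univ _) (fun a _ c _ h => by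
        simpa using congrArg Subtype.val h) (fun σ _ => ⟨σ.1 * δ, ?_, ?_⟩)
    · rw [Finset.mem_filter]
      exact ⟨Finset.mem_univ _, (hfib P _ δ).2 (by simpa using σ.2)⟩
    · simp
  constructor
  · rintro ⟨b, hb⟩ P hP h0
    have := hsum P b
    rw [show T b = 1 from hb, h0, zero_mul, map_one] at this
    exact hP.ne_top (Ideal.eq_top_iff_one P |>.2 (Ideal.Quotient.eq_zero_iff_mem.1 (by rw [map_one]; exact this)))
  · intro h
    by_contra hne
    let A := FixedPoints.subalgebra ℤ B Γ
    let J : Ideal A :=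
      { carrier := {a | ∃ b, T b = (a : B)}
        zero_mem' := ⟨0, by simp [T]⟩
        add_mem' := fun {a a'} ⟨b, hb⟩ ⟨b', hb'⟩ => ⟨b + b', by
          simp only [T, smul_add, Finset.sum_add_distrib] at *
          rw [hb, hb']; rfl⟩
        smul_mem' := fun a x ⟨b, hb⟩ => ⟨(a : B) * b, by
          simp only [T, smul_mul'] at *
          rw [Finset.sum_congr rfl (g := fun γ => (a : B) * γ • b) (fun γ _ => by rw [a.2 γ]),
            ← Finset.mul_sum, hb]
          rfl⟩ }
    have hJ : J ≠ ⊤ := fun hJ => hne (by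
      have : (1 : A) ∈ J := hJ ▸ Submodule.mem_top
      exact this)
    obtain ⟨m, hm, hJm⟩ := Ideal.exists_le_maximal J hJ
    have : Algebra.IsInvariant A B Γ := ⟨fun b hb => ⟨⟨b, hb⟩, rfl⟩⟩
    have : Algebra.IsIntegral A B := Algebra.IsInvariant.isIntegral A B Γ
    obtain ⟨P, hPmax', hPm⟩ := Ideal.exists_ideal_over_maximal_of_isIntegral (S := B) m (by
      rw [(RingHom.injective_iff_ker_eq_bot _).1 (Subtype.val_injective : Function.Injective (algebraMap A B))]
      exact bot_le)
    have hPmax : P.IsMaximal := by assumption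
    have hz : ∀ b, Ideal.Quotient.mk P (T b) = 0 := fun b => by
      rw [Ideal.Quotient.eq_zero_iff_mem]
      have : (⟨T b, fun σ => hTinv σ b⟩ : A) ∈ m := hJm ⟨b, rfl⟩
      rw [← hPm] at this
      exact this
    apply h P hPmax.isPrime
    have hli := linearIndependent_iff'.1 (linearIndependent_monoidHom B (B ⧸ P))
      (Finset.univ.image (φ P)) (fun _ => (Nat.card (P.inertia Γ) : B ⧸ P)) (by
        funext b
        simp only [Finset.sum_apply, Pi.smul_apply, smul_eq_mul, Pi.zero_apply]
        rw [← Finset.mul_sum, ← hsum P b, hz b])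
    exact hli (φ P 1) (Finset.mem_image_of_mem _ (Finset.mem_univ 1))

end Groth.Agent.S12932
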