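import Groth.Statements.S12934
import Mathlib

set_option autoImplicit false
set_option backward.isDefEq.respectTransparency.types false
set_option maxHeartbeats 1000000
set_option linter.all false
universe u v
open InvTh

namespace Groth.Agent.S12934
open Groth.Agent

/-- Let `B` be a local commutative ring with maximal ideal `m` and residue field `k`, and `Γ` a finite
group acting faithfully on `B` by ring automorphisms, such that every element of `Γ` acts trivially
modulo `m` (the whole group is inertia) and maps each principal ideal of `B` into itself (every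
ideal is stable). Let `S ⊆ Γ` be the set of `γ` with `γ b ∈ b + b m` for all `b`. Then: if `k` has
characteristic `0`, `S = {1}`; if `k` has characteristic `p > 0`, `S` is (the underlying set of) a
Sylow `p`-subgroup; every commutator of `Γ` lies in `S`, so `Γ/S` is abelian; and whenever the class
of `γ` in `Γ/S` has order `n` (`γ^n ∈ S`, no smaller positive power in `S`), `k` contains a
primitive `n`-th root of unity. (The published statement also bounds the number of generators of
`Γ/S` by the number of generators of the monoid of principal ideals; that clause is not included.) -/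
theorem result
    (B : Type u) [CommRing B] [IsLocalRing B]
    (Γ : Type v) [Group Γ] [Finite Γ] [MulSemiringAction Γ B] [FaithfulSMul Γ B]
    (hin : ∀ (γ : Γ) (b : B), γ • b - b ∈ IsLocalRing.maximalIdeal B)
    (hst : ∀ (γ : Γ) (b : B), ∃ u : B, γ • b = b * u)
    (S : Set Γ)
    (hS : ∀ γ : Γ, γ ∈ S ↔ ∀ b : B, ∃ x ∈ IsLocalRing.maximalIdeal B, γ • b = b + b * x) :
    (ringChar (IsLocalRing.ResidueField B) = 0 → S = {1}) ∧
      (∀ (p : ℕ) [Fact p.Prime], ringChar (IsLocalRing.ResidueField B) = p →
        ∃ Q : Sylow p Γ, (Q : Set Γ) = S) ∧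
      (∀ γ δ : Γ, γ * δ * γ⁻¹ * δ⁻¹ ∈ S) ∧
      (∀ (γ : Γ) (n : ℕ), 0 < n → γ ^ n ∈ S → (∀ i : ℕ, 0 < i → i < n → γ ^ i ∉ S) →
        ∃ ζ : IsLocalRing.ResidueField B, IsPrimitiveRoot ζ n) := by
    classical
    let π := IsLocalRing.residue B
    choose u hu using hst
    let U : Γ → B → B := fun γ b => if b = 0 then 1 else u γ b
    have hU : ∀ γ b, γ • b = b * U γ b := fun γ b => by
      simp only [U]; split_ifs with h
      · simp [h]
      · exact hu γ b
    have hπ : ∀ (γ : Γ) (b : B), π (γ • b) = π b := fun γ b => by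
      rw [← sub_eq_zero, ← map_sub]; exact (IsLocalRing.residue_eq_zero_iff _).2 (hin γ b)
    have uniq : ∀ (b v w : B), b ≠ 0 → b * v = b * w → π v = π w := by
      intro b v w hb h
      by_contra hne
      rw [← sub_eq_zero, ← map_sub] at hne
      have hun := IsLocalRing.residue_ne_zero_iff_isUnit _ |>.1 hne
      refine hb ((IsUnit.mul_left_eq_zero hun).1 ?_)
      rw [mul_sub, h, sub_self]
    let χ0 : B → (Γ →* IsLocalRing.ResidueField B) := fun b =>
      { toFun := fun γ => π (U γ b)
        map_one' := by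
          by_cases hb : b = 0
          · simp [U, hb]
          · rw [← map_one π]
            exact uniq b _ _ hb (by rw [← hU, one_smul, mul_one])
        map_mul' := fun γ δ => by
          by_cases hb : b = 0
          · simp [U, hb]
          · rw [← hπ γ (U δ b), ← map_mul]
            refine uniq b _ _ hb ?_
            rw [← hU (γ * δ), mul_smul, hU δ b, smul_mul', hU γ b, mul_assoc] }
    let χ : B → (Γ →* (IsLocalRing.ResidueField B)ˣ) := fun b => (χ0 b).toHomUnits
    let T : Subgroup Γ := ⨅ b, (χ b).ker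
    have hT : ∀ γ, γ ∈ T ↔ ∀ b, π (U γ b) = 1 := fun γ => by
      simp only [T, Subgroup.mem_iInf, MonoidHom.mem_ker, Units.ext_iff, χ]
      rfl
    have hST : ∀ γ, γ ∈ S ↔ γ ∈ T := fun γ => by
      rw [hS, hT]
      refine forall_congr' fun b => ⟨?_, fun h => ⟨U γ b - 1, ?_, ?_⟩⟩
      · rintro ⟨x, hx, h⟩
        by_cases hb : b = 0
        · simp [U, hb]
        · rw [uniq b (U γ b) (1 + x) hb (by rw [← hU, h]; ring), map_add, map_one,
            (IsLocalRing.residue_eq_zero_iff x).2 hx, add_zero]
      · exact (IsLocalRing.residue_eq_zero_iff _).1 (by rw [map_sub, map_one]; exact sub_eq_zero.2 h)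
      · rw [hU]; ring
    have key : ∀ (γ : Γ) (n : ℕ), γ ∈ T → γ ^ n = 1 → (n : IsLocalRing.ResidueField B) ≠ 0 → γ = 1 := by
      intro γ n hγ hn hne
      refine FaithfulSMul.eq_of_smul_eq_smul (α := B) fun b => ?_
      rw [one_smul, ← sub_eq_zero]
      set c := γ • b - b with hc
      have h1 : ∑ i ∈ Finset.range n, γ ^ i • c = 0 := by
        simp only [hc, smul_sub, ← mul_smul, ← pow_succ]
        rw [Finset.sum_range_sub (fun i => γ ^ i • b), hn, pow_zero, one_smul, sub_self]
      simp only [hU, ← Finset.mul_sum] at h1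
      refine (IsUnit.mul_left_eq_zero ?_).1 h1
      refine (IsLocalRing.residue_ne_zero_iff_isUnit _).1 ?_
      show π _ ≠ 0
      rw [map_sum, Finset.sum_congr rfl fun i _ => (hT _).1 (T.pow_mem hγ i) c]
      simpa using hne
    have hSeq : S = (T : Set Γ) := Set.ext hST
    refine ⟨fun h0 => ?_, fun p hp hpk => ?_, fun γ δ => ?_, fun γ n hn hγ hmin => ?_⟩
    · haveI : CharZero (IsLocalRing.ResidueField B) := (CharP.ringChar_zero_iff_CharZero _).1 h0
      refine Set.ext fun γ => ⟨fun h => key γ (orderOf γ) ((hST γ).1 h) (pow_orderOf_eq_one γ) ?_, fun h => ?_⟩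
      · exact Nat.cast_ne_zero.2 (orderOf_pos γ).ne'
      · rw [Set.mem_singleton_iff.1 h, hSeq]; exact T.one_mem
    · haveI : CharP (IsLocalRing.ResidueField B) p := hpk ▸ ringChar.charP _
      have hTp : IsPGroup p T := fun g => by
        obtain ⟨a, m, hm, hgm⟩ := Nat.exists_eq_pow_mul_and_not_dvd (orderOf_pos (g : Γ)).ne' p hp.out.ne_one
        refine ⟨a, Subtype.ext ?_⟩
        rw [SubmonoidClass.coe_pow, OneMemClass.coe_one]
        refine key _ m (T.pow_mem g.2 _) ?_ ((CharP.cast_eq_zero_iff _ p m).not.2 hm)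
        rw [← pow_mul, ← hgm, pow_orderOf_eq_one]
      obtain ⟨Q, hQ⟩ := hTp.exists_le_sylow
      refine ⟨Q, ?_⟩
      rw [hSeq]
      refine SetLike.coe_set_eq.2 (le_antisymm (fun γ hγ => (hT γ).2 fun b => ?_) hQ)
      obtain ⟨a, ha⟩ := Q.isPGroup' ⟨γ, hγ⟩
      have h1 : γ ^ p ^ a = 1 := congrArg Subtype.val ha
      have h2 : (π (U γ b) - 1) ^ p ^ a = 0 := by
        rw [sub_pow_char_pow, one_pow]
        have h3 := map_pow (χ0 b) γ (p ^ a)
        rw [h1, map_one] at h3
        exact sub_eq_zero.2 h3.symm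
      exact sub_eq_zero.1 ((pow_eq_zero_iff (pow_ne_zero a hp.out.ne_zero)).1 h2)
    · rw [hST]
      simp only [T, Subgroup.mem_iInf, MonoidHom.mem_ker, map_mul, map_inv]
      intro b
      rw [mul_comm (χ b γ), mul_assoc, mul_assoc, ← mul_assoc (χ b γ), mul_inv_cancel, one_mul, mul_inv_cancel]
    · let H : Subgroup (IsLocalRing.ResidueField B)ˣ := Subgroup.closure (Set.range fun b => χ b γ)
      have hHn : H ≤ rootsOfUnity n (IsLocalRing.ResidueField B) := by
        refine (Subgroup.closure_le _).2 ?_
        rintro _ ⟨b, rfl⟩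
        refine (mem_rootsOfUnity _ _).2 ?_
        rw [← map_pow]
        exact (MonoidHom.mem_ker).1 (Subgroup.mem_iInf.1 ((hST _).1 hγ) b)
      haveI : NeZero n := ⟨hn.ne'⟩
      haveI : Finite H := Finite.of_injective _ (Subgroup.inclusion_injective hHn)
      obtain ⟨g, hg⟩ := IsCyclic.exists_generator (α := H)
      have hord : orderOf (g : (IsLocalRing.ResidueField B)ˣ) = n := by
        have hle : orderOf (g : (IsLocalRing.ResidueField B)ˣ) ∣ n :=
          orderOf_dvd_of_pow_eq_one ((mem_rootsOfUnity _ _).1 (hHn g.2))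
        refine le_antisymm (Nat.le_of_dvd hn hle) (not_lt.1 fun hlt => ?_)
        refine hmin _ (Nat.pos_of_dvd_of_pos hle hn) hlt ((hST _).2 ?_)
        simp only [T, Subgroup.mem_iInf, MonoidHom.mem_ker, map_pow]
        intro b
        obtain ⟨e, he⟩ := Subgroup.mem_zpowers_iff.1 (hg ⟨χ b γ, Subgroup.subset_closure ⟨b, rfl⟩⟩)
        have he' : (g : (IsLocalRing.ResidueField B)ˣ) ^ e = χ b γ := by
          rw [← SubgroupClass.coe_zpow, he]
        rw [← he', ← zpow_natCast, zpow_comm, zpow_natCast, pow_orderOf_eq_one, one_zpow]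
      exact ⟨(((g : (IsLocalRing.ResidueField B)ˣ)) : IsLocalRing.ResidueField B),
        IsPrimitiveRoot.coe_units_iff.2 (IsPrimitiveRoot.iff_orderOf.2 hord)⟩

end Groth.Agent.S12934
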