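import Groth.Statements.S12936
import Mathlib

set_option autoImplicit false
universe u v
open InvTh

namespace Groth.Agent.S12936

/-- Let `B` be a commutative ring with an action of a finite group `Γ` by ring automorphisms and `P` a
maximal ideal of `B`, with decomposition group `D_P = {γ | γP = P}` and decomposition ring `D =
B^{D_P}`. Then `D = B^Γ + (P ∩ D)`: every element of `B` fixed by `D_P` is congruent modulo `P` to a
`Γ`-invariant element. Hence the residue field of `D` at `P ∩ D` is that of `B^Γ` at `P ∩ B^Γ`; for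
an arbitrary prime `P` the same equality of residue fields follows by localising at `P ∩ B^Γ`. (The
published statement prints this residue field as `k(P)`; the proof establishes the equality with the
residue field of `B^Γ` stated here.) -/
theorem result
    (B : Type u) [CommRing B] (Γ : Type v) [Group Γ] [Finite Γ] [MulSemiringAction Γ B]
    (P : Ideal B) [P.IsMaximal] (x : B)
    (hx : ∀ γ : Γ, (∀ y : B, y ∈ P ↔ γ • y ∈ P) → γ • x = x) :
    ∃ c : B, (∀ γ : Γ, γ • c = c) ∧ x - c ∈ P := by
  classical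
  let D : Subgroup Γ :=
    { carrier := {γ | ∀ y : B, y ∈ P ↔ γ • y ∈ P}
      one_mem' := fun y => by rw [one_smul]
      mul_mem' := fun {a b} ha hb y => by rw [hb y, ha (b • y), mul_smul]
      inv_mem' := fun {a} ha y => by rw [ha (a⁻¹ • y), smul_inv_smul] }
  haveI : Fintype Γ := Fintype.ofFinite Γ
  -- `e` is congruent to 1 modulo `P` and lies in all conjugates different from `P`.
  have hsep : ∀ γ : Γ, γ ∉ D → ∃ a : B, a - 1 ∈ P ∧ γ • a ∈ P := fun γ hγ => by
    let Q : Ideal B := P.comap (MulSemiringAction.toRingHom Γ B γ)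
    haveI : Q.IsPrime := Ideal.IsPrime.comap _
    have hQ : ¬ Q ≤ P := fun hle => by
      haveI : Q.IsMaximal := Ideal.comap_isMaximal_of_surjective _ (fun b => ⟨γ⁻¹ • b, smul_inv_smul γ b⟩)
      have e := Ideal.IsMaximal.eq_of_le ‹Q.IsMaximal› (Ideal.IsPrime.ne_top inferInstance) hle
      exact hγ fun y => (SetLike.ext_iff.1 e y).symm
    obtain ⟨a, haQ, b, hb, hab⟩ := Submodule.mem_sup.1 ((Ideal.eq_top_iff_one _).1 (show Q ⊔ P = ⊤ from
      (inferInstance : P.IsMaximal).1.2 _ (right_lt_sup.2 hQ) ) : (1 : B) ∈ Q ⊔ P)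
    exact ⟨a, by rw [← hab, sub_add_cancel_left]; exact P.neg_mem hb, haQ⟩
  choose a ha1 ha2 using hsep
  let e0 : B := ∏ γ : Γ, if h : γ ∈ D then 1 else a γ h
  have he0 : e0 - 1 ∈ P := by
    rw [← Ideal.Quotient.eq, map_prod, map_one]
    refine Finset.prod_eq_one fun γ _ => ?_
    split_ifs with h
    · exact map_one _
    · rw [← map_one (Ideal.Quotient.mk P), Ideal.Quotient.eq]; exact ha1 γ h
  have he0' : ∀ γ ∉ D, γ • e0 ∈ P := fun γ hγ => by
    simp only [e0, Finset.smul_prod']
    exact P.prod_mem (Finset.mem_univ γ) (by rw [dif_neg hγ]; exact ha2 γ hγ)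
  let e : B := ∏ δ : D, (δ : Γ) • e0
  have heD : ∀ δ ∈ D, δ • e = e := fun δ hδ => by
    simp only [e, Finset.smul_prod', ← mul_smul]
    exact Fintype.prod_equiv (Equiv.mulLeft (⟨δ, hδ⟩ : D)) _ _ fun _ => rfl
  have he : e - 1 ∈ P := by
    rw [← Ideal.Quotient.eq, map_prod, map_one]
    refine Finset.prod_eq_one fun δ _ => ?_
    rw [← map_one (Ideal.Quotient.mk P), Ideal.Quotient.eq, ← smul_one (δ : Γ), ← smul_sub]
    exact (δ.2 _).1 he0
  have he' : ∀ γ ∉ D, γ • e ∈ P := fun γ hγ => by
    simp only [e, Finset.smul_prod', ← mul_smul]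
    exact P.prod_mem (Finset.mem_univ (1 : D)) (by rw [OneMemClass.coe_one, mul_one]; exact he0' γ hγ)
  let z := x * e
  have hz : ∀ δ ∈ D, δ • z = z := fun δ hδ => by rw [smul_mul', hx δ hδ, heD δ hδ]
  let F : Γ ⧸ D → B := Quotient.lift (fun γ : Γ => γ • z) (fun g g' h => by
    show g • z = g' • z
    have hd := hz _ (QuotientGroup.leftRel_apply.1 h)
    calc g • z = g • (g⁻¹ * g') • z := by rw [hd]
      _ = g' • z := by rw [← mul_smul, mul_inv_cancel_left])
  refine ⟨∑ q, F q, fun γ => ?_, ?_⟩
  · rw [Finset.smul_sum]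
    refine Fintype.sum_equiv (MulAction.toPerm γ) _ _ fun q => ?_
    induction q using QuotientGroup.induction_on with
    | _ g => exact (mul_smul γ g z).symm
  · rw [← Finset.add_sum_erase _ _ (Finset.mem_univ ((1 : Γ) : Γ ⧸ D))]
    have h1 : F ((1 : Γ) : Γ ⧸ D) = z := one_smul Γ z
    rw [h1, ← sub_sub]
    refine P.sub_mem ?_ (P.sum_mem fun q hq => ?_)
    · have : x - z = -(x * (e - 1)) := by simp [z]; ring
      rw [this]; exact P.neg_mem (P.mul_mem_left _ he)
    · induction q using QuotientGroup.induction_on with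
      | _ g =>
        have hg : g ∉ D := fun hg => (Finset.mem_erase.1 hq).1 (by rw [QuotientGroup.eq]; simpa using hg)
        show g • (x * e) ∈ P
        rw [smul_mul']
        exact P.mul_mem_left _ (he' g hg)

end Groth.Agent.S12936
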