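import Groth.Statements.S12937
import Mathlib

set_option autoImplicit false
universe u v
open InvTh

namespace Groth.Agent.S12937

/-- Let `B` be a commutative ring with an action of a finite group `Γ` by ring automorphisms, `P` a
maximal ideal of `B`, `T = {γ | γ x - x ∈ P for all x}` its inertia group, `B^T` the inertia ring
and `B^Γ` the ring of invariants, so that `k(P ∩ B^Γ) ⊆ k(P ∩ B^T) ⊆ k(P) = B/P`. Then `k(P ∩ B^T)`
is the largest separable extension of `k(P ∩ B^Γ)` inside `k(P)`: an element `x` of `B` is congruent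
modulo `P` to a `T`-invariant element if and only if `x mod P` is a root of some polynomial with
`Γ`-invariant coefficients whose reduction modulo `P` is separable. (The published statement is for
every prime ideal `P`, as an equality of residue fields; this row takes `P` maximal, the case to
which the published proof reduces by localising at `P ∩ B^Γ`.) -/
theorem result
    (B : Type u) [CommRing B] (Γ : Type v) [Group Γ] [Finite Γ] [MulSemiringAction Γ B]
    (P : Ideal B) [P.IsMaximal] (x : B) :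
    (∃ y : B, (∀ γ : Γ, γ ∈ P.inertia Γ → γ • y = y) ∧ x - y ∈ P) ↔
      ∃ g : Polynomial B, (∀ (i : ℕ) (γ : Γ), γ • g.coeff i = g.coeff i) ∧
        (g.map (Ideal.Quotient.mk P)).Separable ∧ Polynomial.aeval x g ∈ P := by
  classical
  haveI : Fintype Γ := Fintype.ofFinite Γ
  letI : Field (B ⧸ P) := Ideal.Quotient.field P
  let π : B →+* B ⧸ P := Ideal.Quotient.mk P
  let act : Γ → B →+* B := fun γ => MulSemiringAction.toRingHom Γ B γ
  let D : Subgroup Γ :=
    { carrier := {γ | ∀ b, γ • b ∈ P ↔ b ∈ P}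
      mul_mem' := fun {a c} ha hc b => by rw [mul_smul, ha, hc]
      one_mem' := fun b => by rw [one_smul]
      inv_mem' := fun {a} ha b => by rw [← ha (a⁻¹ • b), smul_inv_smul] }
  let T : Subgroup Γ := P.inertia Γ
  have hT : ∀ γ, γ ∈ T ↔ ∀ b, γ • b - b ∈ P := fun γ => Iff.rfl
  have hπT : ∀ γ ∈ T, ∀ b, π (γ • b) = π b := fun γ hγ b => Ideal.Quotient.eq.mpr ((hT γ).mp hγ b)
  have hTD : ∀ γ ∈ T, γ ∈ D := by
    intro γ hγ b
    rw [← Ideal.Quotient.eq_zero_iff_mem, ← Ideal.Quotient.eq_zero_iff_mem]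
    show π _ = 0 ↔ π _ = 0
    rw [hπT γ hγ]
  have hD : ∀ γ ∈ D, ∀ b c, π b = π c → π (γ • b) = π (γ • c) := by
    intro γ hγ b c h
    rw [Ideal.Quotient.eq] at h ⊢
    rw [← smul_sub]; exact (hγ _).mpr h
  have hπ0 : ∀ b, π b = 0 ↔ b ∈ P := fun b => Ideal.Quotient.eq_zero_iff_mem
  have hfixpow : ∀ (H : Subgroup Γ) (s : B), (∀ γ ∈ H, γ • s = s) → π s ≠ 0 →
      (∀ γ ∈ H, γ ∈ D) → ∃ s' : B, (∀ γ ∈ H, γ • s' = s') ∧ π (s * s') = 1 := by
    intro H s hs hs0 hHD
    obtain ⟨r, hr⟩ := Ideal.Quotient.mk_surjective (π s)⁻¹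
    refine ⟨s ^ (Fintype.card H - 1) * ∏ γ : H, (γ : Γ) • r, fun γ hγ => ?_, ?_⟩
    · rw [smul_mul', smul_pow', hs γ hγ, Finset.smul_prod']
      congr 1
      exact Fintype.prod_equiv (Equiv.mulLeft ⟨γ, hγ⟩) _ _ (fun c => by simp [mul_smul])
    · have h1 : ∀ c : H, π ((c : Γ) • (r * s)) = 1 := fun c => by
        rw [hD c (hHD c c.2) (r * s) 1 (by rw [map_mul, show π r = _ from hr, inv_mul_cancel₀ hs0, map_one]),
          smul_one, map_one]
      rw [← mul_assoc, ← pow_succ', Nat.sub_add_cancel Fintype.card_pos, ← Finset.card_univ,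
        ← Finset.prod_const, ← Finset.prod_mul_distrib, map_prod]
      refine Finset.prod_eq_one (fun c _ => ?_)
      rw [← h1 c, smul_mul', hs c c.2, mul_comm]
  -- lifting from the decomposition group
  have step1 : ∀ z : B, (∀ γ ∈ D, γ • z = z) → ∃ w : B, (∀ γ : Γ, γ • w = w) ∧ π w = π z := by
    intro z hz
    have hsep : ∀ γ : Γ, γ ∉ D → ∃ c, γ • c ∈ P ∧ c ∉ P := by
      intro γ hγ
      by_contra hne
      push Not at hne
      apply hγ
      have hle : P.comap (act γ) ≤ P := fun c hc => hne c hc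
      haveI : (P.comap (act γ)).IsMaximal :=
        Ideal.comap_isMaximal_of_surjective (act γ) (fun b => ⟨γ⁻¹ • b, smul_inv_smul γ b⟩)
      have heq := ‹(P.comap (act γ)).IsMaximal›.eq_of_le (Ideal.IsMaximal.ne_top ‹P.IsMaximal›) hle
      intro b
      conv_rhs => rw [← heq]
      rfl
    choose! c hc using hsep
    let pr := ∏ γ ∈ Finset.univ.filter (fun γ : Γ => γ ∉ D), c γ
    have hpr0 : π pr ≠ 0 := by
      rw [map_prod, Finset.prod_ne_zero_iff]
      intro γ hγ h0
      exact (hc γ (Finset.mem_filter.mp hγ).2).2 ((hπ0 _).mp h0)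
    obtain ⟨r, hr⟩ := Ideal.Quotient.mk_surjective (π pr)⁻¹
    let e0 := pr * r
    have he0 : π e0 = 1 := by rw [map_mul, show π r = _ from hr, mul_inv_cancel₀ hpr0]
    have he0' : ∀ γ ∉ D, γ • e0 ∈ P := by
      intro γ hγ
      obtain ⟨d, hd⟩ : c γ ∣ pr := Finset.dvd_prod_of_mem c (by simp [hγ])
      show γ • (pr * r) ∈ P
      rw [hd, smul_mul', smul_mul']
      exact P.mul_mem_right _ (P.mul_mem_right _ (hc γ hγ).1)
    let e := ∏ d : D, (d : Γ) • e0
    have heD : ∀ γ ∈ D, γ • e = e := fun γ hγ => by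
      rw [Finset.smul_prod']
      exact Fintype.prod_equiv (Equiv.mulLeft ⟨γ, hγ⟩) _ _ (fun c => by simp [mul_smul])
    have he : π e = 1 := by
      rw [map_prod]
      exact Finset.prod_eq_one (fun d _ => by rw [hD d d.2 e0 1 (by rw [he0, map_one]), smul_one, map_one])
    have he' : ∀ γ ∉ D, γ • e ∈ P := by
      intro γ hγ
      rw [Finset.smul_prod']
      obtain ⟨d, hd⟩ := Finset.dvd_prod_of_mem (fun d : D => γ • (d : Γ) • e0) (Finset.mem_univ (1 : D))
      rw [hd]
      refine P.mul_mem_right _ ?_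
      simpa using he0' γ hγ
    let v : Γ ⧸ D → B := fun q => Quotient.liftOn' q (fun γ => γ • (z * e)) (fun a b hab => by
      have hmem : a⁻¹ * b ∈ D := QuotientGroup.leftRel_apply.mp hab
      show a • (z * e) = b • (z * e)
      conv_rhs => rw [show b = a * (a⁻¹ * b) by group, mul_smul, smul_mul', hz _ hmem, heD _ hmem])
    haveI : Fintype (Γ ⧸ D) := Fintype.ofFinite _
    refine ⟨∑ q, v q, fun γ => ?_, ?_⟩
    · rw [Finset.smul_sum]
      refine Fintype.sum_equiv (MulAction.toPerm γ) _ _ (fun q => ?_)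
      induction q using QuotientGroup.induction_on with
      | H a => exact (mul_smul γ a (z * e)).symm
    · rw [map_sum, Finset.sum_eq_single (QuotientGroup.mk (1 : Γ))]
      · show π ((1 : Γ) • (z * e)) = π z
        rw [one_smul, map_mul, he, mul_one]
      · intro q _ hq
        induction q using QuotientGroup.induction_on with
        | H a =>
          have ha : a ∉ D := fun h => hq (QuotientGroup.eq.mpr (by simpa using D.inv_mem h))
          show π (a • (z * e)) = 0
          rw [hπ0, smul_mul']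
          exact P.mul_mem_left _ (he' a ha)
      · intro h; exact absurd (Finset.mem_univ _) h
  let K1 : Subfield (B ⧸ P) :=
    { carrier := {l | ∃ u, (∀ γ ∈ T, γ • u = u) ∧ π u = l}
      mul_mem' := fun {a b} ⟨u, hu, hua⟩ ⟨w, hw, hwb⟩ =>
        ⟨u * w, fun γ hγ => by rw [smul_mul', hu γ hγ, hw γ hγ], by rw [map_mul, hua, hwb]⟩
      one_mem' := ⟨1, fun γ _ => smul_one γ, map_one π⟩
      add_mem' := fun {a b} ⟨u, hu, hua⟩ ⟨w, hw, hwb⟩ =>
        ⟨u + w, fun γ hγ => by rw [smul_add, hu γ hγ, hw γ hγ], by rw [map_add, hua, hwb]⟩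
      zero_mem' := ⟨0, fun γ _ => smul_zero γ, map_zero π⟩
      neg_mem' := fun {a} ⟨u, hu, hua⟩ =>
        ⟨-u, fun γ hγ => by rw [smul_neg, hu γ hγ], by rw [map_neg, hua]⟩
      inv_mem' := fun a ⟨u, hu, hua⟩ => by
        by_cases h0 : a = 0
        · exact ⟨0, fun γ _ => smul_zero γ, by rw [map_zero, h0, inv_zero]⟩
        obtain ⟨s', hs', hss⟩ := hfixpow T u hu (by rw [hua]; exact h0) hTD
        refine ⟨s', hs', ?_⟩
        rw [map_mul, hua] at hss
        exact eq_inv_of_mul_eq_one_right hss }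
  -- every element is purely inseparable over `K1`
  let F : B → Polynomial B := fun b => ∏ t : T, (Polynomial.X - Polynomial.C ((t : Γ) • b))
  have hFfix : ∀ b, ∀ γ ∈ T, (F b).map (act γ) = F b := by
    intro b γ hγ
    rw [Polynomial.map_prod]
    refine Fintype.prod_equiv (Equiv.mulLeft ⟨γ, hγ⟩) _ _ (fun c => ?_)
    simp [act, mul_smul]
  have hFmap : ∀ b, (F b).map π = (Polynomial.X - Polynomial.C (π b)) ^ Fintype.card T := by
    intro b
    rw [Polynomial.map_prod, ← Finset.card_univ, ← Finset.prod_const]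
    refine Finset.prod_congr rfl (fun t _ => ?_)
    rw [Polynomial.map_sub, Polynomial.map_X, Polynomial.map_C, hπT t t.2]
  have hFcoeff : ∀ b i, ∀ γ ∈ T, γ • (F b).coeff i = (F b).coeff i := fun b i γ hγ => by
    conv_rhs => rw [← hFfix b γ hγ, Polynomial.coeff_map]
    rfl
  have hfaith : ∀ δ ∈ D, (∀ u, (∀ γ ∈ T, γ • u = u) → π (δ • u) = π u) → δ ∈ T := by
    intro δ hδ hfix
    rw [hT]
    intro b
    rw [← Ideal.Quotient.eq]
    show π (δ • b) = π b
    have h1 : ((F b).map (act δ)).map π = (Polynomial.X - Polynomial.C (π (δ • b))) ^ Fintype.card T := by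
      rw [Polynomial.map_map, Polynomial.map_prod, ← Finset.card_univ, ← Finset.prod_const]
      refine Finset.prod_congr rfl (fun t _ => ?_)
      rw [Polynomial.map_sub, Polynomial.map_X, Polynomial.map_C]
      show Polynomial.X - Polynomial.C (π (δ • (t : Γ) • b)) = _
      rw [hD δ hδ _ b (hπT t t.2 b)]
    have h2 : ((F b).map (act δ)).map π = (F b).map π := by
      ext i
      rw [Polynomial.coeff_map, Polynomial.coeff_map, Polynomial.coeff_map]
      exact hfix _ (hFcoeff b i)
    rw [hFmap, h1] at h2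
    have h3 := congr_arg (Polynomial.eval (π b)) h2
    rw [Polynomial.eval_pow, Polynomial.eval_pow, Polynomial.eval_sub, Polynomial.eval_sub,
      Polynomial.eval_X, Polynomial.eval_C, Polynomial.eval_C, sub_self, zero_pow Fintype.card_ne_zero] at h3
    exact (sub_eq_zero.mp ((pow_eq_zero_iff Fintype.card_ne_zero).mp h3)).symm
  -- elements of `K1` fixed by the decomposition group come from invariants
  let TD : Subgroup D := T.subgroupOf D
  haveI : Fintype (D ⧸ TD) := Fintype.ofFinite _
  have hDT : ∀ δ ∈ D, ∀ u : B, (∀ γ ∈ T, γ • u = u) → ∀ γ ∈ T, γ • δ • u = δ • u := by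
    intro δ hδ u hu γ hγ
    have hmem : δ⁻¹ * γ * δ ∈ T := by
      rw [hT]
      intro b
      have h1 : γ • δ • b - δ • b ∈ P := (hT γ).mp hγ _
      have h2 := (D.inv_mem hδ (γ • δ • b - δ • b)).mpr h1
      rwa [smul_sub, inv_smul_smul, ← mul_smul, ← mul_smul] at h2
    conv_rhs => rw [← hu _ hmem, ← mul_smul, show δ * (δ⁻¹ * γ * δ) = γ * δ by group, mul_smul]
  have step2 : ∀ u : B, (∀ γ ∈ T, γ • u = u) → (∀ δ ∈ D, π (δ • u) = π u) →
      ∃ w : B, (∀ γ : Γ, γ • w = w) ∧ π w = π u := by
    intro u hu hfix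
    let U := {u : B // ∀ γ ∈ T, γ • u = u}
    let sact : D ⧸ TD → U → B := fun q w => Quotient.liftOn' q (fun δ => (δ : Γ) • w.1) (fun a b hab => by
      have hmem : a⁻¹ * b ∈ TD := QuotientGroup.leftRel_apply.mp hab
      show (a : Γ) • w.1 = (b : Γ) • w.1
      rw [show (b : Γ) = (a : Γ) * ((a⁻¹ * b : D) : Γ) by simp, mul_smul]
      exact (congrArg ((a : Γ) • ·) (w.2 _ hmem)).symm)
    let U' : Submonoid B :=
      { carrier := {u | ∀ γ ∈ T, γ • u = u}
        mul_mem' := fun {a b} ha hb γ hγ => by rw [smul_mul', ha γ hγ, hb γ hγ]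
        one_mem' := fun γ _ => smul_one γ }
    have hsmk : ∀ (δ : D) (w : U), sact (QuotientGroup.mk δ) w = (δ : Γ) • w.1 := fun δ w => rfl
    let χ : D ⧸ TD → (U' →* B ⧸ P) := fun q =>
      { toFun := fun w => π (sact q ⟨w.1, w.2⟩)
        map_one' := by
          induction q using QuotientGroup.induction_on with
          | H a => show π ((a : Γ) • (1 : B)) = 1; rw [smul_one, map_one]
        map_mul' := fun a b => by
          induction q using QuotientGroup.induction_on with
          | H d =>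
            show π ((d : Γ) • ((a : B) * b)) = π ((d : Γ) • (a : B)) * π ((d : Γ) • (b : B))
            rw [smul_mul', map_mul] }
    have hχinj : Function.Injective χ := by
      intro q q' h
      induction q using QuotientGroup.induction_on with
      | H a =>
        induction q' using QuotientGroup.induction_on with
        | H b =>
          rw [QuotientGroup.eq, Subgroup.mem_subgroupOf]
          refine hfaith _ (a⁻¹ * b).2 (fun w hw => ?_)
          have h1 : π ((a : Γ) • w) = π ((b : Γ) • w) := DFunLike.congr_fun h (⟨w, hw⟩ : U')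
          have h2 := hD _ (D.inv_mem a.2) _ _ h1
          rw [inv_smul_smul, ← mul_smul] at h2
          rw [h2]; rfl
    have hli := (linearIndependent_monoidHom U' (B ⧸ P)).comp χ hχinj
    obtain ⟨⟨y, hy⟩, hne⟩ : ∃ y : U', ∑ q, χ q y ≠ 0 := by
      by_contra h
      push Not at h
      have := Fintype.linearIndependent_iff.mp hli (fun _ => 1) (funext fun y => by
        simpa using h y) (QuotientGroup.mk 1)
      exact one_ne_zero this
    let S : U → B := fun w => ∑ q, sact q w
    have hSD : ∀ w, ∀ γ ∈ D, γ • S w = S w := by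
      intro w γ hγ
      rw [Finset.smul_sum]
      refine Fintype.sum_equiv (MulAction.toPerm (⟨γ, hγ⟩ : D)) _ _ (fun q => ?_)
      induction q using QuotientGroup.induction_on with
      | H a => exact (mul_smul γ (a : Γ) w.1).symm
    have hSy : π (S ⟨y, hy⟩) ≠ 0 := by
      rw [map_sum]; exact hne
    obtain ⟨s', hs', hss⟩ := hfixpow D _ (hSD ⟨y, hy⟩) hSy (fun γ h => h)
    have hSuy : π (S ⟨u * y, fun γ hγ => by rw [smul_mul', hu γ hγ, hy γ hγ]⟩) = π u * π (S ⟨y, hy⟩) := by
      rw [map_sum, map_sum, Finset.mul_sum]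
      refine Finset.sum_congr rfl (fun q _ => ?_)
      induction q using QuotientGroup.induction_on with
      | H a => rw [hsmk, hsmk, smul_mul', map_mul, hfix _ a.2]
    obtain ⟨w, hw, hwe⟩ := step1 (S ⟨u * y, fun γ hγ => by rw [smul_mul', hu γ hγ, hy γ hγ]⟩ * s')
      (fun γ hγ => by rw [smul_mul', hSD _ γ hγ, hs' γ hγ])
    refine ⟨w, hw, ?_⟩
    rw [hwe, map_mul, hSuy, mul_assoc, ← map_mul, hss, mul_one]
  constructor
  · rintro ⟨y, hy, hxy⟩
    have hxy' : π x = π y := Ideal.Quotient.eq.mpr hxy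
    let R : Finset (B ⧸ P) := Finset.univ.image (fun δ : D => π ((δ : Γ) • y))
    let lift : B ⧸ P → B := fun r => if h : ∃ δ : D, π ((δ : Γ) • y) = r then ((h.choose : D) : Γ) • y else 0
    have hlift : ∀ r ∈ R, π (lift r) = r ∧ ∀ γ ∈ T, γ • lift r = lift r := by
      intro r hr
      obtain ⟨δ, -, hδ⟩ := Finset.mem_image.mp hr
      have h : ∃ δ : D, π ((δ : Γ) • y) = r := ⟨δ, hδ⟩
      simp only [lift, dif_pos h]
      exact ⟨h.choose_spec, hDT _ h.choose.2 y hy⟩
    let Ht : Polynomial B := ∏ r ∈ R, (Polynomial.X - Polynomial.C (lift r))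
    have hHt : ∀ i, ∀ γ ∈ T, γ • Ht.coeff i = Ht.coeff i := by
      intro i γ hγ
      have : Ht.map (act γ) = Ht := by
        rw [Polynomial.map_prod]
        refine Finset.prod_congr rfl (fun r hr => ?_)
        rw [Polynomial.map_sub, Polynomial.map_X, Polynomial.map_C]
        show Polynomial.X - Polynomial.C (γ • lift r) = _
        rw [(hlift r hr).2 γ hγ]
      conv_rhs => rw [← this, Polynomial.coeff_map]
      rfl
    have hπH : Ht.map π = ∏ r ∈ R, (Polynomial.X - Polynomial.C r) := by
      rw [Polynomial.map_prod]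
      refine Finset.prod_congr rfl (fun r hr => ?_)
      rw [Polynomial.map_sub, Polynomial.map_X, Polynomial.map_C, (hlift r hr).1]
    have hfixH : ∀ i, ∀ δ ∈ D, π (δ • Ht.coeff i) = π (Ht.coeff i) := by
      intro i δ hδ
      have key : (Ht.map (act δ)).map π = Ht.map π := by
        rw [Polynomial.map_map, Polynomial.map_prod, hπH]
        refine Finset.prod_bij (fun r _ => π (δ • lift r)) (fun r hr => ?_) (fun r hr r' hr' h => ?_)
          (fun r hr => ?_) (fun r hr => ?_)
        · obtain ⟨ε, -, hε⟩ := Finset.mem_image.mp hr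
          refine Finset.mem_image.mpr ⟨⟨δ, hδ⟩ * ε, Finset.mem_univ _, ?_⟩
          rw [Subgroup.coe_mul, mul_smul]
          exact hD δ hδ _ _ (hε.trans (hlift r hr).1.symm)
        · have := hD δ⁻¹ (D.inv_mem hδ) _ _ h
          rwa [inv_smul_smul, inv_smul_smul, (hlift r hr).1, (hlift r' hr').1] at this
        · obtain ⟨ε, -, hε⟩ := Finset.mem_image.mp hr
          have hmem : π ((δ⁻¹ * ε : Γ) • y) ∈ R :=
            Finset.mem_image.mpr ⟨⟨δ, hδ⟩⁻¹ * ε, Finset.mem_univ _, rfl⟩
          refine ⟨_, hmem, ?_⟩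
          rw [hD δ hδ _ _ (hlift _ hmem).1, ← mul_smul, mul_inv_cancel_left]
          exact hε
        · rw [Polynomial.map_sub, Polynomial.map_X, Polynomial.map_C]; rfl
      have := congr_arg (fun p => Polynomial.coeff p i) key
      simpa [Polynomial.coeff_map, act] using this
    choose W hW hWe using fun i => step2 (Ht.coeff i) (hHt i) (hfixH i)
    let g : Polynomial B := ∑ i ∈ Ht.support, Polynomial.C (W i) * Polynomial.X ^ i
    have hgπ : g.map π = Ht.map π := by
      conv_rhs => rw [Polynomial.as_sum_support_C_mul_X_pow Ht]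
      simp only [g, Polynomial.map_sum, Polynomial.map_mul, Polynomial.map_C, Polynomial.map_pow,
        Polynomial.map_X, hWe]
    refine ⟨g, fun i γ => ?_, ?_, ?_⟩
    · have : g.map (act γ) = g := by
        simp only [g, Polynomial.map_sum, Polynomial.map_mul, Polynomial.map_C, Polynomial.map_pow,
          Polynomial.map_X]
        refine Finset.sum_congr rfl (fun j _ => ?_)
        show Polynomial.C (γ • W j) * _ = _
        rw [hW]
      conv_rhs => rw [← this, Polynomial.coeff_map]
      rfl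
    · show (g.map π).Separable
      rw [hgπ, hπH]
      exact Polynomial.separable_prod_X_sub_C_iff'.mpr (fun _ _ _ _ h => h)
    · rw [← hπ0, Polynomial.aeval_def, Polynomial.eval₂_eq_eval_map, Algebra.algebraMap_self,
        Polynomial.map_id, ← Polynomial.eval₂_at_apply, ← Polynomial.eval_map, hgπ, hπH,
        Polynomial.eval_prod, hxy']
      refine Finset.prod_eq_zero (i := π y) (Finset.mem_image.mpr ⟨1, Finset.mem_univ _, by simp⟩) ?_
      simp
  · rintro ⟨g, hg, hsep, hroot⟩
    have hroot' : Polynomial.eval (π x) (g.map π) = 0 := by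
      rw [Polynomial.eval_map, Polynomial.eval₂_at_apply, hπ0]
      rwa [Polynomial.aeval_def, Polynomial.eval₂_eq_eval_map, Algebra.algebraMap_self,
        Polynomial.map_id] at hroot
    obtain ⟨gK, hgK⟩ : ∃ q : Polynomial K1, q.map (algebraMap K1 (B ⧸ P)) = g.map π := by
      refine (Polynomial.mem_lifts _).mp ((Polynomial.lifts_iff_coeff_lifts _).mpr (fun i => ?_))
      rw [Polynomial.coeff_map]
      exact ⟨⟨π (g.coeff i), g.coeff i, fun γ _ => hg i γ, rfl⟩, rfl⟩
    obtain ⟨fK, hfK⟩ : ∃ q : Polynomial K1, q.map (algebraMap K1 (B ⧸ P)) = (F x).map π := by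
      refine (Polynomial.mem_lifts _).mp ((Polynomial.lifts_iff_coeff_lifts _).mpr (fun i => ?_))
      rw [Polynomial.coeff_map]
      exact ⟨⟨π ((F x).coeff i), (F x).coeff i, hFcoeff x i, rfl⟩, rfl⟩
    have hint : IsIntegral K1 (π x) := by
      have hne : fK ≠ 0 := by
        intro h
        rw [h, Polynomial.map_zero, hFmap] at hfK
        exact pow_ne_zero _ (Polynomial.X_sub_C_ne_zero _) hfK.symm
      exact IsAlgebraic.isIntegral ⟨fK, hne, by
        rw [Polynomial.aeval_def, ← Polynomial.eval_map, hfK, hFmap]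
        simp [Fintype.card_ne_zero]⟩
    let m := minpoly K1 (π x)
    have hmg : m.map (algebraMap K1 (B ⧸ P)) ∣ g.map π :=
      hgK ▸ Polynomial.map_dvd _ (minpoly.dvd _ _ (by
        rw [Polynomial.aeval_def, ← Polynomial.eval_map, hgK, hroot']))
    have hmf : m.map (algebraMap K1 (B ⧸ P)) ∣ (Polynomial.X - Polynomial.C (π x)) ^ Fintype.card T :=
      hFmap x ▸ hfK ▸ Polynomial.map_dvd _ (minpoly.dvd _ _ (by
        rw [Polynomial.aeval_def, ← Polynomial.eval_map, hfK, hFmap]; simp [Fintype.card_ne_zero]))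
    obtain ⟨j, hj, hja⟩ := (dvd_prime_pow (Polynomial.prime_X_sub_C (π x)) _).mp hmf
    have hm1 : m.map (algebraMap K1 (B ⧸ P)) = (Polynomial.X - Polynomial.C (π x)) ^ j :=
      Polynomial.eq_of_monic_of_associated ((minpoly.monic hint).map _) ((Polynomial.monic_X_sub_C _).pow j) hja
    have hj1 : j ≤ 1 := by
      by_contra h
      push Not at h
      have hsq := (Polynomial.Separable.of_dvd hsep hmg).squarefree
      rw [hm1] at hsq
      refine (Polynomial.prime_X_sub_C (π x)).not_unit (hsq _ ?_)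
      rw [← sq]
      exact pow_dvd_pow _ h
    have hdeg : m.natDegree = 1 := by
      have hpos : 0 < m.natDegree := minpoly.natDegree_pos hint
      have := congr_arg Polynomial.natDegree hm1
      rw [Polynomial.natDegree_map, Polynomial.natDegree_pow, Polynomial.natDegree_X_sub_C, mul_one] at this
      omega
    obtain ⟨⟨l, u, hu, hul⟩, hl⟩ := minpoly.natDegree_eq_one_iff.mp hdeg
    refine ⟨u, hu, Ideal.Quotient.eq.mp ?_⟩
    show π x = π u
    rw [hul, ← hl]
    rfl

end Groth.Agent.S12937
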