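import Groth.Statements.S12944
import Groth.Agent.Lib.H9StDiagConv

set_option autoImplicit false
set_option backward.isDefEq.respectTransparency.types false
universe u
open CategoryTheory AlgebraicGeometry
open AlgSt

namespace Groth.Agent.S12944

/-- For a morphism f of algebraic stacks that is representable by algebraic spaces, these three
conditions coincide: f is quasi-separated (every base change to a scheme is a quasi-separated
morphism of algebraic spaces); the diagonal of f is quasi-compact; the diagonal of f is of finite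
type. -/
theorem result
    (S : Scheme.{u}) (𝒳 : AlgSt.Cat S) (𝒴 : AlgSt.Cat S)
    (h𝒳 : AlgSt.IsAlgStack Scheme.fppfPrecoverage 𝒳)
    (h𝒴 : AlgSt.IsAlgStack Scheme.fppfPrecoverage 𝒴)
    (f : 𝒳 ⥤ᵇ 𝒴)
    (hf : AlgSt.RepByAlgSp1 f) :
    [AlgSt.RepByAlgSpWith AlgSp.IsQuasiSeparatedMor f,
      AlgSt.RepByAlgSpWith AlgSp.IsQuasiCompactMor (FibCat.diag f),
      AlgSt.RepByAlgSpWith AlgSp.IsFiniteTypeMor (FibCat.diag f)].TFAE := by
  haveI := h𝒳.isStack.1
  haveI := h𝒴.isStack.1
  tfae_have 1 → 3 := fun h => by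
    haveI := H9St.respectsIso_locP (S := S) (P := @LocallyOfFiniteType)
    haveI : FibCat.IsFibGrpd (FibCat.fp f f).p := H9Fib.isFibGrpd_fp _ _
    intro U y
    obtain ⟨F, e, he, hP⟩ := H9St.both_of_rep
      (H9St.repWith_diag_of_rep1 (P := AlgSp.LocP @LocallyOfFiniteType) hf fun F U m _ hm => H9St.MonoLFT.lft hm)
      (H9St.qcqs_diag_of_qs h) U y
    exact ⟨F, e, he, hP.1, hP.2.1⟩
  tfae_have 3 → 2 := fun h U y => (h U y).imp fun F ⟨e, he, hP⟩ => ⟨e, he, hP.2⟩
  tfae_have 2 → 1 := fun h => H9St.qs_of_qc_diag hf h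
  tfae_finish

end Groth.Agent.S12944
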