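import Groth.Statements.S12946
import Groth.Agent.Lib.H9StQC
import Mathlib.RingTheory.Unramified.LocalStructure

set_option autoImplicit false
set_option backward.isDefEq.respectTransparency.types false
universe u
open CategoryTheory AlgebraicGeometry
open AlgSt

namespace Groth.Agent.S12946

/-- A DM morphism of algebraic stacks is quasi-DM (an unramified morphism of algebraic spaces being
locally quasi-finite). -/
theorem result
    (S : Scheme.{u}) (𝒳 : AlgSt.Cat S) (𝒴 : AlgSt.Cat S)
    (h𝒳 : AlgSt.IsAlgStack Scheme.fppfPrecoverage 𝒳)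
    (h𝒴 : AlgSt.IsAlgStack Scheme.fppfPrecoverage 𝒴)
    (f : 𝒳 ⥤ᵇ 𝒴) :
    AlgSt.IsDMMor f → AlgSt.IsQuasiDMMor f := by
  intro h U y
  obtain ⟨F, e, he, hP⟩ := h U y
  refine ⟨F, e, he, ASp.locP_mono (fun {A B} g hg => ?_) hP⟩
  obtain ⟨h1, h2⟩ := hg
  haveI := h1
  haveI := h2
  refine ⟨⟨fun {U} hU {V} hV e => ?_⟩, h1⟩
  have ft := g.finiteType_appLE hU hV e
  have fu := g.formallyUnramified_appLE hU hV e
  algebraize [(g.appLE U V e).hom]
  show Algebra.QuasiFinite _ _
  infer_instance

end Groth.Agent.S12946
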