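import Groth.Statements.S12979
import Groth.Agent.Lib.H9StDiagConv

set_option autoImplicit false
set_option backward.isDefEq.respectTransparency.types false
universe u
open CategoryTheory AlgebraicGeometry
open AlgSt

namespace Groth.Agent.S12979

/-- If the first and second diagonals of a morphism f of algebraic stacks are both universally closed
(as morphisms representable by algebraic spaces), then f is separated. (The published statement is
an equivalence; this row states the implication from the two diagonals to separatedness.) -/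
theorem result
    (S : Scheme.{u}) (𝒳 : AlgSt.Cat S) (𝒴 : AlgSt.Cat S)
    (h𝒳 : AlgSt.IsAlgStack Scheme.fppfPrecoverage 𝒳)
    (h𝒴 : AlgSt.IsAlgStack Scheme.fppfPrecoverage 𝒴)
    (f : 𝒳 ⥤ᵇ 𝒴) :
    AlgSt.RepByAlgSpWith AlgSp.IsUnivClosedMor (FibCat.diag f) →
      AlgSt.RepByAlgSpWith AlgSp.IsUnivClosedMor (FibCat.diag (FibCat.diag f)) → AlgSt.IsSeparatedMor f := by
  haveI := h𝒳.isStack.1
  haveI := h𝒴.isStack.1
  intro h₁ h₂
  haveI := H9St.respectsIso_locP (S := S) (P := @LocallyOfFiniteType)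
  haveI : FibCat.IsFibGrpd (FibCat.fp f f).p := H9Fib.isFibGrpd_fp _ _
  have hs := H9St.separated_of_univClosed_diag (H9St.rep1_diag_of_isAlgStack h𝒳 h𝒴 f) h₂
  intro U y
  obtain ⟨F, e, he, ⟨hl, hu⟩, hsep⟩ := H9St.both_of_rep (H9St.both_of_rep (H9St.lft_diag h𝒳 h𝒴 f) h₁) hs U y
  exact ⟨F, e, he, hsep, ⟨hl, ASp.isQuasiCompactMor_of_univClosed F.property (AlgSp.IsAlgSpace.yon_obj U) hu⟩, hu⟩

end Groth.Agent.S12979
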