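import Groth.Statements.S12980
import Groth.Agent.Lib.H9StDiagConv

set_option autoImplicit false
set_option backward.isDefEq.respectTransparency.types false
universe u
open CategoryTheory AlgebraicGeometry
open AlgSt

namespace Groth.Agent.S12980

/-- A morphism f of algebraic stacks is quasi-separated if and only if its first and second diagonals
are both quasi-compact (as morphisms representable by algebraic spaces). -/
theorem result
    (S : Scheme.{u}) (𝒳 : AlgSt.Cat S) (𝒴 : AlgSt.Cat S)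
    (h𝒳 : AlgSt.IsAlgStack Scheme.fppfPrecoverage 𝒳)
    (h𝒴 : AlgSt.IsAlgStack Scheme.fppfPrecoverage 𝒴)
    (f : 𝒳 ⥤ᵇ 𝒴) :
    AlgSt.IsQuasiSeparatedMor f ↔
      AlgSt.RepByAlgSpWith AlgSp.IsQuasiCompactMor (FibCat.diag f) ∧
        AlgSt.RepByAlgSpWith AlgSp.IsQuasiCompactMor (FibCat.diag (FibCat.diag f)) := by
  haveI := h𝒳.isStack.1
  haveI := h𝒴.isStack.1
  haveI : FibCat.IsFibGrpd (FibCat.fp f f).p := H9Fib.isFibGrpd_fp _ _
  have hd := H9St.rep1_diag_of_isAlgStack h𝒳 h𝒴 f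
  refine ⟨fun h => ⟨fun U y => (h U y).imp fun F ⟨e, he, hP⟩ => ⟨e, he, hP.1⟩, ?_⟩, fun ⟨h₁, h₂⟩ =>
    H9St.both_of_rep h₁ (H9St.qs_of_qc_diag hd h₂)⟩
  exact fun U y => (H9St.qcqs_diag_of_qs (f := FibCat.diag f)
    (fun U y => (h U y).imp fun F ⟨e, he, hP⟩ => ⟨e, he, hP.2⟩) U y).imp fun F ⟨e, he, hP⟩ => ⟨e, he, hP.1⟩

end Groth.Agent.S12980
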