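import Groth.Statements.S1299
import Mathlib
import Groth.Agent.Lib.H2GenericFree

set_option autoImplicit false
universe u
open FlatMor

namespace Groth.Agent.S1299


/-- Over a ring with a least prime `p`: away from one element outside `p`, every point lies in the
closure of the fibre over `p`. -/
theorem exists_dense_generic {R B : Type u} [CommRing R] [CommRing B] [Algebra R B]
    [Algebra.FiniteType R B] (p : Ideal R) [p.IsPrime] (hmin : ∀ P : Ideal R, P.IsPrime → p ≤ P) :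
    ∃ a ∉ p, ∀ q : Ideal B, q.IsPrime → algebraMap R B a ∉ q → ∀ g ∉ q,
      ∃ q' : Ideal B, q'.IsPrime ∧ g ∉ q' ∧ q'.comap (algebraMap R B) = p := by
  classical
  let J : Ideal B := p.map (algebraMap R B)
  letI : Algebra (R ⧸ p) (B ⧸ J) := Ideal.Quotient.algebraQuotientOfLEComap Ideal.le_comap_map
  haveI : IsScalarTower R (R ⧸ p) (B ⧸ J) := IsScalarTower.of_algebraMap_eq fun _ => rfl
  haveI : Algebra.FiniteType R (B ⧸ J) :=
    Algebra.FiniteType.of_surjective (Ideal.Quotient.mkₐ R J) Ideal.Quotient.mk_surjective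
  haveI : Algebra.FiniteType (R ⧸ p) (B ⧸ J) := Algebra.FiniteType.of_restrictScalars_finiteType R _ _
  obtain ⟨f, hf, hfree⟩ := H2GenericFree.gf (R ⧸ p) (B ⧸ J) (B ⧸ J)
  obtain ⟨a, rfl⟩ := Ideal.Quotient.mk_surjective f
  have ha : a ∉ p := fun h => hf (Ideal.Quotient.eq_zero_iff_mem.mpr h)
  refine ⟨a, ha, fun q hq haq g hgq => ?_⟩
  have hJq : J ≤ q := Ideal.map_le_iff_le_comap.mpr (hmin _ (Ideal.comap_isPrime _ q))
  let S : Submonoid B := Submonoid.powers g ⊔ p.primeCompl.map (algebraMap R B : R →* B)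
  have hdisj : Disjoint (J : Set B) (S : Set B) := by
    rw [Set.disjoint_left]
    intro x hxJ hxS
    obtain ⟨_, ⟨N, rfl⟩, _, ⟨r, hr, rfl⟩, rfl⟩ := Submonoid.mem_sup.mp hxS
    have hr' : (Ideal.Quotient.mk p r) ≠ 0 := fun h => hr (Ideal.Quotient.eq_zero_iff_mem.mp h)
    let A := Localization.Away (Ideal.Quotient.mk p a)
    let mkM := LocalizedModule.mkLinearMap (Submonoid.powers (Ideal.Quotient.mk p a)) (B ⧸ J)
    have hAinj : Function.Injective (algebraMap (R ⧸ p) A) :=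
      IsLocalization.injective A (M := Submonoid.powers (Ideal.Quotient.mk p a))
        (powers_le_nonZeroDivisors_of_noZeroDivisors hf)
    haveI : IsDomain A := IsLocalization.isDomain_localization
      (powers_le_nonZeroDivisors_of_noZeroDivisors hf)
    have h0 : (Ideal.Quotient.mk p r) • (Ideal.Quotient.mk J (g ^ N)) = 0 := by
      rw [Algebra.smul_def]
      show Ideal.Quotient.mk J (algebraMap R B r) * _ = 0
      rw [← map_mul, Ideal.Quotient.eq_zero_iff_mem, mul_comm]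
      exact hxJ
    have h1 : algebraMap (R ⧸ p) A (Ideal.Quotient.mk p r) • mkM (Ideal.Quotient.mk J (g ^ N)) = 0 := by
      rw [algebraMap_smul, ← map_smul, h0, map_zero]
    have hne : algebraMap (R ⧸ p) A (Ideal.Quotient.mk p r) ≠ 0 :=
      fun h => hr' (hAinj (by rw [h, map_zero]))
    haveI : Module.Free A (LocalizedModule (Submonoid.powers (Ideal.Quotient.mk p a)) (B ⧸ J)) := hfree
    have h2 := ((Module.Free.chooseBasis A _).smul_eq_zero.mp h1).resolve_left hne
    obtain ⟨⟨_, k, rfl⟩, hk⟩ := (IsLocalizedModule.eq_zero_iff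
      (Submonoid.powers (Ideal.Quotient.mk p a)) mkM).mp h2
    change (Ideal.Quotient.mk p a) ^ k • (Ideal.Quotient.mk J (g ^ N)) = 0 at hk
    rw [← map_pow, Algebra.smul_def] at hk
    change Ideal.Quotient.mk J (algebraMap R B (a ^ k)) * _ = 0 at hk
    rw [← map_mul, Ideal.Quotient.eq_zero_iff_mem, map_pow] at hk
    rcases hq.mem_or_mem (hJq hk) with h | h
    · exact haq (hq.mem_of_pow_mem _ h)
    · exact hgq (hq.mem_of_pow_mem _ h)
  obtain ⟨q', hq', hJq', hdis⟩ := Ideal.exists_le_prime_disjoint J S hdisj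
  refine ⟨q', hq', fun hg => ?_, le_antisymm (fun r hr => ?_) (Ideal.map_le_iff_le_comap.mp hJq')⟩
  · exact Set.disjoint_left.mp hdis hg (Submonoid.mem_sup_left (Submonoid.mem_powers g))
  · by_contra hrp
    exact Set.disjoint_left.mp hdis hr (Submonoid.mem_sup_right ⟨r, hrp, rfl⟩)


open AlgebraicGeometry CategoryTheory Limits in
/-- Let f : X → Y be a morphism of finite type (locally of finite type and quasi-compact) with Y
irreducible, and let Z_1, …, Z_n be finitely many closed subsets of the generic fibre of f which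
together cover it. For each i let T_i ⊆ X be the closure in X of the image of Z_i. Then there is a
nonempty open subset V ⊆ Y such that for every y ∈ V the fibre X_y is covered by the preimages of
T_1, …, T_n. -/
theorem result {X Y : Scheme.{u}} (f : X ⟶ Y) [IrreducibleSpace ↑Y] [LocallyOfFiniteType f] [QuasiCompact f]
    {ι : Type} [Finite ι] (Z : ι → Set ↑(f.fiber (genericPoint ↑Y))) (hZ : ∀ i, IsClosed (Z i)) (hcov : ⋃ i, Z i = Set.univ) :
    ∃ V : Y.Opens, (V : Set ↑Y).Nonempty ∧ ∀ y ∈ V, ⋃ i, (f.fiberι y) ⁻¹' closure ((f.fiberι (genericPoint ↑Y)) '' Z i) = Set.univ := by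
  classical
  obtain ⟨_, ⟨V0, hV0', rfl⟩, hηV0, -⟩ := Y.isBasis_affineOpens.exists_subset_of_mem_open
    (Set.mem_univ (genericPoint ↑Y)) isOpen_univ
  have hV0 : IsAffineOpen V0 := hV0'
  have hWc : IsCompact ((f ⁻¹ᵁ V0 : X.Opens) : Set X) :=
    QuasiCompact.isCompact_preimage _ V0.isOpen hV0.isCompact
  obtain ⟨s, hs, hseq⟩ := isCompact_iff_finite_and_eq_biUnion_affineOpens.mp hWc
  let p := hV0.primeIdealOf ⟨(genericPoint ↑Y), hηV0⟩
  have hmin : ∀ P : Ideal Γ(Y, V0), P.IsPrime → p.asIdeal ≤ P := by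
    intro P hP
    have h1 : hV0.fromSpec p ⤳ hV0.fromSpec ⟨P, hP⟩ := by
      rw [show hV0.fromSpec p = (genericPoint ↑Y) from hV0.fromSpec_primeIdealOf ⟨(genericPoint ↑Y), hηV0⟩]
      exact (genericPoint_spec ↑Y).specializes (Set.mem_univ _)
    have h2 : (p : PrimeSpectrum Γ(Y, V0)) ⤳ ⟨P, hP⟩ :=
      hV0.fromSpec.isOpenEmbedding.isEmbedding.isInducing.specializes_iff.mp h1
    exact (PrimeSpectrum.le_iff_specializes p ⟨P, hP⟩).mpr h2
  have key : ∀ W : X.affineOpens, W ∈ s → ∃ a : Γ(Y, V0), a ∉ p.asIdeal ∧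
      ∀ x ∈ (W : X.Opens), f x ∈ Y.basicOpen a → x ∈ closure (f ⁻¹' {(genericPoint ↑Y)}) := by
    intro W hW
    have hle : (W : X.Opens) ≤ f ⁻¹ᵁ V0 := by
      rw [hseq]; exact le_iSup₂_of_le W hW le_rfl
    have hW2 : IsAffineOpen (W : X.Opens) := W.2
    letI := (f.appLE V0 W hle).hom.toAlgebra
    haveI : Algebra.FiniteType Γ(Y, V0) Γ(X, W) := f.finiteType_appLE hV0 hW2 hle
    obtain ⟨a, ha, hprop⟩ := exists_dense_generic (B := Γ(X, W)) p.asIdeal hmin
    refine ⟨a, ha, fun x hxW hxa => ?_⟩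
    rw [mem_closure_iff]
    intro o ho hxo
    obtain ⟨g, hgle, hxg⟩ := hW2.exists_basicOpen_le (V := ⟨o, ho⟩) ⟨x, hxo⟩ hxW
    let q := hW2.primeIdealOf ⟨x, hxW⟩
    have hgq : g ∉ q.asIdeal := by
      have : q ∈ hW2.fromSpec ⁻¹ᵁ X.basicOpen g := by
        show hW2.fromSpec q ∈ X.basicOpen g
        rw [hW2.fromSpec_primeIdealOf]; exact hxg
      rw [hW2.fromSpec_preimage_basicOpen] at this
      exact this
    have haq : (f.appLE V0 W hle).hom a ∉ q.asIdeal := by
      intro h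
      have : (hV0.primeIdealOf ⟨f x, hle hxW⟩) ∈ hV0.fromSpec ⁻¹ᵁ Y.basicOpen a := by
        show hV0.fromSpec (hV0.primeIdealOf ⟨f x, hle hxW⟩) ∈ Y.basicOpen a
        rw [hV0.fromSpec_primeIdealOf]; exact hxa
      rw [hV0.fromSpec_preimage_basicOpen] at this
      apply this
      rw [← IsAffineOpen.comap_primeIdealOf_appLE V0 hV0 W hW2 hle hxW]
      exact h
    obtain ⟨q', hq', hgq', hcomap⟩ := hprop q.asIdeal q.2 haq g hgq
    let x' := hW2.fromSpec ⟨q', hq'⟩
    have hx'W : x' ∈ (W : X.Opens) := by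
      show x' ∈ ((W : X.Opens) : Set X)
      rw [← hW2.range_fromSpec]; exact Set.mem_range_self _
    have hq'eq : hW2.primeIdealOf ⟨x', hx'W⟩ = ⟨q', hq'⟩ :=
      hW2.fromSpec.isOpenEmbedding.injective (hW2.fromSpec_primeIdealOf ⟨x', hx'W⟩)
    refine ⟨x', hgle ?_, ?_⟩
    · have : (⟨q', hq'⟩ : PrimeSpectrum Γ(X, W)) ∈ hW2.fromSpec ⁻¹ᵁ X.basicOpen g := by
        rw [hW2.fromSpec_preimage_basicOpen]; exact hgq'
      exact this
    · show f x' = (genericPoint ↑Y)
      have h1 := hV0.fromSpec_primeIdealOf ⟨f x', hle hx'W⟩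
      rw [← IsAffineOpen.comap_primeIdealOf_appLE V0 hV0 W hW2 hle hx'W, hq'eq] at h1
      refine h1.symm.trans ?_
      refine Eq.trans ?_ (hV0.fromSpec_primeIdealOf ⟨(genericPoint ↑Y), hηV0⟩)
      congr 1
      exact PrimeSpectrum.ext hcomap
  choose a ha hak using key
  haveI : Fintype s := hs.fintype
  let A : Γ(Y, V0) := ∏ W : s, a W.1 W.2
  have hA : A ∉ p.asIdeal := by
    intro h
    obtain ⟨W, -, hW⟩ := (Ideal.IsPrime.prod_mem_iff (hp := p.2)).mp h
    exact ha W.1 W.2 hW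
  have hηA : (genericPoint ↑Y) ∈ Y.basicOpen A := by
    have : p ∈ hV0.fromSpec ⁻¹ᵁ Y.basicOpen A := by
      rw [hV0.fromSpec_preimage_basicOpen]; exact hA
    have h2 : hV0.fromSpec p ∈ Y.basicOpen A := this
    rwa [show hV0.fromSpec p = (genericPoint ↑Y) from hV0.fromSpec_primeIdealOf ⟨(genericPoint ↑Y), hηV0⟩] at h2
  refine ⟨Y.basicOpen A, ⟨(genericPoint ↑Y), hηA⟩, fun y hy => ?_⟩
  rw [Set.eq_univ_iff_forall]
  intro z
  have hfz : f (f.fiberι y z) = y := by
    have : f.fiberι y z ∈ Set.range (f.fiberι y) := Set.mem_range_self z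
    rw [f.range_fiberι] at this
    exact this
  have hmem : f.fiberι y z ∈ f ⁻¹ᵁ V0 := by
    show f (f.fiberι y z) ∈ V0
    rw [hfz]; exact Y.basicOpen_le A hy
  rw [hseq] at hmem
  simp only [TopologicalSpace.Opens.mem_iSup] at hmem
  obtain ⟨W, hW, hzW⟩ := hmem
  have hya : y ∈ Y.basicOpen (a W hW) := by
    obtain ⟨c, hc⟩ : a W hW ∣ A :=
      Finset.dvd_prod_of_mem (fun V : s => a V.1 V.2) (Finset.mem_univ ⟨W, hW⟩)
    have : y ∈ Y.basicOpen (a W hW * c) := hc ▸ hy
    rw [Y.basicOpen_mul] at this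
    exact this.1
  have hcl := hak W hW _ hzW (by rw [hfz]; exact hya)
  have himg : f ⁻¹' {(genericPoint ↑Y)} = ⋃ i, (f.fiberι (genericPoint ↑Y)) '' Z i := by
    rw [← Set.image_iUnion, hcov, Set.image_univ, f.range_fiberι]
  rw [himg, closure_iUnion_of_finite, Set.mem_iUnion] at hcl
  obtain ⟨i, hi⟩ := hcl
  exact Set.mem_iUnion.mpr ⟨i, hi⟩

end Groth.Agent.S1299
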