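import Groth.Statements.S12992
import Groth.Agent.Lib.H9StLoc2

set_option autoImplicit false
set_option backward.isDefEq.respectTransparency.types false
universe u
open CategoryTheory AlgebraicGeometry
open AlgSt

namespace Groth.Agent.S12992

/-- Let P be smooth local on the source-and-target and a : F → G a morphism of algebraic spaces. Then
the associated functor of categories over the base has P read on smooth scheme charts if and only if
a has P. -/
theorem result
    (S : Scheme.{u}) (P : MorphismProperty (AlgSp.Sp S)) (hP : AlgSp.IsSmoothLocalST P)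
    (F G : AlgSp.Space S) (a : F ⟶ G) :
    AlgSt.LocQ P (AlgSt.ofSpMap a.hom) ↔ P a.hom := by
  refine ⟨H9St.prop_of_locQ_ofSpMap hP a, fun h => ?_⟩
  haveI : FibCat.IsFibGrpd (AlgSt.ofSp F.obj).p := H9St.isFibGrpd_ofPsh _
  haveI : FibCat.IsFibGrpd (AlgSt.ofSp G.obj).p := H9St.isFibGrpd_ofPsh _
  haveI := H9St.respectsIso_isSurjectiveMor (S := S)
  exact H9St.locQ_of_space_square hP (H9St.isAlgStack_ofSp F) (H9St.isAlgStack_ofSp G)
    (x := BasedFunctor.id (AlgSt.ofSp F.obj)) (y := BasedFunctor.id (AlgSt.ofSp G.obj)) (m := a) (Iso.refl _)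
    (H9St.repByAlgSpWith_of_isEquivOver (fun m _ => H9St.locP_smooth_of_iso m) (H9Fib.isEquivOver_id _))
    (H9St.repByAlgSpWith_of_isEquivOver (fun m _ => H9St.isSurjectiveMor_of_iso m) (H9Fib.isEquivOver_id _))
    (H9St.repByAlgSpWith_of_isEquivOver (fun m _ => H9St.locP_smooth_of_iso m) (H9Fib.isEquivOver_id _)) h

end Groth.Agent.S12992
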