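import Groth.Statements.S12993
import Groth.Agent.Lib.H9StLoc

set_option autoImplicit false
set_option backward.isDefEq.respectTransparency.types false
universe u
open CategoryTheory AlgebraicGeometry
open AlgSt

namespace Groth.Agent.S12993

/-- Let P be smooth local on the source-and-target, stable under base change and fppf local on the base,
and let f be a morphism of algebraic stacks that is representable by algebraic spaces. Then f has P
read on one square of smooth scheme charts if and only if every base change of f to a scheme is a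
morphism of algebraic spaces with P. -/
theorem result
    (S : Scheme.{u}) (P : MorphismProperty (AlgSp.Sp S)) (hP : AlgSp.IsSmoothLocalST P)
    (hP₁ : ∀ ⦃X₁ Y₁ X₂ Y₂ : AlgSp.Sp S⦄, AlgSp.IsAlgSpace X₁ → AlgSp.IsAlgSpace Y₁ → AlgSp.IsAlgSpace X₂ →
      AlgSp.IsAlgSpace Y₂ → ∀ (a : X₁ ⟶ Y₁) (b : Y₂ ⟶ Y₁) (a' : X₂ ⟶ Y₂) (b' : X₂ ⟶ X₁),
      IsPullback b' a' a b → P a → P a')
    (hP₂ : AlgSp.IsLocalOnBase AlgSp.IsFppfCover P)
    (𝒳 : AlgSt.Cat S) (𝒴 : AlgSt.Cat S)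
    (h𝒳 : AlgSt.IsAlgStack Scheme.fppfPrecoverage 𝒳)
    (h𝒴 : AlgSt.IsAlgStack Scheme.fppfPrecoverage 𝒴)
    (f : 𝒳 ⥤ᵇ 𝒴) (hf : AlgSt.RepByAlgSp1 f) :
    AlgSt.LocQ P f ↔ AlgSt.RepByAlgSpWith P f := by
  haveI := h𝒳.isStack.1
  haveI := h𝒴.isStack.1
  refine ⟨H9St.rep_of_locQ hP hP₁ hP₂ h𝒳 h𝒴 hf, fun h => ?_⟩
  haveI := H9St.respectsIso_onSpaces P hP₁
  have h' := H9St.locQ_of_rep (P := H9St.onSpaces P) (fun F U V hA a m ha hm _ hV => hP.precomp (AlgSp.IsAlgSpace.yon_obj U) hA hV a m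
    (ASp.locP_of_repWith hA (ASp.repWith_mono (fun _ _ f (_ : Etale f) => (inferInstance : Smooth f)) ha)) (hm hA hV))
    h𝒳 h𝒴 ((H9St.repByAlgSpWith_onSpaces P f).2 h)
  obtain ⟨U, V, x, y, g, α, hx, hxs, hy, hg⟩ := h'
  exact ⟨U, V, x, y, g, α, hx, hxs, hy, hg (AlgSp.IsAlgSpace.yon_obj U) (AlgSp.IsAlgSpace.yon_obj V)⟩

end Groth.Agent.S12993
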