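import Groth.Statements.S12994
import Groth.Agent.Lib.H9StLocDesc

set_option autoImplicit false
set_option backward.isDefEq.respectTransparency.types false
universe u
open CategoryTheory AlgebraicGeometry
open AlgSt

namespace Groth.Agent.S12994

/-- Let P be a property that is local on source and target for the smooth topology and local on the base
for the fppf topology, f : 𝒳 → 𝒴 a morphism of algebraic stacks, and 𝒵 → 𝒴 a morphism of algebraic
stacks that is flat, surjective and locally of finite presentation. Whenever the projection 𝒵 ×_𝒴 𝒳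
→ 𝒵 has P, so does f. -/
theorem result
    (S : Scheme.{u}) (P : MorphismProperty (AlgSp.Sp S)) (hP : AlgSp.IsSmoothLocalST P)
    (hP₂ : AlgSp.IsLocalOnBase AlgSp.IsFppfCover P)
    (𝒳 : AlgSt.Cat S) (𝒴 : AlgSt.Cat S)
    (h𝒳 : AlgSt.IsAlgStack Scheme.fppfPrecoverage 𝒳)
    (h𝒴 : AlgSt.IsAlgStack Scheme.fppfPrecoverage 𝒴)
    (f : 𝒳 ⥤ᵇ 𝒴)
    (𝒵 : AlgSt.Cat S) (h𝒵 : AlgSt.IsAlgStack Scheme.fppfPrecoverage 𝒵) (z : 𝒵 ⥤ᵇ 𝒴)
    (hz₁ : AlgSt.LocQ (AlgSp.LocP @Flat) z) (hz₂ : AlgSt.LocQ (AlgSp.LocP @LocallyOfFinitePresentation) z)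
    (hz₃ : AlgSt.IsSurjective z) :
    AlgSt.LocQ P (FibCat.fpFst z f) → AlgSt.LocQ P f := by
  intro hf
  refine Groth.Agent.H9St.locQ_descent hP h𝒳 h𝒴 h𝒵 True hz₁ (fun _ => hz₂) hz₃
    (fun U V V' h g C π q hC sq hfl hsu hfp hπ => ?_) hf
  exact (hP₂ (fun _ : PUnit.{u+1} => (AlgSp.yon S).obj V') (fun _ => (AlgSp.yon S).map g)
    (AlgSp.IsAlgSpace.yon_obj V) (fun _ => AlgSp.IsAlgSpace.yon_obj V')
    (Groth.Agent.H9St.isFppfCover_yon (fun _ : PUnit.{u+1} => V') (fun _ => g) (fun _ => hfl) (fun _ => hfp trivial)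
      (fun x => ⟨PUnit.unit, hsu.1 x⟩)) ((AlgSp.yon S).map h) (AlgSp.IsAlgSpace.yon_obj U)
    (fun _ => C) (fun _ => π) (fun _ => q) (fun _ => hC) (fun _ => sq)).2 fun _ => hπ

end Groth.Agent.S12994
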