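import Groth.Statements.S12997
import Groth.Agent.Lib.H9StLoc

set_option autoImplicit false
set_option backward.isDefEq.respectTransparency.types false
universe u
open CategoryTheory AlgebraicGeometry
open AlgSt

namespace Groth.Agent.S12997

/-- An open immersion of algebraic stacks is locally of finite presentation. -/
theorem result
    (S : Scheme.{u}) (𝒳 : AlgSt.Cat S) (𝒴 : AlgSt.Cat S)
    (h𝒳 : AlgSt.IsAlgStack Scheme.fppfPrecoverage 𝒳)
    (h𝒴 : AlgSt.IsAlgStack Scheme.fppfPrecoverage 𝒴)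
    (f : 𝒳 ⥤ᵇ 𝒴) :
    AlgSt.IsOpenImm f → AlgSt.LocQ (AlgSp.LocP @LocallyOfFinitePresentation) f := by
  intro h
  refine H9St.locQ_of_rep (fun F U V hA a m ha hm => ASp.locP_comp (AlgSp.IsAlgSpace.yon_obj U) hA (AlgSp.IsAlgSpace.yon_obj V)
    (ASp.locP_of_repWith hA (ASp.repWith_mono (fun _ _ f (_ : Etale f) => (inferInstance : LocallyOfFinitePresentation f)) ha)) hm) h𝒳 h𝒴
    fun U y => (h U y).imp fun F ⟨e, he, hP⟩ => ⟨e, he, ?_⟩
  exact ASp.locP_of_repWith (AlgSp.IsAlgSpace.yon_obj U)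
    (ASp.repWith_mono (fun _ _ f (_ : IsOpenImmersion f) => (inferInstance : LocallyOfFinitePresentation f)) hP)

end Groth.Agent.S12997
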