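import Groth.Statements.S12999
import Groth.Agent.Lib.H9StLoc2

set_option autoImplicit false
set_option backward.isDefEq.respectTransparency.types false
universe u
open CategoryTheory AlgebraicGeometry
open AlgSt

namespace Groth.Agent.S12999

/-- A morphism of algebraic stacks which is locally of finite type with locally Noetherian target is
locally of finite presentation. (Part (2), for finite type and quasi-separated, only adds the
quasi-compactness clauses.) -/
theorem result
    (S : Scheme.{u}) (𝒳 : AlgSt.Cat S) (𝒴 : AlgSt.Cat S)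
    (h𝒳 : AlgSt.IsAlgStack Scheme.fppfPrecoverage 𝒳)
    (h𝒴 : AlgSt.IsAlgStack Scheme.fppfPrecoverage 𝒴)
    (f : 𝒳 ⥤ᵇ 𝒴) :
    AlgSt.SmoothLocally (fun T ↦ IsLocallyNoetherian T) 𝒴 → AlgSt.LocQ (AlgSp.LocP @LocallyOfFiniteType) f → AlgSt.LocQ (AlgSp.LocP @LocallyOfFinitePresentation) f := by
  intro hY hf
  obtain ⟨V, y, hy, hys⟩ := h𝒴.atlas
  obtain ⟨U, h, x, α, hx, ht, hxs⟩ := H9St.exists_square_over h𝒳 h𝒴 f y hy
  haveI : IsLocallyNoetherian V.left := hY V y hy
  haveI : LocallyOfFiniteType h.left := (ASp.locP_yon_iff h).1 (H9St.prop_of_square ASp.isSmoothLocalST_locP h𝒳 h𝒴 hf α ht hy)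
  exact ⟨U, V, x, y, h, α, hx, hxs hys, hy, (ASp.locP_yon_iff h).2 inferInstance⟩

end Groth.Agent.S12999
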