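import Groth.Statements.S13000
import Groth.Agent.Lib.H9StLocDesc
import Groth.Agent.S12994

set_option autoImplicit false
set_option backward.isDefEq.respectTransparency.types false
universe u
open CategoryTheory AlgebraicGeometry
open AlgSt

namespace Groth.Agent.S13000

/-- Let f : 𝒳 → 𝒴 be a morphism of algebraic stacks and W → 𝒴 a surjective, flat, locally finitely
presented morphism whose source is an algebraic space. Whenever the projection to W from W ×_𝒴 𝒳 is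
locally of finite type, so is f. -/
theorem result
    (S : Scheme.{u}) (𝒳 : AlgSt.Cat S) (𝒴 : AlgSt.Cat S)
    (h𝒳 : AlgSt.IsAlgStack Scheme.fppfPrecoverage 𝒳)
    (h𝒴 : AlgSt.IsAlgStack Scheme.fppfPrecoverage 𝒴)
    (f : 𝒳 ⥤ᵇ 𝒴)
    (W : AlgSp.Space S) (w : AlgSt.ofSp W.obj ⥤ᵇ 𝒴)
    (hw₁ : AlgSt.RepByAlgSpWith (AlgSp.LocP @Flat) w)
    (hw₂ : AlgSt.RepByAlgSpWith (AlgSp.LocP @LocallyOfFinitePresentation) w)
    (hw₃ : AlgSt.RepByAlgSpWith AlgSp.IsSurjectiveMor w) :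
    AlgSt.LocQ (AlgSp.LocP @LocallyOfFiniteType) (FibCat.fpFst w f) → AlgSt.LocQ (AlgSp.LocP @LocallyOfFiniteType) f := by
  intro hf
  haveI := h𝒳.isStack.1
  haveI := h𝒴.isStack.1
  have hW := (Groth.Agent.H9St.isDM_of_repByAlgSp (⟨W, _, Groth.Agent.H9Fib.isEquivOver_id _⟩ : AlgSt.RepByAlgSp (AlgSt.ofSp W.obj))).1
  haveI := hW.isStack.1
  refine Groth.Agent.S12994.result S _ Groth.Agent.ASp.isSmoothLocalST_locP Groth.Agent.H9St.standard_lft.loc 𝒳 𝒴 h𝒳 h𝒴 f _ hW w ?_ ?_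
    (Groth.Agent.H9St.isSurjective_of_rep hw₃) hf
  · exact Groth.Agent.H9St.locQ_of_rep (fun F A B hA a m ha hm => ASp.locP_comp (AlgSp.IsAlgSpace.yon_obj A) hA
      (AlgSp.IsAlgSpace.yon_obj B) (ASp.locP_of_repWith hA (ASp.repWith_mono (fun _ _ k (_ : Etale k) => (inferInstance : Flat k)) ha)) hm)
      hW h𝒴 hw₁
  · exact Groth.Agent.H9St.locQ_of_rep (fun F A B hA a m ha hm => ASp.locP_comp (AlgSp.IsAlgSpace.yon_obj A) hA
      (AlgSp.IsAlgSpace.yon_obj B) (ASp.locP_of_repWith hA (ASp.repWith_mono (fun _ _ k (_ : Etale k) => (inferInstance : LocallyOfFinitePresentation k)) ha)) hm)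
      hW h𝒴 hw₂

end Groth.Agent.S13000
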