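import Groth.Statements.S13002
import Groth.Agent.Lib.H9StLoc2

set_option autoImplicit false
set_option backward.isDefEq.respectTransparency.types false
universe u
open CategoryTheory AlgebraicGeometry
open AlgSt

namespace Groth.Agent.S13002

/-- If f : 𝒳 → 𝒴 and g : 𝒴 → 𝒵 are morphisms of algebraic stacks whose composite is locally of finite
type, then f itself is locally of finite type. -/
theorem result
    (S : Scheme.{u}) (𝒳 : AlgSt.Cat S) (𝒴 : AlgSt.Cat S) (𝒵 : AlgSt.Cat S)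
    (h𝒳 : AlgSt.IsAlgStack Scheme.fppfPrecoverage 𝒳)
    (h𝒴 : AlgSt.IsAlgStack Scheme.fppfPrecoverage 𝒴)
    (h𝒵 : AlgSt.IsAlgStack Scheme.fppfPrecoverage 𝒵)
    (f : 𝒳 ⥤ᵇ 𝒴) (g : 𝒴 ⥤ᵇ 𝒵) :
    AlgSt.LocQ (AlgSp.LocP @LocallyOfFiniteType) (BasedFunctor.comp f g) → AlgSt.LocQ (AlgSp.LocP @LocallyOfFiniteType) f := by
  intro h
  obtain ⟨U, V, W, a, b, x, y, z, α, β, hx, hxs, hy, hz, -, -, hfg⟩ := H9St.exists_comp_squares h𝒳 h𝒴 h𝒵 f g
  have hab := (ASp.locP_yon_iff (a ≫ b)).1 (hfg _ ASp.isSmoothLocalST_locP h)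
  rw [Over.comp_left] at hab
  haveI : LocallyOfFiniteType (a.left ≫ b.left) := hab
  exact ⟨U, V, x, y, a, α, hx, hxs, hy, (ASp.locP_yon_iff a).2 (locallyOfFiniteType_of_comp a.left b.left)⟩

end Groth.Agent.S13002
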