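import Groth.Statements.S13003
import Groth.Agent.Lib.H9StLocDesc
import Groth.Agent.Lib.H8GrpFlat

set_option autoImplicit false
set_option backward.isDefEq.respectTransparency.types false
universe u
open CategoryTheory CategoryTheory.Limits AlgebraicGeometry
open AlgSt

namespace Groth.Agent.S13003

/-- Let f : 𝒳 → 𝒴 be a morphism of algebraic stacks and 𝒵 → 𝒴 a morphism of algebraic stacks that is
both flat and surjective. Whenever the projection 𝒵 ×_𝒴 𝒳 → 𝒵 is flat, f is flat too. -/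
theorem result
    (S : Scheme.{u}) (𝒳 : AlgSt.Cat S) (𝒴 : AlgSt.Cat S)
    (h𝒳 : AlgSt.IsAlgStack Scheme.fppfPrecoverage 𝒳)
    (h𝒴 : AlgSt.IsAlgStack Scheme.fppfPrecoverage 𝒴)
    (f : 𝒳 ⥤ᵇ 𝒴)
    (𝒵 : AlgSt.Cat S) (h𝒵 : AlgSt.IsAlgStack Scheme.fppfPrecoverage 𝒵) (z : 𝒵 ⥤ᵇ 𝒴)
    (hz₁ : AlgSt.LocQ (AlgSp.LocP @Flat) z) (hz₂ : AlgSt.IsSurjective z) :
    AlgSt.LocQ (AlgSp.LocP @Flat) (FibCat.fpFst z f) → AlgSt.LocQ (AlgSp.LocP @Flat) f := by
  intro hf
  refine Groth.Agent.H9St.locQ_descent Groth.Agent.ASp.isSmoothLocalST_locP h𝒳 h𝒴 h𝒵 False hz₁ False.elim hz₂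
    (fun U V V' h g C π q hC sq hfl hsu _ hπ => ?_) hf
  let pr₁ := Limits.pullback.fst h g
  let pr₂ := Limits.pullback.snd h g
  have sqy := (AlgSp.yon S).map_isPullback (IsPullback.of_hasPullback h g)
  let i := sqy.isoIsPullback _ _ sq
  have h₁ : AlgSp.LocP @Flat ((AlgSp.yon S).map pr₂) := by
    rw [← sqy.isoIsPullback_hom_snd _ _ sq]
    exact ASp.locP_comp (AlgSp.IsAlgSpace.yon_obj _) hC (AlgSp.IsAlgSpace.yon_obj V')
      (ASp.locP_of_repWith hC
        (ASp.repWith_of_isIso @Flat (f := i.hom))) hπ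
  haveI : Flat pr₂.left := (ASp.locP_yon_iff pr₂).1 h₁
  have sqs := (IsPullback.of_hasPullback h g).map (Over.forget S)
  haveI : Flat pr₁.left := MorphismProperty.of_isPullback (P := @Flat) sqs.flip hfl
  haveI : Surjective pr₁.left := MorphismProperty.of_isPullback (P := @Surjective) sqs.flip hsu
  haveI : Flat (pr₁.left ≫ h.left) := by
    rw [← Over.comp_left, Limits.pullback.condition, Over.comp_left]
    infer_instance
  exact (ASp.locP_yon_iff h).2 (Groth.Agent.H8GrpFlat.flat_of_comp pr₁.left h.left)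

end Groth.Agent.S13003
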