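import Groth.Statements.S13006
import Groth.Agent.Lib.H9StLocDesc
import Groth.Agent.S13005

set_option autoImplicit false
set_option backward.isDefEq.respectTransparency.types false
universe u
open CategoryTheory AlgebraicGeometry
open AlgSt

namespace Groth.Agent.S13006

/-- If a morphism f of algebraic stacks is locally of finite type then its diagonal is locally of finite
presentation. (The second assertion adds the quasi-compactness clauses on both sides.) -/
theorem result
    (S : Scheme.{u}) (𝒳 : AlgSt.Cat S) (𝒴 : AlgSt.Cat S)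
    (h𝒳 : AlgSt.IsAlgStack Scheme.fppfPrecoverage 𝒳)
    (h𝒴 : AlgSt.IsAlgStack Scheme.fppfPrecoverage 𝒴)
    (f : 𝒳 ⥤ᵇ 𝒴) :
    AlgSt.LocQ (AlgSp.LocP @LocallyOfFiniteType) f → AlgSt.LocQ (AlgSp.LocP @LocallyOfFinitePresentation) (FibCat.diag f) := by
  intro hf
  haveI := h𝒳.isStack.1
  haveI := h𝒴.isStack.1
  haveI : (AlgSp.LocP (S := S) @LocallyOfFinitePresentation).RespectsIso := inferInstance
  have hid : AlgSt.LocQ (AlgSp.LocP @LocallyOfFinitePresentation) (BasedFunctor.id 𝒳) :=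
    Groth.Agent.H9St.locQ_of_rep (fun F A B hA a m ha hm => ASp.locP_comp (AlgSp.IsAlgSpace.yon_obj A) hA
      (AlgSp.IsAlgSpace.yon_obj B) (ASp.locP_of_repWith hA (ASp.repWith_mono (fun _ _ k (_ : Etale k) => (inferInstance : LocallyOfFinitePresentation k)) ha)) hm)
      h𝒳 h𝒳 (Groth.Agent.H9St.repByAlgSpWith_of_isEquivOver
        (fun {A B} m _ => ASp.locP_mono (fun _ _ k (_ : Smooth k) => (inferInstance : LocallyOfFinitePresentation k)) (Groth.Agent.H9St.locP_smooth_of_iso m)) (Groth.Agent.H9Fib.isEquivOver_id _))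
  exact Groth.Agent.S13005.result S 𝒳 (FibCat.fp f f) 𝒳 h𝒳 (Groth.Agent.H9St.isAlgStack_fp' h𝒳 h𝒳 h𝒴 f f) h𝒳
    (FibCat.diag f) (FibCat.fpFst f f) hid
    (Groth.Agent.H9St.locQ_fpFst ASp.isSmoothLocalST_locP Groth.Agent.H9St.standard_lft.bc h𝒳 h𝒴 h𝒳 f hf)

end Groth.Agent.S13006
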