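import Groth.Statements.S13009
import Groth.Agent.Lib.H9StFppf

set_option autoImplicit false
set_option backward.isDefEq.respectTransparency.types false
universe u
open CategoryTheory AlgebraicGeometry
open AlgSt

namespace Groth.Agent.S13009

/-- Let f : 𝒳 → 𝒴 be a morphism of algebraic stacks and 𝒵 → 𝒴 a morphism of algebraic stacks that is
flat, surjective and locally of finite presentation. Whenever the projection 𝒵 ×_𝒴 𝒳 → 𝒵 is
quasi-compact, f is quasi-compact too. -/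
theorem result
    (S : Scheme.{u}) (𝒳 : AlgSt.Cat S) (𝒴 : AlgSt.Cat S)
    (h𝒳 : AlgSt.IsAlgStack Scheme.fppfPrecoverage 𝒳)
    (h𝒴 : AlgSt.IsAlgStack Scheme.fppfPrecoverage 𝒴)
    (f : 𝒳 ⥤ᵇ 𝒴)
    (𝒵 : AlgSt.Cat S) (h𝒵 : AlgSt.IsAlgStack Scheme.fppfPrecoverage 𝒵) (z : 𝒵 ⥤ᵇ 𝒴)
    (hz₁ : AlgSt.LocQ (AlgSp.LocP @Flat) z) (hz₂ : AlgSt.LocQ (AlgSp.LocP @LocallyOfFinitePresentation) z)
    (hz₃ : AlgSt.IsSurjective z) :
    AlgSt.IsQuasiCompactMor Scheme.fppfPrecoverage (FibCat.fpFst z f) → AlgSt.IsQuasiCompactMor Scheme.fppfPrecoverage f := by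
  intro h
  haveI := h𝒳.isStack.1
  haveI := h𝒴.isStack.1
  haveI := h𝒵.isStack.1
  obtain ⟨U, u, h₁, h₂, h₃⟩ := H9St.exists_scheme_cover h𝒵 h𝒴 z hz₁ hz₂ hz₃
  have hU := H9St.isAlgStack_overCat U
  haveI := hU.isStack.1
  have hP := H9St.isAlgStack_fp' h𝒵 h𝒳 h𝒴 z f
  haveI := hP.isStack.1
  have hA := H9St.isAlgStack_fp' hU hP h𝒵 u (FibCat.fpFst z f)
  have hB := H9St.isAlgStack_fp' hU h𝒳 h𝒴 (BasedFunctor.comp u z) f
  haveI := hA.isStack.1
  haveI := hB.isStack.1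
  haveI := H9St.respectsIso_qcMor (S := S)
  refine H9St.qcMor_of_cover hU h𝒳 h𝒴 (BasedFunctor.comp u z) h₁ h₂ h₃ ?_
  have hu := H9St.qcMor_baseChange hP h𝒵 hU u h
  refine H9St.qcMor_of_surjective_comp hA hB hU (H9St.pasteFun u z f) _
    (H9St.surjective_points_equiv (H9St.isEquivOver_paste u z f)) ?_
  exact H9St.qcMor_congr hA hU (Iso.refl _) hu

end Groth.Agent.S13009
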