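import Groth.Statements.S13017
import Groth.Agent.Lib.H9StFppf

set_option autoImplicit false
set_option backward.isDefEq.respectTransparency.types false
universe u
open CategoryTheory AlgebraicGeometry
open AlgSt

namespace Groth.Agent.S13017

/-- If j : 𝒳 → 𝒴 is an immersion of algebraic stacks with 𝒴 locally Noetherian, then j is quasi-compact
and 𝒳 is also locally Noetherian. -/
theorem result
    (S : Scheme.{u}) (𝒳 : AlgSt.Cat S) (𝒴 : AlgSt.Cat S)
    (h𝒳 : AlgSt.IsAlgStack Scheme.fppfPrecoverage 𝒳)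
    (h𝒴 : AlgSt.IsAlgStack Scheme.fppfPrecoverage 𝒴)
    (j : 𝒳 ⥤ᵇ 𝒴) (hj : AlgSt.IsImm j) :
    AlgSt.SmoothLocally (fun T ↦ IsLocallyNoetherian T) 𝒴 → AlgSt.SmoothLocally (fun T ↦ IsLocallyNoetherian T) 𝒳 ∧ AlgSt.IsQuasiCompactMor Scheme.fppfPrecoverage j := by
  intro hn
  haveI := h𝒳.isStack.1
  haveI := h𝒴.isStack.1
  refine ⟨?_, H9St.qcMor_of_isImm h𝒳 h𝒴 hj hn⟩
  obtain ⟨V, y, hy, hys⟩ := h𝒴.atlas
  obtain ⟨U, h, x, α, hx, ht, hxs⟩ := H9St.exists_square_over h𝒳 h𝒴 j y hy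
  have hlft : AlgSt.LocQ (AlgSp.LocP @LocallyOfFiniteType) j :=
    H9St.locQ_of_rep (fun F U V hA a m ha hm => ASp.locP_comp (AlgSp.IsAlgSpace.yon_obj U) hA (AlgSp.IsAlgSpace.yon_obj V)
      (ASp.locP_of_repWith hA (ASp.repWith_mono (fun _ _ f (_ : Etale f) => (inferInstance : LocallyOfFiniteType f)) ha)) hm) h𝒳 h𝒴
      fun U y => (hj U y).imp fun F ⟨e, he, hP⟩ => ⟨e, he, ASp.locP_of_repWith (AlgSp.IsAlgSpace.yon_obj U)
        (ASp.repWith_mono (fun _ _ f (_ : IsImmersion f) => (inferInstance : LocallyOfFiniteType f)) hP)⟩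
  haveI : IsLocallyNoetherian V.left := hn V y hy
  haveI : LocallyOfFiniteType h.left := (ASp.locP_yon_iff h).1 (H9St.prop_of_square ASp.isSmoothLocalST_locP h𝒳 h𝒴 hlft α ht hy)
  exact H9St.smoothLocally_of_atlas h𝒳 H9St.smProp_isLocallyNoetherian x hx (hxs hys)
    (LocallyOfFiniteType.isLocallyNoetherian h.left)

end Groth.Agent.S13017
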