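import Groth.Statements.S13018
import Groth.Agent.Lib.H9StFppf

set_option autoImplicit false
set_option backward.isDefEq.respectTransparency.types false
universe u
open CategoryTheory AlgebraicGeometry
open AlgSt

namespace Groth.Agent.S13018

/-- If j : 𝒳 → 𝒴 is an immersion of algebraic stacks and 𝒴 is Noetherian (quasi-compact, quasi-separated
and locally Noetherian) then so is 𝒳. (The published statement uses quasi-separatedness over the
integers; this row uses quasi-separatedness over the base scheme in hypothesis and conclusion.) -/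
theorem result
    (S : Scheme.{u}) (𝒳 : AlgSt.Cat S) (𝒴 : AlgSt.Cat S)
    (h𝒳 : AlgSt.IsAlgStack Scheme.fppfPrecoverage 𝒳)
    (h𝒴 : AlgSt.IsAlgStack Scheme.fppfPrecoverage 𝒴)
    (j : 𝒳 ⥤ᵇ 𝒴) (hj : AlgSt.IsImm j) :
    AlgSt.IsQuasiCompact 𝒴 → AlgSt.IsQuasiSeparatedOver 𝒴 → AlgSt.SmoothLocally (fun T ↦ IsLocallyNoetherian T) 𝒴 →
      AlgSt.IsQuasiCompact 𝒳 ∧ AlgSt.IsQuasiSeparatedOver 𝒳 ∧ AlgSt.SmoothLocally (fun T ↦ IsLocallyNoetherian T) 𝒳 := by
  intro hqc hqs hn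
  haveI := h𝒳.isStack.1
  haveI := h𝒴.isStack.1
  have hid := H9St.isAlgStack_fp' h𝒴 h𝒳 h𝒴 (BasedFunctor.id 𝒴) j
  haveI := hid.isStack.1
  have hq := H9St.qcMor_of_isImm h𝒳 h𝒴 hj hn 𝒴 h𝒴 hqc (BasedFunctor.id 𝒴)
  refine ⟨(H9St.isQuasiCompact_iff_compact h𝒳).2 ((H9St.compact_equiv_iff hid.atlas h𝒳.atlas (H9St.isEquivOver_fpSnd_id j)).1
    ((H9St.isQuasiCompact_iff_compact hid).1 hq)), ?_, ?_⟩
  · haveI : FibCat.IsFibGrpd (FibCat.selfOver (Over S)).p := H9St.isFibGrpd_selfOver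
    haveI := H9St.respectsIso_qsMor (S := S)
    haveI := H9St.respectsIso_qcqsMor (S := S)
    have h1 : AlgSt.RepByAlgSpWith AlgSp.IsQuasiSeparatedMor j := fun U y => (hj U y).imp fun F ⟨e, he, hP⟩ =>
      ⟨e, he, H9St.MonoLFT.qs (ASp.repWith_mono (fun _ _ f (_ : IsImmersion f) =>
        (⟨(inferInstance : LocallyOfFiniteType f), (inferInstance : CategoryTheory.Mono f)⟩ :
          LocallyOfFiniteType f ∧ CategoryTheory.Mono f)) hP)⟩
    have h2 := H9St.repWith_diag_comp H9St.standard_qcqs (H9St.qcqs_diag_of_qs h1) hqs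
    rw [H9St.comp_toSelf] at h2
    exact h2
  · obtain ⟨V, y, hy, hys⟩ := h𝒴.atlas
    obtain ⟨U, h, x, α, hx, ht, hxs⟩ := H9St.exists_square_over h𝒳 h𝒴 j y hy
    have hlft : AlgSt.LocQ (AlgSp.LocP @LocallyOfFiniteType) j :=
      H9St.locQ_of_rep (fun F U V hA a m ha hm => ASp.locP_comp (AlgSp.IsAlgSpace.yon_obj U) hA (AlgSp.IsAlgSpace.yon_obj V)
        (ASp.locP_of_repWith hA (ASp.repWith_mono (fun _ _ f (_ : Etale f) => (inferInstance : LocallyOfFiniteType f)) ha)) hm) h𝒳 h𝒴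
        fun U y => (hj U y).imp fun F ⟨e, he, hP⟩ => ⟨e, he, ASp.locP_of_repWith (AlgSp.IsAlgSpace.yon_obj U)
          (ASp.repWith_mono (fun _ _ f (_ : IsImmersion f) => (inferInstance : LocallyOfFiniteType f)) hP)⟩
    haveI : IsLocallyNoetherian V.left := hn V y hy
    haveI : LocallyOfFiniteType h.left := (ASp.locP_yon_iff h).1 (H9St.prop_of_square ASp.isSmoothLocalST_locP h𝒳 h𝒴 hlft α ht hy)
    exact H9St.smoothLocally_of_atlas h𝒳 H9St.smProp_isLocallyNoetherian x hx (hxs hys)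
      (LocallyOfFiniteType.isLocallyNoetherian h.left)

end Groth.Agent.S13018
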