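import Groth.Statements.S13019
import Groth.Agent.Lib.H9StSpectral

set_option autoImplicit false
set_option backward.isDefEq.respectTransparency.types false
universe u
open CategoryTheory AlgebraicGeometry
open AlgSt

namespace Groth.Agent.S13019

/-- If 𝒳 is a locally Noetherian algebraic stack then its space of points is a locally Noetherian
topological space: every point has an open neighbourhood which is a Noetherian topological space. -/
theorem result
    (S : Scheme.{u}) (𝒳 : AlgSt.Cat S)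
    (h𝒳 : AlgSt.IsAlgStack Scheme.fppfPrecoverage 𝒳) :
    AlgSt.SmoothLocally (fun T ↦ IsLocallyNoetherian T) 𝒳 → ∀ x : AlgSt.Points 𝒳, ∃ U : Set (AlgSt.Points 𝒳), IsOpen U ∧ x ∈ U ∧ TopologicalSpace.NoetherianSpace U := by
  intro hN x
  haveI : FibCat.IsFibGrpd 𝒳.p := h𝒳.isStack.1
  obtain ⟨U, p, hp, hps⟩ := h𝒳.atlas
  haveI : IsLocallyNoetherian U.left := hN U p hp
  have hc := Groth.Agent.H9St.continuous_ofChart_of_atlas h𝒳.atlas p
  obtain ⟨u, rfl⟩ := Groth.Agent.H9St.surjective_ofChart (Y := 𝒳) hps x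
  obtain ⟨A, hA, huA, -⟩ := exists_isAffineOpen_mem_and_subset (X := U.left) (x := u) (U := ⊤) trivial
  haveI : IsAffine (A : Scheme.{u}) := hA
  haveI : IsLocallyNoetherian (A : Scheme.{u}) := isLocallyNoetherian_of_isOpenImmersion A.ι
  haveI : IsNoetherian (A : Scheme.{u}) := ⟨⟩
  refine ⟨_, Groth.Agent.H9St.isOpenMap_ofChart (Groth.Agent.H9St.smooth_flat_lfp hp).1 (Groth.Agent.H9St.smooth_flat_lfp hp).2 _ A.2, ⟨u, huA, rfl⟩, ?_⟩
  have h := TopologicalSpace.NoetherianSpace.range (α := ↥(A : Scheme.{u})) (fun a => AlgSt.Points.ofChart p (A.ι a)) (hc.comp A.ι.continuous)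
  have e : Set.range (fun a : ↥(A : Scheme.{u}) => AlgSt.Points.ofChart p (A.ι a)) = AlgSt.Points.ofChart p '' (A : Set ↥U.left) := by
    rw [← Scheme.Opens.range_ι A, ← Set.range_comp]; rfl
  rwa [e] at h

end Groth.Agent.S13019
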