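import Groth.Statements.S13021
import Groth.Agent.Lib.H9StSpectral
import Groth.Agent.Lib.H9TopNoeth

set_option autoImplicit false
set_option backward.isDefEq.respectTransparency.types false
universe u
open CategoryTheory AlgebraicGeometry
open AlgSt

namespace Groth.Agent.S13021

/-- The space of points of a locally Noetherian algebraic stack is quasi-sober: every irreducible closed
subset has a generic point. -/
theorem result
    (S : Scheme.{u}) (𝒳 : AlgSt.Cat S)
    (h𝒳 : AlgSt.IsAlgStack Scheme.fppfPrecoverage 𝒳) :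
    AlgSt.SmoothLocally (fun T ↦ IsLocallyNoetherian T) 𝒳 → QuasiSober (AlgSt.Points 𝒳) := by
  intro hN
  haveI : FibCat.IsFibGrpd 𝒳.p := h𝒳.isStack.1
  obtain ⟨U, p, hp, hps⟩ := h𝒳.atlas
  haveI : IsLocallyNoetherian U.left := hN U p hp
  refine ⟨fun {T} hT hTc => ?_⟩
  obtain ⟨x, hx⟩ := hT.nonempty
  obtain ⟨u, rfl⟩ := Groth.Agent.H9St.surjective_ofChart (Y := 𝒳) hps x
  obtain ⟨A, hA, huA, -⟩ := exists_isAffineOpen_mem_and_subset (X := U.left) (x := u) (U := ⊤) trivial
  haveI : IsAffine (A : Scheme.{u}) := hA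
  haveI : IsLocallyNoetherian (A : Scheme.{u}) := isLocallyNoetherian_of_isOpenImmersion A.ι
  haveI : IsNoetherian (A : Scheme.{u}) := ⟨⟩
  have ho := Groth.Agent.H9St.isOpenMap_ofChart (Groth.Agent.H9St.smooth_flat_lfp hp).1 (Groth.Agent.H9St.smooth_flat_lfp hp).2
  exact Groth.Agent.H9Top.exists_isGenericPoint_of_noetherian (U := ↥(A : Scheme.{u})) (π := fun a => AlgSt.Points.ofChart p (A.ι a))
    ((Groth.Agent.H9St.continuous_ofChart_of_atlas h𝒳.atlas p).comp A.ι.continuous) (ho.comp A.ι.isOpenEmbedding.isOpenMap)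
    hTc hT.isPreirreducible ⟨⟨u, huA⟩, hx⟩

end Groth.Agent.S13021
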