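import Groth.Statements.S13048
import Mathlib

set_option autoImplicit false
universe u
open FrobAlg

namespace Groth.Agent.S13048

/-- Let k be an algebraically closed field of characteristic p > 0 and let A be a reduced finitely
generated commutative k-algebra with connected spectrum (A ≠ 0 and 0, 1 are its only idempotents).
If x ∈ A is a p^n-th power in A for every n ≥ 0, then x lies in the image of k; that is, ⋂_n A^{p^n}
= k. (The published statement is: for an artinian local ring R of characteristic p and a flat
R-algebra A of finite type, the maps A^ét → O(π₀(A)) → A^{p^∞/R} from the largest étale subalgebra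
to the preperfection are isomorphisms. This row is the case R = k algebraically closed and A reduced
with connected spectrum, where A^ét = k and the preperfection is ⋂_n A^{p^n}; the printed proof
reduces to this case and its last step proves it.) -/
theorem result
    (p : ℕ) [Fact p.Prime] (k : Type u) [Field k] [IsAlgClosed k] [CharP k p]
    (A : Type u) [CommRing A] [Algebra k A] [Algebra.FiniteType k A] [IsReduced A] [Nontrivial A]
    (hconn : ∀ e : A, IsIdempotentElem e → e = 0 ∨ e = 1)
    (x : A) (hx : ∀ n : ℕ, ∃ a : A, a ^ p ^ n = x) :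
    x ∈ (algebraMap k A).range := by
  classical
  obtain ⟨m₀, hm₀⟩ := Ideal.exists_maximal A
  have hres : ∀ (m : Ideal A), m.IsMaximal → ∀ y : A, ∃ c : k, y - algebraMap k A c ∈ m := by
    intro m hm y
    haveI := hm
    letI := Ideal.Quotient.field m
    haveI : Module.Finite k (A ⧸ m) := finite_of_finite_type_of_isJacobsonRing k (A ⧸ m)
    obtain ⟨c, hc⟩ := IsAlgClosed.algebraMap_bijective_of_isIntegral (k := k) (K := A ⧸ m) |>.2 (Ideal.Quotient.mk m y)
    exact ⟨c, Ideal.Quotient.eq.mp hc.symm⟩
  obtain ⟨c, hc⟩ := hres m₀ hm₀ x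
  have hp : 0 < p := (Fact.out : p.Prime).pos
  haveI : CharP A p := charP_of_injective_algebraMap (algebraMap k A).injective p
  let z := x - algebraMap k A c
  have hz : ∀ n : ℕ, ∃ a : A, a ^ p ^ n = z := by
    intro n
    obtain ⟨a, ha⟩ := hx n
    obtain ⟨d, hd⟩ := IsAlgClosed.exists_pow_nat_eq c (pow_pos hp n)
    exact ⟨a - algebraMap k A d, by rw [sub_pow_char_pow, ha, ← map_pow, hd]⟩
  let J : Ideal A := LinearMap.ker (LinearMap.toSpanSingleton A A z)
  have htop : J ⊔ Ideal.span {z} = ⊤ := by
    by_contra hne
    obtain ⟨m, hm, hle⟩ := Ideal.exists_le_maximal _ hne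
    haveI := hm
    haveI : IsNoetherianRing A := Algebra.FiniteType.isNoetherianRing k A
    have hzm : z ∈ m := hle (Submodule.mem_sup_right (Ideal.mem_span_singleton_self z))
    have h0 : algebraMap A (Localization.AtPrime m) z = 0 := by
      have : algebraMap A (Localization.AtPrime m) z ∈
          ⨅ n : ℕ, (IsLocalRing.maximalIdeal (Localization.AtPrime m)) ^ n := by
        rw [Ideal.mem_iInf]
        intro n
        obtain ⟨a, ha⟩ := hz n
        have ham : algebraMap A (Localization.AtPrime m) a ∈ IsLocalRing.maximalIdeal _ :=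
          (IsLocalization.AtPrime.to_map_mem_maximal_iff _ m a).mpr (hm.isPrime.mem_of_pow_mem _ (ha ▸ hzm))
        rw [← ha, map_pow]
        exact Ideal.pow_le_pow_right (Nat.lt_pow_self (Fact.out : p.Prime).one_lt).le (Ideal.pow_mem_pow ham _)
      rwa [Ideal.iInf_pow_eq_bot_of_isLocalRing _ (IsLocalRing.maximalIdeal.isMaximal _).ne_top, Ideal.mem_bot] at this
    obtain ⟨s, hs⟩ := (IsLocalization.map_eq_zero_iff m.primeCompl _ z).mp h0
    exact s.2 (hle (Submodule.mem_sup_left (show s.1 ∈ J by simpa [J, mul_comm] using hs)))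
  obtain ⟨j, hj, w, hw, hjw⟩ := Submodule.mem_sup.mp ((Ideal.eq_top_iff_one _).mp htop)
  obtain ⟨r, rfl⟩ := Ideal.mem_span_singleton'.mp hw
  have hjz : j * z = 0 := by simpa [J] using hj
  have he : IsIdempotentElem (r * z) := by
    show r * z * (r * z) = r * z
    calc r * z * (r * z) = r * z * (j + r * z) := by linear_combination (-r) * hjz
      _ = r * z := by rw [hjw, mul_one]
  rcases hconn _ he with h | h
  · refine ⟨c, ?_⟩
    rw [h, add_zero] at hjw
    rw [hjw, one_mul] at hjz
    exact (sub_eq_zero.mp hjz).symm
  · exact absurd (h ▸ Ideal.mul_mem_left _ r hc) ((Ideal.ne_top_iff_one _).mp hm₀.ne_top)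

end Groth.Agent.S13048
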