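import Groth.Statements.S13049
import Mathlib

set_option autoImplicit false
universe u
open FrobAlg

namespace Groth.Agent.S13049

/-- Let p be a prime and A a commutative ring of characteristic p whose nilradical N satisfies x^(p^e) =
0 for all x ∈ N and some fixed e (for instance A Noetherian). Then the map between the inverse-limit
perfections along the absolute Frobenius, lim (⋯ → A → A) → lim (⋯ → A/N → A/N), induced by the
projection A → A/N, is bijective. (The published argument takes A of finite type over a field, where
the nilradical is finitely generated; this row assumes only that the nilradical is killed by one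
fixed iterate of Frobenius, which is all that argument uses.) -/
theorem result
    (p : ℕ) [Fact p.Prime] (A : Type u) [CommRing A] [CharP A p]
    [CharP (A ⧸ nilradical A) p] (e : ℕ) (he : ∀ x ∈ nilradical A, x ^ p ^ e = 0) :
    Function.Bijective (Perfection.map p (Ideal.Quotient.mk (nilradical A))) := by
  classical
  have hp := (Fact.out : p.Prime)
  haveI : ExpChar A p := .prime hp
  have hpow : ∀ (f : Perfection A p) (n k : ℕ), Perfection.coeff A p (n + k) f ^ p ^ k = Perfection.coeff A p n f := by
    intro f n k
    induction k with
    | zero => simp
    | succ k ih => rw [pow_succ', pow_mul, ← add_assoc, Perfection.coeff_pow_p', ih]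
  constructor
  · rw [injective_iff_map_eq_zero]
    intro f hf
    refine Perfection.ext fun n => ?_
    have h := congrArg (Perfection.coeff (A ⧸ nilradical A) p (n + e)) hf
    rw [Perfection.coeff_map, map_zero, Ideal.Quotient.eq_zero_iff_mem] at h
    rw [map_zero, ← hpow f n e, he _ h]
  · intro g
    choose a ha using fun n => Ideal.Quotient.mk_surjective (Perfection.coeff (A ⧸ nilradical A) p n g)
    have hlift : ∀ x y : A, Ideal.Quotient.mk (nilradical A) x = Ideal.Quotient.mk (nilradical A) y → x ^ p ^ e = y ^ p ^ e := fun x y h => by
      rw [← sub_eq_zero, ← sub_pow_expChar_pow]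
      exact he _ ((Ideal.Quotient.eq).1 h)
    have hf : ∀ n, (a (n + 1 + e) ^ p ^ e) ^ p = a (n + e) ^ p ^ e := fun n => by
      rw [← pow_mul, mul_comm, pow_mul]
      refine hlift _ _ ?_
      rw [map_pow, ha, ha, show n + 1 + e = n + e + 1 by omega, Perfection.coeff_pow_p']
    refine ⟨(⟨fun n => a (n + e) ^ p ^ e, hf⟩ : Perfection A p), Perfection.ext fun n => ?_⟩
    show Ideal.Quotient.mk (nilradical A) (a (n + e) ^ p ^ e) = _
    rw [map_pow, ha]
    have key : ∀ k, Perfection.coeff (A ⧸ nilradical A) p (n + k) g ^ p ^ k = Perfection.coeff (A ⧸ nilradical A) p n g := by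
      intro k
      induction k with
      | zero => simp
      | succ k ih => rw [pow_succ', pow_mul, ← add_assoc, Perfection.coeff_pow_p', ih]
    exact key e

end Groth.Agent.S13049
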