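import Groth.Statements.S13057
import Mathlib

set_option autoImplicit false
universe u
open Zeta

namespace Groth.Agent.S13057

/-- A power series f = ∑_{m ≥ 0} a_m t^m over a field L lies in L(t), i.e. f · Q = P for some
polynomials P, Q with Q ≠ 0, if and only if there are natural numbers M, N such that the vectors
(a_i, a_{i+1}, …, a_{i+N}) ∈ L^{N+1}, i ≥ M, span a proper subspace. -/
theorem result {L : Type u} [Field L]
    (f : PowerSeries L) :
    (∃ P Q : Polynomial L, Q ≠ 0 ∧ f * (Q : PowerSeries L) = (P : PowerSeries L)) ↔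
      ∃ M N : ℕ, Submodule.span L
          {v : Fin (N + 1) → L | ∃ i : ℕ, M ≤ i ∧ v = fun j : Fin (N + 1) => PowerSeries.coeff (i + (j : ℕ)) f} ≠ ⊤ := by
  classical
  have hqf : ∀ (Q : Polynomial L) (N i : ℕ), Q.natDegree ≤ N → PowerSeries.coeff (i + N) (f * (Q : PowerSeries L)) =
      ∑ j : Fin (N + 1), Q.coeff (N - j) * PowerSeries.coeff (i + (j : ℕ)) f := by
    intro Q N i hQ
    rw [mul_comm, PowerSeries.coeff_mul, Finset.Nat.sum_antidiagonal_eq_sum_range_succ (fun a b => PowerSeries.coeff a (Q : PowerSeries L) * PowerSeries.coeff b f),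
      ← Finset.sum_subset (Finset.range_mono (show N + 1 ≤ (i + N).succ by omega)) fun x _ hx => by
        rw [Polynomial.coeff_coe, Polynomial.coeff_eq_zero_of_natDegree_lt (by simp at hx; omega), zero_mul],
      ← Finset.sum_range_reflect, Fin.sum_univ_eq_sum_range (fun j => Q.coeff (N - j) * PowerSeries.coeff (i + j) f)]
    refine Finset.sum_congr rfl fun x hx => ?_
    have hx' := Finset.mem_range.1 hx
    rw [Polynomial.coeff_coe, show N + 1 - 1 - x = N - x by omega, show i + N - (N - x) = i + x by omega]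
  constructor
  · rintro ⟨P, Q, hQ, hPQ⟩
    refine ⟨P.natDegree + 1, Q.natDegree, fun htop => ?_⟩
    let φ : (Fin (Q.natDegree + 1) → L) →ₗ[L] L := ∑ j : Fin (Q.natDegree + 1), Q.coeff (Q.natDegree - j) • LinearMap.proj j
    have hle : Submodule.span L {v : Fin (Q.natDegree + 1) → L | ∃ i : ℕ, P.natDegree + 1 ≤ i ∧ v = fun j : Fin (Q.natDegree + 1) => PowerSeries.coeff (i + (j : ℕ)) f} ≤ LinearMap.ker φ := by
      rw [Submodule.span_le]
      rintro _ ⟨i, hi, rfl⟩
      simp only [SetLike.mem_coe, LinearMap.mem_ker, φ, LinearMap.sum_apply, LinearMap.smul_apply, LinearMap.proj_apply, smul_eq_mul]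
      rw [← hqf Q _ i le_rfl, hPQ, Polynomial.coeff_coe, Polynomial.coeff_eq_zero_of_natDegree_lt (by omega)]
    rw [htop, top_le_iff, LinearMap.ker_eq_top] at hle
    have h := LinearMap.congr_fun hle (Pi.single 0 1)
    simp [φ, Pi.single_apply] at h
    exact hQ h
  · rintro ⟨M, N, hne⟩
    obtain ⟨φ, hφ, hle⟩ := Submodule.exists_dual_map_eq_bot_of_lt_top (lt_top_iff_ne_top.2 hne) inferInstance
    let q : Fin (N + 1) → L := fun j => φ (Pi.single j 1)
    let Q : Polynomial L := ∑ j : Fin (N + 1), Polynomial.C (q j) * Polynomial.X ^ (N - (j : ℕ))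
    have hQc : ∀ j : Fin (N + 1), Q.coeff (N - j) = q j := fun j => by
      simp only [Q, Polynomial.finset_sum_coeff, Polynomial.coeff_C_mul_X_pow]
      rw [Finset.sum_eq_single j (fun b _ hb => if_neg fun e => hb (Fin.ext (by have := b.2; have := j.2; omega))) (fun h => absurd (Finset.mem_univ j) h), if_pos rfl]
    have hφq : ∀ v : Fin (N + 1) → L, φ v = ∑ j, q j * v j := fun v => by
      conv_lhs => rw [pi_eq_sum_univ' v]
      simp [q, map_sum, mul_comm, Pi.single_comm]
    have hQ0 : Q ≠ 0 := fun h => hφ (LinearMap.ext fun v => by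
      rw [hφq, LinearMap.zero_apply]
      exact Finset.sum_eq_zero fun j _ => by rw [← hQc j, h, Polynomial.coeff_zero, zero_mul])
    have hdeg : Q.natDegree ≤ N := Polynomial.natDegree_sum_le_of_forall_le _ _ fun j _ =>
      (Polynomial.natDegree_C_mul_X_pow_le _ _).trans (Nat.sub_le _ _)
    refine ⟨PowerSeries.trunc (M + N) (f * (Q : PowerSeries L)), Q, hQ0, PowerSeries.ext fun m => ?_⟩
    rw [Polynomial.coeff_coe, PowerSeries.coeff_trunc]
    split_ifs with hm
    · rfl
    · obtain ⟨i, rfl⟩ : ∃ i, m = i + N := ⟨m - N, by omega⟩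
      rw [hqf Q N i hdeg]
      simp only [hQc]
      rw [← hφq fun j : Fin (N + 1) => PowerSeries.coeff (i + (j : ℕ)) f]
      have h := Submodule.mem_map_of_mem (f := φ) (Submodule.subset_span (R := L) (show (fun j : Fin (N + 1) => PowerSeries.coeff (i + (j : ℕ)) f) ∈ {v : Fin (N + 1) → L | ∃ i : ℕ, M ≤ i ∧ v = fun j : Fin (N + 1) => PowerSeries.coeff (i + (j : ℕ)) f} from ⟨i, by omega, rfl⟩))
      rw [hle] at h
      exact (Submodule.mem_bot L).1 h

end Groth.Agent.S13057
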