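import Groth.Statements.S13058
import Mathlib

set_option autoImplicit false
universe u v
open Zeta

namespace Groth.Agent.S13058

/-- If L'/L is a field extension, a power series f ∈ L⟦t⟧ belongs to L(t) exactly when it belongs to
L'(t); here membership in L(t) means f · Q = P for polynomials P, Q over the field in question with
Q ≠ 0. -/
theorem result {L : Type u} {L' : Type v} [Field L] [Field L']
    [Algebra L L'] (f : PowerSeries L) :
    (∃ P Q : Polynomial L', Q ≠ 0 ∧
        PowerSeries.map (algebraMap L L') f * (Q : PowerSeries L') = (P : PowerSeries L')) ↔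
      ∃ P Q : Polynomial L, Q ≠ 0 ∧ f * (Q : PowerSeries L) = (P : PowerSeries L) := by
  classical
  constructor
  · rintro ⟨P, Q, hQ, h⟩
    obtain ⟨n, hn⟩ : ∃ n, Q.coeff n ≠ 0 := by
      by_contra hc; push Not at hc
      exact hQ (Polynomial.ext fun n => by simp [hc n])
    obtain ⟨π, hπ⟩ := LinearMap.exists_leftInverse_of_injective (Algebra.linearMap L L')
      (LinearMap.ker_eq_bot.2 (algebraMap L L').injective)
    set c := (Q.coeff n)⁻¹
    have hπ' : ∀ a : L, π (algebraMap L L' a) = a := fun a => LinearMap.congr_fun hπ a
    let tr : Polynomial L' → Polynomial L := fun R => ∑ i ∈ R.support, Polynomial.monomial i (π (R.coeff i))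
    have htr : ∀ R i, (tr R).coeff i = π (R.coeff i) := fun R i => by
      simp [tr, Polynomial.finsetSum_coeff, Polynomial.coeff_monomial]
      intro hi; simp [hi]
    refine ⟨tr (Polynomial.C c * P), tr (Polynomial.C c * Q), fun h0 => ?_, PowerSeries.ext fun m => ?_⟩
    · have := congrArg (fun R => Polynomial.coeff R n) h0
      simp only [htr, Polynomial.coeff_C_mul, c, inv_mul_cancel₀ hn, Polynomial.coeff_zero] at this
      rw [← map_one (algebraMap L L'), hπ'] at this
      exact one_ne_zero this
    · have hm := congrArg (fun R => π (c * PowerSeries.coeff m R)) h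
      simp only [PowerSeries.coeff_mul, Polynomial.coeff_coe, PowerSeries.coeff_map, Finset.mul_sum, map_sum] at hm
      rw [PowerSeries.coeff_mul, Polynomial.coeff_coe, htr, Polynomial.coeff_C_mul, ← hm]
      refine Finset.sum_congr rfl fun x _ => ?_
      rw [Polynomial.coeff_coe, htr, Polynomial.coeff_C_mul, ← smul_eq_mul, ← map_smul, Algebra.smul_def, mul_left_comm]
  · rintro ⟨P, Q, hQ, h⟩
    refine ⟨P.map (algebraMap L L'), Q.map (algebraMap L L'), (Polynomial.map_ne_zero_iff (algebraMap L L').injective).2 hQ, ?_⟩
    rw [Polynomial.polynomial_map_coe, Polynomial.polynomial_map_coe, ← map_mul, h]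

end Groth.Agent.S13058
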