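import Groth.Statements.S13061
import Mathlib

set_option autoImplicit false
universe u v w
open Zeta

namespace Groth.Agent.S13061

/-- Let A be a commutative algebra over a field k, G a finite group acting on A by k-algebra
automorphisms and I ⊆ A an ideal preserved by G. If p^n is the largest power of p = char(k) dividing
|G| (with p^n = 1 when char(k) = 0), then for every G-invariant b ∈ A/I the power b^{p^n} lies in
the image of A^G → (A/I)^G. (The published statement takes A finitely generated over k, which the
proof does not use.) -/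
theorem result {k : Type u} [Field k]
    {A : Type v} [CommRing A] [Algebra k A] {G : Type w} [Group G] [Finite G]
    [MulSemiringAction G A] [SMulCommClass G k A] (I : Ideal A)
    (hI : ∀ (g : G) (a : A), a ∈ I → g • a ∈ I) (u : A) (hu : ∀ g : G, g • u - u ∈ I) :
    ∃ a : A, (∀ g : G, g • a = a) ∧
      Ideal.Quotient.mk I a =
        Ideal.Quotient.mk I u ^ (ringChar k ^ (Nat.card G).factorization (ringChar k)) := by
  classical
  have := Fintype.ofFinite G
  set p := ringChar k
  obtain ⟨P, hP, hPi⟩ : ∃ P : Subgroup G, Nat.card P = p ^ (Nat.card G).factorization p ∧ ((P.index : ℕ) : k) ≠ 0 := by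
    by_cases hp : p = 0
    · refine ⟨⊥, by simp [hp], ?_⟩
      haveI : CharP k 0 := hp ▸ ringChar.charP k
      haveI : CharZero k := CharP.charP_to_charZero k
      rw [Subgroup.index_bot]
      exact Nat.cast_ne_zero.2 Nat.card_pos.ne'
    · haveI : Fact p.Prime := ⟨(CharP.char_is_prime_or_zero k p).resolve_right hp⟩
      obtain ⟨Q⟩ := (inferInstance : Nonempty (Sylow p G))
      refine ⟨Q, Q.card_eq_multiplicity, fun h => Q.not_dvd_index ((CharP.cast_eq_zero_iff k p _).1 h)⟩
  have := Fintype.ofFinite (G ⧸ P)
  let N : A := ∏ h : P, (h : G) • u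
  have hN : ∀ g : G, g ∈ P → g • N = N := fun g hg => by
    rw [Finset.smul_prod']
    exact Fintype.prod_equiv (Equiv.mulLeft ⟨g, hg⟩) _ _ fun h => by simp [mul_smul]
  refine ⟨(P.index : k)⁻¹ • ∑ q : G ⧸ P, q.out • N, fun g => ?_, ?_⟩
  · rw [smul_comm g, Finset.smul_sum]
    congr 1
    refine Fintype.sum_equiv (MulAction.toPerm g) _ _ fun q => ?_
    have hmem : (g • q).out⁻¹ * (g * q.out) ∈ P := by
      rw [← QuotientGroup.eq, QuotientGroup.out_eq']
      conv_lhs => rw [← QuotientGroup.out_eq' q]
      rfl
    calc g • q.out • N = ((g • q).out * ((g • q).out⁻¹ * (g * q.out))) • N := by rw [mul_inv_cancel_left, mul_smul]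
      _ = (g • q).out • N := by rw [mul_smul, hN _ hmem]
  · have hq : ∀ g : G, Ideal.Quotient.mk I (g • u) = Ideal.Quotient.mk I u := fun g => Ideal.Quotient.eq.2 (hu g)
    have h1 : ∀ g : G, Ideal.Quotient.mk I (g • N) = Ideal.Quotient.mk I u ^ Nat.card P := fun g => by
      rw [Finset.smul_prod', map_prod, Nat.card_eq_fintype_card]
      simp [← mul_smul, hq]
    rw [← hP, ← Ideal.Quotient.mkₐ_eq_mk k, map_smul, map_sum]
    simp only [Ideal.Quotient.mkₐ_eq_mk, h1, Finset.sum_const, Finset.card_univ]
    rw [← Nat.card_eq_fintype_card, ← Subgroup.index_eq_card, ← Nat.cast_smul_eq_nsmul k, smul_smul, inv_mul_cancel₀ hPi, one_smul]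

end Groth.Agent.S13061
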