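import Groth.Statements.S1307
import Mathlib
import Groth.Agent.Lib.H2Thick

set_option autoImplicit false
universe u
open FlatMor

namespace Groth.Agent.S1307
open AlgebraicGeometry CategoryTheory Limits
set_option backward.isDefEq.respectTransparency.types false

open AlgebraicGeometry CategoryTheory Limits in
/-- For a morphism of thickenings, that is a commutative square whose horizontal maps are thickenings
(closed immersions that are surjective on points), the morphism between the thin schemes is
universally injective if and only if the morphism between the thick ones is. -/
theorem result {X X' S S' : Scheme.{u}} (iX : X ⟶ X') (iS : S ⟶ S') (f : X ⟶ S) (f' : X' ⟶ S')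
    (hX : MoreMor.IsThickening iX) (hS : MoreMor.IsThickening iS) (w : iX ≫ f' = f ≫ iS) :
    UniversallyInjective f ↔ UniversallyInjective f' := by
  haveI := hX.1; haveI := hX.2; haveI := hS.1; haveI := hS.2
  haveI := Groth.Agent.H2Thick.universallyOpen_of_isThickening iX
  haveI := Groth.Agent.H2Thick.universallyOpen_of_isThickening iS
  constructor
  · intro h
    haveI : UniversallyInjective (f ≫ iS) := MorphismProperty.comp_mem (W := @UniversallyInjective) f iS h inferInstance
    haveI : UniversallyInjective (iX ≫ f') := w ▸ this
    exact Groth.Agent.H2Thick.universallyInjective_cancel iX f'
  · intro h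
    haveI : UniversallyInjective (iX ≫ f') := MorphismProperty.comp_mem (W := @UniversallyInjective) iX f' inferInstance h
    exact Groth.Agent.H2Thick.of_comp_mono @UniversallyInjective f iS (w ▸ this)

end Groth.Agent.S1307
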