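import Mathlib
import Groth.Statements.S13096
-- import your own Groth.Agent.* helpers here

set_option autoImplicit false
universe u v
open CAlg

namespace Groth.Agent.S13096

/-- Let R be a commutative ring and R' a commutative R-algebra of finite presentation. Then every
surjective R-algebra endomorphism α : R' → R' is bijective (an automorphism). -/
theorem result (R : Type u) [CommRing R]
    (R' : Type v) [CommRing R'] [Algebra R R'] [Algebra.FinitePresentation R R']
    (α : R' →ₐ[R] R') (hα : Function.Surjective α) : Function.Bijective α := by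
  classical
  refine ⟨(injective_iff_map_eq_zero α).2 fun x hx => ?_, hα⟩
  obtain ⟨n, π, hπ, hker⟩ := Algebra.FinitePresentation.out (R := R) (A := R')
  obtain ⟨m, f, hf⟩ := Submodule.fg_iff_exists_fin_generating_family.1 hker
  change Ideal.span (Set.range f) = RingHom.ker π.toRingHom at hf
  choose g hg using fun i : Fin n => hπ (α (π (MvPolynomial.X i)))
  have hcomm : ∀ p, π (MvPolynomial.bind₁ g p) = α (π p) := by
    intro p
    have h0 : π.comp (MvPolynomial.bind₁ g) = α.comp π := MvPolynomial.algHom_ext fun i => by simp [hg]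
    exact DFunLike.congr_fun h0 p
  choose h hh using fun i : Fin n => hα (π (MvPolynomial.X i))
  choose hp hhp using fun i : Fin n => hπ (h i)
  obtain ⟨z, rfl⟩ := hπ x
  have mem : ∀ p, π p = 0 → ∃ c : Fin m → MvPolynomial (Fin n) R, ∑ j, c j * f j = p := fun p hp' => by
    have hp2 : p ∈ Ideal.span (Set.range f) := by rw [hf]; exact hp'
    exact Ideal.mem_span_range_iff_exists_fun.1 hp2
  have hf0 : ∀ j, π (f j) = 0 := fun j => by
    have hp2 : f j ∈ RingHom.ker π.toRingHom := hf ▸ Ideal.subset_span (Set.mem_range_self j)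
    exact hp2
  choose c hc using fun j : Fin m => mem (MvPolynomial.bind₁ g (f j)) (by rw [hcomm, hf0, map_zero])
  choose d hd using fun i : Fin n => mem (MvPolynomial.bind₁ g (hp i) - MvPolynomial.X i)
    (by rw [map_sub, hcomm, hhp, hh, sub_self])
  obtain ⟨e, he⟩ := mem (MvPolynomial.bind₁ g z) (by rw [hcomm, hx])
  let T : Finset (MvPolynomial (Fin n) R) := Finset.univ.image f ∪ Finset.univ.image g ∪ Finset.univ.image hp ∪ {z}
    ∪ Finset.univ.biUnion (fun j => Finset.univ.image (c j)) ∪ Finset.univ.biUnion (fun i => Finset.univ.image (d i))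
    ∪ Finset.univ.image e
  let A : Subalgebra ℤ R := Algebra.adjoin ℤ (↑(T.biUnion MvPolynomial.coeffs) : Set R)
  haveI : Algebra.FiniteType ℤ A := (Subalgebra.fg_iff_finiteType _).1 (Subalgebra.fg_adjoin_finset _)
  haveI : IsNoetherianRing A := Algebra.FiniteType.isNoetherianRing ℤ A
  let ι : A →+* R := A.val.toRingHom
  let Φ : MvPolynomial (Fin n) A →+* MvPolynomial (Fin n) R := MvPolynomial.map ι
  have hΦ : Function.Injective Φ := MvPolynomial.map_injective ι Subtype.val_injective
  have lift : ∀ p ∈ T, ∃ p0, Φ p0 = p := by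
    intro p hpT
    have : p ∈ Set.range (MvPolynomial.map ι) := by
      rw [MvPolynomial.mem_range_map_iff_coeffs_subset]
      intro r hr
      exact ⟨⟨r, Algebra.subset_adjoin (Finset.mem_coe.2 (Finset.mem_biUnion.2 ⟨p, hpT, hr⟩))⟩, rfl⟩
    exact this
  choose f0 hf00 using fun j => lift (f j) (by simp [T])
  choose g0 hg0 using fun i => lift (g i) (by simp [T])
  choose h0 hh0 using fun i => lift (hp i) (by simp [T])
  obtain ⟨z0, hz0⟩ := lift z (by simp [T])
  choose c0 hc0 using fun j k => lift (c j k) (by simp [T])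
  choose d0 hd0 using fun i k => lift (d i k) (by simp [T])
  choose e0 he0 using fun k => lift (e k) (by simp [T])
  have hb : ∀ p, Φ (MvPolynomial.bind₁ g0 p) = MvPolynomial.bind₁ g (Φ p) := fun p => by
    simp only [Φ] at hg0 ⊢
    rw [MvPolynomial.map_bind₁]; simp only [hg0]
  let J : Ideal (MvPolynomial (Fin n) A) := Ideal.span (Set.range f0)
  have inJ : ∀ (p : MvPolynomial (Fin n) A) (k : Fin m → MvPolynomial (Fin n) A),
      ∑ j, Φ (k j) * f j = Φ p → p ∈ J := fun p k hk => by
    rw [show p = ∑ j, k j * f0 j from hΦ (by simp [map_sum, hf00, hk])]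
    exact Ideal.sum_mem _ fun j _ => Ideal.mul_mem_left _ _ (Ideal.subset_span ⟨j, rfl⟩)
  have hJ : J ≤ J.comap (MvPolynomial.bind₁ g0).toRingHom := by
    rw [Ideal.span_le]
    rintro _ ⟨j, rfl⟩
    exact inJ _ (c0 j) (by simp only [hc0]; show _ = Φ (MvPolynomial.bind₁ g0 (f0 j)); rw [hb, hf00]; exact hc j)
  let β : (MvPolynomial (Fin n) A ⧸ J) →+* (MvPolynomial (Fin n) A ⧸ J) :=
    Ideal.quotientMap J (MvPolynomial.bind₁ g0).toRingHom hJ
  have hX : ∀ i, MvPolynomial.bind₁ g0 (h0 i) - MvPolynomial.X i ∈ J := fun i =>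
    inJ _ (d0 i) (by simp only [hd0, map_sub, hb, hh0]; simpa [Φ] using hd i)
  have hβs : Function.Surjective β := by
    intro y
    obtain ⟨p, rfl⟩ := Ideal.Quotient.mk_surjective y
    refine ⟨Ideal.Quotient.mk J (MvPolynomial.bind₁ h0 p), ?_⟩
    rw [Ideal.quotientMap_mk]
    have hk : (Ideal.Quotient.mkₐ A J).comp ((MvPolynomial.bind₁ g0).comp (MvPolynomial.bind₁ h0)) =
        Ideal.Quotient.mkₐ A J := MvPolynomial.algHom_ext fun i => by
      simp only [AlgHom.comp_apply, MvPolynomial.bind₁_X_right, Ideal.Quotient.mkₐ_eq_mk]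
      exact (Ideal.Quotient.eq).2 (hX i)
    exact DFunLike.congr_fun hk p
  have hβi : ∀ w, β w = 0 → w = 0 := by
    intro w hw
    let K : ℕ →o Ideal (MvPolynomial (Fin n) A ⧸ J) := ⟨fun k => RingHom.ker (β ^ k), fun a b hab v hv => by
      obtain ⟨t, rfl⟩ := Nat.exists_eq_add_of_le hab
      rw [RingHom.mem_ker] at hv ⊢
      rw [add_comm, pow_add, RingHom.mul_def, RingHom.comp_apply, hv, map_zero]⟩
    obtain ⟨N, hN⟩ := monotone_stabilizes_iff_noetherian.2 inferInstance K
    have hs : Function.Surjective ⇑(β ^ N) := by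
      rw [RingHom.coe_pow]; exact hβs.iterate N
    obtain ⟨v, rfl⟩ := hs w
    have h1 : v ∈ K (N + 1) := by
      show (β ^ (N + 1)) v = 0
      rw [pow_succ', RingHom.mul_def, RingHom.comp_apply, hw]
    rw [← hN (N + 1) (by omega)] at h1
    exact h1
  have hz : z0 ∈ J := by
    rw [← Ideal.Quotient.eq_zero_iff_mem]
    refine hβi _ ?_
    rw [Ideal.quotientMap_mk, Ideal.Quotient.eq_zero_iff_mem]
    exact inJ _ e0 (by simp only [he0]; change _ = Φ (MvPolynomial.bind₁ g0 z0); rw [hb, hz0]; exact he)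
  have hzr : Φ z0 ∈ (J.map Φ) := Ideal.mem_map_of_mem Φ hz
  rw [Ideal.map_span, ← Set.range_comp, show Φ ∘ f0 = f from funext hf00, hz0, hf] at hzr
  exact hzr

end Groth.Agent.S13096
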