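import Groth.Statements.S13098
import Mathlib


set_option autoImplicit false
universe u v
open Lie3Mod

namespace Groth.Agent.S13098

/-- Let R be a commutative ring, M an R-module with a basis x = bs 0, y = bs 1, z = bs 2 indexed by Fin
3, and B an R-bilinear alternating map on M (B m m = 0) with B x y = a x + b y + c z, B x z = d x +
e y + f z and B y z = g x + h y + i z. Then B satisfies the Jacobi identity for all triples if and
only if the three Jacobi polynomials vanish: ah + di − fg − bg = 0, ie + bd − fh − ae = 0 and hc +
dc − af − bi = 0. (This is the statement that Lie brackets on a based free module of rank 3 are the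
points of the closed subscheme of affine 9-space defined by these three equations.) -/
theorem result (R : Type u) [CommRing R] (M : Type v) [AddCommGroup M] [Module R M]
    (bs : Module.Basis (Fin 3) R M) (B : M →ₗ[R] M →ₗ[R] M) (halt : ∀ m : M, B m m = 0)
    (a b c d e f g h i : R)
    (hxy : B (bs 0) (bs 1) = a • bs 0 + b • bs 1 + c • bs 2)
    (hxz : B (bs 0) (bs 2) = d • bs 0 + e • bs 1 + f • bs 2)
    (hyz : B (bs 1) (bs 2) = g • bs 0 + h • bs 1 + i • bs 2) :
    (∀ u v w : M, B u (B v w) + B v (B w u) + B w (B u v) = 0) ↔
      (a * h + d * i - f * g - b * g = 0 ∧ i * e + b * d - f * h - a * e = 0 ∧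
        h * c + d * c - a * f - b * i = 0) := by
  have hskew : ∀ u v : M, B v u = -(B u v) := by
    intro u v
    have h0 := halt (u + v)
    simp only [map_add, LinearMap.add_apply, halt, zero_add, add_zero] at h0
    exact eq_neg_of_add_eq_zero_left h0
  have key : B (bs 0) (B (bs 1) (bs 2)) + B (bs 1) (B (bs 2) (bs 0)) + B (bs 2) (B (bs 0) (bs 1)) =
      (h * a + i * d - f * g - b * g) • bs 0 + (b * d + i * e - a * e - f * h) • bs 1
        + (h * c + d * c - a * f - b * i) • bs 2 := by
    simp only [hskew (bs 0) (bs 2), hskew (bs 0) (bs 1), hskew (bs 1) (bs 2), hyz, hxz, hxy, map_add,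
      map_smul, map_neg, halt, smul_zero, neg_zero]
    module
  constructor
  · intro H
    have h3 := key
    rw [H] at h3
    have h0 := congrArg (fun m => bs.repr m 0) h3
    have h1 := congrArg (fun m => bs.repr m 1) h3
    have h2 := congrArg (fun m => bs.repr m 2) h3
    simp [Finsupp.single_apply] at h0 h1 h2
    exact ⟨by linear_combination -h0, by linear_combination -h1, by linear_combination -h2⟩
  · rintro ⟨q1, q2, q3⟩
    have h3 : B (bs 0) (B (bs 1) (bs 2)) + B (bs 1) (B (bs 2) (bs 0)) + B (bs 2) (B (bs 0) (bs 1)) = 0 := by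
      rw [key, show h * a + i * d - f * g - b * g = 0 by linear_combination q1,
        show b * d + i * e - a * e - f * h = 0 by linear_combination q2, q3]
      simp
    intro u v w
    have hu := bs.sum_repr u
    have hv := bs.sum_repr v
    have hw := bs.sum_repr w
    rw [← hu, ← hv, ← hw]
    simp only [Fin.sum_univ_three, map_add, map_smul, LinearMap.add_apply, LinearMap.smul_apply,
      smul_add, halt, smul_zero, map_zero, zero_add, add_zero,
      hskew (bs 0) (bs 1), hskew (bs 1) (bs 2), map_neg, smul_neg]
    rw [hskew (bs 0) (bs 2)] at *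
    simp only [map_neg, smul_neg] at *
    linear_combination (norm := module)
      ((bs.repr u 0 * bs.repr v 1 * bs.repr w 2) + (bs.repr u 1 * bs.repr v 2 * bs.repr w 0)
        + (bs.repr u 2 * bs.repr v 0 * bs.repr w 1) - (bs.repr u 0 * bs.repr v 2 * bs.repr w 1)
        - (bs.repr u 2 * bs.repr v 1 * bs.repr w 0) - (bs.repr u 1 * bs.repr v 0 * bs.repr w 2)) • h3

end Groth.Agent.S13098
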