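import Groth.Statements.S13100
import Mathlib

set_option autoImplicit false
universe u
open GrpSch

namespace Groth.Agent.S13100

/-- Let k be an algebraically closed field of characteristic different from 2 and K = k((t)) the field
of Laurent series over k. Then a non-zero Laurent series f is a square in K if and only if its order
in t is even; consequently the group Kˣ/Kˣ² of non-zero elements modulo squares has exactly two
elements, represented by 1 and t. -/
theorem result (k : Type u) [Field k] [IsAlgClosed k] (h2 : (2 : k) ≠ 0)
    (f : LaurentSeries k) (hf : f ≠ 0) : IsSquare f ↔ Even f.order := by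
  constructor
  · rintro ⟨g, rfl⟩
    have hg : g ≠ 0 := fun h => hf (by simp [h])
    exact ⟨g.order, by rw [HahnSeries.order_mul hg hg]⟩
  · rintro ⟨m, hm⟩
    set u := f.powerSeriesPart with hu
    have hu0 : PowerSeries.constantCoeff u ≠ 0 := by
      rw [← PowerSeries.coeff_zero_eq_constantCoeff_apply, hu, LaurentSeries.powerSeriesPart_coeff]
      simpa using HahnSeries.coeff_order_eq_zero.not.mpr hf
    obtain ⟨c, hc⟩ := IsAlgClosed.exists_eq_mul_self (PowerSeries.constantCoeff u)
    haveI : HenselianRing (PowerSeries k) (Ideal.span {(PowerSeries.X : PowerSeries k)}) := IsAdicComplete.henselianRing _ _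
    have hc0 : c ≠ 0 := fun h => hu0 (by rw [hc, h, zero_mul])
    obtain ⟨s, hs, -⟩ := HenselianRing.is_henselian (I := Ideal.span {(PowerSeries.X : PowerSeries k)})
      (Polynomial.X ^ 2 - Polynomial.C u) (Polynomial.monic_X_pow_sub_C u two_ne_zero) (PowerSeries.C c)
      (by
        rw [Ideal.mem_span_singleton, PowerSeries.X_dvd_iff]
        simp [hc, pow_two])
      (by
        refine IsUnit.map _ ?_
        rw [PowerSeries.isUnit_iff_constantCoeff]
        simp [hc0, h2, Polynomial.derivative_sub, one_add_one_eq_two, map_ofNat])
    refine ⟨HahnSeries.single m 1 * HahnSeries.ofPowerSeries ℤ k s, ?_⟩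
    have hs2 : s * s = u := by
      have : s ^ 2 - u = 0 := by simpa [Polynomial.IsRoot] using hs
      rw [← pow_two]; exact sub_eq_zero.mp this
    rw [mul_mul_mul_comm, HahnSeries.single_mul_single, ← map_mul, hs2, ← hm, mul_one]
    exact (LaurentSeries.single_order_mul_powerSeriesPart f).symm

end Groth.Agent.S13100
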