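import Groth.Statements.S13106
import Groth.Prelude.Def_CInt
import Mathlib

set_option autoImplicit false
universe u
open GrpSch

namespace Groth.Agent.S13106
open CategoryTheory CategoryTheory.Limits AlgebraicGeometry

open CategoryTheory AlgebraicGeometry in
/-- Let f : X → Y be a morphism of schemes and U ⊆ Y a schematically dense open subscheme (for every
open V of Y, restriction of functions from V to V ∩ U is injective) such that the restriction f⁻¹(U)
→ U of f is an isomorphism. Then two morphisms from Y to a scheme separated over a base T that agree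
after composing with f and have the same composite to T are equal: if Z → T is separated and v₁, v₂
: Y → Z satisfy v₁ ≫ (Z → T) = v₂ ≫ (Z → T) and f ≫ v₁ = f ≫ v₂, then v₁ = v₂. (The published
statement is the case of a morphism between two prolongations over A[[t]] of a finite group scheme
over A((t)), where U is the generic fibre, schematically dense by flatness; uniqueness of
prolongation maps follows.) -/
theorem result {X Y Z T : Scheme.{u}} (f : X ⟶ Y)
    (U : Y.Opens) (hU : CInt.IsSchematicallyDense U) [IsIso (f ∣_ U)]
    (z : Z ⟶ T) [IsSeparated z] (v₁ v₂ : Y ⟶ Z) (hz : v₁ ≫ z = v₂ ≫ z) (h : f ≫ v₁ = f ≫ v₂) :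
    v₁ = v₂ := by
  open CategoryTheory CategoryTheory.Limits in
  have hU' : U.ι ≫ v₁ = U.ι ≫ v₂ := by
    rw [← cancel_epi (f ∣_ U), morphismRestrict_ι_assoc, morphismRestrict_ι_assoc, h]
  let p := pullback.lift v₁ v₂ hz
  let i := pullback.snd (pullback.diagonal z) p
  haveI : IsClosedImmersion (pullback.diagonal z) := ‹IsSeparated z›.1
  haveI : IsClosedImmersion i := inferInstance
  have c1 : i ≫ v₁ = pullback.fst (pullback.diagonal z) p := by
    have := congrArg (fun t => t ≫ pullback.fst z z) (pullback.condition (f := pullback.diagonal z) (g := p))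
    simp only [Category.assoc, pullback.diagonal_fst, Category.comp_id] at this
    rw [show p ≫ pullback.fst z z = v₁ from pullback.lift_fst _ _ _] at this
    exact this.symm
  have c2 : i ≫ v₂ = pullback.fst (pullback.diagonal z) p := by
    have := congrArg (fun t => t ≫ pullback.snd z z) (pullback.condition (f := pullback.diagonal z) (g := p))
    simp only [Category.assoc, pullback.diagonal_snd, Category.comp_id] at this
    rw [show p ≫ pullback.snd z z = v₂ from pullback.lift_snd _ _ _] at this
    exact this.symm
  let j : (U : Scheme.{u}) ⟶ pullback (pullback.diagonal z) p := pullback.lift (U.ι ≫ v₁) U.ι (by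
    apply pullback.hom_ext
    · simp only [Category.assoc, pullback.diagonal_fst, Category.comp_id]
      rw [show p ≫ pullback.fst z z = v₁ from pullback.lift_fst _ _ _]
    · simp only [Category.assoc, pullback.diagonal_snd, Category.comp_id]
      rw [show p ≫ pullback.snd z z = v₂ from pullback.lift_snd _ _ _, hU'])
  have hj : j ≫ i = U.ι := pullback.lift_snd _ _ _
  haveI : IsIso i := by
    rw [IsClosedImmersion.isIso_iff_ker_eq_bot]
    ext W : 2
    rw [Scheme.Hom.ker_apply, Scheme.IdealSheafData.ideal_bot, Pi.bot_apply, eq_bot_iff]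
    intro s hs
    have hs0 : (i.app W.1).hom s = 0 := hs
    have h1 : (U.ι.app W.1).hom s = 0 := by
      have h0 : ((j ≫ i).app W.1).hom s = 0 := by
        change (j.app (i ⁻¹ᵁ W.1)).hom ((i.app W.1).hom s) = 0
        rw [hs0]; exact map_zero _
      rw [Scheme.Hom.congr_app hj.symm]
      erw [CommRingCat.comp_apply, h0]
      exact map_zero _
    rw [U.ι_app] at h1
    apply hU W.1
    rw [map_zero]
    have hle : W.1 ⊓ U ≤ U.ι ''ᵁ (U.ι ⁻¹ᵁ W.1) := fun x hx => ⟨⟨x, hx.2⟩, hx.1, rfl⟩
    have h2 := congrArg (Y.presheaf.map (homOfLE hle).op).hom h1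
    erw [map_zero, ← CommRingCat.comp_apply, ← Functor.map_comp] at h2
    exact h2
  exact (cancel_epi i).1 (c1.trans c2.symm)

end Groth.Agent.S13106
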