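import Groth.Statements.S1312
import Mathlib
import Groth.Prelude.Def_MoreMor
import Groth.Prelude.Def_Flat

set_option autoImplicit false
universe u
open FlatMor

namespace Groth.Agent.S1312
open AlgebraicGeometry CategoryTheory Limits
set_option backward.isDefEq.respectTransparency.types false

open AlgebraicGeometry CategoryTheory Limits in
/-- Let Y ⟶ Y' be a thickening, let X be the base change to Y of a scheme X' over Y', and assume both X
⟶ Y and X' ⟶ Y' are locally of finite type. Then X ⟶ Y is locally quasi-finite if and only if X' ⟶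
Y' is. -/
theorem result {X X' Y Y' : Scheme.{u}} (iX : X ⟶ X') (iY : Y ⟶ Y') (f : X ⟶ Y) (f' : X' ⟶ Y')
    (hY : MoreMor.IsThickening iY) (hc : IsPullback iX f f' iY) [LocallyOfFiniteType f] [LocallyOfFiniteType f'] :
    LocallyQuasiFinite f ↔ LocallyQuasiFinite f' := by
  haveI := hY.1; haveI := hY.2
  haveI : IsClosedImmersion iX := MorphismProperty.of_isPullback (P := @IsClosedImmersion) hc.flip hY.1
  haveI : Surjective iX := MorphismProperty.of_isPullback (P := @Surjective) hc.flip hY.2
  refine ⟨fun _ => ?_, fun h => MorphismProperty.of_isPullback (P := @LocallyQuasiFinite) hc h⟩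
  rw [locallyQuasiFinite_iff_isDiscrete_preimage_singleton]
  intro y
  obtain ⟨y, rfl⟩ := iY.surjective y
  have h := (f.isDiscrete_preimage_singleton y).image (Scheme.Hom.isClosedEmbedding iX).isEmbedding.isInducing
  convert h using 1
  ext x'
  obtain ⟨x, rfl⟩ := iX.surjective x'
  have hcomm : f' (iX x) = iY (f x) := by rw [← Scheme.Hom.comp_apply, ← Scheme.Hom.comp_apply, hc.w]
  simp [hcomm, (Scheme.Hom.isClosedEmbedding iY).injective.eq_iff, (Scheme.Hom.isClosedEmbedding iX).injective.eq_iff]

end Groth.Agent.S1312
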