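import Groth.Statements.S13120
import Mathlib
import Groth.Agent.Lib.H6.CharTwoParity

set_option autoImplicit false
set_option backward.isDefEq.respectTransparency.types false
set_option maxHeartbeats 1000000
set_option linter.all false
universe u
open KumFam

namespace Groth.Agent.S13120
open Groth.Agent

open MvPolynomial in
/-- Let R be a commutative ring of characteristic 2 and l0, l2, l4, s0, s2, s4, τ ∈ R with τ a unit.
Inside R[u, v] (u = X 0, v = X 1) let A = R[u², u³, v², v³] be the coordinate ring of the product of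
two cuspidal curves, and let D be the R-derivation of R[u, v] with D(u) = v²(l0 u⁴ + τ u³ + l2 u² +
l4) and D(v) = u²(s0 v⁴ + τ v³ + s2 v² + s4); D is u²v² times the rational vector field (l0 u² + τ u
+ l2 + l4 u⁻²) ∂_u + (s0 v² + τ v + s2 + s4 v⁻²) ∂_v, which maps A into itself, and u²v² is a
non-zero-divisor, so the kernel of that vector field on A is the set of a ∈ A with D(a) = 0. Then
for a ∈ A: D(a) = 0 if and only if a ∈ R[u², v², g], where g = (s0 v⁴ + s2 v² + s4) u³ + (l0 u⁴ + l2
u² + l4) v³ + τ u³ v³. (The published statement identifies this kernel with the ring of invariants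
of the corresponding action of the group scheme of square roots of unity; this row states the kernel
computation that is actually carried out.) -/
theorem result (R : Type u) [CommRing R] [CharP R 2]
    (l0 l2 l4 s0 s2 s4 τ : R) (hτ : IsUnit τ) (a : MvPolynomial (Fin 2) R)
    (ha : a ∈ Algebra.adjoin R
      ({X 0 ^ 2, X 0 ^ 3, X 1 ^ 2, X 1 ^ 3} : Set (MvPolynomial (Fin 2) R))) :
    MvPolynomial.mkDerivation R
        (![X 1 ^ 2 * (C l0 * X 0 ^ 4 + C τ * X 0 ^ 3 + C l2 * X 0 ^ 2 + C l4),
          X 0 ^ 2 * (C s0 * X 1 ^ 4 + C τ * X 1 ^ 3 + C s2 * X 1 ^ 2 + C s4)] :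
          Fin 2 → MvPolynomial (Fin 2) R) a = 0 ↔
      a ∈ Algebra.adjoin R
        ({X 0 ^ 2, X 1 ^ 2,
          (C s0 * X 1 ^ 4 + C s2 * X 1 ^ 2 + C s4) * X 0 ^ 3 +
            (C l0 * X 0 ^ 4 + C l2 * X 0 ^ 2 + C l4) * X 1 ^ 3 +
            C τ * X 0 ^ 3 * X 1 ^ 3} : Set (MvPolynomial (Fin 2) R)) := by
    classical
    set L : MvPolynomial (Fin 2) R := MvPolynomial.C l0 * MvPolynomial.X 0 ^ 2 + MvPolynomial.C l2 * MvPolynomial.X 0 + MvPolynomial.C l4 with hL
    set S : MvPolynomial (Fin 2) R := MvPolynomial.C s0 * MvPolynomial.X 1 ^ 2 + MvPolynomial.C s2 * MvPolynomial.X 1 + MvPolynomial.C s4 with hS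
    set f : Fin 2 → MvPolynomial (Fin 2) R := ![MvPolynomial.X 1 ^ 2 * (MvPolynomial.C l0 * MvPolynomial.X 0 ^ 4 + MvPolynomial.C τ * MvPolynomial.X 0 ^ 3 + MvPolynomial.C l2 * MvPolynomial.X 0 ^ 2 + MvPolynomial.C l4),
            MvPolynomial.X 0 ^ 2 * (MvPolynomial.C s0 * MvPolynomial.X 1 ^ 4 + MvPolynomial.C τ * MvPolynomial.X 1 ^ 3 + MvPolynomial.C s2 * MvPolynomial.X 1 ^ 2 + MvPolynomial.C s4)] with hf
    set T : MvPolynomial (Fin 2) R := MvPolynomial.C τ * MvPolynomial.X 0 * MvPolynomial.X 1 with hT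
    have hf0 : f 0 = MvPolynomial.expand 2 (MvPolynomial.X 1 * L) + MvPolynomial.expand 2 T * MvPolynomial.X 0 := by
      simp [hf, hL, hT, MvPolynomial.expand_X]; ring
    have hf1 : f 1 = MvPolynomial.expand 2 (MvPolynomial.X 0 * S) + MvPolynomial.expand 2 T * MvPolynomial.X 1 := by
      simp [hf, hS, hT, MvPolynomial.expand_X]; ring
    set g : MvPolynomial (Fin 2) R :=
      (MvPolynomial.C s0 * MvPolynomial.X 1 ^ 4 + MvPolynomial.C s2 * MvPolynomial.X 1 ^ 2 + MvPolynomial.C s4) * MvPolynomial.X 0 ^ 3 +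
        (MvPolynomial.C l0 * MvPolynomial.X 0 ^ 4 + MvPolynomial.C l2 * MvPolynomial.X 0 ^ 2 + MvPolynomial.C l4) * MvPolynomial.X 1 ^ 3 +
        MvPolynomial.C τ * MvPolynomial.X 0 ^ 3 * MvPolynomial.X 1 ^ 3 with hg
    have hpar : g = H6.CharTwoParity.par 0 (MvPolynomial.X 0 * S) (MvPolynomial.X 1 * L) T := by
      simp [H6.CharTwoParity.par, hg, hL, hS, hT, MvPolynomial.expand_X]; ring
    have htwo := H6.CharTwoParity.two_zero (R := R)
    have hiff := H6.CharTwoParity.deriv_par_eq_zero_iff (MvPolynomial.X 1 * L) (MvPolynomial.X 0 * S) T f hf0 hf1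
    have hDg : MvPolynomial.mkDerivation R f g = 0 := by
      rw [hpar, hiff]
      exact ⟨by linear_combination (MvPolynomial.X 0 * MvPolynomial.X 1 * S * L) * htwo,
        by linear_combination (T * MvPolynomial.X 0 * S) * htwo,
        by linear_combination (T * MvPolynomial.X 1 * L) * htwo⟩
    have hsq : ∀ j : Fin 2, MvPolynomial.mkDerivation R f (MvPolynomial.X j ^ 2) = 0 := fun j => by
      rw [← MvPolynomial.expand_X]
      exact H6.CharTwoParity.deriv_expand f _
    constructor
    · intro hD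
      obtain ⟨A₀, b, c, e, rfl⟩ : ∃ A₀ b c e, a = H6.CharTwoParity.par A₀ (MvPolynomial.X 0 * b) (MvPolynomial.X 1 * c)
          (MvPolynomial.X 0 * MvPolynomial.X 1 * e) := by
        clear hD
        induction ha using Algebra.adjoin_induction with
        | mem x hx =>
          simp only [Set.mem_insert_iff, Set.mem_singleton_iff] at hx
          rcases hx with rfl | rfl | rfl | rfl
          · exact ⟨MvPolynomial.X 0, 0, 0, 0, by simp [H6.CharTwoParity.par, MvPolynomial.expand_X]⟩
          · exact ⟨0, 1, 0, 0, by simp [H6.CharTwoParity.par, MvPolynomial.expand_X]; ring⟩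
          · exact ⟨MvPolynomial.X 1, 0, 0, 0, by simp [H6.CharTwoParity.par, MvPolynomial.expand_X]⟩
          · exact ⟨0, 0, 1, 0, by simp [H6.CharTwoParity.par, MvPolynomial.expand_X]; ring⟩
        | algebraMap r => exact ⟨MvPolynomial.C r, 0, 0, 0, by simp [H6.CharTwoParity.par]⟩
        | add x y _ _ hx hy =>
          obtain ⟨a, b, c, e, rfl⟩ := hx
          obtain ⟨a', b', c', e', rfl⟩ := hy
          exact ⟨a + a', b + b', c + c', e + e', by simp [H6.CharTwoParity.par]; ring⟩
        | mul x y _ _ hx hy =>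
          obtain ⟨a, b, c, e, rfl⟩ := hx
          obtain ⟨a', b', c', e', rfl⟩ := hy
          refine ⟨a * a' + b * b' * MvPolynomial.X 0 ^ 3 + c * c' * MvPolynomial.X 1 ^ 3 + e * e' * MvPolynomial.X 0 ^ 3 * MvPolynomial.X 1 ^ 3,
            a * b' + b * a' + (c * e' + e * c') * MvPolynomial.X 1 ^ 3,
            a * c' + c * a' + (b * e' + e * b') * MvPolynomial.X 0 ^ 3,
            a * e' + e * a' + b * c' + c * b', ?_⟩
          simp only [H6.CharTwoParity.par, map_add, map_mul, map_pow, MvPolynomial.expand_X]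
          ring
      obtain ⟨-, hb, hc⟩ := (hiff A₀ _ _ _).1 hD
      have hreg : ∀ (i : Fin 2) (x : MvPolynomial (Fin 2) R), MvPolynomial.X i * x = 0 → x = 0 := fun i x hx =>
        MvPolynomial.isRegular_X.left (by simpa using hx : MvPolynomial.X i * x = MvPolynomial.X i * 0)
      have hb' : MvPolynomial.C τ * b + e * S = 0 :=
        hreg 0 _ (hreg 0 _ (hreg 1 _ (by rw [← hb, hT]; ring)))
      have hc' : MvPolynomial.C τ * c + e * L = 0 :=
        hreg 0 _ (hreg 1 _ (hreg 1 _ (by rw [← hc, hT]; ring)))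
      obtain ⟨u, rfl⟩ := hτ
      set e' := MvPolynomial.C (↑u⁻¹ : R) * e with he'
      have hu : MvPolynomial.C (σ := Fin 2) (↑u⁻¹ : R) * MvPolynomial.C (u : R) = 1 := by
        rw [← map_mul, Units.inv_mul, map_one]
      have he : e = e' * MvPolynomial.C (u : R) := by rw [he']; linear_combination (-e) * hu
      have hb'' : b = e' * S := by
        rw [he']; linear_combination MvPolynomial.C (↑u⁻¹ : R) * H6.CharTwoParity.eq_of_add_eq_zero hb' - b * hu
      have hc'' : c = e' * L := by
        rw [he']; linear_combination MvPolynomial.C (↑u⁻¹ : R) * H6.CharTwoParity.eq_of_add_eq_zero hc' - c * hu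
      have hval : H6.CharTwoParity.par A₀ (MvPolynomial.X 0 * b) (MvPolynomial.X 1 * c) (MvPolynomial.X 0 * MvPolynomial.X 1 * e) =
          MvPolynomial.expand 2 A₀ + MvPolynomial.expand 2 e' * g := by
        rw [hb'', hc'', he, hpar, hT]
        simp only [H6.CharTwoParity.par, map_add, map_mul, map_zero, MvPolynomial.expand_X]
        ring
      rw [hval]
      refine add_mem ?_ (mul_mem ?_ (Algebra.subset_adjoin (by simp)))
      · exact H6.CharTwoParity.expand_mem _ (Algebra.subset_adjoin (by simp)) (Algebra.subset_adjoin (by simp)) _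
      · exact H6.CharTwoParity.expand_mem _ (Algebra.subset_adjoin (by simp)) (Algebra.subset_adjoin (by simp)) _
    · intro hmem
      clear ha
      induction hmem using Algebra.adjoin_induction with
      | mem x hx =>
        simp only [Set.mem_insert_iff, Set.mem_singleton_iff] at hx
        rcases hx with rfl | rfl | rfl
        · exact hsq 0
        · exact hsq 1
        · exact hDg
      | algebraMap r => exact Derivation.map_algebraMap _ r
      | add x y _ _ hx hy => rw [map_add, hx, hy, add_zero]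
      | mul x y _ _ hx hy => rw [Derivation.leibniz, hx, hy, smul_zero, smul_zero, add_zero]

end Groth.Agent.S13120
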