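import Groth.Statements.S13121
import Mathlib

set_option autoImplicit false
set_option backward.isDefEq.respectTransparency.types false
set_option maxHeartbeats 1000000
set_option linter.all false
universe u
open KumFam

namespace Groth.Agent.S13121
open Groth.Agent

open MvPolynomial in
/-- Let R be a commutative ring of characteristic 2 and l0, l2, l4, s0, s2, s4, τ ∈ R with τ a unit. In
R[u, v] (u = X 0, v = X 1) put g = (s0 v⁴ + s2 v² + s4) u³ + (l0 u⁴ + l2 u² + l4) v³ + τ u³ v³. Then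
the kernel of the R-algebra homomorphism R[a, b, c] → R[u, v] (a = X 0, b = X 1, c = X 2) with a ↦
u², b ↦ v², c ↦ g is the ideal generated by c² + s0² a³ b⁴ + s2² a³ b² + s4² a³ + l0² a⁴ b³ + l2² a²
b³ + l4² b³ + τ² a³ b³; its image is the subalgebra R[u², v², g], which is therefore presented by
this one equation. -/
theorem result (R : Type u) [CommRing R] [CharP R 2]
    (l0 l2 l4 s0 s2 s4 τ : R) (hτ : IsUnit τ) :
    RingHom.ker (MvPolynomial.aeval (R := R) (S₁ := MvPolynomial (Fin 2) R)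
        ![X 0 ^ 2, X 1 ^ 2,
          (C s0 * X 1 ^ 4 + C s2 * X 1 ^ 2 + C s4) * X 0 ^ 3 +
            (C l0 * X 0 ^ 4 + C l2 * X 0 ^ 2 + C l4) * X 1 ^ 3 +
            C τ * X 0 ^ 3 * X 1 ^ 3]) =
      Ideal.span {(X 2 ^ 2 + C (s0 ^ 2) * X 0 ^ 3 * X 1 ^ 4 + C (s2 ^ 2) * X 0 ^ 3 * X 1 ^ 2 +
        C (s4 ^ 2) * X 0 ^ 3 + C (l0 ^ 2) * X 0 ^ 4 * X 1 ^ 3 + C (l2 ^ 2) * X 0 ^ 2 * X 1 ^ 3 +
        C (l4 ^ 2) * X 1 ^ 3 + C (τ ^ 2) * X 0 ^ 3 * X 1 ^ 3 : MvPolynomial (Fin 3) R)} := by
    classical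
    set rest : MvPolynomial (Fin 2) R := MvPolynomial.C (s0 ^ 2) * MvPolynomial.X 0 ^ 3 * MvPolynomial.X 1 ^ 4 + MvPolynomial.C (s2 ^ 2) * MvPolynomial.X 0 ^ 3 * MvPolynomial.X 1 ^ 2 +
        MvPolynomial.C (s4 ^ 2) * MvPolynomial.X 0 ^ 3 + MvPolynomial.C (l0 ^ 2) * MvPolynomial.X 0 ^ 4 * MvPolynomial.X 1 ^ 3 + MvPolynomial.C (l2 ^ 2) * MvPolynomial.X 0 ^ 2 * MvPolynomial.X 1 ^ 3 +
        MvPolynomial.C (l4 ^ 2) * MvPolynomial.X 1 ^ 3 + MvPolynomial.C (τ ^ 2) * MvPolynomial.X 0 ^ 3 * MvPolynomial.X 1 ^ 3 with hrest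
    let ι : MvPolynomial (Fin 2) R →ₐ[R] MvPolynomial (Fin 3) R :=
      MvPolynomial.aeval ![MvPolynomial.X 0, MvPolynomial.X 1]
    set f : MvPolynomial (Fin 3) R := MvPolynomial.X 2 ^ 2 + MvPolynomial.C (s0 ^ 2) * MvPolynomial.X 0 ^ 3 * MvPolynomial.X 1 ^ 4 + MvPolynomial.C (s2 ^ 2) * MvPolynomial.X 0 ^ 3 * MvPolynomial.X 1 ^ 2 +
          MvPolynomial.C (s4 ^ 2) * MvPolynomial.X 0 ^ 3 + MvPolynomial.C (l0 ^ 2) * MvPolynomial.X 0 ^ 4 * MvPolynomial.X 1 ^ 3 + MvPolynomial.C (l2 ^ 2) * MvPolynomial.X 0 ^ 2 * MvPolynomial.X 1 ^ 3 +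
          MvPolynomial.C (l4 ^ 2) * MvPolynomial.X 1 ^ 3 + MvPolynomial.C (τ ^ 2) * MvPolynomial.X 0 ^ 3 * MvPolynomial.X 1 ^ 3 with hfdef
    have hf : f = MvPolynomial.X 2 ^ 2 + ι rest := by
      simp [hfdef, hrest, ι]; ring
    set Z : MvPolynomial (Fin 2) R := (MvPolynomial.C s0 * MvPolynomial.X 1 ^ 4 + MvPolynomial.C s2 * MvPolynomial.X 1 ^ 2 + MvPolynomial.C s4) * MvPolynomial.X 0 ^ 3 +
              (MvPolynomial.C l0 * MvPolynomial.X 0 ^ 4 + MvPolynomial.C l2 * MvPolynomial.X 0 ^ 2 + MvPolynomial.C l4) * MvPolynomial.X 1 ^ 3 +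
              MvPolynomial.C τ * MvPolynomial.X 0 ^ 3 * MvPolynomial.X 1 ^ 3 with hZ
    set Φ := MvPolynomial.aeval (R := R) (S₁ := MvPolynomial (Fin 2) R) ![MvPolynomial.X 0 ^ 2, MvPolynomial.X 1 ^ 2, Z] with hΦ
    have hι : ∀ a, Φ (ι a) = MvPolynomial.expand 2 a := by
      intro a
      rw [← AlgHom.comp_apply]
      congr 1
      refine MvPolynomial.algHom_ext fun i => ?_
      fin_cases i <;> simp [hΦ, ι]
    have h20 : (2 : MvPolynomial (Fin 2) R) = 0 := by
      have := CharP.cast_eq_zero (MvPolynomial (Fin 2) R) 2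
      exact_mod_cast this
    have hsq : ∀ a b : MvPolynomial (Fin 2) R, (a + b) ^ 2 = a ^ 2 + b ^ 2 := by
      intro a b; linear_combination a * b * h20
    have hΦf : Φ f = 0 := by
      rw [hf, map_add, map_pow, hι]
      simp only [hΦ, hrest, MvPolynomial.aeval_X, map_add, map_mul, map_pow, MvPolynomial.expand_C, MvPolynomial.expand_X,
        Matrix.cons_val]
      rw [hZ]
      simp only [hsq, mul_pow, add_mul]
      linear_combination (MvPolynomial.C s0 ^ 2 * (MvPolynomial.X 0 ^ 2) ^ 3 * (MvPolynomial.X 1 ^ 2) ^ 4 + MvPolynomial.C s2 ^ 2 * (MvPolynomial.X 0 ^ 2) ^ 3 * (MvPolynomial.X 1 ^ 2) ^ 2 +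
          MvPolynomial.C s4 ^ 2 * (MvPolynomial.X 0 ^ 2) ^ 3 + MvPolynomial.C l0 ^ 2 * (MvPolynomial.X 0 ^ 2) ^ 4 * (MvPolynomial.X 1 ^ 2) ^ 3 + MvPolynomial.C l2 ^ 2 * (MvPolynomial.X 0 ^ 2) ^ 2 * (MvPolynomial.X 1 ^ 2) ^ 3 +
          MvPolynomial.C l4 ^ 2 * (MvPolynomial.X 1 ^ 2) ^ 3 + MvPolynomial.C τ ^ 2 * (MvPolynomial.X 0 ^ 2) ^ 3 * (MvPolynomial.X 1 ^ 2) ^ 3) * h20
    have hdiv : ∀ P : MvPolynomial (Fin 3) R, ∃ a b, P - (ι a + ι b * MvPolynomial.X 2) ∈ Ideal.span {f} := by
      intro P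
      induction P using MvPolynomial.induction_on with
      | C r => exact ⟨MvPolynomial.C r, 0, by simp [ι]⟩
      | add p q hp hq =>
        obtain ⟨a, b, h⟩ := hp
        obtain ⟨a', b', h'⟩ := hq
        refine ⟨a + a', b + b', ?_⟩
        have := add_mem h h'
        simp only [map_add]
        convert this using 1
        ring
      | mul_X p i hp =>
        obtain ⟨a, b, h⟩ := hp
        fin_cases i
        · refine ⟨a * MvPolynomial.X 0, b * MvPolynomial.X 0, ?_⟩
          have := Ideal.mul_mem_right (MvPolynomial.X 0) _ h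
          convert this using 1
          simp [ι]; ring
        · refine ⟨a * MvPolynomial.X 1, b * MvPolynomial.X 1, ?_⟩
          have := Ideal.mul_mem_right (MvPolynomial.X 1) _ h
          convert this using 1
          simp [ι]; ring
        · refine ⟨-(b * rest), a, ?_⟩
          have h2 := add_mem (Ideal.mul_mem_right (MvPolynomial.X 2) _ h) (Ideal.mul_mem_left _ (ι b) (Ideal.subset_span (Set.mem_singleton f)))
          convert h2 using 1
          rw [hf, map_neg, map_mul]
          simp only [Fin.reduceFinMk]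
          ring
    have hind : ∀ a b : MvPolynomial (Fin 2) R, MvPolynomial.expand 2 a + MvPolynomial.expand 2 b * Z = 0 → a = 0 ∧ b = 0 := by
      intro a b h
      have hb : b = 0 := by
        ext d
        let e : ℕ → ℕ → (Fin 2 →₀ ℕ) := fun i j => Finsupp.single 0 i + Finsupp.single 1 j
        have he : ∀ (c : R) (i j : ℕ), MvPolynomial.C c * MvPolynomial.X 0 ^ i * MvPolynomial.X 1 ^ j = MvPolynomial.monomial (e i j) c := by
          intro c i j
          rw [MvPolynomial.X_pow_eq_monomial, MvPolynomial.X_pow_eq_monomial, MvPolynomial.C_mul_monomial, MvPolynomial.monomial_mul]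
          simp [e]
        have hZ' : Z = MvPolynomial.monomial (e 3 4) s0 + MvPolynomial.monomial (e 3 2) s2 + MvPolynomial.monomial (e 3 0) s4 +
            MvPolynomial.monomial (e 4 3) l0 + MvPolynomial.monomial (e 2 3) l2 + MvPolynomial.monomial (e 0 3) l4 +
            MvPolynomial.monomial (e 3 3) τ := by
          simp only [← he, hZ]; ring
        set m := 2 • d + e 3 3 with hm
        have hm0 : ∀ i, m i = 2 * d i + 3 := by
          intro i
          fin_cases i <;> simp [hm, e]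
        have hzero : ∀ (c : R) (i j : ℕ), (i % 2 = 0 ∨ j % 2 = 0) →
            MvPolynomial.coeff m (MvPolynomial.expand 2 b * MvPolynomial.monomial (e i j) c) = 0 := by
          intro c i j hij
          rw [MvPolynomial.coeff_mul_monomial']
          split_ifs with hle
          · rcases hij with hp | hp
            · rw [MvPolynomial.coeff_expand_of_not_dvd (i := 0), zero_mul]
              have := hle 0
              rw [hm0] at this
              simp only [e, Finsupp.coe_tsub, Pi.sub_apply, hm0, Finsupp.add_apply] at this ⊢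
              simp at this ⊢
              omega
            · rw [MvPolynomial.coeff_expand_of_not_dvd (i := 1), zero_mul]
              have := hle 1
              rw [hm0] at this
              simp only [e, Finsupp.coe_tsub, Pi.sub_apply, hm0, Finsupp.add_apply] at this ⊢
              simp at this ⊢
              omega
          · rfl
        have h3 := congrArg (MvPolynomial.coeff m) h
        rw [MvPolynomial.coeff_add, MvPolynomial.coeff_expand_of_not_dvd (i := 0), zero_add, hZ'] at h3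
        · simp only [mul_add, MvPolynomial.coeff_add] at h3
          rw [hzero _ _ _ (by norm_num), hzero _ _ _ (by norm_num), hzero _ _ _ (by norm_num), hzero _ _ _ (by norm_num),
            hzero _ _ _ (by norm_num), hzero _ _ _ (by norm_num), hm, MvPolynomial.coeff_mul_monomial,
            MvPolynomial.coeff_expand_smul 2 two_ne_zero, MvPolynomial.coeff_zero] at h3
          simp only [zero_add] at h3
          rw [MvPolynomial.coeff_zero]
          exact hτ.mul_left_eq_zero.1 h3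
        · rw [hm0]; omega
      subst hb
      rw [map_zero, zero_mul, add_zero, MvPolynomial.expand_eq_zero two_pos] at h
      exact ⟨h, rfl⟩
    refine le_antisymm (fun P hP => ?_) ((Ideal.span_singleton_le_iff_mem _).2 hΦf)
    obtain ⟨a, b, hab⟩ := hdiv P
    obtain ⟨c, hc⟩ := Ideal.mem_span_singleton'.1 hab
    have h : MvPolynomial.expand 2 a + MvPolynomial.expand 2 b * Z = 0 := by
      have := congrArg Φ hc
      rw [map_mul, hΦf, mul_zero, map_sub, RingHom.mem_ker.1 hP, map_add, map_mul, hι, hι, zero_sub, zero_eq_neg] at this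
      simpa [hΦ] using this
    obtain ⟨rfl, rfl⟩ := hind a b h
    simpa using hab

end Groth.Agent.S13121
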