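import Groth.Statements.S13122
import Mathlib
import Groth.Agent.Lib.H6.CharTwoParity

set_option autoImplicit false
set_option backward.isDefEq.respectTransparency.types false
set_option maxHeartbeats 1000000
set_option linter.all false
universe u
open KumFam

namespace Groth.Agent.S13122
open Groth.Agent

open MvPolynomial in
/-- Let R be a commutative ring of characteristic 2 and l0, l2, l4, s0, s2, s4, τ ∈ R with τ a unit. On
R[x, y] (x = X 0, y = X 1; the coordinates u⁻¹, v⁻¹ of the smooth chart of the product of two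
cuspidal curves) let D be the R-derivation with D(x) = l4 x⁴ + l2 x² + τ x + l0 and D(y) = s4 y⁴ +
s2 y² + τ y + s0, and put h = (s4 y⁴ + s2 y² + s0) x + (l4 x⁴ + l2 x² + l0) y + τ x y. Then: (1) for
p ∈ R[x, y], D(p) = 0 if and only if p lies in the image of the R-algebra homomorphism R[a, b, c] →
R[x, y] (a = X 0, b = X 1, c = X 2) with a ↦ x², b ↦ y², c ↦ h; (2) the kernel of that homomorphism
is the ideal generated by c² + τ² a b + (s4² b⁴ + s2² b² + s0²) a + (l4² a⁴ + l2² a² + l0²) b. (The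
published statement asserts that the ring of invariants of the action of the group scheme of square
roots of unity given by this vector field is R[a, b, c] modulo this equation, by the same
computation as on the other chart; this row pins the generator h and states the kernel computation.) -/
theorem result (R : Type u) [CommRing R]
    [CharP R 2] (l0 l2 l4 s0 s2 s4 τ : R) (hτ : IsUnit τ) :
    (∀ p : MvPolynomial (Fin 2) R,
      MvPolynomial.mkDerivation R
          (![C l4 * X 0 ^ 4 + C l2 * X 0 ^ 2 + C τ * X 0 + C l0,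
            C s4 * X 1 ^ 4 + C s2 * X 1 ^ 2 + C τ * X 1 + C s0] :
            Fin 2 → MvPolynomial (Fin 2) R) p = 0 ↔
        p ∈ (MvPolynomial.aeval (R := R) (S₁ := MvPolynomial (Fin 2) R)
          ![X 0 ^ 2, X 1 ^ 2,
            (C s4 * X 1 ^ 4 + C s2 * X 1 ^ 2 + C s0) * X 0 +
              (C l4 * X 0 ^ 4 + C l2 * X 0 ^ 2 + C l0) * X 1 + C τ * X 0 * X 1]).range) ∧
    RingHom.ker (MvPolynomial.aeval (R := R) (S₁ := MvPolynomial (Fin 2) R)
        ![X 0 ^ 2, X 1 ^ 2,
          (C s4 * X 1 ^ 4 + C s2 * X 1 ^ 2 + C s0) * X 0 +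
            (C l4 * X 0 ^ 4 + C l2 * X 0 ^ 2 + C l0) * X 1 + C τ * X 0 * X 1]) =
      Ideal.span {(X 2 ^ 2 + C (τ ^ 2) * X 0 * X 1 +
        (C (s4 ^ 2) * X 1 ^ 4 + C (s2 ^ 2) * X 1 ^ 2 + C (s0 ^ 2)) * X 0 +
        (C (l4 ^ 2) * X 0 ^ 4 + C (l2 ^ 2) * X 0 ^ 2 + C (l0 ^ 2)) * X 1 : MvPolynomial (Fin 3) R)} := by
    classical
    set L : MvPolynomial (Fin 2) R := MvPolynomial.C l4 * MvPolynomial.X 0 ^ 2 + MvPolynomial.C l2 * MvPolynomial.X 0 + MvPolynomial.C l0 with hL
    set S : MvPolynomial (Fin 2) R := MvPolynomial.C s4 * MvPolynomial.X 1 ^ 2 + MvPolynomial.C s2 * MvPolynomial.X 1 + MvPolynomial.C s0 with hS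
    set f : Fin 2 → MvPolynomial (Fin 2) R := ![MvPolynomial.C l4 * MvPolynomial.X 0 ^ 4 + MvPolynomial.C l2 * MvPolynomial.X 0 ^ 2 + MvPolynomial.C τ * MvPolynomial.X 0 + MvPolynomial.C l0, MvPolynomial.C s4 * MvPolynomial.X 1 ^ 4 + MvPolynomial.C s2 * MvPolynomial.X 1 ^ 2 + MvPolynomial.C τ * MvPolynomial.X 1 + MvPolynomial.C s0] with hf
    have hf0 : f 0 = MvPolynomial.expand 2 L + MvPolynomial.expand 2 (MvPolynomial.C τ) * MvPolynomial.X 0 := by
      simp [hf, hL, MvPolynomial.expand_X]; ring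
    have hf1 : f 1 = MvPolynomial.expand 2 S + MvPolynomial.expand 2 (MvPolynomial.C τ) * MvPolynomial.X 1 := by
      simp [hf, hS, MvPolynomial.expand_X]; ring
    set h : MvPolynomial (Fin 2) R :=
      (MvPolynomial.C s4 * MvPolynomial.X 1 ^ 4 + MvPolynomial.C s2 * MvPolynomial.X 1 ^ 2 + MvPolynomial.C s0) * MvPolynomial.X 0 +
        (MvPolynomial.C l4 * MvPolynomial.X 0 ^ 4 + MvPolynomial.C l2 * MvPolynomial.X 0 ^ 2 + MvPolynomial.C l0) * MvPolynomial.X 1 +
        MvPolynomial.C τ * MvPolynomial.X 0 * MvPolynomial.X 1 with hh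
    have hpar : h = H6.CharTwoParity.par 0 S L (MvPolynomial.C τ) := by
      simp [H6.CharTwoParity.par, hh, hL, hS, MvPolynomial.expand_X]; ring
    have htwo := H6.CharTwoParity.two_zero (R := R)
    have hiff := H6.CharTwoParity.deriv_par_eq_zero_iff L S (MvPolynomial.C τ) f hf0 hf1
    have hDh : MvPolynomial.mkDerivation R f h = 0 := by
      rw [hpar, hiff]
      exact ⟨by linear_combination (S * L) * htwo, by linear_combination (MvPolynomial.C τ * S) * htwo,
        by linear_combination (MvPolynomial.C τ * L) * htwo⟩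
    refine ⟨fun p => ⟨fun hp => ?_, fun hp => ?_⟩, ?_⟩
    · obtain ⟨a, b, c, e, rfl⟩ := H6.CharTwoParity.decomp p
      obtain ⟨-, hb, hc⟩ := (hiff a b c e).1 hp
      obtain ⟨u, rfl⟩ := hτ
      set e' := MvPolynomial.C (↑u⁻¹ : R) * e with he'
      have hu : MvPolynomial.C (σ := Fin 2) (↑u⁻¹ : R) * MvPolynomial.C (u : R) = 1 := by
        rw [← map_mul, Units.inv_mul, map_one]
      have he : e = e' * MvPolynomial.C (u : R) := by rw [he']; linear_combination (-e) * hu
      have hb' : b = e' * S := by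
        rw [he']; linear_combination MvPolynomial.C (↑u⁻¹ : R) * H6.CharTwoParity.eq_of_add_eq_zero hb - b * hu
      have hc' : c = e' * L := by
        rw [he']; linear_combination MvPolynomial.C (↑u⁻¹ : R) * H6.CharTwoParity.eq_of_add_eq_zero hc - c * hu
      refine ⟨MvPolynomial.aeval ![MvPolynomial.X 0, MvPolynomial.X 1] a +
        MvPolynomial.aeval ![MvPolynomial.X 0, MvPolynomial.X 1] e' * MvPolynomial.X 2, ?_⟩
      have hι : ∀ a : MvPolynomial (Fin 2) R, MvPolynomial.aeval ![MvPolynomial.X 0 ^ 2, MvPolynomial.X 1 ^ 2, h]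
          (MvPolynomial.aeval ![(MvPolynomial.X 0 : MvPolynomial (Fin 3) R), MvPolynomial.X 1] a) = MvPolynomial.expand 2 a := by
        intro a
        rw [← AlgHom.comp_apply]
        congr 1
        refine MvPolynomial.algHom_ext fun i => ?_
        fin_cases i <;> simp
      rw [← show e' * S = b from hb'.symm, ← show e' * L = c from hc'.symm, he]
      simp only [AlgHom.toRingHom_eq_coe, RingHom.coe_coe, map_add, map_mul, hι, MvPolynomial.aeval_X]
      simp [hpar, H6.CharTwoParity.par]
      ring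
    · obtain ⟨q, rfl⟩ := hp
      simp only [AlgHom.toRingHom_eq_coe, RingHom.coe_coe]
      induction q using MvPolynomial.induction_on with
      | C r => simp
      | add p q hp hq => rw [map_add, map_add, hp, hq, add_zero]
      | mul_X p i hp =>
        rw [map_mul, MvPolynomial.aeval_X, Derivation.leibniz, hp, smul_zero, add_zero]
        have hsq : ∀ j : Fin 2, MvPolynomial.mkDerivation R f (MvPolynomial.X j ^ 2) = 0 := fun j => by
          rw [← MvPolynomial.expand_X]
          exact H6.CharTwoParity.deriv_expand f _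
        fin_cases i
        all_goals simp only [Fin.zero_eta, Fin.mk_one, Matrix.cons_val_zero, Matrix.cons_val_one, Fin.reduceFinMk, Matrix.cons_val, hsq, hDh, smul_zero]
    · refine H6.CharTwoParity.ker_aeval hτ (MvPolynomial.C (τ ^ 2) * MvPolynomial.X 0 * MvPolynomial.X 1 +
        (MvPolynomial.C (s4 ^ 2) * MvPolynomial.X 1 ^ 4 + MvPolynomial.C (s2 ^ 2) * MvPolynomial.X 1 ^ 2 + MvPolynomial.C (s0 ^ 2)) * MvPolynomial.X 0 +
        (MvPolynomial.C (l4 ^ 2) * MvPolynomial.X 0 ^ 4 + MvPolynomial.C (l2 ^ 2) * MvPolynomial.X 0 ^ 2 + MvPolynomial.C (l0 ^ 2)) * MvPolynomial.X 1) h _ ?_ ?_ hpar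
      · simp; ring
      · simp only [hh, CharTwo.add_sq, mul_pow, map_add, map_mul, map_pow, MvPolynomial.expand_C, MvPolynomial.expand_X]
        ring

end Groth.Agent.S13122
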