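import Groth.Statements.S13125
import Mathlib

set_option autoImplicit false
set_option backward.isDefEq.respectTransparency.types false
set_option maxHeartbeats 1000000
set_option linter.all false
universe u v
open KumFam

namespace Groth.Agent.S13125
open Groth.Agent

/-- Let A be a commutative ring graded by an additive monoid ι (an abelian group in the published
statement) through additive subgroups 𝒜 i, and I an ideal of A. Then I is a homogeneous ideal if and
only if A/I carries a structure of ι-graded ring ℬ for which the quotient map sends 𝒜 i into ℬ i for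
all i. -/
theorem result (ι : Type u) [DecidableEq ι] [AddMonoid ι]
    (A : Type v) [CommRing A] (𝒜 : ι → AddSubgroup A) [GradedRing 𝒜] (I : Ideal A) :
    I.IsHomogeneous 𝒜 ↔
      ∃ ℬ : ι → AddSubgroup (A ⧸ I), Nonempty (GradedRing ℬ) ∧
        ∀ i : ι, (𝒜 i).map (Ideal.Quotient.mk I : A →+ A ⧸ I) ≤ ℬ i := by
    classical
    constructor
    · intro hI
      let ℬ : ι → AddSubgroup (A ⧸ I) := fun i => (𝒜 i).map (Ideal.Quotient.mk I : A →+ A ⧸ I)
      haveI : SetLike.GradedMonoid ℬ :=
        { one_mem := ⟨1, SetLike.one_mem_graded 𝒜, rfl⟩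
          mul_mem := by
            rintro i j _ _ ⟨a, ha, rfl⟩ ⟨b, hb, rfl⟩
            exact ⟨a * b, SetLike.mul_mem_graded ha hb, map_mul (Ideal.Quotient.mk I) a b⟩ }
      let Φ : DirectSum ι (fun i => 𝒜 i) →+ DirectSum ι (fun i => ℬ i) :=
        DirectSum.map fun i => ((Ideal.Quotient.mk I : A →+ A ⧸ I).addSubgroupMap (𝒜 i))
      have hΦs : Function.Surjective Φ := by
        rw [DirectSum.map_surjective]
        exact fun i => AddMonoidHom.addSubgroupMap_surjective _ _
      have hcoe : ∀ z, DirectSum.coeAddMonoidHom ℬ (Φ z) = Ideal.Quotient.mk I (DirectSum.coeAddMonoidHom 𝒜 z) := by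
        intro z
        induction z using DirectSum.induction_on with
        | zero => simp
        | of i x => simp [Φ, DirectSum.map_of, DirectSum.coeAddMonoidHom_of]; rfl
        | add x y hx hy => simp only [map_add, hx, hy]
      have hint : DirectSum.IsInternal ℬ := by
        constructor
        · rw [injective_iff_map_eq_zero]
          intro w hw
          obtain ⟨z, rfl⟩ := hΦs w
          rw [hcoe, Ideal.Quotient.eq_zero_iff_mem] at hw
          refine DFinsupp.ext fun i => Subtype.ext ?_
          have hm := hI i hw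
          rw [show DirectSum.decompose 𝒜 (DirectSum.coeAddMonoidHom 𝒜 z) = z from (DirectSum.decompose 𝒜).right_inv z] at hm
          show ((Φ z) i : A ⧸ I) = 0
          rw [DirectSum.map_apply]
          exact Ideal.Quotient.eq_zero_iff_mem.2 hm
        · intro a
          obtain ⟨a, rfl⟩ := Ideal.Quotient.mk_surjective a
          exact ⟨Φ (DirectSum.decompose 𝒜 a), by rw [hcoe]; exact congrArg _ ((DirectSum.decompose 𝒜).left_inv a)⟩
      exact ⟨ℬ, ⟨{ toDecomposition := hint.chooseDecomposition }⟩, fun i => le_rfl⟩
    · rintro ⟨ℬ, ⟨hg⟩, hle⟩ i a ha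
      have h : Ideal.Quotient.mk I a = 0 := Ideal.Quotient.eq_zero_iff_mem.2 ha
      rw [← DirectSum.sum_support_decompose 𝒜 a, map_sum] at h
      let φ : (A ⧸ I) →+ (A ⧸ I) := { toFun := fun y => ((DirectSum.decompose ℬ y i : ℬ i) : A ⧸ I), map_zero' := by rw [DirectSum.decompose_zero]; rfl, map_add' := fun x y => by rw [DirectSum.decompose_add]; rfl }
      have h2 := congrArg φ h
      rw [map_sum, map_zero] at h2
      simp only [φ, AddMonoidHom.coe_mk, ZeroHom.coe_mk] at h2
      have hB : ∀ j, Ideal.Quotient.mk I (DirectSum.decompose 𝒜 a j : A) ∈ ℬ j := fun j => hle j ⟨_, (DirectSum.decompose 𝒜 a j).2, rfl⟩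
      rw [Finset.sum_eq_single i (fun j _ hj => DirectSum.decompose_of_mem_ne ℬ (hB j) hj) (fun hi => by
          rw [show (DirectSum.decompose 𝒜 a i : A) = 0 by rw [DFinsupp.notMem_support_iff.1 hi]; rfl, map_zero, DirectSum.decompose_zero]; rfl),
        DirectSum.decompose_of_mem_same ℬ (hB i)] at h2
      exact Ideal.Quotient.eq_zero_iff_mem.1 h2

end Groth.Agent.S13125
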