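import Groth.Statements.S13127
import Mathlib
import Groth.Agent.Lib.PowerSeriesChar2

set_option autoImplicit false
universe u
open KumFam

namespace Groth.Agent.S13127

open MvPowerSeries in
/-- Let R be a commutative ring of characteristic 2 and l0, l2, l4, s0, s2, s4, τ, lam, sig ∈ R with l4,
s4, lam, sig units, and let κ₁, κ₂ ∈ R satisfy s4² κ₁³ = sig² and l4² κ₂³ = lam² (cube roots of
sig²/s4² and lam²/l4²). In the power series ring R[[a, b, c]] (a = X 0, b = X 1, c = X 2) put F = c²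
+ s0² a³ b⁴ + s2² a³ b² + s4² a³ + l0² a⁴ b³ + l2² a² b³ + l4² b³ + τ² a³ b³ and F₀ = c² + sig² a³ +
lam² b³. Then some R-algebra automorphism of R[[a, b, c]] maps F to F₀; consequently R[[a, b,
c]]/(F) ≅ R[[a, b, c]]/(F₀). (In the published statement lam, sig are the representatives in the
ground field of the residues of l4, s4 at a rational point, so that F₀ is the equation of the
special fibre made constant; this row takes them to be arbitrary units.) -/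
theorem result (R : Type u) [CommRing R] [CharP R 2]
    (l0 l2 l4 s0 s2 s4 τ lam sig κ₁ κ₂ : R) (hl4 : IsUnit l4) (hs4 : IsUnit s4) (hlam : IsUnit lam)
    (hsig : IsUnit sig) (h₁ : s4 ^ 2 * κ₁ ^ 3 = sig ^ 2) (h₂ : l4 ^ 2 * κ₂ ^ 3 = lam ^ 2) :
    ∃ φ : MvPowerSeries (Fin 3) R ≃ₐ[R] MvPowerSeries (Fin 3) R,
      φ ((X 2 ^ 2 + C (s0 ^ 2) * X 0 ^ 3 * X 1 ^ 4 + C (s2 ^ 2) * X 0 ^ 3 * X 1 ^ 2 +
          C (s4 ^ 2) * X 0 ^ 3 + C (l0 ^ 2) * X 0 ^ 4 * X 1 ^ 3 + C (l2 ^ 2) * X 0 ^ 2 * X 1 ^ 3 +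
          C (l4 ^ 2) * X 1 ^ 3 + C (τ ^ 2) * X 0 ^ 3 * X 1 ^ 3 : MvPowerSeries (Fin 3) R)) =
        (X 2 ^ 2 + C (sig ^ 2) * X 0 ^ 3 + C (lam ^ 2) * X 1 ^ 3 : MvPowerSeries (Fin 3) R) := by
  haveI : CharP (MvPowerSeries (Fin 3) R) 2 :=
    charP_of_injective_ringHom (f := (C : R →+* MvPowerSeries (Fin 3) R)) MvPowerSeries.C_injective 2
  have hk1 : IsUnit κ₁ := (isUnit_pow_iff three_ne_zero).1
    (isUnit_of_mul_isUnit_right (h₁.symm ▸ hsig.pow 2))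
  have hk2 : IsUnit κ₂ := (isUnit_pow_iff three_ne_zero).1
    (isUnit_of_mul_isUnit_right (h₂.symm ▸ hlam.pow 2))
  obtain ⟨k1, rfl⟩ := hk1
  obtain ⟨k2, rfl⟩ := hk2
  obtain ⟨e4, rfl⟩ := hs4
  obtain ⟨m4, rfl⟩ := hl4
  obtain ⟨u, hu, hu3⟩ := Groth.Agent.PSChar2.exists_cube_root
    (C ((↑e4⁻¹ : R) ^ 2) * (C (s2 ^ 2) * X 1 ^ 2 + C (s0 ^ 2) * X 1 ^ 4) :
      MvPowerSeries (Fin 3) R) (by simp)
  obtain ⟨v, hv, hv3⟩ := Groth.Agent.PSChar2.exists_cube_root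
    (C ((↑m4⁻¹ : R) ^ 2) * (C (l2 ^ 2) * X 0 ^ 2 + C (l0 ^ 2) * X 0 ^ 4 + C (τ ^ 2) * X 0 ^ 3) :
      MvPowerSeries (Fin 3) R) (by simp)
  let uu : Fin 3 → MvPowerSeries (Fin 3) R :=
    ![C (↑k1⁻¹ : R) * u, C (↑k2⁻¹ : R) * v, 1]
  have huu : ∀ i, IsUnit (uu i) := by
    intro i
    fin_cases i
    · exact ((Units.isUnit k1⁻¹).map C).mul hu
    · exact ((Units.isUnit k2⁻¹).map C).mul hv
    · exact isUnit_one
  refine ⟨(Groth.Agent.PSChar2.diagEquiv uu huu).symm, (AlgEquiv.symm_apply_eq _).2 ?_⟩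
  have a1 : sig ^ 2 * (↑k1⁻¹ : R) ^ 3 = (e4 : R) ^ 2 := by
    rw [← h₁, mul_assoc, ← mul_pow, Units.mul_inv, one_pow, mul_one]
  have a2 : lam ^ 2 * (↑k2⁻¹ : R) ^ 3 = (m4 : R) ^ 2 := by
    rw [← h₂, mul_assoc, ← mul_pow, Units.mul_inv, one_pow, mul_one]
  have b1 : (C ((e4 : R) ^ 2) * C ((↑e4⁻¹ : R) ^ 2) : MvPowerSeries (Fin 3) R) = 1 := by
    rw [← map_mul, ← mul_pow, Units.mul_inv, one_pow, map_one]
  have b2 : (C ((m4 : R) ^ 2) * C ((↑m4⁻¹ : R) ^ 2) : MvPowerSeries (Fin 3) R) = 1 := by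
    rw [← map_mul, ← mul_pow, Units.mul_inv, one_pow, map_one]
  simp only [map_add, map_mul, map_pow, Groth.Agent.PSChar2.diagEquiv_X,
    Groth.Agent.PSChar2.diagEquiv_C, uu, Matrix.cons_val]
  have c1 := congrArg (fun r => (C r : MvPowerSeries (Fin 3) R)) a1
  have c2 := congrArg (fun r => (C r : MvPowerSeries (Fin 3) R)) a2
  simp only [map_mul, map_pow] at c1 c2 b1 b2 hu3 hv3
  linear_combination (X 0 ^ 3 * u ^ 3) * (-c1) + (X 1 ^ 3 * v ^ 3) * (-c2) +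
    (X 0 ^ 3 * C (e4 : R) ^ 2) * (-hu3) + (X 1 ^ 3 * C (m4 : R) ^ 2) * (-hv3) +
    (X 0 ^ 3 * (C s2 ^ 2 * X 1 ^ 2 + C s0 ^ 2 * X 1 ^ 4)) * (-b1) +
    (X 1 ^ 3 * (C l2 ^ 2 * X 0 ^ 2 + C l0 ^ 2 * X 0 ^ 4 + C τ ^ 2 * X 0 ^ 3)) * (-b2)

end Groth.Agent.S13127
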