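import Groth.Statements.S13128
import Mathlib
import Groth.Agent.Lib.PowerSeriesChar2

set_option autoImplicit false
universe u
open KumFam

namespace Groth.Agent.S13128

open MvPowerSeries in
/-- Let R be a commutative ring of characteristic 2, l0, l2, l4, s0, s2, s4, τ ∈ R with τ a unit, and α,
β ∈ R with l4² α⁴ + l2² α² + τ² α + l0² = 0 and s4² β⁴ + s2² β² + τ² β + s0² = 0. In characteristic
2 these relations give τ² α = (l4 α² + l2 α + l0)² and τ² β = (s4 β² + s2 β + s0)², so α = α′² and β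
= β′² with α′ = (l4 α² + l2 α + l0)/τ and β′ = (s4 β² + s2 β + s0)/τ. In R[[a, b, c]] (a = X 0, b =
X 1, c = X 2) put h = c² + τ² a b + (s4² b⁴ + s2² b²) a + (l4² a⁴ + l2² a²) b + l4² β a⁴ + l2² β a²
+ s4² α b⁴ + s2² α b²; this is the chart equation c² + τ² a b + (s4² b⁴ + s2² b² + s0²) a + (l4² a⁴
+ l2² a² + l0²) b after the substitution a ↦ a + α, b ↦ b + β, c ↦ c + τ α′ β′, which moves the
point (α, β, τ α′ β′) of that surface, where all partial derivatives vanish, to the origin. Then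
some R-algebra automorphism of R[[a, b, c]] maps h to c² + a b; consequently R[[a, b, c]]/(h) ≅
R[[a, b, c]]/(c² + a b), the completed local ring of an ordinary double point, constant over R. (The
published statement translates only a and b, so that its h carries the additional constant term τ² α
β; with that term h is a unit of R[[a, b, c]] whenever τ α β is a unit, for instance c² + a b + 1
over the field with two elements with l0 = s0 = τ = α = β = 1 and l2 = l4 = s2 = s4 = 0, and no ring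
automorphism carries a unit to c² + a b. The published proof begins by shifting c by a polynomial in
a, b whose constant term is τ α′ β′, a substitution of the polynomial ring which removes the term τ²
α β, and the rest of its argument takes place in R[[a, b, c]]; this row states the result for the
fully translated equation, which is what that argument proves.) -/
theorem result (R : Type u) [CommRing R] [CharP R 2]
    (l0 l2 l4 s0 s2 s4 τ α β : R) (hτ : IsUnit τ)
    (hα : l4 ^ 2 * α ^ 4 + l2 ^ 2 * α ^ 2 + τ ^ 2 * α + l0 ^ 2 = 0)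
    (hβ : s4 ^ 2 * β ^ 4 + s2 ^ 2 * β ^ 2 + τ ^ 2 * β + s0 ^ 2 = 0) :
    ∃ φ : MvPowerSeries (Fin 3) R ≃ₐ[R] MvPowerSeries (Fin 3) R,
      φ ((X 2 ^ 2 + C (τ ^ 2) * X 0 * X 1 + (C (s4 ^ 2) * X 1 ^ 4 + C (s2 ^ 2) * X 1 ^ 2) * X 0 +
          (C (l4 ^ 2) * X 0 ^ 4 + C (l2 ^ 2) * X 0 ^ 2) * X 1 + C (l4 ^ 2 * β) * X 0 ^ 4 +
          C (l2 ^ 2 * β) * X 0 ^ 2 + C (s4 ^ 2 * α) * X 1 ^ 4 + C (s2 ^ 2 * α) * X 1 ^ 2 :
          MvPowerSeries (Fin 3) R)) =
        (X 2 ^ 2 + X 0 * X 1 : MvPowerSeries (Fin 3) R) := by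
  haveI : CharP (MvPowerSeries (Fin 3) R) 2 :=
    charP_of_injective_ringHom (f := (C : R →+* MvPowerSeries (Fin 3) R)) MvPowerSeries.C_injective 2
  obtain ⟨t, rfl⟩ := hτ
  have htwo : ∀ x y : R, x + y = 0 → x = y := fun x y h => by
    rwa [← CharTwo.sub_eq_add, sub_eq_zero] at h
  set a' : R := (↑t⁻¹ : R) * (l4 * α ^ 2 + l2 * α + l0) with ha'
  set b' : R := (↑t⁻¹ : R) * (s4 * β ^ 2 + s2 * β + s0) with hb'
  have hcancel : ∀ x : R, (↑t⁻¹ : R) ^ 2 * ((t : R) ^ 2 * x) = x := fun x => by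
    rw [← mul_assoc, ← mul_pow, Units.inv_mul, one_pow, one_mul]
  have ha2 : a' ^ 2 = α := by
    rw [ha', mul_pow, CharTwo.add_sq, CharTwo.add_sq, mul_pow, mul_pow,
      htwo ((l4 ^ 2 * (α ^ 2) ^ 2 + l2 ^ 2 * α ^ 2) + l0 ^ 2) ((t : R) ^ 2 * α) (by rw [← hα]; ring),
      hcancel]
  have hb2 : b' ^ 2 = β := by
    rw [hb', mul_pow, CharTwo.add_sq, CharTwo.add_sq, mul_pow, mul_pow,
      htwo ((s4 ^ 2 * (β ^ 2) ^ 2 + s2 ^ 2 * β ^ 2) + s0 ^ 2) ((t : R) ^ 2 * β) (by rw [← hβ]; ring),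
      hcancel]
  let U : MvPowerSeries (Fin 3) R :=
    C ((t : R) ^ 2) + C (s2 ^ 2) * X 1 + C (l2 ^ 2) * X 0 + C (s4 ^ 2) * X 1 ^ 3 + C (l4 ^ 2) * X 0 ^ 3
  let uu : Fin 3 → MvPowerSeries (Fin 3) R := ![U, 1, 1]
  have huu : ∀ i, IsUnit (uu i) := by
    intro i
    fin_cases i
    · change IsUnit U
      rw [MvPowerSeries.isUnit_iff_constantCoeff]
      simp [U, t.isUnit.pow 2]
    · exact isUnit_one
    · exact isUnit_one
  let w : MvPolynomial (Fin 3) R := MvPolynomial.C (l4 * b') * MvPolynomial.X 0 ^ 2 +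
    MvPolynomial.C (l2 * b') * MvPolynomial.X 0 + MvPolynomial.C (s4 * a') * MvPolynomial.X 1 ^ 2 +
    MvPolynomial.C (s2 * a') * MvPolynomial.X 1
  have hw0 : MvPolynomial.constantCoeff w = 0 := by simp [w]
  have hw : (2 : Fin 3) ∉ w.vars := by
    have : w ∈ MvPolynomial.supported R ({0, 1} : Set (Fin 3)) := by
      have h0 : (MvPolynomial.X 0 : MvPolynomial (Fin 3) R) ∈
          MvPolynomial.supported R ({0, 1} : Set (Fin 3)) :=
        Algebra.subset_adjoin ⟨0, by simp, rfl⟩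
      have h1 : (MvPolynomial.X 1 : MvPolynomial (Fin 3) R) ∈
          MvPolynomial.supported R ({0, 1} : Set (Fin 3)) :=
        Algebra.subset_adjoin ⟨1, by simp, rfl⟩
      refine add_mem (add_mem (add_mem ?_ ?_) ?_) ?_ <;>
        exact mul_mem (Subalgebra.algebraMap_mem _ _) (by first | exact pow_mem h0 _ | exact h0 | exact pow_mem h1 _ | exact h1)
    intro h
    have := MvPolynomial.mem_supported.1 this h
    simp at this
  refine ⟨((Groth.Agent.PSChar2.diagEquiv uu huu).trans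
    (Groth.Agent.PSChar2.translEquiv hw0 hw)).symm, (AlgEquiv.symm_apply_eq _).2 ?_⟩
  have hT2 : Groth.Agent.PSChar2.translEquiv hw0 hw (X 2) = X 2 + (C (l4 * b') * X 0 ^ 2 +
      C (l2 * b') * X 0 + C (s4 * a') * X 1 ^ 2 + C (s2 * a') * X 1) := by
    rw [Groth.Agent.PSChar2.translEquiv_X, Groth.Agent.PSChar2.transl, if_pos rfl]
    congr 1
    simp only [w, MvPolynomial.coe_add, MvPolynomial.coe_mul, MvPolynomial.coe_pow,
      MvPolynomial.coe_C, MvPolynomial.coe_X]
  have hT0 : Groth.Agent.PSChar2.translEquiv hw0 hw (X 0) = X 0 := by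
    rw [Groth.Agent.PSChar2.translEquiv_X, Groth.Agent.PSChar2.transl, if_neg (by decide)]
  have hT1 : Groth.Agent.PSChar2.translEquiv hw0 hw (X 1) = X 1 := by
    rw [Groth.Agent.PSChar2.translEquiv_X, Groth.Agent.PSChar2.transl, if_neg (by decide)]
  have hTC : ∀ r, Groth.Agent.PSChar2.translEquiv hw0 hw (C r) = C r :=
    Groth.Agent.PSChar2.translEquiv_C hw0 hw
  have h2 : (2 : MvPowerSeries (Fin 3) R) = 0 := CharP.cast_eq_zero _ 2
  rw [AlgEquiv.trans_apply]
  generalize Groth.Agent.PSChar2.translEquiv hw0 hw = T at hT2 hT0 hT1 hTC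
  simp only [map_add, map_mul, Groth.Agent.PSChar2.diagEquiv_X, map_pow, uu, U, Matrix.cons_val,
    map_one, mul_one] at hTC hT2 ⊢
  simp only [hT0, hT1, hT2, hTC, ← ha2, ← hb2, map_pow]
  linear_combination -(X 2 * (C l4 * C b' * X 0 ^ 2 + C l2 * C b' * X 0 + C s4 * C a' * X 1 ^ 2 +
      C s2 * C a' * X 1) + C b' ^ 2 * C l4 * C l2 * X 0 ^ 3 + C a' ^ 2 * C s4 * C s2 * X 1 ^ 3 +
    C a' * C b' * (C l4 * X 0 ^ 2 + C l2 * X 0) * (C s4 * X 1 ^ 2 + C s2 * X 1)) * h2

end Groth.Agent.S13128
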