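import Groth.Statements.S13130
import Mathlib

set_option autoImplicit false
universe u v
open KumFam

namespace Groth.Agent.S13130

/-- Let R be a nontrivial commutative ring and M a commutative group, with group algebra R[M], the
coordinate ring of the diagonalizable group scheme D(M) over Spec R. Then D(M) is integral over Spec
R, i.e. R[M] is an integral R-algebra, if and only if M is a torsion group. (The published statement
is over an arbitrary base scheme; the question is local and this row is the affine form, with R
nontrivial so that the elements of M are R-linearly independent.) -/
theorem result (R : Type u) [CommRing R] [Nontrivial R]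
    (M : Type v) [CommGroup M] :
    Algebra.IsIntegral R (MonoidAlgebra R M) ↔ IsMulTorsion M := by
  constructor
  · intro h g
    obtain ⟨P, hP, hP0⟩ := h.isIntegral (MonoidAlgebra.of R M g)
    by_contra hg
    have hinj : Function.Injective fun n : ℕ => g ^ n := injective_pow_iff_not_isOfFinOrder.2 hg
    apply hP.ne_zero
    ext n
    have := congrArg (fun x : MonoidAlgebra R M => x.coeff (g ^ n)) (show Polynomial.aeval (MonoidAlgebra.of R M g) P = 0 from hP0)
    rw [Polynomial.aeval_eq_sum_range' (n := P.natDegree + n + 1) (by omega)] at this
    simp [MonoidAlgebra.single_pow] at this
    rw [Finset.sum_eq_single n (fun c _ hc => Finsupp.single_eq_of_ne (fun e => hc (hinj e).symm)) (fun h => absurd (Finset.mem_range.2 (by omega)) h), Finsupp.single_eq_same] at this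
    simpa using this
  · intro h
    refine ⟨fun x => ?_⟩
    induction x using MonoidAlgebra.induction_on with
    | of g =>
      obtain ⟨n, hn, e⟩ := isOfFinOrder_iff_pow_eq_one.1 (h g)
      exact IsIntegral.of_pow hn (by rw [← map_pow, e, map_one]; exact isIntegral_one)
    | add a b ha hb => exact ha.add hb
    | smul r a ha => exact ha.smul r

end Groth.Agent.S13130
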