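import Groth.Statements.S13131
import Mathlib

set_option autoImplicit false
universe u
open CategoryTheory CategoryTheory.Limits AlgebraicGeometry
open KumFam

namespace Groth.Agent.S13131

/-- Let S be a scheme, M a set and p : T → S a scheme over S. The S-morphisms T → ∐_{m ∈ M} S (the
constant S-scheme on M, with its structure map the codiagonal) are in bijection with the locally
constant maps T → M, a morphism f corresponding to the function sending t to the index of the copy
of S containing f(t). (In the published statement M is a group and ∐_M S the constant group scheme;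
the group structures play no role in this description of T-points.) -/
theorem result (S : Scheme.{u}) (M : Type u)
    (T : Scheme.{u}) (p : T ⟶ S) :
    ∃ e : {f : T ⟶ ∐ (fun _ : M => S) // f ≫ Sigma.desc (fun _ : M => 𝟙 S) = p} ≃
        LocallyConstant T M,
      ∀ (f : {f : T ⟶ ∐ (fun _ : M => S) // f ≫ Sigma.desc (fun _ : M => 𝟙 S) = p}) (t : T),
        e f t = ((sigmaMk (fun _ : M => S)).symm (f.1.base t)).1 := by
  classical
  let σ := sigmaMk (fun _ : M => S)
  let idx : (f : {f : T ⟶ ∐ (fun _ : M => S) // f ≫ Sigma.desc (fun _ : M => 𝟙 S) = p}) → LocallyConstant T M :=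
    fun f => ⟨fun t => (σ.symm (f.1.base t)).1, by
      rw [IsLocallyConstant.iff_isOpen_fiber]
      intro m
      have h : IsOpen {y : Σ _ : M, S | y.1 = m} := by
        rw [isOpen_sigma_iff]
        intro i
        by_cases hi : i = m
        · convert isOpen_univ; ext; simp [hi]
        · convert isOpen_empty; ext; simp [hi]
      exact (h.preimage σ.symm.continuous).preimage f.1.continuous⟩
  have hinj : Function.Injective idx := by
    rintro ⟨f₁, h₁⟩ ⟨f₂, h₂⟩ he
    apply Subtype.ext
    let U : M → T.Opens := fun m => ⟨idx ⟨f₁, h₁⟩ ⁻¹' {m}, (idx ⟨f₁, h₁⟩).isLocallyConstant _⟩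
    have hU : TopologicalSpace.IsOpenCover U := TopologicalSpace.IsOpenCover.mk (by
      rw [eq_top_iff]
      intro t _
      exact TopologicalSpace.Opens.mem_iSup.2 ⟨idx ⟨f₁, h₁⟩ t, rfl⟩)
    refine (T.openCoverOfIsOpenCover U hU).hom_ext _ _ fun m => ?_
    change (U m).ι ≫ f₁ = (U m).ι ≫ f₂
    have key : ∀ f : {f : T ⟶ ∐ (fun _ : M => S) // f ≫ Sigma.desc (fun _ : M => 𝟙 S) = p},
        idx f = idx ⟨f₁, h₁⟩ → (U m).ι ≫ f.1 = (U m).ι ≫ p ≫ Sigma.ι (fun _ : M => S) m := by
      intro f hf
      have hr : Set.range ((U m).ι ≫ f.1) ⊆ Set.range (Sigma.ι (fun _ : M => S) m) := by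
        rintro _ ⟨t, rfl⟩
        have ht : (σ.symm (f.1.base t.1)).1 = m := by
          have := DFunLike.congr_fun hf t.1
          exact this.trans t.2
        obtain ⟨⟨i, y⟩, hy⟩ : ∃ a, a = σ.symm (f.1.base t.1) := ⟨_, rfl⟩
        rw [← hy] at ht
        simp only at ht
        refine ⟨y, ?_⟩
        have h3 : σ ⟨i, y⟩ = f.1.base t.1 := by rw [hy, σ.apply_symm_apply]
        change _ = f.1.base t.1
        rw [← h3, sigmaMk_mk, ht]
      let g := IsOpenImmersion.lift (Sigma.ι (fun _ : M => S) m) ((U m).ι ≫ f.1) hr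
      have hg : g ≫ Sigma.ι (fun _ : M => S) m = (U m).ι ≫ f.1 := IsOpenImmersion.lift_fac _ _ hr
      have hg' : g = (U m).ι ≫ p := by
        have := congrArg (· ≫ Sigma.desc (fun _ : M => 𝟙 S)) hg
        simpa [f.2] using this
      rw [← hg, hg', Category.assoc]
    rw [key ⟨f₁, h₁⟩ rfl, key ⟨f₂, h₂⟩ he.symm]
  have hsurj : Function.Surjective idx := by
    intro g
    let U : M → T.Opens := fun m => ⟨g ⁻¹' {m}, g.isLocallyConstant _⟩
    have hU : TopologicalSpace.IsOpenCover U := TopologicalSpace.IsOpenCover.mk (by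
      rw [eq_top_iff]
      intro t _
      exact TopologicalSpace.Opens.mem_iSup.2 ⟨g t, rfl⟩)
    let C := T.openCoverOfIsOpenCover U hU
    let F := C.glueMorphisms (fun m => (U m).ι ≫ p ≫ Sigma.ι (fun _ : M => S) m) (by
      intro a b
      change pullback.fst (U a).ι (U b).ι ≫ (U a).ι ≫ p ≫ Sigma.ι (fun _ : M => S) a =
        pullback.snd (U a).ι (U b).ι ≫ (U b).ι ≫ p ≫ Sigma.ι (fun _ : M => S) b
      by_cases hab : a = b
      · subst hab
        rw [pullback.condition_assoc]
      · have : IsEmpty ↥(pullback (U a).ι (U b).ι) := ⟨fun z => hab (by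
          have e : (pullback.fst (U a).ι (U b).ι z).1 = (pullback.snd (U a).ι (U b).ι z).1 := by
            change (pullback.fst (U a).ι (U b).ι ≫ (U a).ι) z = (pullback.snd (U a).ι (U b).ι ≫ (U b).ι) z
            rw [pullback.condition]
          have h1 : g (pullback.fst (U a).ι (U b).ι z).1 = a := (pullback.fst (U a).ι (U b).ι z).2
          have h2 : g (pullback.snd (U a).ι (U b).ι z).1 = b := (pullback.snd (U a).ι (U b).ι z).2
          rw [e] at h1
          exact h1.symm.trans h2)⟩
        exact (isInitialOfIsEmpty (X := pullback (U a).ι (U b).ι)).hom_ext _ _)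
    have hF : ∀ m, (U m).ι ≫ F = (U m).ι ≫ p ≫ Sigma.ι (fun _ : M => S) m := C.ι_glueMorphisms _ _
    refine ⟨⟨F, C.hom_ext _ _ fun m => ?_⟩, ?_⟩
    · change (U m).ι ≫ F ≫ _ = (U m).ι ≫ p
      rw [reassoc_of% (hF m)]
      simp
    · ext t
      change (σ.symm (F t)).1 = g t
      have : F t = σ ⟨g t, p t⟩ := by
        rw [sigmaMk_mk]
        change ((U (g t)).ι ≫ F) ⟨t, rfl⟩ = _
        rw [hF]
        rfl
      rw [this, σ.symm_apply_apply]
  exact ⟨Equiv.ofBijective idx ⟨hinj, hsurj⟩, fun f t => rfl⟩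

end Groth.Agent.S13131
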