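import Groth.Statements.S13136
import Groth.Agent.Lib.LW2A

set_option autoImplicit false
universe u v
open FrobAlg

namespace Groth.Agent.S13136

/-- For a perfect field k of characteristic p, a module M over the Witt vectors W₂(k) of length two is
flat if and only if every element of M annihilated by p lies in pM, i.e. the map M/pM → pM, m ↦ pm,
is injective. -/
theorem result
    (p : ℕ) [Fact p.Prime] (k : Type u) [Field k] [CharP k p] [PerfectRing k p]
    (M : Type v) [AddCommGroup M] [Module (FrobAlg.W2 p k) M] :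
    Module.Flat (FrobAlg.W2 p k) M ↔
      ∀ m : M, (p : FrobAlg.W2 p k) • m = 0 → ∃ m' : M, m = (p : FrobAlg.W2 p k) • m' := by
  refine ⟨fun hF m hm => ?_, LW2.flat_of_ann p k M⟩
  obtain ⟨n, a, y, hxy, ha⟩ := Module.Flat.isTrivialRelation_of_sum_smul_eq_zero (R := FrobAlg.W2 p k) (M := M)
    (f := fun _ : Unit => (p : FrobAlg.W2 p k)) (x := fun _ => m) (by simpa using hm)
  have h1 : ∀ j, ∃ z, a () j = (p : FrobAlg.W2 p k) * z := fun j =>
    (LW2.res_eq_zero_iff p).1 (LW2.res_eq_zero_of_p_mul p (by simpa using ha j))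
  choose z hz using h1
  refine ⟨∑ j, z j • y j, ?_⟩
  have h2 : m = ∑ j, a () j • y j := hxy ()
  rw [h2, Finset.smul_sum]
  exact Finset.sum_congr rfl fun j _ => by rw [hz j, mul_smul]

end Groth.Agent.S13136
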