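import Groth.Statements.S13137
import Groth.Agent.Lib.LW2A

set_option autoImplicit false
universe u v
open FrobAlg

namespace Groth.Agent.S13137

/-- For a perfect field k of characteristic p, a flat W₂(k)-algebra B and an ideal J of B, the quotient
B/J is flat over W₂(k) if and only if (p) ∩ J = pJ in B. (With B a flat lifting of A = B/pB this
says: B/J is a flat lifting of A modulo the image of J exactly when (p) ∩ J = pJ.) -/
theorem result
    (p : ℕ) [Fact p.Prime] (k : Type u) [Field k] [CharP k p] [PerfectRing k p]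
    (B : Type v) [CommRing B] [Algebra (FrobAlg.W2 p k) B] [Module.Flat (FrobAlg.W2 p k) B]
    (J : Ideal B) :
    Module.Flat (FrobAlg.W2 p k) (B ⧸ J) ↔
      Ideal.span {(p : B)} ⊓ J = Ideal.span {(p : B)} * J := by
  have hann : ∀ b : B, (p : FrobAlg.W2 p k) • b = 0 → ∃ b' : B, b = (p : FrobAlg.W2 p k) • b' := fun m hm => by
    obtain ⟨n, a, y, hxy, ha⟩ := Module.Flat.isTrivialRelation_of_sum_smul_eq_zero (R := FrobAlg.W2 p k) (M := B)
      (f := fun _ : Unit => (p : FrobAlg.W2 p k)) (x := fun _ => m) (by simpa using hm)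
    have h1 : ∀ j, ∃ z, a () j = (p : FrobAlg.W2 p k) * z := fun j =>
      (LW2.res_eq_zero_iff p).1 (LW2.res_eq_zero_of_p_mul p (by simpa using ha j))
    choose z hz using h1
    refine ⟨∑ j, z j • y j, ?_⟩
    have h2 : m = ∑ j, a () j • y j := hxy ()
    rw [h2, Finset.smul_sum]
    exact Finset.sum_congr rfl fun j _ => by rw [hz j, mul_smul]
  have hsm : ∀ b : B, (p : FrobAlg.W2 p k) • b = (p : B) * b := fun b => by rw [Algebra.smul_def, map_natCast]
  have hsq : ∀ b : B ⧸ J, (p : FrobAlg.W2 p k) • b = Ideal.Quotient.mk J (p : B) * b := fun b => by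
    rw [Algebra.smul_def, map_natCast, map_natCast]
  constructor
  · intro hF
    refine le_antisymm ?_ (le_inf Ideal.mul_le_left Ideal.mul_le_right)
    rintro x ⟨hx, hxJ⟩
    obtain ⟨b, rfl⟩ := Ideal.mem_span_singleton'.1 hx
    have h0 : (p : FrobAlg.W2 p k) • (Ideal.Quotient.mk J b) = 0 := by
      rw [hsq, ← map_mul, mul_comm, Ideal.Quotient.eq_zero_iff_mem]; exact hxJ
    obtain ⟨n, a, y, hxy, ha⟩ := Module.Flat.isTrivialRelation_of_sum_smul_eq_zero (R := FrobAlg.W2 p k) (M := B ⧸ J)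
      (f := fun _ : Unit => (p : FrobAlg.W2 p k)) (x := fun _ => Ideal.Quotient.mk J b) (by simpa using h0)
    have h1 : ∀ j, ∃ z, a () j = (p : FrobAlg.W2 p k) * z := fun j =>
      (LW2.res_eq_zero_iff p).1 (LW2.res_eq_zero_of_p_mul p (by simpa using ha j))
    choose z hz using h1
    obtain ⟨c, hc⟩ : ∃ c : B, Ideal.Quotient.mk J b = (p : FrobAlg.W2 p k) • Ideal.Quotient.mk J c := by
      obtain ⟨c, hc⟩ := Ideal.Quotient.mk_surjective (∑ j, z j • y j)
      refine ⟨c, ?_⟩
      have h2 : Ideal.Quotient.mk J b = ∑ j, a () j • y j := hxy ()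
      rw [h2, hc, Finset.smul_sum]
      exact Finset.sum_congr rfl fun j _ => by rw [hz j, mul_smul]
    rw [hsq, ← map_mul, Ideal.Quotient.mk_eq_mk_iff_sub_mem] at hc
    have hp2 : (p : B) * (p : B) = 0 := by
      rw [← map_natCast (algebraMap (FrobAlg.W2 p k) B), ← map_mul, LW2.p_sq, map_zero]
    rw [show b * (p : B) = (p : B) * (b - (p : B) * c) by rw [mul_sub, ← mul_assoc, hp2, zero_mul, sub_zero, mul_comm]]
    exact Ideal.mul_mem_mul (Ideal.mem_span_singleton_self _) hc
  · intro h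
    refine LW2.flat_of_ann p k _ fun x hx => ?_
    obtain ⟨b, rfl⟩ := Ideal.Quotient.mk_surjective x
    rw [hsq, ← map_mul, Ideal.Quotient.eq_zero_iff_mem] at hx
    have : (p : B) * b ∈ Ideal.span {(p : B)} * J := h ▸ ⟨Ideal.mem_span_singleton'.2 ⟨b, mul_comm _ _⟩, hx⟩
    obtain ⟨j, hj, hjb⟩ := Ideal.mem_span_singleton_mul.1 this
    obtain ⟨c, hc⟩ := hann (b - j) (by rw [hsm, mul_sub, hjb, sub_self])
    refine ⟨Ideal.Quotient.mk J c, ?_⟩
    rw [hsq, ← map_mul, Ideal.Quotient.mk_eq_mk_iff_sub_mem]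
    rw [hsm] at hc
    rwa [← hc, sub_sub_cancel]

end Groth.Agent.S13137
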