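import Mathlib
import Groth.Statements.S13142
-- import your own Groth.Agent.* helpers here

set_option autoImplicit false
universe u v
open GrpAlg

namespace Groth.Agent.S13142

/-- Let G be a finite group and R a commutative ring with |G| invertible in R, acting on R[x_1, …, x_n]
by R-algebra automorphisms. The invariant subring R[x_1, …, x_n]^G is a flat R-module (so the
quotient of affine n-space over R by G is flat over R). -/
theorem result
    (R : Type u) [CommRing R] (G : Type v) [Group G] [Finite G] (hG : IsUnit ((Nat.card G : ℕ) : R))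
    (n : ℕ) (ρ : G →* (MvPolynomial (Fin n) R ≃ₐ[R] MvPolynomial (Fin n) R)) :
    Module.Flat R ↥(⨅ g : G, LinearMap.eqLocus (ρ g).toLinearMap (LinearMap.id : MvPolynomial (Fin n) R →ₗ[R] MvPolynomial (Fin n) R)) := by
  classical
  haveI := Fintype.ofFinite G
  let E : Submodule R (MvPolynomial (Fin n) R) :=
    ⨅ g : G, LinearMap.eqLocus (ρ g).toLinearMap (LinearMap.id : MvPolynomial (Fin n) R →ₗ[R] MvPolynomial (Fin n) R)
  let c : R := ↑hG.unit⁻¹
  let avg : MvPolynomial (Fin n) R →ₗ[R] MvPolynomial (Fin n) R := c • ∑ g : G, (ρ g).toLinearMap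
  have hmem : ∀ x, avg x ∈ E := by
    intro x
    rw [Submodule.mem_iInf]
    intro h
    show ρ h (avg x) = avg x
    simp only [avg, LinearMap.smul_apply, LinearMap.sum_apply, map_smul, map_sum, AlgEquiv.toLinearMap_apply]
    congr 1
    refine Fintype.sum_equiv (Equiv.mulLeft h) _ _ fun g => ?_
    simp [map_mul]
  let p := avg.codRestrict E hmem
  have hps : p ∘ₗ E.subtype = LinearMap.id := by
    apply LinearMap.ext
    intro x
    apply Subtype.ext
    show avg (x : MvPolynomial (Fin n) R) = x
    have hx : ∀ g, ρ g (x : MvPolynomial (Fin n) R) = x := fun g => (Submodule.mem_iInf _).1 x.2 g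
    simp only [avg, LinearMap.smul_apply, LinearMap.sum_apply, AlgEquiv.toLinearMap_apply, hx, Finset.sum_const, Finset.card_univ]
    rw [← Nat.cast_smul_eq_nsmul R, smul_smul, ← Nat.card_eq_fintype_card, hG.val_inv_mul, one_smul]
  haveI : Module.Projective R E := Module.Projective.of_split E.subtype p hps
  exact inferInstanceAs (Module.Flat R E)

end Groth.Agent.S13142
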