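import Groth.Statements.S13143
import Groth.Agent.Lib.LW2

set_option autoImplicit false
universe u
open FrobAlg

namespace Groth.Agent.S13143

/-- Let k be a perfect field of characteristic p and A → B a homomorphism of Noetherian k-algebras with
an A-linear retraction B → A. If B lifts flatly to W₂(k), so does A. (The published statement
phrases the descent for finite surjective morphisms of degree prime to p, via a trace splitting; the
argument uses exactly an A-linear splitting of A → B for an affine morphism, which is the hypothesis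
taken here.) -/
theorem result
    (p : ℕ) [Fact p.Prime] (k : Type u) [Field k] [CharP k p] [PerfectRing k p]
    (A B : Type u) [CommRing A] [CommRing B] [Algebra k A] [Algebra k B]
    [IsNoetherianRing A] [IsNoetherianRing B] [Algebra A B] [IsScalarTower k A B]
    (r : B →ₗ[A] A) (hr : ∀ a : A, r (algebraMap A B a) = a)
    (hB : FrobAlg.IsW2Liftable p k B) : FrobAlg.IsW2Liftable p k A := by
  obtain ⟨B', _, ιB, πB, hB⟩ := hB
  have hsmul : ∀ (a : A) (b : B), r (algebraMap A B a * b) = a * r b := fun a b => by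
    rw [← Algebra.smul_def, map_smul, smul_eq_mul]
  let E : Subring B' := (algebraMap A B).range.comap πB
  have hE : ∀ e : E, algebraMap A B (r (πB e)) = πB e := fun e => by
    obtain ⟨a, ha⟩ := (e.2 : πB (e : B') ∈ (algebraMap A B).range)
    rw [← ha, hr]
  let J : Ideal E :=
    { carrier := {e | ∃ x : B', (e : B') = (p : B') * x ∧ r (πB x) = 0}
      zero_mem' := ⟨0, by simp, by simp⟩
      add_mem' := by
        rintro a b ⟨x, hx, hrx⟩ ⟨y, hy, hry⟩
        exact ⟨x + y, by rw [Subring.coe_add, hx, hy, mul_add], by rw [map_add, map_add, hrx, hry, add_zero]⟩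
      smul_mem' := by
        rintro c a ⟨x, hx, hrx⟩
        exact ⟨c * x, by rw [smul_eq_mul, Subring.coe_mul, hx]; ring, by rw [map_mul, ← hE c, hsmul, hrx, mul_zero]⟩ }
  let π₀ : E →+* A :=
    { toFun := fun e => r (πB e)
      map_one' := by
        show r (πB ((1 : E) : B')) = 1
        rw [Subring.coe_one, map_one, ← map_one (algebraMap A B), hr]
      map_mul' := fun a b => by rw [Subring.coe_mul, map_mul, ← hE a, hsmul, hE a]
      map_zero' := by simp
      map_add' := fun a b => by simp }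
  have hJ : ∀ e ∈ J, π₀ e = 0 := by
    rintro e ⟨x, hx, -⟩
    show r (πB e) = 0
    rw [hx, (LW2.pi_eq_zero_iff p hB).2 ⟨x, rfl⟩, map_zero]
  have hι₀ : ∀ w, ιB w ∈ E := fun w =>
    ⟨algebraMap k A (FrobAlg.res p k w), ((RingHom.congr_fun hB.comm w).trans (IsScalarTower.algebraMap_apply k A B _)).symm⟩
  let ι : FrobAlg.W2 p k →+* E ⧸ J := (Ideal.Quotient.mk J).comp (ιB.codRestrict E hι₀)
  have hιp : ι (p : FrobAlg.W2 p k) = Ideal.Quotient.mk J (p : E) := by rw [map_natCast, map_natCast]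
  have hπi : ∀ w, Ideal.Quotient.lift J π₀ hJ (ι w) = algebraMap k A (FrobAlg.res p k w) := fun w => by
    show r (πB (ιB w)) = _
    rw [show πB (ιB w) = algebraMap A B (algebraMap k A (FrobAlg.res p k w)) from
      (RingHom.congr_fun hB.comm w).trans (IsScalarTower.algebraMap_apply k A B _), hr]
  refine ⟨E ⧸ J, inferInstance, ι, Ideal.Quotient.lift J π₀ hJ, ?_, ?_, ?_, RingHom.ext hπi⟩
  · letI := ι.toAlgebra
    refine LW2.flat_of_ann p k _ fun x hx => ?_
    rw [Algebra.smul_def] at hx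
    obtain ⟨e, rfl⟩ := Ideal.Quotient.mk_surjective x
    change ι _ * _ = 0 at hx
    rw [hιp, ← map_mul, Ideal.Quotient.eq_zero_iff_mem] at hx
    obtain ⟨y, hy, hry⟩ := hx
    have h1 : (p : B') * ((e : B') - y) = 0 := by
      rw [Subring.coe_mul, Subring.coe_natCast] at hy
      linear_combination hy
    have h0 : πB e = 0 := by
      have h2 := sub_eq_zero.1 ((map_sub πB _ _).symm.trans (LW2.pi_eq_zero_of_p_mul p hB h1))
      rw [← hE e, h2, hry, map_zero]
    obtain ⟨z, hz⟩ := (LW2.pi_eq_zero_iff p hB).1 h0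
    obtain ⟨z₀, hz₀⟩ := hB.surj (algebraMap A B (r (πB z)))
    refine ⟨Ideal.Quotient.mk J ⟨z₀, ⟨_, hz₀.symm⟩⟩, ?_⟩
    rw [Algebra.smul_def]
    show _ = ι _ * _
    rw [hιp, ← map_mul, Ideal.Quotient.mk_eq_mk_iff_sub_mem]
    refine ⟨z - z₀, ?_, ?_⟩
    · rw [AddSubgroupClass.coe_sub, Subring.coe_mul, Subring.coe_natCast, hz]; ring
    · rw [map_sub, map_sub, hz₀, hr, sub_self]
  · intro a
    obtain ⟨e, he⟩ := hB.surj (algebraMap A B a)
    exact ⟨Ideal.Quotient.mk J ⟨e, ⟨a, he.symm⟩⟩, by show r (πB e) = a; rw [he, hr]⟩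
  · refine le_antisymm (fun x hx => ?_) (Ideal.map_le_iff_le_comap.2 fun w hw => ?_)
    · obtain ⟨e, rfl⟩ := Ideal.Quotient.mk_surjective x
      have hx' : Ideal.Quotient.lift J π₀ hJ (Ideal.Quotient.mk J e) = 0 := RingHom.mem_ker.1 hx
      have h0 : πB e = 0 := by rw [← hE e, show r (πB e) = 0 from hx', map_zero]
      obtain ⟨z, hz⟩ := (LW2.pi_eq_zero_iff p hB).1 h0
      obtain ⟨z₀, hz₀⟩ := hB.surj (algebraMap A B (r (πB z)))
      have : Ideal.Quotient.mk J e = ι (p : FrobAlg.W2 p k) * Ideal.Quotient.mk J ⟨z₀, ⟨_, hz₀.symm⟩⟩ := by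
        rw [hιp, ← map_mul, Ideal.Quotient.mk_eq_mk_iff_sub_mem]
        refine ⟨z - z₀, ?_, ?_⟩
        · rw [AddSubgroupClass.coe_sub, Subring.coe_mul, Subring.coe_natCast, hz]; ring
        · rw [map_sub, map_sub, hz₀, hr, sub_self]
      rw [this]
      exact Ideal.mul_mem_right _ _ (Ideal.mem_map_of_mem _ (RingHom.mem_ker.2 (LW2.res_p p)))
    · rw [Ideal.mem_comap, RingHom.mem_ker, hπi, RingHom.mem_ker.1 hw, map_zero]

end Groth.Agent.S13143
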