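import Groth.Statements.S13144
import Groth.Agent.Lib.LW2

set_option autoImplicit false
universe u
open FrobAlg

namespace Groth.Agent.S13144

/-- Let k be a perfect field of characteristic p, A → B a homomorphism of Noetherian k-algebras with an
A-linear retraction B → A, and A' → B' a homomorphism over W₂(k) between flat liftings of A and B
which reduces to A → B. If the Frobenius of B lifts to B' (a σ₂-semilinear ring endomorphism
reducing to the p-th power map), then the Frobenius of A lifts to A'. (The published statement is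
for an affine morphism whose map on structure sheaves splits linearly; the affine case with an
A-linear splitting is taken here.) -/
theorem result
    (p : ℕ) [Fact p.Prime] (k : Type u) [Field k] [CharP k p] [PerfectRing k p]
    (A B : Type u) [CommRing A] [CommRing B] [Algebra k A] [Algebra k B]
    [IsNoetherianRing A] [IsNoetherianRing B] [Algebra A B] [IsScalarTower k A B]
    (r : B →ₗ[A] A) (hr : ∀ a : A, r (algebraMap A B a) = a)
    (A' B' : Type u) [CommRing A'] [CommRing B']
    (ιA : FrobAlg.W2 p k →+* A') (πA : A' →+* A) (hA : FrobAlg.IsLift p k A A' ιA πA)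
    (ιB : FrobAlg.W2 p k →+* B') (πB : B' →+* B) (hB : FrobAlg.IsLift p k B B' ιB πB)
    (φ' : A' →+* B') (hφι : φ'.comp ιA = ιB) (hφπ : πB.comp φ' = (algebraMap A B).comp πA)
    (ΦB : B' →+* B') (hΦB : FrobAlg.IsFrobLift p k B B' ιB πB ΦB) :
    ∃ ΦA : A' →+* A', FrobAlg.IsFrobLift p k A A' ιA πA ΦA := by
  have hπB : ∀ a : A', πB (φ' a) = algebraMap A B (πA a) := fun a => RingHom.congr_fun hφπ a
  have hsmul : ∀ (a : A) (b : B), r (algebraMap A B a * b) = a * r b := fun a b => by
    rw [← Algebra.smul_def, map_smul, smul_eq_mul]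
  let G : A' → A' → Prop := fun a c => πA c = πA a ^ p ∧
    ∃ x : B', ΦB (φ' a) = φ' c + (p : B') * x ∧ r (πB x) = 0
  have hex : ∀ a, ∃ c, G a c := by
    intro a
    obtain ⟨c, hc⟩ := hA.surj (πA a ^ p)
    obtain ⟨x, hx⟩ := (LW2.pi_eq_zero_iff p hB).1 (show πB (ΦB (φ' a) - φ' c) = 0 by
      rw [map_sub, hΦB.red, hπB, hπB, hc, map_pow, sub_self])
    obtain ⟨e, he⟩ := hA.surj (r (πB x))
    refine ⟨c + (p : A') * e, ?_, x - φ' e, ?_, ?_⟩
    · rw [map_add, (LW2.pi_eq_zero_iff p hA).2 ⟨e, rfl⟩, add_zero, hc]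
    · rw [map_add, map_mul, map_natCast]
      linear_combination hx
    · rw [map_sub, map_sub, hπB, hr, he, sub_self]
  have huniq : ∀ a c c', G a c → G a c' → c = c' := by
    rintro a c c' ⟨hc, x, hx, hrx⟩ ⟨hc', x', hx', hrx'⟩
    obtain ⟨e, he⟩ := (LW2.pi_eq_zero_iff p hA).1 (show πA (c - c') = 0 by rw [map_sub, hc, hc', sub_self])
    have h1 : (p : B') * (φ' e + x - x') = 0 := by
      have := congrArg φ' he
      rw [map_sub, map_mul, map_natCast] at this
      linear_combination hx' - hx - this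
    have h2 := congrArg r (LW2.pi_eq_zero_of_p_mul p hB h1)
    rw [map_sub, map_add, map_sub, map_add, hπB, hr, hrx, hrx', map_zero, add_zero, sub_zero] at h2
    rw [← sub_eq_zero, he, LW2.p_mul_eq p hA (show πA e = πA 0 by rw [h2, map_zero]), mul_zero]
  choose Φ hΦ using hex
  have hιs : ∀ w, G (ιA w) (ιA (FrobAlg.sigma p k w)) := by
    intro w
    have hs : ΦB (φ' (ιA w)) = φ' (ιA (FrobAlg.sigma p k w)) := by
      have h1 := RingHom.congr_fun hΦB.semi w
      rw [← hφι] at h1
      exact h1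
    refine ⟨?_, 0, by rw [hs, mul_zero, add_zero], by rw [map_zero, map_zero]⟩
    have hinj : Function.Injective (algebraMap A B) := fun a b hab => by rw [← hr a, hab, hr]
    apply hinj
    rw [← hπB, ← hs, hΦB.red, hπB, map_pow]
  refine ⟨{ toFun := Φ, map_one' := ?_, map_mul' := fun a b => ?_, map_zero' := ?_, map_add' := fun a b => ?_ }, hA, ?_, fun b => (hΦ b).1⟩
  · refine huniq 1 _ _ (hΦ 1) ⟨by simp, 0, by simp, by simp⟩
  · obtain ⟨ha, x, hx, hrx⟩ := hΦ a
    obtain ⟨hb, y, hy, hry⟩ := hΦ b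
    refine huniq _ _ _ (hΦ _) ⟨by rw [map_mul, map_mul, ha, hb, mul_pow], φ' (Φ a) * y + φ' (Φ b) * x + (p : B') * (x * y), ?_, ?_⟩
    · rw [map_mul, map_mul, map_mul, hx, hy]; ring
    · have hp0 : πB ((p : B') * (x * y)) = 0 := (LW2.pi_eq_zero_iff p hB).2 ⟨_, rfl⟩
      rw [map_add, hp0, add_zero, map_add, map_mul, map_mul, hπB, hπB, map_add, hsmul, hsmul, hrx, hry]
      simp
  · refine huniq 0 _ _ (hΦ 0) ⟨by simp [zero_pow (Fact.out : p.Prime).ne_zero], 0, by simp, by simp⟩
  · obtain ⟨ha, x, hx, hrx⟩ := hΦ a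
    obtain ⟨hb, y, hy, hry⟩ := hΦ b
    have : CharP k p := inferInstance
    have hpA : ((p : ℕ) : A) = 0 := by rw [← map_natCast (algebraMap k A), CharP.cast_eq_zero, map_zero]
    refine huniq _ _ _ (hΦ _) ⟨?_, x + y, ?_, by simp [hrx, hry]⟩
    · rw [map_add, map_add, ha, hb]
      rcases subsingleton_or_nontrivial A with hsub | hnt
      · exact Subsingleton.elim _ _
      · haveI : CharP A p := (CharP.charP_iff_prime_eq_zero Fact.out).2 hpA
        rw [add_pow_char]
    · rw [map_add, map_add, hx, hy, map_add]; ring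
  · ext w : 1
    exact huniq _ _ _ (hΦ _) (hιs w)

end Groth.Agent.S13144
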