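import Groth.Statements.S13147
import Groth.Agent.Lib.LW2A

set_option autoImplicit false
universe u
open FrobAlg

namespace Groth.Agent.S13147

/-- Let k be a perfect field of characteristic p and (A, φ) a k-algebra with a Frobenius splitting (φ
additive, φ(a^p b) = a φ(b), φ(1) = 1). The quotient of W₂(A) by the ideal generated by the Witt
vectors (0, a) with φ(a) = 0 — the ring of twisted Witt vectors of (A, φ) — is a flat lifting of A
over W₂(k): flat over W₂(k), with reduction map onto A induced by (a₀, a₁) ↦ a₀ whose kernel is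
generated by the maximal ideal of W₂(k). (The published statement also asserts that a morphism of
algebras with Frobenius splittings compatible with the splittings induces a ring map between these
quotients; that part is not stated here.) -/
theorem result
    (p : ℕ) [Fact p.Prime] (k : Type u) [Field k] [CharP k p] [PerfectRing k p]
    (A : Type u) [CommRing A] [Algebra k A] (φ : A →+ A)
    (hφ : ∀ a b : A, φ (a ^ p * b) = a * φ b) (hφ1 : φ 1 = 1) :
    FrobAlg.IsLift p k A (FrobAlg.W2 p A ⧸ FrobAlg.splitIdeal p A φ)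
      ((Ideal.Quotient.mk (FrobAlg.splitIdeal p A φ)).comp (WittGrp.truncMap p 2 (algebraMap k A)))
      (FrobAlg.splitRes p A φ) := by
  have hpA : ((p : ℕ) : A) = 0 := by rw [← map_natCast (algebraMap k A), CharP.cast_eq_zero, map_zero]
  set ι := (Ideal.Quotient.mk (FrobAlg.splitIdeal p A φ)).comp (WittGrp.truncMap p 2 (algebraMap k A)) with hι
  have hcomm : (FrobAlg.splitRes p A φ).comp ι = (algebraMap k A).comp (FrobAlg.res p k) := RingHom.ext fun w => by
    rw [RingHom.comp_apply, hι, RingHom.comp_apply, FrobAlg.splitRes, Ideal.Quotient.lift_mk, RingHom.comp_apply,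
      FrobAlg.res_apply, FrobAlg.res_apply, WittGrp.coeff_truncMap]
  have hsurj : Function.Surjective (FrobAlg.splitRes p A φ) := fun a => by
    obtain ⟨x, hx⟩ := LW2.res_surjective p a
    exact ⟨Ideal.Quotient.mk _ x, by rw [FrobAlg.splitRes, Ideal.Quotient.lift_mk, hx]⟩
  rcases subsingleton_or_nontrivial A with hA | hA
  · haveI : Subsingleton (FrobAlg.W2 p A) := ⟨fun x y => TruncatedWittVector.ext fun i => Subsingleton.elim _ _⟩
    haveI : Subsingleton (FrobAlg.W2 p A ⧸ FrobAlg.splitIdeal p A φ) := Ideal.Quotient.mk_surjective.subsingleton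
    refine ⟨?_, hsurj, ?_, hcomm⟩
    · letI := ι.toAlgebra
      exact LW2.flat_of_ann p k _ fun x _ => ⟨0, Subsingleton.elim _ _⟩
    · exact Ideal.ext fun x => by simp [Subsingleton.elim x 0]
  haveI : CharP A p := (CharP.charP_iff_prime_eq_zero Fact.out).2 hpA
  have hI : ∀ x, x ∈ FrobAlg.splitIdeal p A φ ↔ FrobAlg.res p A x = 0 ∧ φ (x.coeff 1) = 0 := by
    intro x
    refine ⟨fun h => ?_, fun h => Ideal.subset_span h⟩
    induction h using Submodule.span_induction with
    | mem y hy => exact hy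
    | zero => exact ⟨map_zero _, by rw [TruncatedWittVector.coeff_zero, map_zero]⟩
    | add y z _ _ hy hz => exact ⟨by rw [map_add, hy.1, hz.1, add_zero], by rw [LW2.coeff_add_of_res p hy.1 hz.1, map_add, hy.2, hz.2, add_zero]⟩
    | smul a y _ hy => exact ⟨by rw [smul_eq_mul, map_mul, hy.1, mul_zero], by rw [smul_eq_mul, LW2.coeff_mul_of_res p a hy.1, hφ, hy.2, mul_zero]⟩
  have hroot : ∀ a, φ (a ^ p) = a := fun a => by rw [← mul_one (a ^ p), hφ, hφ1, mul_one]
  have hιp : ι (p : FrobAlg.W2 p k) = Ideal.Quotient.mk (FrobAlg.splitIdeal p A φ) (p : FrobAlg.W2 p A) := by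
    rw [map_natCast, map_natCast]
  have hdiv : ∀ x : FrobAlg.W2 p A, FrobAlg.res p A x = 0 →
      ∃ y, Ideal.Quotient.mk (FrobAlg.splitIdeal p A φ) x = ι (p : FrobAlg.W2 p k) * Ideal.Quotient.mk (FrobAlg.splitIdeal p A φ) y := by
    intro x hx
    obtain ⟨y, hy⟩ := LW2.res_surjective p (φ (x.coeff 1))
    refine ⟨y, ?_⟩
    rw [hιp, ← map_mul, Ideal.Quotient.mk_eq_mk_iff_sub_mem, hI]
    have hr : FrobAlg.res p A (x - (p : FrobAlg.W2 p A) * y) = 0 := by rw [map_sub, hx, LW2.res_p_mul, sub_zero]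
    refine ⟨hr, ?_⟩
    have h1 := LW2.coeff_add_of_res p hr (LW2.res_p_mul p y)
    rw [sub_add_cancel, LW2.coeff_p_mul, hy] at h1
    have h2 := congrArg φ h1
    rw [map_add, hroot] at h2
    simpa using h2.symm
  refine ⟨?_, hsurj, ?_, hcomm⟩
  · letI := ι.toAlgebra
    refine LW2.flat_of_ann p k _ fun x hx => ?_
    obtain ⟨x, rfl⟩ := Ideal.Quotient.mk_surjective x
    rw [Algebra.smul_def] at hx
    change ι _ * _ = 0 at hx
    rw [hιp, ← map_mul, Ideal.Quotient.eq_zero_iff_mem, hI, LW2.coeff_p_mul, hroot] at hx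
    obtain ⟨y, hy⟩ := hdiv x hx.2
    exact ⟨Ideal.Quotient.mk _ y, hy.trans (Algebra.smul_def _ _).symm⟩
  · refine le_antisymm (fun x hx => ?_) (Ideal.map_le_iff_le_comap.2 fun w hw => ?_)
    · obtain ⟨x, rfl⟩ := Ideal.Quotient.mk_surjective x
      rw [RingHom.mem_ker, FrobAlg.splitRes, Ideal.Quotient.lift_mk] at hx
      obtain ⟨y, hy⟩ := hdiv x hx
      rw [hy]
      exact Ideal.mul_mem_right _ _ (Ideal.mem_map_of_mem _ (RingHom.mem_ker.2 (LW2.res_p p)))
    · rw [Ideal.mem_comap, RingHom.mem_ker, ← RingHom.comp_apply, hcomm, RingHom.comp_apply, RingHom.mem_ker.1 hw, map_zero]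

end Groth.Agent.S13147
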