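import Groth.Statements.S13149
import Mathlib

set_option autoImplicit false
universe u
open CAlg

namespace Groth.Agent.S13149
open Matrix

/-- Let A be a local ring and ρ a map from the points of the projective plane over F_p to the points of
the projective plane over A (vectors with a unit coordinate, up to units) taking collinear triples
to collinear triples (three points are collinear when a vector with a unit coordinate is orthogonal
to all three). If ρ sends the standard frame (1:0:0), (0:1:0), (0:0:1), (1:1:1) to four points in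
general position, then p = 0 in A. (The published statement asks only that ρ preserve collinearity;
a constant map does so over any ring, and the published argument begins by moving the images of the
standard frame to the standard frame, which needs them in general position — that condition is made
a hypothesis here.) -/
theorem result
    (p : ℕ) [Fact p.Prime] (A : Type u) [CommRing A] [IsLocalRing A]
    (ρ : (Fin 3 → ZMod p) → (Fin 3 → A))
    (hpt : ∀ v : Fin 3 → ZMod p, v ≠ 0 → ∃ i, IsUnit (ρ v i))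
    (hcol : ∀ u v w : Fin 3 → ZMod p, u ≠ 0 → v ≠ 0 → w ≠ 0 →
      Matrix.det (Matrix.of ![u, v, w]) = 0 →
      ∃ n : Fin 3 → A, (∃ i, IsUnit (n i)) ∧
        dotProduct (ρ u) n = 0 ∧ dotProduct (ρ v) n = 0 ∧ dotProduct (ρ w) n = 0)
    (hgen : IsUnit (Matrix.det (Matrix.of ![ρ (Pi.single 0 1), ρ (Pi.single 1 1), ρ (Pi.single 2 1)])) ∧
      IsUnit (Matrix.det (Matrix.of ![ρ (Pi.single 0 1), ρ (Pi.single 1 1), ρ (fun _ => 1)])) ∧
      IsUnit (Matrix.det (Matrix.of ![ρ (Pi.single 0 1), ρ (Pi.single 2 1), ρ (fun _ => 1)])) ∧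
      IsUnit (Matrix.det (Matrix.of ![ρ (Pi.single 1 1), ρ (Pi.single 2 1), ρ (fun _ => 1)]))) :
    (p : A) = 0 := by
  classical
  obtain ⟨g0, g3, g2, g1⟩ := hgen
  let M : Matrix (Fin 3) (Fin 3) A := (Matrix.of ![ρ (Pi.single 0 1), ρ (Pi.single 1 1), ρ (Pi.single 2 1)])ᵀ
  have hM : IsUnit M.det := by rw [Matrix.det_transpose]; exact g0
  let D := M.adjugate *ᵥ ρ (fun _ => 1)
  have hD : ∀ i, IsUnit (D i) := by
    intro i
    have : D i = (M.updateCol i (ρ (fun _ => 1))).det := by
      show (M.adjugate *ᵥ _) i = _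
      rw [← Matrix.cramer_eq_adjugate_mulVec, Matrix.cramer_apply]
    rw [this]
    fin_cases i
    · convert g1 using 1; simp [M, Matrix.det_fin_three, Matrix.updateCol_apply]; ring
    · convert g2.neg using 1; simp [M, Matrix.det_fin_three, Matrix.updateCol_apply]; ring
    · convert g3 using 1; simp [M, Matrix.det_fin_three, Matrix.updateCol_apply]; ring
  let N : Matrix (Fin 3) (Fin 3) A := Matrix.diagonal (fun i => (((hD i).unit⁻¹ : Aˣ) : A)) * M.adjugate
  have hN : IsUnit N.det := by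
    rw [Matrix.det_mul, Matrix.det_diagonal, Matrix.det_adjugate]
    exact (IsUnit.prod_iff.mpr fun i _ => Units.isUnit _).mul (hM.pow _)
  let r : (Fin 3 → ZMod p) → Fin 3 → A := fun v => N *ᵥ ρ v
  have hr : ∀ v, v ≠ 0 → ∃ i, IsUnit (r v i) := by
    intro v hv
    by_contra h
    push Not at h
    obtain ⟨i, hi⟩ := hpt v hv
    have : ρ v = N⁻¹ *ᵥ r v := by
      simp only [r, Matrix.mulVec_mulVec, Matrix.nonsing_inv_mul _ hN, Matrix.one_mulVec]
    rw [this] at hi
    apply (IsLocalRing.mem_maximalIdeal _).mp ?_ hi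
    simp only [Matrix.mulVec, dotProduct]
    exact Ideal.sum_mem _ fun j _ => Ideal.mul_mem_left _ _ ((IsLocalRing.mem_maximalIdeal _).mpr (h j))
  have hdet : ∀ u v w, u ≠ 0 → v ≠ 0 → w ≠ 0 → Matrix.det (Matrix.of ![u, v, w]) = 0 → Matrix.det (Matrix.of ![r u, r v, r w]) = 0 := by
    intro u v w hu hv hw h
    obtain ⟨n, ⟨i, hi⟩, h1, h2, h3⟩ := hcol u v w hu hv hw h
    have e : Matrix.of ![r u, r v, r w] = Matrix.of ![ρ u, ρ v, ρ w] * Nᵀ := by
      ext a b; fin_cases a <;> simp [r, Matrix.mul_apply, Matrix.mulVec, dotProduct, mul_comm]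
    have hn : Matrix.of ![ρ u, ρ v, ρ w] *ᵥ n = 0 := by
      ext a; fin_cases a <;> simp [Matrix.mulVec, h1, h2, h3]
    have h4 := congrArg ((Matrix.of ![ρ u, ρ v, ρ w]).adjugate *ᵥ ·) hn
    simp only [Matrix.mulVec_mulVec, Matrix.adjugate_mul, Matrix.mulVec_zero] at h4
    have h5 := congrFun h4 i
    simp [Matrix.smul_mulVec] at h5
    rw [e, Matrix.det_mul, hi.mul_left_eq_zero.mp h5, zero_mul]
  -- known coordinates
  let Is : (Fin 3 → ZMod p) → (Fin 3 → A) → Prop := fun v c => ∃ t : Aˣ, r v = (t : A) • c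
  have hbasis : ∀ j : Fin 3, Is (Pi.single j 1) (Pi.single j 1) := by
    intro j
    refine ⟨(hD j).unit⁻¹ * hM.unit, ?_⟩
    have hcolj : ρ (Pi.single j 1) = M *ᵥ Pi.single j 1 := by
      rw [Matrix.mulVec_single_one]; ext i; fin_cases j <;> simp [M]
    simp only [r, N, hcolj, Matrix.mulVec_mulVec, Matrix.mul_assoc, Matrix.adjugate_mul]
    ext i
    rcases eq_or_ne i j with rfl | h
    · simp [mul_comm]
    · simp [h]
  have hU : Is (fun _ => 1) (fun _ => 1) := by
    refine ⟨1, ?_⟩
    ext i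
    simp only [r, N, ← Matrix.mulVec_mulVec, Matrix.mulVec_diagonal]
    simpa [D] using (hD i).val_inv_mul
  have hline : ∀ u v w cu cv, u ≠ 0 → v ≠ 0 → w ≠ 0 → Is u cu → Is v cv → Matrix.det (Matrix.of ![u, v, w]) = 0 → Matrix.det (Matrix.of ![cu, cv, r w]) = 0 := by
    rintro u v w cu cv hu hv hw ⟨s, hs⟩ ⟨t, ht⟩ h
    have h' := hdet u v w hu hv hw h
    rw [hs, ht] at h'
    refine ((s * t).isUnit.mul_right_eq_zero).mp (Eq.trans ?_ h')
    simp [Matrix.det_fin_three]; ring
  have hne : ∀ (v : Fin 3 → ZMod p) (i : Fin 3), v i ≠ 0 → v ≠ 0 := fun v i h e => h (by rw [e]; rfl)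
  have n0 : (Pi.single 0 1 : Fin 3 → ZMod p) ≠ 0 := hne _ 0 (by simp)
  have n1 : (Pi.single 1 1 : Fin 3 → ZMod p) ≠ 0 := hne _ 1 (by simp)
  have n2 : (Pi.single 2 1 : Fin 3 → ZMod p) ≠ 0 := hne _ 2 (by simp)
  have nU : (fun _ => 1 : Fin 3 → ZMod p) ≠ 0 := hne _ 0 one_ne_zero
  have hfin : ∀ (w : Fin 3 → ZMod p) (k : Fin 3) (c : Fin 3 → A), w ≠ 0 → (∀ i, r w i = r w k * c i) → Is w c := by
    intro w k c hw h
    obtain ⟨i, hi⟩ := hr w hw
    rw [h i] at hi
    exact ⟨(isUnit_of_mul_isUnit_left hi).unit, funext fun j => by rw [Pi.smul_apply, smul_eq_mul]; exact h j⟩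
  have nR : (![0,1,1] : Fin 3 → ZMod p) ≠ 0 := hne _ 1 one_ne_zero
  have nS : (![1,1,0] : Fin 3 → ZMod p) ≠ 0 := hne _ 1 one_ne_zero
  have hR : Is ![0,1,1] ![0,1,1] := by
    have a := hline _ _ _ _ _ n1 n2 nR (hbasis 1) (hbasis 2) (by simp [Matrix.det_fin_three])
    have b := hline _ _ _ _ _ n0 nU nR (hbasis 0) hU (by simp [Matrix.det_fin_three])
    simp [Matrix.det_fin_three] at a b
    refine hfin _ 1 _ nR fun i => ?_
    fin_cases i
    · simpa using a
    · simp [mul_comm]
    · simp; linear_combination b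
  have hS : Is ![1,1,0] ![1,1,0] := by
    have a := hline _ _ _ _ _ n0 n1 nS (hbasis 0) (hbasis 1) (by simp [Matrix.det_fin_three])
    have b := hline _ _ _ _ _ n2 nU nS (hbasis 2) hU (by simp [Matrix.det_fin_three])
    simp [Matrix.det_fin_three] at a b
    refine hfin _ 1 _ nS fun i => ?_
    fin_cases i
    · simp; linear_combination -b
    · simp [mul_comm]
    · simpa using a
  have hP : ∀ n : ℕ, Is ![(n : ZMod p), 0, 1] ![(n : A), 0, 1] := by
    intro n
    induction n with
    | zero =>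
      have e1 : (![((0:ℕ) : ZMod p), 0, 1] : Fin 3 → ZMod p) = Pi.single 2 1 := by ext i; fin_cases i <;> simp
      have e2 : (![((0:ℕ) : A), 0, 1] : Fin 3 → A) = Pi.single 2 1 := by ext i; fin_cases i <;> simp
      rw [e1, e2]; exact hbasis 2
    | succ n ih =>
      have nP : (![(n : ZMod p), 0, 1] : Fin 3 → ZMod p) ≠ 0 := hne _ 2 one_ne_zero
      have nT : (![((n+1 : ℕ) : ZMod p), 1, 1] : Fin 3 → ZMod p) ≠ 0 := hne _ 2 one_ne_zero
      have nQ : (![((n+1 : ℕ) : ZMod p), 0, 1] : Fin 3 → ZMod p) ≠ 0 := hne _ 2 one_ne_zero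
      have hT : Is ![((n+1 : ℕ) : ZMod p), 1, 1] ![((n+1 : ℕ) : A), 1, 1] := by
        have a := hline _ _ _ _ _ n0 nR nT (hbasis 0) hR (by simp [Matrix.det_fin_three])
        have b := hline _ _ _ _ _ nP nS nT ih hS (by simp [Matrix.det_fin_three])
        simp [Matrix.det_fin_three] at a b
        refine hfin _ 2 _ nT fun i => ?_
        fin_cases i
        · simp; linear_combination -b - a
        · simp; linear_combination -a
        · simp
      have a := hline _ _ _ _ _ n0 n2 nQ (hbasis 0) (hbasis 2) (by simp [Matrix.det_fin_three])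
      have b := hline _ _ _ _ _ n1 nT nQ (hbasis 1) hT (by simp [Matrix.det_fin_three])
      simp [Matrix.det_fin_three] at a b
      refine hfin _ 2 _ nQ fun i => ?_
      fin_cases i
      · simp; linear_combination b
      · simpa using a
      · simp
  obtain ⟨t, ht⟩ := hP p
  obtain ⟨s, hs⟩ := hbasis 2
  have e : (![((p:ℕ) : ZMod p), 0, 1] : Fin 3 → ZMod p) = Pi.single 2 1 := by ext i; fin_cases i <;> simp
  rw [e, hs] at ht
  have h0 := congrFun ht 0
  simp at h0
  exact (t.isUnit.mul_right_eq_zero).mp h0.symm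

end Groth.Agent.S13149
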