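import Groth.Statements.S13150
import Groth.Agent.Lib.LW2A

set_option autoImplicit false
universe u
open FrobAlg

namespace Groth.Agent.S13150

/-- Let k be a perfect field of characteristic p and (B, ι, π) a flat lifting over W₂(k) of a Noetherian
k-algebra A. The Frobenius of A lifts to B (a σ₂-semilinear ring endomorphism of B reducing to the
p-th power map) if and only if there is a ring homomorphism θ : B → W₂(A) over A (the zeroth Witt
component of θ(b) is π(b)) with θ ∘ ι equal to the map W₂(k) → W₂(A) induced by k → A. (The
published statement is for a flat W₂(k)-extension of the structure sheaf of a scheme and says: the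
push-out of that extension along the Frobenius O_X → F_*O_X is isomorphic, as an extension by F_*O_X
over W₂(k), to W₂(O_X); by the universal property of the push-out this is the existence of a
morphism of extensions to W₂(O_X), which in the affine case taken here is the map θ.) -/
theorem result
    (p : ℕ) [Fact p.Prime] (k : Type u) [Field k] [CharP k p] [PerfectRing k p]
    (A B : Type u) [CommRing A] [Algebra k A] [IsNoetherianRing A] [CommRing B]
    (ι : FrobAlg.W2 p k →+* B) (π : B →+* A) (hB : FrobAlg.IsLift p k A B ι π) :
    (∃ Φ : B →+* B, FrobAlg.IsFrobLift p k A B ι π Φ) ↔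
      ∃ θ : B →+* FrobAlg.W2 p A,
        (FrobAlg.res p A).comp θ = π ∧ θ.comp ι = WittGrp.truncMap p 2 (algebraMap k A) := by
  have hpA : ((p : ℕ) : A) = 0 := by rw [← map_natCast (algebraMap k A), CharP.cast_eq_zero, map_zero]
  obtain ⟨gh, hgh⟩ := LW2.exists_ghost p hB
  have hres : ∀ X : WittVector p B, FrobAlg.res p A (WittVector.truncate 2 (WittVector.map π X)) = π (X.coeff 0) := fun X => by
    rw [FrobAlg.res_truncate, WittVector.map_coeff]
  have hsemi : ∀ w, gh (WittGrp.truncMap p 2 (algebraMap k A) w) = ι (FrobAlg.sigma p k w) := by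
    intro w
    obtain ⟨W, rfl⟩ := WittVector.truncate_surjective p 2 k w
    let X : WittVector p B := WittVector.mk p fun i => ι (WittVector.truncate 2 (WittVector.teichmuller p (W.coeff i)))
    have hX : WittVector.truncate 2 (WittVector.map π X) = WittGrp.truncMap p 2 (algebraMap k A) (WittVector.truncate 2 W) := by
      refine TruncatedWittVector.ext fun i => ?_
      rw [WittVector.coeff_truncate, WittVector.map_coeff, WittGrp.coeff_truncMap, WittVector.coeff_truncate]
      show π (ι _) = _
      rw [show π (ι _) = algebraMap k A (FrobAlg.res p k _) from RingHom.congr_fun hB.comm _, FrobAlg.res_truncate,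
        WittVector.teichmuller_coeff_zero]
    rw [← hX, hgh]
    simp only [X, WittVector.coeff_mk]
    rw [← map_natCast ι, ← map_pow, ← map_mul, ← map_add, ← map_pow (WittVector.truncate 2), ← map_pow (WittVector.teichmuller p)]
    congr 1
    have hr : FrobAlg.res p k ((p : FrobAlg.W2 p k) * WittVector.truncate 2 (WittVector.teichmuller p (W.coeff 1))) = 0 :=
      LW2.res_p_mul p _
    refine LW2.ext_of_res p ?_ ?_
    · rw [map_add, hr, add_zero, FrobAlg.res_truncate, FrobAlg.res_apply]
      simp [FrobAlg.sigma]; rw [← map_pow, WittVector.teichmuller_coeff_zero]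
    · have h0 : FrobAlg.res p k (WittVector.truncate 2 (WittVector.teichmuller p (W.coeff 0 ^ p)) -
          WittVector.truncate 2 (WittVector.teichmuller p (W.coeff 0 ^ p))) = 0 := by rw [sub_self, map_zero]
      obtain ⟨Z, hZ⟩ := WittVector.truncate_surjective p 2 k ((p : FrobAlg.W2 p k) * WittVector.truncate 2 (WittVector.teichmuller p (W.coeff 1)))
      have hz0 : Z.coeff 0 = 0 := by rwa [← hZ, FrobAlg.res_truncate] at hr
      have hz1 : Z.coeff 1 = W.coeff 1 ^ p := by
        have := LW2.coeff_p_mul p (WittVector.truncate 2 (WittVector.teichmuller p (W.coeff 1)))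
        rw [← hZ, WittVector.coeff_truncate, FrobAlg.res_truncate, WittVector.teichmuller_coeff_zero] at this
        exact this
      rw [← hZ, ← map_add, WittVector.coeff_truncate]
      rw [WittVector.coeff_add_of_disjoint]
      · simp [FrobAlg.sigma, hz1]; rw [← map_pow, WittVector.teichmuller_coeff_pos p _ _ one_pos]
      · intro n
        rcases n with _ | n
        · exact Or.inr hz0
        · exact Or.inl (WittVector.teichmuller_coeff_pos p _ _ n.succ_pos)
  constructor
  · rintro ⟨Φ, hΦ⟩
    have hex : ∀ b, ∃ u : FrobAlg.W2 p A, FrobAlg.res p A u = π b ∧ gh u = Φ b := fun b => by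
      obtain ⟨y, hy⟩ := (LW2.pi_eq_zero_iff p hB).1 (show π (Φ b - b ^ p) = 0 by rw [map_sub, map_pow, hΦ.red, sub_self])
      let X : WittVector p B := WittVector.mk p fun i => if i = 0 then b else y
      refine ⟨WittVector.truncate 2 (WittVector.map π X), by rw [hres]; simp [X], ?_⟩
      rw [hgh]
      simp only [X, WittVector.coeff_mk]
      simp [← hy]
    have hinj : ∀ u v : FrobAlg.W2 p A, FrobAlg.res p A u = FrobAlg.res p A v → gh u = gh v → u = v := by
      intro u v h0 h1
      rcases subsingleton_or_nontrivial A with hA | hA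
      · exact TruncatedWittVector.ext fun i => Subsingleton.elim _ _
      haveI : CharP A p := (CharP.charP_iff_prime_eq_zero Fact.out).2 hpA
      rw [← sub_eq_zero]
      have hr : FrobAlg.res p A (u - v) = 0 := by rw [map_sub, h0, sub_self]
      obtain ⟨d, hd⟩ := hB.surj ((u - v).coeff 1)
      let X : WittVector p B := WittVector.mk p fun i => if i = 0 then 0 else d
      have hX : WittVector.truncate 2 (WittVector.map π X) = u - v := by
        refine LW2.ext_of_res p ?_ ?_
        · rw [hres, hr]; simp [X]
        · rw [WittVector.coeff_truncate, WittVector.map_coeff]; simp [X, hd]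
      have h2 := hgh X
      rw [hX, map_sub, h1, sub_self] at h2
      simp only [X, WittVector.coeff_mk, if_true, one_ne_zero, if_false, zero_pow (Fact.out : p.Prime).ne_zero, zero_add] at h2
      have h3 := LW2.pi_eq_zero_of_p_mul p hB h2.symm
      exact LW2.ext_of_res p (by rw [hr, map_zero]) (by rw [← hd, h3, TruncatedWittVector.coeff_zero])
    choose θ hθ using hex
    refine ⟨{ toFun := θ
              map_one' := hinj _ _ (by rw [(hθ 1).1, map_one, map_one]) (by rw [(hθ 1).2, map_one, map_one])
              map_mul' := fun a b => hinj _ _ (by rw [(hθ _).1, map_mul, map_mul, (hθ a).1, (hθ b).1]) (by rw [(hθ _).2, map_mul, map_mul, (hθ a).2, (hθ b).2])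
              map_zero' := hinj _ _ (by rw [(hθ 0).1, map_zero, map_zero]) (by rw [(hθ 0).2, map_zero, map_zero])
              map_add' := fun a b => hinj _ _ (by rw [(hθ _).1, map_add, map_add, (hθ a).1, (hθ b).1]) (by rw [(hθ _).2, map_add, map_add, (hθ a).2, (hθ b).2]) },
      RingHom.ext fun b => (hθ b).1, RingHom.ext fun w => hinj _ _ ?_ ?_⟩
    · rw [FrobAlg.res_apply (x := WittGrp.truncMap p 2 (algebraMap k A) w), WittGrp.coeff_truncMap, ← FrobAlg.res_apply]
      exact (hθ _).1.trans (RingHom.congr_fun hB.comm w)
    · rw [hsemi w]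
      exact (hθ _).2.trans (RingHom.congr_fun hΦ.semi w)
  · rintro ⟨θ, hθ, hθι⟩
    refine ⟨gh.comp θ, hB, RingHom.ext fun w => ?_, fun b => ?_⟩
    · rw [RingHom.comp_apply, RingHom.comp_apply, ← RingHom.comp_apply θ, hθι, hsemi]
      rfl
    · obtain ⟨X, hX⟩ := ((WittVector.truncate_surjective p 2 A).comp (WittVector.map_surjective π hB.surj)) (θ b)
      have h0 : π (X.coeff 0) = π b := by
        rw [← hres, ← RingHom.congr_fun hθ b, RingHom.comp_apply, ← hX]; rfl
      rw [RingHom.comp_apply, ← hX, Function.comp_apply, hgh, map_add, map_pow, h0, map_mul, map_natCast, hpA, zero_mul, add_zero]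

end Groth.Agent.S13150
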