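import Groth.Statements.S13151
import Mathlib

set_option autoImplicit false
universe u
open CAlg

namespace Groth.Agent.S13151
open scoped TensorProduct
open CategoryTheory
set_option linter.style.haveILetI false

/-- Let A → B be an injective ring homomorphism of integral domains which is integral, with A integrally
closed, and let π be an element of A. Then the contraction to A of the ideal πB is πA, i.e. an
element of A which is a multiple of π in B is already a multiple of π in A; in particular if B/πB is
an integral domain then A/πA is an integral domain. (The published statement is for an integral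
dominant morphism of integral schemes flat over a discrete valuation ring, with normal target and π
a uniformizer; flatness and the valuation ring play no role, so π is an arbitrary element here.) -/
theorem result {A B : Type u} [CommRing A] [CommRing B]
    [IsDomain A] [IsDomain B] [IsIntegrallyClosed A] [Algebra A B] [Algebra.IsIntegral A B]
    (hinj : Function.Injective (algebraMap A B)) (π : A) :
    (Ideal.span {algebraMap A B π}).comap (algebraMap A B) = Ideal.span {π} ∧
      (IsDomain (B ⧸ Ideal.span {algebraMap A B π}) → IsDomain (A ⧸ Ideal.span {π})) := by
  have h1 : (Ideal.span {algebraMap A B π}).comap (algebraMap A B) = Ideal.span {π} := by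
    refine le_antisymm (fun a ha => ?_) (Ideal.span_le.2 (Set.singleton_subset_iff.2 (Ideal.mem_comap.2 (Ideal.subset_span rfl))))
    obtain ⟨b, hb⟩ := Ideal.mem_span_singleton'.1 (Ideal.mem_comap.1 ha)
    rcases eq_or_ne π 0 with rfl | hπ
    · rw [map_zero, mul_zero] at hb
      rw [hinj (hb.symm.trans (map_zero _).symm)]; exact Ideal.zero_mem _
    let K := FractionRing A
    obtain ⟨P, hP, hP0⟩ := Algebra.IsIntegral.isIntegral (R := A) b
    let x : K := algebraMap A K a / algebraMap A K π
    let L := FractionRing B
    haveI : FaithfulSMul A B := (faithfulSMul_iff_algebraMap_injective A B).2 hinj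
    have hinjL : Function.Injective (algebraMap A L) := by
      rw [IsScalarTower.algebraMap_eq A B L]; exact (IsFractionRing.injective B L).comp hinj
    let φ : K →ₐ[A] L := IsFractionRing.liftAlgHom (g := Algebra.ofId A L) hinjL
    have hφ : φ x = algebraMap B L b := by
      show φ (algebraMap A K a / algebraMap A K π) = _
      rw [map_div₀, φ.commutes, φ.commutes, div_eq_iff ((map_ne_zero_iff _ hinjL).2 hπ),
        IsScalarTower.algebraMap_apply A B L π, IsScalarTower.algebraMap_apply A B L a, ← map_mul, hb]
    have hx : IsIntegral A x := by
      rw [← isIntegral_algHom_iff φ φ.toRingHom.injective, hφ]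
      exact IsIntegral.algebraMap ⟨P, hP, hP0⟩
    obtain ⟨c, hc⟩ := IsIntegrallyClosed.algebraMap_eq_of_integral hx
    refine Ideal.mem_span_singleton'.2 ⟨c, IsFractionRing.injective A K ?_⟩
    rw [map_mul, hc, div_mul_cancel₀ _ ((map_ne_zero_iff _ (IsFractionRing.injective A K)).2 hπ)]
  refine ⟨h1, fun h => ?_⟩
  haveI := (Ideal.Quotient.isDomain_iff_prime _).1 h
  rw [Ideal.Quotient.isDomain_iff_prime, ← h1]
  exact Ideal.comap_isPrime _ _

end Groth.Agent.S13151
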