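import Groth.Statements.S13153
import Mathlib

set_option autoImplicit false
universe u
open CAlg

namespace Groth.Agent.S13153
open scoped IntermediateField.algebraAdjoinAdjoin
set_option backward.isDefEq.respectTransparency.types false

/-- Let R be a discrete valuation ring whose fraction field K has characteristic zero, A an integral
domain which is a faithfully flat R-algebra, with fraction field L, such that K is algebraically
closed in L (every element of L algebraic over K is in the image of K). If f ∈ A has vanishing
differential, df = 0 in Ω_{A/R}, then f is the image of an element of R. (The published statement is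
the sheaf form: for a faithfully flat morphism X → Spec R with geometrically integral generic fibre,
the kernel of d : O_X → Ω¹_{X/R} is the inverse image of O_{Spec R}; for integral X, geometric
integrality of the generic fibre in characteristic zero amounts to K being algebraically closed in
the function field, which is the form used here, and this row is the case of global sections over an
affine X = Spec A.) -/
theorem result (R : Type u) [CommRing R] [IsDomain R]
    [IsDiscreteValuationRing R] [CharZero R] (K : Type u) [Field K] [Algebra R K] [IsFractionRing R K]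
    (A : Type u) [CommRing A] [IsDomain A] [Algebra R A] [Module.FaithfullyFlat R A]
    (L : Type u) [Field L] [Algebra A L] [IsFractionRing A L] [Algebra R L] [Algebra K L]
    [IsScalarTower R A L] [IsScalarTower R K L]
    (hac : ∀ x : L, IsAlgebraic K x → x ∈ (algebraMap K L).range)
    (f : A) (hf : KaehlerDifferential.D R A f = 0) : f ∈ (algebraMap R A).range := by
  classical
  haveI : CharZero K := charZero_of_injective_algebraMap (IsFractionRing.injective R K)
  haveI : CharZero L := charZero_of_injective_algebraMap (algebraMap K L).injective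
  have halg : IsAlgebraic K (algebraMap A L f) := by
    by_contra hn
    obtain ⟨t, ht, hb⟩ := exists_isTranscendenceBasis_superset (s := ({algebraMap A L f} : Set L))
      ((algebraicIndependent_unique_type_iff (x := fun x : ({algebraMap A L f} : Set L) => (x : L))).mpr hn)
    let v : t → L := (↑)
    let i0 : t := ⟨algebraMap A L f, ht rfl⟩
    let P := Algebra.adjoin K (Set.range v)
    let F := IntermediateField.adjoin K (Set.range v)
    haveI : Algebra.IsAlgebraic F L := hb.isAlgebraic_field
    haveI : Algebra.FormallySmooth P F := .of_isLocalization (nonZeroDivisors _)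
    haveI : Algebra.FormallyEtale F L := Algebra.FormallyEtale.of_isSeparable _ L
    haveI : Algebra.FormallySmooth P L := .comp P F L
    let ψ : MvPolynomial t K →ₐ[K] TrivSqZeroExt L L :=
      MvPolynomial.aeval (fun i => TrivSqZeroExt.inl (v i) + if i = i0 then TrivSqZeroExt.inr 1 else 0)
    have hψ : ∀ Q, TrivSqZeroExt.fst (ψ Q) = MvPolynomial.aeval v Q := by
      intro Q
      have : (TrivSqZeroExt.fstHom K L L).comp ψ = MvPolynomial.aeval v := by
        apply MvPolynomial.algHom_ext; intro i
        simp only [ψ, AlgHom.comp_apply, MvPolynomial.aeval_X]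
        show TrivSqZeroExt.fst _ = _
        split_ifs <;> simp
      exact AlgHom.congr_fun this Q
    let φ : P →ₐ[K] TrivSqZeroExt L L := ψ.comp hb.1.aevalEquiv.symm.toAlgHom
    letI : Algebra P (TrivSqZeroExt L L) := φ.toRingHom.toAlgebra
    have hφ : ∀ x : P, TrivSqZeroExt.fst (φ x) = (x : L) := by
      intro x
      show TrivSqZeroExt.fst (ψ (hb.1.aevalEquiv.symm x)) = _
      rw [hψ]
      conv_rhs => rw [← hb.1.aevalEquiv.apply_symm_apply x]
      exact (AlgebraicIndependent.aevalEquiv_apply_coe _ _).symm
    let g : TrivSqZeroExt L L →ₐ[P] L :=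
      { toRingHom := (TrivSqZeroExt.fstHom K L L).toRingHom
        commutes' := fun x => hφ x }
    have hgs : Function.Surjective g := fun x => ⟨TrivSqZeroExt.inl x, rfl⟩
    have hnil : IsNilpotent (RingHom.ker (g : TrivSqZeroExt L L →+* L)) := by
      refine ⟨2, ?_⟩
      show RingHom.ker (g : TrivSqZeroExt L L →+* L) ^ (1+1) = ⊥
      rw [Submodule.pow_succ, Submodule.pow_one, eq_bot_iff, Ideal.mul_le]
      intro a ha b hb'
      have ha' : TrivSqZeroExt.fst a = 0 := ha
      have hb'' : TrivSqZeroExt.fst b = 0 := hb'
      rw [Ideal.mem_bot]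
      ext <;> simp [ha', hb'']
    let σ := Algebra.FormallySmooth.liftOfSurjective (AlgHom.id P L) g hgs hnil
    have hσ : ∀ x, TrivSqZeroExt.fst (σ x) = x := fun x =>
      Algebra.FormallySmooth.liftOfSurjective_apply (AlgHom.id P L) g hgs hnil x
    have hσP : ∀ x : P, σ (x : L) = φ x := fun x => σ.commutes x
    have hσK : ∀ c : K, σ (algebraMap K L c) = algebraMap K (TrivSqZeroExt L L) c := fun c => by
      rw [← φ.commutes c, ← hσP]; rfl
    let δ : Derivation R A L := Derivation.mk'
      { toFun := fun a => TrivSqZeroExt.snd (σ (algebraMap A L a))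
        map_add' := fun a b => by simp [map_add]
        map_smul' := fun r a => by
          rw [Algebra.smul_def, map_mul, map_mul, ← IsScalarTower.algebraMap_apply R A L, IsScalarTower.algebraMap_apply R K L, hσK, TrivSqZeroExt.algebraMap_eq_inl', TrivSqZeroExt.snd_mul]
          simp [Algebra.smul_def, IsScalarTower.algebraMap_apply R K L] }
      (fun a b => by
        show TrivSqZeroExt.snd (σ (algebraMap A L (a * b))) = a • TrivSqZeroExt.snd _ + b • TrivSqZeroExt.snd _
        rw [map_mul, map_mul, TrivSqZeroExt.snd_mul, hσ, hσ]
        simp [Algebra.smul_def, mul_comm])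
    have h0 : δ f = 0 := by rw [← δ.liftKaehlerDifferential_comp_D, hf, map_zero]
    have h1 : δ f = 1 := by
      show TrivSqZeroExt.snd (σ (algebraMap A L f)) = 1
      have hx : (algebraMap A L f) = ((hb.1.aevalEquiv (MvPolynomial.X i0) : P) : L) := by
        rw [AlgebraicIndependent.aevalEquiv_apply_coe, MvPolynomial.aeval_X]
      rw [hx, hσP]
      show TrivSqZeroExt.snd (ψ (hb.1.aevalEquiv.symm (hb.1.aevalEquiv _))) = 1
      rw [AlgEquiv.symm_apply_apply, MvPolynomial.aeval_X]
      simp
    exact zero_ne_one (h0.symm.trans h1)
  obtain ⟨c, hc⟩ := hac _ halg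
  obtain ⟨a, b, hb, rfl⟩ := IsFractionRing.div_surjective R c
  have hb0 : algebraMap R L b ≠ 0 := by
    rw [IsScalarTower.algebraMap_apply R K L]
    exact (map_ne_zero_iff _ (algebraMap K L).injective).mpr ((map_ne_zero_iff _ (IsFractionRing.injective R K)).mpr (nonZeroDivisors.ne_zero hb))
  rw [map_div₀, ← IsScalarTower.algebraMap_apply R K L, ← IsScalarTower.algebraMap_apply R K L, div_eq_iff hb0,
    IsScalarTower.algebraMap_apply R A L, IsScalarTower.algebraMap_apply R A L, ← map_mul] at hc
  have hA := IsFractionRing.injective A L hc
  have : a ∈ Ideal.span {b} := by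
    rw [← Ideal.comap_map_eq_self_of_faithfullyFlat (B := A) (Ideal.span {b}), Ideal.mem_comap, Ideal.map_span, Set.image_singleton, Ideal.mem_span_singleton]
    exact ⟨f, by rw [hA, mul_comm]⟩
  obtain ⟨r, rfl⟩ := Ideal.mem_span_singleton.mp this
  refine ⟨r, ?_⟩
  rw [map_mul, mul_comm f] at hA
  have hbA : algebraMap R A b ≠ 0 := fun h => hb0 (by rw [IsScalarTower.algebraMap_apply R A L, h, map_zero])
  exact mul_left_cancel₀ hbA hA

end Groth.Agent.S13153
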