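import Groth.Statements.S13163
import Mathlib

set_option autoImplicit false
set_option backward.isDefEq.respectTransparency.types false
set_option maxHeartbeats 1000000
set_option linter.all false
universe u
open ZeroCyc

namespace Groth.Agent.S13163
open Groth.Agent

open Polynomial in
/-- Let P_d(T) = ∏_{0 ≤ i < j ≤ d} (T^i − T^j) − 1 ∈ ℤ[T]. Every residue field of ℤ[T]/(P_d), i.e. every
field receiving a ring homomorphism from it, has at least d + 1 elements. -/
theorem result (d : ℕ) (k : Type u) [Field k]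
    (φ : (ℤ[X] ⧸ Ideal.span {(∏ j ∈ Finset.range (d + 1), ∏ i ∈ Finset.range j,
        ((X : ℤ[X]) ^ i - X ^ j)) - 1}) →+* k) :
    ((d + 1 : ℕ) : Cardinal) ≤ Cardinal.mk k := by
  set I : Ideal ℤ[X] := Ideal.span {(∏ j ∈ Finset.range (d + 1), ∏ i ∈ Finset.range j, ((X : ℤ[X]) ^ i - X ^ j)) - 1}
  let x : k := φ (Ideal.Quotient.mk I X)
  have h1 : φ (Ideal.Quotient.mk I (∏ j ∈ Finset.range (d + 1), ∏ i ∈ Finset.range j, ((X : ℤ[X]) ^ i - X ^ j))) = 1 := by
    rw [show Ideal.Quotient.mk I (∏ j ∈ Finset.range (d + 1), ∏ i ∈ Finset.range j, ((X : ℤ[X]) ^ i - X ^ j)) = Ideal.Quotient.mk I 1 from Ideal.Quotient.eq.2 (Ideal.subset_span rfl), map_one, map_one]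
  simp only [map_prod, map_sub, map_pow] at h1
  have hne : ∀ j < d + 1, ∀ i < j, x ^ i ≠ x ^ j := by
    intro j hj i hi h
    apply one_ne_zero (α := k)
    rw [← h1]
    refine Finset.prod_eq_zero (Finset.mem_range.2 hj) (Finset.prod_eq_zero (Finset.mem_range.2 hi) ?_)
    exact sub_eq_zero.2 h
  have hinj : Function.Injective (fun i : ULift.{u} (Fin (d + 1)) => x ^ (i.down : ℕ)) := by
    rintro ⟨a⟩ ⟨b⟩ h
    rcases lt_trichotomy (a : ℕ) b with hab | hab | hab
    · exact absurd h (hne b b.2 a hab)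
    · exact congrArg ULift.up (Fin.ext hab)
    · exact absurd h.symm (hne a a.2 b hab)
  have := Cardinal.mk_le_of_injective hinj
  simpa using this

end Groth.Agent.S13163
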