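import Groth.Statements.S13166
import Mathlib

set_option autoImplicit false
universe u
open ZeroCyc

namespace Groth.Agent.S13166

private lemma exists_avoid {k : Type u} [Field k] {V : Type u} [AddCommGroup V] [Module k V] {ι : Type}
    (s : Finset ι) (W : ι → Submodule k V) (hW : ∀ i ∈ s, W i ≠ ⊤)
    (hc : (s.card : Cardinal) ≤ Cardinal.mk k) : ∃ v, ∀ i ∈ s, v ∉ W i := by
  classical
  induction s using Finset.induction with
  | empty => exact ⟨0, by simp⟩
  | @insert a t ha ih =>
    rw [Finset.card_insert_of_notMem ha] at hc
    obtain ⟨v, hv⟩ := ih (fun i hi => hW i (Finset.mem_insert_of_mem hi))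
      (le_trans (by exact_mod_cast Nat.le_succ _) hc)
    by_cases hva : v ∈ W a
    · obtain ⟨w, -, hw⟩ := SetLike.exists_of_lt (lt_top_iff_ne_top.mpr (hW a (Finset.mem_insert_self a t)))
      have hu : ∀ i ∈ t, ∀ c c' : k, c • v + w ∈ W i → c' • v + w ∈ W i → c = c' := by
        intro i hi c c' h h'
        by_contra hne
        apply hv i hi
        have := (W i).sub_mem h h'
        rw [add_sub_add_right_eq_sub, ← sub_smul] at this
        exact ((W i).smul_mem_iff (sub_ne_zero.mpr hne)).mp this
      obtain ⟨c, hc'⟩ : ∃ c : k, ∀ i ∈ t, c • v + w ∉ W i := by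
        by_contra hcon
        push Not at hcon
        choose g hg hgW using hcon
        have hinj : Function.Injective (fun c => (⟨g c, hg c⟩ : t)) := by
          intro c c' h
          have h' : g c = g c' := congrArg Subtype.val h
          exact hu _ (hg c) _ _ (hgW c) (h' ▸ hgW c')
        have : Finite k := Finite.of_injective _ hinj
        have := Fintype.ofFinite k
        have h1 := Fintype.card_le_of_injective _ hinj
        rw [Cardinal.mk_fintype, Nat.cast_le] at hc
        rw [Fintype.card_coe] at h1
        omega
      refine ⟨c • v + w, fun i hi => ?_⟩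
      rcases Finset.mem_insert.mp hi with rfl | hi
      · exact fun h => hw ((Submodule.add_mem_iff_right _ ((W i).smul_mem c hva)).mp h)
      · exact hc' i hi
    · exact ⟨v, fun i hi => (Finset.mem_insert.mp hi).elim (fun h => h ▸ hva) (hv i)⟩



/-- Let k be a field, B a k-algebra generated as an algebra by a k-subspace V, k'/k a field extension
and x_1, …, x_d pairwise distinct k'-points of B ⊗_k k' (equivalently, distinct k-algebra
homomorphisms B → k'). If k has at least d(d − 1)/2 elements, then there is b ∈ V whose values at
x_1, …, x_d are pairwise distinct. -/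
theorem result {k : Type u} [Field k] {B : Type u} [CommRing B] [Algebra k B] (V : Submodule k B)
    (hV : Algebra.adjoin k (V : Set B) = ⊤) {k' : Type u} [Field k'] [Algebra k k']
    {d : ℕ} (x : Fin d → (B →ₐ[k] k')) (hx : Function.Injective x)
    (hk : ((d.choose 2 : ℕ) : Cardinal) ≤ Cardinal.mk k) :
    ∃ b ∈ V, Function.Injective fun i => x i b := by
  classical
  let W : Finset (Fin d) → Submodule k V := fun s => ⨅ i ∈ s, ⨅ j ∈ s,
    LinearMap.ker (((x i).toLinearMap - (x j).toLinearMap).comp V.subtype)
  obtain ⟨b, hb⟩ := exists_avoid (Finset.univ.powersetCard 2) W (fun s hs htop => by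
      obtain ⟨i, j, hij, rfl⟩ := Finset.card_eq_two.mp (Finset.mem_powersetCard.mp hs).2
      refine hij (hx (AlgHom.ext_of_adjoin_eq_top hV fun v hv => ?_))
      have h : (⟨v, hv⟩ : V) ∈ W {i, j} := htop ▸ Submodule.mem_top
      simp only [W, Submodule.mem_iInf] at h
      have := h i (by simp) j (by simp)
      simpa [sub_eq_zero] using this)
    (by simpa using hk)
  refine ⟨b, b.2, fun i j h => ?_⟩
  by_contra hne
  refine hb {i, j} (Finset.mem_powersetCard.mpr ⟨Finset.subset_univ _, Finset.card_pair hne⟩) ?_
  simp only [W, Submodule.mem_iInf, Finset.mem_insert, Finset.mem_singleton]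
  intro a ha c hc
  rcases ha with rfl | rfl <;> rcases hc with rfl | rfl <;> simp [sub_eq_zero, h]
  all_goals exact h

end Groth.Agent.S13166
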