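import Groth.Statements.S13175
import Groth.Agent.Lib.H7PolLaw

set_option autoImplicit false
universe u v w
open scoped TensorProduct
open ZeroCyc

namespace Groth.Agent.S13175

/-- Let B and C be A-algebras and F : B → C a polynomial law. If the maps F over the polynomial rings
A[t_1, …, t_n], n ≥ 0, are multiplicative (send 1 to 1 and products to products), then F is a
multiplicative law: F sends 1 to 1 and products to products over every A-algebra. -/
theorem result {A : Type u} [CommRing A] {B : Type v} [CommRing B] [Algebra A B] {C : Type w} [CommRing C] [Algebra A C]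
    (F : B →ₚₗ[A] C)
    (h1 : ∀ n : ℕ, F.toFun' (MvPolynomial (Fin n) A) 1 = 1)
    (hmul : ∀ (n : ℕ) (x y : MvPolynomial (Fin n) A ⊗[A] B),
      F.toFun' (MvPolynomial (Fin n) A) (x * y) = F.toFun' (MvPolynomial (Fin n) A) x * F.toFun' (MvPolynomial (Fin n) A) y) :
    ∀ (S : Type u) [CommRing S] [Algebra A S], F.toFun' S 1 = 1 ∧
      ∀ x y : S ⊗[A] B, F.toFun' S (x * y) = F.toFun' S x * F.toFun' S y := by
  intro S _ _
  refine ⟨?_, fun x y => ?_⟩
  · have e : ∀ (N : Type w) [CommRing N] [Algebra A N],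
        (MvPolynomial.aeval (R := A) (Fin.elim0 : Fin 0 → S)).toLinearMap.rTensor N (1 : MvPolynomial (Fin 0) A ⊗[A] N) = 1 :=
      fun N _ _ => by simp [Algebra.TensorProduct.one_def]
    have h := F.isCompat_apply' (MvPolynomial.aeval (R := A) (Fin.elim0 : Fin 0 → S)) (1 : MvPolynomial (Fin 0) A ⊗[A] B)
    rw [h1 0, e C] at h
    rw [h]
    congr 1
    simp [Algebra.TensorProduct.one_def]
  · obtain ⟨n, φ, p, q, c, rfl, rfl, -⟩ := Groth.Agent.H7PolLaw.exists_lift₃ x y (0 : S)
    have eB : ∀ a b : MvPolynomial (Fin n) A ⊗[A] B,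
        φ.toLinearMap.rTensor B (a * b) = φ.toLinearMap.rTensor B a * φ.toLinearMap.rTensor B b := fun a b => by
      show Algebra.TensorProduct.map φ (AlgHom.id A B) (a * b) = _
      rw [map_mul]; rfl
    have eC : ∀ a b : MvPolynomial (Fin n) A ⊗[A] C,
        φ.toLinearMap.rTensor C (a * b) = φ.toLinearMap.rTensor C a * φ.toLinearMap.rTensor C b := fun a b => by
      show Algebra.TensorProduct.map φ (AlgHom.id A C) (a * b) = _
      rw [map_mul]; rfl
    rw [← eB, ← F.isCompat_apply', ← F.isCompat_apply', ← F.isCompat_apply', hmul, eC]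

end Groth.Agent.S13175
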