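import Groth.Statements.S13189
import Mathlib
import Groth.Agent.Lib.H2FiniteAlgClosed

set_option autoImplicit false
universe u
open CAlg

namespace Groth.Agent.S13189
open scoped TensorProduct
open Polynomial
set_option linter.style.haveILetI false

/-- For a finite field K of cardinality q and n ≥ 0, a polynomial p in n variables over K vanishes at
every point of K^n if and only if p belongs to the ideal generated by the X_i^q − X_i, i = 1, …, n;
in other words that ideal is the kernel of the evaluation homomorphism from K[X_1, …, X_n] to the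
ring of K-valued functions on K^n. -/
theorem result (K : Type u) [Field K] [Fintype K]
    (n : ℕ) (p : MvPolynomial (Fin n) K) :
    (∀ a : Fin n → K, MvPolynomial.eval a p = 0) ↔
      p ∈ Ideal.span (Set.range fun i : Fin n =>
        (MvPolynomial.X i ^ Fintype.card K - MvPolynomial.X i : MvPolynomial (Fin n) K)) := by
  classical
  set q := Fintype.card K
  set J := Ideal.span (Set.range fun i : Fin n => (MvPolynomial.X i ^ q - MvPolynomial.X i : MvPolynomial (Fin n) K))
  have hJ : ∀ P ∈ J, ∀ a : Fin n → K, MvPolynomial.eval a P = 0 := by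
    intro P hP a
    induction hP using Submodule.span_induction with
    | mem x hx => obtain ⟨i, rfl⟩ := hx; simp [q, FiniteField.pow_card]
    | zero => simp
    | add x y _ _ hx hy => simp [hx, hy]
    | smul r x _ hx => simp [hx]
  refine ⟨fun h => ?_, fun h => hJ p h⟩
  have hq : 1 < q := Fintype.one_lt_card
  have hred : ∀ (i : Fin n) (e : ℕ), ∃ e' < q, (MvPolynomial.X i ^ e - MvPolynomial.X i ^ e' : MvPolynomial (Fin n) K) ∈ J := by
    intro i e
    induction e with
    | zero => exact ⟨0, by omega, by simp⟩
    | succ e ih =>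
      obtain ⟨e', he', hm⟩ := ih
      have h1 : (MvPolynomial.X i ^ (e + 1) - MvPolynomial.X i ^ (e' + 1) : MvPolynomial (Fin n) K) ∈ J := by
        rw [pow_succ, pow_succ, ← sub_mul]; exact J.mul_mem_right _ hm
      rcases Nat.lt_or_ge (e' + 1) q with h' | h'
      · exact ⟨e' + 1, h', h1⟩
      · refine ⟨1, hq, ?_⟩
        have h2 : (MvPolynomial.X i ^ (e' + 1) - MvPolynomial.X i : MvPolynomial (Fin n) K) ∈ J :=
          Ideal.subset_span ⟨i, by rw [show e' + 1 = q by omega]⟩
        simpa using J.add_mem h1 h2
  choose e' he' hmem using hred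
  let r : MvPolynomial (Fin n) K := ∑ s ∈ p.support, MvPolynomial.C (p.coeff s) * ∏ i, MvPolynomial.X i ^ (e' i (s i))
  have hpr : p - r ∈ J := by
    have h3 : p = ∑ s ∈ p.support, MvPolynomial.C (p.coeff s) * ∏ i, MvPolynomial.X i ^ (s i) := by
      conv_lhs => rw [p.as_sum]
      refine Finset.sum_congr rfl fun s _ => ?_
      rw [MvPolynomial.monomial_eq, Finsupp.prod_fintype _ _ (fun i => pow_zero _)]
    rw [← Ideal.Quotient.eq]
    conv_lhs => rw [h3]
    simp only [r, map_sum, map_mul, map_prod]
    refine Finset.sum_congr rfl fun s _ => ?_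
    congr 1
    exact Finset.prod_congr rfl fun i _ => Ideal.Quotient.eq.2 (hmem i (s i))
  have hr : r ∈ MvPolynomial.restrictDegree (Fin n) K (q - 1) := by
    refine Submodule.sum_mem _ fun s _ => ?_
    rw [show MvPolynomial.C (p.coeff s) * ∏ i, MvPolynomial.X i ^ (e' i (s i)) = MvPolynomial.monomial (Finsupp.equivFunOnFinite.symm fun i => e' i (s i)) (p.coeff s) by
      rw [MvPolynomial.monomial_eq, Finsupp.prod_fintype _ _ (fun i => pow_zero _)]; simp]
    rw [MvPolynomial.mem_restrictDegree]
    intro t ht i
    rw [Finset.mem_singleton.1 (MvPolynomial.support_monomial_subset ht)]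
    simp only [Finsupp.equivFunOnFinite_symm_apply_apply]
    have := he' i (s i); omega
  have hr0 : r = 0 := MvPolynomial.eq_zero_of_eval_zero_at_prod_finset r (fun _ => Finset.univ) (fun i => by
    rw [Finset.card_univ, MvPolynomial.degreeOf_lt_iff (by omega)]
    intro m hm
    have := (MvPolynomial.mem_restrictDegree _ _ _).1 hr m hm i
    omega) (fun a _ => by
    have := hJ _ hpr a; rwa [map_sub, h a, zero_sub, neg_eq_zero] at this)
  rwa [hr0, sub_zero] at hpr

end Groth.Agent.S13189
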