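import Groth.Statements.S13357
import Mathlib
import Groth.Agent.Lib.H8TruncExp

set_option autoImplicit false
universe u
open GaDual

namespace Groth.Agent.S13357

/-- Over a commutative algebra A of prime characteristic p, the polynomials f with f(0) = 1 and f(X+Y) =
f(X)f(Y) (the characters of the additive group into the multiplicative group over A) are exactly the
finite products of truncated exponentials exp_p(a_n X^(p^n)) = Σ_{j<p} a_n^j X^(j p^n)/j! with a_n^p
= 0. -/
theorem result (p : ℕ) [Fact p.Prime] (A : Type u) [CommRing A] [CharP A p]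
    (f : Polynomial A) :
    (f.eval 0 = 1 ∧
      Polynomial.aeval (MvPolynomial.X 0 + MvPolynomial.X 1 : MvPolynomial (Fin 2) A) f =
        Polynomial.aeval (MvPolynomial.X 0 : MvPolynomial (Fin 2) A) f *
          Polynomial.aeval (MvPolynomial.X 1 : MvPolynomial (Fin 2) A) f) ↔
      ∃ (N : ℕ) (a : ℕ → A), (∀ n, a n ^ p = 0) ∧
        f = ∏ n ∈ Finset.range N, ∑ j ∈ Finset.range p,
          Polynomial.C (Ring.inverse (j.factorial : A) * a n ^ j) * Polynomial.X ^ (j * p ^ n) := by
  letI := ZMod.algebra A p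
  constructor
  · rintro ⟨h0, hmul⟩
    rw [← Polynomial.coeff_zero_eq_eval_zero] at h0
    obtain ⟨N, hN⟩ : ∃ N, f.natDegree < p ^ N := ⟨f.natDegree + 1,
      lt_of_lt_of_le (Nat.lt_succ_self _) (Nat.lt_pow_self (Fact.out : p.Prime).one_lt).le⟩
    obtain ⟨hz, hprod⟩ := H8TruncExp.char_eq_prod p N f hN h0 (by
      rw [hmul, sub_self]; exact zero_mem _)
    refine ⟨N, fun i => if i < N then f.coeff (p ^ i) else 0, fun i => ?_, ?_⟩
    · by_cases hi : i < N
      · simp only [hi, if_true]; exact hz i hi
      · simp only [hi, if_false, zero_pow (Fact.out : p.Prime).ne_zero]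
    · refine hprod.trans (Finset.prod_congr rfl fun i hi => ?_)
      simp only [H8TruncExp.factor_eq, if_pos (Finset.mem_range.mp hi)]
  · rintro ⟨N, a, ha, rfl⟩
    simp only [H8TruncExp.factor_eq]
    obtain ⟨h0, hm⟩ := H8TruncExp.prod_isChar p N a ha
    exact ⟨by rw [← Polynomial.coeff_zero_eq_eval_zero]; exact h0, hm⟩

end Groth.Agent.S13357
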