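import Groth.Statements.S13358
import Mathlib
import Groth.Agent.Lib.H8SymCocycle2

set_option autoImplicit false
universe u
open GaDual

namespace Groth.Agent.S13358

/-- Over a commutative algebra R of prime characteristic p, a polynomial F(X,Y) is symmetric and
satisfies the two-cocycle identity F(X,Y+Z) + F(Y,Z) − F(X+Y,Z) − F(X,Y) = 0 if and only if it has
the form G(X+Y) − G(X) − G(Y) + Σ_i r_i S(X^(p^i), Y^(p^i)) with G a one-variable polynomial, r_i in
R and S(X,Y) = Σ_{0<j<p} (C(p,j)/p) X^j Y^(p−j) the reduction mod p of ((X+Y)^p − X^p − Y^p)/p. -/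
theorem result (p : ℕ) [Fact p.Prime] (R : Type u) [CommRing R] [CharP R p]
    (F : MvPolynomial (Fin 2) R) :
    (MvPolynomial.aeval ![MvPolynomial.X 1, MvPolynomial.X 0] F = F ∧
      MvPolynomial.aeval ![MvPolynomial.X 0, MvPolynomial.X 1 + MvPolynomial.X 2] F
          + MvPolynomial.aeval ![MvPolynomial.X 1, MvPolynomial.X 2] F
          - MvPolynomial.aeval ![MvPolynomial.X 0 + MvPolynomial.X 1, MvPolynomial.X 2] F
          - MvPolynomial.aeval ![MvPolynomial.X 0, MvPolynomial.X 1] F = (0 : MvPolynomial (Fin 3) R)) ↔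
      ∃ (G : Polynomial R) (N : ℕ) (r : ℕ → R),
        F = Polynomial.aeval (MvPolynomial.X 0 + MvPolynomial.X 1 : MvPolynomial (Fin 2) R) G
              - Polynomial.aeval (MvPolynomial.X 0 : MvPolynomial (Fin 2) R) G
              - Polynomial.aeval (MvPolynomial.X 1 : MvPolynomial (Fin 2) R) G
            + ∑ i ∈ Finset.range N, MvPolynomial.C (r i) *
                MvPolynomial.aeval ![MvPolynomial.X 0 ^ p ^ i, MvPolynomial.X 1 ^ p ^ i]
                  (∑ j ∈ Finset.Ioo 0 p, MvPolynomial.C ((p.choose j / p : ℕ) : R) *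
                    MvPolynomial.X 0 ^ j * MvPolynomial.X 1 ^ (p - j) : MvPolynomial (Fin 2) R) := by
  classical
  constructor
  · rintro ⟨hs, hc⟩
    have hconst := congrArg (MvPolynomial.aeval ![(MvPolynomial.X 0 : MvPolynomial (Fin 2) R), 0, 0]) hc
    simp only [map_sub, map_add, map_zero, H8SymCoc.aeval_comp] at hconst
    have e0 : ∀ (P Q : MvPolynomial (Fin 3) R),
        (fun i : Fin 2 => MvPolynomial.aeval ![(MvPolynomial.X 0 : MvPolynomial (Fin 2) R), 0, 0] (![P, Q] i)) =
        ![MvPolynomial.aeval ![(MvPolynomial.X 0 : MvPolynomial (Fin 2) R), 0, 0] P,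
          MvPolynomial.aeval ![(MvPolynomial.X 0 : MvPolynomial (Fin 2) R), 0, 0] Q] := by
      intro P Q
      funext i
      fin_cases i <;> simp
    simp only [e0, map_add, MvPolynomial.aeval_X, Matrix.cons_val_zero, Matrix.cons_val_one,
      Matrix.cons_val, add_zero] at hconst
    set c := MvPolynomial.coeff 0 F with hcdef
    have hz : MvPolynomial.aeval ![(0 : MvPolynomial (Fin 2) R), 0] F = MvPolynomial.C c := by
      have : (![(0 : MvPolynomial (Fin 2) R), 0]) = fun _ => 0 := by funext i; fin_cases i <;> rfl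
      rw [this, show (fun _ : Fin 2 => (0 : MvPolynomial (Fin 2) R)) = 0 from rfl,
        MvPolynomial.aeval_zero]
      simp [hcdef, MvPolynomial.constantCoeff_eq, MvPolynomial.algebraMap_eq]
    have hF' : H8SymCoc.IsCoc (F - MvPolynomial.C c) := by
      refine ⟨?_, ?_, ?_⟩
      · rw [map_sub, MvPolynomial.aeval_C, MvPolynomial.algebraMap_eq]
        linear_combination (-1 : MvPolynomial (Fin 2) R) * hconst + hz
      · rw [map_sub, hs, MvPolynomial.aeval_C, MvPolynomial.algebraMap_eq]
      · simp only [map_sub, MvPolynomial.aeval_C, MvPolynomial.algebraMap_eq]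
        linear_combination hc
    obtain ⟨G, N, r, he⟩ := H8SymCoc.standard_of_isCoc p hF'
    refine ⟨G + Polynomial.C (-c), N, r, ?_⟩
    have e := sub_eq_iff_eq_add.mp he
    refine e.trans ?_
    simp only [← H8SymCoc.aeval_pow_Cp p, H8SymCoc.Sexp, H8SymCoc.cobd, map_add,
      Polynomial.aeval_C, MvPolynomial.algebraMap_eq, map_neg]
    ring
  · rintro ⟨G, N, r, rfl⟩
    have hterm : ∀ i, MvPolynomial.aeval ![MvPolynomial.X 0 ^ p ^ i, MvPolynomial.X 1 ^ p ^ i]
        (∑ j ∈ Finset.Ioo 0 p, MvPolynomial.C ((p.choose j / p : ℕ) : R) *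
          MvPolynomial.X 0 ^ j * MvPolynomial.X 1 ^ (p - j) : MvPolynomial (Fin 2) R) =
        H8SymCoc.Cp p R ^ p ^ i := fun i => H8SymCoc.aeval_pow_Cp p i
    simp only [hterm]
    have hC := H8SymCoc.Cp_isCoc p R
    constructor
    · simp only [map_add, map_sub, map_sum, map_mul, map_pow, ← Polynomial.aeval_algHom_apply,
        MvPolynomial.aeval_X, Matrix.cons_val_zero, Matrix.cons_val_one, MvPolynomial.aeval_C,
        MvPolynomial.algebraMap_eq, hC.symm]
      rw [add_comm (MvPolynomial.X 1 : MvPolynomial (Fin 2) R)]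
      ring
    · simp only [map_add, map_sub, map_sum, map_mul, map_pow, ← Polynomial.aeval_algHom_apply,
        MvPolynomial.aeval_X, Matrix.cons_val_zero, Matrix.cons_val_one, MvPolynomial.aeval_C,
        MvPolynomial.algebraMap_eq]
      have key : ∀ i, MvPolynomial.C (σ := Fin 3) (r i) *
          MvPolynomial.aeval ![(MvPolynomial.X 0 : MvPolynomial (Fin 3) R), MvPolynomial.X 1 + MvPolynomial.X 2] (H8SymCoc.Cp p R) ^ p ^ i
          + MvPolynomial.C (r i) * MvPolynomial.aeval ![(MvPolynomial.X 1 : MvPolynomial (Fin 3) R), MvPolynomial.X 2] (H8SymCoc.Cp p R) ^ p ^ i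
          - MvPolynomial.C (r i) * MvPolynomial.aeval ![(MvPolynomial.X 0 + MvPolynomial.X 1 : MvPolynomial (Fin 3) R), MvPolynomial.X 2] (H8SymCoc.Cp p R) ^ p ^ i
          - MvPolynomial.C (r i) * MvPolynomial.aeval ![(MvPolynomial.X 0 : MvPolynomial (Fin 3) R), MvPolynomial.X 1] (H8SymCoc.Cp p R) ^ p ^ i = 0 := by
        intro i
        have := congrArg (fun z => z ^ p ^ i) hC.cocyc
        simp only [add_pow_char_pow] at this
        linear_combination MvPolynomial.C (r i) * this
      have hsum := Finset.sum_eq_zero (s := Finset.range N) (fun i _ => key i)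
      simp only [Finset.sum_add_distrib, Finset.sum_sub_distrib] at hsum
      rw [← add_assoc (MvPolynomial.X 0 : MvPolynomial (Fin 3) R)]
      linear_combination hsum

end Groth.Agent.S13358
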