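import Groth.Statements.S13359
import Mathlib

set_option autoImplicit false
universe u
open UltraProd

namespace Groth.Agent.S13359

/-- If (R_i) is a nonempty family of integrally closed domains, then the localization of the product
ring ∏ R_i at any prime ideal is an integrally closed domain. -/
theorem result {ι : Type u} [Nonempty ι] (R : ι → Type u)
    [∀ i, CommRing (R i)] [∀ i, IsDomain (R i)] [∀ i, IsIntegrallyClosed (R i)]
    (P : Ideal (∀ i, R i)) [P.IsPrime] :
    IsDomain (Localization.AtPrime P) ∧ IsIntegrallyClosed (Localization.AtPrime P) := by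
  classical
  let ind : Set ι → (∀ i, R i) := fun E i => if i ∈ E then 1 else 0
  have hmap : ∀ {w x : (∀ i, R i)}, w ∉ P → w * x = 0 → algebraMap (∀ i, R i) (Localization.AtPrime P) x = 0 := fun hw h =>
    (IsLocalization.map_eq_zero_iff P.primeCompl _ _).2 ⟨⟨_, hw⟩, h⟩
  haveI hD : IsDomain (Localization.AtPrime P) := by
    haveI : NoZeroDivisors (Localization.AtPrime P) := ⟨fun {u v} huv => by
      obtain ⟨x, s, rfl⟩ := IsLocalization.exists_mk'_eq P.primeCompl u
      obtain ⟨y, t, rfl⟩ := IsLocalization.exists_mk'_eq P.primeCompl v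
      rw [← IsLocalization.mk'_mul, IsLocalization.mk'_eq_zero_iff] at huv
      obtain ⟨⟨w, hw⟩, hwxy⟩ := huv
      let E : Set ι := {i | (w * x) i = 0}
      by_cases hE : ind E ∈ P
      · right
        have h1 : (1 - ind E) ∉ P := fun h => ‹P.IsPrime›.ne_top ((Ideal.eq_top_iff_one P).2 (by simpa using P.add_mem h hE))
        rw [IsLocalization.mk'_eq_zero_iff]
        refine ⟨⟨_, h1⟩, funext fun i => ?_⟩
        by_cases hi : i ∈ E
        · simp [ind, hi]
        · have h3 : (w * x) i * y i = 0 := by rw [← Pi.mul_apply, mul_assoc, hwxy, Pi.zero_apply]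
          simp [(mul_eq_zero.1 h3).resolve_left hi]
      · left
        rw [IsLocalization.mk'_eq_zero_iff]
        refine ⟨⟨ind E * w, fun h => (‹P.IsPrime›.mem_or_mem h).elim hE hw⟩, funext fun i => ?_⟩
        by_cases hi : i ∈ E
        · simpa [ind, hi] using (show (w * x) i = 0 from hi)
        · simp [ind, hi]⟩
    exact NoZeroDivisors.to_isDomain _
  refine ⟨hD, (isIntegrallyClosed_iff (FractionRing (Localization.AtPrime P))).2 fun {x} hx => ?_⟩
  let K := FractionRing (Localization.AtPrime P)
  obtain ⟨⟨s, hs⟩, hy⟩ := IsIntegral.exists_multiple_integral_of_isLocalization P.primeCompl x hx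
  obtain ⟨u, v, hv, rfl⟩ := IsFractionRing.div_surjective (A := Localization.AtPrime P) x
  obtain ⟨a, s₁, rfl⟩ := IsLocalization.exists_mk'_eq P.primeCompl u
  obtain ⟨b, s₂, rfl⟩ := IsLocalization.exists_mk'_eq P.primeCompl v
  have hv0 := nonZeroDivisors.ne_zero hv
  set f : (∀ i, R i) →+* K := (algebraMap (Localization.AtPrime P) K).comp (algebraMap (∀ i, R i) (Localization.AtPrime P)) with hf
  have hfA : ∀ r, algebraMap (∀ i, R i) K r = f r := fun r => IsScalarTower.algebraMap_apply (∀ i, R i) (Localization.AtPrime P) K r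
  have hfs : ∀ r : P.primeCompl, f r ≠ 0 := fun r => by
    simp only [hf, RingHom.comp_apply, ne_eq, map_eq_zero_iff _ (IsFractionRing.injective (Localization.AtPrime P) K)]
    exact (IsLocalization.map_units (Localization.AtPrime P) r).ne_zero
  have hmk : ∀ r (t : P.primeCompl), algebraMap (Localization.AtPrime P) K (IsLocalization.mk' _ r t) = f r / f t := fun r t => by
    rw [eq_div_iff (hfs t), hf, RingHom.comp_apply, RingHom.comp_apply, ← map_mul, IsLocalization.mk'_spec]
  rw [hmk, hmk] at hy ⊢
  obtain ⟨p, hp, hev⟩ := hy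
  set num : (∀ i, R i) := s * a * s₂
  set den : (∀ i, R i) := b * s₁
  have hden : f den ≠ 0 := by
    intro h
    rw [map_mul] at h
    refine hv0 ((map_eq_zero_iff _ (IsFractionRing.injective (Localization.AtPrime P) K)).1 ?_)
    rw [hmk, (mul_eq_zero.1 h).resolve_right (hfs s₁), zero_div]
  have hbP : algebraMap (∀ i, R i) (Localization.AtPrime P) den ≠ 0 := fun h => hden (by rw [hf, RingHom.comp_apply, h, map_zero])
  have hy2 : (⟨s, hs⟩ : P.primeCompl) • (f a / f s₁ / (f b / f s₂)) = f num / f den := by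
    rw [Submonoid.smul_def, Algebra.smul_def, hfA]
    simp only [num, den, map_mul]
    rw [div_div_div_eq, mul_div_assoc', mul_assoc, mul_comm (f s₁)]
  rw [show algebraMap (∀ i, R i) K = f from RingHom.ext hfA, hy2] at hev
  have h0 : f ((p.scaleRoots den).eval num) = 0 := by
    rw [← Polynomial.eval₂_at_apply, show f num = f den * (f num / f den) from (mul_div_cancel₀ _ hden).symm, Polynomial.scaleRoots_eval₂_mul, hev, mul_zero]
  rw [hf, RingHom.comp_apply, map_eq_zero_iff _ (IsFractionRing.injective (Localization.AtPrime P) K), IsLocalization.map_eq_zero_iff P.primeCompl] at h0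
  obtain ⟨⟨t, ht⟩, ht0⟩ := h0
  let E : Set ι := {i | den i ≠ 0 ∧ t i ≠ 0}
  have hz : ∀ i : E, ∃ z : R i, z * den i = num i := fun ⟨i, hdi, hti⟩ => by
    let F := FractionRing (R i)
    have hd : algebraMap (R i) F (den i) ≠ 0 := by simpa using hdi
    have hroot : (p.scaleRoots den).eval num i = 0 := by
      have := congrFun ht0 i
      exact (mul_eq_zero.1 this).resolve_left hti
    have hint : IsIntegral (R i) (algebraMap (R i) F (num i) / algebraMap (R i) F (den i)) := by
      refine ⟨p.map (Pi.evalRingHom R i), hp.map _, ?_⟩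
      rw [Polynomial.eval₂_map]
      have h1 : (p.scaleRoots den).eval₂ ((algebraMap (R i) F).comp (Pi.evalRingHom R i)) (algebraMap (R i) F (num i)) = 0 := by
        rw [← Pi.evalRingHom_apply R i num, ← RingHom.comp_apply, Polynomial.eval₂_at_apply, RingHom.comp_apply, Pi.evalRingHom_apply, hroot, map_zero]
      rw [show algebraMap (R i) F (num i) = ((algebraMap (R i) F).comp (Pi.evalRingHom R i)) den * (algebraMap (R i) F (num i) / algebraMap (R i) F (den i)) by
        simp [mul_div_cancel₀ _ hd], Polynomial.scaleRoots_eval₂_mul] at h1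
      exact (mul_eq_zero.1 h1).resolve_left (pow_ne_zero _ (by simpa using hd))
    obtain ⟨z, hz⟩ := IsIntegrallyClosed.algebraMap_eq_of_integral hint
    exact ⟨z, IsFractionRing.injective (R i) F (by rw [map_mul, hz, div_mul_cancel₀ _ hd])⟩
  choose z hz using hz
  let Z : (∀ i, R i) := fun i => if h : i ∈ E then z ⟨i, h⟩ else 0
  have hEP : ind E ∉ P := fun h => by
    have h1 : ∀ (r : (∀ i, R i)), algebraMap (∀ i, R i) (Localization.AtPrime P) r ≠ 0 → ind {i | r i = 0} ∈ P := fun r hr => by
      by_contra hc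
      exact hr (hmap hc (funext fun i => by by_cases hi : r i = 0 <;> simp [ind, hi]))
    have h2 := h1 den hbP
    have h3 := h1 t (IsLocalization.map_units (Localization.AtPrime P) ⟨t, ht⟩).ne_zero
    refine ‹P.IsPrime›.ne_top ((Ideal.eq_top_iff_one P).2 ?_)
    have e : (1 : (∀ i, R i)) = ind E + ind {i | den i = 0} + (1 - ind {i | den i = 0}) * ind {i | t i = 0} := by
      funext i
      by_cases hd : den i = 0 <;> by_cases hti : t i = 0 <;> simp [ind, E, hd, hti]
    rw [e]
    exact P.add_mem (P.add_mem h h2) (P.mul_mem_left _ h3)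
  have hZ : algebraMap (∀ i, R i) (Localization.AtPrime P) (Z * den - num) = 0 := hmap hEP (funext fun i => by
    by_cases hi : i ∈ E
    · simp [ind, Z, hi, hz ⟨i, hi⟩]
    · simp [ind, hi])
  refine ⟨IsLocalization.mk' _ Z ⟨s, hs⟩, ?_⟩
  have h4 : f Z * f den = f num := by
    rw [← sub_eq_zero, ← map_mul, ← map_sub, hf, RingHom.comp_apply, hZ, map_zero]
  simp only [num, den, map_mul] at h4 hden
  rw [hmk]
  rw [div_div_div_eq]
  show f Z / f s = f a * f s₂ / (f s₁ * f b)
  rw [div_eq_div_iff (hfs ⟨s, hs⟩) (mul_ne_zero (hfs s₁) (mul_ne_zero_iff.1 hden).1)]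
  linear_combination h4

end Groth.Agent.S13359
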