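import Groth.Statements.S13360
import Mathlib

set_option autoImplicit false
set_option backward.isDefEq.respectTransparency.types false
set_option maxHeartbeats 1000000
set_option linter.all false
universe u
open UltraProd

namespace Groth.Agent.S13360
open Groth.Agent

/-- If (R_i) is a nonempty family of valuation rings, then the localization of the product ring ∏ R_i at
any prime ideal is a valuation ring: a domain in which, of any two elements, one divides the other. -/
theorem result {ι : Type u} [Nonempty ι] (R : ι → Type u)
    [∀ i, CommRing (R i)] [∀ i, IsDomain (R i)] [∀ i, ValuationRing (R i)]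
    (P : Ideal (∀ i, R i)) [P.IsPrime] :
    IsDomain (Localization.AtPrime P) ∧ PreValuationRing (Localization.AtPrime P) := by
  classical
  have hu : ∀ e : (∀ i, R i), e * (1 - e) = 0 → IsUnit (algebraMap _ (Localization.AtPrime P) e) ∨ IsUnit (algebraMap _ (Localization.AtPrime P) (1 - e)) := by
    intro e he
    by_cases h : e ∈ P
    · exact Or.inr (IsLocalization.map_units (M := P.primeCompl) _ ⟨1 - e, fun h' => Ideal.IsPrime.ne_top' (P.eq_top_iff_one.2 (by simpa using P.add_mem h h'))⟩)
    · exact Or.inl (IsLocalization.map_units (M := P.primeCompl) _ ⟨e, h⟩)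
  let E : Set ι → (∀ i, R i) := fun s i => if i ∈ s then 1 else 0
  have hE : ∀ s, E s * (1 - E s) = 0 := by
    intro s
    funext i
    simp only [E, Pi.mul_apply, Pi.sub_apply, Pi.one_apply, Pi.zero_apply]
    split_ifs <;> simp
  refine ⟨?_, ?_⟩
  · haveI : NoZeroDivisors (Localization.AtPrime P) := by
      constructor
      intro x y hxy
      obtain ⟨a, s, rfl⟩ := IsLocalization.exists_mk'_eq P.primeCompl x
      obtain ⟨b, t, rfl⟩ := IsLocalization.exists_mk'_eq P.primeCompl y
      rw [← IsLocalization.mk'_mul, IsLocalization.mk'_eq_zero_iff] at hxy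
      obtain ⟨u, hu'⟩ := hxy
      set S := {i | (u : ∀ i, R i) i * a i = 0}
      rcases hu _ (hE S) with h | h
      · left
        rw [IsLocalization.mk'_eq_zero_iff]
        have h0 : E S * (u * a) = 0 := by
          funext i
          simp only [E, Pi.mul_apply, Pi.zero_apply]
          split_ifs with hi
          · rw [one_mul]; exact hi
          · simp
        have : E S * (u : ∀ i, R i) ∈ P.primeCompl := by
          intro hm
          have hnu : E S ∈ P := (Ideal.IsPrime.mem_or_mem inferInstance hm).resolve_right u.2
          exact (IsLocalization.AtPrime.to_map_mem_maximal_iff (Localization.AtPrime P) P (E S)).2 hnu h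
        exact ⟨⟨_, this⟩, by rw [mul_assoc]; exact h0⟩
      · right
        rw [IsLocalization.mk'_eq_zero_iff]
        have h0 : (1 - E S) * (u * b) = 0 := by
          funext i
          simp only [E, Pi.mul_apply, Pi.sub_apply, Pi.one_apply, Pi.zero_apply]
          split_ifs with hi
          · simp
          · have h1 := congrFun hu' i
            simp only [Pi.mul_apply, Pi.zero_apply, ← mul_assoc] at h1
            simp only [sub_zero, one_mul]
            have := (mul_eq_zero.1 h1).resolve_left hi
            rw [this, mul_zero]
        have : (1 - E S) * (u : ∀ i, R i) ∈ P.primeCompl := by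
          intro hm
          have hnu : (1 - E S) ∈ P := (Ideal.IsPrime.mem_or_mem inferInstance hm).resolve_right u.2
          exact (IsLocalization.AtPrime.to_map_mem_maximal_iff (Localization.AtPrime P) P _).2 hnu h
        exact ⟨⟨_, this⟩, by rw [mul_assoc]; exact h0⟩
    exact NoZeroDivisors.to_isDomain _
  · constructor
    intro x y
    obtain ⟨a, s, rfl⟩ := IsLocalization.exists_mk'_eq P.primeCompl x
    obtain ⟨b, t, rfl⟩ := IsLocalization.exists_mk'_eq P.primeCompl y
    have hc : ∀ i, ∃ c : R i, a i * c = b i ∨ b i * c = a i := fun i => by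
      obtain ⟨c, hc⟩ := ValuationRing.cond (a i) (b i)
      exact ⟨c, hc⟩
    choose c hc using hc
    set S := {i | a i * c i = b i}
    have us := IsLocalization.map_units (M := P.primeCompl) (Localization.AtPrime P) s
    have ut := IsLocalization.map_units (M := P.primeCompl) (Localization.AtPrime P) t
    rcases hu _ (hE S) with h | h
    · have h0 : E S * (a * c) = E S * b := by
        funext i
        simp only [E, Pi.mul_apply]
        split_ifs with hi
        · rw [show a i * c i = b i from hi]
        · simp
      have h1 := congrArg (algebraMap _ (Localization.AtPrime P)) h0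
      rw [map_mul, map_mul, map_mul, h.mul_right_inj] at h1
      refine ⟨algebraMap _ _ c * algebraMap _ _ (s : ∀ i, R i) * ↑ut.unit⁻¹, Or.inl ?_⟩
      rw [← mul_assoc, ← mul_assoc, mul_assoc (IsLocalization.mk' _ a s), mul_comm (algebraMap _ _ c), ← mul_assoc, IsLocalization.mk'_spec, h1, IsLocalization.eq_mk'_iff_mul_eq, mul_assoc, IsUnit.val_inv_mul, mul_one]
    · have h0 : (1 - E S) * (b * c) = (1 - E S) * a := by
        funext i
        simp only [E, Pi.mul_apply, Pi.sub_apply, Pi.one_apply]
        split_ifs with hi
        · simp
        · rw [show b i * c i = a i from (hc i).resolve_left hi]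
      have h1 := congrArg (algebraMap _ (Localization.AtPrime P)) h0
      rw [map_mul, map_mul, map_mul, h.mul_right_inj] at h1
      refine ⟨algebraMap _ _ c * algebraMap _ _ (t : ∀ i, R i) * ↑us.unit⁻¹, Or.inr ?_⟩
      rw [← mul_assoc, ← mul_assoc, mul_assoc (IsLocalization.mk' _ b t), mul_comm (algebraMap _ _ c), ← mul_assoc, IsLocalization.mk'_spec, h1, IsLocalization.eq_mk'_iff_mul_eq, mul_assoc, IsUnit.val_inv_mul, mul_one]

end Groth.Agent.S13360
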