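import Mathlib
import Groth.Statements.S13363
-- import your own Groth.Agent.* helpers here

set_option autoImplicit false
universe u
open ProCompl

namespace Groth.Agent.S13363

/-- Let A be a topological abelian group such that the subgroup n·A is open for each n > 0, and a ∈ A.
Then A has an open subgroup of finite index not containing a if and only if a does not lie in the
subgroup of divisible elements ∩_n nA. -/
theorem result {A : Type u} [AddCommGroup A]
    [TopologicalSpace A] [IsTopologicalAddGroup A]
    (hn : ∀ n : ℕ, 0 < n → IsOpen (Set.range (fun x : A => n • x))) (a : A) :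
    (∃ B : AddSubgroup A, IsOpen (B : Set A) ∧ B.FiniteIndex ∧ a ∉ B) ↔
      ¬ (∀ n : ℕ, 0 < n → ∃ b : A, n • b = a) := by
  constructor
  · rintro ⟨B, -, hfi, haB⟩ hdiv
    haveI := hfi
    obtain ⟨b, hb⟩ := hdiv B.index (Nat.pos_of_ne_zero AddSubgroup.FiniteIndex.index_ne_zero)
    exact haB (hb ▸ B.nsmul_index_mem b)
  · intro h
    push Not at h
    obtain ⟨n, hn0, hna⟩ := h
    let N : AddSubgroup A := (nsmulAddMonoidHom n : A →+ A).range
    have hne : (QuotientAddGroup.mk a : A ⧸ N) ≠ 0 := by
      rw [ne_eq, QuotientAddGroup.eq_zero_iff]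
      rintro ⟨b, hb⟩
      exact hna b hb
    obtain ⟨c, hc⟩ := CharacterModule.exists_character_apply_ne_zero_of_ne_zero hne
    let χ : A →+ AddCircle (1 : ℚ) := (c : (A ⧸ N) →+ AddCircle (1 : ℚ)).comp (QuotientAddGroup.mk' N)
    have hN : (N : Set A) ⊆ χ.ker := fun x hx => by
      show c (QuotientAddGroup.mk x : A ⧸ N) = 0
      rw [(QuotientAddGroup.eq_zero_iff x).2 hx]
      exact map_zero c
    refine ⟨χ.ker, AddSubgroup.isOpen_mono (H₁ := N) hN ?_, ?_, hc⟩
    · exact hn n hn0
    · have hfin : (χ.range : Set (AddCircle (1 : ℚ))).Finite := by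
        refine (AddCircle.finite_torsion (1 : ℚ) hn0).subset ?_
        rintro _ ⟨x, rfl⟩
        show n • χ x = 0
        rw [← map_nsmul]
        exact hN ⟨x, rfl⟩
      haveI : Finite χ.range := hfin.to_subtype
      haveI : Finite (A ⧸ χ.ker) := Finite.of_equiv χ.range (QuotientAddGroup.quotientKerEquivRange χ).symm.toEquiv
      exact AddSubgroup.finiteIndex_of_finite_quotient

end Groth.Agent.S13363
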