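import Mathlib
import Groth.Statements.S13366
import Groth.Agent.Lib.H4FrobLang
-- import your own Groth.Agent.* helpers here

set_option autoImplicit false
universe u v
open FrobMod

namespace Groth.Agent.S13366

/-- Over a strictly Henselian local ring R of prime characteristic p (Henselian, separably closed
residue field), let M be a free module of finite rank n and T an additive Frobenius-semilinear
self-map of M (T(rm) = r^p T(m)) whose values generate M as an R-module; for a basis (e_i) this says
that the matrix of coefficients of the elements T(e_i) is invertible. Then the map T − 1 is
surjective and its kernel has cardinality p^n. (The published statement calls T a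
Frobenius-semilinear isomorphism; this row asks only that the values of T generate M over R, which
is the property of T the published proof uses. Requiring T itself to be bijective would, for M ≠ 0,
force the Frobenius of R to be surjective.) -/
theorem result (p : ℕ) [Fact p.Prime] {R : Type u} [CommRing R]
    [HenselianLocalRing R] [IsSepClosed (IsLocalRing.ResidueField R)] [CharP R p]
    {M : Type v} [AddCommGroup M] [Module R M] [Module.Free R M] [Module.Finite R M]
    (T : M →+ M) (hT : ∀ (r : R) (m : M), T (r • m) = r ^ p • T m)
    (hspan : Submodule.span R (Set.range T) = ⊤) :
    Function.Surjective (fun m => T m - m) ∧ Nat.card {m : M // T m = m} = p ^ Module.finrank R M := by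
  classical
  let b := Module.finBasis R M
  obtain ⟨A, hA, hTA⟩ := H4FrobLang.exists_matrix p T hT hspan b b.span_eq fun c hc i => by
    rw [Fintype.linearIndependent_iff.mp b.linearIndependent c hc i]
    exact zero_mem _
  have key : ∀ x : Fin (Module.finrank R M) → R,
      T (b.equivFun.symm x) = b.equivFun.symm (H4FrobLang.act p A x) := fun x => by
    rw [b.equivFun_symm_apply, b.equivFun_symm_apply]
    exact hTA x
  refine ⟨fun m => ?_, ?_⟩
  · obtain ⟨x, hx⟩ := H4FrobLang.surjective_free p hA (b.equivFun m)
    refine ⟨b.equivFun.symm x, ?_⟩
    show T (b.equivFun.symm x) - b.equivFun.symm x = m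
    rw [key, ← map_sub, hx, LinearEquiv.symm_apply_apply]
  · rw [← H4FrobLang.card_fixed p hA]
    exact Nat.card_congr (Equiv.subtypeEquiv b.equivFun.toEquiv fun m => by
      obtain ⟨x, rfl⟩ := b.equivFun.symm.surjective m
      simp only [LinearEquiv.coe_toEquiv, LinearEquiv.apply_symm_apply, key, EmbeddingLike.apply_eq_iff_eq])

end Groth.Agent.S13366
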