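import Mathlib
import Groth.Statements.S13367
import Groth.Agent.Lib.H4FrobLang
-- import your own Groth.Agent.* helpers here

set_option autoImplicit false
universe u v
open FrobMod

namespace Groth.Agent.S13367

/-- Over a strictly Henselian discrete valuation ring R of prime characteristic p with residue field κ,
for a finitely generated module M with n = dim_κ(κ ⊗ M) and a Frobenius-semilinear additive
bijection T of M (T(rm) = r^p T(m)), the map T − 1 is surjective and its kernel has cardinality p^n. -/
theorem result (p : ℕ) [Fact p.Prime] {R : Type u} [CommRing R] [IsDomain R]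
    [IsDiscreteValuationRing R] [HenselianLocalRing R] [IsSepClosed (IsLocalRing.ResidueField R)] [CharP R p]
    {M : Type v} [AddCommGroup M] [Module R M] [Module.Finite R M]
    (T : M →+ M) (hT : ∀ (r : R) (m : M), T (r • m) = r ^ p • T m) (hbij : Function.Bijective T) :
    Function.Surjective (fun m => T m - m) ∧
      Nat.card {m : M // T m = m} =
        p ^ Module.finrank (IsLocalRing.ResidueField R) (TensorProduct R (IsLocalRing.ResidueField R) M) := by
  classical
  have hspan : Submodule.span R (Set.range T) = ⊤ := by rw [hbij.2.range_eq, Submodule.span_univ]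
  let κ := IsLocalRing.ResidueField R
  let b := Module.finBasis κ (TensorProduct R κ M)
  choose g hg using fun i => TensorProduct.mk_surjective R M κ IsLocalRing.residue_surjective (b i)
  have hg' : Submodule.span R (Set.range g) = ⊤ := by
    rw [← IsLocalRing.map_tensorProduct_mk_eq_top, Submodule.map_span, ← Set.range_comp,
      show (TensorProduct.mk R κ M 1 : M → TensorProduct R κ M) ∘ g = b from funext hg,
      ← Submodule.coe_eq_univ]
    have hs := Submodule.restrictScalars_span R κ IsLocalRing.residue_surjective (Set.range b)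
    rw [b.span_eq] at hs
    rw [← hs]
    rfl
  have hres : ∀ c : Fin (Module.finrank κ (TensorProduct R κ M)) → R, ∑ i, c i • g i = 0 → ∀ i, c i ∈ IsLocalRing.maximalIdeal R := fun c hc i => by
    have h1 := congrArg (TensorProduct.mk R κ M 1) hc
    rw [map_zero, map_sum] at h1
    simp only [map_smul, hg] at h1
    have h2 := Fintype.linearIndependent_iff.mp b.linearIndependent (fun i => IsLocalRing.residue R (c i))
      (by rw [← h1]; exact Finset.sum_congr rfl fun i _ => (algebraMap_smul κ (c i) (b i))) i
    exact (IsLocalRing.residue_eq_zero_iff _).mp h2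
  obtain ⟨A, hA, hTA⟩ := H4FrobLang.exists_matrix p T hT hspan g hg' hres
  have hsurj : ∀ m : M, ∃ x : Fin _ → R, ∑ i, x i • g i = m := fun m =>
    (Submodule.mem_span_range_iff_exists_fun R).mp (hg' ▸ trivial)
  refine ⟨fun m => ?_, ?_⟩
  · obtain ⟨c, rfl⟩ := hsurj m
    obtain ⟨x, hx⟩ := H4FrobLang.surjective_free p hA c
    refine ⟨∑ i, x i • g i, ?_⟩
    show T (∑ i, x i • g i) - ∑ i, x i • g i = _
    rw [hTA, ← Finset.sum_sub_distrib]
    exact Finset.sum_congr rfl fun i _ => by rw [← sub_smul, ← Pi.sub_apply, hx]
  rw [← H4FrobLang.card_fixed p hA]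
  refine (Nat.card_eq_of_bijective (fun x => ⟨∑ i, x.1 i • g i, by rw [hTA, x.2]⟩) ⟨fun x y h => ?_, fun z => ?_⟩).symm
  · refine Subtype.ext (sub_eq_zero.mp (H4FrobLang.eq_zero_of_fixed p (A := A) ?_ ?_))
    · haveI := H4FrobLang.charP_residue p (R := R)
      calc H4FrobLang.act p A (x.1 - y.1) = H4FrobLang.act p A x.1 - H4FrobLang.act p A y.1 := by
            simp only [H4FrobLang.act, Pi.sub_apply, sub_pow_char]; exact Matrix.mulVec_sub A _ _
        _ = _ := by rw [x.2, y.2]
    · refine hres _ ?_
      simp only [Pi.sub_apply, sub_smul, Finset.sum_sub_distrib, sub_eq_zero]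
      exact congrArg Subtype.val h
  · obtain ⟨x₀, hx₀⟩ := hsurj z.1
    have hz : H4FrobLang.act p (A.map (IsLocalRing.residue R)) (fun i => IsLocalRing.residue R (x₀ i)) =
        fun i => IsLocalRing.residue R (x₀ i) := by
      rw [← H4FrobLang.residue_act p (A := A)]
      refine funext fun i => sub_eq_zero.mp ?_
      rw [← map_sub]
      refine (IsLocalRing.residue_eq_zero_iff _).mpr (hres (fun i => H4FrobLang.act p A x₀ i - x₀ i) ?_ i)
      simp only [sub_smul, Finset.sum_sub_distrib, ← hTA, hx₀, z.2, sub_self]
    obtain ⟨x, hx, hxz⟩ := H4FrobLang.exists_fixed_lift p hA _ hz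
    refine ⟨⟨x, hx⟩, Subtype.ext ?_⟩
    show ∑ i, x i • g i = z.1
    let I := IsLocalRing.maximalIdeal R
    have hTI : ∀ (k : ℕ) (w : M), w ∈ (I ^ k • ⊤ : Submodule R M) → T w ∈ (I ^ (p * k) • ⊤ : Submodule R M) := by
      intro k w hw
      induction hw using Submodule.smul_induction_on' with
      | smul r hr m _ =>
        rw [hT, mul_comm, pow_mul]
        exact Submodule.smul_mem_smul (Ideal.pow_mem_pow hr p) trivial
      | add a _ b _ ha hb => rw [map_add]; exact add_mem ha hb
    rw [← sub_eq_zero, ← Submodule.mem_bot R,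
      ← Ideal.iInf_pow_smul_eq_bot_of_le_jacobson (M := M) I (IsLocalRing.maximalIdeal_le_jacobson _), Submodule.mem_iInf]
    set w := ∑ i, x i • g i - z.1 with hw
    have hfix : T w = w := by rw [hw, map_sub, hTA, hx, z.2]
    intro k
    induction k with
    | zero => rw [pow_zero, Ideal.one_eq_top, Submodule.top_smul]; trivial
    | succ k ih =>
      rcases Nat.eq_zero_or_pos k with rfl | hk
      · rw [hw, ← hx₀, ← Finset.sum_sub_distrib, pow_one]
        refine sum_mem fun i _ => ?_
        rw [← sub_smul]
        refine Submodule.smul_mem_smul ((IsLocalRing.residue_eq_zero_iff _).mp ?_) trivial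
        rw [map_sub, hxz, sub_self]
      · rw [← hfix]
        refine Submodule.smul_mono_left (Ideal.pow_le_pow_right ?_) (hTI k w ih)
        have := (Fact.out : p.Prime).two_le
        nlinarith

end Groth.Agent.S13367
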