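import Groth.Statements.S13373
import Mathlib
import Groth.Agent.Lib.H8TruncExp

set_option autoImplicit false
universe u
open GaDual

namespace Groth.Agent.S13373

section
variable {A : Type u} [CommRing A]

theorem coeff_subst_two (t : MvPowerSeries (Fin 2) A) (ht : MvPowerSeries.constantCoeff t = 0)
    (χ : PowerSeries A) (m : ℕ) (d : Fin 2 →₀ ℕ) (hd : d 0 + d 1 < m) :
    MvPowerSeries.coeff d (PowerSeries.subst t χ) =
      MvPowerSeries.coeff d (Polynomial.aeval t (PowerSeries.trunc m χ)) := by
  classical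
  have hs : PowerSeries.HasSubst t := PowerSeries.HasSubst.of_constantCoeff_zero ht
  rw [← PowerSeries.subst_coe hs, PowerSeries.coeff_subst hs, PowerSeries.coeff_subst hs]
  refine finsum_congr fun e => ?_
  by_cases he : e < m
  · rw [Polynomial.coeff_coe, PowerSeries.coeff_trunc, if_pos he]
  · have hz : MvPowerSeries.coeff d (t ^ e) = 0 := by
      refine MvPowerSeries.coeff_of_lt_order ?_
      refine lt_of_lt_of_le ?_ (MvPowerSeries.le_order_pow_of_constantCoeff_eq_zero e ht)
      rw [Finsupp.degree_eq_sum, Fin.sum_univ_two]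
      exact_mod_cast (by omega : d 0 + d 1 < e)
    rw [hz, smul_zero, smul_zero]

theorem coeff_coe_aeval (P : Polynomial A) (t : MvPolynomial (Fin 2) A) (d : Fin 2 →₀ ℕ) :
    MvPowerSeries.coeff d (Polynomial.aeval (t : MvPowerSeries (Fin 2) A) P) =
      MvPolynomial.coeff d (Polynomial.aeval t P) := by
  rw [← MvPolynomial.coeff_coe]
  congr 1
  exact (Polynomial.aeval_algHom_apply (MvPolynomial.coeToMvPowerSeries.algHom A) t P).trans rfl

end

/-- Over a commutative algebra A of prime characteristic p, the formal characters (power series χ with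
constant term 1 and χ(X+Y) = χ(X)χ(Y)) are exactly the infinite products ∏_n exp_p(a_n X^(p^n)) with
a_n^p = 0, where exp_p(Y) = Σ_{j<p} Y^j/j!; the infinite product is expressed through its
truncations: χ mod X^(p^m) equals the finite product over n < m. -/
theorem result (p : ℕ) [Fact p.Prime] (A : Type u) [CommRing A] [CharP A p]
    (χ : PowerSeries A) :
    (PowerSeries.constantCoeff χ = 1 ∧
      PowerSeries.subst (MvPowerSeries.X 0 + MvPowerSeries.X 1 : MvPowerSeries (Fin 2) A) χ =
        PowerSeries.subst (MvPowerSeries.X 0 : MvPowerSeries (Fin 2) A) χ *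
          PowerSeries.subst (MvPowerSeries.X 1 : MvPowerSeries (Fin 2) A) χ) ↔
      ∃ a : ℕ → A, (∀ n, a n ^ p = 0) ∧ ∀ m : ℕ,
        PowerSeries.trunc (p ^ m) χ = ∏ n ∈ Finset.range m, ∑ j ∈ Finset.range p,
          Polynomial.C (Ring.inverse (j.factorial : A) * a n ^ j) * Polynomial.X ^ (j * p ^ n) := by
  classical
  letI := ZMod.algebra A p
  have hp2 := (Fact.out : p.Prime).two_le
  have hX : ∀ i : Fin 2, MvPowerSeries.constantCoeff (MvPowerSeries.X i : MvPowerSeries (Fin 2) A) = 0 :=
    fun i => MvPowerSeries.constantCoeff_X i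
  have hS : MvPowerSeries.constantCoeff
      (MvPowerSeries.X 0 + MvPowerSeries.X 1 : MvPowerSeries (Fin 2) A) = 0 := by
    rw [map_add, hX, hX, add_zero]
  have cS : ∀ (P : Polynomial A) (d : Fin 2 →₀ ℕ),
      MvPowerSeries.coeff d (Polynomial.aeval (MvPowerSeries.X 0 + MvPowerSeries.X 1 : MvPowerSeries (Fin 2) A) P) =
        MvPolynomial.coeff d (Polynomial.aeval (MvPolynomial.X 0 + MvPolynomial.X 1 : MvPolynomial (Fin 2) A) P) := by
    intro P d
    rw [← coeff_coe_aeval, MvPolynomial.coe_add, MvPolynomial.coe_X, MvPolynomial.coe_X]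
  have cX : ∀ (i : Fin 2) (P : Polynomial A) (d : Fin 2 →₀ ℕ),
      MvPowerSeries.coeff d (Polynomial.aeval (MvPowerSeries.X i : MvPowerSeries (Fin 2) A) P) =
        MvPolynomial.coeff d (Polynomial.aeval (MvPolynomial.X i : MvPolynomial (Fin 2) A) P) := by
    intro i P d
    rw [← coeff_coe_aeval, MvPolynomial.coe_X]
  -- coefficients of the two sides only depend on truncations
  have hL : ∀ (m : ℕ) (d : Fin 2 →₀ ℕ), d 0 + d 1 < m →
      MvPowerSeries.coeff d (PowerSeries.subst (MvPowerSeries.X 0 + MvPowerSeries.X 1 : MvPowerSeries (Fin 2) A) χ) =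
      MvPolynomial.coeff d (Polynomial.aeval (MvPolynomial.X 0 + MvPolynomial.X 1 : MvPolynomial (Fin 2) A)
        (PowerSeries.trunc m χ)) := fun m d hd => by
    rw [coeff_subst_two _ hS χ m d hd, cS]
  have hR : ∀ (m : ℕ) (d : Fin 2 →₀ ℕ), d 0 < m → d 1 < m →
      MvPowerSeries.coeff d (PowerSeries.subst (MvPowerSeries.X 0 : MvPowerSeries (Fin 2) A) χ *
        PowerSeries.subst (MvPowerSeries.X 1 : MvPowerSeries (Fin 2) A) χ) =
      MvPolynomial.coeff d (Polynomial.aeval (MvPolynomial.X 0 : MvPolynomial (Fin 2) A) (PowerSeries.trunc m χ) *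
        Polynomial.aeval (MvPolynomial.X 1 : MvPolynomial (Fin 2) A) (PowerSeries.trunc m χ)) := by
    intro m d h0 h1
    rw [MvPowerSeries.coeff_mul, MvPolynomial.coeff_mul]
    refine Finset.sum_congr rfl fun x hx => ?_
    rw [Finset.HasAntidiagonal.mem_antidiagonal] at hx
    have e0 := DFunLike.congr_fun hx 0
    have e1 := DFunLike.congr_fun hx 1
    simp only [Finsupp.add_apply] at e0 e1
    have key : ∀ (i : Fin 2) (y : Fin 2 →₀ ℕ), y i < m →
        MvPowerSeries.coeff y (PowerSeries.subst (MvPowerSeries.X i : MvPowerSeries (Fin 2) A) χ) =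
        MvPolynomial.coeff y (Polynomial.aeval (MvPolynomial.X i : MvPolynomial (Fin 2) A) (PowerSeries.trunc m χ)) := by
      intro i y hy
      rw [← cX, ← PowerSeries.subst_coe (PowerSeries.HasSubst.X i), PowerSeries.coeff_subst (PowerSeries.HasSubst.X i),
        PowerSeries.coeff_subst (PowerSeries.HasSubst.X i)]
      refine finsum_congr fun e => ?_
      by_cases he : e < m
      · rw [Polynomial.coeff_coe, PowerSeries.coeff_trunc, if_pos he]
      · rw [MvPowerSeries.coeff_X_pow, if_neg (fun h => he (by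
          have := DFunLike.congr_fun h i; simp at this; omega)), smul_zero, smul_zero]
    rw [key 0 x.1 (by omega), key 1 x.2 (by omega)]
  constructor
  · rintro ⟨h0, hmul⟩
    have hmain : ∀ m, (∀ i < m, PowerSeries.coeff (p ^ i) χ ^ p = 0) ∧
        PowerSeries.trunc (p ^ m) χ =
          ∏ i ∈ Finset.range m, Polynomial.expand A (p ^ i) (H8TruncExp.expP p (PowerSeries.coeff (p ^ i) χ)) := by
      intro m
      have hm : 0 < p ^ m := pow_pos (by omega) m
      set f := PowerSeries.trunc (p ^ m) χ with hf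
      have hf0 : f.coeff 0 = 1 := by
        rw [hf, PowerSeries.coeff_trunc, if_pos hm, PowerSeries.coeff_zero_eq_constantCoeff, h0]
      have hfd : f.natDegree < p ^ m := by
        refine Polynomial.natDegree_lt_iff_degree_lt ?_ |>.mpr (PowerSeries.degree_trunc_lt _ _)
        intro h
        rw [h, Polynomial.coeff_zero] at hf0
        exact (CharP.nontrivial_of_char_ne_one (R := A) (v := p) (by omega)).exists_pair_ne.elim
          fun x ⟨y, hxy⟩ => hxy (eq_of_zero_eq_one hf0 x y)
      have hbox : Polynomial.aeval (MvPolynomial.X 0 + MvPolynomial.X 1 : MvPolynomial (Fin 2) A) f -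
          Polynomial.aeval (MvPolynomial.X 0 : MvPolynomial (Fin 2) A) f *
            Polynomial.aeval (MvPolynomial.X 1 : MvPolynomial (Fin 2) A) f ∈
          Ideal.span {(MvPolynomial.X 0 ^ p ^ m : MvPolynomial (Fin 2) A), MvPolynomial.X 1 ^ p ^ m} := by
        rw [H8TruncExp.mem_box_iff]
        intro d hd0 hd1
        rw [MvPolynomial.coeff_sub, ← hR (p ^ m) d hd0 hd1, ← hmul, sub_eq_zero]
        by_cases hlt : d 0 + d 1 < p ^ m
        · exact (hL _ _ hlt).symm
        · rw [H8SymCoc.coeff_aeval_add, hf, PowerSeries.coeff_trunc, if_neg hlt, zero_mul,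
            hL (2 * p ^ m) d (by omega), H8SymCoc.coeff_aeval_add]
          suffices ((d 0 + d 1).choose (d 0) : A) = 0 by rw [this, mul_zero]
          rw [CharP.cast_eq_zero_iff A p]
          obtain ⟨r, hr⟩ : ∃ r, d 0 + d 1 = p ^ m + r ∧ r < d 0 :=
            ⟨d 0 + d 1 - p ^ m, by omega, by omega⟩
          have hz : ((Polynomial.X : Polynomial (ZMod p)) + 1) ^ (d 0 + d 1) =
              (Polynomial.X ^ p ^ m + 1) * (Polynomial.X + 1) ^ r := by
            rw [hr.1, pow_add, add_pow_char_pow, one_pow]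
          have hc := congrArg (fun P => Polynomial.coeff P (d 0)) hz
          rw [Polynomial.coeff_X_add_one_pow, add_mul, one_mul, Polynomial.coeff_add,
            Polynomial.coeff_X_pow_mul', if_neg (by omega), zero_add, Polynomial.coeff_X_add_one_pow,
            Nat.choose_eq_zero_of_lt hr.2, Nat.cast_zero] at hc
          exact (ZMod.natCast_eq_zero_iff _ _).mp hc
      obtain ⟨hz, hprod⟩ := H8TruncExp.char_eq_prod p m f hfd hf0 hbox
      have hco : ∀ i < m, f.coeff (p ^ i) = PowerSeries.coeff (p ^ i) χ := fun i hi => by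
        rw [hf, PowerSeries.coeff_trunc, if_pos (Nat.pow_lt_pow_right (by omega) hi)]
      exact ⟨fun i hi => hco i hi ▸ hz i hi,
        hprod.trans (Finset.prod_congr rfl fun i hi => by rw [hco i (Finset.mem_range.mp hi)])⟩
    refine ⟨fun i => PowerSeries.coeff (p ^ i) χ, fun i => (hmain (i + 1)).1 i (Nat.lt_succ_self i), fun m => ?_⟩
    exact (hmain m).2.trans (Finset.prod_congr rfl fun i _ => (H8TruncExp.factor_eq p _ i).symm)
  · rintro ⟨a, ha, htr⟩
    simp only [H8TruncExp.factor_eq] at htr
    constructor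
    · have h := congrArg (fun P => Polynomial.coeff P 0) (htr 0)
      simp only [pow_zero, PowerSeries.coeff_trunc, Nat.lt_one_iff, if_true, Finset.range_zero,
        Finset.prod_empty, Polynomial.coeff_one_zero, PowerSeries.coeff_zero_eq_constantCoeff] at h
      exact h
    · ext d
      have hm : d 0 + d 1 < p ^ (d 0 + d 1) := Nat.lt_pow_self (by omega)
      rw [hR (p ^ (d 0 + d 1)) d (by omega) (by omega), hL _ d hm, htr]
      rw [(H8TruncExp.prod_isChar p _ a ha).2]

end Groth.Agent.S13373
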