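import Groth.Statements.S13386
import Mathlib

set_option autoImplicit false
universe u
open scoped TensorProduct
open ZeroCyc

namespace Groth.Agent.S13386

/-- Let A' = T⁻¹A be a localization of the ring A, M an A-module and M' = A' ⊗_A M. In the divided power
algebra Γ_{A'}(M') the A'-span of the d-th divided powers γ_d(1 ⊗ m), m ∈ M, is the A'-span of
γ_d(M'). (The published statement phrases this as the surjectivity of the natural map from (γ_d(M))
⊗_A A' onto (γ_d(M')); its further clause through the base-change isomorphism Γ_A(M) ⊗_A A' ≅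
Γ_{A'}(M') is not restated here.) -/
theorem result {A A' M : Type u} [CommRing A] [CommRing A']
    [Algebra A A'] (T : Submonoid A) [IsLocalization T A'] [AddCommGroup M] [Module A M] (d : ℕ) :
    Submodule.span A' (Set.range fun m : M => DividedPowerAlgebra.dp A' d ((1 : A') ⊗ₜ[A] m)) =
      Submodule.span A' (Set.range (DividedPowerAlgebra.dp A' d (M := A' ⊗[A] M))) := by
  refine le_antisymm (Submodule.span_mono (by rintro _ ⟨m, rfl⟩; exact ⟨_, rfl⟩)) ?_
  rw [Submodule.span_le]
  rintro _ ⟨x, rfl⟩
  haveI : IsLocalizedModule T (TensorProduct.mk A A' M 1) :=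
    (isLocalizedModule_iff_isBaseChange T A' _).mpr (TensorProduct.isBaseChange A M A')
  obtain ⟨⟨m, t⟩, hx⟩ := IsLocalizedModule.surj T (TensorProduct.mk A A' M 1) x
  obtain ⟨u, hu⟩ := (IsLocalization.map_units A' t).exists_left_inv
  have : x = u • ((1 : A') ⊗ₜ[A] m) := by
    have hx' : (algebraMap A A' t) • x = (1 : A') ⊗ₜ[A] m := by
      rw [algebraMap_smul]; exact hx
    rw [← hx', smul_smul, hu, one_smul]
  rw [this, DividedPowerAlgebra.dp_smul]
  exact Submodule.smul_mem _ _ (Submodule.subset_span ⟨m, rfl⟩)

end Groth.Agent.S13386
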