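import Groth.Statements.S13387
import Mathlib

set_option autoImplicit false
universe u
open ZeroCyc

namespace Groth.Agent.S13387

theorem dp_local_big {A M : Type u} [CommRing A] [AddCommGroup M] [Module A M] (d : ℕ) (p : Ideal A) [p.IsPrime]
    (a : Fin d → A) (ha : ∀ i j, i ≠ j → a i - a j ∉ p) : ∀ (n : ℕ) (k : Fin n → ℕ) (m : Fin n → M), ∑ i, k i = d →
      ∃ s : A, s ∉ p ∧ s • ∏ i, DividedPowerAlgebra.dp A (k i) (m i) ∈
        Submodule.span A (Set.range (DividedPowerAlgebra.dp A d : M → DividedPowerAlgebra A M)) := by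
  classical
  let V := Submodule.span A (Set.range (DividedPowerAlgebra.dp A d : M → DividedPowerAlgebra A M))
  have h1 : (1 : A) ∉ p := fun h => ‹p.IsPrime›.ne_top ((Ideal.eq_top_iff_one p).mpr h)
  intro n
  induction n with
  | zero =>
    intro k m hk
    refine ⟨1, h1, ?_⟩
    rw [one_smul]
    refine Submodule.subset_span ⟨0, ?_⟩
    have hd : d = 0 := by simpa using hk.symm
    simp [hd, DividedPowerAlgebra.dp_zero]
  | succ n ih =>
    intro k m hk
    cases n with
    | zero =>
      refine ⟨1, h1, ?_⟩
      rw [one_smul]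
      refine Submodule.subset_span ⟨m 0, ?_⟩
      have : k 0 = d := by simpa using hk
      simp [this]
    | succ n =>
      let R : DividedPowerAlgebra A M := ∏ i : Fin n, DividedPowerAlgebra.dp A (k i.succ.succ) (m i.succ.succ)
      let e := k 0 + k 1
      have hed : e + ∑ i : Fin n, k i.succ.succ = d := by
        rw [← hk, Fin.sum_univ_succ, Fin.sum_univ_succ]
        simp [e, add_assoc]
      have hone : ∀ y : M, ∃ s : A, s ∉ p ∧ s • (DividedPowerAlgebra.dp A e y * R) ∈ V := by
        intro y
        obtain ⟨s, hs, hmem⟩ := ih (Fin.cons e fun i => k i.succ.succ) (Fin.cons y fun i => m i.succ.succ)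
          (by rw [Fin.sum_univ_succ]; simpa using hed)
        rw [Fin.prod_univ_succ] at hmem
        exact ⟨s, hs, by simpa [R] using hmem⟩
      let T : ℕ → DividedPowerAlgebra A M := fun i => DividedPowerAlgebra.dp A (e - i) (m 0) * DividedPowerAlgebra.dp A i (m 1) * R
      have hexp : ∀ c : A, DividedPowerAlgebra.dp A e (m 0 + c • m 1) * R = ∑ i ∈ Finset.range (e + 1), c ^ i • T i := by
        intro c
        rw [DividedPowerAlgebra.dp_add,
          Finset.Nat.sum_antidiagonal_eq_sum_range_succ (fun i j => DividedPowerAlgebra.dp A i (m 0) * DividedPowerAlgebra.dp A j (c • m 1)),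
          ← Finset.sum_range_reflect, Finset.sum_mul]
        refine Finset.sum_congr rfl fun i hi => ?_
        have : i ≤ e := Nat.lt_succ_iff.mp (Finset.mem_range.mp hi)
        rw [show e + 1 - 1 - i = e - i by omega, show e - (e - i) = i by omega, DividedPowerAlgebra.dp_smul]
        simp [T, mul_smul_comm, smul_mul_assoc]
      have hle : e ≤ d := by omega
      let aa : Fin e → A := fun j => a (Fin.castLE hle j)
      choose s hs hmem using fun j : Fin e => hone (m 0 + aa j • m 1)
      obtain ⟨sE, hsE, hmemE⟩ := hone (m 1)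
      let S := (∏ j, s j) * sE
      have hS : S ∉ p := by
        intro h
        rcases ‹p.IsPrime›.mem_or_mem h with h | h
        · obtain ⟨j, -, hj⟩ := Ideal.IsPrime.prod_mem_iff.mp h
          exact hs j hj
        · exact hsE h
      have hTe : T e = DividedPowerAlgebra.dp A e (m 1) * R := by simp [T, DividedPowerAlgebra.dp_zero]
      have hSj : ∀ j : Fin e, S • ∑ i : Fin e, (Matrix.vandermonde aa) j i • T i ∈ V := by
        intro j
        have h2 : ∑ i : Fin e, (Matrix.vandermonde aa) j i • T i =
            DividedPowerAlgebra.dp A e (m 0 + aa j • m 1) * R - aa j ^ e • T e := by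
          rw [hexp, Finset.sum_range_succ, add_sub_cancel_right, ← Fin.sum_univ_eq_sum_range (fun i => aa j ^ i • T i) e]
          rfl
        rw [h2, smul_sub, smul_comm S, hTe]
        refine sub_mem ?_ (Submodule.smul_mem _ _ ?_)
        · obtain ⟨c, hc⟩ : s j ∣ S := Dvd.dvd.mul_right (Finset.dvd_prod_of_mem s (Finset.mem_univ j)) _
          rw [hc, mul_comm, mul_smul]
          exact Submodule.smul_mem _ _ (hmem j)
        · simp only [S, mul_smul]
          exact Submodule.smul_mem _ _ hmemE
      let W := Matrix.vandermonde aa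
      have hdet : W.det ∉ p := by
        rw [Matrix.det_vandermonde]
        intro h
        obtain ⟨i, -, hi⟩ := Ideal.IsPrime.prod_mem_iff.mp h
        obtain ⟨j, hj, hij⟩ := Ideal.IsPrime.prod_mem_iff.mp hi
        exact ha _ _ (fun hc => (ne_of_gt (Finset.mem_Ioi.mp hj)) (Fin.castLE_injective hle hc)) hij
      have hall : ∀ i : Fin e, (W.det * S) • T i ∈ V := by
        intro i
        have h3 : W.det • T i = ∑ j, W.adjugate i j • ∑ l, W j l • T l := by
          simp only [Finset.smul_sum, smul_smul]
          rw [Finset.sum_comm]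
          simp only [← Finset.sum_smul]
          have : ∀ l, ∑ j, W.adjugate i j * W j l = (W.adjugate * W) i l := fun l => rfl
          simp only [this, Matrix.adjugate_mul, Matrix.smul_apply, Matrix.one_apply, smul_eq_mul, mul_ite, mul_one, mul_zero,
            ite_smul, zero_smul, Finset.sum_ite_eq, Finset.mem_univ, if_true]
        rw [mul_comm, mul_smul, h3, Finset.smul_sum]
        refine Submodule.sum_mem _ fun j _ => ?_
        rw [smul_comm]
        exact Submodule.smul_mem _ _ (hSj j)
      have hprod : ∏ i, DividedPowerAlgebra.dp A (k i) (m i) = T (k 1) := by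
        rw [Fin.prod_univ_succ, Fin.prod_univ_succ]
        simp [T, R, e, mul_assoc]
      rw [hprod]
      by_cases hlt : k 1 < e
      · exact ⟨W.det * S, fun h => (‹p.IsPrime›.mem_or_mem h).elim hdet hS, hall ⟨k 1, hlt⟩⟩
      · rw [show k 1 = e by omega, hTe]
        exact ⟨sE, hsE, hmemE⟩

theorem span_dp_eq {A M : Type u} [CommRing A] [AddCommGroup M] [Module A M] (d : ℕ)
    (h : ∀ p : PrimeSpectrum A, (d : Cardinal) ≤ Cardinal.mk p.asIdeal.ResidueField ∨
      ∃ x : LocalizedModule p.asIdeal.primeCompl M, Submodule.span (Localization.AtPrime p.asIdeal) {x} = ⊤) :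
    Submodule.span A (Set.range (DividedPowerAlgebra.dp A d : M → DividedPowerAlgebra A M)) =
      PolLaw.gammaPiece A M d := by
  classical
  refine le_antisymm (Submodule.span_le.mpr ?_) (Submodule.span_le.mpr ?_)
  · rintro _ ⟨m, rfl⟩
    exact Submodule.subset_span ⟨1, fun _ => d, fun _ => m, by simp, by simp⟩
  rintro _ ⟨n, k, m, hk, rfl⟩
  let V := Submodule.span A (Set.range (DividedPowerAlgebra.dp A d : M → DividedPowerAlgebra A M))
  let I : Ideal A := V.comap (LinearMap.toSpanSingleton A _ (∏ i, DividedPowerAlgebra.dp A (k i) (m i)))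
  suffices I = ⊤ by
    have h1 : (1 : A) ∈ I := this ▸ Submodule.mem_top
    simpa [I] using h1
  by_contra hI
  obtain ⟨p, hp, hIp⟩ := Ideal.exists_le_maximal I hI
  haveI := hp.isPrime
  suffices ∃ s : A, s ∉ p ∧ s • ∏ i, DividedPowerAlgebra.dp A (k i) (m i) ∈ V by
    obtain ⟨s, hs, hmem⟩ := this
    exact hs (hIp hmem)
  rcases h ⟨p, hp.isPrime⟩ with hbig | ⟨x, hx⟩
  · have hsurj : Function.Surjective (algebraMap A p.ResidueField) := fun y => by
      obtain ⟨z, rfl⟩ := (Ideal.bijective_algebraMap_quotient_residueField p).2 y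
      obtain ⟨a, rfl⟩ := Ideal.Quotient.mk_surjective z
      exact ⟨a, rfl⟩
    obtain ⟨f⟩ : Nonempty (ULift.{u} (Fin d) ↪ p.ResidueField) := by
      rw [← Cardinal.le_def, Cardinal.mk_uLift, Cardinal.mk_fin, Cardinal.lift_natCast]
      exact hbig
    choose a ha using fun i : Fin d => hsurj (f ⟨i⟩)
    refine dp_local_big d p a (fun i j hij hmem => hij ?_) n k m hk
    have h2 : algebraMap A p.ResidueField (a i) = algebraMap A p.ResidueField (a j) := by
      rw [← sub_eq_zero, ← map_sub]
      exact Ideal.algebraMap_residueField_eq_zero.mpr hmem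
    rw [ha, ha] at h2
    simpa using congrArg ULift.down (f.injective h2)
  · obtain ⟨⟨x₀, s₀⟩, rfl⟩ : ∃ q : M × p.primeCompl, LocalizedModule.mk q.1 q.2 = x := by
      induction x using LocalizedModule.induction_on with
      | _ a s => exact ⟨(a, s), rfl⟩
    have hm : ∀ y : M, ∃ (u : A) (c : A), u ∉ p ∧ u • y = c • x₀ := by
      intro y
      have hy : LocalizedModule.mk y (1 : p.primeCompl) ∈ Submodule.span (Localization.AtPrime p) {LocalizedModule.mk x₀ s₀} := by
        rw [hx]; exact Submodule.mem_top
      obtain ⟨r, hr⟩ := Submodule.mem_span_singleton.mp hy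
      induction r using Localization.induction_on with
      | H ct =>
      obtain ⟨c, t⟩ := ct
      change Localization.mk c t • LocalizedModule.mk x₀ s₀ = _ at hr
      rw [LocalizedModule.mk_smul_mk, LocalizedModule.mk_eq] at hr
      obtain ⟨w, hw⟩ := hr
      simp only [Submonoid.smul_def, smul_smul, one_mul, Submonoid.coe_mul, mul_one] at hw
      exact ⟨(w : A) * ((t : A) * (s₀ : A)), (w : A) * c, (w * (t * s₀)).2, hw.symm.trans (by simp)⟩
    choose u c hu huc using hm
    refine ⟨∏ i, u (m i) ^ k i, fun hmem => ?_, ?_⟩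
    · obtain ⟨i, -, hi⟩ := Ideal.IsPrime.prod_mem_iff.mp hmem
      exact hu _ (Ideal.IsPrime.mem_of_pow_mem inferInstance _ hi)
    · rw [Algebra.smul_def, map_prod, ← Finset.prod_mul_distrib,
        Finset.prod_congr rfl (fun i (_ : i ∈ Finset.univ) => show algebraMap A _ (u (m i) ^ k i) * DividedPowerAlgebra.dp A (k i) (m i) =
          algebraMap A _ (c (m i) ^ k i) * DividedPowerAlgebra.dp A (k i) x₀ by
            rw [← Algebra.smul_def, ← DividedPowerAlgebra.dp_smul, huc, DividedPowerAlgebra.dp_smul, Algebra.smul_def]),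
        Finset.prod_mul_distrib, DividedPowerAlgebra.prod_dp, hk, ← map_prod, ← map_natCast (algebraMap A (DividedPowerAlgebra A M)),
        ← mul_assoc, ← map_mul, ← Algebra.smul_def]
      exact Submodule.smul_mem _ _ (Submodule.subset_span ⟨x₀, rfl⟩)


/-- Let A be a commutative ring, M an A-module and d ≥ 0. Suppose that at each prime p of A either k(p)
has d or more elements, or the localisation M_p is a cyclic A_p-module. Then the degree-d piece
Γ^d_A(M) of the divided power algebra Γ_A(M) is spanned over A by the d-th divided powers γ_d(m), m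
∈ M. -/
theorem result {A M : Type u} [CommRing A] [AddCommGroup M]
    [Module A M] (d : ℕ)
    (h : ∀ p : PrimeSpectrum A, (d : Cardinal) ≤ Cardinal.mk p.asIdeal.ResidueField ∨
      ∃ x : LocalizedModule p.asIdeal.primeCompl M, Submodule.span (Localization.AtPrime p.asIdeal) {x} = ⊤) :
    Submodule.span A (Set.range (DividedPowerAlgebra.dp A d : M → DividedPowerAlgebra A M)) =
      PolLaw.gammaPiece A M d := by
  exact span_dp_eq d h

end Groth.Agent.S13387
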