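import Groth.Statements.S13388
import Mathlib

set_option autoImplicit false
universe u
open ZeroCyc

namespace Groth.Agent.S13388

open scoped TensorProduct

/-- elementary symmetric functions of a family -/
noncomputable def el {R ι : Type*} [CommRing R] (s : Finset ι) (w : ι → R) (n : ℕ) : R := ∑ I ∈ s.powersetCard n, ∏ l ∈ I, w l

theorem el_zero {R ι : Type*} [CommRing R] (s : Finset ι) (w : ι → R) : el s w 0 = 1 := by simp [el]

theorem el_insert {R ι : Type*} [CommRing R] [DecidableEq ι] {a : ι} {s : Finset ι} (ha : a ∉ s) (w : ι → R) (n : ℕ) :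
    el (insert a s) w (n + 1) = el s w (n + 1) + w a * el s w n := by
  rw [el, Finset.powersetCard_succ_insert ha, Finset.sum_union ?_]
  · congr 1
    rw [Finset.sum_image ?_, el, Finset.mul_sum]
    · refine Finset.sum_congr rfl fun I hI => ?_
      rw [Finset.prod_insert fun h => ha ((Finset.mem_powersetCard.mp hI).1 h)]
    · intro I hI J hJ h
      have := congrArg (Finset.erase · a) h
      simpa [Finset.erase_insert (fun h => ha ((Finset.mem_powersetCard.mp hI).1 h)),
        Finset.erase_insert (fun h => ha ((Finset.mem_powersetCard.mp hJ).1 h))] using this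
  · rw [Finset.disjoint_left]
    intro I hI hI'
    obtain ⟨J, -, rfl⟩ := Finset.mem_image.mp hI'
    exact ha ((Finset.mem_powersetCard.mp hI).1 (Finset.mem_insert_self _ _))

theorem el_mul {R ι : Type*} [CommRing R] (w : ι → R) (hw : ∀ l, w l * w l = 0) (s : Finset ι) :
    ∀ i j : ℕ, el s w i * el s w j = (i + j).choose i • el s w (i + j) := by
  classical
  induction s using Finset.induction_on with
  | empty =>
    intro i j
    cases i with
    | zero => simp [el_zero]
    | succ i =>
      have h0 : ∀ m, el (∅ : Finset ι) w (m + 1) = 0 := fun m => by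
        rw [el, Finset.powersetCard_eq_empty.mpr (by simp), Finset.sum_empty]
      rw [h0, zero_mul, show i + 1 + j = (i + j) + 1 by omega, h0, smul_zero]
  | @insert a s ha ih =>
    intro i j
    cases i with
    | zero => simp [el_zero]
    | succ i =>
      cases j with
      | zero => simp [el_zero]
      | succ j =>
        rw [el_insert ha, el_insert ha, show i + 1 + (j + 1) = (i + j + 1) + 1 by omega, el_insert ha]
        have e1 := ih (i + 1) (j + 1)
        have e2 := ih (i + 1) j
        have e3 := ih i (j + 1)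
        rw [show i + 1 + (j + 1) = i + j + 1 + 1 by omega] at e1
        rw [show i + 1 + j = i + j + 1 by omega] at e2
        rw [show i + (j + 1) = i + j + 1 by omega] at e3
        simp only [nsmul_eq_mul] at e1 e2 e3 ⊢
        have hpas : (((i + j + 1 + 1).choose (i + 1) : ℕ) : R) = ((i + j + 1).choose i : ℕ) + ((i + j + 1).choose (i + 1) : ℕ) := by
          rw [← Nat.cast_add]
          exact congrArg _ (Nat.choose_succ_succ (i + j + 1) i)
        linear_combination e1 + (w a) * e2 + (w a) * e3 + (el s w i * el s w j) * (hw a) - (w a * el s w (i + j + 1)) * hpas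

theorem el_add {R ι : Type*} [CommRing R] (u v : ι → R) (h : ∀ l, u l * v l = 0) (s : Finset ι) :
    ∀ n, el s (fun l => u l + v l) n = ∑ k ∈ Finset.HasAntidiagonal.antidiagonal n, el s u k.1 * el s v k.2 := by
  classical
  have hpoly : ∀ w : ι → R, ∀ n, el s w n = (∏ l ∈ s, (Polynomial.C (w l) * Polynomial.X + 1)).coeff n := by
    intro w n
    rw [Finset.prod_add, Polynomial.finsetSum_coeff]
    simp only [Finset.prod_const_one, mul_one, Finset.prod_mul_distrib, Finset.prod_const, ← map_prod,
      Polynomial.coeff_C_mul_X_pow]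
    rw [el, Finset.powersetCard_eq_filter, Finset.sum_filter]
    exact Finset.sum_congr rfl fun t _ => if_congr eq_comm rfl rfl
  intro n
  simp only [hpoly]
  rw [← Polynomial.coeff_mul, ← Finset.prod_mul_distrib]
  congr 1
  refine Finset.prod_congr rfl fun l _ => ?_
  have h0 : (Polynomial.C (u l) * Polynomial.C (v l) : Polynomial R) = 0 := by rw [← map_mul, h, map_zero]
  rw [map_add]
  linear_combination (-(Polynomial.X : Polynomial R) ^ 2) * h0


/-- Let A be a commutative ring, M a finitely generated A-module and d ≥ 0. If the degree-d piece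
Γ^d_A(M) of Γ_A(M) is spanned over A by the divided powers γ_d(m), m ∈ M, then at each prime p of A
either k(p) has d or more elements, or the localisation M_p is a cyclic A_p-module. -/
theorem result {A M : Type u} [CommRing A] [AddCommGroup M]
    [Module A M] [Module.Finite A M] (d : ℕ)
    (h : Submodule.span A (Set.range (DividedPowerAlgebra.dp A d : M → DividedPowerAlgebra A M)) =
      PolLaw.gammaPiece A M d)
    (p : PrimeSpectrum A) :
    (d : Cardinal) ≤ Cardinal.mk p.asIdeal.ResidueField ∨
      ∃ x : LocalizedModule p.asIdeal.primeCompl M, Submodule.span (Localization.AtPrime p.asIdeal) {x} = ⊤ := by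
  classical
  by_contra hcon
  push Not at hcon
  obtain ⟨hlt, hcyc⟩ := hcon
  let κ := p.asIdeal.ResidueField
  haveI hfin : Finite κ := Cardinal.mk_lt_aleph0_iff.mp (hlt.trans (Cardinal.natCast_lt_aleph0))
  haveI : Fintype κ := Fintype.ofFinite κ
  have hq : Fintype.card κ < d := by
    rw [Cardinal.mk_fintype] at hlt
    exact_mod_cast hlt
  haveI : Finite (A ⧸ p.asIdeal) := Finite.of_injective (algebraMap (A ⧸ p.asIdeal) κ) p.asIdeal.injective_algebraMap_quotient_residueField
  haveI hmax : p.asIdeal.IsMaximal := Ideal.Quotient.maximal_of_isField _ (Finite.isField_of_domain _)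
  have hsurj : Function.Surjective (algebraMap A κ) := fun y => by
    obtain ⟨z, rfl⟩ := (Ideal.bijective_algebraMap_quotient_residueField p.asIdeal).2 y
    obtain ⟨a, rfl⟩ := Ideal.Quotient.mk_surjective z
    exact ⟨a, rfl⟩
  have hmk : Function.Surjective (TensorProduct.mk A κ M 1) := TensorProduct.mk_surjective A M κ hsurj
  have hrank : 2 ≤ Module.finrank κ (κ ⊗[A] M) := by
    by_contra hr
    push Not at hr
    obtain ⟨v, hv⟩ : ∃ v : κ ⊗[A] M, Submodule.span κ {v} = ⊤ := by
      obtain ⟨v, hv⟩ := finrank_le_one_iff.mp (Nat.lt_succ_iff.mp hr)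
      exact ⟨v, eq_top_iff.mpr fun w _ => Submodule.mem_span_singleton.mpr (hv w)⟩
    obtain ⟨x, rfl⟩ := hmk v
    let P : Submodule A M := Submodule.span A {x}
    have hle : (⊤ : Submodule A (M ⧸ P)) ≤ p.asIdeal • (⊤ : Submodule A (M ⧸ P)) := by
      intro y _
      obtain ⟨y, rfl⟩ := Submodule.Quotient.mk_surjective P y
      obtain ⟨c, hc⟩ := Submodule.mem_span_singleton.mp (hv ▸ Submodule.mem_top : (1 : κ) ⊗ₜ[A] y ∈ Submodule.span κ {TensorProduct.mk A κ M 1 x})
      obtain ⟨a, rfl⟩ := hsurj c
      let e := (AlgEquiv.ofBijective (IsScalarTower.toAlgHom A (A ⧸ p.asIdeal) κ)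
        (Ideal.bijective_algebraMap_quotient_residueField p.asIdeal)).symm
      let qq : M →ₗ[A] (M ⧸ P) ⧸ (p.asIdeal • (⊤ : Submodule A (M ⧸ P))) := (Submodule.mkQ _).comp (Submodule.mkQ P)
      let L : κ ⊗[A] M →ₗ[A] (M ⧸ P) ⧸ (p.asIdeal • (⊤ : Submodule A (M ⧸ P))) :=
        TensorProduct.lift (LinearMap.mk₂ A (fun c m => e c • qq m)
          (fun c c' m => by rw [map_add, add_smul])
          (fun r c m => by rw [map_smul, smul_assoc])
          (fun c m m' => by rw [map_add, smul_add])
          (fun r c m => by rw [map_smul, smul_comm]))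
      have hL : ∀ (a : A) (m : M), L (algebraMap A κ a ⊗ₜ[A] m) = a • Submodule.Quotient.mk (Submodule.Quotient.mk m) := by
        intro a m
        simp only [L, TensorProduct.lift.tmul, LinearMap.mk₂_apply, AlgEquiv.commutes, algebraMap_smul]
        rfl
      have h1 := congrArg L hc
      rw [TensorProduct.mk_apply, TensorProduct.smul_tmul', smul_eq_mul, mul_one, hL,
        ← map_one (algebraMap A κ), hL, one_smul, show Submodule.Quotient.mk (p := P) x = 0 from
          (Submodule.Quotient.mk_eq_zero P).mpr (Submodule.mem_span_singleton_self x),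
        Submodule.Quotient.mk_zero, smul_zero] at h1
      exact (Submodule.Quotient.mk_eq_zero _).mp h1.symm
    obtain ⟨r, hr1, hr0⟩ := Submodule.exists_sub_one_mem_and_smul_eq_zero_of_fg_of_le_smul p.asIdeal
      (⊤ : Submodule A (M ⧸ P)) Module.Finite.fg_top hle
    have hrp : r ∉ p.asIdeal := fun h => hmax.ne_top ((Ideal.eq_top_iff_one _).mpr (by simpa using sub_mem h hr1))
    refine hcyc (LocalizedModule.mk x 1) (eq_top_iff.mpr fun w _ => ?_)
    induction w using LocalizedModule.induction_on with
    | _ y s =>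
      have h2 := hr0 (Submodule.Quotient.mk (p := P) y) Submodule.mem_top
      rw [← Submodule.Quotient.mk_smul, Submodule.Quotient.mk_eq_zero, Submodule.mem_span_singleton] at h2
      obtain ⟨a, ha⟩ := h2
      refine Submodule.mem_span_singleton.mpr ⟨Localization.mk a (⟨r, hrp⟩ * s), ?_⟩
      rw [LocalizedModule.mk_smul_mk, LocalizedModule.mk_eq]
      refine ⟨1, ?_⟩
      simp [Submonoid.smul_def, mul_smul, ha, smul_comm r (s : A)]
  obtain ⟨V₀, hV₀, hV₁⟩ : ∃ (π : κ ⊗[A] M →ₗ[κ] κ × κ), (∃ x : M, π (1 ⊗ₜ[A] x) = (1, 0)) ∧ ∃ y : M, π (1 ⊗ₜ[A] y) = (0, 1) := by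
    let b := Module.finBasis κ (κ ⊗[A] M)
    let π : κ ⊗[A] M →ₗ[κ] κ × κ := (b.coord ⟨0, by omega⟩).prod (b.coord ⟨1, by omega⟩)
    obtain ⟨x, hx⟩ := hmk (b ⟨0, by omega⟩)
    obtain ⟨y, hy⟩ := hmk (b ⟨1, by omega⟩)
    rw [TensorProduct.mk_apply] at hx hy
    exact ⟨π, ⟨x, by rw [hx]; simp [π, Module.Basis.coord_apply]⟩, ⟨y, by rw [hy]; simp [π, Module.Basis.coord_apply]⟩⟩
  obtain ⟨x, hx⟩ := hV₀
  obtain ⟨y, hy⟩ := hV₁
  let π : M →ₗ[A] κ × κ := (V₀.restrictScalars A).comp (TensorProduct.mk A κ M 1)
  let E := TrivSqZeroExt κ (κ × κ)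
  let T := ⨂[κ] _ : Fin d, E
  let sg : Fin d → (E →ₐ[κ] T) := fun l => PiTensorProduct.singleAlgHom (R := κ) (A := fun _ : Fin d => E) l
  let w : M → Fin d → T := fun m l => sg l (TrivSqZeroExt.inr (π m))
  have hww : ∀ (m m' : M) (l : Fin d), w m l * w m' l = 0 := fun m m' l => by
    simp only [w]
    rw [← map_mul, TrivSqZeroExt.inr_mul_inr, map_zero]
  have hwsmul : ∀ (r : A) (m : M) (l : Fin d), w (r • m) l = r • w m l := by
    intro r m l
    simp only [w]
    rw [map_smul, ← algebraMap_smul κ r (π m), TrivSqZeroExt.inr_smul, map_smul, ← algebraMap_smul κ r (sg l _)]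
  let Φ : DividedPowerAlgebra A M →ₐ[A] T := DividedPowerAlgebra.lift' (f := fun q => el Finset.univ (w q.2) q.1)
    (fun m => el_zero _ _)
    (fun n r m => by
      simp only [el, Finset.smul_sum]
      refine Finset.sum_congr rfl fun I hI => ?_
      rw [Finset.prod_congr rfl (fun l _ => (hwsmul r m l).trans (Algebra.smul_def r (w m l))), Finset.prod_mul_distrib,
        Finset.prod_const, (Finset.mem_powersetCard.mp hI).2, ← map_pow, ← Algebra.smul_def])
    (fun i j m => el_mul _ (hww m m) _ i j)
    (fun n u v => by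
      have e : w (u + v) = fun l => w u l + w v l := by
        funext l
        show sg l (TrivSqZeroExt.inr (π (u + v))) = sg l (TrivSqZeroExt.inr (π u)) + sg l (TrivSqZeroExt.inr (π v))
        rw [map_add π]
        exact (congrArg (sg l) (TrivSqZeroExt.inr_add _ _ _)).trans (map_add _ _ _)
      show el Finset.univ (w (u + v)) n = _
      rw [e]
      exact el_add _ _ (hww u v) _ n)
  -- the linear forms
  obtain ⟨emb⟩ : Nonempty (κ ↪ Fin d) := Function.Embedding.nonempty_of_card_le (by simpa using hq.le)
  let lf : Fin d → κ × κ → κ := fun l v => if h : ∃ c, emb c = l then v.2 - h.choose * v.1 else v.1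
  have hlf : ∀ l, IsLinearMap κ (lf l) := fun l => by
    constructor
    · intro a b; simp only [lf]; split_ifs <;> simp <;> ring
    · intro a b; simp only [lf]; split_ifs <;> simp <;> ring
  let g : Fin d → (E →ₗ[κ] κ) := fun l => (IsLinearMap.mk' _ (hlf l)).comp (TrivSqZeroExt.sndHom κ (κ × κ))
  let ψ : T →ₗ[κ] κ := PiTensorProduct.lift ((MultilinearMap.mkPiAlgebra κ (Fin d) κ).compLinearMap g)
  have hprod : ∀ a : Fin d → E, ψ (∏ l, sg l (a l)) = ∏ l, lf l (a l).snd := by
    intro a
    have : ∏ l, sg l (a l) = PiTensorProduct.tprod κ a := by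
      show ∏ l, PiTensorProduct.tprod κ (Pi.mulSingle l (a l)) = _
      rw [← PiTensorProduct.tprod_prod]
      exact congrArg _ (Finset.univ_prod_mulSingle a)
    rw [this]
    show PiTensorProduct.lift _ _ = _
    rw [PiTensorProduct.lift.tprod]
    rfl
  have hVtop : ∀ m : M, ψ (Φ (DividedPowerAlgebra.dp A d m)) = 0 := by
    intro m
    rw [DividedPowerAlgebra.lift'_apply_dp]
    show ψ (el Finset.univ (w m) d) = 0
    have e : el Finset.univ (w m) d = ∏ l, w m l := by
      have h1 : (Finset.univ : Finset (Fin d)).powersetCard d = {Finset.univ} := by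
        ext I
        simp only [Finset.mem_powersetCard, Finset.subset_univ, true_and, Finset.mem_singleton]
        rw [← Finset.card_eq_iff_eq_univ, Fintype.card_fin]
      rw [el, h1, Finset.sum_singleton]
    rw [e, hprod, Finset.prod_eq_zero_iff]
    simp only [TrivSqZeroExt.snd_inr, Finset.mem_univ, true_and]
    by_cases h1 : (π m).1 = 0
    · obtain ⟨l, hl⟩ : ∃ l, ¬ ∃ c, emb c = l := by
        by_contra hall
        push Not at hall
        have := Fintype.card_le_of_surjective emb hall
        simp at this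
        omega
      exact ⟨l, by simp only [lf, dif_neg hl, h1]⟩
    · refine ⟨emb ((π m).2 / (π m).1), ?_⟩
      have hex : ∃ c, emb c = emb ((π m).2 / (π m).1) := ⟨_, rfl⟩
      simp only [lf, dif_pos hex, emb.injective hex.choose_spec, div_mul_cancel₀ _ h1, sub_self]
  let S : Finset (Fin d) := Finset.univ.filter fun l => ¬ ∃ c, emb c = l
  let e₀ := DividedPowerAlgebra.dp A S.card x * DividedPowerAlgebra.dp A (Sᶜ).card y
  have hmem : e₀ ∈ PolLaw.gammaPiece A M d := by
    refine Submodule.subset_span ⟨2, ![S.card, Sᶜ.card], ![x, y], ?_, ?_⟩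
    · rw [Fin.sum_univ_two]
      simp [Finset.card_compl]
      have := Finset.card_le_univ S
      simp at this
      omega
    · rw [Fin.prod_univ_two]
      rfl
  rw [← h] at hmem
  have hker : ψ (Φ e₀) = 0 := by
    refine Submodule.span_induction (p := fun z _ => ψ (Φ z) = 0) ?_ (by simp) ?_ ?_ hmem
    · rintro _ ⟨m, rfl⟩; exact hVtop m
    · intro a b _ _ ha hb; rw [map_add, map_add, ha, hb, add_zero]
    · intro a b _ hb
      rw [map_smul, ← algebraMap_smul κ a (Φ b), map_smul, hb, smul_zero]
  apply one_ne_zero (α := κ)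
  rw [← hker, map_mul, DividedPowerAlgebra.lift'_apply_dp, DividedPowerAlgebra.lift'_apply_dp]
  show (1 : κ) = ψ (el Finset.univ (w x) S.card * el Finset.univ (w y) Sᶜ.card)
  simp only [el, Finset.sum_mul_sum, map_sum]
  have hterm : ∀ (I J : Finset (Fin d)), ψ ((∏ l ∈ I, w x l) * ∏ l ∈ J, w y l) =
      if J = Iᶜ ∧ I = S then 1 else if J = Iᶜ then ∏ l, lf l (if l ∈ I then (1, 0) else (0, 1)) else 0 := by
    intro I J
    have e : (∏ l ∈ I, w x l) * ∏ l ∈ J, w y l = ∏ l, sg l ((if l ∈ I then TrivSqZeroExt.inr (π x) else 1) *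
        (if l ∈ J then TrivSqZeroExt.inr (π y) else 1)) := by
      have e' : ∀ (I : Finset (Fin d)) (m : M), (∏ l, sg l (if l ∈ I then TrivSqZeroExt.inr (π m) else 1)) = ∏ l ∈ I, w m l := by
        intro I m
        rw [← Finset.prod_subset (Finset.subset_univ I) (fun l _ hl => by rw [if_neg hl]; exact (sg l).toRingHom.map_one)]
        exact Finset.prod_congr rfl fun l hl => by rw [if_pos hl]
      simp only [map_mul, Finset.prod_mul_distrib]
      rw [e', e']
    rw [e, hprod]
    by_cases hJ : J = Iᶜ
    · subst hJ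
      have e2 : ∀ l, ((if l ∈ I then TrivSqZeroExt.inr (π x) else 1) *
          (if l ∈ Iᶜ then TrivSqZeroExt.inr (π y) else 1) : E).snd = if l ∈ I then (1, 0) else (0, 1) := by
        intro l
        by_cases hl : l ∈ I
        · simp [hl, π, hx]
        · simp [hl, π, hy]
      simp only [e2, true_and]
      by_cases hI : I = S
      · rw [if_pos hI]
        refine Finset.prod_eq_one fun l _ => ?_
        subst hI
        simp only [lf, S, Finset.mem_filter, Finset.mem_univ, true_and]
        by_cases hl : ∃ c, emb c = l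
        · simp [hl]
        · simp [hl]
      · rw [if_neg hI]; simp
    · rw [if_neg (fun hh => hJ hh.1), if_neg hJ]
      obtain ⟨l, hl⟩ : ∃ l, ¬ (l ∈ J ↔ l ∈ Iᶜ) := by
        by_contra hall
        push Not at hall
        exact hJ (Finset.ext hall)
      refine Finset.prod_eq_zero (Finset.mem_univ l) ?_
      by_cases hlI : l ∈ I <;> by_cases hlJ : l ∈ J <;> simp [hlI, hlJ] at hl ⊢
      all_goals first
        | exact map_zero (IsLinearMap.mk' _ (hlf l))
        | (rw [show (TrivSqZeroExt.inr (π x) * TrivSqZeroExt.inr (π y) : E) = 0 from TrivSqZeroExt.inr_mul_inr _ _ _]; exact map_zero (IsLinearMap.mk' _ (hlf l)))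
  simp only [hterm]
  rw [Finset.sum_eq_single S]
  · rw [Finset.sum_eq_single Sᶜ]
    · simp
    · intro J _ hJ; simp [hJ]
    · simp [Finset.mem_powersetCard]
  · intro I hI hne
    refine Finset.sum_eq_zero fun J _ => ?_
    rw [if_neg (fun hh => hne hh.2)]
    split_ifs
    · obtain ⟨l, hlS, hlI⟩ : ∃ l, l ∈ S ∧ l ∉ I := by
        by_contra hall
        push Not at hall
        exact hne (Finset.eq_of_subset_of_card_le hall (le_of_eq (Finset.mem_powersetCard.mp hI).2)).symm
      refine Finset.prod_eq_zero (Finset.mem_univ l) ?_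
      have hl : ¬ ∃ c, emb c = l := (Finset.mem_filter.mp hlS).2
      simp [lf, hl, hlI]
    · rfl
  · simp [Finset.mem_powersetCard]

end Groth.Agent.S13388
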