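import Groth.Statements.S13389
import Groth.Agent.S13387

set_option autoImplicit false
universe u
open ZeroCyc

namespace Groth.Agent.S13389

open Polynomial in
/-- Let P_d(T) = ∏_{0 ≤ i < j ≤ d} (T^i − T^j) − 1 ∈ ℤ[T]. If A is an algebra over ℤ[T]/(P_d), i.e.
receives a ring homomorphism from it, then for every A-module M the degree-d piece Γ^d_A(M) of the
divided power algebra Γ_A(M) is spanned over A by the d-th divided powers γ_d(m), m ∈ M. (The
published statement adds that consequently every ring has a finite faithfully flat extension,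
independent of M, over which this holds; that clause is not restated.) -/
theorem result {A M : Type u} [CommRing A] [AddCommGroup M]
    [Module A M] (d : ℕ)
    (φ : (ℤ[X] ⧸ Ideal.span {(∏ j ∈ Finset.range (d + 1), ∏ i ∈ Finset.range j,
        ((X : ℤ[X]) ^ i - X ^ j)) - 1}) →+* A) :
    Submodule.span A (Set.range (DividedPowerAlgebra.dp A d : M → DividedPowerAlgebra A M)) =
      PolLaw.gammaPiece A M d := by
  classical
  refine Groth.Agent.S13387.result d fun p => Or.inl ?_
  let t : A := φ (Ideal.Quotient.mk _ Polynomial.X)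
  have hprod : (∏ j ∈ Finset.range (d + 1), ∏ i ∈ Finset.range j, (t ^ i - t ^ j)) = 1 := by
    have h0 : Ideal.Quotient.mk (Ideal.span {(∏ j ∈ Finset.range (d + 1), ∏ i ∈ Finset.range j,
        ((Polynomial.X : Polynomial ℤ) ^ i - Polynomial.X ^ j)) - 1})
        ((∏ j ∈ Finset.range (d + 1), ∏ i ∈ Finset.range j, ((Polynomial.X : Polynomial ℤ) ^ i - Polynomial.X ^ j)) - 1) = 0 :=
      Ideal.Quotient.eq_zero_iff_mem.mpr (Ideal.subset_span rfl)
    have h1 := congrArg φ h0
    simp only [map_sub, map_one, map_prod, map_pow, map_zero, sub_eq_zero] at h1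
    exact h1
  let g : ULift.{u} (Fin d) → p.asIdeal.ResidueField := fun i => algebraMap A _ (t ^ (i.down : ℕ))
  have hg : Function.Injective g := by
    have key : ∀ i j : ℕ, i < j → j ≤ d → algebraMap A p.asIdeal.ResidueField (t ^ i) ≠ algebraMap A _ (t ^ j) := by
      intro i j hij hj h
      have hu : IsUnit (t ^ i - t ^ j) := isUnit_of_dvd_one (hprod ▸
        (Finset.dvd_prod_of_mem (fun i => t ^ i - t ^ j) (Finset.mem_range.mpr hij)).trans
          (Finset.dvd_prod_of_mem (fun j => ∏ i ∈ Finset.range j, (t ^ i - t ^ j)) (Finset.mem_range.mpr (Nat.lt_succ_of_le hj))))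
      have h2 := hu.map (algebraMap A p.asIdeal.ResidueField)
      rw [map_sub, h, sub_self] at h2
      exact not_isUnit_zero h2
    intro i j h
    refine ULift.ext _ _ (Fin.ext ?_)
    by_contra hne
    rcases Nat.lt_or_gt_of_ne hne with hlt | hlt
    · exact key _ _ hlt (le_of_lt j.down.2) h
    · exact key _ _ hlt (le_of_lt i.down.2) h.symm
  have h3 := Cardinal.mk_le_of_injective hg
  rwa [Cardinal.mk_uLift, Cardinal.mk_fin, Cardinal.lift_natCast] at h3

end Groth.Agent.S13389
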