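import Groth.Statements.S13396
import Groth.Agent.Lib.H7GammaThm

set_option autoImplicit false
universe u
open scoped TensorProduct
open ZeroCyc

namespace Groth.Agent.S13396

/-- Let A be a commutative ring, B an A-algebra, d ≥ 0, and let (C, γ) be the degree-d divided power
algebra Γ^d_A(B) with its universal multiplicative law γ : B → C of degree d (every multiplicative
law of degree d out of B factors uniquely through γ). Let φ : Γ^d_A(B) → TS^d_A(B) be the canonical
homomorphism to the symmetric tensors, taken here as data characterised by: after any base change S,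
φ ∘ γ sends Σ_j s_j ⊗ b_j to Σ_{c : [d] → [n]} (∏_i s_{c(i)}) ⊗ (b_{c(1)} ⊗ ⋯ ⊗ b_{c(d)}), i.e. φ
corresponds to the law x ↦ x ⊗ ⋯ ⊗ x. Then some multiplicative polynomial law F from T^d_A(B) to
Γ^d_A(B) of degree d! has the property that φ(F(z)) = ∏_σ σ(z) in T^d_A(B) for every z ∈ T^d_A(B),
the product running over all permutations σ of the d tensor factors. (The published statement calls
F canonical; this row asserts the existence of such an F and describes the composite on elements of
T^d_A(B).) -/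
theorem result {A B C : Type u} [CommRing A] [CommRing B] [Algebra A B] [CommRing C] [Algebra A C] (d : ℕ)
    (γ : PolLaw.MulLaw A B C d) (hγ : PolLaw.IsGammaD γ) (φ : C →ₐ[A] SymTen.TS A B d)
    (hφ : ∀ (S : Type u) [CommSemiring S] [Algebra A S] (n : ℕ) (s : Fin n → S) (b : Fin n → B),
      ((SymTen.TS A B d).val.comp φ).toLinearMap.lTensor S (γ.law.toFun' S (∑ j, s j ⊗ₜ[A] b j)) =
        ∑ c : Fin d → Fin n, (∏ i, s (c i)) ⊗ₜ[A] PiTensorProduct.tprod A (fun i => b (c i))) :
    ∃ F : PolLaw.MulLaw A (⨂[A] _ : Fin d, B) C d.factorial,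
      ∀ z : ⨂[A] _ : Fin d, B, ((SymTen.TS A B d).val (φ (F.law.ground z)) : ⨂[A] _ : Fin d, B) =
        ∏ σ : Equiv.Perm (Fin d), SymTen.perm A B d σ z := by
  have h := Groth.Agent.H7Gamma.phi_normLaw γ φ (Groth.Agent.H7SymTen.phi_postcomp γ φ hφ)
  refine ⟨Groth.Agent.H7Gamma.sigmaLaw γ, fun z => ?_⟩
  have e : (φ.toLinearMap.lTensor A ((Groth.Agent.H7Gamma.sigmaLaw γ).law.toFun' A ((1 : A) ⊗ₜ[A] z))) =
      (Groth.Agent.H7Gamma.symTS A B d).law.toFun' A ((1 : A) ⊗ₜ[A] z) :=
    congrArg (fun L : PolLaw.MulLaw A (⨂[A] _ : Fin d, B) (SymTen.TS A B d) d.factorial =>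
      L.law.toFun' A ((1 : A) ⊗ₜ[A] z)) h
  have e2 := Groth.Agent.H7Gamma.val_symTS (A := A) (B := B) (d := d) A ((1 : A) ⊗ₜ[A] z)
  rw [← e, ← PolynomialLaw.one_tmul_ground_apply', LinearMap.lTensor_tmul] at e2
  simp only [Algebra.TensorProduct.map_tmul, AlgHom.id_apply, Groth.Agent.H7SymTen.prod_tmul,
    Finset.prod_const_one] at e2
  simpa using congrArg (TensorProduct.lid A (⨂[A] _ : Fin d, B)) e2

end Groth.Agent.S13396
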