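import Groth.Statements.S13399
import Groth.Agent.Lib.H7GammaMore

set_option autoImplicit false
universe u
open scoped TensorProduct
open ZeroCyc

namespace Groth.Agent.S13399

open scoped TensorProduct
open Groth.Agent.H7PolLaw MvPolynomial

theorem cf_mul_X {A : Type u} [CommRing A] {D : Type u} [CommRing D] [Algebra A D] {σ : Type} [DecidableEq σ]
    (u : MvPolynomial σ A ⊗[A] D) (j : σ) (c : D) (k : σ →₀ ℕ) :
    cf k (u * ((X j : MvPolynomial σ A) ⊗ₜ[A] c)) = if j ∈ k.support then cf (k - Finsupp.single j 1) u * c else 0 := by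
  induction u using TensorProduct.induction_on with
  | zero => simp
  | add u u' hu hu' =>
    rw [add_mul, map_add, hu, hu']
    split_ifs <;> simp [map_add, add_mul]
  | tmul p y =>
    rw [Algebra.TensorProduct.tmul_mul_tmul, cf_tmul, coeff_mul_X']
    split_ifs <;> simp [cf_tmul]


/-- Let A be a commutative ring, B an A-algebra and e ≥ 0; let (C_{e+1}, γ_{e+1}) and (C_e, γ_e) be the
divided power algebras Γ^{e+1}_A(B) and Γ^e_A(B) of B with their universal multiplicative laws of
degrees e + 1 and e (every multiplicative law of that degree out of B factors uniquely through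
them), and let ω : Γ^{e+1}_A(B) ⊗_A B → Γ^e_A(B) ⊗_A B be Iversen's canonical algebra homomorphism,
taken here as data characterised by ω(γ_{e+1}(x) ⊗ y) = γ_e(x) ⊗ x·y for all x, y ∈ S ⊗_A B and
every base change A → S. Then ω is surjective. -/
theorem result {A B Cd Ce : Type u} [CommRing A] [CommRing B] [Algebra A B]
    [CommRing Cd] [Algebra A Cd] [CommRing Ce] [Algebra A Ce] (e : ℕ)
    (γd : PolLaw.MulLaw A B Cd (e + 1)) (hγd : PolLaw.IsGammaD γd)
    (γe : PolLaw.MulLaw A B Ce e) (hγe : PolLaw.IsGammaD γe)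
    (ω : Cd ⊗[A] B →ₐ[A] Ce ⊗[A] B)
    (hω : ∀ (S : Type u) [CommSemiring S] [Algebra A S] (x y : S ⊗[A] B),
      ω.toLinearMap.lTensor S
        ((Algebra.TensorProduct.includeLeft : Cd →ₐ[A] Cd ⊗[A] B).toLinearMap.lTensor S (γd.law.toFun' S x) *
          (Algebra.TensorProduct.includeRight : B →ₐ[A] Cd ⊗[A] B).toLinearMap.lTensor S y) =
      (Algebra.TensorProduct.includeLeft : Ce →ₐ[A] Ce ⊗[A] B).toLinearMap.lTensor S (γe.law.toFun' S x) *
        (Algebra.TensorProduct.includeRight : B →ₐ[A] Ce ⊗[A] B).toLinearMap.lTensor S (x * y)) :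
    Function.Surjective ω := by
  classical
  open Groth.Agent in
  let D := Ce ⊗[A] B
  let iL : Ce →ₐ[A] D := Algebra.TensorProduct.includeLeft
  let iR : B →ₐ[A] D := Algebra.TensorProduct.includeRight
  let W : Subalgebra A D := ω.range
  have hB : ∀ b : B, iR b ∈ W := fun b => by
    refine ⟨(1 : Cd) ⊗ₜ[A] b, ?_⟩
    have h := hω A 1 ((1 : A) ⊗ₜ[A] b)
    rw [(γd.mult A).1, (γe.mult A).1, one_mul] at h
    simp only [PolLaw.lTensor_algHom_apply, map_one, Algebra.TensorProduct.map_tmul, AlgHom.id_apply, one_mul] at h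
    have h2 := congrArg (TensorProduct.lid A D) h
    simpa [iR, D] using h2
  have hC : ∀ (n : ℕ) (b : Fin n → B) (k : Fin n →₀ ℕ), iL (H7PolLaw.coef γe.law b k) ∈ W := by
    intro n b
    let σ := Option (Fin n)
    let b' : σ → B := fun o => o.elim 1 b
    let S := MvPolynomial σ A
    let x : S ⊗[A] B := H7PolLaw.gen b'
    let u : S ⊗[A] D := iL.toLinearMap.lTensor S (γe.law.toFun' S x)
    have hcf : ∀ k : σ →₀ ℕ, H7PolLaw.cf k u = iL (H7PolLaw.coef γe.law b' k) := fun k =>
      H7PolLaw.cf_lTensor iL.toLinearMap k _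
    have hv : iR.toLinearMap.lTensor S x = ∑ o : σ, (MvPolynomial.X o : S) ⊗ₜ[A] iR (b' o) := by
      simp [x, H7PolLaw.gen]
    have hQ : ∀ k : σ →₀ ℕ, H7PolLaw.cf k (u * iR.toLinearMap.lTensor S x) ∈ W := by
      intro k
      have h := hω S x 1
      simp only [PolLaw.lTensor_algHom_apply, map_one, mul_one] at h
      simp only [← PolLaw.lTensor_algHom_apply] at h
      show H7PolLaw.cf k ((Algebra.TensorProduct.includeLeft : Ce →ₐ[A] Ce ⊗[A] B).toLinearMap.lTensor S (γe.law.toFun' S x) *
        (Algebra.TensorProduct.includeRight : B →ₐ[A] Ce ⊗[A] B).toLinearMap.lTensor S x) ∈ W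
      rw [← h, H7PolLaw.cf_lTensor]
      exact ⟨_, rfl⟩
    have hu : ∀ (m : ℕ) (k : σ →₀ ℕ), e + 1 ≤ k none + m → iL (H7PolLaw.coef γe.law b' k) ∈ W := by
      intro m
      induction m with
      | zero =>
        intro k hk
        rw [H7SymTen.coef_eq_zero γe.law γe.homog b' (d := e) (k := k) (fun hd => by
          have := Finsupp.le_degree none k
          omega), map_zero]
        exact zero_mem _
      | succ m ih =>
        intro k hk
        have h1 := hQ (k + Finsupp.single none 1)
        rw [hv, Finset.mul_sum, map_sum, ← Finset.add_sum_erase _ _ (Finset.mem_univ (none : σ))] at h1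
        rw [cf_mul_X, if_pos (by simp), add_tsub_cancel_right, hcf, show iR (b' none) = 1 from map_one iR, mul_one] at h1
        refine (W.toSubmodule.add_mem_iff_left ?_).mp h1
        refine Submodule.sum_mem _ fun o ho => ?_
        show _ ∈ W
        rw [cf_mul_X]
        split_ifs with hs
        · rw [hcf]
          refine mul_mem (ih _ ?_) (hB _)
          have hne := (Finset.mem_erase.mp ho).1
          simp [Finsupp.single_apply, hne]
          omega
        · exact zero_mem _
    intro k
    have := hu (e + 1) (Finsupp.mapDomain some k) (Nat.le_add_left _ _)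
    rwa [← H7Gamma.coef_comp_injective γe.law b' some (Option.some_injective _) k] at this
  intro z
  show z ∈ ω.range
  induction z using TensorProduct.induction_on with
  | zero => exact zero_mem _
  | add a c ha hc => exact add_mem ha hc
  | tmul c b =>
    have h1 : c ⊗ₜ[A] b = iL c * iR b := by
      show c ⊗ₜ[A] b = (c ⊗ₜ[A] (1 : B)) * ((1 : Ce) ⊗ₜ[A] b)
      rw [Algebra.TensorProduct.tmul_mul_tmul, mul_one, one_mul]
    rw [h1]
    refine mul_mem ?_ (hB b)
    have key : H7PolLaw.coefSpan γe ≤ (Subalgebra.toSubmodule W).comap iL.toLinearMap := by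
      refine Submodule.span_le.mpr ?_
      rintro _ ⟨n, b, k, rfl⟩
      exact hC n b k
    exact key (by rw [H7PolLaw.coefSpan_eq_top γe hγe]; exact Submodule.mem_top)

end Groth.Agent.S13399
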