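import Groth.Statements.S1340
import Mathlib

set_option autoImplicit false
universe u
open FlatMor

namespace Groth.Agent.S1340
open AlgebraicGeometry CategoryTheory Limits TopologicalSpace
set_option backward.isDefEq.respectTransparency.types false
set_option linter.style.haveILetI false

open AlgebraicGeometry CategoryTheory Limits in
/-- Stein factorization, universally closed case: let f : X ⟶ S be universally closed and
quasi-separated, and let X ⟶ X' ⟶ S be its factorization through the normalization X' of S in X.
Then the canonical morphism X ⟶ X' identifies the structure sheaf of X' with the pushforward of the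
structure sheaf of X: for every open U of X' the induced map from O_{X'}(U) to the sections of O_X
over the inverse image of U is an isomorphism. (That X ⟶ X' is surjective and universally closed and
that X' ⟶ S is integral are separate facts not restated here.) -/
theorem result {X S : Scheme.{u}} (f : X ⟶ S) [UniversallyClosed f] [QuasiSeparated f]
    (U : f.normalization.Opens) : IsIso (f.toNormalization.app U) := by
  have hint : ∀ W : S.Opens, IsAffineOpen W → (f.app W).hom.IsIntegral := by
    intro W hW
    haveI : IsAffine (W : Scheme.{u}) := hW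
    haveI : UniversallyClosed (f ∣_ W) := IsZariskiLocalAtTarget.restrict ‹_› W
    have h := isIntegral_appTop_of_universallyClosed (f ∣_ W)
    rw [← Scheme.Hom.resLE_eq_morphismRestrict] at h
    rw [Scheme.Hom.app_eq_appLE]
    exact (RingHom.isIntegral_respectsIso.arrow_mk_iso_iff (arrowResLEAppIso f W _ le_rfl)).1 h
  let ι := Σ (W : S.affineOpens), Γ(f.normalization, f.fromNormalization ⁻¹ᵁ W.1)
  let B : ι → f.normalization.Opens := fun i => f.normalization.basicOpen i.2
  have hB : Opens.IsBasis (Set.range B) := by
    rw [Opens.isBasis_iff_nbhd]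
    intro V x hx
    obtain ⟨_, ⟨W, hW, rfl⟩, hxW, -⟩ :=
      S.isBasis_affineOpens.exists_subset_of_mem_open (Set.mem_univ (f.fromNormalization x)) isOpen_univ
    obtain ⟨g, hg, hxg⟩ := (hW.preimage f.fromNormalization).exists_basicOpen_le ⟨x, hx⟩ hxW
    exact ⟨B ⟨⟨W, hW⟩, g⟩, ⟨_, rfl⟩, hxg, hg⟩
  have key : ∀ i, IsIso (f.toNormalization.app (B i)) := by
    rintro ⟨⟨W, hW⟩, g⟩
    let V := f.fromNormalization ⁻¹ᵁ W
    have h0 : IsIso (f.toNormalization.app V) := by
      rw [f.toNormalization_app_preimage ⟨W, hW⟩]
      letI := (f.app W).hom.toAlgebra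
      have : IsIso (CommRingCat.ofHom (integralClosure Γ(S, W) Γ(X, f ⁻¹ᵁ W)).val.toRingHom) :=
        (ConcreteCategory.isIso_iff_bijective _).2
          ⟨Subtype.val_injective, fun x => ⟨⟨x, hint W hW x⟩, rfl⟩⟩
      exact @IsIso.comp_isIso _ _ _ _ _ _ _ inferInstance (@IsIso.comp_isIso _ _ _ _ _ _ _ this inferInstance)
    have hV : IsAffineOpen V := hW.preimage f.fromNormalization
    have hc : IsCompact (f.toNormalization ⁻¹ᵁ V : Set X) :=
      f.toNormalization.isCompact_preimage hV.isCompact
    have hq : IsQuasiSeparated (f.toNormalization ⁻¹ᵁ V : Set X) :=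
      f.toNormalization.isQuasiSeparated_preimage hV.isQuasiSeparated
    let g' := f.toNormalization.app V g
    have hloc := isLocalization_basicOpen_of_qcqs hc hq g'
    have hloc2 := hV.isLocalization_basicOpen g
    let e := RingEquiv.ofBijective (f.toNormalization.app V).hom ((ConcreteCategory.isIso_iff_bijective _).1 h0)
    have hmap : (Submonoid.powers g).map e.toMonoidHom = Submonoid.powers g' := by
      rw [Submonoid.map_powers]; rfl
    let el := IsLocalization.ringEquivOfRingEquiv (M := Submonoid.powers g) (T := Submonoid.powers g')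
      Γ(f.normalization, f.normalization.basicOpen g) Γ(X, X.basicOpen g') e hmap
    have hle : X.basicOpen g' = f.toNormalization ⁻¹ᵁ f.normalization.basicOpen g :=
      (Scheme.preimage_basicOpen _ _).symm
    have heq : f.toNormalization.app (f.normalization.basicOpen g) ≫ X.presheaf.map (eqToHom hle).op
        = CommRingCat.ofHom el.toRingHom := by
      ext1
      apply IsLocalization.ringHom_ext (Submonoid.powers g)
      ext x
      simp only [RingHom.comp_apply, CommRingCat.hom_ofHom, RingEquiv.toRingHom_eq_coe, RingEquiv.coe_toRingHom, el,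
        IsLocalization.ringEquivOfRingEquiv_eq]
      simp only [RingHom.algebraMap_toAlgebra, ← RingHom.comp_apply, ← CommRingCat.hom_comp]
      show _ = (CommRingCat.Hom.hom (f.toNormalization.app V ≫ X.presheaf.map (homOfLE (X.basicOpen_le g')).op)) x
      refine DFunLike.congr_fun (congrArg CommRingCat.Hom.hom ?_) x
      rw [Scheme.Hom.app_eq_appLE, Scheme.Hom.appLE_map, Scheme.Hom.map_appLE, Scheme.Hom.app_eq_appLE, Scheme.Hom.appLE_map]
    have : IsIso (CommRingCat.ofHom el.toRingHom) := (ConcreteCategory.isIso_iff_bijective _).2 el.bijective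
    rw [← heq] at this
    exact IsIso.of_isIso_comp_right _ (X.presheaf.map (eqToHom hle).op)
  let φ : f.normalization.sheaf ⟶ (TopCat.Sheaf.pushforward CommRingCat f.toNormalization.base).obj X.sheaf :=
    ⟨f.toNormalization.c⟩
  haveI := TopCat.Sheaf.isIso_iff_isIso_basis hB (φ := φ) key
  haveI : IsIso φ.hom := inferInstanceAs (IsIso ((TopCat.Sheaf.forget _ _).map φ))
  exact inferInstanceAs (IsIso (φ.hom.app (Opposite.op U)))

end Groth.Agent.S1340
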