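import Groth.Statements.S13402
import Mathlib
import Groth.Agent.Lib.H8HopfFF

set_option autoImplicit false
universe u v w
open Hopf

namespace Groth.Agent.S13402
open TensorProduct WithConv Groth.Agent.H8HopfFF in
lemma key {k : Type u} [Field k] {A : Type v} {B : Type w}
    [CommRing A] [HopfAlgebra k A] [CommRing B] [HopfAlgebra k B] [IsNoetherianRing B]
    (f : B →ₐc[k] A) (hinj : Function.Injective f)
    (hker : Ideal.map f (RingHom.ker (Bialgebra.counitAlgHom k B)) = RingHom.ker (Bialgebra.counitAlgHom k A)) :
    Function.Surjective f := by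
  have hff := faithfullyFlat f hinj
  letI : Algebra B A := (f : B →ₐ[k] A).toRingHom.toAlgebra
  haveI : IsScalarTower k B A :=
    IsScalarTower.of_algebraMap_eq fun c => ((f : B →ₐ[k] A).commutes c).symm
  haveI : Module.FaithfullyFlat B A := hff
  have hf : IsScalarTower.toAlgHom k B A = (f : B →ₐ[k] A) := AlgHom.ext fun b => rfl
  letI : Algebra B k := (Bialgebra.counitAlgHom k B).toRingHom.toAlgebra
  haveI : IsScalarTower k B k :=
    IsScalarTower.of_algebraMap_eq fun c => ((Bialgebra.counitAlgHom k B).commutes c).symm
  have h0 : ∀ a : A, a ∈ RingHom.ker (Bialgebra.counitAlgHom k A) → (1 : k) ⊗ₜ[B] a = 0 := by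
    intro a ha
    rw [← hker] at ha
    refine Submodule.span_induction (fun x hx => ?_) (tmul_zero _ _) (fun x y _ _ hx hy => ?_)
      (fun r x _ hx => ?_) ha
    · obtain ⟨b, hb, rfl⟩ := hx
      have : f b = b • (1 : A) := by rw [Algebra.smul_def, _root_.mul_one]; rfl
      rw [this, ← TensorProduct.smul_tmul, Algebra.smul_def, _root_.mul_one]
      show (Bialgebra.counitAlgHom k B) b ⊗ₜ[B] (1 : A) = 0
      rw [(RingHom.mem_ker).mp hb, zero_tmul]
    · rw [tmul_add, hx, hy, add_zero]
    · have := congrArg (fun z => ((1 : k) ⊗ₜ[B] r) * z) hx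
      simpa using this
  have hincl : (Algebra.TensorProduct.includeRight : A →ₐ[B] k ⊗[B] A).restrictScalars k =
      (Algebra.ofId k (k ⊗[B] A)).comp (Bialgebra.counitAlgHom k A) := by
    refine AlgHom.ext fun a => ?_
    have h1 := h0 (a - algebraMap k A (Bialgebra.counitAlgHom k A a)) (by simp)
    rw [tmul_sub, sub_eq_zero] at h1
    show (1 : k) ⊗ₜ[B] a = algebraMap k (k ⊗[B] A) (Bialgebra.counitAlgHom k A a)
    rw [h1]
    exact ((Algebra.TensorProduct.includeRight : A →ₐ[B] k ⊗[B] A).restrictScalars k).commutes _
  have hdesc : ∀ a : A, inA f k a ⊗ₜ[B] (1 : A) = ((1 : Tw f k) ⊗ₜ[B] a) := by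
    intro a
    apply Function.LeftInverse.injective (g := fun z => phi f k hf z) (phi_psi f k hf)
    rw [psi_inA]
    show _ = psi f k hf (1 ⊗ₜ[B] a)
    have e : psi f k hf (1 ⊗ₜ[B] a) = (chiHom f k).ofConv a := by simp [psi, chi]
    rw [e, chiHom, hincl, ← AlgHom.comp_assoc,
      show (inR f (k ⊗[B] A)).comp (Algebra.ofId k (k ⊗[B] A)) = Algebra.ofId k (Tw f (k ⊗[B] A)) from
        Algebra.ext_id _ _ _,
      show toConv ((Algebra.ofId k (Tw f (k ⊗[B] A))).comp (Bialgebra.counitAlgHom k A)) = 1 from
        WithConv.ofConv_injective (AlgHom.ext fun x => by simp [AlgHom.convOne_apply]), _root_.mul_one]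
  let e : Tw f k →ₐ[B] A :=
      { (Algebra.TensorProduct.rid k k A).toAlgHom with
        commutes' := fun b => by
          have : (Algebra.TensorProduct.rid k k A).toAlgHom.comp (twHom f k) = (f : B →ₐ[k] A) := by
            rw [twHom, AlgHom.comp_convMul_distrib, WithConv.ofConv_toConv, WithConv.ofConv_toConv,
              ← AlgHom.comp_assoc, ← AlgHom.comp_assoc,
              show (Algebra.TensorProduct.rid k k A).toAlgHom.comp Algebra.TensorProduct.includeLeft =
                AlgHom.id k A from AlgHom.ext fun a => by simp,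
              AlgHom.id_comp]
            have : toConv (((Algebra.TensorProduct.rid k k A).toAlgHom.comp
                Algebra.TensorProduct.includeRight).comp (IsScalarTower.toAlgHom k B k)) =
                (1 : WithConv (B →ₐ[k] A)) := WithConv.ofConv_injective (AlgHom.ext fun x => by
              simp [AlgHom.convOne_apply, Algebra.algebraMap_eq_smul_one, RingHom.algebraMap_toAlgebra])
            rw [this, _root_.mul_one, WithConv.ofConv_toConv]
          exact AlgHom.congr_fun this b }
  intro a
  have h2 : (a ⊗ₜ[B] (1 : A)) = ((1 : A) ⊗ₜ[B] a) := by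
    have := congrArg (Algebra.TensorProduct.map e (AlgHom.id B A)) (hdesc a)
    simp only [Algebra.TensorProduct.map_tmul, AlgHom.id_apply, map_one] at this
    rw [show e (inA f k a) = a by
      show (Algebra.TensorProduct.rid k k A) (a ⊗ₜ[k] (1 : k)) = a
      simp] at this
    exact this
  let N : Submodule B A := LinearMap.range (Algebra.linearMap B A)
  have h3 : (1 : A) ⊗ₜ[B] N.mkQ a = 0 := by
    have := congrArg (LinearMap.lTensor A N.mkQ) h2
    simp only [LinearMap.lTensor_tmul] at this
    rw [← this, show N.mkQ (1 : A) = 0 from (Submodule.Quotient.mk_eq_zero N).mpr ⟨1, map_one (algebraMap B A)⟩,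
      tmul_zero]
  have h4 : N.mkQ a = 0 :=
    Module.FaithfullyFlat.tensorProduct_mk_injective (A := B) (B := A) (A ⧸ N) (by
      rw [mk_apply, mk_apply, h3, tmul_zero])
  exact (Submodule.Quotient.mk_eq_zero N).mp h4

/-- Let k be a field and let A and B be finite-dimensional commutative and cocommutative Hopf algebras
over k (finite commutative k-group schemes G = Spec A and H = Spec B). Let f : B → A be a bialgebra
map (a homomorphism G → H) which is injective and such that the ideal of A generated by the image of
the augmentation ideal of B is the augmentation ideal of A (the homomorphism G → H has trivial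
kernel). Then f is bijective, so G → H is an isomorphism; this is what makes the category of finite
commutative k-group schemes abelian. -/
theorem result (k : Type u) [Field k] (A : Type v) (B : Type w)
    [CommRing A] [HopfAlgebra k A] [Module.Finite k A] [Coalgebra.IsCocomm k A]
    [CommRing B] [HopfAlgebra k B] [Module.Finite k B] [Coalgebra.IsCocomm k B]
    (f : B →ₐc[k] A) (hinj : Function.Injective f)
    (hker : Ideal.map f (RingHom.ker (Bialgebra.counitAlgHom k B)) = RingHom.ker (Bialgebra.counitAlgHom k A)) :
    Function.Bijective f := by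
  haveI : IsNoetherianRing B := IsNoetherianRing.of_finite k B
  exact ⟨hinj, key f hinj hker⟩

end Groth.Agent.S13402
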