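import Groth.Statements.S13404
import Mathlib
import Groth.Agent.S0505

set_option autoImplicit false
universe u v
open Hopf

namespace Groth.Agent.S13404
theorem henselian_finite (R : Type u) [CommRing R] [HenselianLocalRing R] (S : Type v) [CommRing S] [IsLocalRing S]
    [Algebra R S] [Module.Finite R S] : HenselianLocalRing S := by
  obtain ⟨n, f, hf⟩ := Algebra.FiniteType.iff_quotient_mvPolynomial''.mp (inferInstance : Algebra.FiniteType R S)
  let e : (MvPolynomial (Fin n) R ⧸ RingHom.ker f) ≃ₐ[R] S := Ideal.quotientKerAlgEquivOfSurjective hf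
  let S₀ := MvPolynomial (Fin n) R ⧸ RingHom.ker f
  haveI : IsLocalRing S₀ := e.symm.toRingEquiv.isLocalRing
  haveI : Module.Finite R S₀ := Module.Finite.equiv e.symm.toLinearEquiv
  haveI : HenselianLocalRing S₀ := Groth.Agent.S0505.result R S₀
  constructor
  intro p hp a₀ h1 h2
  have hmem : ∀ z : S₀, e z ∈ IsLocalRing.maximalIdeal S ↔ z ∈ IsLocalRing.maximalIdeal S₀ := fun z => by
    simp only [IsLocalRing.mem_maximalIdeal, mem_nonunits_iff, isUnit_map_iff]
  have hev : ∀ (q : Polynomial S) (z : S),
      (q.map (e.symm.toRingEquiv : S →+* S₀)).eval (e.symm z) = e.symm (q.eval z) := fun q z =>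
    Polynomial.eval_map_apply (e.symm.toRingEquiv : S →+* S₀) z
  obtain ⟨a, ha, ha'⟩ := HenselianLocalRing.is_henselian (p.map (e.symm.toRingEquiv : S →+* S₀)) (hp.map _) (e.symm a₀)
    (by rw [hev, ← hmem, AlgEquiv.apply_symm_apply]; exact h1)
    (by rw [Polynomial.derivative_map, hev]; exact h2.map e.symm)
  refine ⟨e a, ?_, ?_⟩
  · have h3 : (p.map (e.symm.toRingEquiv : S →+* S₀)).eval (e.symm (e a)) = 0 := by
      rw [AlgEquiv.symm_apply_apply]; exact ha
    rw [hev] at h3
    exact (map_eq_zero_iff _ e.symm.injective).mp h3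
  · have := (hmem (a - e.symm a₀)).mpr ha'
    rwa [map_sub, AlgEquiv.apply_symm_apply] at this

open TensorProduct in
theorem local_tensor (R : Type u) [CommRing R] [IsLocalRing R] (S : Type v) [CommRing S] [IsLocalRing S]
    [Algebra R S] [Module.Finite R S] (ε : S →ₐ[R] R) : IsLocalRing (S ⊗[R] S) := by
  classical
  haveI : Nontrivial (S ⊗[R] S) :=
    ((Algebra.TensorProduct.lift ε ε fun _ _ => Commute.all _ _).toRingHom).domain_nontrivial
  let E := Algebra.TensorProduct.lift ε ε (fun _ _ => Commute.all _ _)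
  have hker : ∀ s, ε s = 0 → s ∈ IsLocalRing.maximalIdeal S := fun s hs h =>
    not_isUnit_zero (hs ▸ h.map ε)
  refine IsLocalRing.of_unique_max_ideal ?_
  obtain ⟨N, hN⟩ := Ideal.exists_maximal (S ⊗[R] S)
  have key : ∀ (N' : Ideal (S ⊗[R] S)), N'.IsMaximal → N' = (IsLocalRing.maximalIdeal R).comap E := by
    intro N' hN'
    haveI := hN'
    haveI : Algebra.IsIntegral R (S ⊗[R] S) := Algebra.IsIntegral.of_finite R _
    have hR : (N'.comap (algebraMap R (S ⊗[R] S))) = IsLocalRing.maximalIdeal R :=
      IsLocalRing.eq_maximalIdeal (Ideal.isMaximal_comap_of_isIntegral_of_isMaximal N')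
    have hl : ∀ (i : S →ₐ[R] S ⊗[R] S) (s : S), ε s = 0 → i s ∈ N' := by
      intro i s hs
      haveI hc : (N'.comap i).IsMaximal := by
        refine Ideal.isMaximal_comap_of_isIntegral_of_isMaximal' i.toRingHom ?_ N'
        refine RingHom.IsIntegral.tower_top (algebraMap R S) i.toRingHom ?_
        rw [show i.toRingHom.comp (algebraMap R S) = algebraMap R (S ⊗[R] S) from i.comp_algebraMap]
        exact Algebra.IsIntegral.isIntegral
      show s ∈ N'.comap i
      rw [IsLocalRing.eq_maximalIdeal hc]
      exact hker s hs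
    refine (hN'.eq_of_le (Ideal.comap_ne_top _ (IsLocalRing.maximalIdeal.isMaximal R).ne_top) fun z hz => ?_)
    have hz' : ∀ z, z - algebraMap R (S ⊗[R] S) (E z) ∈ N' := by
      intro z
      induction z using TensorProduct.induction_on with
      | zero => simp
      | add p q hp hq => rw [map_add, map_add, add_sub_add_comm]; exact N'.add_mem hp hq
      | tmul x y =>
        have h1 : (Algebra.TensorProduct.includeLeft : S →ₐ[R] S ⊗[R] S) (x - algebraMap R S (ε x)) ∈ N' :=
          hl (Algebra.TensorProduct.includeLeft : S →ₐ[R] S ⊗[R] S) _ (by simp)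
        have h2 : (Algebra.TensorProduct.includeRight : S →ₐ[R] S ⊗[R] S) (y - algebraMap R S (ε y)) ∈ N' :=
          hl (Algebra.TensorProduct.includeRight : S →ₐ[R] S ⊗[R] S) _ (by simp)
        have e1 : (x ⊗ₜ[R] y : S ⊗[R] S) - algebraMap R (S ⊗[R] S) (E (x ⊗ₜ[R] y)) =
            ((Algebra.TensorProduct.includeRight : S →ₐ[R] S ⊗[R] S) y) *
              (Algebra.TensorProduct.includeLeft : S →ₐ[R] S ⊗[R] S) (x - algebraMap R S (ε x)) +
            algebraMap R (S ⊗[R] S) (ε x) * (Algebra.TensorProduct.includeRight : S →ₐ[R] S ⊗[R] S) (y - algebraMap R S (ε y)) := by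
          rw [map_sub, map_sub, AlgHom.commutes, AlgHom.commutes,
            show E (x ⊗ₜ[R] y) = ε x * ε y by simp [E],
            show (x ⊗ₜ[R] y : S ⊗[R] S) = ((Algebra.TensorProduct.includeRight : S →ₐ[R] S ⊗[R] S) y) *
              ((Algebra.TensorProduct.includeLeft : S →ₐ[R] S ⊗[R] S) x) by simp, map_mul]
          ring
        rw [e1]
        exact N'.add_mem (N'.mul_mem_left _ h1) (N'.mul_mem_left _ h2)
    show E z ∈ IsLocalRing.maximalIdeal R
    rw [← hR]
    show algebraMap R (S ⊗[R] S) (E z) ∈ N'
    rw [show algebraMap R (S ⊗[R] S) (E z) = z - (z - algebraMap R (S ⊗[R] S) (E z)) by ring]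
    exact N'.sub_mem hz (hz' z)
  exact ⟨N, hN, fun N' hN' => (key N' hN').trans (key N hN).symm⟩

theorem idem_local {S : Type v} [CommRing S] [IsLocalRing S] {e : S} (he : IsIdempotentElem e)
    {R : Type u} [CommRing R] [Nontrivial R] (f : S →+* R) (h : f e = 0) : e = 0 := by
  rcases IsLocalRing.isUnit_or_isUnit_one_sub_self e with hu | hu
  · exact absurd (hu.map f) (by rw [h]; exact not_isUnit_zero)
  · exact (hu.mul_right_eq_zero).mp (by rw [sub_mul, one_mul, he.eq, sub_self])

/-- Let R be a henselian local ring and G = Spec A a finite flat group scheme over R (A a commutative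
Hopf algebra over R, finite and flat as an R-module; G need not be commutative). Let e be an
idempotent of A on which the counit takes the value 1 and such that A/(1 - e) is a local ring, so
that Spec A/(1 - e) is the connected component G⁰ of G containing the unit section. Then the ideal
(1 - e) is a Hopf ideal (G⁰ is a closed subgroup scheme of G), A/(1 - e) is a henselian local ring
with the same residue field as R (the composite R → A/(1 - e) → residue field is surjective), and
A/(1 - e) is flat over R. (The published statement also asserts that G⁰ is normal in G; this row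
does not state normality.) -/
theorem result (R : Type u) [CommRing R] [HenselianLocalRing R]
    (A : Type v) [CommRing A] [HopfAlgebra R A] [Module.Finite R A] [Module.Flat R A]
    (e : A) (he : IsIdempotentElem e) (hε : Bialgebra.counitAlgHom R A e = 1)
    [IsLocalRing (A ⧸ Ideal.span ({1 - e} : Set A))] :
    (Ideal.span ({1 - e} : Set A)).IsHopfIdeal R ∧ HenselianLocalRing (A ⧸ Ideal.span ({1 - e} : Set A)) ∧
      Function.Surjective (⇑(IsLocalRing.residue (A ⧸ Ideal.span ({1 - e} : Set A))) ∘ ⇑(algebraMap R (A ⧸ Ideal.span ({1 - e} : Set A)))) ∧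
      Module.Flat R (A ⧸ Ideal.span ({1 - e} : Set A)) := by
  classical
  let J := Ideal.span ({1 - e} : Set A)
  let q : A →ₐ[R] A ⧸ J := Ideal.Quotient.mkₐ R J
  let ε₁ : A ⧸ J →ₐ[R] R := Ideal.Quotient.liftₐ J (Bialgebra.counitAlgHom R A) fun a ha => by
    obtain ⟨b, rfl⟩ := Ideal.mem_span_singleton'.mp ha
    rw [map_mul, map_sub, map_one, hε, sub_self, mul_zero]
  haveI : Module.Finite R (A ⧸ J) := Module.Finite.of_surjective q.toLinearMap Ideal.Quotient.mk_surjective
  have hε1 : CoalgebraStruct.counit (R := R) (1 - e) = 0 := by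
    show Bialgebra.counitAlgHom R A (1 - e) = 0
    rw [map_sub, map_one, hε, sub_self]
  refine ⟨?_, henselian_finite R (A ⧸ J), ?_, ?_⟩
  · haveI : IsLocalRing (TensorProduct R (A ⧸ J) (A ⧸ J)) := local_tensor R (A ⧸ J) ε₁
    let qq := (Algebra.TensorProduct.map q q).comp (Bialgebra.comulAlgHom R A)
    have hkey : ∀ z : TensorProduct R A A, Algebra.TensorProduct.lift ε₁ ε₁ (fun _ _ => Commute.all _ _)
        (Algebra.TensorProduct.map q q z) =
          Bialgebra.counitAlgHom R A (TensorProduct.lid R A ((CoalgebraStruct.counit (R := R) (A := A)).rTensor A z)) := by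
      intro z
      induction z using TensorProduct.induction_on with
      | zero => simp
      | add p r hp hr => simp only [map_add, hp, hr]
      | tmul x y => simp [q, ε₁]
    have h0 : qq (1 - e) = 0 := by
      refine idem_local (he.one_sub.map qq)
        (Algebra.TensorProduct.lift ε₁ ε₁ fun _ _ => Commute.all _ _).toRingHom ?_
      show Algebra.TensorProduct.lift ε₁ ε₁ (fun _ _ => Commute.all _ _)
        (Algebra.TensorProduct.map q q (CoalgebraStruct.comul (R := R) (1 - e))) = 0
      rw [hkey, Coalgebra.rTensor_counit_comul, TensorProduct.lid_tmul, one_smul]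
      exact hε1
    have hS : q (HopfAlgebra.antipodeAlgHom R A (1 - e)) = 0 := by
      refine idem_local (he.one_sub.map (q.comp (HopfAlgebra.antipodeAlgHom R A))) ε₁.toRingHom ?_
      show Bialgebra.counitAlgHom R A (HopfAlgebra.antipodeAlgHom R A (1 - e)) = 0
      exact (HopfAlgebra.counit_antipode (R := R) (1 - e)).trans hε1
    haveI : (J.restrictScalars R).IsCoideal := by
      refine Submodule.IsCoideal.mk ?_ ?_
      · intro x hx
        obtain ⟨a, rfl⟩ := Ideal.mem_span_singleton'.mp hx
        show Bialgebra.counitAlgHom R A (a * (1 - e)) = 0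
        rw [map_mul, show Bialgebra.counitAlgHom R A (1 - e) = 0 from hε1, mul_zero]
      · intro x hx
        obtain ⟨a, rfl⟩ := Ideal.mem_span_singleton'.mp hx
        show qq (a * (1 - e)) = 0
        rw [map_mul, h0, mul_zero]
    refine Ideal.IsHopfIdeal.mk ?_
    intro x hx
    obtain ⟨a, rfl⟩ := Ideal.mem_span_singleton'.mp hx
    show HopfAlgebra.antipodeAlgHom R A (a * (1 - e)) ∈ J
    rw [map_mul]
    exact J.mul_mem_left _ (Ideal.Quotient.eq_zero_iff_mem.mp hS)
  · intro z
    obtain ⟨a, rfl⟩ := IsLocalRing.residue_surjective z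
    refine ⟨ε₁ a, ?_⟩
    show IsLocalRing.residue (A ⧸ J) (algebraMap R (A ⧸ J) (ε₁ a)) = _
    rw [← sub_eq_zero, ← map_sub, IsLocalRing.residue_eq_zero_iff]
    intro hu
    have := hu.map ε₁
    rw [map_sub, AlgHom.commutes, Algebra.algebraMap_self, RingHom.id_apply, sub_self] at this
    exact not_isUnit_zero this
  · let s : A ⧸ J →ₗ[R] A := Submodule.liftQ (J.restrictScalars R) (LinearMap.mulLeft R e) fun x hx => by
      obtain ⟨a, rfl⟩ := Ideal.mem_span_singleton'.mp hx
      show e * (a * (1 - e)) = 0
      rw [mul_left_comm, mul_sub, mul_one, he.eq, sub_self, mul_zero]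
    refine Module.Flat.of_retract s q.toLinearMap (LinearMap.ext fun z => ?_)
    obtain ⟨a, rfl⟩ := Ideal.Quotient.mk_surjective z
    show Ideal.Quotient.mk J (e * a) = Ideal.Quotient.mk J a
    rw [Ideal.Quotient.eq, show e * a - a = -a * (1 - e) by ring]
    exact J.mul_mem_left _ (Ideal.mem_span_singleton_self _)

end Groth.Agent.S13404
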