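import Groth.Statements.S13407
import Mathlib
import Groth.Agent.Lib.H8MultLocalModel

set_option autoImplicit false
universe u
open TensorProduct
open Hopf

namespace Groth.Agent.S13407

/-- Let R be a Dedekind domain with fraction field K and let G = Spec A be a finite flat group scheme
over R (A a commutative Hopf algebra over R, finite and flat as an R-module). Closed flat R-subgroup
schemes of G correspond one-to-one to closed K-subgroup schemes of the generic fibre G_K under H ↦
H_K: the map sending a Hopf ideal J' of A with A/J' flat over R to the ideal it generates in K ⊗_R A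
is a bijection onto the set of Hopf ideals of the Hopf algebra K ⊗_R A over K (its inverse takes a
Hopf ideal of K ⊗_R A to its preimage in A). -/
theorem result (R : Type u) [CommRing R] [IsDedekindDomain R]
    (K : Type u) [Field K] [Algebra R K] [IsFractionRing R K]
    (A : Type u) [CommRing A] [HopfAlgebra R A] [Module.Finite R A] [Module.Flat R A] :
    Set.BijOn (fun J' : Ideal A => Ideal.map (Algebra.TensorProduct.includeRight : A →ₐ[R] K ⊗[R] A) J')
      {J' : Ideal A | J'.IsHopfIdeal R ∧ Module.Flat R (A ⧸ J')}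
      {J : Ideal (K ⊗[R] A) | J.IsHopfIdeal K} := by
  classical
  let ι : A →ₐ[R] K ⊗[R] A := Algebra.TensorProduct.includeRight
  have hι : ∀ z : K ⊗[R] A, ∃ r : nonZeroDivisors R, ∃ a : A, (r : R) • z = ι a := by
    intro z
    obtain ⟨⟨a, r⟩, h⟩ := IsLocalizedModule.surj (nonZeroDivisors R) (TensorProduct.mk R K A 1) z
    exact ⟨r, a, h⟩
  have hker : ∀ a : A, ι a = 0 → ∃ r : nonZeroDivisors R, (r : R) • a = 0 := by
    intro a ha
    obtain ⟨r, hr⟩ := (IsLocalizedModule.eq_zero_iff (nonZeroDivisors R) (TensorProduct.mk R K A 1)).mp ha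
    exact ⟨r, hr⟩
  have hsmul : ∀ (r : R) (z : K ⊗[R] A), r • z = algebraMap K (K ⊗[R] A) (algebraMap R K r) * z := fun r z => by
    rw [← Algebra.smul_def, algebraMap_smul]
  have hcomap : ∀ J' : Ideal A, Module.Flat R (A ⧸ J') → (J'.map ι).comap ι = J' := by
    intro J' hflat
    haveI := hflat
    haveI : Module.IsTorsionFree R (A ⧸ J') := inferInstance
    refine le_antisymm (fun a ha => ?_) Ideal.le_comap_map
    suffices h : ∀ z ∈ J'.map ι, ∃ r : nonZeroDivisors R, ∃ b ∈ J', (r : R) • z = ι b by
      obtain ⟨r, b, hb, hrb⟩ := h _ ha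
      obtain ⟨r', hr'⟩ := hker ((r : R) • a - b) (by rw [map_sub, map_smul, hrb, sub_self])
      have h1 : ((r' : R) * r) • Ideal.Quotient.mk J' a = 0 := by
        rw [show ((r' : R) * r) • Ideal.Quotient.mk J' a = Ideal.Quotient.mk J' (((r' : R) * r) • a) from rfl,
          Ideal.Quotient.eq_zero_iff_mem, mul_smul]
        rw [smul_sub, sub_eq_zero] at hr'
        rw [hr']
        exact Submodule.smul_of_tower_mem J' _ hb
      exact Ideal.Quotient.eq_zero_iff_mem.mp
        ((smul_eq_zero.mp h1).resolve_left (nonZeroDivisors.ne_zero (mul_mem r'.2 r.2)))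
    intro z hz
    induction hz using Submodule.span_induction with
    | mem y hy =>
      obtain ⟨b, hb, rfl⟩ := hy
      exact ⟨1, b, hb, one_smul R _⟩
    | zero => exact ⟨1, 0, zero_mem _, by simp⟩
    | add y w _ _ hy hw =>
      obtain ⟨r, b, hb, hrb⟩ := hy
      obtain ⟨s, c, hc, hsc⟩ := hw
      refine ⟨r * s, (s : R) • b + (r : R) • c, add_mem (Submodule.smul_of_tower_mem J' _ hb)
        (Submodule.smul_of_tower_mem J' _ hc), ?_⟩
      rw [map_add, map_smul, map_smul, ← hrb, ← hsc, smul_add, smul_smul, smul_smul, Submonoid.coe_mul, mul_comm (r : R) s,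
        mul_comm (s : R) r]
    | smul c y _ hy =>
      obtain ⟨r, b, hb, hrb⟩ := hy
      obtain ⟨s, a', hs⟩ := hι c
      refine ⟨s * r, a' * b, Ideal.mul_mem_left _ _ hb, ?_⟩
      rw [map_mul, ← hs, ← hrb, Submonoid.coe_mul, smul_eq_mul]
      simp only [Algebra.smul_mul_assoc, Algebra.mul_smul_comm, smul_smul, mul_comm (s : R) r]
  refine ⟨fun J' hJ' => ?_, fun J₁ h₁ J₂ h₂ h => ?_, fun J hJ => ?_⟩
  · haveI : J'.IsHopfIdeal R := hJ'.1
    let X := A ⧸ J'
    let π : K ⊗[R] A →ₐc[K] K ⊗[R] X :=
      Bialgebra.TensorProduct.map (BialgHom.id K K) (Bialgebra.Quotient.mkBialgHom J')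
    have hπeq : ∀ z, π z = Algebra.TensorProduct.map (AlgHom.id K K) (Ideal.Quotient.mkₐ R J') z := by
      intro z
      induction z using TensorProduct.induction_on with
      | zero => simp
      | tmul a b => rfl
      | add p q hp hq => simp only [map_add, hp, hq]
    have hπ : Function.Surjective π := by
      intro w
      induction w using TensorProduct.induction_on with
      | zero => exact ⟨0, map_zero π⟩
      | tmul a b =>
        obtain ⟨b, rfl⟩ := Ideal.Quotient.mk_surjective b
        exact ⟨a ⊗ₜ b, rfl⟩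
      | add p q hp hq =>
        obtain ⟨x, rfl⟩ := hp
        obtain ⟨y, rfl⟩ := hq
        exact ⟨x + y, map_add π x y⟩
    refine Groth.Agent.H8MultLocalModel.isHopfIdeal_ker π hπ _ fun z => ?_
    constructor
    · intro hz
      induction hz using Submodule.span_induction with
      | mem y hy =>
        obtain ⟨b, hb, rfl⟩ := hy
        show (1 : K) ⊗ₜ[R] Ideal.Quotient.mk J' b = 0
        rw [Ideal.Quotient.eq_zero_iff_mem.mpr hb, tmul_zero]
      | zero => exact map_zero π
      | add y w _ _ hy hw => rw [map_add π, hy, hw, add_zero]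
      | smul c y _ hy => rw [smul_eq_mul, map_mul π, hy, mul_zero]
    · intro hz
      obtain ⟨r, a, ha⟩ := hι z
      have h1 : (1 : K) ⊗ₜ[R] Ideal.Quotient.mk J' a = (0 : K ⊗[R] X) := by
        have h2 : π (ι a) = 0 := by rw [← ha, hsmul, map_mul π, hz, mul_zero]
        exact h2
      obtain ⟨s, hs⟩ := (IsLocalizedModule.eq_zero_iff (nonZeroDivisors R) (TensorProduct.mk R K X 1)).mp h1
      have h3 : (s : R) • a ∈ J' := by
        rw [← Ideal.Quotient.eq_zero_iff_mem, ← Ideal.Quotient.mkₐ_eq_mk R, map_smul]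
        exact hs
      have h4 : ((s : R) * r) • z ∈ J'.map ι := by
        rw [mul_smul, ha, ← map_smul]
        exact Ideal.mem_map_of_mem _ h3
      rw [hsmul] at h4
      exact (Ideal.unit_mul_mem_iff_mem (J'.map ι) ((IsUnit.mk0 _ (IsFractionRing.to_map_ne_zero_of_mem_nonZeroDivisors (mul_mem s.2 r.2))).map
        (algebraMap K (K ⊗[R] A)))).mp h4
  · rw [← hcomap J₁ h₁.2, ← hcomap J₂ h₂.2]
    exact congrArg (Ideal.comap ι) h
  · haveI : J.IsHopfIdeal K := hJ
    let J' := J.comap ι
    let X := A ⧸ J'
    let Y := (K ⊗[R] A) ⧸ J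
    haveI : Module.Flat R X := by
      haveI : Module.IsTorsionFree R X := Module.isTorsionFree_iff_smul_eq_zero.mpr fun r x h => by
        by_cases hr : r = 0
        · exact Or.inl hr
        refine Or.inr ?_
        obtain ⟨a, rfl⟩ := Ideal.Quotient.mk_surjective x
        rw [← Ideal.Quotient.mkₐ_eq_mk R, ← map_smul, Ideal.Quotient.mkₐ_eq_mk, Ideal.Quotient.eq_zero_iff_mem] at h
        rw [Ideal.Quotient.eq_zero_iff_mem]
        have h' : (r • ι a) ∈ J := by rw [← map_smul]; exact h
        rw [hsmul] at h'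
        exact (Ideal.unit_mul_mem_iff_mem J ((IsUnit.mk0 _ (IsFractionRing.to_map_ne_zero_of_mem_nonZeroDivisors
          (mem_nonZeroDivisors_of_ne_zero hr))).map (algebraMap K (K ⊗[R] A)))).mp h'
      infer_instance
    have hX : ∀ w : X ⊗[R] X, (1 : K) ⊗ₜ[R] w = 0 → w = 0 := fun w hw => by
      obtain ⟨r, hr⟩ := (IsLocalizedModule.eq_zero_iff (nonZeroDivisors R) (TensorProduct.mk R K (X ⊗[R] X) 1)).mp hw
      exact (smul_eq_zero.mp hr).resolve_left (nonZeroDivisors.ne_zero r.2)
    let eK : K ⊗[R] X →ₐ[K] Y := Algebra.TensorProduct.lift (Algebra.ofId K Y)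
      (Ideal.Quotient.liftₐ J' ((Ideal.Quotient.mkₐ R J).comp ι) fun a ha => Ideal.Quotient.eq_zero_iff_mem.mpr ha)
      fun _ _ => Commute.all _ _
    have heK : Function.Injective eK := by
      refine (injective_iff_map_eq_zero eK).mpr fun z hz => ?_
      obtain ⟨⟨x, r⟩, hr⟩ := IsLocalizedModule.surj (nonZeroDivisors R) (TensorProduct.mk R K X 1) z
      obtain ⟨a, rfl⟩ := Ideal.Quotient.mk_surjective x
      have hr' : (r : R) • z = (1 : K) ⊗ₜ[R] Ideal.Quotient.mk J' a := hr
      have h1 := congrArg eK hr'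
      rw [← algebraMap_smul K (r : R) z, map_smul, hz, smul_zero] at h1
      have e1 : eK ((1 : K) ⊗ₜ[R] Ideal.Quotient.mk J' a) = Ideal.Quotient.mk J (ι a) := by
        show Algebra.ofId K Y 1 * Ideal.Quotient.mk J (ι a) = _
        rw [map_one, one_mul]
      rw [e1] at h1
      have h2 : ι a ∈ J := Ideal.Quotient.eq_zero_iff_mem.mp h1.symm
      rw [Ideal.Quotient.eq_zero_iff_mem.mpr (show a ∈ J' from h2), tmul_zero, ← algebraMap_smul K (r : R) z,
        smul_eq_zero] at hr'
      exact hr'.resolve_left (IsFractionRing.to_map_ne_zero_of_mem_nonZeroDivisors r.2)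
    haveI hJ' : J'.IsHopfIdeal R :=
      { counit_eq_zero := fun a ha => by
          have h := hJ.counit_eq_zero (x := ι a) ha
          rw [show ι a = (1 : K) ⊗ₜ[R] a from rfl, TensorProduct.counit_tmul, Bialgebra.counit_one, Algebra.smul_def,
            mul_one] at h
          exact (map_eq_zero_iff _ (IsFractionRing.injective R K)).mp h
        map_mkQ_comul_eq_zero := fun a ha => by
          let qX : A →ₗ[R] X := (Ideal.Quotient.mkₐ R J').toLinearMap
          suffices h : TensorProduct.map qX qX (CoalgebraStruct.comul (R := R) a) = 0 by exact h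
          refine hX _ ?_
          have hYi : Function.Injective (TensorProduct.map eK.toLinearMap eK.toLinearMap) :=
            TensorProduct.map_injective_of_flat_flat _ _ heK heK
          let δ : K ⊗[R] (X ⊗[R] X) ≃ₗ[K] (K ⊗[R] X) ⊗[K] (K ⊗[R] X) :=
            TensorProduct.AlgebraTensorModule.distribBaseChange R K X X
          apply δ.injective
          rw [map_zero]
          apply hYi
          rw [map_zero]
          refine Eq.trans ?_ (hJ.map_mkQ_comul_eq_zero (x := ι a) ha)
          show _ = TensorProduct.map (J.restrictScalars K).mkQ (J.restrictScalars K).mkQ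
            (CoalgebraStruct.comul (R := K) ((1 : K) ⊗ₜ[R] a))
          rw [Groth.Agent.H8Mult.comul_one_tmul]
          generalize CoalgebraStruct.comul (R := R) a = z
          induction z using TensorProduct.induction_on with
          | zero => simp; rfl
          | tmul x y => simp [δ, qX, eK]; rfl
          | add p q hp hq => simp only [map_add, tmul_add, hp, hq]; rfl
        antipode_mem := fun a ha => by
          have h := hJ.antipode_mem (x := ι a) ha
          show ι (HopfAlgebraStruct.antipode R a) ∈ J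
          simpa [ι] using h }
    refine ⟨J', ⟨hJ', inferInstance⟩, le_antisymm Ideal.map_comap_le fun z hz => ?_⟩
    obtain ⟨r, a, ha⟩ := hι z
    have h1 : a ∈ J' := by
      show ι a ∈ J
      rw [← ha, hsmul]
      exact J.mul_mem_left _ hz
    have h2 : ι a ∈ J'.map ι := Ideal.mem_map_of_mem _ h1
    rw [← ha, hsmul] at h2
    exact (Ideal.unit_mul_mem_iff_mem _ ((IsUnit.mk0 _ (IsFractionRing.to_map_ne_zero_of_mem_nonZeroDivisors r.2)).map
      (algebraMap K (K ⊗[R] A)))).mp h2

end Groth.Agent.S13407
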