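import Groth.Statements.S13569
import Groth.Agent.Lib.H9StUnivInj

set_option autoImplicit false
set_option backward.isDefEq.respectTransparency.types false
universe u
open CategoryTheory AlgebraicGeometry
open AlgSt

namespace Groth.Agent.S13569

/-- (2) ⇒ (1): let `f : 𝒳 ⟶ 𝒴` be a morphism of algebraic stacks over `S`. If for every affine scheme
`Z` over `S` and every `Z ⟶ 𝒴` the projection `Z ×_𝒴 𝒳 ⟶ Z` is universally injective, then `f` is
universally injective (every base change to an algebraic stack is injective on points). The converse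
implication is the base-change property. -/
theorem result {S : Scheme.{u}} {𝒳 𝒴 : AlgSt.Cat S}
    (h𝒳 : AlgSt.IsAlgStack Scheme.fppfPrecoverage 𝒳) (h𝒴 : AlgSt.IsAlgStack Scheme.fppfPrecoverage 𝒴) (f : 𝒳 ⥤ᵇ 𝒴)
    (h : ∀ (Z : Over S) [IsAffine Z.left] (z : FibCat.overCat Z ⥤ᵇ 𝒴),
      AlgSt.IsUnivInjective Scheme.fppfPrecoverage (FibCat.fpFst z f)) :
    AlgSt.IsUnivInjective Scheme.fppfPrecoverage f := by
  haveI := h𝒳.isStack.1
  haveI := h𝒴.isStack.1
  refine (H9St.univInjective_iff h𝒳 h𝒴 f).2 fun v => ?_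
  obtain ⟨U, p, -, hps⟩ := h𝒴.atlas
  haveI : FibCat.IsFibGrpd (FibCat.overCat U).p := H9St.isFibGrpd_overCat U
  obtain ⟨t, ht⟩ := H9St.surjective_ofChart (Y := 𝒴) hps (AlgSt.Points.map (BasedFunctor.comp (FibCat.fpFst f f) f) v)
  obtain ⟨V, hV, htV, -⟩ := exists_isAffineOpen_mem_and_subset (X := U.left) (x := t) (U := ⊤) trivial
  haveI : IsAffine (V : Scheme.{u}) := hV
  let V' : Over S := Over.mk (V.ι ≫ U.hom)
  haveI : IsAffine V'.left := hV
  let c : V' ⟶ U := Over.homMk V.ι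
  let z := BasedFunctor.comp (AlgSt.overMap c) p
  haveI : FibCat.IsFibGrpd (FibCat.overCat V').p := H9St.isFibGrpd_overCat V'
  have hA := H9St.isAlgStack_fp' (H9St.isAlgStack_overCat V') h𝒳 h𝒴 z f
  refine H9St.mem_range_diag_of_chart z f ((H9St.univInjective_iff hA (H9St.isAlgStack_overCat V') _).1 (h V' z)) v
    (AlgSt.Points.mk (H9St.ptAt (U := V') ⟨t, htV⟩)) ?_
  rw [H9St.points_map_mk_ptAt, ← ht]
  exact H9St.ofChart_overMap_comp c p _

end Groth.Agent.S13569
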