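import Groth.Statements.S9738
import Groth.Agent.Lib.H2LocalCrit

set_option autoImplicit false
universe u
open FlatMor

namespace Groth.Agent.S9738
open scoped TensorProduct

open AlgebraicGeometry CategoryTheory Limits TensorProduct in
theorem flat_quot {X Y : Scheme.{u}} (f : X ⟶ Y) {R S : Type u} [CommRing R] [CommRing S] [Algebra R S]
    (i : Spec (.of R) ⟶ Y) [IsOpenImmersion i] (j : Spec (.of S) ⟶ X) [IsOpenImmersion j]
    (w : Spec.map (CommRingCat.ofHom (algebraMap R S)) ≫ i = j ≫ f) (J : Ideal R)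
    (h : Flat (pullback.snd f (Spec.map (CommRingCat.ofHom (Ideal.Quotient.mk J)) ≫ i))) :
    Module.Flat (R ⧸ J) ((R ⧸ J) ⊗[R] S) := by
  let φ := CommRingCat.ofHom (algebraMap R S)
  let g : Spec (.of (R ⧸ J)) ⟶ Spec (.of R) := Spec.map (CommRingCat.ofHom (algebraMap R (R ⧸ J)))
  let a : Spec (.of ((R ⧸ J) ⊗[R] S)) ⟶ Spec (.of S) :=
    Spec.map (CommRingCat.ofHom (Algebra.TensorProduct.includeRight.toRingHom : S →+* (R ⧸ J) ⊗[R] S))
  let b : Spec (.of ((R ⧸ J) ⊗[R] S)) ⟶ Spec (.of (R ⧸ J)) :=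
    Spec.map (CommRingCat.ofHom (algebraMap (R ⧸ J) ((R ⧸ J) ⊗[R] S)))
  have sq1 : IsPullback a b (Spec.map φ) g :=
    (isPullback_SpecMap_of_isPushout _ _ _ _ (CommRingCat.isPushout_tensorProduct R (R ⧸ J) S).flip)
  let t : Spec (.of (R ⧸ J)) ⟶ Y := g ≫ i
  haveI : Flat (pullback.snd f t) := h
  let m₀ : pullback (Spec.map φ) g ⟶ pullback f t :=
    pullback.map (Spec.map φ) g f t j (𝟙 _) i w (Category.id_comp _).symm
  let m : Spec (.of ((R ⧸ J) ⊗[R] S)) ⟶ pullback f t := sq1.isoPullback.hom ≫ m₀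
  haveI : IsOpenImmersion m := inferInstance
  have hm2 : m ≫ pullback.snd f t = b := by
    simp only [m, m₀, pullback.map, Category.assoc]
    erw [pullback.lift_snd]
    simp
  have hb : Flat b := hm2 ▸ inferInstance
  rw [Flat.SpecMap_iff, CommRingCat.hom_ofHom, RingHom.flat_algebraMap_iff] at hb
  exact hb

open AlgebraicGeometry CategoryTheory Limits in
/-- For a morphism f : X ⟶ S between locally Noetherian schemes, an ideal sheaf I on S with closed
subscheme Z, and Z_n the closed subscheme cut out by I^(n+1): if each base change X ×_S Z_n ⟶ Z_n is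
flat, then f is flat at each point of X lying over Z. -/
theorem result {X S : Scheme.{u}} (f : X ⟶ S) [IsLocallyNoetherian X] [IsLocallyNoetherian S]
    (I : S.IdealSheafData) (h : ∀ n : ℕ, Flat (pullback.snd f (I ^ (n + 1)).subschemeι)) (x : X) (hx : f x ∈ I.support) :
    (f.stalkMap x).hom.Flat := by
  obtain ⟨U, hU, hxU, -⟩ := exists_isAffineOpen_mem_and_subset (X := S) (x := f x) (U := ⊤) trivial
  obtain ⟨V, hV, hxV, hVU⟩ := exists_isAffineOpen_mem_and_subset (X := X) (x := x) (U := f ⁻¹ᵁ U) hxU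
  replace hVU : V ≤ f ⁻¹ᵁ U := hVU
  haveI : IsNoetherianRing Γ(S, U) := IsLocallyNoetherian.component_noetherian ⟨U, hU⟩
  haveI : IsNoetherianRing Γ(X, V) := IsLocallyNoetherian.component_noetherian ⟨V, hV⟩
  algebraize [(f.appLE U V hVU).hom]
  let J := I.ideal ⟨U, hU⟩
  have hflat : ∀ n : ℕ, 0 < n → Module.Flat (Γ(S, U) ⧸ J ^ n) ((Γ(S, U) ⧸ J ^ n) ⊗[Γ(S, U)] Γ(X, V)) := by
    intro n hn
    obtain ⟨m, rfl⟩ : ∃ m, n = m + 1 := ⟨n - 1, by omega⟩
    refine flat_quot f hU.fromSpec hV.fromSpec (IsAffineOpen.SpecMap_appLE_fromSpec f hU hV hVU) _ ?_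
    have hJ : (I ^ (m + 1)).ideal ⟨U, hU⟩ = J ^ (m + 1) := rfl
    have e : (I ^ (m + 1)).glueDataObjι ⟨U, hU⟩ ≫ U.ι =
        Spec.map (CommRingCat.ofHom (Ideal.Quotient.mk (J ^ (m + 1)))) ≫ hU.fromSpec := by
      simp only [Scheme.IdealSheafData.glueDataObjι, Category.assoc, IsAffineOpen.isoSpec_inv_ι]
      rfl
    rw [← e, ← Scheme.IdealSheafData.subschemeCover_map_subschemeι]
    let c := (I ^ (m + 1)).subschemeCover.f ⟨U, hU⟩
    let ι := (I ^ (m + 1)).subschemeι
    have sq : IsPullback (pullback.map f (c ≫ ι) f ι (𝟙 _) c (𝟙 _) (by simp) (by simp))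
        (pullback.snd f (c ≫ ι)) (pullback.snd f ι) c := by
      refine .of_right (h₁₂ := pullback.fst f ι) ?_ ?_ (IsPullback.of_hasPullback f ι)
      · rw [show pullback.map f (c ≫ ι) f ι (𝟙 _) c (𝟙 _) (by simp) (by simp) ≫ pullback.fst f ι = pullback.fst f (c ≫ ι)
          from (pullback.lift_fst _ _ _).trans (Category.comp_id _)]
        exact IsPullback.of_hasPullback f (c ≫ ι)
      · exact pullback.lift_snd _ _ _
    exact MorphismProperty.of_isPullback (P := @Flat) sq (h m)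
  set P := hU.primeIdealOf ⟨f x, hxU⟩ with hP
  set Q := hV.primeIdealOf ⟨x, hxV⟩ with hQ
  have hQP : PrimeSpectrum.comap (algebraMap Γ(S, U) Γ(X, V)) Q = P :=
    IsAffineOpen.comap_primeIdealOf_appLE U hU V hV hVU hxV
  have hJP : J ≤ P.asIdeal := by
    have h1 := (Scheme.IdealSheafData.mem_support_iff_of_mem (U := ⟨U, hU⟩) hxU).mp hx
    have e1 : hU.fromSpec P = f x := hU.fromSpec_primeIdealOf _
    have e2 := Set.ext_iff.mp (hU.fromSpec_preimage_zeroLocus (J : Set Γ(S, U))) P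
    exact e2.mp (show hU.fromSpec P ∈ S.zeroLocus (U := U) (J : Set Γ(S, U)) by rw [e1]; exact h1)
  haveI : Module.Flat Γ(S, U) (LocalizedModule Q.asIdeal.primeCompl Γ(X, V)) :=
    H2LocalCrit.flat_localized_of_flat_pow J hflat Q.asIdeal (Ideal.map_le_iff_le_comap.mpr (by
      have := congrArg PrimeSpectrum.asIdeal hQP
      rw [PrimeSpectrum.comap_asIdeal] at this
      rw [this]
      exact hJP))
  haveI : Q.asIdeal.LiesOver P.asIdeal := ⟨(congrArg PrimeSpectrum.asIdeal hQP).symm⟩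
  let := Localization.AtPrime.algebraOfLiesOver P.asIdeal Q.asIdeal
  haveI : Module.Flat Γ(S, U) (Localization.AtPrime Q.asIdeal) :=
    Module.Flat.of_linearEquiv ((IsLocalizedModule.iso Q.asIdeal.primeCompl
      (Algebra.linearMap Γ(X, V) (Localization.AtPrime Q.asIdeal))).symm.restrictScalars Γ(S, U))
  haveI : Module.Flat (Localization.AtPrime P.asIdeal) (Localization.AtPrime Q.asIdeal) :=
    (Module.flat_iff_of_isLocalization (Localization.AtPrime P.asIdeal) P.asIdeal.primeCompl _).mpr inferInstance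
  rw [RingHom.Flat.respectsIso.arrow_mk_iso_iff (IsAffineOpen.arrowStalkMapIso f U hU V hV hVU hxV)]
  exact RingHom.flat_algebraMap_iff.mpr ‹Module.Flat (Localization.AtPrime P.asIdeal) (Localization.AtPrime Q.asIdeal)›

end Groth.Agent.S9738
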