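import Groth.Statements.S1359
import Groth.Agent.Lib.H3SmoothBaseChange
import Groth.Agent.S9738

set_option autoImplicit false
universe u
open FlatMor

namespace Groth.Agent.S1359

open AlgebraicGeometry CategoryTheory Limits in
/-- Let S be locally Noetherian, f : X → S of finite type, and Z the closed subscheme of S cut out by an
ideal sheaf I, with infinitesimal neighbourhoods cut out by the powers of I. If the base change of f
to every infinitesimal neighbourhood is smooth, then every point of X lying over Z is in the smooth
locus of f. -/
theorem result {X S : Scheme.{u}} (f : X ⟶ S) [IsLocallyNoetherian S] [LocallyOfFinitePresentation f] [QuasiCompact f]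
    (I : S.IdealSheafData) (h : ∀ n : ℕ, Smooth (pullback.snd f (I ^ (n + 1)).subschemeι)) (x : X) (hx : f x ∈ I.support) :
    x ∈ f.smoothLocus := by
    haveI : IsLocallyNoetherian X := LocallyOfFiniteType.isLocallyNoetherian f
    haveI : LocallyOfFinitePresentation (f.fiberToSpecResidueField (f x)) :=
      MorphismProperty.pullback_snd _ _ inferInstance
    refine (Agent.H3SmoothPoint.mem_smoothLocus f x).mpr ⟨?_, ?_⟩
    · exact Agent.S9738.result f I (fun n => by haveI := h n; infer_instance) x hx
    · have hsm : Smooth (pullback.snd f I.subschemeι) := by
        have := h 0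
        rwa [zero_add, pow_one] at this
      obtain ⟨s, hs⟩ : f x ∈ Set.range I.subschemeι := by
        rw [Scheme.IdealSheafData.range_subschemeι]; exact hx
      obtain ⟨z, hz1, -⟩ := Scheme.exists_preimage_of_isPullback (IsPullback.of_hasPullback f I.subschemeι) x s hs.symm
      subst hz1
      have hmem : z ∈ (pullback.snd f I.subschemeι).smoothLocus := by
        rw [Scheme.Hom.smoothLocus_eq_top]; trivial
      haveI : LocallyOfFinitePresentation ((pullback.snd f I.subschemeι).fiberToSpecResidueField (pullback.snd f I.subschemeι z)) :=
        MorphismProperty.pullback_snd _ _ inferInstance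
      exact Agent.H3SmoothBaseChange.fibre_descend (IsPullback.of_hasPullback f I.subschemeι) z
        ((Agent.H3SmoothPoint.mem_smoothLocus _ z).mp hmem).2

end Groth.Agent.S1359
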