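import Groth.Statements.S13597
import Groth.Agent.Lib.H6.Quot
-- import your own Groth.Agent.* helpers here

set_option autoImplicit false
set_option linter.all false
set_option backward.isDefEq.respectTransparency.types false
universe u
open CategoryTheory AlgebraicGeometry
open SGA1

namespace Groth.Agent.S13597

open CategoryTheory AlgebraicGeometry

theorem isFractionRing_quot {R K : Type u} [CommRing R] [Field K] (Q : Ideal R) [Algebra (R ⧸ Q) K]
    (hQ : ∀ r : R, algebraMap (R ⧸ Q) K (Ideal.Quotient.mk Q r) = 0 → r ∈ Q)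
    (hs : ∀ z : K, ∃ a s : R, algebraMap (R ⧸ Q) K (Ideal.Quotient.mk Q s) ≠ 0 ∧
      z = algebraMap (R ⧸ Q) K (Ideal.Quotient.mk Q a) / algebraMap (R ⧸ Q) K (Ideal.Quotient.mk Q s)) :
    IsFractionRing (R ⧸ Q) K := by
  have hinj : Function.Injective (algebraMap (R ⧸ Q) K) := (injective_iff_map_eq_zero _).2 fun r h => by
    obtain ⟨r, rfl⟩ := Ideal.Quotient.mk_surjective r
    exact Ideal.Quotient.eq_zero_iff_mem.2 (hQ r h)
  haveI : IsDomain (R ⧸ Q) := hinj.isDomain _
  refine (isLocalization_iff _ _).2 ⟨fun y => ?_, fun z => ?_, fun {a b} h => ⟨1, by simp [hinj h]⟩⟩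
  · have hy : algebraMap (R ⧸ Q) K y ≠ 0 := fun h => nonZeroDivisors.ne_zero y.2 (hinj (h.trans (map_zero _).symm))
    exact hy.isUnit
  · obtain ⟨a, s, hne, rfl⟩ := hs z
    exact ⟨(Ideal.Quotient.mk Q a, ⟨Ideal.Quotient.mk Q s, mem_nonZeroDivisors_of_ne_zero fun h => hne (by rw [h, map_zero])⟩), div_mul_cancel₀ _ hne⟩

theorem eval_frac {X : Scheme.{u}} {U : X.Opens} (hU : IsAffineOpen U) (x : X) (hx : x ∈ U) (z : X.residueField x) :
    ∃ a s : Γ(X, U), X.evaluation U x hx s ≠ 0 ∧ z = X.evaluation U x hx a / X.evaluation U x hx s := by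
  letI : Algebra Γ(X, U) (X.presheaf.stalk x) := (X.presheaf.germ U x hx).hom.toAlgebra
  haveI := hU.isLocalization_stalk ⟨x, hx⟩
  obtain ⟨w, rfl⟩ := Scheme.residue_surjective X x z
  obtain ⟨⟨a, s⟩, h⟩ := IsLocalization.surj (hU.primeIdealOf ⟨x, hx⟩).asIdeal.primeCompl w
  have hu : IsUnit (X.evaluation U x hx s.1) := by
    rw [← Scheme.germ_residue X x hx, CommRingCat.comp_apply]
    exact (IsLocalization.map_units _ s).map _
  refine ⟨a, s.1, hu.ne_zero, (eq_div_iff hu.ne_zero).2 ?_⟩
  rw [← Scheme.germ_residue X x hx, CommRingCat.comp_apply, CommRingCat.comp_apply, ← map_mul]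
  exact congrArg _ h

theorem eq_of_eval {X : Scheme.{u}} {U : X.Opens} (hU : IsAffineOpen U) (x x' : X) (hx : x ∈ U) (hx' : x' ∈ U)
    (h : ∀ f : Γ(X, U), x ∈ X.basicOpen f ↔ x' ∈ X.basicOpen f) : x = x' := by
  refine (hU.fromSpec_primeIdealOf ⟨x, hx⟩).symm.trans ((congrArg _ ?_).trans (hU.fromSpec_primeIdealOf ⟨x', hx'⟩))
  apply PrimeSpectrum.ext
  ext f
  have key : ∀ (P : PrimeSpectrum Γ(X, U)), hU.fromSpec P ∈ X.basicOpen f ↔ f ∉ P.asIdeal := fun P =>
    iff_of_eq (congrArg (fun (O : (Spec Γ(X, U)).Opens) => P ∈ O) (hU.fromSpec_preimage_basicOpen f))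
  rw [← not_iff_not, ← key, ← key, hU.fromSpec_primeIdealOf, hU.fromSpec_primeIdealOf]
  exact h f

theorem evaluation_congr {X : Scheme.{u}} {U : X.Opens} {x y : X} (e : x = y) (hx : x ∈ U) (hy : y ∈ U) (s : Γ(X, U)) :
    (X.residueFieldCongr e).hom (X.evaluation U x hx s) = X.evaluation U y hy s := by
  subst e; simp

theorem evaluation_res {X : Scheme.{u}} {U V : X.Opens} (hVU : V ≤ U) (x : X) (hx : x ∈ V) (s : Γ(X, U)) :
    X.evaluation V x hx (X.presheaf.map (homOfLE hVU).op s) = X.evaluation U x (hVU hx) s := by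
  rw [← Scheme.germ_residue, ← Scheme.germ_residue, CommRingCat.comp_apply, CommRingCat.comp_apply, TopCat.Presheaf.germ_res_apply]


/-- Let a finite group G act on a scheme X and let p : X ⟶ Y be a quotient of X by G (affine,
G-invariant, sections of O_Y = G-invariant sections of O_X). For a point x of X with image y, the
residue field κ(x) is a normal algebraic extension of κ(y) through the map induced by p, and the
stabilizer of x in G maps onto the group of κ(y)-automorphisms of κ(x): every automorphism τ of κ(x)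
over κ(y) is the map on residue fields induced by some g ∈ G with g·x = x (composed with the
identification of the residue fields at g·x and x). -/
theorem result {X Y : Scheme.{u}} {G : Type u}
    [Group G] [Finite G] (ρ : G →* Aut X) (p : X ⟶ Y) (hp : SGA1.IsQuot ρ p) (x : X) :
    (letI := (p.residueFieldMap x).hom.toAlgebra
     Normal (Y.residueField (p.base x)) (X.residueField x)) ∧
    ∀ τ : X.residueField x ≅ X.residueField x,
      p.residueFieldMap x ≫ τ.hom = p.residueFieldMap x →
      ∃ (g : G) (e : (ρ g).hom.base x = x),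
        τ.hom = (X.residueFieldCongr e).inv ≫ (ρ g).hom.residueFieldMap x := by
  haveI := hp.affine
  obtain ⟨V, hV, hxV, -⟩ := exists_isAffineOpen_mem_and_subset (X := Y) (x := p x) (U := ⊤) trivial
  have hU := hV.preimage p
  have hx : x ∈ p ⁻¹ᵁ V := hxV
  let A := Γ(X, p ⁻¹ᵁ V)
  let B := Γ(Y, V)
  letI : Algebra B A := (p.app V).hom.toAlgebra
  letI := H6.Quot.action hp V
  haveI := H6.Quot.smulCommClass hp V
  haveI := H6.Quot.isInvariant hp V
  let eB : B →+* Y.residueField (p x) := (Y.evaluation V (p x) hxV).hom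
  let eA : A →+* X.residueField x := (X.evaluation (p ⁻¹ᵁ V) x hx).hom
  letI aKL : Algebra (Y.residueField (p x)) (X.residueField x) := (p.residueFieldMap x).hom.toAlgebra
  have nat : ∀ b : B, algebraMap (Y.residueField (p x)) (X.residueField x) (eB b) = eA (algebraMap B A b) := fun b =>
    Scheme.evaluation_naturality_apply p x hxV b
  let P : Ideal B := RingHom.ker eB
  let Q : Ideal A := RingHom.ker eA
  haveI : Q.IsPrime := RingHom.ker_isPrime eA
  haveI : Q.LiesOver P := ⟨by
    ext b
    show eB b = 0 ↔ eA (algebraMap B A b) = 0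
    rw [← nat, map_eq_zero (algebraMap (Y.residueField (p x)) (X.residueField x))]⟩
  letI : Algebra (B ⧸ P) (Y.residueField (p x)) := (RingHom.kerLift eB).toAlgebra
  letI : Algebra (A ⧸ Q) (X.residueField x) := (RingHom.kerLift eA).toAlgebra
  letI : Algebra (B ⧸ P) (X.residueField x) := ((algebraMap (Y.residueField (p x)) (X.residueField x)).comp (RingHom.kerLift eB)).toAlgebra
  haveI : IsScalarTower (B ⧸ P) (Y.residueField (p x)) (X.residueField x) := IsScalarTower.of_algebraMap_eq' rfl
  haveI : IsScalarTower (B ⧸ P) (A ⧸ Q) (X.residueField x) := IsScalarTower.of_algebraMap_eq fun b => by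
    obtain ⟨b, rfl⟩ := Ideal.Quotient.mk_surjective b
    exact nat b
  haveI : IsFractionRing (B ⧸ P) (Y.residueField (p x)) := isFractionRing_quot P (fun r h => h) (fun z => eval_frac hV (p x) hxV z)
  haveI : IsFractionRing (A ⧸ Q) (X.residueField x) := isFractionRing_quot Q (fun r h => h) (fun z => eval_frac hU x hx z)
  constructor
  · show Normal (Y.residueField (p x)) (X.residueField x)
    have hgood : ∀ a : A, IsIntegral (Y.residueField (p x)) (eA a) ∧
        ((minpoly (Y.residueField (p x)) (eA a)).map (algebraMap (Y.residueField (p x)) (X.residueField x))).Splits := by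
      intro a
      cases nonempty_fintype G
      obtain ⟨F, hF, -, hFm⟩ := (Algebra.IsInvariant.charpoly_mem_lifts B A G a |> (Polynomial.lifts_and_natDegree_eq_and_monic · (MulSemiringAction.monic_charpoly G a)))
      let F' := F.map eB
      have hF' : F'.map (algebraMap (Y.residueField (p x)) (X.residueField x)) = (MulSemiringAction.charpoly G a).map eA := by
        rw [← hF, Polynomial.map_map, Polynomial.map_map]
        congr 1
        ext b
        exact nat b
      have h0 : Polynomial.aeval (eA a) F' = 0 := by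
        rw [Polynomial.aeval_def, ← Polynomial.eval_map, hF', Polynomial.eval_map_apply, MulSemiringAction.eval_charpoly, map_zero]
      have hm : F'.Monic := hFm.map eB
      have hs : (F'.map (algebraMap (Y.residueField (p x)) (X.residueField x))).Splits := by
        rw [hF']
        exact (MulSemiringAction.splits_charpoly G a).map eA
      exact ⟨⟨F', hm, h0⟩, hs.of_dvd ((hm.map _).ne_zero) (Polynomial.map_dvd _ (minpoly.dvd _ _ h0))⟩
    refine normal_iff.2 fun z => ?_
    obtain ⟨a, s, hs, rfl⟩ := eval_frac hU x hx z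
    refine ⟨by rw [div_eq_mul_inv]; exact (hgood a).1.mul (hgood s).1.inv,
      IntermediateField.splits_of_mem_adjoin (Y.residueField (p x)) (X.residueField x) (S := Set.range eA) (by rintro _ ⟨r, rfl⟩; exact hgood r) ?_⟩
    exact div_mem (IntermediateField.subset_adjoin _ _ ⟨a, rfl⟩) (IntermediateField.subset_adjoin _ _ ⟨s, rfl⟩)
  · intro τ hτ
    let f : X.residueField x ≃ₐ[Y.residueField (p x)] X.residueField x :=
      AlgEquiv.ofRingEquiv (f := τ.commRingCatIsoToRingEquiv) fun k => congrArg (fun m => m k) (congrArg (fun m => (ConcreteCategory.hom m)) hτ)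
    obtain ⟨σ, hσ⟩ := IsFractionRing.stabilizerHom_surjective G P Q (Y.residueField (p x)) (X.residueField x) f
    have hτa : ∀ a : A, τ.hom (X.evaluation (p ⁻¹ᵁ V) x hx a) = eA (σ.1 • a) := fun a => by
      show f (algebraMap (A ⧸ Q) (X.residueField x) (Ideal.Quotient.mk Q a)) = _
      rw [← hσ, IsFractionRing.stabilizerHom_apply_apply_mk]
      rfl
    let g : G := σ.1⁻¹
    have hgV : (ρ g).hom x ∈ p ⁻¹ᵁ V := SGA1.preimage_le_of_inv ρ p hp.inv g V hx
    have key : ∀ a : A, (ρ g).hom.residueFieldMap x (X.evaluation (p ⁻¹ᵁ V) ((ρ g).hom x) hgV a) = eA (σ.1 • a) := fun a => by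
      rw [Scheme.evaluation_naturality_apply (ρ g).hom x hgV a]
      show _ = X.evaluation (p ⁻¹ᵁ V) x hx (H6.Quot.act hp V g a)
      simp only [H6.Quot.act, Scheme.Hom.appLE]
      show _ = X.evaluation (p ⁻¹ᵁ V) x hx (X.presheaf.map (homOfLE (SGA1.preimage_le_of_inv ρ p hp.inv g V)).op ((ρ g).hom.app (p ⁻¹ᵁ V) a))
      rw [evaluation_res]
    have e : (ρ g).hom x = x := eq_of_eval hU _ _ hgV hx fun a => by
      rw [← X.evaluation_ne_zero_iff_mem_basicOpen _ hgV, ← X.evaluation_ne_zero_iff_mem_basicOpen _ hx, not_iff_not,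
        ← map_eq_zero ((ρ g).hom.residueFieldMap x).hom, key, ← hτa,
        map_eq_zero τ.hom.hom]
    refine ⟨g, e, ?_⟩
    ext z
    obtain ⟨a, s, hs, rfl⟩ := eval_frac hU x hx z
    rw [map_div₀, map_div₀]
    have h1 : ∀ a : A, τ.hom (X.evaluation (p ⁻¹ᵁ V) x hx a) =
        ((X.residueFieldCongr e).inv ≫ (ρ g).hom.residueFieldMap x) (X.evaluation (p ⁻¹ᵁ V) x hx a) := fun a => by
      rw [hτa, CommRingCat.comp_apply, Scheme.residueFieldCongr_inv, evaluation_congr e.symm hx hgV, key]
    congr 1
    · exact h1 a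
    · exact h1 s

end Groth.Agent.S13597
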