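import Groth.Statements.S13598
import Mathlib
import Groth.Prelude.Def_Hensel
import Groth.Agent.Lib.H2CplQuot

set_option autoImplicit false
universe u
open Hensel

namespace Groth.Agent.S13598
open IsLocalRing TensorProduct
set_option maxHeartbeats 1000000
set_option synthInstance.maxHeartbeats 400000
set_option backward.isDefEq.respectTransparency.types false

/-- For a local ring A, a henselization A ⟶ S of A (S a henselian local ring, the structure map local,
and initial among local homomorphisms from A to henselian local rings) and an ideal I of A inside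
the maximal ideal, the quotient S/IS with its induced algebra structure over A/I is a henselization
of A/I. (The local-ring and local-homomorphism instances on the quotients hold automatically; they
are taken as hypotheses only so that the conclusion can be stated.) -/
theorem result {A S : Type u} [CommRing A] [IsLocalRing A] [CommRing S]
    [IsLocalRing S] [Algebra A S] [IsLocalHom (algebraMap A S)] [Hensel.IsHenselization A S]
    (I : Ideal A) (hI : I ≤ IsLocalRing.maximalIdeal A)
    [IsLocalRing (A ⧸ I)] [IsLocalRing (S ⧸ I.map (algebraMap A S))]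
    [IsLocalHom (algebraMap (A ⧸ I) (S ⧸ I.map (algebraMap A S)))] :
    Hensel.IsHenselization (A ⧸ I) (S ⧸ I.map (algebraMap A S)) := by
  haveI : HenselianLocalRing S := Hensel.IsHenselization.henselian (R := A)
  let π := Ideal.Quotient.mk (I.map (algebraMap A S))
  haveI hlπ : IsLocalHom π := IsLocalHom.of_surjective π Ideal.Quotient.mk_surjective
  have hcomm : ∀ a : A, algebraMap (A ⧸ I) (S ⧸ I.map (algebraMap A S)) (Ideal.Quotient.mk I a) = π (algebraMap A S a) := fun a => rfl
  constructor
  · constructor
    intro f hf a₀ h1 h2
    obtain ⟨F, hF, -, hFm⟩ := Polynomial.lifts_and_degree_eq_and_monic (f := π) (p := f)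
      (Polynomial.map_surjective π Ideal.Quotient.mk_surjective f) hf
    obtain ⟨b, rfl⟩ := Ideal.Quotient.mk_surjective a₀
    rw [← hF, Polynomial.eval_map, Polynomial.eval₂_at_apply] at h1
    rw [← hF, Polynomial.derivative_map, Polynomial.eval_map, Polynomial.eval₂_at_apply] at h2
    obtain ⟨a, ha, hab⟩ := HenselianLocalRing.is_henselian F hFm b
      ((mem_maximalIdeal _).2 fun hu => (mem_maximalIdeal _).1 h1 (hu.map π)) (isUnit_of_map_unit π _ h2)
    refine ⟨π a, ?_, ?_⟩
    · rw [Polynomial.IsRoot, ← hF, Polynomial.eval_map, Polynomial.eval₂_at_apply, show F.eval a = 0 from ha, map_zero]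
    · rw [← map_sub]
      exact (mem_maximalIdeal _).2 fun hu => (mem_maximalIdeal _).1 hab (isUnit_of_map_unit π _ hu)
  · intro T _ _ f hf
    haveI := hf
    haveI : IsLocalHom (Ideal.Quotient.mk I) := IsLocalHom.of_surjective _ Ideal.Quotient.mk_surjective
    obtain ⟨g, hg, hgu⟩ := Hensel.IsHenselization.universal (R := A) (S := S) T (f.comp (Ideal.Quotient.mk I)) (RingHom.isLocalHom_comp f (Ideal.Quotient.mk I))
    have hk : ∀ x ∈ I.map (algebraMap A S), g x = 0 := by
      have hle : I.map (algebraMap A S) ≤ RingHom.ker g := Ideal.map_le_iff_le_comap.2 fun i hi => by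
        show g (algebraMap A S i) = 0
        rw [show g (algebraMap A S i) = f (Ideal.Quotient.mk I i) from RingHom.congr_fun hg i,
          Ideal.Quotient.eq_zero_iff_mem.2 hi, map_zero]
      exact fun x hx => hle hx
    refine ⟨Ideal.Quotient.lift (I.map (algebraMap A S)) g hk, RingHom.ext fun c => ?_, fun h hh => ?_⟩
    · obtain ⟨a, rfl⟩ := Ideal.Quotient.mk_surjective c
      exact RingHom.congr_fun hg a
    · refine Ideal.Quotient.ringHom_ext ?_
      rw [Ideal.Quotient.lift_comp_mk]
      exact hgu _ (RingHom.ext fun a => RingHom.congr_fun hh (Ideal.Quotient.mk I a))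

end Groth.Agent.S13598
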