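import Groth.Statements.S1360
import Groth.Agent.S9738
import Groth.Agent.S9697
import Groth.Agent.Lib.H3UnramPoint

set_option autoImplicit false
universe u
open FlatMor

namespace Groth.Agent.S1360

open AlgebraicGeometry CategoryTheory Limits in
/-- Let S be locally Noetherian, f : X → S of finite type, and Z the closed subscheme of S cut out by an
ideal sheaf I. If the base change of f to every infinitesimal neighbourhood of Z is étale, then
every point of X over Z has an open neighbourhood on which f is étale. -/
theorem result {X S : Scheme.{u}} (f : X ⟶ S) [IsLocallyNoetherian S] [LocallyOfFinitePresentation f] [QuasiCompact f]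
    (I : S.IdealSheafData) (h : ∀ n : ℕ, Etale (pullback.snd f (I ^ (n + 1)).subschemeι)) (x : X) (hx : f x ∈ I.support) :
    ∃ U : X.Opens, x ∈ U ∧ Etale (U.ι ≫ f) := by
  haveI : IsLocallyNoetherian X := LocallyOfFiniteType.isLocallyNoetherian f
  have hfl := Groth.Agent.S9738.result f I (fun n => by haveI := h n; infer_instance) x hx
  obtain ⟨z, hz⟩ : f x ∈ Set.range (I ^ (0 + 1)).subschemeι := by
    rw [Scheme.IdealSheafData.range_subschemeι]
    rwa [zero_add, pow_one]
  obtain ⟨x', hx', -⟩ := Scheme.exists_preimage_of_isPullback (IsPullback.of_hasPullback f (I ^ (0 + 1)).subschemeι) x z hz.symm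
  haveI := h 0
  obtain ⟨U, hxU, hU⟩ := (Groth.Agent.S9697.result f (I ^ (0 + 1)).subschemeι x').mp ⟨⊤, trivial, inferInstance⟩
  rw [hx'] at hxU
  exact Groth.Agent.H3EtalePoint.etale_of_smooth_unram f x
    (Groth.Agent.H3EtalePoint.smooth_of_flat_of_unram f x hfl ⟨U, hxU, hU⟩) ⟨U, hxU, hU⟩

end Groth.Agent.S1360
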