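import Groth.Statements.S13609
import Mathlib

set_option autoImplicit false
universe u v
open CAlg

namespace Groth.Agent.S13609
open AlgebraicGeometry CategoryTheory Limits TensorProduct
set_option backward.isDefEq.respectTransparency.types false
set_option linter.style.haveILetI false

/-- A direct summand of a module that is complete and separated for the I-adic topology is again
complete and separated: for a commutative ring A, an ideal I and A-modules M₁, M₂, if M₁ × M₂ is
I-adically complete then so is M₁. -/
theorem result (A : Type u) [CommRing A] (I : Ideal A)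
    (M₁ M₂ : Type v) [AddCommGroup M₁] [Module A M₁] [AddCommGroup M₂] [Module A M₂]
    [IsAdicComplete I (M₁ × M₂)] : IsAdicComplete I M₁ := by
  have hmap : ∀ n : ℕ, Submodule.map (LinearMap.inl A M₁ M₂) (I ^ n • ⊤) ≤ I ^ n • ⊤ := fun n => by
    rw [Submodule.map_smul'']; exact Submodule.smul_mono le_rfl le_top
  have hmap2 : ∀ n : ℕ, Submodule.map (LinearMap.fst A M₁ M₂) (I ^ n • ⊤) ≤ I ^ n • ⊤ := fun n => by
    rw [Submodule.map_smul'']; exact Submodule.smul_mono le_rfl le_top
  have hH : IsHausdorff I M₁ := ⟨fun x hx => by
    have := IsHausdorff.haus (I := I) inferInstance ((x, 0) : M₁ × M₂) fun n => by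
      have := hx n
      rw [SModEq.zero] at this ⊢
      exact hmap n ⟨x, this, rfl⟩
    exact (Prod.ext_iff.1 this).1⟩
  have hP : IsPrecomplete I M₁ := ⟨fun f hf => by
    obtain ⟨L, hL⟩ := IsPrecomplete.prec (I := I) inferInstance (f := fun n => ((f n, 0) : M₁ × M₂))
      (fun {m n} h => by
        have := hf h
        rw [SModEq.sub_mem] at this ⊢
        have := hmap m ⟨_, this, rfl⟩
        simpa using this)
    refine ⟨L.1, fun n => ?_⟩
    have := hL n
    rw [SModEq.sub_mem] at this ⊢
    simpa using hmap2 n ⟨_, this, rfl⟩⟩
  exact {}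

end Groth.Agent.S13609
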