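import Groth.Statements.S13665
import Mathlib
import Groth.Agent.Lib.GradedNoetherianTFAE

set_option autoImplicit false
universe u
open Groth.Agent.GradedNoetherianTFAE
open DirectSum
open GrRing

namespace Groth.Agent.S13665

/-- For a commutative ring A graded by the integers, with degree-zero subring A_0, the following are
equivalent: A is Noetherian; each homogeneous ideal of A has a finite generating set; A_0 is
Noetherian and the subalgebras A_{≥0}, A_{≤0} are each of finite type over A_0; A_0 is Noetherian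
and A is an A_0-algebra of finite type. -/
theorem result {R A : Type u} [CommRing R] [CommRing A] [Algebra R A]
    (𝒜 : ℤ → Submodule R A) [GradedAlgebra 𝒜] :
    [IsNoetherianRing A,
     ∀ I : Ideal A, I.IsHomogeneous 𝒜 → I.FG,
     IsNoetherianRing (𝒜 0) ∧ (Algebra.adjoin (𝒜 0) {a : A | ∃ n : ℤ, 0 ≤ n ∧ a ∈ 𝒜 n}).FG ∧
       (Algebra.adjoin (𝒜 0) {a : A | ∃ n : ℤ, n ≤ 0 ∧ a ∈ 𝒜 n}).FG,
     IsNoetherianRing (𝒜 0) ∧ Algebra.FiniteType (𝒜 0) A].TFAE := by
  classical
  tfae_have 1 → 2 := fun h I _ => (isNoetherianRing_iff_ideal_fg A).mp h I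
  tfae_have 2 → 3 := fun h => by
    refine ⟨noetherian_zero 𝒜 h, ?_, ?_⟩
    · simpa using fg_side 𝒜 h 1 (Or.inl rfl)
    · simpa using fg_side 𝒜 h (-1) (Or.inr rfl)
  tfae_have 3 → 4 := fun ⟨h0, hp, hn⟩ => by
    refine ⟨h0, ⟨?_⟩⟩
    obtain ⟨s, hs⟩ := hp
    obtain ⟨t, ht⟩ := hn
    refine ⟨s ∪ t, ?_⟩
    rw [eq_top_iff]
    intro x _
    induction x using DirectSum.Decomposition.inductionOn 𝒜 with
    | zero => exact zero_mem _
    | add a b ha hb => exact add_mem (ha trivial) (hb trivial)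
    | @homogeneous i m =>
      rw [Finset.coe_union, Algebra.adjoin_union, hs, ht]
      rcases le_total 0 i with h | h
      · exact Algebra.mem_sup_left (Algebra.subset_adjoin ⟨i, h, m.2⟩)
      · exact Algebra.mem_sup_right (Algebra.subset_adjoin ⟨i, h, m.2⟩)
  tfae_have 4 → 1 := fun ⟨h0, hft⟩ => Algebra.FiniteType.isNoetherianRing (𝒜 0) A
  tfae_finish

end Groth.Agent.S13665
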