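import Groth.Statements.S13696
import Groth.Agent.Lib.H7CycPoints

set_option autoImplicit false
universe u
open scoped TensorProduct
open ZeroCyc

namespace Groth.Agent.S13696

/-- Let F : B → A be a multiplicative polynomial law homogeneous of degree d, where B is a commutative
algebra over the commutative ring A. For b ∈ B the characteristic polynomial of b with respect to F
is χ_b = F_{A[X]}(1 ⊗ b − X ⊗ 1) ∈ A[X] ⊗_A A = A[X], and the Cayley–Hamilton ideal of F is the
ideal of B generated by the elements χ_b(b), b ∈ B. Then the Cayley–Hamilton ideal is contained in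
the kernel of F, and the kernel of F is contained in the radical of the Cayley–Hamilton ideal. -/
theorem result {A : Type u} [CommRing A] {B : Type u} [CommRing B] [Algebra A B]
    {d : ℕ} (F : PolLaw.MulLaw A B A d) (χ : B → Polynomial A)
    (hχ : ∀ b : B, χ b = TensorProduct.rid A (Polynomial A)
      (F.law.toFun' (Polynomial A) ((1 : Polynomial A) ⊗ₜ[A] b - Polynomial.X ⊗ₜ[A] (1 : B)))) :
    Ideal.span (Set.range fun b : B => Polynomial.aeval b (χ b)) ≤ PolLaw.ker F.law ∧
      PolLaw.ker F.law ≤ (Ideal.span (Set.range fun b : B => Polynomial.aeval b (χ b))).radical := by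
  have hbase : ∀ b : B, χ b = (-1 : Polynomial A) ^ d * Groth.Agent.H7Cyc.charPoly F b := by
    intro b
    have e : (1 : Polynomial A) ⊗ₜ[A] b - Polynomial.X ⊗ₜ[A] (1 : B) =
        (-1 : Polynomial A) • (Polynomial.X ⊗ₜ[A] (1 : B) - (1 : Polynomial A) ⊗ₜ[A] b) := by
      rw [smul_sub, TensorProduct.smul_tmul', TensorProduct.smul_tmul', smul_eq_mul, smul_eq_mul, neg_one_mul,
        neg_one_mul, TensorProduct.neg_tmul, TensorProduct.neg_tmul]
      abel
    rw [hχ, e, F.homog, Groth.Agent.H7Cyc.charPoly]
    generalize F.law.toFun' (Polynomial A) (Polynomial.X ⊗ₜ[A] (1 : B) - (1 : Polynomial A) ⊗ₜ[A] b) = z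
    induction z using TensorProduct.induction_on with
    | zero => simp
    | tmul p a => simp [TensorProduct.smul_tmul', TensorProduct.rid_tmul, mul_smul_comm]
    | add z z' hz hz' => simp only [smul_add, map_add, hz, hz', mul_add]
  have hval : ∀ b : B, Polynomial.aeval b (χ b) = (-1 : B) ^ d * Polynomial.aeval b (Groth.Agent.H7Cyc.charPoly F b) := by
    intro b
    rw [hbase, map_mul, map_pow, map_neg, map_one]
  refine ⟨?_, fun b hb => ?_⟩
  · rw [Ideal.span_le]
    rintro _ ⟨b, rfl⟩
    show Polynomial.aeval b (χ b) ∈ PolLaw.ker F.law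
    rw [hval]
    exact Ideal.mul_mem_left _ _ (Groth.Agent.H7Cyc.aeval_charPoly_mem_ker F b)
  · refine ⟨d, ?_⟩
    have h1 : Polynomial.aeval b (χ b) ∈ Ideal.span (Set.range fun b : B => Polynomial.aeval b (χ b)) :=
      Ideal.subset_span ⟨b, rfl⟩
    have h2 := Ideal.mul_mem_left _ ((-1 : B) ^ d) h1
    rw [hval, ← mul_assoc, ← mul_pow, neg_mul_neg, one_mul, one_pow, one_mul,
      Groth.Agent.H7Cyc.charPoly_of_mem_ker F hb, map_pow, Polynomial.aeval_X] at h2
    exact h2

end Groth.Agent.S13696
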