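import Groth.Statements.S13697
import Groth.Agent.Lib.H7CycPoints

set_option autoImplicit false
universe u
open scoped TensorProduct
open ZeroCyc

namespace Groth.Agent.S13697

/-- Let F : B → A be a multiplicative polynomial law homogeneous of degree d over the commutative ring
A, and let A' be any commutative A-algebra. The kernel of the base change of F to A' (an ideal of A'
⊗_A B) and the extension to A' ⊗_A B of the kernel of F have the same radical. In other words the
support (reduced image) of a family of zero-cycles of degree d on Spec B over Spec A commutes with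
every base change Spec A' → Spec A. (The published statement is for X affine over an algebraic space
S; this row is the case of an affine base, to which the general case reduces.) -/
theorem result {A : Type u} [CommRing A] {B : Type u} [CommRing B] [Algebra A B]
    {d : ℕ} (F : PolLaw.MulLaw A B A d) (A' : Type u) [CommRing A'] [Algebra A A'] :
    (PolLaw.kerBC F.law A').radical =
      ((PolLaw.ker F.law).map (Algebra.TensorProduct.includeRight : B →ₐ[A] A' ⊗[A] B)).radical := by
  open Groth.Agent in
  refine le_antisymm (Ideal.radical_le_radical_iff.mpr fun z hz => ?_) (Ideal.radical_mono ?_)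
  · rw [Ideal.radical_eq_sInf, Ideal.mem_sInf]
    rintro Q ⟨hQ, hQp⟩
    haveI : Q.IsPrime := hQp
    obtain ⟨K, _, _, H, hH⟩ : ∃ (K : Type u) (_ : Field K) (_ : IsAlgClosed K) (H : A' ⊗[A] B →+* K),
        ∀ y, H y = 0 ↔ y ∈ Q :=
      ⟨AlgebraicClosure Q.ResidueField, inferInstance, inferInstance,
        (algebraMap Q.ResidueField _).comp (algebraMap _ Q.ResidueField),
        fun y => by simp [Ideal.algebraMap_residueField_eq_zero]⟩
    letI : Algebra A' K := (H.comp (Algebra.TensorProduct.includeLeft : A' →ₐ[A] A' ⊗[A] B).toRingHom).toAlgebra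
    letI : Algebra A K := ((algebraMap A' K).comp (algebraMap A A')).toAlgebra
    haveI : IsScalarTower A A' K := IsScalarTower.of_algebraMap_eq fun a => rfl
    let h : B →ₐ[A] K :=
      { H.comp (Algebra.TensorProduct.includeRight : B →ₐ[A] A' ⊗[A] B).toRingHom with
        commutes' := fun a => by
          show H ((1 : A') ⊗ₜ[A] algebraMap A B a) = H (algebraMap A A' a ⊗ₜ[A] (1 : B))
          rw [Algebra.algebraMap_eq_smul_one a, Algebra.algebraMap_eq_smul_one a, ← TensorProduct.smul_tmul] }
    obtain ⟨χ, hχ⟩ := H7Gamma.exists_extension ((Algebra.ofId A K).comp (H7Gamma.lawMap F))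
    obtain ⟨i, hi⟩ := H7Cyc.exists_psi_eq F χ hχ h (fun b hb =>
      (hH _).mpr (hQ (Ideal.mem_map_of_mem (Algebra.TensorProduct.includeRight : B →ₐ[A] A' ⊗[A] B) hb)))
    let zK : K ⊗[A] B := Algebra.TensorProduct.map (IsScalarTower.toAlgHom A A' K) (AlgHom.id A B) z
    obtain ⟨zP, hzP⟩ := LinearMap.lTensor_surjective K (g := (H7Gamma.cover A B).toLinearMap) H7Cyc.cover_surjective zK
    have h0 := H7Cyc.psi_eq_zero_of_kills F χ hχ zP (fun x w => by
      rw [hzP]; exact hz K x w) i
    rw [← hi] at h0
    have e1 : ∀ y : K ⊗[A] MvPolynomial B A,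
        Algebra.TensorProduct.lift (AlgHom.id A K) (h.comp (H7Gamma.cover A B)) (fun _ _ => Commute.all _ _) y =
          Algebra.TensorProduct.lift (AlgHom.id A K) h (fun _ _ => Commute.all _ _)
            ((H7Gamma.cover A B).toLinearMap.lTensor K y) := by
      intro y
      induction y using TensorProduct.induction_on with
      | zero => simp
      | tmul a b => simp
      | add y y' hy hy' => simp only [map_add, hy, hy']
    have e2 : ∀ y : A' ⊗[A] B, Algebra.TensorProduct.lift (AlgHom.id A K) h (fun _ _ => Commute.all _ _)
        (Algebra.TensorProduct.map (IsScalarTower.toAlgHom A A' K) (AlgHom.id A B) y) = H y := by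
      intro y
      induction y using TensorProduct.induction_on with
      | zero => simp
      | tmul a b =>
        rw [Algebra.TensorProduct.map_tmul, Algebra.TensorProduct.lift_tmul]
        show H (a ⊗ₜ[A] (1 : B)) * H ((1 : A') ⊗ₜ[A] b) = _
        rw [← map_mul, Algebra.TensorProduct.tmul_mul_tmul, mul_one, one_mul]
      | add y y' hy hy' => simp only [map_add, hy, hy']
    rw [e1, hzP, e2, hH] at h0
    exact h0
  · rw [Ideal.map_le_iff_le_comap]
    intro b hb R _ _ _ _ x w
    rw [Algebra.TensorProduct.includeRight_apply, Algebra.TensorProduct.map_tmul, map_one]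
    exact hb R x w

end Groth.Agent.S13697
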