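import Groth.Statements.S13698
import Groth.Agent.Lib.H7CycGen

set_option autoImplicit false
universe u
open scoped TensorProduct
open ZeroCyc

namespace Groth.Agent.S13698

/-- Let F : B → A be a multiplicative polynomial law homogeneous of degree d over the commutative ring
A, on a commutative A-algebra B which is finite as an A-module, and let A' be a localization of A at
a submonoid M. Then the kernel of the base change of F to A' is the ideal of A' ⊗_A B generated by
the kernel of F: the kernel (hence the image of a family of zero-cycles) commutes with localization.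
(The published statement has no finiteness hypothesis on B and is false without one: for a suitable
algebra B that is not finitely generated the conditions cutting out the kernel at an element are
infinitely many elements of A annihilated by elements of M but by no single one, and the kernel of
the localised law is then strictly larger than the localised kernel; the published proof's reduction
to finite B does not go through. This row assumes B finite over A, the case that proof establishes.) -/
theorem result {A : Type u} [CommRing A] {B : Type u} [CommRing B] [Algebra A B]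
    [Module.Finite A B] {d : ℕ} (F : PolLaw.MulLaw A B A d) (M : Submonoid A) (A' : Type u) [CommRing A'] [Algebra A A']
    [IsLocalization M A'] :
    (PolLaw.ker F.law).map (Algebra.TensorProduct.includeRight : B →ₐ[A] A' ⊗[A] B) =
      PolLaw.kerBC F.law A' := by
  classical
  open Groth.Agent in
  refine le_antisymm ?_ fun z hz => ?_
  · rw [Ideal.map_le_iff_le_comap]
    intro b hb R _ _ _ _ x w
    rw [Algebra.TensorProduct.includeRight_apply, Algebra.TensorProduct.map_tmul, map_one]
    exact hb R x w
  obtain ⟨n, q, hq⟩ := Module.Finite.exists_fin (R := A) (M := B)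
  obtain ⟨s, b, hsb⟩ : ∃ (s : M) (b : B), algebraMap A A' s • z = (1 : A') ⊗ₜ[A] b := by
    clear hz
    induction z using TensorProduct.induction_on with
    | zero => exact ⟨1, 0, by simp⟩
    | tmul a b =>
      obtain ⟨⟨c, s⟩, hs⟩ := IsLocalization.surj M a
      refine ⟨s, c • b, ?_⟩
      rw [TensorProduct.smul_tmul', smul_eq_mul, mul_comm, hs, ← TensorProduct.smul_tmul, Algebra.smul_def, mul_one]
    | add z z' hz hz' =>
      obtain ⟨s, b, hb⟩ := hz
      obtain ⟨s', b', hb'⟩ := hz'
      refine ⟨s * s', (s' : A) • b + (s : A) • b', ?_⟩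
      rw [TensorProduct.tmul_add, H7Cyc.smul_one_tmul, H7Cyc.smul_one_tmul, ← hb, ← hb', Submonoid.coe_mul, map_mul,
        smul_add, smul_smul, smul_smul, mul_comm (algebraMap A A' ↑s')]
  have hk : (1 : A') ⊗ₜ[A] b ∈ PolLaw.kerBC F.law A' := by
    rw [← hsb, Algebra.smul_def]
    exact Ideal.mul_mem_left _ _ hz
  let p := H7Cyc.genVal F q A ((1 : A) ⊗ₜ[A] b)
  have hzero : ∀ k, H7Cyc.wdeg k ≠ 0 → ∃ m : M, (m : A) * p.coeff k = 0 := by
    intro k hk'
    have h1 := (H7Cyc.mem_kerBC_iff F q hq _).mp hk k hk'
    rw [show (1 : A') ⊗ₜ[A] b = Algebra.TensorProduct.map (Algebra.ofId A A') (AlgHom.id A B) ((1 : A) ⊗ₜ[A] b) by simp,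
      H7Cyc.coeff_genVal_map] at h1
    exact (IsLocalization.map_eq_zero_iff M A' _).mp h1
  choose! m hm using hzero
  let m₀ : M := ∏ k ∈ p.support, m k
  have hb : (m₀ : A) • b ∈ PolLaw.ker F.law := by
    rw [H7Cyc.mem_ker_iff_kerBC, H7Cyc.smul_one_tmul, H7Cyc.mem_kerBC_iff F q hq]
    intro k hk'
    rw [H7Cyc.coeff_genVal_smul, Algebra.algebraMap_self, RingHom.id_apply]
    show (m₀ : A) ^ H7Cyc.wdeg k * p.coeff k = 0
    by_cases hs : k ∈ p.support
    · have hdvd : (m k : A) ∣ (m₀ : A) ^ H7Cyc.wdeg k := by
        refine dvd_pow ?_ hk'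
        rw [Submonoid.coe_finsetProd]
        exact Finset.dvd_prod_of_mem (fun k => (m k : A)) hs
      obtain ⟨c, hc⟩ := hdvd
      rw [hc, mul_comm (m k : A) c, mul_assoc, hm k hk', mul_zero]
    · rw [MvPolynomial.notMem_support_iff.mp hs, mul_zero]
  have hu : IsUnit (algebraMap A A' (↑m₀ * ↑s)) := IsLocalization.map_units A' (m₀ * s)
  obtain ⟨u, hu'⟩ := hu.exists_left_inv
  have hzeq : z = (u ⊗ₜ[A] (1 : B)) * ((1 : A') ⊗ₜ[A] ((m₀ : A) • b)) := by
    rw [H7Cyc.smul_one_tmul, ← hsb, smul_smul, ← map_mul,
      show (u ⊗ₜ[A] (1 : B)) = algebraMap A' (A' ⊗[A] B) u from rfl, ← Algebra.smul_def, smul_smul, hu', one_smul]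
  rw [hzeq]
  exact Ideal.mul_mem_left _ _ (Ideal.mem_map_of_mem _ hb)

end Groth.Agent.S13698
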