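import Groth.Statements.S13699
import Groth.Agent.Lib.H7CycPoints

set_option autoImplicit false
universe u
open scoped TensorProduct
open ZeroCyc

namespace Groth.Agent.S13699

/-- Let F : B → A be a multiplicative polynomial law homogeneous of degree d over the commutative ring
A. Then the kernel of the base change of F to the polynomial ring A[X] is the ideal of A[X] ⊗_A B
generated by the kernel of F. -/
theorem result {A : Type u} [CommRing A] {B : Type u} [CommRing B] [Algebra A B]
    {d : ℕ} (F : PolLaw.MulLaw A B A d) :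
    (PolLaw.ker F.law).map (Algebra.TensorProduct.includeRight : B →ₐ[A] Polynomial A ⊗[A] B) =
      PolLaw.kerBC F.law (Polynomial A) := by
  open Groth.Agent in
  refine le_antisymm ?_ fun z hz => ?_
  · rw [Ideal.map_le_iff_le_comap]
    intro b hb R _ _ _ _ x w
    rw [Algebra.TensorProduct.includeRight_apply, Algebra.TensorProduct.map_tmul, map_one]
    exact hb R x w
  · obtain ⟨N, b, rfl⟩ : ∃ (N : ℕ) (b : ℕ → B), z = ∑ l ∈ Finset.range N, ((Polynomial.X : Polynomial A) ^ l) ⊗ₜ[A] b l := by
      have h : ∀ z : Polynomial A ⊗[A] B, ∃ (N₀ : ℕ) (b : ℕ → B), (∀ l, N₀ ≤ l → b l = 0) ∧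
          ∀ N, N₀ ≤ N → z = ∑ l ∈ Finset.range N, ((Polynomial.X : Polynomial A) ^ l) ⊗ₜ[A] b l := by
        intro z
        induction z using TensorProduct.induction_on with
        | zero => exact ⟨0, 0, fun _ _ => rfl, fun N _ => by simp⟩
        | tmul p y =>
          refine ⟨p.natDegree + 1, fun l => p.coeff l • y, fun l hl => by
            show p.coeff l • y = 0
            rw [Polynomial.coeff_eq_zero_of_natDegree_lt hl, zero_smul], fun N hN => ?_⟩
          conv_lhs => rw [p.as_sum_range' N hN, TensorProduct.sum_tmul]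
          refine Finset.sum_congr rfl fun l _ => ?_
          rw [← Polynomial.smul_X_eq_monomial, TensorProduct.smul_tmul]
        | add z z' hz hz' =>
          obtain ⟨N₁, b, hb, hz⟩ := hz
          obtain ⟨N₂, b', hb', hz'⟩ := hz'
          refine ⟨max N₁ N₂, b + b', fun l hl => by
            simp [hb l ((le_max_left _ _).trans hl), hb' l ((le_max_right _ _).trans hl)], fun N hN => ?_⟩
          rw [hz N ((le_max_left _ _).trans hN), hz' N ((le_max_right _ _).trans hN), ← Finset.sum_add_distrib]
          simp [TensorProduct.tmul_add]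
      obtain ⟨N, b, -, hN⟩ := h z
      exact ⟨N, b, hN N le_rfl⟩
    have hb : ∀ l < N, b l ∈ PolLaw.ker F.law := by
      refine H7Cyc.coeff_mem_ker F N b fun n s x w => ?_
      letI : Algebra (Polynomial A) (MvPolynomial (Fin n) A) := (Polynomial.aeval s).toRingHom.toAlgebra
      haveI : IsScalarTower A (Polynomial A) (MvPolynomial (Fin n) A) :=
        IsScalarTower.of_algebraMap_eq fun a => ((Polynomial.aeval s).commutes a).symm
      have h1 := hz (MvPolynomial (Fin n) A) x w
      have e : Algebra.TensorProduct.map (IsScalarTower.toAlgHom A (Polynomial A) (MvPolynomial (Fin n) A)) (AlgHom.id A B)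
          (∑ l ∈ Finset.range N, ((Polynomial.X : Polynomial A) ^ l) ⊗ₜ[A] b l) =
          ∑ l ∈ Finset.range N, (s ^ l) ⊗ₜ[A] b l := by
        rw [map_sum]
        refine Finset.sum_congr rfl fun l _ => ?_
        rw [Algebra.TensorProduct.map_tmul]
        congr 1
        show Polynomial.aeval s (Polynomial.X ^ l) = _
        rw [map_pow, Polynomial.aeval_X]
      rwa [e] at h1
    refine Ideal.sum_mem _ fun l hl => ?_
    have := Ideal.mul_mem_left _ (((Polynomial.X : Polynomial A) ^ l) ⊗ₜ[A] (1 : B))
      (Ideal.mem_map_of_mem (Algebra.TensorProduct.includeRight : B →ₐ[A] Polynomial A ⊗[A] B) (hb l (Finset.mem_range.mp hl)))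
    rwa [Algebra.TensorProduct.includeRight_apply, Algebra.TensorProduct.tmul_mul_tmul, mul_one, one_mul] at this

end Groth.Agent.S13699
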