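import Groth.Statements.S13700
import Groth.Agent.Lib.H7CycPoints

set_option autoImplicit false
universe u
open scoped TensorProduct
open ZeroCyc

namespace Groth.Agent.S13700

/-- Let F : B → A be a multiplicative polynomial law homogeneous of degree d over the commutative ring
A, and let g ∈ A[X] be a monic polynomial which is separable (g and its derivative generate the unit
ideal), so that A' = A[X]/(g) is étale over A. Then the kernel of the base change of F to A' is the
ideal of A' ⊗_A B generated by the kernel of F. -/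
theorem result {A : Type u} [CommRing A] {B : Type u} [CommRing B] [Algebra A B]
    {d : ℕ} (F : PolLaw.MulLaw A B A d) (g : Polynomial A) (hg : g.Monic) (hsep : g.Separable) :
    (PolLaw.ker F.law).map (Algebra.TensorProduct.includeRight : B →ₐ[A] AdjoinRoot g ⊗[A] B) =
      PolLaw.kerBC F.law (AdjoinRoot g) := by
  classical
  open Groth.Agent in
  refine le_antisymm ?_ fun z hz => ?_
  · rw [Ideal.map_le_iff_le_comap]
    intro b hb R _ _ _ _ x w
    rw [Algebra.TensorProduct.includeRight_apply, Algebra.TensorProduct.map_tmul, map_one]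
    exact hb R x w
  rcases subsingleton_or_nontrivial A with hA | hA
  · haveI : Subsingleton (AdjoinRoot g ⊗[A] B) := Module.subsingleton A _
    rw [Subsingleton.elim z 0]
    exact zero_mem _
  let pb := AdjoinRoot.powerBasis' hg
  let m := g.natDegree
  obtain ⟨b, rfl⟩ : ∃ b : ℕ → B, z = ∑ l ∈ Finset.range m, (AdjoinRoot.root g ^ l) ⊗ₜ[A] b l := by
    clear hz
    induction z using TensorProduct.induction_on with
    | zero => exact ⟨0, by simp⟩
    | tmul a y =>
      refine ⟨fun l => if h : l < pb.dim then pb.basis.repr a ⟨l, h⟩ • y else 0, ?_⟩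
      conv_lhs => rw [← pb.basis.sum_repr a, TensorProduct.sum_tmul]
      rw [← show pb.dim = m from AdjoinRoot.powerBasis'_dim hg, Finset.sum_range]
      refine Finset.sum_congr rfl fun i _ => ?_
      beta_reduce
      rw [dif_pos i.2, TensorProduct.smul_tmul, PowerBasis.coe_basis]
      rfl
    | add z z' hz hz' =>
      obtain ⟨b, rfl⟩ := hz
      obtain ⟨b', rfl⟩ := hz'
      exact ⟨b + b', by simp [TensorProduct.tmul_add, Finset.sum_add_distrib]⟩
  obtain ⟨A₂, _, _, _, _, _, hsp⟩ := hg.exists_splits_map
  have hroots : ∀ f : Polynomial A₂, f.Splits → ∃ (c : A₂) (s : List A₂),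
      f = Polynomial.C c * (s.map fun r => Polynomial.X - Polynomial.C r).prod := by
    intro f hf
    induction hf using Submonoid.closure_induction with
    | mem f hf =>
      rcases hf with ⟨a, rfl⟩ | ⟨a, rfl⟩
      · exact ⟨a, [], by simp⟩
      · exact ⟨1, [-a], by simp⟩
    | one => exact ⟨1, [], by simp⟩
    | mul f f' _ _ h h' =>
      obtain ⟨c, s, rfl⟩ := h
      obtain ⟨c', s', rfl⟩ := h'
      exact ⟨c * c', s ++ s', by simp only [List.map_append, List.prod_append, map_mul]; ring⟩
  obtain ⟨c, s, hs⟩ := hroots _ hsp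
  have hmon : (s.map fun r => Polynomial.X - Polynomial.C r).prod.Monic := by
    clear hs
    induction s with
    | nil => simp
    | cons a s ih => simpa using (Polynomial.monic_X_sub_C a).mul ih
  have hc : c = 1 := by
    have h1 := congrArg Polynomial.leadingCoeff hs
    rw [(hg.map (algebraMap A A₂)).leadingCoeff, Polynomial.leadingCoeff_mul_monic hmon, Polynomial.leadingCoeff_C] at h1
    exact h1.symm
  rw [hc, map_one, one_mul] at hs
  let n := s.length
  let r : Fin n → A₂ := s.get
  have hprod : g.map (algebraMap A A₂) = ∏ i, (Polynomial.X - Polynomial.C (r i)) := by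
    rw [hs, ← Fin.prod_univ_getElem]
    simp [r]
    exact (Fintype.prod_equiv (finCongr (List.length_map _)) _ _ fun i => by simp)
  have hn : n = m := by
    have h1 := congrArg Polynomial.natDegree hprod
    rw [hg.natDegree_map, Polynomial.natDegree_prod_of_monic _ _ fun i _ => Polynomial.monic_X_sub_C _] at h1
    simpa [m] using h1.symm
  have hdiff : ∀ i j : Fin n, i ≠ j → IsUnit (r i - r j) := by
    intro i j hij
    have hs2 : (g.map (algebraMap A A₂)).Separable := hsep.map
    obtain ⟨u, v, huv⟩ := hs2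
    have h1 := congrArg (Polynomial.eval (r i)) huv
    have h0 : (g.map (algebraMap A A₂)).eval (r i) = 0 := by
      rw [hprod, Polynomial.eval_prod]
      exact Finset.prod_eq_zero (Finset.mem_univ i) (by simp)
    have hd : (Polynomial.derivative (g.map (algebraMap A A₂))).eval (r i) = ∏ k ∈ Finset.univ.erase i, (r i - r k) := by
      rw [hprod, Polynomial.derivative_prod_finset, Polynomial.eval_finset_sum, Finset.sum_eq_single i]
      · simp [Polynomial.eval_prod]
      · intro k _ hk
        rw [Polynomial.eval_mul, Polynomial.eval_prod,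
          Finset.prod_eq_zero (Finset.mem_erase.mpr ⟨Ne.symm hk, Finset.mem_univ i⟩) (by simp), zero_mul]
      · simp
    rw [Polynomial.eval_add, Polynomial.eval_mul, Polynomial.eval_mul, h0, mul_zero, zero_add, Polynomial.eval_one, hd] at h1
    exact isUnit_of_dvd_one ((Finset.dvd_prod_of_mem (fun k => r i - r k) (Finset.mem_erase.mpr ⟨Ne.symm hij, Finset.mem_univ j⟩)).trans
      ⟨_, by rw [mul_comm]; exact h1.symm⟩)
  let V := Matrix.vandermonde r
  have hV : IsUnit V.det := by
    rw [Matrix.det_vandermonde]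
    exact IsUnit.prod_iff.mpr fun i _ => IsUnit.prod_iff.mpr fun j hj => hdiff j i (ne_of_gt (Finset.mem_Ioi.mp hj))
  have hzi : ∀ i : Fin n, (∑ l : Fin n, (r i ^ (l : ℕ)) ⊗ₜ[A] b l) ∈ PolLaw.kerBC F.law A₂ := by
    intro i
    have hr : Polynomial.eval₂ (algebraMap A A₂) (r i) g = 0 := by
      rw [← Polynomial.eval_map, hprod, Polynomial.eval_prod]
      exact Finset.prod_eq_zero (Finset.mem_univ i) (by simp)
    let σ : AdjoinRoot g →ₐ[A] A₂ := AdjoinRoot.liftAlgHom g (Algebra.ofId A A₂) (r i) hr
    intro R _ _ _ _ x w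
    letI : Algebra (AdjoinRoot g) R := ((algebraMap A₂ R).comp σ.toRingHom).toAlgebra
    haveI : IsScalarTower A (AdjoinRoot g) R := IsScalarTower.of_algebraMap_eq fun a => by
      show _ = algebraMap A₂ R (σ (algebraMap A (AdjoinRoot g) a))
      rw [σ.commutes, ← IsScalarTower.algebraMap_apply]
    have h := hz R x w
    have e : Algebra.TensorProduct.map (IsScalarTower.toAlgHom A (AdjoinRoot g) R) (AlgHom.id A B)
        (∑ l ∈ Finset.range m, (AdjoinRoot.root g ^ l) ⊗ₜ[A] b l) =
        Algebra.TensorProduct.map (IsScalarTower.toAlgHom A A₂ R) (AlgHom.id A B) (∑ l : Fin n, (r i ^ (l : ℕ)) ⊗ₜ[A] b l) := by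
      rw [← hn, ← Fin.sum_univ_eq_sum_range (fun l => (AdjoinRoot.root g ^ l) ⊗ₜ[A] b l) n, map_sum, map_sum]
      refine Finset.sum_congr rfl fun l _ => ?_
      rw [Algebra.TensorProduct.map_tmul, Algebra.TensorProduct.map_tmul]
      congr 1
      show algebraMap A₂ R (σ _) = algebraMap A₂ R _
      rw [map_pow σ, show σ (AdjoinRoot.root g) = r i from AdjoinRoot.liftAlgHom_root _ _ _ _]
    rwa [e] at h
  have hker : ∀ l : Fin n, b l ∈ PolLaw.ker F.law := by
    intro l
    have h1 : (1 : A₂) ⊗ₜ[A] b l = ∑ i, ((V⁻¹ l i) ⊗ₜ[A] (1 : B)) * (∑ j : Fin n, (r i ^ (j : ℕ)) ⊗ₜ[A] b j) := by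
      simp only [Finset.mul_sum, Algebra.TensorProduct.tmul_mul_tmul, one_mul]
      rw [Finset.sum_comm]
      have : ∀ j : Fin n, ∑ i, (V⁻¹ l i * r i ^ (j : ℕ)) ⊗ₜ[A] b j = ((V⁻¹ * V) l j) ⊗ₜ[A] b j := by
        intro j
        rw [← TensorProduct.sum_tmul, Matrix.mul_apply]
        rfl
      simp only [this, Matrix.nonsing_inv_mul _ hV, Matrix.one_apply]
      rw [Finset.sum_eq_single l]
      · simp
      · intro j _ hj; simp [Ne.symm hj]
      · simp
    have h2 : (1 : A₂) ⊗ₜ[A] b l ∈ PolLaw.kerBC F.law A₂ := by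
      rw [h1]
      exact Ideal.sum_mem _ fun i _ => Ideal.mul_mem_left _ _ (hzi i)
    refine H7Cyc.mem_ker_of_kills F fun k x w => ?_
    let ι : MvPolynomial (Fin k) A →ₐ[A] MvPolynomial (Fin k) A₂ := MvPolynomial.mapAlgHom (Algebra.ofId A A₂)
    have hι : Function.Injective ι := MvPolynomial.map_injective _ (FaithfulSMul.algebraMap_injective A A₂)
    have hι' : Function.Injective (ι.toLinearMap.rTensor A) := by
      intro y y' h
      have e : ∀ y, TensorProduct.rid A (MvPolynomial (Fin k) A₂) (ι.toLinearMap.rTensor A y) = ι (TensorProduct.rid A _ y) := by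
        intro y
        induction y using TensorProduct.induction_on with
        | zero => simp
        | tmul p a => simp
        | add y y' hy hy' => simp only [map_add, hy, hy']
      refine (TensorProduct.rid A _).injective (hι ?_)
      rw [← e, ← e, h]
    refine hι' ?_
    rw [PolynomialLaw.isCompat_apply', PolynomialLaw.isCompat_apply']
    have h3 := h2 (MvPolynomial (Fin k) A₂) (ι.toLinearMap.rTensor B x) (ι.toLinearMap.rTensor B w)
    rw [Algebra.TensorProduct.map_tmul, map_one] at h3
    simp only [PolLaw.rTensor_algHom_apply, map_add, map_mul, Algebra.TensorProduct.map_tmul, map_one, AlgHom.id_apply] at h3 ⊢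
    exact h3
  refine Ideal.sum_mem _ fun l hl => ?_
  have := Ideal.mul_mem_left _ ((AdjoinRoot.root g ^ l) ⊗ₜ[A] (1 : B))
    (Ideal.mem_map_of_mem (Algebra.TensorProduct.includeRight : B →ₐ[A] AdjoinRoot g ⊗[A] B) (hker ⟨l, hn ▸ Finset.mem_range.mp hl⟩))
  rwa [Algebra.TensorProduct.includeRight_apply, Algebra.TensorProduct.tmul_mul_tmul, mul_one, one_mul] at this

end Groth.Agent.S13700
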