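import Groth.Statements.S13701
import Groth.Agent.Lib.H7CycGen
import Groth.Agent.Lib.H7PolLaw

set_option autoImplicit false
universe u
open scoped TensorProduct
open ZeroCyc

namespace Groth.Agent.S13701

/-- Let A be a commutative ℚ-algebra, F : B → A a multiplicative polynomial law homogeneous of degree d
on a commutative A-algebra B which is finite as an A-module, and A' a commutative A-algebra which is
flat as an A-module. Then the kernel of the base change of F to A' is the ideal of A' ⊗_A B
generated by the kernel of F. (In positive characteristic this fails even for finite free base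
change. The published statement has no finiteness hypothesis on B and is false without one: a
localisation of A is flat, and for a suitable algebra B that is not finitely generated the kernel
does not commute with it; the published proof's reduction to finite B does not go through. This row
assumes B finite over A, the case that proof establishes: there the kernel is the intersection of
finitely many kernels of A-linear maps on B, which commutes with flat base change.) -/
theorem result {A : Type u} [CommRing A] [Algebra ℚ A] {B : Type u} [CommRing B] [Algebra A B]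
    [Module.Finite A B] {d : ℕ} (F : PolLaw.MulLaw A B A d) (A' : Type u) [CommRing A'] [Algebra A A'] [Module.Flat A A'] :
    (PolLaw.ker F.law).map (Algebra.TensorProduct.includeRight : B →ₐ[A] A' ⊗[A] B) =
      PolLaw.kerBC F.law A' := by
  classical
  open Groth.Agent in
  refine le_antisymm ?_ fun z hz => ?_
  · rw [Ideal.map_le_iff_le_comap]
    intro b hb R _ _ _ _ x w
    rw [Algebra.TensorProduct.includeRight_apply, Algebra.TensorProduct.map_tmul, map_one]
    exact hb R x w
  obtain ⟨n, q, hq⟩ := Module.Finite.exists_fin (R := A) (M := B)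
  have hsingle : ∀ (b : B), ∃ f : MvPolynomial (Fin n ⊕ Fin n) A, ∀ k,
      f.coeff k = if H7Cyc.wdeg k = 1 then (H7Cyc.genVal F q A ((1 : A) ⊗ₜ[A] b)).coeff k else 0 := by
    intro b
    let p := H7Cyc.genVal F q A ((1 : A) ⊗ₜ[A] b)
    refine ⟨∑ k ∈ p.support.filter (fun k => H7Cyc.wdeg k = 1), MvPolynomial.monomial k (p.coeff k), fun k => ?_⟩
    rw [MvPolynomial.coeff_sum]
    simp only [MvPolynomial.coeff_monomial, Finset.sum_ite_eq', Finset.mem_filter, MvPolynomial.mem_support_iff]
    split_ifs <;> simp_all [p]
  choose f hf using hsingle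
  let L : B →ₗ[A] MvPolynomial (Fin n ⊕ Fin n) A :=
    { toFun := f
      map_add' := fun b b' => by
        ext k
        rw [MvPolynomial.coeff_add, hf, hf, hf]
        split_ifs with hk
        · rw [TensorProduct.tmul_add, H7Cyc.coeff_genVal_add F q hk]
        · rw [add_zero]
      map_smul' := fun a b => by
        ext k
        rw [RingHom.id_apply, MvPolynomial.coeff_smul, hf, hf]
        split_ifs with hk
        · rw [H7Cyc.smul_one_tmul, H7Cyc.coeff_genVal_smul, hk, pow_one, Algebra.algebraMap_self, RingHom.id_apply,
            smul_eq_mul]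
        · rw [smul_zero] }
  have hL : ∀ (z : A' ⊗[A] B) (k : (Fin n ⊕ Fin n) →₀ ℕ), H7Cyc.wdeg k = 1 →
      (H7Cyc.genVal F q A' z).coeff k = TensorProduct.rid A A' ((MvPolynomial.lcoeff A k).lTensor A' (L.lTensor A' z)) := by
    intro z k hk
    induction z using TensorProduct.induction_on with
    | zero => rw [H7Cyc.coeff_genVal_zero F q (by omega)]; simp
    | tmul a b =>
      rw [show a ⊗ₜ[A] b = a • Algebra.TensorProduct.map (Algebra.ofId A A') (AlgHom.id A B) ((1 : A) ⊗ₜ[A] b) by
          simp [TensorProduct.smul_tmul'],
        H7Cyc.coeff_genVal_smul, hk, pow_one, H7Cyc.coeff_genVal_map]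
      simp [TensorProduct.smul_tmul', L, hf, hk, mul_comm a, Algebra.smul_def]
    | add z z' hz hz' => rw [H7Cyc.coeff_genVal_add F q hk, hz, hz', map_add, map_add, map_add]
  have hz0 : L.lTensor A' z = 0 := by
    refine (TensorProduct.comm A A' (MvPolynomial (Fin n ⊕ Fin n) A)).injective ?_
    rw [map_zero]
    refine H7PolLaw.ext_cf fun k => ?_
    rw [map_zero]
    have e1 : ∀ y : A' ⊗[A] MvPolynomial (Fin n ⊕ Fin n) A, H7PolLaw.cf k (TensorProduct.comm A A' _ y) =
        TensorProduct.rid A A' ((MvPolynomial.lcoeff A k).lTensor A' y) := by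
      intro y
      induction y using TensorProduct.induction_on with
      | zero => simp
      | tmul a p => simp
      | add y y' hy hy' => simp only [map_add, hy, hy']
    rw [e1]
    by_cases hk : H7Cyc.wdeg k = 1
    · rw [← hL z k hk]
      exact (H7Cyc.mem_kerBC_iff_linear F q hq z).mp hz k hk
    · rw [← LinearMap.lTensor_comp_apply, show (MvPolynomial.lcoeff A k).comp L = 0 from
        LinearMap.ext fun b => by simp [L, hf, hk], LinearMap.lTensor_zero, LinearMap.zero_apply, map_zero]
  obtain ⟨y, rfl⟩ := (Module.Flat.lTensor_exact A' (LinearMap.exact_subtype_ker_map L) z).mp hz0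
  clear hz hz0
  induction y using TensorProduct.induction_on with
  | zero => simp
  | tmul a b =>
    have hb : (b : B) ∈ PolLaw.ker F.law := by
      rw [H7Cyc.mem_ker_iff_kerBC, H7Cyc.mem_kerBC_iff_linear F q hq]
      intro k hk
      have h := congrArg (MvPolynomial.coeff k) (show f (b : B) = 0 from b.2)
      rwa [hf, if_pos hk, MvPolynomial.coeff_zero] at h
    rw [LinearMap.lTensor_tmul, show a ⊗ₜ[A] ((LinearMap.ker L).subtype b) = (a ⊗ₜ[A] (1 : B)) * ((1 : A') ⊗ₜ[A] (b : B)) by simp]
    exact Ideal.mul_mem_left _ _ (Ideal.mem_map_of_mem _ hb)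
  | add y y' hy hy' => rw [map_add]; exact add_mem hy hy'

end Groth.Agent.S13701
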