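import Groth.Statements.S13703
import Groth.Agent.Lib.H7CycFib

set_option autoImplicit false
universe u
open scoped TensorProduct
open ZeroCyc

namespace Groth.Agent.S13703

/-- Let A be an integral domain, B a commutative A-algebra and F : B → A a multiplicative polynomial law
homogeneous of degree d. For every prime ideal P of B minimal among those containing the kernel of
F, the contraction of P to A is zero and every prime of A is the contraction of a prime of B
containing P. Geometrically: every irreducible component of the support of the family of zero-cycles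
on Spec B defined by F maps onto Spec A. (The published statement is over an arbitrary algebraic
space S, every irreducible component of the support mapping onto an irreducible component of S, and
its proof reduces to an integral affine base; this row is that case.) -/
theorem result {A : Type u} [CommRing A] [IsDomain A] {B : Type u} [CommRing B] [Algebra A B]
    {d : ℕ} (F : PolLaw.MulLaw A B A d) {P : Ideal B} (hP : P ∈ (PolLaw.ker F.law).minimalPrimes) :
    P.comap (algebraMap A B) = ⊥ ∧
      ∀ q : Ideal A, q.IsPrime → ∃ Q : Ideal B, Q.IsPrime ∧ P ≤ Q ∧ Q.comap (algebraMap A B) = q := by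
  open Groth.Agent in
  have key : P.comap (algebraMap A B) = ⊥ := by
    haveI := hP.1.1
    let Q : PrimeSpectrum (PolLaw.image F.law) := ⟨P.map (Ideal.Quotient.mk _),
      Ideal.map_isPrime_of_surjective Ideal.Quotient.mk_surjective (by rw [Ideal.mk_ker]; exact hP.1.2)⟩
    obtain ⟨Q', hQ', h0⟩ := H7Cyc.generalizingMap_self F
      (show (⊥ : PrimeSpectrum A) ⤳ PrimeSpectrum.comap (algebraMap A (PolLaw.image F.law)) Q from
        (PrimeSpectrum.le_iff_specializes _ _).mp bot_le)
    have hle : Q'.asIdeal.comap (Ideal.Quotient.mk (PolLaw.ker F.law)) ≤ P := by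
      refine (Ideal.comap_mono ((PrimeSpectrum.le_iff_specializes Q' Q).mpr hQ')).trans_eq ?_
      show (P.map (Ideal.Quotient.mk _)).comap _ = P
      rw [Ideal.comap_map_of_surjective _ Ideal.Quotient.mk_surjective, ← RingHom.ker_eq_comap_bot, Ideal.mk_ker,
        sup_eq_left]
      exact hP.1.2
    have hge := hP.2 (y := Q'.asIdeal.comap (Ideal.Quotient.mk (PolLaw.ker F.law)))
      ⟨Ideal.IsPrime.comap _, by
        intro b hb
        rw [Ideal.mem_comap, Ideal.Quotient.eq_zero_iff_mem.mpr hb]
        exact zero_mem _⟩ hle
    rw [le_antisymm hge hle, Ideal.comap_comap]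
    exact congrArg PrimeSpectrum.asIdeal h0
  refine ⟨key, fun q hq => ?_⟩
  haveI := hP.1.1
  haveI := H7Cyc.image_isIntegral F
  haveI := hq
  obtain ⟨Q, hPQ, hQ, hQq⟩ := Ideal.exists_ideal_over_prime_of_isIntegral q
    (P.map (Ideal.Quotient.mk (PolLaw.ker F.law)) : Ideal (PolLaw.image F.law)) (by
      intro a ha
      rw [Ideal.mem_comap] at ha
      obtain ⟨b, hb, hbe⟩ := (Ideal.mem_map_iff_of_surjective _ Ideal.Quotient.mk_surjective).mp ha
      have : algebraMap A B a ∈ P := by
        have h1 : b - algebraMap A B a ∈ PolLaw.ker F.law := Ideal.Quotient.eq.mp hbe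
        simpa using sub_mem hb (hP.1.2 h1)
      have h2 : a ∈ P.comap (algebraMap A B) := this
      rw [key] at h2
      rw [(Submodule.mem_bot A).mp h2]
      exact zero_mem _)
  exact ⟨Q.comap (Ideal.Quotient.mk _), Ideal.IsPrime.comap _,
    Ideal.map_le_iff_le_comap.mp hPQ, by rw [Ideal.comap_comap]; exact hQq⟩

end Groth.Agent.S13703
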