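import Groth.Statements.S13705
import Groth.Agent.Lib.H7CycFib

set_option autoImplicit false
universe u
open scoped TensorProduct
open ZeroCyc

namespace Groth.Agent.S13705

/-- Let F : B → A be a multiplicative polynomial law homogeneous of degree d over the commutative ring
A, with no finiteness assumption on B. Then the morphism Spec(B/ker F) → Spec A, the image of the
family of zero-cycles on Spec B defined by F, is universally open. (The published statement is for X
affine over an algebraic space S and for the support; this row is the case of an affine base, stated
for the image, which has the same underlying space as the support, the property being étale-local on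
the base and topological.) -/
theorem result {A : Type u} [CommRing A] {B : Type u} [CommRing B] [Algebra A B]
    {d : ℕ} (F : PolLaw.MulLaw A B A d) :
    AlgebraicGeometry.UniversallyOpen
      (AlgebraicGeometry.Spec.map (CommRingCat.ofHom (algebraMap A (PolLaw.image F.law)))) := by
  open AlgebraicGeometry CategoryTheory Limits MorphismProperty in
  refine ⟨universally_mk' _ _ fun {T} g _ => ?_⟩
  open AlgebraicGeometry CategoryTheory Limits MorphismProperty in
  wlog hT : ∃ R, T = Spec R generalizing T
  · open AlgebraicGeometry CategoryTheory Limits MorphismProperty in
    refine (IsZariskiLocalAtTarget.iff_of_openCover (P := topologically @IsOpenMap) T.affineCover).mpr fun i => ?_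
    open AlgebraicGeometry CategoryTheory Limits MorphismProperty in
    refine (MorphismProperty.cancel_left_of_respectsIso (topologically @IsOpenMap)
      ((pullbackRightPullbackFstIso ..).inv ≫ (pullbackSymmetry ..).hom) _).mp ?_
    open AlgebraicGeometry CategoryTheory Limits MorphismProperty in
    simpa [Scheme.Cover.pullbackHom] using! this _ _ ⟨_, rfl⟩
  obtain ⟨R, rfl⟩ := hT
  obtain ⟨ψ, rfl⟩ := AlgebraicGeometry.Spec.map_surjective g
  algebraize [ψ.hom]
  open AlgebraicGeometry CategoryTheory Limits MorphismProperty in
  refine (MorphismProperty.cancel_left_of_respectsIso (topologically @IsOpenMap)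
    (pullbackSpecIso A R (PolLaw.image F.law)).inv _).mp ?_
  open AlgebraicGeometry CategoryTheory Limits MorphismProperty in
  convert_to! topologically _ (Spec.map <| CommRingCat.ofHom (algebraMap R (TensorProduct A R (PolLaw.image F.law))))
  · exact AlgebraicGeometry.pullbackSpecIso_inv_fst ..
  exact Groth.Agent.H7Cyc.isOpenMap F R

end Groth.Agent.S13705
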