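import Groth.Statements.S13706
import Groth.Agent.Lib.H7CycPoints

set_option autoImplicit false
universe u
open scoped TensorProduct
open ZeroCyc

namespace Groth.Agent.S13706

/-- Let A be a commutative ring, B an A-algebra of finite type and F : B → A a multiplicative polynomial
law homogeneous of degree d. Then there is a finitely generated ideal J of B, contained in the
kernel of F and with the same radical; thus the support of the family of zero-cycles defined by F is
carried by a bijective closed immersion into Spec(B/J), a scheme of finite presentation over A. -/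
theorem result {A : Type u} [CommRing A] {B : Type u} [CommRing B] [Algebra A B]
    [Algebra.FiniteType A B] {d : ℕ} (F : PolLaw.MulLaw A B A d) :
    ∃ J : Ideal B, J.FG ∧ J ≤ PolLaw.ker F.law ∧ J.radical = (PolLaw.ker F.law).radical := by
  open Groth.Agent in
  classical
  obtain ⟨gs, hgs⟩ := ‹Algebra.FiniteType A B›.out
  let J₀ : Ideal B := Ideal.span ((gs.image fun b => Polynomial.aeval b (H7Cyc.charPoly F b) : Finset B) : Set B)
  have hJ₀fg : J₀.FG := ⟨_, rfl⟩
  have hJ₀ : J₀ ≤ PolLaw.ker F.law := by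
    refine Ideal.span_le.mpr fun y hy => ?_
    obtain ⟨b, -, rfl⟩ := Finset.mem_image.mp (Finset.mem_coe.mp hy)
    exact H7Cyc.aeval_charPoly_mem_ker F b
  haveI : Algebra.IsIntegral A (B ⧸ J₀) := by
    refine ⟨fun x => ?_⟩
    obtain ⟨b, rfl⟩ := Ideal.Quotient.mk_surjective x
    have : b ∈ Algebra.adjoin A (gs : Set B) := hgs ▸ Algebra.mem_top
    have hle : Algebra.adjoin A (gs : Set B) ≤ (integralClosure A (B ⧸ J₀)).comap (Ideal.Quotient.mkₐ A J₀) := by
      refine Algebra.adjoin_le fun g hg => ?_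
      refine ⟨H7Cyc.charPoly F g, Polynomial.monic_of_natDegree_le_of_coeff_eq_one d
        (H7Cyc.natDegree_charPoly_le F g) (H7Cyc.coeff_charPoly_self F g), ?_⟩
      rw [← Polynomial.aeval_def]
      show Polynomial.aeval (Ideal.Quotient.mkₐ A J₀ g) _ = 0
      rw [Polynomial.aeval_algHom_apply]
      exact Ideal.Quotient.eq_zero_iff_mem.mpr (Ideal.subset_span (Finset.mem_coe.mpr (Finset.mem_image_of_mem _ hg)))
    exact hle this
  haveI : Module.Finite A (B ⧸ J₀) := Algebra.IsIntegral.finite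
  obtain ⟨m, q, hq⟩ := Module.Finite.exists_fin (R := A) (M := B ⧸ J₀)
  choose e he using fun j => (Ideal.Quotient.mk_surjective (I := J₀)).comp (H7Cyc.cover_surjective (A := A) (B := B)) (q j)
  obtain ⟨K, c, hc, hid⟩ := H7Cyc.exists_generic_ch F (σ := Fin m) e
  let J := J₀ ⊔ Ideal.span ((K.image c : Finset B) : Set B)
  have hJ : J ≤ PolLaw.ker F.law := sup_le hJ₀ (Ideal.span_le.mpr fun y hy => by
    obtain ⟨k, hk, rfl⟩ := Finset.mem_image.mp (Finset.mem_coe.mp hy)
    exact hc k hk)
  refine ⟨J, Submodule.FG.sup hJ₀fg ⟨_, rfl⟩, hJ, le_antisymm (Ideal.radical_mono hJ) (Ideal.radical_le_radical_iff.mpr ?_)⟩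
  intro b hb
  rw [Ideal.radical_eq_sInf, Ideal.mem_sInf]
  rintro Q ⟨hQ, hQp⟩
  haveI : Q.IsPrime := hQp
  let L := AlgebraicClosure Q.ResidueField
  let g : B →ₐ[A] L := IsScalarTower.toAlgHom A B L
  have hg : ∀ y, g y = 0 ↔ y ∈ Q := fun y => by
    show algebraMap B L y = 0 ↔ _
    rw [IsScalarTower.algebraMap_apply B Q.ResidueField L,
      map_eq_zero_iff _ (algebraMap Q.ResidueField L).injective, Ideal.algebraMap_residueField_eq_zero]
  obtain ⟨a, ha⟩ := (Submodule.mem_span_range_iff_exists_fun A).mp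
    (show Ideal.Quotient.mk J₀ b ∈ Submodule.span A (Set.range q) by rw [hq]; exact Submodule.mem_top)
  let b' := ∑ j, a j • H7Gamma.cover A B (e j)
  have hbb' : b - b' ∈ J₀ := by
    rw [← Ideal.Quotient.eq_zero_iff_mem, map_sub, sub_eq_zero, ← ha, map_sum]
    refine Finset.sum_congr rfl fun j _ => ?_
    rw [← Ideal.Quotient.mkₐ_eq_mk A, map_smul, Ideal.Quotient.mkₐ_eq_mk]
    exact congrArg _ (he j).symm
  have hb' : b' ∈ PolLaw.ker F.law := by
    have := sub_mem hb (hJ₀ hbb')
    rwa [sub_sub_cancel] at this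
  obtain ⟨χ, hχ⟩ := H7Gamma.exists_extension ((Algebra.ofId A L).comp (H7Gamma.lawMap F))
  have h0 := hid L (fun j => algebraMap A L (a j)) g χ hχ
  rw [Finset.sum_eq_zero (fun k hk => by
    rw [(hg (c k)).mpr (hQ (le_sup_right (a := J₀) (Ideal.subset_span (Finset.mem_coe.mpr (Finset.mem_image_of_mem c hk))))),
      mul_zero])] at h0
  obtain ⟨i, -, hi⟩ := Finset.prod_eq_zero_iff.mp h0.symm
  have hψ := H7Cyc.psi_eq_zero_of_mem_ker F χ hχ hb' (∑ j, a j • e j) (by simp [b', map_sum, map_smul]) i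
  simp only [map_sum, map_smul, Algebra.smul_def, AlgHom.comp_apply, map_mul, AlgHom.commutes] at hψ
  rw [sub_eq_zero] at hi
  have hb'Q : b' ∈ Q := (hg b').mp (by
    simp only [b', map_sum, map_smul, Algebra.smul_def, map_mul, AlgHom.commutes]
    exact hi.trans hψ)
  have := add_mem (hQ (le_sup_left (b := Ideal.span ((K.image c : Finset B) : Set B)) hbb')) hb'Q
  rwa [sub_add_cancel] at this

end Groth.Agent.S13706
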