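import Groth.Statements.S13707
import Groth.Agent.Lib.H7CycFib

set_option autoImplicit false
universe u
open scoped TensorProduct
open ZeroCyc

namespace Groth.Agent.S13707

/-- Let k be a field, B a commutative k-algebra and F : B → k a multiplicative polynomial law
homogeneous of degree d. Then the spectrum of B/ker F (the image of the family of zero-cycles of
degree d on Spec B defined by F) is a finite set of at most d closed points, and the residue field
at each of them has finite separable degree over k. -/
theorem result {k : Type u} [Field k] {B : Type u} [CommRing B] [Algebra k B]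
    {d : ℕ} (F : PolLaw.MulLaw k B k d) :
    Finite (PrimeSpectrum (PolLaw.image F.law)) ∧ Nat.card (PrimeSpectrum (PolLaw.image F.law)) ≤ d ∧
      ∀ P : PrimeSpectrum (PolLaw.image F.law), P.asIdeal.IsMaximal ∧
        Finite (Field.Emb k P.asIdeal.ResidueField) := by
  have hall : ∀ Q : PrimeSpectrum (PolLaw.image F.law),
      Q ∈ PrimeSpectrum.comap (algebraMap k (PolLaw.image F.law)) ⁻¹' {(default : PrimeSpectrum k)} :=
    fun Q => Subsingleton.elim _ _
  have h := Groth.Agent.H7Cyc.fibre_encard_self F (default : PrimeSpectrum k)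
  rw [Set.eq_univ_of_forall hall, Set.encard_univ] at h
  haveI hf : Finite (PrimeSpectrum (PolLaw.image F.law)) := by
    rw [← ENat.card_lt_top]
    exact lt_of_le_of_lt h (ENat.coe_lt_top d)
  refine ⟨hf, ?_, fun P => ?_⟩
  · rw [ENat.card_eq_coe_natCard] at h
    exact_mod_cast h
  haveI := Groth.Agent.H7Cyc.image_isIntegral F
  haveI hmax : P.asIdeal.IsMaximal := by
    refine Ideal.isMaximal_of_isIntegral_of_isMaximal_comap (R := k) _ ?_
    rw [(Ideal.eq_bot_or_top (P.asIdeal.comap (algebraMap k _))).resolve_right (Ideal.IsPrime.ne_top inferInstance)]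
    exact Ideal.bot_isMaximal
  refine ⟨hmax, ?_⟩
  haveI := (Groth.Agent.H7Cyc.card_points F (K := AlgebraicClosure P.asIdeal.ResidueField)).1
  refine Finite.of_injective
    (fun σ : Field.Emb k P.asIdeal.ResidueField => σ.comp (IsScalarTower.toAlgHom k (PolLaw.image F.law) P.asIdeal.ResidueField))
    fun σ τ e => AlgHom.ext fun x => ?_
  obtain ⟨z, rfl⟩ := (Ideal.bijective_algebraMap_quotient_residueField P.asIdeal).2 x
  obtain ⟨y, rfl⟩ := Ideal.Quotient.mk_surjective z
  exact AlgHom.congr_fun e y

end Groth.Agent.S13707
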