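import Groth.Statements.S13708
import Groth.Prelude.Def_SymProd
import Mathlib

set_option autoImplicit false
universe u
open CategoryTheory CategoryTheory.Limits AlgebraicGeometry
open ZeroCyc

namespace Groth.Agent.S13708
open CategoryTheory CategoryTheory.Limits AlgebraicGeometry TopologicalSpace Opposite

/-- Let X be a scheme over S such that every finite set of points of X over a common point of S lies in
some affine open subscheme of X (the condition (AF)). Then X is separated over S. (The published
condition (AF) asks for an open U with U → S quasi-affine rather than U affine; with U affine, as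
here, the same argument applies verbatim, and the two conditions agree over a quasi-separated base.) -/
theorem result {X S : Scheme.{u}} (f : X ⟶ S) (hX : SymProd.IsAF f) :
    IsSeparated f := by
  constructor
  refine IsClosedImmersion.of_isPreimmersion _ ?_
  rw [← isOpen_compl_iff, isOpen_iff_forall_mem_open]
  intro z hz
  classical
  obtain ⟨U, hU, hTU⟩ := hX (f ((pullback.fst f f) z)) {(pullback.fst f f) z, (pullback.snd f f) z} (by
    intro x hx
    simp only [Finset.mem_insert, Finset.mem_singleton] at hx
    rcases hx with rfl | rfl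
    · rfl
    · rw [← Scheme.Hom.comp_apply, ← pullback.condition]; rfl)
  haveI : IsAffine (U : Scheme.{u}) := hU
  let ι := pullback.map (U.ι ≫ f) (U.ι ≫ f) f f U.ι U.ι (𝟙 S) (by simp) (by simp)
  have hrange : z ∈ Set.range ι := by
    rw [show Set.range ι = _ from Scheme.Pullback.range_map _ _ _ _ _ _ _ _ _]
    simp only [Set.mem_inter_iff, Set.mem_preimage, Scheme.Opens.range_ι, SetLike.mem_coe]
    exact ⟨hTU _ (by simp), hTU _ (by simp)⟩
  obtain ⟨w, rfl⟩ := hrange
  let dU := pullback.diagonal (U.ι ≫ f)
  refine ⟨ι '' (Set.range dU)ᶜ, ?_, ι.isOpenEmbedding.isOpenMap _ dU.isClosedEmbedding.isClosed_range.isOpen_compl, ⟨w, ?_, rfl⟩⟩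
  · rintro _ ⟨w', hw', rfl⟩ ⟨x, hx⟩
    have h1 : (pullback.fst f f) ((pullback.diagonal f) x) = x := by
      rw [← Scheme.Hom.comp_apply, pullback.diagonal_fst]; rfl
    have h2 : (pullback.fst f f) (ι w') = U.ι ((pullback.fst (U.ι ≫ f) (U.ι ≫ f)) w') := by
      rw [← Scheme.Hom.comp_apply, ← Scheme.Hom.comp_apply, pullback.lift_fst]
    rw [hx, h2] at h1
    apply hw'
    refine ⟨(pullback.fst (U.ι ≫ f) (U.ι ≫ f)) w', ι.isOpenEmbedding.injective ?_⟩
    have e : dU ≫ ι = U.ι ≫ pullback.diagonal f := by
      apply pullback.hom_ext <;> simp only [ι, dU, Category.assoc, pullback.diagonal_fst, pullback.diagonal_snd, pullback.lift_fst, pullback.lift_snd, pullback.lift_fst_assoc, pullback.lift_snd_assoc, pullback.diagonal_fst_assoc, pullback.diagonal_snd_assoc, Category.comp_id]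
    rw [← Scheme.Hom.comp_apply, e, Scheme.Hom.comp_apply, h1, hx]
  · rintro ⟨v, hv⟩
    apply hz
    refine ⟨U.ι v, ?_⟩
    have e : dU ≫ ι = U.ι ≫ pullback.diagonal f := by
      apply pullback.hom_ext <;> simp only [ι, dU, Category.assoc, pullback.diagonal_fst, pullback.diagonal_snd, pullback.lift_fst, pullback.lift_snd, pullback.lift_fst_assoc, pullback.lift_snd_assoc, pullback.diagonal_fst_assoc, pullback.diagonal_snd_assoc, Category.comp_id]
    rw [← hv, ← Scheme.Hom.comp_apply, ← Scheme.Hom.comp_apply, e]

end Groth.Agent.S13708
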