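import Groth.Statements.S13709
import Mathlib

set_option autoImplicit false
universe u
open CategoryTheory CategoryTheory.Limits AlgebraicGeometry
open ZeroCyc

namespace Groth.Agent.S13709

/-- Let f : X → Y be a quasi-compact morphism of schemes and g : Y' → Y a faithfully flat morphism, i.e.
flat and surjective, with no quasi-compactness assumption on g. If the base change X ×_Y Y' → Y' of
f along g is a homeomorphism on underlying spaces, then so is f. -/
theorem result {X Y Y' : Scheme.{u}} (f : X ⟶ Y) (g : Y' ⟶ Y)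
    [Flat g] [Surjective g] [QuasiCompact f] (h : IsHomeomorph (pullback.snd f g).base) :
    IsHomeomorph f.base := by
  have hsg : Function.Surjective g.base := g.surjective
  have hb := h.bijective
  have hsurj : Function.Surjective f.base := by
    intro y
    obtain ⟨y', hy'⟩ := hsg y
    obtain ⟨z, hz⟩ := hb.2 y'
    refine ⟨pullback.fst f g z, ?_⟩
    rw [← hy', ← hz, ← Scheme.Hom.comp_apply, ← Scheme.Hom.comp_apply, pullback.condition]
  have hinj : Function.Injective f.base := by
    intro x₁ x₂ hx
    obtain ⟨y', hy'⟩ := hsg (f.base x₁)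
    obtain ⟨z₁, hz₁, hz₁'⟩ := Scheme.Pullback.exists_preimage_pullback x₁ y' hy'.symm
    obtain ⟨z₂, hz₂, hz₂'⟩ := Scheme.Pullback.exists_preimage_pullback x₂ y' (hx.symm.trans hy'.symm)
    rw [← hz₁, ← hz₂, hb.1 (hz₁'.trans hz₂'.symm)]
  have hspec : SpecializingMap f.base := by
    intro x y hxy
    obtain ⟨y', hy'⟩ := hsg y
    obtain ⟨y'', hy''s, hy''⟩ := Flat.generalizingMap g (show f.base x ⤳ g.base y' from hy' ▸ hxy)
    obtain ⟨z, hz, hz'⟩ := Scheme.Pullback.exists_preimage_pullback x y'' hy''.symm
    obtain ⟨w, hw⟩ := hb.2 y'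
    have : z ⤳ w := by
      rw [← h.isInducing.specializes_iff, hz', hw]
      exact hy''s
    refine ⟨pullback.fst f g w, hz ▸ this.map (pullback.fst f g).continuous, ?_⟩
    rw [← hy', ← hw, ← Scheme.Hom.comp_apply, ← Scheme.Hom.comp_apply, pullback.condition]
  rw [isHomeomorph_iff_continuous_isClosedMap_bijective]
  exact ⟨f.continuous, (isClosedMap_iff_specializingMap f).mpr hspec, hinj, hsurj⟩

end Groth.Agent.S13709
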