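import Groth.Statements.S13710
import Groth.Agent.S13709

set_option autoImplicit false
universe u
open CategoryTheory CategoryTheory.Limits AlgebraicGeometry
open ZeroCyc

namespace Groth.Agent.S13710

private lemma iso_over_stalk {X Y Y' : Scheme.{u}} (f : X ⟶ Y) (g : Y' ⟶ Y) [Flat g]
    (hiso : IsIso (pullback.snd f g)) (y' : Y') :
    IsIso (pullback.snd f (Y.fromSpecStalk (g.base y'))) := by
  let φ := g.stalkMap y'
  let j := Y.fromSpecStalk (g.base y')
  let fy := pullback.snd f j
  have hflat : Flat (Spec.map φ) := HasRingHomProperty.Spec_iff.mpr (Flat.stalkMap g y')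
  have hsurj : Surjective (Spec.map φ) := by
    constructor
    algebraize [φ.hom]
    have : Module.Flat (Y.presheaf.stalk (g.base y')) (Y'.presheaf.stalk y') := Flat.stalkMap g y'
    have : IsLocalHom (algebraMap (Y.presheaf.stalk (g.base y')) (Y'.presheaf.stalk y')) :=
      g.toLRSHom.prop y'
    have : Module.FaithfullyFlat (Y.presheaf.stalk (g.base y')) (Y'.presheaf.stalk y') :=
      Module.FaithfullyFlat.of_flat_of_isLocalHom
    exact PrimeSpectrum.comap_surjective_of_faithfullyFlat
  have hφj : Spec.map φ ≫ j = Y'.fromSpecStalk y' ≫ g := Scheme.SpecMap_stalkMap_fromSpecStalk g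
  have sq : IsPullback (pullback.snd (Spec.map φ) fy ≫ pullback.fst f j) (pullback.fst (Spec.map φ) fy)
      f (Y'.fromSpecStalk y' ≫ g) := by
    rw [← hφj]
    exact (IsPullback.of_hasPullback (Spec.map φ) fy).flip.paste_horiz (IsPullback.of_hasPullback f j)
  let l : pullback (Spec.map φ) fy ⟶ pullback f g :=
    pullback.lift (pullback.snd (Spec.map φ) fy ≫ pullback.fst f j)
      (pullback.fst (Spec.map φ) fy ≫ Y'.fromSpecStalk y') (by rw [sq.w, Category.assoc])
  have sq' : IsPullback l (pullback.fst (Spec.map φ) fy) (pullback.snd f g) (Y'.fromSpecStalk y') :=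
    IsPullback.of_right (by rw [pullback.lift_fst]; exact sq) (pullback.lift_snd _ _ _) (IsPullback.of_hasPullback f g)
  have h1 : MorphismProperty.isomorphisms Scheme.{u} (pullback.fst (Spec.map φ) fy) :=
    MorphismProperty.of_isPullback sq' (MorphismProperty.isomorphisms.infer_property _)
  exact MorphismProperty.of_pullback_fst_of_descendsAlong (P := MorphismProperty.isomorphisms Scheme.{u})
    (Q := @Surjective ⊓ @Flat ⊓ @QuasiCompact) (f := Spec.map φ)
    ⟨⟨hsurj, hflat⟩, inferInstance⟩ h1



/-- Let f : X → Y be a morphism of schemes and g : Y' → Y a faithfully flat morphism (flat and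
surjective, not assumed quasi-compact). Then f is an isomorphism exactly when it is quasi-compact
and its base change X ×_Y Y' → Y' along g is an isomorphism. -/
theorem result {X Y Y' : Scheme.{u}} (f : X ⟶ Y) (g : Y' ⟶ Y)
    [Flat g] [Surjective g] :
    IsIso f ↔ QuasiCompact f ∧ IsIso (pullback.snd f g) := by
  constructor
  · intro h
    exact ⟨inferInstance, inferInstance⟩
  rintro ⟨hqc, hiso⟩
  have hsg : Function.Surjective g.base := g.surjective
  have hh : IsHomeomorph f.base :=
    Groth.Agent.S13709.result f g (pullback.snd f g).homeomorph.isHomeomorph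
  rw [isIso_iff_isIso_stalkMap]
  refine ⟨(TopCat.isIso_iff_isHomeomorph _).mpr hh, fun x => ?_⟩
  have key : ∀ y : Y, IsIso (pullback.snd f (Y.fromSpecStalk y)) := fun y => by
    obtain ⟨y', rfl⟩ := hsg y
    exact iso_over_stalk f g hiso y'
  have := key (f.base x)
  let σ := inv (pullback.snd f (Y.fromSpecStalk (f.base x))) ≫ pullback.fst f (Y.fromSpecStalk (f.base x))
  have hσ : σ ≫ f = Y.fromSpecStalk (f.base x) := by simp [σ, pullback.condition]
  have hσu : ∀ {T : Scheme.{u}} (t : T ⟶ X) (h : T ⟶ Spec (Y.presheaf.stalk (f.base x))),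
      t ≫ f = h ≫ Y.fromSpecStalk (f.base x) → t = h ≫ σ := by
    intro T t h ht
    have e : pullback.lift t h ht = h ≫ inv (pullback.snd f (Y.fromSpecStalk (f.base x))) := by
      rw [IsIso.eq_comp_inv, pullback.lift_snd]
    rw [← pullback.lift_fst t h ht, e, Category.assoc]
  have e1 : X.fromSpecStalk x = Spec.map (f.stalkMap x) ≫ σ :=
    hσu _ _ (Scheme.SpecMap_stalkMap_fromSpecStalk f).symm
  have hpt : σ.base (IsLocalRing.closedPoint (Y.presheaf.stalk (f.base x))) = x := by
    apply hh.injective
    show (σ ≫ f).base _ = _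
    rw [hσ]
    exact Scheme.fromSpecStalk_closedPoint
  have aux : ∀ x', x' = x → ∀ (t : Spec (Y.presheaf.stalk (f.base x)) ⟶ X) (r' : X.presheaf.stalk x' ⟶ _),
      Spec.map r' ≫ X.fromSpecStalk x' = t → ∃ r, Spec.map r ≫ X.fromSpecStalk x = t := by
    rintro x' rfl t r' h
    exact ⟨r', h⟩
  obtain ⟨r, hr⟩ := aux _ hpt σ _ (Scheme.Spec_stalkClosedPointTo_fromSpecStalk σ)
  have h1 : Spec.map (f.stalkMap x) ≫ Spec.map r = 𝟙 _ := by
    rw [← cancel_mono (X.fromSpecStalk x), Category.assoc, hr, ← e1, Category.id_comp]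
  have h2 : Spec.map r ≫ Spec.map (f.stalkMap x) = 𝟙 _ := by
    rw [← cancel_mono (Y.fromSpecStalk (f.base x)), Category.assoc,
      Scheme.SpecMap_stalkMap_fromSpecStalk, ← Category.assoc, hr, hσ, Category.id_comp]
  have : IsIso (Spec.map (f.stalkMap x)) := ⟨Spec.map r, h1, h2⟩
  exact (isIso_SpecMap_iff.mp this) |> fun h => (ConcreteCategory.isIso_iff_bijective _).mpr h

end Groth.Agent.S13710
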