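import Groth.Statements.S13715
import Groth.Agent.Lib.H7PolLaw

set_option autoImplicit false
universe u
open scoped TensorProduct
open ZeroCyc

namespace Groth.Agent.S13715

/-- Let (C, γ) be the algebra of divided powers Γ^d_A(B) of a commutative A-algebra B with its universal
multiplicative law γ : B → C homogeneous of degree d (every multiplicative law B → C' homogeneous of
degree d factors uniquely through γ by an algebra map C → C'). If B is finite (as a module) over A
then so is C = Γ^d_A(B). -/
theorem result {A : Type u} [CommRing A] {B : Type u} [CommRing B] [Algebra A B] {C : Type u} [CommRing C] [Algebra A C]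
    {d : ℕ} (γ : PolLaw.MulLaw A B C d) (hγ : PolLaw.IsGammaD γ) [Module.Finite A B] :
    Module.Finite A C := by
  classical
  obtain ⟨n, b, hb⟩ := Module.Finite.exists_fin (R := A) (M := B)
  obtain ⟨K, hK⟩ := Groth.Agent.H7PolLaw.exists_expansion (γ.law.toFun' _ (Groth.Agent.H7PolLaw.gen (A := A) b))
  refine ⟨⟨K.image (Groth.Agent.H7PolLaw.coef γ.law b), ?_⟩⟩
  rw [eq_top_iff, ← Groth.Agent.H7PolLaw.coefSpan_eq_top γ hγ]
  refine Submodule.span_le.mpr ?_
  rintro _ ⟨m, c, k, rfl⟩
  have hc : ∀ j, ∃ a : Fin n → A, ∑ i, a i • b i = c j := fun j =>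
    (Submodule.mem_span_range_iff_exists_fun A).mp (hb ▸ Submodule.mem_top)
  choose a ha using hc
  have hgen : Groth.Agent.H7PolLaw.gen (A := A) c =
      ∑ i, (∑ j, a j i • (MvPolynomial.X j : MvPolynomial (Fin m) A)) ⊗ₜ[A] b i := by
    simp only [Groth.Agent.H7PolLaw.gen, ← ha, TensorProduct.tmul_sum, TensorProduct.sum_tmul, TensorProduct.smul_tmul]
    rw [Finset.sum_comm]
  rw [Groth.Agent.H7PolLaw.coef, hgen, Groth.Agent.H7PolLaw.toFun'_sum, hK K subset_rfl]
  simp only [map_sum, LinearMap.rTensor_tmul, Groth.Agent.H7PolLaw.cf_tmul]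
  exact Submodule.sum_mem _ fun l hl => Submodule.smul_mem _ _ (Submodule.subset_span
    (Finset.mem_coe.mpr (Finset.mem_image_of_mem _ hl)))

end Groth.Agent.S13715
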