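import Groth.Statements.S13718
import Groth.Agent.Lib.H7CycPoints

set_option autoImplicit false
universe u
open scoped TensorProduct
open ZeroCyc

namespace Groth.Agent.S13718

/-- Let φ : B' → B be a map of commutative algebras over the commutative ring A and F : B → A a
multiplicative polynomial law homogeneous of degree d, with push-forward the law F ∘ φ : B' → A.
Then the radical of the kernel of F ∘ φ equals the radical of the inverse image under φ of the
kernel of F: the support of the pushed-forward family of zero-cycles on Spec B' is the image of the
support of the family on Spec B. (The published statement is for affine morphisms X → Y → S of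
algebraic spaces; this row is the case of an affine base.) -/
theorem result {A : Type u} [CommRing A] {B : Type u} [CommRing B] [Algebra A B]
    {B' : Type u} [CommRing B'] [Algebra A B'] {d : ℕ} (F : PolLaw.MulLaw A B A d) (φ : B' →ₐ[A] B) :
    (PolLaw.ker (F.precomp φ).law).radical = ((PolLaw.ker F.law).comap φ).radical := by
  ext b
  rw [Groth.Agent.H7Cyc.mem_radical_ker_iff, Ideal.mem_radical_iff]
  constructor
  · intro h
    have h' : φ b ∈ (PolLaw.ker F.law).radical := by
      rw [Groth.Agent.H7Cyc.mem_radical_ker_iff]
      simpa [Groth.Agent.H7Cyc.charPoly_precomp] using h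
    obtain ⟨m, hm⟩ := h'
    exact ⟨m, by rw [Ideal.mem_comap, map_pow]; exact hm⟩
  · rintro ⟨m, hm⟩
    rw [Groth.Agent.H7Cyc.charPoly_precomp]
    rw [Ideal.mem_comap, map_pow] at hm
    exact (Groth.Agent.H7Cyc.mem_radical_ker_iff F (φ b)).mp ⟨m, hm⟩

end Groth.Agent.S13718
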