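import Groth.Statements.S13719
import Mathlib

set_option autoImplicit false
universe u
open scoped TensorProduct
open ZeroCyc

namespace Groth.Agent.S13719

open scoped TensorProduct in
theorem monomial_of_mult {A : Type*} [CommRing A] [ConnectedSpace (PrimeSpectrum A)] (P : Polynomial A)
    (h1 : P.eval 1 = 1)
    (h : P.eval₂ ((Polynomial.C).comp Polynomial.C) (Polynomial.C Polynomial.X * Polynomial.X) =
      Polynomial.C P * P.map Polynomial.C) : ∃ i, P = Polynomial.X ^ i := by
  classical
  haveI : Nontrivial A := by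
    by_contra hn
    rw [not_nontrivial_iff_subsingleton] at hn
    obtain ⟨p⟩ : Nonempty (PrimeSpectrum A) := inferInstance
    exact p.isPrime.ne_top (Ideal.eq_top_of_isUnit_mem _ (zero_mem _) (isUnit_of_subsingleton 0))
  have key : ∀ i j, P.coeff i * P.coeff j = if i = j then P.coeff j else 0 := by
    intro i j
    have hj := congrArg (fun Q => (Q.coeff j).coeff i) h
    simp only [Polynomial.coeff_C_mul, Polynomial.coeff_map, Polynomial.coeff_mul_C] at hj
    rw [← hj, Polynomial.eval₂_eq_sum, Polynomial.sum]
    simp only [RingHom.comp_apply, mul_pow, ← Polynomial.C_pow, ← mul_assoc, ← map_mul, Polynomial.finsetSum_coeff,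
      Polynomial.coeff_C_mul_X_pow, apply_ite (fun q : Polynomial A => q.coeff i), Polynomial.coeff_zero]
    rw [Finset.sum_ite_eq]
    split_ifs with hs hij
    all_goals simp_all
  have hidem : ∀ i, P.coeff i = 0 ∨ P.coeff i = 1 := by
    intro i
    have hi : IsIdempotentElem (P.coeff i) := (key i i).trans (if_pos rfl)
    rcases isClopen_iff.mp (PrimeSpectrum.isClopen_iff_zeroLocus.mpr ⟨P.coeff i, hi, rfl⟩ :
        IsClopen (PrimeSpectrum.zeroLocus ({P.coeff i} : Set A))) with hc | hc
    · right
      have hu : IsUnit (P.coeff i) := by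
        by_contra hu
        obtain ⟨m, hm, hmem⟩ := Ideal.exists_le_maximal _ (mt Ideal.span_singleton_eq_top.mp hu)
        have : (⟨m, hm.isPrime⟩ : PrimeSpectrum A) ∈ PrimeSpectrum.zeroLocus ({P.coeff i} : Set A) := by
          intro x hx
          exact hmem (Ideal.subset_span hx)
        rw [hc] at this
        exact this
      exact hu.mul_left_cancel (hi.trans (mul_one _).symm)
    · left
      have hn : IsNilpotent (P.coeff i) := by
        rw [← mem_nilradical, nilradical_eq_sInf, Ideal.mem_sInf]
        intro q hq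
        have : (⟨q, hq⟩ : PrimeSpectrum A) ∈ PrimeSpectrum.zeroLocus ({P.coeff i} : Set A) := hc ▸ Set.mem_univ _
        exact this rfl
      obtain ⟨m, hm⟩ := hn
      cases m with
      | zero => exact absurd hm (by simp)
      | succ m => rwa [hi.pow_succ_eq] at hm
  obtain ⟨i, hi⟩ : ∃ i, P.coeff i = 1 := by
    by_contra hno
    push Not at hno
    rw [show P = 0 from Polynomial.ext fun i => by rw [(hidem i).resolve_right (hno i), Polynomial.coeff_zero]] at h1
    simp at h1
  refine ⟨i, Polynomial.ext fun j => ?_⟩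
  rw [Polynomial.coeff_X_pow]
  split_ifs with hj
  · rw [hj, hi]
  · have := key j i
    rwa [hi, mul_one, if_neg hj] at this


/-- Let A be a commutative ring whose prime spectrum is connected, B₁, B₂ commutative A-algebras and F :
B₁ × B₂ → A a multiplicative polynomial law homogeneous of degree d (a family of zero-cycles of
degree d on the disjoint union Spec B₁ ⊔ Spec B₂ over Spec A). Then there are natural numbers d₁ +
d₂ = d, the multiplicities of the family on the two pieces, and multiplicative laws F₁ : B₁ → A, F₂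
: B₂ → A homogeneous of degrees d₁, d₂ with F(x) = F₁(x₁) F₂(x₂) for every test algebra S and x ∈ S
⊗ (B₁ × B₂) with components x₁, x₂; and the degrees d₁, d₂ of any such factorisation are uniquely
determined. (The published statement is for finitely many algebraic spaces affine over a connected
algebraic space S; this row is the case of two pieces over an affine base.) -/
theorem result {A : Type u} [CommRing A] [ConnectedSpace (PrimeSpectrum A)]
    {B₁ : Type u} [CommRing B₁] [Algebra A B₁] {B₂ : Type u} [CommRing B₂] [Algebra A B₂]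
    {d : ℕ} (F : PolLaw.MulLaw A (B₁ × B₂) A d) :
    ∃ d₁ d₂ : ℕ, d₁ + d₂ = d ∧
      (∃ (F₁ : PolLaw.MulLaw A B₁ A d₁) (F₂ : PolLaw.MulLaw A B₂ A d₂),
        ∀ (S : Type u) [CommSemiring S] [Algebra A S] (x : S ⊗[A] (B₁ × B₂)),
          F.law.toFun' S x = F₁.law.toFun' S (LinearMap.lTensor S (LinearMap.fst A B₁ B₂) x) *
            F₂.law.toFun' S (LinearMap.lTensor S (LinearMap.snd A B₁ B₂) x)) ∧
      ∀ (e₁ e₂ : ℕ) (G₁ : PolLaw.MulLaw A B₁ A e₁) (G₂ : PolLaw.MulLaw A B₂ A e₂),
        (∀ (S : Type u) [CommSemiring S] [Algebra A S] (x : S ⊗[A] (B₁ × B₂)),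
          F.law.toFun' S x = G₁.law.toFun' S (LinearMap.lTensor S (LinearMap.fst A B₁ B₂) x) *
            G₂.law.toFun' S (LinearMap.lTensor S (LinearMap.snd A B₁ B₂) x)) → e₁ = d₁ ∧ e₂ = d₂ := by
  classical
  let e : B₁ × B₂ := (1, 0)
  let f : B₁ × B₂ := (0, 1)
  let V : (S : Type u) → [CommSemiring S] → [Algebra A S] → S → S → S := fun S _ _ a b =>
    TensorProduct.rid A S (F.law.toFun' S (a ⊗ₜ[A] e + b ⊗ₜ[A] f))
  have hrid : ∀ {S : Type u} [CommSemiring S] [Algebra A S] (y : S ⊗[A] A), y = TensorProduct.rid A S y ⊗ₜ[A] (1 : A) := by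
    intro S _ _ y
    exact ((TensorProduct.rid A S).symm_apply_apply y).symm
  have hrmul : ∀ {S : Type u} [CommSemiring S] [Algebra A S] (y z : S ⊗[A] A),
      TensorProduct.rid A S (y * z) = TensorProduct.rid A S y * TensorProduct.rid A S z := by
    intro S _ _ y z
    conv_lhs => rw [hrid y, hrid z, Algebra.TensorProduct.tmul_mul_tmul]
    simp
  have hVmul : ∀ (S : Type u) [CommSemiring S] [Algebra A S] (a b a' b' : S), V S (a * a') (b * b') = V S a b * V S a' b' := by
    intro S _ _ a b a' b'
    simp only [V]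
    rw [← hrmul, ← (F.mult S).2]
    congr 2
    simp [add_mul, mul_add, Algebra.TensorProduct.tmul_mul_tmul, e, f, Prod.mk_mul_mk, ← Prod.zero_eq_mk]
  have hVnat : ∀ {S S' : Type u} [CommSemiring S] [Algebra A S] [CommSemiring S'] [Algebra A S'] (φ : S →ₐ[A] S') (a b : S),
      φ (V S a b) = V S' (φ a) (φ b) := by
    intro S S' _ _ _ _ φ a b
    simp only [V]
    have : ∀ y : S ⊗[A] A, φ (TensorProduct.rid A S y) = TensorProduct.rid A S' (φ.toLinearMap.rTensor A y) := by
      intro y
      induction y using TensorProduct.induction_on with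
      | zero => simp
      | tmul r a => simp
      | add y y' hy hy' => simp only [map_add, hy, hy']
    rw [this, PolynomialLaw.isCompat_apply', map_add, LinearMap.rTensor_tmul, LinearMap.rTensor_tmul]
    rfl
  have hVdiag : ∀ (S : Type u) [CommSemiring S] [Algebra A S] (a : S), V S a a = a ^ d := by
    intro S _ _ a
    simp only [V]
    rw [← TensorProduct.tmul_add, show e + f = (1 : B₁ × B₂) by simp [e, f, Prod.one_eq_mk],
      show a ⊗ₜ[A] (1 : B₁ × B₂) = a • (1 : S ⊗[A] (B₁ × B₂)) by rw [Algebra.TensorProduct.one_def, TensorProduct.smul_tmul', smul_eq_mul, mul_one],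
      F.homog, (F.mult S).1, Algebra.TensorProduct.one_def, TensorProduct.smul_tmul', smul_eq_mul, mul_one]
    simp
  let P := V (Polynomial A) Polynomial.X 1
  let Q := V (Polynomial A) 1 Polynomial.X
  have hPspec : ∀ (S : Type u) [CommSemiring S] [Algebra A S] (a : S), V S a 1 = Polynomial.aeval a P := by
    intro S _ _ a
    rw [hVnat (Polynomial.aeval a), Polynomial.aeval_X, map_one]
  have hQspec : ∀ (S : Type u) [CommSemiring S] [Algebra A S] (a : S), V S 1 a = Polynomial.aeval a Q := by
    intro S _ _ a
    rw [hVnat (Polynomial.aeval a), Polynomial.aeval_X, map_one]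
  have hmono : ∀ (R : Polynomial A) (W : (S : Type u) → [CommSemiring S] → [Algebra A S] → S → S),
      (∀ (S : Type u) [CommSemiring S] [Algebra A S] (a : S), W S a = Polynomial.aeval a R) →
      (∀ (S : Type u) [CommSemiring S] [Algebra A S] (a b : S), W S (a * b) = W S a * W S b) →
      W A 1 = 1 → ∃ i, R = Polynomial.X ^ i := by
    intro R W hW hm h1
    refine monomial_of_mult R ?_ ?_
    · rw [hW, Polynomial.coe_aeval_eq_eval] at h1
      exact h1
    · have h2 := hm (Polynomial (Polynomial A)) (Polynomial.C Polynomial.X) Polynomial.X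
      rw [hW, hW, hW, Polynomial.aeval_def, Polynomial.aeval_def, Polynomial.aeval_def] at h2
      have h3 : algebraMap A (Polynomial (Polynomial A)) = (Polynomial.C).comp Polynomial.C := rfl
      rw [h3] at h2
      rw [h2]
      congr 1
      rw [← Polynomial.hom_eval₂ R Polynomial.C Polynomial.C Polynomial.X, Polynomial.eval₂_C_X]
  have h11 : V A 1 1 = 1 := by rw [hVdiag, one_pow]
  obtain ⟨d₁, hd₁⟩ := hmono P (fun S _ _ a => V S a 1) hPspec
    (fun S _ _ a b => by rw [← hVmul, mul_one]) h11
  obtain ⟨d₂, hd₂⟩ := hmono Q (fun S _ _ a => V S 1 a) hQspec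
    (fun S _ _ a b => by rw [← hVmul, mul_one]) h11
  haveI : Nontrivial A := by
    by_contra hn
    rw [not_nontrivial_iff_subsingleton] at hn
    obtain ⟨p⟩ : Nonempty (PrimeSpectrum A) := inferInstance
    exact p.isPrime.ne_top (Ideal.eq_top_of_isUnit_mem _ (zero_mem _) (isUnit_of_subsingleton 0))
  have hdeg : ∀ i j : ℕ, (Polynomial.X : Polynomial A) ^ i = Polynomial.X ^ j → i = j := fun i j hij => by
    simpa using congrArg Polynomial.natDegree hij
  refine ⟨d₁, d₂, hdeg _ _ ?_, ?_, fun e₁ e₂ G₁ G₂ hG => ?_⟩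
  · rw [pow_add, ← hd₁, ← hd₂, ← hVmul, mul_one, one_mul, hVdiag]
  · have hinl : ∀ (S : Type u) [CommSemiring S] [Algebra A S] (x y : S ⊗[A] B₁),
        ((LinearMap.inl A B₁ B₂).lTensor S x + (1 : S) ⊗ₜ[A] f) * ((LinearMap.inl A B₁ B₂).lTensor S y + (1 : S) ⊗ₜ[A] f) =
          (LinearMap.inl A B₁ B₂).lTensor S (x * y) + (1 : S) ⊗ₜ[A] f := by
      intro S _ _ x y
      have hz : ∀ x : S ⊗[A] B₁, (LinearMap.inl A B₁ B₂).lTensor S x * ((1 : S) ⊗ₜ[A] f) = 0 := by
        intro x
        induction x using TensorProduct.induction_on with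
        | zero => simp
        | tmul a b => simp [f, Algebra.TensorProduct.tmul_mul_tmul, Prod.mk_mul_mk, ← Prod.zero_eq_mk]
        | add x x' hx hx' => simp only [map_add, add_mul, hx, hx', add_zero]
      have hm : ∀ x y : S ⊗[A] B₁, (LinearMap.inl A B₁ B₂).lTensor S (x * y) =
          (LinearMap.inl A B₁ B₂).lTensor S x * (LinearMap.inl A B₁ B₂).lTensor S y := by
        intro x y
        induction x using TensorProduct.induction_on with
        | zero => simp
        | add x x' hx hx' => simp only [add_mul, map_add, hx, hx']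
        | tmul s b =>
          induction y using TensorProduct.induction_on with
          | zero => simp
          | add y y' hy hy' => simp only [mul_add, map_add, hy, hy']
          | tmul t c => simp
      rw [add_mul, mul_add, mul_add, hz, mul_comm ((1 : S) ⊗ₜ[A] f) ((LinearMap.inl A B₁ B₂).lTensor S y), hz,
        ← hm, Algebra.TensorProduct.tmul_mul_tmul, mul_one, add_zero, zero_add, show f * f = f by simp [f]]
    have hinr : ∀ (S : Type u) [CommSemiring S] [Algebra A S] (x y : S ⊗[A] B₂),
        ((LinearMap.inr A B₁ B₂).lTensor S x + (1 : S) ⊗ₜ[A] e) * ((LinearMap.inr A B₁ B₂).lTensor S y + (1 : S) ⊗ₜ[A] e) =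
          (LinearMap.inr A B₁ B₂).lTensor S (x * y) + (1 : S) ⊗ₜ[A] e := by
      intro S _ _ x y
      have hz : ∀ x : S ⊗[A] B₂, (LinearMap.inr A B₁ B₂).lTensor S x * ((1 : S) ⊗ₜ[A] e) = 0 := by
        intro x
        induction x using TensorProduct.induction_on with
        | zero => simp
        | tmul a b => simp [e, Algebra.TensorProduct.tmul_mul_tmul, Prod.mk_mul_mk, ← Prod.zero_eq_mk]
        | add x x' hx hx' => simp only [map_add, add_mul, hx, hx', add_zero]
      have hm : ∀ x y : S ⊗[A] B₂, (LinearMap.inr A B₁ B₂).lTensor S (x * y) =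
          (LinearMap.inr A B₁ B₂).lTensor S x * (LinearMap.inr A B₁ B₂).lTensor S y := by
        intro x y
        induction x using TensorProduct.induction_on with
        | zero => simp
        | add x x' hx hx' => simp only [add_mul, map_add, hx, hx']
        | tmul s b =>
          induction y using TensorProduct.induction_on with
          | zero => simp
          | add y y' hy hy' => simp only [mul_add, map_add, hy, hy']
          | tmul t c => simp
      rw [add_mul, mul_add, mul_add, hz, mul_comm ((1 : S) ⊗ₜ[A] e) ((LinearMap.inr A B₁ B₂).lTensor S y), hz,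
        ← hm, Algebra.TensorProduct.tmul_mul_tmul, mul_one, add_zero, zero_add, show e * e = e by simp [e]]
    let L₁ : B₁ →ₚₗ[A] A :=
      { toFun' := fun S _ _ x => F.law.toFun' S ((LinearMap.inl A B₁ B₂).lTensor S x + (1 : S) ⊗ₜ[A] f)
        isCompat' := fun {S} _ _ {S'} _ _ φ => by
          funext x
          simp only [Function.comp_apply]
          rw [PolynomialLaw.isCompat_apply', map_add, LinearMap.rTensor_tmul, AlgHom.toLinearMap_apply, map_one]
          congr 2
          rw [← LinearMap.comp_apply, ← LinearMap.comp_apply, LinearMap.lTensor_comp_rTensor, LinearMap.rTensor_comp_lTensor] }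
    let L₂ : B₂ →ₚₗ[A] A :=
      { toFun' := fun S _ _ x => F.law.toFun' S ((LinearMap.inr A B₁ B₂).lTensor S x + (1 : S) ⊗ₜ[A] e)
        isCompat' := fun {S} _ _ {S'} _ _ φ => by
          funext x
          simp only [Function.comp_apply]
          rw [PolynomialLaw.isCompat_apply', map_add, LinearMap.rTensor_tmul, AlgHom.toLinearMap_apply, map_one]
          congr 2
          rw [← LinearMap.comp_apply, ← LinearMap.comp_apply, LinearMap.lTensor_comp_rTensor, LinearMap.rTensor_comp_lTensor] }
    refine ⟨{ law := L₁, homog := ?_, mult := fun S _ _ => ⟨?_, fun x y => ?_⟩ },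
      { law := L₂, homog := ?_, mult := fun S _ _ => ⟨?_, fun x y => ?_⟩ }, fun S _ _ x => ?_⟩
    · intro S _ _ s x
      show F.law.toFun' S _ = s ^ d₁ • F.law.toFun' S _
      rw [show s • x = (s ⊗ₜ[A] (1 : B₁)) * x from Algebra.smul_def (R := S) s x, ← hinl, (F.mult S).2,
        LinearMap.lTensor_tmul, show LinearMap.inl A B₁ B₂ 1 = e from rfl,
        hrid (F.law.toFun' S (s ⊗ₜ[A] e + (1 : S) ⊗ₜ[A] f))]
      show (V S s 1 ⊗ₜ[A] (1 : A)) * _ = _
      rw [hPspec, hd₁, map_pow, Polynomial.aeval_X]
      exact (Algebra.smul_def (R := S) (A := S ⊗[A] A) _ _).symm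
    · show F.law.toFun' S _ = 1
      rw [Algebra.TensorProduct.one_def, LinearMap.lTensor_tmul, ← TensorProduct.tmul_add,
        show LinearMap.inl A B₁ B₂ 1 + f = 1 by simp [f, Prod.one_eq_mk], ← Algebra.TensorProduct.one_def]
      exact (F.mult S).1
    · show F.law.toFun' S _ = F.law.toFun' S _ * F.law.toFun' S _
      rw [← hinl, (F.mult S).2]
    · intro S _ _ s x
      show F.law.toFun' S _ = s ^ d₂ • F.law.toFun' S _
      rw [show s • x = (s ⊗ₜ[A] (1 : B₂)) * x from Algebra.smul_def (R := S) s x, ← hinr, (F.mult S).2,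
        LinearMap.lTensor_tmul, show LinearMap.inr A B₁ B₂ 1 = f from rfl, add_comm (s ⊗ₜ[A] f),
        hrid (F.law.toFun' S ((1 : S) ⊗ₜ[A] e + s ⊗ₜ[A] f))]
      show (V S 1 s ⊗ₜ[A] (1 : A)) * _ = _
      rw [hQspec, hd₂, map_pow, Polynomial.aeval_X]
      exact (Algebra.smul_def (R := S) (A := S ⊗[A] A) _ _).symm
    · show F.law.toFun' S _ = 1
      rw [Algebra.TensorProduct.one_def, LinearMap.lTensor_tmul, ← TensorProduct.tmul_add,
        show LinearMap.inr A B₁ B₂ 1 + e = 1 by simp [e, Prod.one_eq_mk], ← Algebra.TensorProduct.one_def]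
      exact (F.mult S).1
    · show F.law.toFun' S _ = F.law.toFun' S _ * F.law.toFun' S _
      rw [← hinr, (F.mult S).2]
    · show _ = F.law.toFun' S _ * F.law.toFun' S _
      rw [← (F.mult S).2]
      congr 1
      have key : ∀ (u : S ⊗[A] (B₁ × B₂)), u = (LinearMap.inl A B₁ B₂).lTensor S ((LinearMap.fst A B₁ B₂).lTensor S u) +
          (LinearMap.inr A B₁ B₂).lTensor S ((LinearMap.snd A B₁ B₂).lTensor S u) := by
        intro u
        induction u using TensorProduct.induction_on with
        | zero => simp
        | tmul a b => simp [← TensorProduct.tmul_add]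
        | add u u' hu hu' =>
          conv_lhs => rw [hu, hu']
          simp only [map_add]
          abel
      have hcross : ∀ (y : S ⊗[A] B₁) (z : S ⊗[A] B₂),
          (LinearMap.inl A B₁ B₂).lTensor S y * (LinearMap.inr A B₁ B₂).lTensor S z = 0 ∧
          (LinearMap.inl A B₁ B₂).lTensor S y * ((1 : S) ⊗ₜ[A] e) = (LinearMap.inl A B₁ B₂).lTensor S y ∧
          ((1 : S) ⊗ₜ[A] f) * (LinearMap.inr A B₁ B₂).lTensor S z = (LinearMap.inr A B₁ B₂).lTensor S z := by
        intro y z
        refine ⟨?_, ?_, ?_⟩
        · induction y using TensorProduct.induction_on with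
          | zero => simp
          | add y y' hy hy' => simp only [map_add, add_mul, hy, hy', add_zero]
          | tmul a b =>
            induction z using TensorProduct.induction_on with
            | zero => simp
            | add z z' hz hz' => simp only [map_add, mul_add, hz, hz', add_zero]
            | tmul a' b' => simp [Prod.mk_mul_mk, ← Prod.zero_eq_mk]
        · induction y using TensorProduct.induction_on with
          | zero => simp
          | add y y' hy hy' => simp only [map_add, add_mul, hy, hy']
          | tmul a b => simp [e, Prod.mk_mul_mk]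
        · induction z using TensorProduct.induction_on with
          | zero => simp
          | add z z' hz hz' => simp only [map_add, mul_add, hz, hz']
          | tmul a b => simp [f, Prod.mk_mul_mk]
      obtain ⟨h1, h2, h3⟩ := hcross ((LinearMap.fst A B₁ B₂).lTensor S x) ((LinearMap.snd A B₁ B₂).lTensor S x)
      rw [add_mul, mul_add, mul_add, h1, h2, h3, Algebra.TensorProduct.tmul_mul_tmul,
        show f * e = 0 by simp [f, e, ← Prod.zero_eq_mk], TensorProduct.tmul_zero, add_zero, zero_add]
      exact key x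
  · have key : ∀ (S : Type u) [CommSemiring S] [Algebra A S] (a b : S), V S a b = a ^ e₁ * b ^ e₂ := by
      intro S _ _ a b
      simp only [V]
      rw [hG, hrmul, map_add, map_add, LinearMap.lTensor_tmul, LinearMap.lTensor_tmul, LinearMap.lTensor_tmul,
        LinearMap.lTensor_tmul]
      have h₁ : a ⊗ₜ[A] (LinearMap.fst A B₁ B₂ e) + b ⊗ₜ[A] (LinearMap.fst A B₁ B₂ f) = a • (1 : S ⊗[A] B₁) := by
        rw [Algebra.TensorProduct.one_def, TensorProduct.smul_tmul', smul_eq_mul, mul_one]
        simp [e, f]
      have h₂ : a ⊗ₜ[A] (LinearMap.snd A B₁ B₂ e) + b ⊗ₜ[A] (LinearMap.snd A B₁ B₂ f) = b • (1 : S ⊗[A] B₂) := by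
        rw [Algebra.TensorProduct.one_def, TensorProduct.smul_tmul', smul_eq_mul, mul_one]
        simp [e, f]
      rw [h₁, h₂, G₁.homog, G₂.homog, (G₁.mult S).1, (G₂.mult S).1, Algebra.TensorProduct.one_def,
        TensorProduct.smul_tmul', TensorProduct.smul_tmul', smul_eq_mul, smul_eq_mul, mul_one, mul_one]
      simp
    constructor
    · refine hdeg _ _ ?_
      rw [← hd₁]
      simp [P, key]
    · refine hdeg _ _ ?_
      rw [← hd₂]
      simp [Q, key]

end Groth.Agent.S13719
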