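import Groth.Statements.S13720
import Groth.Agent.Lib.H7CycFib

set_option autoImplicit false
universe u
open scoped TensorProduct
open ZeroCyc

namespace Groth.Agent.S13720

/-- Let B be the filtered direct limit of a directed system (B_i, t_ij : B_i → B_j) of commutative
algebras over the commutative ring A, with structure maps φ_i : B_i → B (jointly surjective, and an
element of B_i vanishing in B already vanishes in some B_j), and let F : B → C be a multiplicative
polynomial law homogeneous of degree d, with restrictions F_i = F ∘ φ_i. Then an element b of B lies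
in the kernel of F if and only if it is the image of some x ∈ B_i whose images in B_j lie in the
kernel of F_j for every j ≥ i; that is, the kernel of F is the direct limit of the kernels of the
F_i. -/
theorem result {A : Type u} [CommRing A] {B : Type u} [CommRing B] [Algebra A B]
    {C : Type u} [CommRing C] [Algebra A C] {ι : Type u} [Preorder ι] [IsDirected ι (fun i j => i ≤ j)] [Nonempty ι]
    (Bi : ι → Type u) [∀ i, CommRing (Bi i)] [∀ i, Algebra A (Bi i)]
    (t : ∀ i j : ι, i ≤ j → (Bi i →ₐ[A] Bi j)) (φ : ∀ i : ι, Bi i →ₐ[A] B)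
    (hcomp : ∀ (i j : ι) (h : i ≤ j), (φ j).comp (t i j h) = φ i)
    (hsurj : ∀ b : B, ∃ (i : ι) (x : Bi i), φ i x = b)
    (hzero : ∀ (i : ι) (x : Bi i), φ i x = 0 → ∃ (j : ι) (h : i ≤ j), t i j h x = 0)
    {d : ℕ} (F : PolLaw.MulLaw A B C d) (b : B) :
    b ∈ PolLaw.ker F.law ↔ ∃ (i : ι) (x : Bi i), φ i x = b ∧
      ∀ (j : ι) (h : i ≤ j), t i j h x ∈ PolLaw.ker (F.precomp (φ j)).law := by
  constructor
  · intro hb
    obtain ⟨i, x, rfl⟩ := hsurj b
    refine ⟨i, x, rfl, fun j h S _ _ y w => ?_⟩
    show F.law.toFun' S ((φ j).toLinearMap.lTensor S _) = F.law.toFun' S ((φ j).toLinearMap.lTensor S _)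
    simp only [PolLaw.lTensor_algHom_apply, map_add, map_mul, Algebra.TensorProduct.map_tmul, AlgHom.id_apply]
    rw [← AlgHom.comp_apply, hcomp i j h]
    exact hb S _ _
  · rintro ⟨i, x, rfl, hx⟩ S _ _ y w
    have key : ∀ y : S ⊗[A] B, ∃ (j : ι) (y' : S ⊗[A] Bi j), i ≤ j ∧ (φ j).toLinearMap.lTensor S y' = y := by
      intro y
      induction y using TensorProduct.induction_on with
      | zero => exact ⟨i, 0, le_rfl, map_zero _⟩
      | tmul s b =>
        obtain ⟨k, z, rfl⟩ := hsurj b
        obtain ⟨j, hij, hkj⟩ := directed_of (· ≤ ·) i k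
        exact ⟨j, s ⊗ₜ[A] t k j hkj z, hij, by rw [LinearMap.lTensor_tmul]; exact congrArg _ (AlgHom.congr_fun (hcomp k j hkj) z)⟩
      | add y y' hy hy' =>
        obtain ⟨j, z, hij, rfl⟩ := hy
        obtain ⟨j', z', hij', rfl⟩ := hy'
        obtain ⟨k, hjk, hj'k⟩ := directed_of (· ≤ ·) j j'
        refine ⟨k, (t j k hjk).toLinearMap.lTensor S z + (t j' k hj'k).toLinearMap.lTensor S z', hij.trans hjk, ?_⟩
        rw [map_add, ← LinearMap.lTensor_comp_apply, ← LinearMap.lTensor_comp_apply, ← AlgHom.comp_toLinearMap,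
          ← AlgHom.comp_toLinearMap, hcomp, hcomp]
    obtain ⟨j, y', hij, rfl⟩ := key y
    obtain ⟨j', w', hij', rfl⟩ := key w
    obtain ⟨k, hjk, hj'k⟩ := directed_of (· ≤ ·) j j'
    have h := hx k (hij.trans hjk) S ((t j k hjk).toLinearMap.lTensor S y') ((t j' k hj'k).toLinearMap.lTensor S w')
    change F.law.toFun' S ((φ k).toLinearMap.lTensor S _) = F.law.toFun' S ((φ k).toLinearMap.lTensor S _) at h
    have hc : ∀ (l : ι) (hl : l ≤ k) (z : S ⊗[A] Bi l),
        (φ k).toLinearMap.lTensor S ((t l k hl).toLinearMap.lTensor S z) = (φ l).toLinearMap.lTensor S z := by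
      intro l hl z
      rw [← LinearMap.lTensor_comp_apply, ← AlgHom.comp_toLinearMap, hcomp]
    have hm : ∀ u v : S ⊗[A] Bi k, (φ k).toLinearMap.lTensor S (u * v) =
        (φ k).toLinearMap.lTensor S u * (φ k).toLinearMap.lTensor S v := by
      intro u v
      simp only [PolLaw.lTensor_algHom_apply, map_mul]
    rw [map_add, hm, hc, hc, LinearMap.lTensor_tmul, AlgHom.toLinearMap_apply, ← AlgHom.comp_apply, hcomp] at h
    exact h

end Groth.Agent.S13720
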