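import Groth.Statements.S13721
import Groth.Agent.Lib.H7CycGen

set_option autoImplicit false
universe u
open scoped TensorProduct
open ZeroCyc

namespace Groth.Agent.S13721

/-- Let F : B → A be a multiplicative polynomial law homogeneous of degree d over the commutative ring
A, on a commutative A-algebra B which is finite as an A-module, and let A' be the filtered direct
limit of a directed system (A'_i, t_ij) of commutative A-algebras (t_ii the identity, t_jk ∘ t_ij =
t_ik) with structure maps φ_i : A'_i → A' (compatible with the t_ij, jointly surjective, and an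
element of A'_i vanishing in A' already vanishes in some A'_j). Then the kernel of the base change
of F to A', an ideal of A' ⊗_A B, is the supremum over i of the extensions along φ_i ⊗ B of the
kernels of the base changes of F to the A'_i: the kernel of the base-changed law is the direct limit
of the kernels. (The published statement has no finiteness hypothesis on B and is false without one:
for a suitable algebra B that is not finitely generated and a suitable directed system of quotients
of A, an element of A' ⊗_A B lies in the kernel over the limit although it comes from the kernel at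
no finite stage, because the conditions cutting out the kernel at an element are infinitely many and
die one at a time along the system; the published proof's reduction to finite B does not go through.
This row assumes B finite over A, the case that proof establishes.) -/
theorem result {A : Type u} [CommRing A] {B : Type u} [CommRing B] [Algebra A B]
    [Module.Finite A B] {A' : Type u} [CommRing A'] [Algebra A A'] {ι : Type u} [Preorder ι] [IsDirected ι (fun i j => i ≤ j)] [Nonempty ι]
    (Ai : ι → Type u) [∀ i, CommRing (Ai i)] [∀ i, Algebra A (Ai i)]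
    (t : ∀ i j : ι, i ≤ j → (Ai i →ₐ[A] Ai j)) (φ : ∀ i : ι, Ai i →ₐ[A] A')
    (hcomp : ∀ (i j : ι) (h : i ≤ j), (φ j).comp (t i j h) = φ i)
    (hsurj : ∀ a : A', ∃ (i : ι) (x : Ai i), φ i x = a)
    (hzero : ∀ (i : ι) (x : Ai i), φ i x = 0 → ∃ (j : ι) (h : i ≤ j), t i j h x = 0)
    (hid : ∀ (i : ι) (h : i ≤ i), t i i h = AlgHom.id A (Ai i))
    (htrans : ∀ (i j k : ι) (hij : i ≤ j) (hjk : j ≤ k), (t j k hjk).comp (t i j hij) = t i k (hij.trans hjk))
    {d : ℕ} (F : PolLaw.MulLaw A B A d) :
    PolLaw.kerBC F.law A' =
      ⨆ i : ι, (PolLaw.kerBC F.law (Ai i)).map (Algebra.TensorProduct.map (φ i) (AlgHom.id A B)) := by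
  classical
  open Groth.Agent in
  refine le_antisymm (fun z hz => ?_) (iSup_le fun i => ?_)
  · obtain ⟨n, q, hq⟩ := Module.Finite.exists_fin (R := A) (M := B)
    obtain ⟨i, zi, rfl⟩ : ∃ (i : ι) (zi : Ai i ⊗[A] B), Algebra.TensorProduct.map (φ i) (AlgHom.id A B) zi = z := by
      clear hz
      induction z using TensorProduct.induction_on with
      | zero => exact ⟨Classical.arbitrary ι, 0, map_zero _⟩
      | tmul a b =>
        obtain ⟨i, x, rfl⟩ := hsurj a
        exact ⟨i, x ⊗ₜ[A] b, by simp⟩
      | add z z' hz hz' =>
        obtain ⟨i, x, rfl⟩ := hz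
        obtain ⟨j, y, rfl⟩ := hz'
        obtain ⟨k, hik, hjk⟩ := directed_of (· ≤ ·) i j
        refine ⟨k, Algebra.TensorProduct.map (t i k hik) (AlgHom.id A B) x + Algebra.TensorProduct.map (t j k hjk) (AlgHom.id A B) y, ?_⟩
        rw [map_add, ← AlgHom.comp_apply, ← AlgHom.comp_apply, ← Algebra.TensorProduct.map_comp,
          ← Algebra.TensorProduct.map_comp, hcomp, hcomp, AlgHom.id_comp]
    let p := H7Cyc.genVal F q (Ai i) zi
    have hj : ∀ s : Finset ((Fin n ⊕ Fin n) →₀ ℕ), ∃ (j : ι) (h : i ≤ j), ∀ k ∈ s, H7Cyc.wdeg k ≠ 0 → t i j h (p.coeff k) = 0 := by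
      intro s
      induction s using Finset.induction_on with
      | empty => exact ⟨i, le_rfl, by simp⟩
      | @insert k s _ ih =>
        obtain ⟨j, hij, hj⟩ := ih
        by_cases hk : H7Cyc.wdeg k = 0
        · exact ⟨j, hij, fun k' hk' hw => by
            rcases Finset.mem_insert.mp hk' with rfl | h
            · exact absurd hk hw
            · exact hj k' h hw⟩
        have h1 := (H7Cyc.mem_kerBC_iff F q hq _).mp hz k hk
        rw [H7Cyc.coeff_genVal_map, ← hcomp i j hij, AlgHom.comp_apply] at h1
        obtain ⟨l, hjl, hl⟩ := hzero j _ h1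
        refine ⟨l, hij.trans hjl, fun k' hk' hw => ?_⟩
        rw [← htrans i j l hij hjl, AlgHom.comp_apply]
        rcases Finset.mem_insert.mp hk' with rfl | h
        · exact hl
        · rw [hj k' h hw, map_zero]
    obtain ⟨j, hij, hj⟩ := hj p.support
    have hzj : Algebra.TensorProduct.map (t i j hij) (AlgHom.id A B) zi ∈ PolLaw.kerBC F.law (Ai j) := by
      rw [H7Cyc.mem_kerBC_iff F q hq]
      intro k hk
      rw [H7Cyc.coeff_genVal_map]
      by_cases hs : k ∈ p.support
      · exact hj k hs hk
      · rw [MvPolynomial.notMem_support_iff.mp hs, map_zero]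
    have hm := Ideal.mem_map_of_mem (Algebra.TensorProduct.map (φ j) (AlgHom.id A B)) hzj
    rw [← AlgHom.comp_apply, ← Algebra.TensorProduct.map_comp, hcomp, AlgHom.id_comp] at hm
    exact le_iSup (fun i => (PolLaw.kerBC F.law (Ai i)).map (Algebra.TensorProduct.map (φ i) (AlgHom.id A B))) j hm
  · rw [Ideal.map_le_iff_le_comap]
    intro z hz R _ _ _ _ x w
    letI : Algebra (Ai i) R := ((algebraMap A' R).comp (φ i).toRingHom).toAlgebra
    haveI : IsScalarTower A (Ai i) R := IsScalarTower.of_algebraMap_eq fun a => by
      show _ = algebraMap A' R (φ i (algebraMap A (Ai i) a))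
      rw [(φ i).commutes, ← IsScalarTower.algebraMap_apply]
    rw [← AlgHom.comp_apply, ← Algebra.TensorProduct.map_comp, AlgHom.id_comp]
    have h := hz R x w
    rwa [show IsScalarTower.toAlgHom A (Ai i) R = (IsScalarTower.toAlgHom A A' R).comp (φ i) from
      AlgHom.ext fun a => rfl] at h

end Groth.Agent.S13721
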