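import Groth.Statements.S13723
import Groth.Agent.Lib.H7CycFib

set_option autoImplicit false
universe u
open scoped TensorProduct
open ZeroCyc

namespace Groth.Agent.S13723

/-- Let F : B → A be a multiplicative polynomial law homogeneous of degree d over the commutative ring A
and let Z = Spec(B/ker F) be the image of the family of zero-cycles it defines. For every field K
and ring map A → K, the fibre Spec(K ⊗_A (B/ker F)) has finitely many points, at most d of them. In
particular every geometric fibre of Z → Spec A has at most d points and Z → Spec A has universally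
topologically finite fibres. -/
theorem result {A : Type u} [CommRing A] {B : Type u} [CommRing B] [Algebra A B]
    {d : ℕ} (F : PolLaw.MulLaw A B A d) (K : Type u) [Field K] [Algebra A K] :
    Finite (PrimeSpectrum (K ⊗[A] PolLaw.image F.law)) ∧
      Nat.card (PrimeSpectrum (K ⊗[A] PolLaw.image F.law)) ≤ d := by
  have hall : ∀ Q : PrimeSpectrum (K ⊗[A] PolLaw.image F.law),
      Q ∈ PrimeSpectrum.comap (algebraMap K (K ⊗[A] PolLaw.image F.law)) ⁻¹' {(default : PrimeSpectrum K)} :=
    fun Q => Subsingleton.elim _ _
  have h := Groth.Agent.H7Cyc.fibre_encard F K (default : PrimeSpectrum K)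
  rw [Set.eq_univ_of_forall hall, Set.encard_univ] at h
  haveI hf : Finite (PrimeSpectrum (K ⊗[A] PolLaw.image F.law)) := by
    rw [← ENat.card_lt_top]
    exact lt_of_le_of_lt h (ENat.coe_lt_top d)
  refine ⟨hf, ?_⟩
  rw [ENat.card_eq_coe_natCard] at h
  exact_mod_cast h

end Groth.Agent.S13723
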