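import Groth.Statements.S13725
import Groth.Agent.Lib.H7CycPoints

set_option autoImplicit false
universe u
open scoped TensorProduct
open ZeroCyc

namespace Groth.Agent.S13725

/-- Let k be a field of characteristic p > 0 and let F : k → k be the law x ↦ x^p, multiplicative and
homogeneous of degree p over k. The kernel of F is the zero ideal, but after the flat base change k
→ A' = k[X]/(X^p) the kernel of the base-changed law on A' ⊗_k k is not zero (the class of X lies in
it). So in characteristic p, forming the kernel of a multiplicative law is not compatible with flat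
base change. -/
theorem result {k : Type u} [Field k] (p : ℕ) [Fact p.Prime] [CharP k p] :
    PolLaw.ker (PolLaw.MulLaw.pow k k p).law = ⊥ ∧
      PolLaw.kerBC (PolLaw.MulLaw.pow k k p).law (AdjoinRoot ((Polynomial.X : Polynomial k) ^ p)) ≠ ⊥ := by
  have hp : p ≠ 0 := (Fact.out : p.Prime).ne_zero
  refine ⟨?_, ?_⟩
  · rw [eq_bot_iff]
    intro b hb
    have h := hb k 0 1
    change ((0 : k ⊗[k] k) + 1 * ((1 : k) ⊗ₜ[k] b)) ^ p = (0 : k ⊗[k] k) ^ p at h
    rw [zero_add, one_mul, zero_pow hp, Algebra.TensorProduct.tmul_pow, one_pow] at h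
    have h2 := congrArg (TensorProduct.lid k k) h
    rw [TensorProduct.lid_tmul, one_smul, map_zero] at h2
    exact (Submodule.mem_bot k).mpr (eq_zero_of_pow_eq_zero h2)
  · intro hbot
    let A' := AdjoinRoot ((Polynomial.X : Polynomial k) ^ p)
    have hmem : (AdjoinRoot.root ((Polynomial.X : Polynomial k) ^ p)) ⊗ₜ[k] (1 : k) ∈
        PolLaw.kerBC (PolLaw.MulLaw.pow k k p).law A' := by
      intro R _ _ _ _ x w
      show (x + w * _) ^ p = x ^ p
      rw [Algebra.TensorProduct.map_tmul]
      generalize hu : ((IsScalarTower.toAlgHom k A' R (AdjoinRoot.root ((Polynomial.X : Polynomial k) ^ p))) ⊗ₜ[k]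
        (AlgHom.id k k) (1 : k) : R ⊗[k] k) = u
      have hu0 : u ^ p = 0 := by
        rw [← hu, Algebra.TensorProduct.tmul_pow, ← map_pow]
        have : (AdjoinRoot.root ((Polynomial.X : Polynomial k) ^ p)) ^ p = 0 := by
          have h1 := AdjoinRoot.mk_self (f := (Polynomial.X : Polynomial k) ^ p)
          rwa [map_pow, AdjoinRoot.mk_X] at h1
        rw [this, map_zero, TensorProduct.zero_tmul]
      have hp0 : ((p : ℕ) : R ⊗[k] k) = 0 := by
        rw [← map_natCast (algebraMap k (R ⊗[k] k)), CharP.cast_eq_zero, map_zero]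
      obtain ⟨r, hr⟩ := exists_add_pow_prime_eq (Fact.out : p.Prime) x (w * u)
      rw [hr, mul_pow, hu0, mul_zero, add_zero, hp0]
      simp
    rw [hbot, Submodule.mem_bot] at hmem
    have h2 := congrArg (TensorProduct.rid k A') hmem
    rw [TensorProduct.rid_tmul, one_smul, map_zero] at h2
    have h3 : (Polynomial.X : Polynomial k) ^ p ∣ Polynomial.X := AdjoinRoot.mk_eq_zero.mp (by rw [AdjoinRoot.mk_X]; exact h2)
    have h4 := Polynomial.natDegree_le_of_dvd h3 Polynomial.X_ne_zero
    rw [Polynomial.natDegree_X_pow, Polynomial.natDegree_X] at h4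
    exact absurd h4 (not_le.mpr (Fact.out : p.Prime).one_lt)

end Groth.Agent.S13725
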