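import Groth.Statements.S13728
import Mathlib

set_option autoImplicit false
universe u
open scoped TensorProduct
open ZeroCyc

namespace Groth.Agent.S13728

open scoped TensorProduct in
theorem tensorPower_colim {A : Type u} [CommRing A] {B : Type u} [AddCommGroup B] [Module A B]
    {ι : Type u} [Preorder ι] [IsDirected ι (fun i j => i ≤ j)] [Nonempty ι]
    (Bi : ι → Type u) [∀ i, AddCommGroup (Bi i)] [∀ i, Module A (Bi i)]
    (t : ∀ i j : ι, i ≤ j → (Bi i →ₗ[A] Bi j)) (φ : ∀ i : ι, Bi i →ₗ[A] B)
    (hcomp : ∀ (i j : ι) (h : i ≤ j) x, φ j (t i j h x) = φ i x)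
    (hsurj : ∀ b : B, ∃ (i : ι) (x : Bi i), φ i x = b)
    (hzero : ∀ (i : ι) (x : Bi i), φ i x = 0 → ∃ (j : ι) (h : i ≤ j), t i j h x = 0)
    (hid : ∀ (i : ι) (h : i ≤ i), t i i h = LinearMap.id)
    (htrans : ∀ (i j k : ι) (hij : i ≤ j) (hjk : j ≤ k), (t j k hjk).comp (t i j hij) = t i k (hij.trans hjk)) (d : ℕ) :
    (∀ z : ⨂[A] _ : Fin d, B, ∃ (i : ι) (y : ⨂[A] _ : Fin d, Bi i), PiTensorProduct.map (fun _ => φ i) y = z) ∧
    ∀ (i : ι) (y : ⨂[A] _ : Fin d, Bi i), PiTensorProduct.map (fun _ => φ i) y = 0 →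
      ∃ (j : ι) (h : i ≤ j), PiTensorProduct.map (fun _ => t i j h) y = 0 := by
  classical
  have hup : ∀ (s : Finset ι), ∃ k, ∀ i ∈ s, i ≤ k := Finset.exists_le
  have hlift : ∀ g : Fin d → B, ∃ (i : ι) (x : Fin d → Bi i), ∀ l, φ i (x l) = g l := by
    intro g
    choose i x hx using fun l => hsurj (g l)
    obtain ⟨k, hk⟩ := hup (Finset.univ.image i)
    exact ⟨k, fun l => t (i l) k (hk _ (Finset.mem_image_of_mem i (Finset.mem_univ l))) (x l),
      fun l => by rw [hcomp, hx]⟩
  have heq : ∀ (i : ι) (x x' : Fin d → Bi i), (∀ l, φ i (x l) = φ i (x' l)) →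
      ∃ (k : ι) (h : i ≤ k), ∀ l, t i k h (x l) = t i k h (x' l) := by
    intro i x x' h
    choose j hj hj0 using fun l => hzero i (x l - x' l) (by rw [map_sub, h, sub_self])
    obtain ⟨k, hk⟩ := hup (insert i (Finset.univ.image j))
    refine ⟨k, hk i (Finset.mem_insert_self _ _), fun l => ?_⟩
    rw [← sub_eq_zero, ← map_sub, ← htrans i (j l) k (hj l)
      (hk _ (Finset.mem_insert_of_mem (Finset.mem_image_of_mem j (Finset.mem_univ l)))),
      LinearMap.comp_apply, hj0, map_zero]
  let G : ι → Type u := fun i => ⨂[A] _ : Fin d, Bi i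
  let T : ∀ i j, i ≤ j → G i →ₗ[A] G j := fun i j h => PiTensorProduct.map fun _ => t i j h
  have hdir : DirectedSystem G (fun i j h => T i j h) :=
    { map_self := fun i x => by
        show PiTensorProduct.map (fun _ => t i i le_rfl) x = x
        rw [hid, PiTensorProduct.map_id, LinearMap.id_apply]
      map_map := fun k j i hij hjk x => by
        simp only [T]
        rw [← LinearMap.comp_apply, ← PiTensorProduct.map_comp]
        simp only [htrans] }
  let q : ∀ i, (Fin d → Bi i) → Module.DirectLimit G T :=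
    fun i x => Module.DirectLimit.of A ι G T i (PiTensorProduct.tprod A x)
  have hq : ∀ (i j : ι) (h : i ≤ j) (x : Fin d → Bi i), q j (fun l => t i j h (x l)) = q i x := by
    intro i j h x
    simp only [q]
    rw [← PiTensorProduct.map_tprod (fun _ => t i j h) x]
    exact Module.DirectLimit.of_f (hij := h)
  have hwd : ∀ (i i' : ι) (x : Fin d → Bi i) (x' : Fin d → Bi i'), (∀ l, φ i (x l) = φ i' (x' l)) → q i x = q i' x' := by
    intro i i' x x' h
    obtain ⟨k, hik, hi'k⟩ := exists_ge_ge i i'
    obtain ⟨m, hkm, hm⟩ := heq k (fun l => t i k hik (x l)) (fun l => t i' k hi'k (x' l))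
      (fun l => by rw [hcomp, hcomp, h])
    rw [← hq i k hik x, ← hq i' k hi'k x', ← hq k m hkm, ← hq k m hkm]
    exact congrArg (q m) (funext hm)
  choose ii xx hxx using hlift
  have hval : ∀ (g : Fin d → B) (i : ι) (x : Fin d → Bi i), (∀ l, φ i (x l) = g l) → q (ii g) (xx g) = q i x :=
    fun g i x h => hwd _ _ _ _ fun l => (hxx g l).trans (h l).symm
  let Ψ : MultilinearMap A (fun _ : Fin d => B) (Module.DirectLimit G T) :=
    { toFun := fun g => q (ii g) (xx g)
      map_update_add' := fun {inst} g l a b => by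
        obtain rfl : inst = instDecidableEqFin d := Subsingleton.elim _ _
        obtain ⟨ia, a', rfl⟩ := hsurj a
        obtain ⟨ib, b', rfl⟩ := hsurj b
        obtain ⟨k, hk⟩ := hup {ia, ib, ii g}
        let x := fun m => t (ii g) k (hk _ (by simp)) (xx g m)
        let a₁ := t ia k (hk _ (by simp)) a'
        let b₁ := t ib k (hk _ (by simp)) b'
        have hx : ∀ (c : Bi k) m, φ k (Function.update x l c m) = Function.update g l (φ k c) m := by
          intro c m
          by_cases hm : m = l
          · subst hm; simp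
          · simp [hm, x, hcomp, hxx]
        rw [hval _ k (Function.update x l (a₁ + b₁)) (fun m => by rw [hx]; simp [a₁, b₁, hcomp]),
          hval _ k (Function.update x l a₁) (fun m => by rw [hx]; simp [a₁, hcomp]),
          hval _ k (Function.update x l b₁) (fun m => by rw [hx]; simp [b₁, hcomp])]
        simp [q]
      map_update_smul' := fun {inst} g l r a => by
        obtain rfl : inst = instDecidableEqFin d := Subsingleton.elim _ _
        obtain ⟨ia, a', rfl⟩ := hsurj a
        obtain ⟨k, hk⟩ := hup {ia, ii g}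
        let x := fun m => t (ii g) k (hk _ (by simp)) (xx g m)
        let a₁ := t ia k (hk _ (by simp)) a'
        have hx : ∀ (c : Bi k) m, φ k (Function.update x l c m) = Function.update g l (φ k c) m := by
          intro c m
          by_cases hm : m = l
          · subst hm; simp
          · simp [hm, x, hcomp, hxx]
        rw [hval _ k (Function.update x l (r • a₁)) (fun m => by rw [hx]; simp [a₁, hcomp]),
          hval _ k (Function.update x l a₁) (fun m => by rw [hx]; simp [a₁, hcomp])]
        simp [q] }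
  refine ⟨fun z => ?_, fun i y hy => ?_⟩
  · induction z using PiTensorProduct.induction_on with
    | smul_tprod r g =>
      refine ⟨ii g, r • PiTensorProduct.tprod A (xx g), ?_⟩
      rw [map_smul, PiTensorProduct.map_tprod]
      exact congrArg _ (congrArg _ (funext (hxx g)))
    | add a b ha hb =>
      obtain ⟨i, y, rfl⟩ := ha
      obtain ⟨j, y', rfl⟩ := hb
      obtain ⟨k, hik, hjk⟩ := exists_ge_ge i j
      refine ⟨k, PiTensorProduct.map (fun _ => t i k hik) y + PiTensorProduct.map (fun _ => t j k hjk) y', ?_⟩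
      rw [map_add, ← LinearMap.comp_apply, ← LinearMap.comp_apply, ← PiTensorProduct.map_comp,
        ← PiTensorProduct.map_comp, show (φ k).comp (t i k hik) = φ i from LinearMap.ext (hcomp i k hik),
        show (φ k).comp (t j k hjk) = φ j from LinearMap.ext (hcomp j k hjk)]
  · have hL : (PiTensorProduct.lift Ψ).comp (PiTensorProduct.map fun _ => φ i) = Module.DirectLimit.of A ι G T i := by
      refine PiTensorProduct.ext (MultilinearMap.ext fun x => ?_)
      simp only [LinearMap.compMultilinearMap_apply, LinearMap.comp_apply, PiTensorProduct.map_tprod,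
        PiTensorProduct.lift.tprod]
      exact hval _ i x (fun l => rfl)
    have h0 : Module.DirectLimit.of A ι G T i y = 0 := by rw [← hL, LinearMap.comp_apply, hy, map_zero]
    exact Module.DirectLimit.of.zero_exact h0


/-- The functor B ↦ TS^d_A(B) (symmetric tensors of degree d, the invariants of the symmetric group in
the d-fold tensor power) commutes with filtered direct limits. Concretely, let B be the direct limit
of a directed system (B_i, t_ij : B_i → B_j) of commutative algebras over the commutative ring A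
(t_ii the identity, t_jk ∘ t_ij = t_ik) with structure maps φ_i : B_i → B (compatible with the t_ij,
jointly surjective, and an element of B_i vanishing in B vanishes in some B_j). Then every element
of TS^d_A(B) is the image of an element of some TS^d_A(B_i), and an element of TS^d_A(B_i) whose
image in TS^d_A(B) is zero has image zero in TS^d_A(B_j) for some j ≥ i. -/
theorem result {A : Type u} [CommRing A] {B : Type u} [CommRing B] [Algebra A B]
    {ι : Type u} [Preorder ι] [IsDirected ι (fun i j => i ≤ j)] [Nonempty ι]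
    (Bi : ι → Type u) [∀ i, CommRing (Bi i)] [∀ i, Algebra A (Bi i)]
    (t : ∀ i j : ι, i ≤ j → (Bi i →ₐ[A] Bi j)) (φ : ∀ i : ι, Bi i →ₐ[A] B)
    (hcomp : ∀ (i j : ι) (h : i ≤ j), (φ j).comp (t i j h) = φ i)
    (hsurj : ∀ b : B, ∃ (i : ι) (x : Bi i), φ i x = b)
    (hzero : ∀ (i : ι) (x : Bi i), φ i x = 0 → ∃ (j : ι) (h : i ≤ j), t i j h x = 0)
    (hid : ∀ (i : ι) (h : i ≤ i), t i i h = AlgHom.id A (Bi i))
    (htrans : ∀ (i j k : ι) (hij : i ≤ j) (hjk : j ≤ k), (t j k hjk).comp (t i j hij) = t i k (hij.trans hjk)) (d : ℕ) :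
    (∀ z : SymTen.TS A B d, ∃ (i : ι) (y : SymTen.TS A (Bi i) d), SymTen.TSmap A d (φ i) y = z) ∧
      ∀ (i : ι) (y : SymTen.TS A (Bi i) d), SymTen.TSmap A d (φ i) y = 0 →
        ∃ (j : ι) (h : i ≤ j), SymTen.TSmap A d (t i j h) y = 0 := by
  classical
  have htm : ∀ {B₁ B₂ : Type u} [CommRing B₁] [Algebra A B₁] [CommRing B₂] [Algebra A B₂] (f : B₁ →ₐ[A] B₂)
      (z : ⨂[A] _ : Fin d, B₁), SymTen.tmap A d f z = PiTensorProduct.map (fun _ => f.toLinearMap) z := by
    intro B₁ B₂ _ _ _ _ f z
    induction z using PiTensorProduct.induction_on with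
    | smul_tprod r g => rw [map_smul, map_smul, SymTen.tmap_tprod, PiTensorProduct.map_tprod]; rfl
    | add a b ha hb => rw [map_add, map_add, ha, hb]
  obtain ⟨h1, h2⟩ := tensorPower_colim Bi (fun i j h => (t i j h).toLinearMap) (fun i => (φ i).toLinearMap)
    (fun i j h x => AlgHom.congr_fun (hcomp i j h) x) hsurj hzero
    (fun i h => by rw [hid]; rfl) (fun i j k hij hjk => by rw [← AlgHom.comp_toLinearMap, htrans]) d
  refine ⟨fun z => ?_, fun i y hy => ?_⟩
  · obtain ⟨i, w, hw⟩ := h1 z.1
    have hkill : ∀ s : Finset (Equiv.Perm (Fin d)), ∃ (j : ι) (h : i ≤ j), ∀ σ ∈ s,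
        SymTen.tmap A d (t i j h) (PiTensorProduct.reindex A (fun _ : Fin d => Bi i) σ w - w) = 0 := by
      intro s
      induction s using Finset.induction_on with
      | empty => exact ⟨i, le_rfl, by simp⟩
      | @insert σ s _ ih =>
        obtain ⟨j, hij, hj⟩ := ih
        obtain ⟨k, hjk, hk⟩ := h2 j (SymTen.tmap A d (t i j hij) (PiTensorProduct.reindex A (fun _ : Fin d => Bi i) σ w - w)) (by
          rw [← htm, ← AlgHom.comp_apply, ← show SymTen.tmap A d ((φ j).comp (t i j hij)) = (SymTen.tmap A d (φ j)).comp (SymTen.tmap A d (t i j hij)) from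
            PiTensorProduct.algHom_ext fun l => AlgHom.ext fun b => by
              simp only [AlgHom.comp_apply, PiTensorProduct.singleAlgHom_apply, SymTen.tmap_tprod]
            , hcomp, map_sub, SymTen.tmap_reindex, htm, hw, z.2 σ, sub_self])
        refine ⟨k, hij.trans hjk, fun σ' hσ' => ?_⟩
        rw [← htrans i j k hij hjk, show SymTen.tmap A d ((t j k hjk).comp (t i j hij)) = (SymTen.tmap A d (t j k hjk)).comp (SymTen.tmap A d (t i j hij)) from
            PiTensorProduct.algHom_ext fun l => AlgHom.ext fun b => by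
              simp only [AlgHom.comp_apply, PiTensorProduct.singleAlgHom_apply, SymTen.tmap_tprod], AlgHom.comp_apply]
        rcases Finset.mem_insert.mp hσ' with rfl | h
        · rw [htm]; exact hk
        · rw [hj σ' h, map_zero]
    obtain ⟨j, hij, hj⟩ := hkill Finset.univ
    refine ⟨j, ⟨SymTen.tmap A d (t i j hij) w, fun σ => ?_⟩, Subtype.ext ?_⟩
    · have := hj σ (Finset.mem_univ σ)
      rw [map_sub, sub_eq_zero] at this
      exact (SymTen.tmap_reindex A d (t i j hij) σ w).symm.trans this
    · show SymTen.tmap A d (φ j) (SymTen.tmap A d (t i j hij) w) = z.1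
      rw [htm, htm, ← hw, ← LinearMap.comp_apply, ← PiTensorProduct.map_comp]
      simp only [← AlgHom.comp_toLinearMap, hcomp]
  · obtain ⟨j, hij, hj⟩ := h2 i y.1 (by rw [← htm]; exact congrArg Subtype.val hy)
    exact ⟨j, hij, Subtype.ext (by rw [← htm] at hj; exact hj)⟩

end Groth.Agent.S13728
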