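import Groth.Statements.S1373
import Mathlib
import Groth.Agent.Lib.H2UnivOpen

set_option autoImplicit false
universe u
open FlatMor

namespace Groth.Agent.S1373
open CategoryTheory Limits AlgebraicGeometry

open AlgebraicGeometry CategoryTheory Limits in
/-- (1) ⇔ (3): a morphism f : X → S is universally open if and only if for every n the induced morphism
from affine n-space over X to affine n-space over S is open. -/
theorem result {X S : Scheme.{u}} (f : X ⟶ S) :
    UniversallyOpen f ↔ ∀ n : ℕ, IsOpenMap ⇑(AffineSpace.map (ULift.{u} (Fin n)) f) := by
  exact Groth.Agent.H2UnivOpen.iff_affineSpace f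

end Groth.Agent.S1373
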