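import Groth.Statements.S13757
import Groth.Agent.Lib.LabGraphForest

set_option autoImplicit false
universe u
open LabGraph

namespace Groth.Agent.S13757

/-- Let G be a finite connected multigraph (loops and multiple edges allowed) with vertex set V, edge
set E, endpoint map E → V × V and a labelling of the edges by positive integers l. A vertex
labelling φ : V → ℤ is Cartier when l(e) divides the difference of the values of φ at the two
endpoints of every edge e; its multidegree is the vertex labelling whose value at v is the sum, over
the edge-ends at v, of (value of φ at the other endpoint − φ(v)) / l(e). Then the Cartier vertex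
labellings of multidegree zero are exactly the constant ones: the kernel of the multidegree operator
on Cartier labellings is ℤ, embedded as the constants. -/
theorem result
    {V E : Type u} [Fintype V] [Fintype E] [DecidableEq V] [DecidableEq E]
    (ends : E → V × V) (l : E → ℕ) (hl : ∀ e, 0 < l e) (hconn : LabGraph.Connected ends)
    (φ : V → ℤ) (hφ : LabGraph.IsCartier ends l φ) :
    (∀ v : V, LabGraph.mdeg ends l φ v = 0) ↔ ∀ v w : V, φ v = φ w := by
  constructor
  · intro h
    have hk : ∀ e, φ (ends e).1 = φ (ends e).2 := by
      have hs : ∑ v, φ v * LabGraph.mdeg ends l φ v = 0 := by simp [h]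
      have e1 : ∑ v, φ v * LabGraph.mdeg ends l φ v =
          -∑ e, (φ (ends e).1 - φ (ends e).2) * ((φ (ends e).1 - φ (ends e).2) / (l e : ℤ)) := by
        unfold LabGraph.mdeg
        simp only [Finset.mul_sum]
        rw [Finset.sum_comm, ← Finset.sum_neg_distrib]
        refine Finset.sum_congr rfl fun e _ => ?_
        simp only [mul_add, Finset.sum_add_distrib, mul_ite, mul_zero, Finset.sum_ite_eq, Finset.mem_univ, if_true]
        rw [← neg_sub (φ (ends e).1) (φ (ends e).2), Int.neg_ediv_of_dvd (hφ e)]
        ring
      rw [e1, neg_eq_zero] at hs
      intro e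
      have hnn : ∀ e ∈ Finset.univ, 0 ≤ (φ (ends e).1 - φ (ends e).2) * ((φ (ends e).1 - φ (ends e).2) / (l e : ℤ)) := by
        intro e _
        obtain ⟨k, hk⟩ := hφ e
        rw [hk, Int.mul_ediv_cancel_left _ (by exact_mod_cast (hl e).ne'), mul_assoc]
        exact mul_nonneg (Int.natCast_nonneg _) (mul_self_nonneg k)
      have := (Finset.sum_eq_zero_iff_of_nonneg hnn).1 hs e (Finset.mem_univ e)
      obtain ⟨k, hk⟩ := hφ e
      rw [hk, Int.mul_ediv_cancel_left _ (by exact_mod_cast (hl e).ne')] at this
      have hk0 : k = 0 := by
        rcases mul_eq_zero.1 this with h | h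
        · exact (mul_eq_zero.1 h).resolve_left (by exact_mod_cast (hl e).ne')
        · exact h
      rw [hk0, mul_zero, sub_eq_zero] at hk
      exact hk
    intro v w
    have := hconn.2 v w
    induction this with
    | refl => rfl
    | tail _ hbc ih =>
      obtain ⟨e, he | he⟩ := hbc <;> have := hk e <;> rw [he] at this <;> simp_all
  · intro h v
    unfold LabGraph.mdeg
    refine Finset.sum_eq_zero fun e _ => ?_
    simp [h (ends e).1 (ends e).2]

end Groth.Agent.S13757
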