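import Groth.Statements.S13760
import Groth.Agent.Lib.LabGraphBlowup

set_option autoImplicit false
universe u
open LabGraph

namespace Groth.Agent.S13760

/-- Let G be a finite connected multigraph with vertex set V, edge set E, endpoint map E → V × V and
positive integer edge labels l, let G̃ be its total blow-up graph (every edge e replaced by a path
of l(e) edges through l(e) − 1 new vertices, all labelled 1), and let ε : H → H̃ be the map from the
cokernel of the multidegree operator on Cartier vertex labellings of G to the cokernel of the
multidegree operator on vertex labellings of G̃ induced by extension by zero. Then ε is surjective —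
every vertex labelling β of G̃ can be corrected by the multidegree of a vertex labelling of G̃ so as
to vanish at all new vertices — if and only if G is circuit-coprime (the labels along every circuit
have greatest common divisor 1). (The published statement is 'ε is an isomorphism if and only if the
labelled graph is circuit-coprime'; injectivity of ε holds for every labelled graph, so the content
is the equivalence for surjectivity, stated here with the cokernels unpacked.) -/
theorem result
    {V E : Type u} [Fintype V] [Fintype E] [DecidableEq V] [DecidableEq E]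
    (ends : E → V × V) (l : E → ℕ) (hl : ∀ e, 0 < l e) (hconn : LabGraph.Connected ends) :
    (∀ β : LabGraph.BlVert V E l → ℤ, ∃ (ψ : LabGraph.BlVert V E l → ℤ) (α : V → ℤ),
        ∀ w : LabGraph.BlVert V E l,
          LabGraph.mdeg (LabGraph.blEnds ends l) (fun _ => 1) ψ w + β w = Sum.elim α (fun _ => (0 : ℤ)) w) ↔
      LabGraph.IsCircuitCoprime ends l := by
  constructor
  · intro h
    refine LabGraphForest.coprime_of_exists_gr_mod fun x => ?_
    obtain ⟨ψ, α, hw⟩ := h (Sum.elim (fun _ => 0) fun p => if p.2.val = 0 then x p.1 else 0)
    refine ⟨fun e => x e - LabGraphBlowup.D ends l ψ e 0, fun v => ψ (Sum.inl v), fun e => ?_⟩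
    have hD : ∀ k, k + 1 < l e → LabGraphBlowup.D ends l ψ e (k + 1) = LabGraphBlowup.D ends l ψ e 0 - x e := by
      intro k
      induction k with
      | zero =>
        intro hk
        have h1 := hw (Sum.inr ⟨e, ⟨0, by omega⟩⟩)
        rw [LabGraphBlowup.mdeg_inr hl] at h1
        simp at h1
        linarith
      | succ k ih =>
        intro hk
        have h1 := hw (Sum.inr ⟨e, ⟨k + 1, by omega⟩⟩)
        rw [LabGraphBlowup.mdeg_inr hl] at h1
        simp at h1
        linarith [ih (by omega)]
    have hs := LabGraphBlowup.sum_D (ends := ends) hl ψ e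
    obtain ⟨n, hn⟩ : ∃ n, l e = n + 1 := ⟨l e - 1, by have := hl e; omega⟩
    rw [hn, Finset.sum_range_succ', Finset.sum_congr rfl fun k hk => hD k (by have := Finset.mem_range.1 hk; omega)] at hs
    simp only [Finset.sum_const, Finset.card_range, nsmul_eq_mul] at hs
    unfold LabGraphForest.gr
    rw [← hs, hn]
    push_cast
    ring
  · intro h β
    let c : E → ℕ → ℤ := fun e k => ∑ i ∈ Finset.range k, if hi : i < l e - 1 then β (Sum.inr ⟨e, ⟨i, hi⟩⟩) else 0
    obtain ⟨y, φ, hy⟩ := LabGraphForest.exists_gr_mod_of_coprime (ends := ends) hl h (fun e => -∑ k ∈ Finset.range (l e), c e k)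
    let ψ : LabGraph.BlVert V E l → ℤ := Sum.elim φ fun p => φ (ends p.1).1 + ∑ k ∈ Finset.range (p.2.val + 1), (-y p.1 - c p.1 k)
    have hP : ∀ e k, k ≤ l e → ψ (LabGraph.pathVert ends l e k) = φ (ends e).1 + ∑ i ∈ Finset.range k, (-y e - c e i) := by
      intro e k hk
      rcases Nat.eq_zero_or_pos k with rfl | hk0
      · simp [LabGraphBlowup.pathVert_zero, ψ]
      · rcases hk.eq_or_lt with rfl | hk'
        · have h1 := hy e
          unfold LabGraphForest.gr at h1
          rw [LabGraphBlowup.pathVert_top hl, Finset.sum_sub_distrib, Finset.sum_const, Finset.card_range, nsmul_eq_mul]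
          show φ (ends e).2 = _
          linarith
        · obtain ⟨j, hj, hp⟩ := LabGraphBlowup.pathVert_cases (ends := ends) e hk0 hk'
          rw [hp, ← hj]
          rfl
    have hD : ∀ e k, k < l e → LabGraphBlowup.D ends l ψ e k = -y e - c e k := by
      intro e k hk
      unfold LabGraphBlowup.D
      rw [hP e k hk.le, hP e (k + 1) hk, Finset.sum_range_succ]
      ring
    refine ⟨ψ, fun v => LabGraph.mdeg (LabGraph.blEnds ends l) (fun _ => 1) ψ (Sum.inl v) + β (Sum.inl v), fun w => ?_⟩
    rcases w with v | ⟨e, j⟩
    · rfl
    · have := j.2
      rw [LabGraphBlowup.mdeg_inr hl, hD e _ (by omega), hD e _ (by omega)]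
      simp only [c, Finset.sum_range_succ, Sum.elim_inr, dif_pos j.2]
      ring

end Groth.Agent.S13760
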