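import Groth.Statements.S1377
import Mathlib

set_option autoImplicit false
universe u
open FlatMor

namespace Groth.Agent.S1377
open CategoryTheory Limits AlgebraicGeometry

open AlgebraicGeometry CategoryTheory Limits in
/-- Let S be a scheme, U ⊆ S an open subscheme whose inclusion U → S is quasi-compact (U retrocompact in
S), and V → U a surjective integral morphism. Then there are a scheme V' and a surjective integral
morphism V' → S whose base change to U is V → U. (The published statement puts no condition on U,
and in that generality it is false: e.g. S = Spec ∏_i ℤ/4^i with U = D(2) ∪ ⋃_i D(e_i), e_i the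
idempotents, and V equal to U except that over D(2) it is cut out by x = (2^i)_i. Stated here with U
→ S quasi-compact, under which hypothesis the published argument applies.) -/
theorem result {S V : Scheme.{u}} (U : S.Opens) [QuasiCompact U.ι]
    (v : V ⟶ (U : Scheme.{u})) [IsIntegralHom v] [Surjective v] :
    ∃ (V' : Scheme.{u}) (π : V' ⟶ S) (i : V ⟶ V'), Surjective π ∧ IsIntegralHom π ∧ IsPullback i v π U.ι := by
  let f := v ≫ U.ι
  haveI : QuasiSeparated f := inferInstanceAs (QuasiSeparated (v ≫ U.ι))
  haveI : QuasiCompact f := inferInstanceAs (QuasiCompact (v ≫ U.ι))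
  have hpb : IsPullback (𝟙 V) v f U.ι := by
    have := (IsPullback.of_horiz_isIso (fst := 𝟙 V) (snd := v) (f := v) (g := 𝟙 (U : Scheme.{u})) ⟨by simp⟩).paste_vert
      (IsKernelPair.id_of_mono U.ι)
    simpa [f] using this
  let e0 := hpb.isoPullback
  have hsnd : e0.hom ≫ pullback.snd f U.ι = v := hpb.isoPullback_hom_snd
  haveI : IsIntegralHom (pullback.snd f U.ι) := by
    rw [show pullback.snd f U.ι = e0.inv ≫ v by rw [Iso.eq_inv_comp, hsnd]]; infer_instance
  let e := e0 ≪≫ asIso (pullback.snd f U.ι).toNormalization ≪≫ asIso (f.normalizationPullback U.ι)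
  have he1 : e.hom ≫ pullback.snd f.fromNormalization U.ι = v := by
    simp [e, hsnd]
  have he2 : e.hom ≫ pullback.fst f.fromNormalization U.ι = f.toNormalization := by
    simp [e, e0]
  have h1 : IsPullback f.toNormalization v f.fromNormalization U.ι :=
    (IsPullback.of_hasPullback f.fromNormalization U.ι).of_iso e.symm (Iso.refl _) (Iso.refl _) (Iso.refl _)
      (by simp [← he2]) (by simp [← he1]) (by simp) (by simp)
  haveI : IsOpenImmersion f.toNormalization := MorphismProperty.of_isPullback h1.flip inferInstance
  let Z : TopologicalSpace.Closeds S := ⟨(U : Set S)ᶜ, U.2.isClosed_compl⟩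
  let I := Scheme.IdealSheafData.vanishingIdeal Z
  refine ⟨f.normalization ⨿ I.subscheme, coprod.desc f.fromNormalization I.subschemeι,
    f.toNormalization ≫ coprod.inl, ⟨fun x => ?_⟩, inferInstance, ?_⟩
  · by_cases hx : x ∈ U
    · obtain ⟨y, hy⟩ := v.surjective ⟨x, hx⟩
      exact ⟨(f.toNormalization ≫ coprod.inl).base y, by
        rw [← Scheme.Hom.comp_apply, Category.assoc, coprod.inl_desc, Scheme.Hom.toNormalization_fromNormalization]
        simp [f, hy]⟩
    · obtain ⟨y, hy⟩ : x ∈ Set.range I.subschemeι := by
        rw [Scheme.IdealSheafData.range_subschemeι]; exact hx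
      exact ⟨(coprod.inr : I.subscheme ⟶ _).base y, by
        rw [← Scheme.Hom.comp_apply, coprod.inr_desc]; exact hy⟩
  · set π := coprod.desc f.fromNormalization I.subschemeι
    set i := f.toNormalization ≫ (coprod.inl : f.normalization ⟶ f.normalization ⨿ I.subscheme)
    have hiπ : i ≫ π = v ≫ U.ι := by simp only [i, π, Category.assoc, coprod.inl_desc]; exact f.toNormalization_fromNormalization
    refine (IsOpenImmersion.isPullback v i U.ι π hiπ ?_).flip
    ext x
    rw [Scheme.Opens.opensRange_ι]
    show π.base x ∈ U ↔ x ∈ Set.range i.base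
    constructor
    · intro hx
      obtain ⟨z, hz⟩ | ⟨z, hz⟩ := (isCompl_range_inl_inr f.normalization I.subscheme).codisjoint.top_le (Set.mem_univ x)
      · subst hz
        rw [← Scheme.Hom.comp_apply, coprod.inl_desc] at hx
        obtain ⟨p, hp, -⟩ := Scheme.Pullback.exists_preimage_pullback (f := f.fromNormalization) (g := U.ι) z ⟨_, hx⟩ rfl
        refine ⟨h1.isoPullback.inv.base p, ?_⟩
        rw [← Scheme.Hom.comp_apply, ← hp]
        simp [i]
      · subst hz
        rw [← Scheme.Hom.comp_apply, coprod.inr_desc] at hx
        exfalso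
        have h3 := Set.mem_range_self (f := I.subschemeι.base) z
        rw [Scheme.IdealSheafData.range_subschemeι] at h3
        exact (h3 : _ ∈ (U : Set S)ᶜ) hx
    · rintro ⟨w, rfl⟩
      rw [← Scheme.Hom.comp_apply, hiπ, Scheme.Hom.comp_apply]
      exact (v w).2

end Groth.Agent.S1377
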