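import Groth.Statements.S13771
import Groth.Agent.Lib.PLieExt
import Mathlib.Algebra.Lie.Solvable
import Mathlib.Algebra.Lie.Semisimple.Basic
import Mathlib.Algebra.Lie.Engel
import Mathlib.Algebra.Lie.Abelian
import Mathlib.LinearAlgebra.Basis.Basic
import Mathlib.Tactic.FinCases
import Mathlib.Tactic.LinearCombination
import Mathlib.Tactic.Module

set_option autoImplicit false
universe u v w
open PLie

namespace Groth.Agent.S13771

/-- Let R be a commutative ring of prime characteristic p, L₁ and L₂ Lie algebras over R, φ a p-mapping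
on L₁ and f : L₁ → L₂ a morphism of Lie algebras whose kernel is stable under φ (a p-ideal). Then
the image f(L₁), a Lie subalgebra of L₂, carries exactly one p-mapping ψ for which the corestriction
of f to its image is a morphism of p-Lie algebras, i.e. ψ (f x) = f (φ x) for all x. -/
theorem result (R : Type u) [CommRing R] (p : ℕ) [Fact p.Prime] [CharP R p]
    (L₁ : Type v) [LieRing L₁] [LieAlgebra R L₁] (L₂ : Type w) [LieRing L₂] [LieAlgebra R L₂]
    (φ : PLie.PMap R p L₁) (f : L₁ →ₗ⁅R⁆ L₂) (hker : ∀ x : L₁, f x = 0 → f (φ x) = 0) :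
    ∃! ψ : PLie.PMap R p f.range, PLie.IsPHom φ ψ f.rangeRestrict := by
  have hc : ∀ {x x' : L₁}, f x = f x' → f (φ.toFun x) = f (φ.toFun x') := fun h => PLieJacobson.map_congr φ f hker h
  have hsurj := f.surjective_rangeRestrict
  choose g hg using hsurj
  have hval : ∀ w : f.range, f (g w) = (w : L₂) := fun w => congrArg Subtype.val (hg w)
  let ψ : f.range → f.range := fun w => f.rangeRestrict (φ.toFun (g w))
  have hψ : ∀ x, ψ (f.rangeRestrict x) = f.rangeRestrict (φ.toFun x) := fun x =>
    Subtype.ext (hc (hval _))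
  refine ⟨⟨ψ, fun c w => ?_, fun w => ?_, fun u v => ?_⟩, fun x => (hψ x).symm, fun ψ' h' => ?_⟩
  · obtain ⟨x, rfl⟩ := f.surjective_rangeRestrict w
    rw [← map_smul, hψ, hψ, φ.map_smul, map_smul]
  · obtain ⟨x, rfl⟩ := f.surjective_rangeRestrict w
    refine LinearMap.ext fun w' => ?_
    obtain ⟨y, rfl⟩ := f.surjective_rangeRestrict w'
    have hpow : ∀ n, (LieAlgebra.ad R f.range (f.rangeRestrict x) ^ n) (f.rangeRestrict y) =
        f.rangeRestrict ((LieAlgebra.ad R L₁ x ^ n) y) := by
      intro n
      induction n with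
      | zero => rfl
      | succ n ih =>
        rw [pow_succ', pow_succ', Module.End.mul_apply, Module.End.mul_apply, ih, LieAlgebra.ad_apply, LieAlgebra.ad_apply,
          LieHom.map_lie]
    rw [LieAlgebra.ad_apply, hψ, ← LieHom.map_lie, hpow, ← φ.ad_map, LieAlgebra.ad_apply]
  · obtain ⟨x, rfl⟩ := f.surjective_rangeRestrict u
    obtain ⟨y, rfl⟩ := f.surjective_rangeRestrict v
    rw [← map_add, hψ, hψ, hψ, φ.map_add, map_sub, map_add, PLieJacobson.map_jacobson]
  · cases ψ' with
    | mk f' _ _ _ =>
      congr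
      funext w
      obtain ⟨x, rfl⟩ := f.surjective_rangeRestrict w
      exact (h' x).symm.trans (hψ x).symm

end Groth.Agent.S13771
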