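import Groth.Statements.S13774
import Groth.Agent.Lib.PLieExt
import Mathlib.Algebra.Lie.Solvable
import Mathlib.Algebra.Lie.Semisimple.Basic
import Mathlib.Algebra.Lie.Engel
import Mathlib.Algebra.Lie.Abelian
import Mathlib.LinearAlgebra.Basis.Basic
import Mathlib.Tactic.FinCases
import Mathlib.Tactic.LinearCombination
import Mathlib.Tactic.Module

set_option autoImplicit false
universe u v w
open PLie

namespace Groth.Agent.S13774

/-- Let R be a commutative ring of prime characteristic p and L a Lie algebra over R, free as an
R-module with basis b indexed by ι, whose bracket is ⁅x, y⁆ = f x y • v for some vector v of L and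
some R-bilinear form f on L. Then L carries a p-mapping φ with φ (b i) = (f (b i) v) ^ (p - 1) • b i
for every i; in particular L is restrictable. (The published statement is made over a base scheme,
where the Lie algebra is a vector bundle of finite rank whose derived algebra is a subbundle of rank
one, and concludes that p-mappings exist Zariski-locally; this row is the case of a free module over
a ring, of any rank, with bracket of the displayed shape.) -/
theorem result (R : Type u) [CommRing R] (p : ℕ) [Fact p.Prime] [CharP R p]
    (L : Type v) [LieRing L] [LieAlgebra R L] {ι : Type w} (b : Module.Basis ι R L) (v : L)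
    (f : L →ₗ[R] L →ₗ[R] R) (hf : ∀ x y : L, ⁅x, y⁆ = f x y • v) :
    ∃ φ : PLie.PMap R p L, ∀ i : ι, φ (b i) = (f (b i) v) ^ (p - 1) • b i := by
  obtain ⟨φ, hφ, -⟩ := PLieJacobson.existsUnique_pmap (p := p) b (fun i => (f (b i) v) ^ (p - 1) • b i) fun i => by
    refine LinearMap.ext fun y => ?_
    have hn : ∀ n, (LieAlgebra.ad R L (b i) ^ (n + 1)) y = (f (b i) v) ^ n • ⁅b i, y⁆ := by
      intro n
      induction n with
      | zero => simp
      | succ n ih =>
        rw [pow_succ', Module.End.mul_apply, ih, LieAlgebra.ad_apply, lie_smul, hf (b i) y, lie_smul, hf (b i) v,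
          smul_smul, smul_smul, smul_smul]
        congr 1
        ring
    obtain ⟨n, hn'⟩ : ∃ n, p = n + 1 := ⟨p - 1, by have := (Fact.out : p.Prime).one_lt; omega⟩
    subst hn'
    rw [hn, map_smul, LinearMap.smul_apply, LieAlgebra.ad_apply, Nat.add_sub_cancel]
  exact ⟨φ, hφ⟩

end Groth.Agent.S13774
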