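import Groth.Statements.S13775
import Groth.Agent.Lib.PLieExt
import Mathlib.Algebra.Lie.Solvable
import Mathlib.Algebra.Lie.Semisimple.Basic
import Mathlib.Algebra.Lie.Engel
import Mathlib.Algebra.Lie.Abelian
import Mathlib.LinearAlgebra.Basis.Basic
import Mathlib.Tactic.FinCases
import Mathlib.Tactic.LinearCombination
import Mathlib.Tactic.Module

set_option autoImplicit false
universe u v
open PLie

namespace Groth.Agent.S13775

/-- Let R be a commutative ring of prime characteristic p and L a Lie algebra over R, free as a module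
with basis x = bs 0, y = bs 1, z = bs 2 and brackets [x,y] = y, [x,z] = y + z, [y,z] = 0. Then L
carries no p-mapping. (The published statement is the corresponding entry of the classification
table of three-dimensional Lie algebras over an algebraically closed field of characteristic p; this
row states it over every commutative ring of characteristic p.) -/
theorem result (R : Type u) [CommRing R] (p : ℕ) [Fact p.Prime] [CharP R p]
    (L : Type v) [LieRing L] [LieAlgebra R L] (bs : Module.Basis (Fin 3) R L)
    (hxy : ⁅bs 0, bs 1⁆ = bs 1) (hxz : ⁅bs 0, bs 2⁆ = bs 1 + bs 2) (hyz : ⁅bs 1, bs 2⁆ = 0) :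
    IsEmpty (PLie.PMap R p L) := by
  refine ⟨fun φ => ?_⟩
  have : Nontrivial R := CharP.nontrivial_of_char_ne_one (R := R) (Fact.out : p.Prime).ne_one
  have hy : ∀ n, (LieAlgebra.ad R L (bs 0) ^ n) (bs 1) = bs 1 := by
    intro n
    induction n with
    | zero => rfl
    | succ n ih => rw [pow_succ', Module.End.mul_apply, ih, LieAlgebra.ad_apply, hxy]
  have hz : ∀ n : ℕ, (LieAlgebra.ad R L (bs 0) ^ n) (bs 2) = (n : R) • bs 1 + bs 2 := by
    intro n
    induction n with
    | zero => simp
    | succ n ih =>
      rw [pow_succ', Module.End.mul_apply, ih, LieAlgebra.ad_apply, lie_add, lie_smul, hxy, hxz]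
      push_cast
      module
  set w := φ.toFun (bs 0) with hw
  have hzy : ⁅bs 2, bs 1⁆ = (0 : L) := by rw [← lie_skew, hyz, neg_zero]
  have hwe : w = bs.repr w 0 • bs 0 + bs.repr w 1 • bs 1 + bs.repr w 2 • bs 2 := by
    conv_lhs => rw [← bs.sum_repr w, Fin.sum_univ_three]
  have h1 := LinearMap.congr_fun (φ.ad_map (bs 0)) (bs 1)
  have h2 := LinearMap.congr_fun (φ.ad_map (bs 0)) (bs 2)
  rw [LieAlgebra.ad_apply, ← hw, hy, hwe] at h1
  rw [LieAlgebra.ad_apply, ← hw, hz, CharP.cast_eq_zero, zero_smul, zero_add, hwe] at h2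
  simp only [add_lie, smul_lie, lie_self, hxy, hxz, hyz, hzy, neg_zero, smul_zero, add_zero, neg_eq_zero] at h1 h2
  have e1 := congrArg (fun v => bs.repr v 1) h1
  have e2 := congrArg (fun v => bs.repr v 1) h2
  simp [bs.repr_self] at e1 e2
  rw [e1] at e2
  exact one_ne_zero e2

end Groth.Agent.S13775
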