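import Groth.Statements.S13776
import Groth.Agent.Lib.PLieExt
import Mathlib.Algebra.Lie.Solvable
import Mathlib.Algebra.Lie.Semisimple.Basic
import Mathlib.Algebra.Lie.Engel
import Mathlib.Algebra.Lie.Abelian
import Mathlib.LinearAlgebra.Basis.Basic
import Mathlib.Tactic.FinCases
import Mathlib.Tactic.LinearCombination
import Mathlib.Tactic.Module

set_option autoImplicit false
universe u v
open PLie

namespace Groth.Agent.S13776

/-- Let R be a commutative ring of prime characteristic p, t ∈ R, and L a Lie algebra over R, free as a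
module with basis x = bs 0, y = bs 1, z = bs 2 and brackets [x,y] = y, [x,z] = t • z, [y,z] = 0.
Then L carries a p-mapping if and only if t ^ p = t. (The published statement is the corresponding
entry of the classification table over an algebraically closed field of characteristic p, where the
condition reads: t lies in the prime field; this row states it over every commutative ring of
characteristic p.) -/
theorem result (R : Type u) [CommRing R] (p : ℕ) [Fact p.Prime] [CharP R p] (t : R)
    (L : Type v) [LieRing L] [LieAlgebra R L] (bs : Module.Basis (Fin 3) R L)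
    (hxy : ⁅bs 0, bs 1⁆ = bs 1) (hxz : ⁅bs 0, bs 2⁆ = t • bs 2) (hyz : ⁅bs 1, bs 2⁆ = 0) :
    Nonempty (PLie.PMap R p L) ↔ t ^ p = t := by
  have hp := (Fact.out : p.Prime)
  have : Nontrivial R := CharP.nontrivial_of_char_ne_one (R := R) hp.ne_one
  have hy : ∀ n, (LieAlgebra.ad R L (bs 0) ^ n) (bs 1) = bs 1 := by
    intro n
    induction n with
    | zero => rfl
    | succ n ih => rw [pow_succ', Module.End.mul_apply, ih, LieAlgebra.ad_apply, hxy]
  have hz : ∀ n, (LieAlgebra.ad R L (bs 0) ^ n) (bs 2) = t ^ n • bs 2 := by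
    intro n
    induction n with
    | zero => simp
    | succ n ih => rw [pow_succ', Module.End.mul_apply, ih, LieAlgebra.ad_apply, lie_smul, hxz, smul_smul, pow_succ]
  have hyx : ⁅bs 1, bs 0⁆ = -bs 1 := by rw [← lie_skew, hxy]
  have hzx : ⁅bs 2, bs 0⁆ = -(t • bs 2) := by rw [← lie_skew, hxz]
  have hzy : ⁅bs 2, bs 1⁆ = (0 : L) := by rw [← lie_skew, hyz, neg_zero]
  constructor
  · rintro ⟨φ⟩
    set w := φ.toFun (bs 0) with hw
    have hwe : w = bs.repr w 0 • bs 0 + bs.repr w 1 • bs 1 + bs.repr w 2 • bs 2 := by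
      conv_lhs => rw [← bs.sum_repr w, Fin.sum_univ_three]
    have h1 := LinearMap.congr_fun (φ.ad_map (bs 0)) (bs 1)
    have h2 := LinearMap.congr_fun (φ.ad_map (bs 0)) (bs 2)
    rw [LieAlgebra.ad_apply, ← hw, hy, hwe] at h1
    rw [LieAlgebra.ad_apply, ← hw, hz, hwe] at h2
    simp only [add_lie, smul_lie, lie_self, hxy, hxz, hyz, hzy, smul_zero, add_zero] at h1 h2
    have e1 := congrArg (fun v => bs.repr v 1) h1
    have e2 := congrArg (fun v => bs.repr v 2) h2
    simp [bs.repr_self] at e1 e2
    rw [e1, one_mul] at e2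
    exact e2.symm
  · intro ht
    obtain ⟨φ, -, -⟩ := PLieJacobson.existsUnique_pmap (p := p) bs ![bs 0, 0, 0] fun i => by
      obtain ⟨n, hn⟩ : ∃ n, p = n + 2 := ⟨p - 2, by have := hp.two_le; omega⟩
      have key : ∀ v : L, ⁅v, ⁅v, bs 0⁆⁆ = 0 → ⁅v, ⁅v, bs 1⁆⁆ = 0 → ⁅v, ⁅v, bs 2⁆⁆ = 0 → LieAlgebra.ad R L v ^ p = 0 := by
        intro v h0 h1 h2
        rw [hn, pow_add]
        refine (congrArg (fun e => LieAlgebra.ad R L v ^ n * e) ?_).trans (mul_zero _)
        refine bs.ext fun j => ?_
        fin_cases j <;> simpa [pow_two]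
      fin_cases i
      · refine bs.ext fun j => ?_
        have h0 : (LieAlgebra.ad R L (bs 0) ^ p) (bs 0) = 0 := by
          rw [hn, pow_succ, Module.End.mul_apply, LieAlgebra.ad_apply, lie_self, map_zero]
        fin_cases j <;> simp [hy, hz, ht, h0, hxy, hxz]
      · show LieAlgebra.ad R L (bs 1) ^ p = LieAlgebra.ad R L (0 : L)
        rw [map_zero, key (bs 1) (by simp [hyx]) (by simp) (by simp [hyz])]
      · show LieAlgebra.ad R L (bs 2) ^ p = LieAlgebra.ad R L (0 : L)
        rw [map_zero, key (bs 2) (by simp [hzx]) (by simp [hzy]) (by simp)]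
    exact ⟨φ⟩

end Groth.Agent.S13776
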