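import Groth.Statements.S13777
import Groth.Agent.Lib.PLieExt
import Mathlib.Algebra.Lie.Solvable
import Mathlib.Algebra.Lie.Semisimple.Basic
import Mathlib.Algebra.Lie.Engel
import Mathlib.Algebra.Lie.Abelian
import Mathlib.LinearAlgebra.Basis.Basic
import Mathlib.Tactic.FinCases
import Mathlib.Tactic.LinearCombination
import Mathlib.Tactic.Module

set_option autoImplicit false
universe u v
open PLie

namespace Groth.Agent.S13777

/-- Let R be a commutative ring of characteristic 2 and L a Lie algebra over R, free as a module with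
basis x = bs 0, y = bs 1, z = bs 2 and brackets [x,y] = z, [x,z] = −x, [y,z] = y. Then L carries no
2-mapping. (The published statement is the corresponding entry of the classification table over an
algebraically closed field of characteristic 2; this row states it over every commutative ring of
characteristic 2.) -/
theorem result (R : Type u) [CommRing R] [CharP R 2]
    (L : Type v) [LieRing L] [LieAlgebra R L] (bs : Module.Basis (Fin 3) R L)
    (hxy : ⁅bs 0, bs 1⁆ = bs 2) (hxz : ⁅bs 0, bs 2⁆ = -bs 0) (hyz : ⁅bs 1, bs 2⁆ = bs 1) :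
    IsEmpty (PLie.PMap R 2 L) := by
  refine ⟨fun φ => ?_⟩
  have : Nontrivial R := CharP.nontrivial_of_char_ne_one (R := R) (show (2 : ℕ) ≠ 1 by norm_num)
  have : Fact (Nat.Prime 2) := ⟨Nat.prime_two⟩
  set w := φ.toFun (bs 0) with hw
  have hwe : w = bs.repr w 0 • bs 0 + bs.repr w 1 • bs 1 + bs.repr w 2 • bs 2 := by
    conv_lhs => rw [← bs.sum_repr w, Fin.sum_univ_three]
  have hyx : ⁅bs 1, bs 0⁆ = -bs 2 := by rw [← lie_skew, hxy]
  have hzx : ⁅bs 2, bs 0⁆ = bs 0 := by rw [← lie_skew, hxz, neg_neg]
  have hzy : ⁅bs 2, bs 1⁆ = -bs 1 := by rw [← lie_skew, hyz]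
  have h0 := LinearMap.congr_fun (φ.ad_map (bs 0)) (bs 0)
  have h1 := LinearMap.congr_fun (φ.ad_map (bs 0)) (bs 1)
  rw [LieAlgebra.ad_apply, ← hw, hwe, pow_two, Module.End.mul_apply, LieAlgebra.ad_apply, LieAlgebra.ad_apply] at h0 h1
  simp only [add_lie, smul_lie, lie_self, lie_zero, hxy, hxz, hyx, hzx, hzy, smul_zero, zero_add, add_zero] at h0 h1
  have e0 := congrArg (fun v => bs.repr v 0) h1
  simp [bs.repr_self] at e0

end Groth.Agent.S13777
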