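import Groth.Statements.S13778
import Groth.Agent.Lib.PLieCoord
import Mathlib.Algebra.Field.GeomSum
import Mathlib.Tactic.LinearCombination

set_option autoImplicit false
set_option maxHeartbeats 3000000
universe u v
open PLie

namespace Groth.Agent.S13778

open DualNumber in
/-- Let K be a field of prime characteristic p, K[ε] the ring of dual numbers (taken with its
characteristic-p structure), t ∈ K with t ^ p = t (an element of the prime field), and a, …, i ∈ K.
Let L be a Lie algebra over K[ε], free as a module with basis x = bs 0, y = bs 1, z = bs 2 and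
brackets [x,y] = aε x + (1 + bε) y + cε z, [x,z] = dε x + eε y + (t + fε) z, [y,z] = gε x + hε y +
iε z. Then L carries a p-mapping over K[ε] if and only if b t = f, c = e = 0 when t = 1, and g = 0
when p = 2. (The published statement determines the singular locus of the restrictable locus in the
centreless stratum of the moduli scheme of based three-dimensional Lie algebras, for t non-zero, and
the rank-one-centre stratum treats t = 0; this row states the restrictability criterion for the
first-order deformations of l_t that the proofs compute, over any field of characteristic p in place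
of the prime field and for every t in the prime field.) -/
theorem result (K : Type u) [Field K] (p : ℕ) [Fact p.Prime] [CharP K p]
    [CharP (DualNumber K) p] (t a b c d e f g h i : K) (ht : t ^ p = t)
    (L : Type v) [LieRing L] [LieAlgebra (DualNumber K) L] (bs : Module.Basis (Fin 3) (DualNumber K) L)
    (hxy : ⁅bs 0, bs 1⁆ = (a • ε : DualNumber K) • bs 0 + (1 + b • ε : DualNumber K) • bs 1 + (c • ε : DualNumber K) • bs 2)
    (hxz : ⁅bs 0, bs 2⁆ = (d • ε : DualNumber K) • bs 0 + (e • ε : DualNumber K) • bs 1 +
      (algebraMap K (DualNumber K) t + f • ε) • bs 2)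
    (hyz : ⁅bs 1, bs 2⁆ = (g • ε : DualNumber K) • bs 0 + (h • ε : DualNumber K) • bs 1 + (i • ε : DualNumber K) • bs 2) :
    Nonempty (PLie.PMap (DualNumber K) p L) ↔ (b * t = f ∧ (t = 1 → c = 0 ∧ e = 0) ∧ (p = 2 → g = 0)) := by
  open PLieCoord in
  have hpr := (Fact.out : p.Prime)
  obtain ⟨n, hn⟩ : ∃ n, p = n + 2 := ⟨p - 2, by have := hpr.two_le; omega⟩
  let A : Fin 3 → DualNumber K := ![PLieCoord.dn 0 a, PLieCoord.dn 1 b, PLieCoord.dn 0 c]
  let B : Fin 3 → DualNumber K := ![PLieCoord.dn 0 d, PLieCoord.dn 0 e, PLieCoord.dn t f]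
  let C : Fin 3 → DualNumber K := ![PLieCoord.dn 0 g, PLieCoord.dn 0 h, PLieCoord.dn 0 i]
  have hA : ∀ j, bs.repr ⁅bs 0, bs 1⁆ j = A j := by
    intro j; rw [hxy]; fin_cases j <;> simp [A, Finsupp.single_apply, PLieCoord.dn_eps] <;> ext <;> simp
  have hB : ∀ j, bs.repr ⁅bs 0, bs 2⁆ j = B j := by
    intro j; rw [hxz]; fin_cases j <;> simp [B, Finsupp.single_apply, PLieCoord.dn_eps] <;> ext <;> simp [TrivSqZeroExt.algebraMap_eq_inl]
  have hC : ∀ j, bs.repr ⁅bs 1, bs 2⁆ j = C j := by
    intro j; rw [hyz]; fin_cases j <;> simp [C, Finsupp.single_apply, PLieCoord.dn_eps]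
  rw [PLieCoord.nonempty_pmap_iff (p := p) bs hA hB hC]
  have j0 := PLieCoord.jacobi bs hA hB hC 0
  have j1 := PLieCoord.jacobi bs hA hB hC 1
  have j2 := PLieCoord.jacobi bs hA hB hC 2
  simp [PLieCoord.brk, A, B, C] at j0 j1 j2
  have J0 := congrArg TrivSqZeroExt.snd j0
  have J1 := congrArg TrivSqZeroExt.snd j1
  have J2 := congrArg TrivSqZeroExt.snd j2
  simp at J0 J1 J2
  set S := ∑ i ∈ Finset.range p, t ^ i with hS
  let ex : Fin 3 → DualNumber K := fun l => if l = 0 then 1 else 0
  let ey : Fin 3 → DualNumber K := fun l => if l = 1 then 1 else 0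
  let ez : Fin 3 → DualNumber K := fun l => if l = 2 then 1 else 0
  have X0 : ∀ m, (PLieCoord.brk A B C ex)^[m + 1] ex = 0 := by
    intro m
    induction m with
    | zero => funext l; simp [PLieCoord.brk, ex]
    | succ m ih => rw [Function.iterate_succ_apply', ih]; funext l; simp [PLieCoord.brk]
  have X1 : ∀ m : ℕ, (PLieCoord.brk A B C ex)^[m + 1] ey =
      ![PLieCoord.dn 0 a, PLieCoord.dn 1 (((m : K) + 1) * b), PLieCoord.dn 0 (c * ∑ i ∈ Finset.range (m + 1), t ^ i)] := by
    intro m
    induction m with
    | zero => funext l; fin_cases l <;> simp [PLieCoord.brk, ex, ey, A, B]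
    | succ m ih =>
      rw [Function.iterate_succ_apply', ih, geom_sum_succ (n := m + 1)]
      funext l
      fin_cases l <;> simp [PLieCoord.brk, ex, A, B, C, PLieCoord.dn_mul] <;> ext <;> simp <;> ring
  have X2 : ∀ m : ℕ, (PLieCoord.brk A B C ex)^[m + 1] ez =
      ![PLieCoord.dn 0 (d * t ^ m), PLieCoord.dn 0 (e * ∑ i ∈ Finset.range (m + 1), t ^ i),
        PLieCoord.dn (t ^ (m + 1)) (((m : K) + 1) * t ^ m * f)] := by
    intro m
    induction m with
    | zero => funext l; fin_cases l <;> simp [PLieCoord.brk, ex, ez, A, B]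
    | succ m ih =>
      rw [Function.iterate_succ_apply', ih, Finset.sum_range_succ _ (m + 1)]
      funext l
      fin_cases l <;> simp [PLieCoord.brk, ex, A, B, C, PLieCoord.dn_mul] <;> ext <;> simp <;> ring
  have hp0 : ((n : K) + 1 + 1) = 0 := by
    have := CharP.cast_eq_zero K p
    rw [hn] at this
    push_cast at this
    linear_combination this
  have X1p := X1 (n + 1)
  have X2p := X2 (n + 1)
  have X0p := X0 (n + 1)
  rw [show n + 1 + 1 = p by omega] at X0p X1p X2p
  rw [ht] at X2p
  push_cast at X1p X2p
  rw [hp0, zero_mul, ← hS] at X1p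
  rw [hp0, zero_mul, zero_mul, ← hS] at X2p
  have hS1 : t = 1 → S = 0 := fun h1 => by simp [hS, h1]
  have hS2 : t ≠ 1 → S = 1 := fun h1 => by
    have := geom_sum_mul t p
    rw [ht, ← hS] at this
    exact mul_right_cancel₀ (sub_ne_zero.2 h1) (by rw [this, one_mul])
  have hdt : d * t ^ (n + 1) = d := by
    have h3 : d = t * h := by linear_combination -J1
    rw [h3, show t * h * t ^ (n + 1) = t ^ (n + 1 + 1) * h by ring, show n + 1 + 1 = p by omega, ht]
  rw [hdt] at X2p
  constructor
  · intro hex
    obtain ⟨w, hw⟩ := hex 0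
    have w0 := hw 0
    have w1 := hw 1
    have w2 := hw 2
    rw [show (fun l : Fin 3 => if l = 0 then (1 : DualNumber K) else 0) = ex from rfl] at w0 w1 w2
    rw [show (fun l : Fin 3 => if l = 1 then (1 : DualNumber K) else 0) = ey from rfl] at w1
    rw [show (fun l : Fin 3 => if l = 2 then (1 : DualNumber K) else 0) = ez from rfl] at w2
    rw [X0p] at w0
    rw [X1p] at w1
    rw [X2p] at w2
    have a01 := congrFun w0 1
    have a02 := congrFun w0 2
    have a11 := congrFun w1 1
    have a12 := congrFun w1 2
    have a21 := congrFun w2 1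
    have a22 := congrFun w2 2
    simp [PLieCoord.brk, ex, ey, ez, A, B, C] at a01 a02 a11 a12 a21 a22
    have f01 := congrArg TrivSqZeroExt.fst a01
    have f02 := congrArg TrivSqZeroExt.fst a02
    have f11 := congrArg TrivSqZeroExt.fst a11
    have s11 := congrArg TrivSqZeroExt.snd a11
    have s12 := congrArg TrivSqZeroExt.snd a12
    have s21 := congrArg TrivSqZeroExt.snd a21
    have s22 := congrArg TrivSqZeroExt.snd a22
    simp at f01 f02 f11 s11 s12 s21 s22
    refine ⟨?_, fun h1 => ?_, fun h2 => ?_⟩
    · have : (w 2).fst * t = 0 := by rcases f02 with h' | h' <;> simp [h']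
      rw [f01, ← f11] at *
      linear_combination -t * s11 + s22 + h * this
    · have h20 : (w 2).fst = 0 := by
        rcases f02 with h' | h'
        · exact h'
        · rw [h1] at h'; exact absurd h' one_ne_zero
      rw [hS1 h1, mul_zero] at s12 s21
      rw [h20] at s12
      rw [f01, ← f11] at *
      constructor
      · linear_combination -s12
      · linear_combination -s21
    · obtain ⟨w, hw⟩ := hex 1
      have v0 := hw 0
      have v2 := hw 2
      subst h2
      have c0 := congrFun v0 1
      have c2 := congrFun v2 1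
      simp [PLieCoord.brk, A, B, C] at c0 c2
      have g0 := congrArg TrivSqZeroExt.fst c0
      have g1 := congrFun (hw 1) 1
      simp [PLieCoord.brk, A, B, C] at g1
      have g1' := congrArg TrivSqZeroExt.fst g1
      have g2 := congrArg TrivSqZeroExt.snd c2
      simp at g0 g1' g2
      simp [g0, ← g1'] at g2
      exact g2
  · rintro ⟨hbt, ht1, hp2⟩ q
    fin_cases q
    · refine ⟨![PLieCoord.dn 1 (-b), 0, 0], fun j => ?_⟩
      have hcS : c * S = c := by
        by_cases h1 : t = 1
        · rw [(ht1 h1).1, zero_mul]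
        · rw [hS2 h1, mul_one]
      have heS : e * S = e := by
        by_cases h1 : t = 1
        · rw [(ht1 h1).2, zero_mul]
        · rw [hS2 h1, mul_one]
      rw [hcS] at X1p
      rw [heS] at X2p
      fin_cases j
      · exact X0p.trans (by funext l; simp [PLieCoord.brk])
      · exact X1p.trans (by funext l; fin_cases l <;> simp [PLieCoord.brk, A, B, PLieCoord.dn_mul] <;> ext <;> simp)
      · exact X2p.trans (by
          funext l
          fin_cases l <;> simp [PLieCoord.brk, A, B, PLieCoord.dn_mul] <;> ext <;> simp [hbt, mul_comm b t, sub_eq_add_neg] <;> ring)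
    · rcases Nat.eq_zero_or_pos n with h0 | h0
      · subst h0; subst hn
        refine ⟨![0, PLieCoord.dn 0 (-a), 0], fun j => funext fun l => ?_⟩
        have hg := hp2 rfl
        fin_cases j <;> fin_cases l <;> simp [PLieCoord.brk, A, B, C, PLieCoord.dn_mul] <;> ext <;> simp [hg]
      · refine ⟨0, fun j => ?_⟩
        have h3 : (PLieCoord.brk A B C ey)^[3] (fun l => if l = j then 1 else 0) = 0 := by
          have hstep : ∀ v, PLieCoord.brk A B C ey v = fun j => -(v 0) * A j + v 2 * C j := fun v => by
            funext j; simp [PLieCoord.brk, ey]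
          funext l
          simp only [Function.iterate_succ, Function.iterate_zero, Function.comp_apply, id_eq, Nat.succ_eq_add_one, Function.iterate_one, show (4 : ℕ) = 1 + 1 + 1 + 1 from rfl, show (3 : ℕ) = 1 + 1 + 1 from rfl, hstep]
          fin_cases j <;> fin_cases l <;> ext <;> simp [A, C] <;> ring
        obtain ⟨r, hr⟩ : ∃ r, p = r + 3 := ⟨n - 1, by omega⟩
        show (PLieCoord.brk A B C ey)^[p] _ = _
        rw [hr, Function.iterate_add_apply, h3, Function.iterate_fixed (by funext l; simp [PLieCoord.brk])]
        funext l; simp [PLieCoord.brk]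
    · rcases Nat.eq_zero_or_pos n with h0 | h0
      · subst h0; subst hn
        refine ⟨![0, 0, PLieCoord.dn 0 (-d)], fun j => funext fun l => ?_⟩
        have hg := hp2 rfl
        fin_cases j <;> fin_cases l <;> simp [PLieCoord.brk, A, B, C, PLieCoord.dn_mul] <;> ext <;> simp [hg] <;> ring
      · refine ⟨0, fun j => ?_⟩
        have h3 : (PLieCoord.brk A B C ez)^[3] (fun l => if l = j then 1 else 0) = 0 := by
          have hstep : ∀ v, PLieCoord.brk A B C ez v = fun j => -(v 0) * B j + -(v 1) * C j := fun v => by
            funext j; simp [PLieCoord.brk, ez]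
          funext l
          simp only [Function.iterate_succ, Function.iterate_zero, Function.comp_apply, id_eq, Nat.succ_eq_add_one, Function.iterate_one, show (4 : ℕ) = 1 + 1 + 1 + 1 from rfl, show (3 : ℕ) = 1 + 1 + 1 from rfl, hstep]
          fin_cases j <;> fin_cases l <;> ext <;> simp [B, C] <;> ring
        obtain ⟨r, hr⟩ : ∃ r, p = r + 3 := ⟨n - 1, by omega⟩
        show (PLieCoord.brk A B C ez)^[p] _ = _
        rw [hr, Function.iterate_add_apply, h3, Function.iterate_fixed (by funext l; simp [PLieCoord.brk])]
        funext l; simp [PLieCoord.brk]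

end Groth.Agent.S13778
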