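import Groth.Statements.S13779
import Groth.Agent.Lib.PLieExt
import Mathlib.Algebra.Lie.Solvable
import Mathlib.Algebra.Lie.Semisimple.Basic
import Mathlib.Algebra.Lie.Engel
import Mathlib.Algebra.Lie.Abelian
import Mathlib.LinearAlgebra.Basis.Basic
import Mathlib.Tactic.FinCases
import Mathlib.Tactic.LinearCombination
import Mathlib.Tactic.Module

set_option autoImplicit false
universe u v
open PLie

namespace Groth.Agent.S13779

/-- Let p be an odd prime, R a commutative ring of characteristic p, t ∈ R, and L a Lie algebra over R,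
free as a module with basis x = bs 0, y = bs 1, z = bs 2 and brackets [x,y] = z, [x,z] = t • y,
[y,z] = 0. Then L carries a p-mapping φ with φ x = t ^ ((p - 1) / 2) • x, φ y = 0 and φ z = 0. (The
published statement concerns the Lie algebra with these brackets over a field of Laurent series
k((t)), k algebraically closed of odd characteristic, t the variable; this row states its
restrictability over every commutative ring of odd prime characteristic and every t.) -/
theorem result (R : Type u) [CommRing R] (p : ℕ) [Fact p.Prime] [CharP R p] (hp : p ≠ 2)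
    (t : R) (L : Type v) [LieRing L] [LieAlgebra R L] (bs : Module.Basis (Fin 3) R L)
    (hxy : ⁅bs 0, bs 1⁆ = bs 2) (hxz : ⁅bs 0, bs 2⁆ = t • bs 1) (hyz : ⁅bs 1, bs 2⁆ = 0) :
    ∃ φ : PLie.PMap R p L, φ (bs 0) = t ^ ((p - 1) / 2) • bs 0 ∧ φ (bs 1) = 0 ∧ φ (bs 2) = 0 := by
  have hpr := (Fact.out : p.Prime)
  obtain ⟨k, hk⟩ : ∃ k, p = 2 * k + 1 := ⟨p / 2, by have := hpr.eq_two_or_odd; omega⟩
  have hyx : ⁅bs 1, bs 0⁆ = -bs 2 := by rw [← lie_skew, hxy]
  have hzx : ⁅bs 2, bs 0⁆ = -(t • bs 1) := by rw [← lie_skew, hxz]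
  have hzy : ⁅bs 2, bs 1⁆ = (0 : L) := by rw [← lie_skew, hyz, neg_zero]
  have key : ∀ v : L, ⁅v, ⁅v, bs 0⁆⁆ = 0 → ⁅v, ⁅v, bs 1⁆⁆ = 0 → ⁅v, ⁅v, bs 2⁆⁆ = 0 → LieAlgebra.ad R L v ^ p = 0 := by
    intro v h0 h1 h2
    obtain ⟨n, hn⟩ : ∃ n, p = n + 2 := ⟨p - 2, by have := hpr.two_le; omega⟩
    rw [hn, pow_add]
    refine (congrArg (fun e => LieAlgebra.ad R L v ^ n * e) ?_).trans (mul_zero _)
    refine bs.ext fun j => ?_
    fin_cases j <;> simpa [pow_two]
  have hx : LieAlgebra.ad R L (bs 0) ^ p = t ^ ((p - 1) / 2) • LieAlgebra.ad R L (bs 0) := by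
    rw [show (p - 1) / 2 = k by omega]
    have h3 : ∀ j, LieAlgebra.ad R L (bs 0) (LieAlgebra.ad R L (bs 0) (LieAlgebra.ad R L (bs 0) (bs j))) =
        t • LieAlgebra.ad R L (bs 0) (bs j) := by
      intro j
      fin_cases j <;> simp [hxy, hxz, smul_smul]
    have h3' : LieAlgebra.ad R L (bs 0) ^ 3 = t • LieAlgebra.ad R L (bs 0) := by
      refine bs.ext fun j => ?_
      simpa [pow_succ', Module.End.mul_apply] using h3 j
    rw [hk]
    clear hk
    induction k with
    | zero => simp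
    | succ k ih =>
      rw [show 2 * (k + 1) + 1 = 2 * k + 1 + 2 by ring, pow_add, ih, smul_mul_assoc, ← pow_succ', h3', smul_smul, ← pow_succ]
  obtain ⟨φ, hφ, -⟩ := PLieJacobson.existsUnique_pmap (p := p) bs ![t ^ ((p - 1) / 2) • bs 0, 0, 0] fun i => by
    fin_cases i
    · simpa using hx
    · show LieAlgebra.ad R L (bs 1) ^ p = LieAlgebra.ad R L (0 : L)
      rw [map_zero, key (bs 1) (by simp [hyx, hyz]) (by simp) (by simp [hyz])]
    · show LieAlgebra.ad R L (bs 2) ^ p = LieAlgebra.ad R L (0 : L)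
      rw [map_zero, key (bs 2) (by simp [hzx, hzy]) (by simp [hzy]) (by simp)]
  exact ⟨φ, hφ 0, hφ 1, hφ 2⟩

end Groth.Agent.S13779
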