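import Groth.Statements.S13780
import Groth.Agent.Lib.PLieExt
import Mathlib.Algebra.Lie.Solvable
import Mathlib.Algebra.Lie.Semisimple.Basic
import Mathlib.Algebra.Lie.Engel
import Mathlib.Algebra.Lie.Abelian
import Mathlib.LinearAlgebra.Basis.Basic
import Mathlib.Tactic.FinCases
import Mathlib.Tactic.LinearCombination
import Mathlib.Tactic.Module

set_option autoImplicit false
universe u v w
open PLie

namespace Groth.Agent.S13780

/-- Let R be a commutative ring of prime characteristic p, L and L' Lie algebras over R with p-mappings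
γ and γ', the centre of L' being zero, and φ : L ≃ L' an isomorphism of Lie algebras over R. Then φ
(γ x) = γ' (φ x) for every x: φ is an isomorphism of p-Lie algebras. (The published statement is the
case L' = L of a centreless restrictable Lie algebra over a field with its unique p-mapping and a
Lie algebra automorphism; this row allows two algebras and any commutative base ring of
characteristic p.) -/
theorem result (R : Type u) [CommRing R] (p : ℕ) [Fact p.Prime] [CharP R p]
    (L : Type v) [LieRing L] [LieAlgebra R L] (L' : Type w) [LieRing L'] [LieAlgebra R L']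
    (γ : PLie.PMap R p L) (γ' : PLie.PMap R p L') (hZ : LieAlgebra.center R L' = ⊥) (φ : L ≃ₗ⁅R⁆ L') :
    PLie.IsPHom γ γ' φ.toLieHom := by
  intro x
  refine sub_eq_zero.1 ?_
  have : φ.toLieHom (γ.toFun x) - γ'.toFun (φ.toLieHom x) ∈ LieAlgebra.center R L' := by
    rw [LieModule.mem_maxTrivSubmodule]
    intro y
    obtain ⟨z, rfl⟩ := φ.surjective y
    have hpow : ∀ n, (LieAlgebra.ad R L' (φ.toLieHom x) ^ n) (φ.toLieHom z) = φ.toLieHom ((LieAlgebra.ad R L x ^ n) z) := by
      intro n
      induction n with
      | zero => rfl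
      | succ n ih =>
        rw [pow_succ', pow_succ', Module.End.mul_apply, Module.End.mul_apply, ih, LieAlgebra.ad_apply, LieAlgebra.ad_apply,
          LieHom.map_lie]
    have h1 : ⁅φ.toLieHom (γ.toFun x), φ.toLieHom z⁆ = ⁅γ'.toFun (φ.toLieHom x), φ.toLieHom z⁆ := by
      rw [← LieHom.map_lie]
      have e1 : ⁅γ.toFun x, z⁆ = (LieAlgebra.ad R L x ^ p) z := by rw [← γ.ad_map]; rfl
      have e2 : ⁅γ'.toFun (φ.toLieHom x), φ.toLieHom z⁆ = (LieAlgebra.ad R L' (φ.toLieHom x) ^ p) (φ.toLieHom z) := by
        rw [← γ'.ad_map]; rfl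
      rw [e1, e2, hpow]
    show ⁅φ.toLieHom z, _⁆ = 0
    rw [lie_sub, sub_eq_zero, ← lie_skew, ← lie_skew (φ.toLieHom z), h1]
  rw [hZ, LieSubmodule.mem_bot] at this
  exact this

end Groth.Agent.S13780
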