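import Mathlib
import Groth.Statements.S13781
import Groth.Agent.Lib.RegularQuotient
import Groth.Agent.Lib.RegularLocalSerre
-- import your own Groth.Agent.* helpers here

set_option autoImplicit false
universe u
open CAlg

namespace Groth.Agent.S13781

/-- Let A be a regular local ring, s a non-zero element of A such that A/(s) is regular, and e a
positive integer invertible in A. Then A[t]/(t^e - s) is regular. (Regularity of a ring is taken
throughout as: Noetherian, with every localization at a prime ideal a regular local ring; the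
hypotheses on A and on A/(s) and the conclusion on A[t]/(t^e - s) are all read this way, which for
the local rings A and A/(s) is the usual notion once localizations of regular local rings are known
to be regular.) -/
theorem result (A : Type u) [CommRing A] [IsLocalRing A]
    [IsRegularRing A] (s : A) (hs : s ≠ 0) (hreg : IsRegularRing (A ⧸ Ideal.span {s}))
    (e : ℕ) (he : 0 < e) (heu : IsUnit (e : A)) :
    IsRegularRing (AdjoinRoot (Polynomial.X ^ e - Polynomial.C s)) := by
  classical
  haveI : IsRegularLocalRing A := IsRegularLocalRing.of_isRegularRing_of_isLocalRing A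
  haveI : IsDomain A := Groth.Agent.RegLocal.isDomain (R := A)
  haveI : IsNoetherianRing A := inferInstance
  set f : Polynomial A := Polynomial.X ^ e - Polynomial.C s with hf
  show IsRegularRing (Polynomial A ⧸ Ideal.span ({f} : Set (Polynomial A)))
  set B := Polynomial A ⧸ Ideal.span ({f} : Set (Polynomial A)) with hB
  let π : Polynomial A →+* B := Ideal.Quotient.mk _
  let x : B := π Polynomial.X
  have hπf : π f = 0 := Ideal.Quotient.eq_zero_iff_mem.mpr (Ideal.mem_span_singleton_self f)
  have hf0 : f.eval 0 = -s := by simp [f, zero_pow he.ne']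
  have hxreg : x ∈ nonZeroDivisors B := by
    refine mem_nonZeroDivisors_iff_right.mpr fun b hb => ?_
    obtain ⟨g, rfl⟩ := Ideal.Quotient.mk_surjective b
    rw [← map_mul, Ideal.Quotient.eq_zero_iff_mem, Ideal.mem_span_singleton] at hb
    obtain ⟨h, hh⟩ := hb
    have h0 : h.coeff 0 = 0 := by
      have := congrArg (Polynomial.eval 0) hh
      rw [Polynomial.eval_mul, Polynomial.eval_mul, Polynomial.eval_X, mul_zero, hf0] at this
      rcases mul_eq_zero.mp this.symm with h1 | h1
      · exact absurd (neg_eq_zero.mp h1) hs
      · rw [Polynomial.coeff_zero_eq_eval_zero]; exact h1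
    obtain ⟨h', rfl⟩ := Polynomial.X_dvd_iff.mpr h0
    refine Ideal.Quotient.eq_zero_iff_mem.mpr (Ideal.mem_span_singleton.mpr ⟨h', ?_⟩)
    exact mul_right_cancel₀ Polynomial.X_ne_zero (hh.trans (by ring))
  let φ : B →+* A ⧸ Ideal.span {s} := Ideal.Quotient.lift _
    ((Ideal.Quotient.mk (Ideal.span {s})).comp (Polynomial.evalRingHom 0)) (by
      intro g hg
      obtain ⟨h, rfl⟩ := Ideal.mem_span_singleton.mp hg
      simp [hf0, Ideal.Quotient.eq_zero_iff_mem.mpr (Ideal.mem_span_singleton_self s)])
  have hφπ : ∀ g, φ (π g) = Ideal.Quotient.mk (Ideal.span {s}) (g.eval 0) := fun g => rfl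
  have hφ : Function.Surjective φ := fun z => by
    obtain ⟨a, rfl⟩ := Ideal.Quotient.mk_surjective z
    exact ⟨π (Polynomial.C a), by rw [hφπ, Polynomial.eval_C]⟩
  have hker : RingHom.ker φ = Ideal.span {x} := by
    refine le_antisymm (fun b hb => ?_) ((Ideal.span_singleton_le_iff_mem _).mpr (by rw [RingHom.mem_ker, hφπ, Polynomial.eval_X, map_zero]))
    obtain ⟨g, rfl⟩ := Ideal.Quotient.mk_surjective b
    have h1 : g.eval 0 ∈ Ideal.span {s} := Ideal.Quotient.eq_zero_iff_mem.mp ((hφπ g).symm.trans hb)
    obtain ⟨a, ha⟩ := Ideal.mem_span_singleton.mp h1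
    rw [← Polynomial.X_mul_divX_add g, Polynomial.coeff_zero_eq_eval_zero, ha, map_add, map_mul]
    refine add_mem (Ideal.mul_mem_right _ _ (Ideal.mem_span_singleton_self x)) ?_
    have hCs : π (Polynomial.C s) = x ^ e := by
      rw [← sub_eq_zero, ← map_pow, ← map_sub, ← neg_sub, map_neg, neg_eq_zero]
      exact hπf
    rw [map_mul, map_mul, show Ideal.Quotient.mk _ (Polynomial.C s) = x ^ e from hCs]
    exact Ideal.mul_mem_right _ _ (Ideal.pow_mem_of_mem _ (Ideal.mem_span_singleton_self x) e he)
  haveI : IsRegularRing (B ⧸ Ideal.span {x}) := by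
    haveI := hreg
    exact IsRegularRing.of_ringEquiv ((Ideal.quotEquivOfEq hker.symm).trans (RingHom.quotientKerEquivOfSurjective hφ)).symm
  refine isRegularRing_iff.mpr fun P hP => ?_
  let q := P.comap π
  have hfq : f ∈ q := by rw [Ideal.mem_comap, hπf]; exact P.zero_mem
  let D : Derivation ℤ (Polynomial A) (Polynomial A) := (Polynomial.derivative' (R := A)).restrictScalars ℤ
  have hDf : D f = Polynomial.C (e : A) * Polynomial.X ^ (e - 1) := by
    show Polynomial.derivative f = _
    simp [f, Polynomial.derivative_X_pow]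
  by_cases hDq : D f ∈ q
  · have hX : Polynomial.X ∈ q := by
      rw [hDf] at hDq
      rcases (inferInstance : q.IsPrime).mem_or_mem hDq with h | h
      · exact absurd (Ideal.eq_top_of_isUnit_mem _ h (heu.map _)) (Ideal.IsPrime.ne_top inferInstance)
      · exact (inferInstance : q.IsPrime).mem_of_pow_mem _ h
    have hxP : Ideal.span {x} ≤ P := (Ideal.span_singleton_le_iff_mem _).mpr hX
    let P' : Ideal (B ⧸ Ideal.span {x}) := P.map (Ideal.Quotient.mk _)
    haveI : P'.IsPrime := Ideal.map_isPrime_of_surjective Ideal.Quotient.mk_surjective (by rw [Ideal.mk_ker]; exact hxP)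
    have hP' : P'.comap (Ideal.Quotient.mk _) = P := by
      rw [Ideal.comap_map_of_surjective' _ Ideal.Quotient.mk_surjective, Ideal.mk_ker, sup_eq_left.mpr hxP]
    have hq := IsRegularLocalRing.of_ringEquiv (Groth.Agent.RegLocal.quotientLocalizationEquiv (Ideal.span {x}) P hxP P' hP')
    rw [Ideal.map_span, Set.image_singleton] at hq
    haveI := hq
    refine Groth.Agent.RegLocal.regular_of_quotient (x := algebraMap B (Localization.AtPrime P) x) ?_ ?_
    · rw [← Localization.AtPrime.map_eq_maximalIdeal]; exact Ideal.mem_map_of_mem _ hX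
    · exact IsLocalization.map_nonZeroDivisors_le P.primeCompl _ (Submonoid.mem_map_of_mem _ hxreg)
  · have hm : algebraMap (Polynomial A) (Localization.AtPrime q) f ∈ IsLocalRing.maximalIdeal _ := by
      rw [← Localization.AtPrime.map_eq_maximalIdeal]
      exact Ideal.mem_map_of_mem _ hfq
    obtain ⟨hr, -⟩ := Groth.Agent.RegLocal.quotient_singleton hm (Groth.Agent.RegLocal.notMem_sq_of_derivation _ f D hfq hDq)
    have he' : (Ideal.span {f}).map (algebraMap (Polynomial A) (Localization.AtPrime q)) =
        Ideal.span {algebraMap (Polynomial A) (Localization.AtPrime q) f} := by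
      rw [Ideal.map_span, Set.image_singleton]
    haveI : IsRegularLocalRing (Localization.AtPrime q ⧸ (Ideal.span {f}).map (algebraMap (Polynomial A) (Localization.AtPrime q))) := by
      rw [he']
      exact hr
    exact IsRegularLocalRing.of_ringEquiv (Groth.Agent.RegLocal.quotientLocalizationEquiv (Ideal.span {f}) _
      ((Ideal.span_singleton_le_iff_mem _).mpr hfq) P rfl).symm

end Groth.Agent.S13781
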