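import Mathlib
import Groth.Statements.S13782
import Groth.Agent.Lib.H4SmoothDiv
-- import your own Groth.Agent.* helpers here

set_option autoImplicit false
universe u
open CAlg

namespace Groth.Agent.S13782

/-- Let k be a field, A a smooth k-algebra, s an irreducible element of A and e an integer, at least 2,
that is invertible in k. Then the k-algebra A[t]/(t^e - s) is smooth exactly when the quotient ring
A/(s) is a smooth k-algebra. (Smooth over k means formally smooth and of finite presentation over
k.) -/
theorem result (k A : Type u) [Field k] [CommRing A] [Algebra k A]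
    [Algebra.Smooth k A] (s : A) (hs : Irreducible s) (e : ℕ) (he : 2 ≤ e) (hek : (e : k) ≠ 0) :
    Algebra.Smooth k (AdjoinRoot (Polynomial.X ^ e - Polynomial.C s)) ↔
      Algebra.Smooth k (A ⧸ Ideal.span {s}) := by
  classical
  haveI : Algebra.FormallySmooth k A := inferInstance
  haveI : Algebra.FormallySmooth k (Polynomial A) := Algebra.FormallySmooth.comp k A (Polynomial A)
  set f : Polynomial A := Polynomial.X ^ e - Polynomial.C s with hf
  haveI : Algebra.FinitePresentation k A := inferInstance
  have he0 : e ≠ 0 := by omega
  constructor
  · intro hB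
    haveI : Algebra.FormallySmooth k (Polynomial A ⧸ Ideal.span {f}) := hB.formallySmooth
    obtain ⟨D', a, hD'⟩ := H4SmoothDiv.exists_derivation (k := k) f
    have hfm : f.Monic := Polynomial.monic_X_pow_sub_C s he0
    have h1 : D' f = 1 + a * f := by
      have h4 : (D' f - 1 - a * f) * f = 0 := by linear_combination hD'
      have := (mem_nonZeroDivisors_iff_right.mp hfm.mem_nonZeroDivisors) _ h4
      linear_combination this
    let D : Derivation k A A := -((Polynomial.leval (R := A) 0).compDer (D'.compAlgebraMap A))
    have hDs : D s - 1 ∈ Ideal.span {s} := by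
      have h2 := congrArg (Polynomial.eval 0) h1
      have hf0 : f.eval 0 = -s := by simp [f, zero_pow he0]
      have h3 : (D' f).eval 0 = D s := by
        show (D' f).eval 0 = -(Polynomial.eval 0 (D' (Polynomial.C s)))
        rw [hf, map_sub, Derivation.leibniz_pow, Polynomial.eval_sub]
        simp [zero_pow (show e - 1 ≠ 0 by omega)]
      rw [h3, Polynomial.eval_add, Polynomial.eval_one, Polynomial.eval_mul, hf0] at h2
      exact Ideal.mem_span_singleton'.mpr ⟨-(a.eval 0), by rw [h2]; ring⟩
    exact { formallySmooth := H4SmoothDiv.of_derivation s D hDs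
            finitePresentation := Algebra.FinitePresentation.quotient (Submodule.fg_span_singleton s) }
  · intro hQ
    haveI : Algebra.FormallySmooth k (A ⧸ Ideal.span {s}) := hQ.formallySmooth
    obtain ⟨D, a, hD⟩ := H4SmoothDiv.exists_derivation (k := k) s
    obtain ⟨u, hu⟩ : ∃ u, u = D s - 1 - a * s := ⟨_, rfl⟩
    have hus : u * s = 0 := by rw [hu]; linear_combination hD
    have hDu : u * (1 + u) + s * D u = 0 := by
      have h := congrArg D hus
      rw [Derivation.leibniz, map_zero, smul_eq_mul, smul_eq_mul] at h
      linear_combination h + u * hu - a * hus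
    have hu3 : u * u * (1 + u) = 0 := by linear_combination u * hDu - D u * hus
    have hw : u * u * (u * u) = u * u := by linear_combination (u - 1) * hu3
    have hws : u * u * s = 0 := by linear_combination u * hus
    have hfac : s = (s + u * u) * (1 - u * u) := by linear_combination hws + hw
    have hw0 : u * u = 0 := by
      have hkey : IsUnit (1 - u * u) → u * u = 0 := fun h1 => h1.mul_left_eq_zero.mp (by linear_combination -hw)
      rcases hs.isUnit_or_isUnit hfac with h1 | h1
      · have hirr : Irreducible (1 - u * u) := (irreducible_isUnit_mul h1).mp (hfac ▸ hs)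
        refine hkey ?_
        rcases hirr.isUnit_or_isUnit (show 1 - u * u = (1 - u * u) * (1 - u * u) by linear_combination -hw) with h2 | h2 <;>
          exact h2
      · exact hkey h1
    obtain ⟨c, hc⟩ : ∃ c, D s = 1 + c * s := ⟨a - D u, by linear_combination hDu - hw0 - hu⟩
    have hcomp : ∀ (Dc : Derivation k (Polynomial A) (Polynomial A)), Dc (Polynomial.C s) = Polynomial.C (D s) →
        Dc Polynomial.X = 0 → ∃ D'' : Derivation k (Polynomial A) (Polynomial A), D'' f - 1 ∈ Ideal.span {f} := by
      intro Dc hCs hX
      have hei : IsUnit (e : A) := by rw [← map_natCast (algebraMap k A)]; exact (Ne.isUnit hek).map _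
      obtain ⟨ei, hei'⟩ := hei.exists_left_inv
      refine ⟨-(Dc + (Polynomial.C (c * ei) * Polynomial.X) •
        ((Polynomial.derivative' (R := A)).restrictScalars k)), Ideal.mem_span_singleton'.mpr ⟨-Polynomial.C c, ?_⟩⟩
      have hde : ((Polynomial.derivative' (R := A)).restrictScalars k) f = Polynomial.C (e : A) * Polynomial.X ^ (e - 1) := by
        show Polynomial.derivative f = _
        simp [f, Polynomial.derivative_X_pow]
      rw [Derivation.neg_apply, Derivation.add_apply, Derivation.smul_apply, smul_eq_mul, hde, hf, map_sub,
        Derivation.leibniz_pow, hX, smul_zero, smul_zero, hCs, hc, map_add, map_mul, Polynomial.C_1, map_mul]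
      obtain ⟨e', rfl⟩ : ∃ e', e = e' + 1 := ⟨e - 1, by omega⟩
      rw [Nat.add_sub_cancel]
      have h5 : Polynomial.C ei * Polynomial.C ((e' + 1 : ℕ) : A) = (1 : Polynomial A) := by
        rw [← map_mul, hei', Polynomial.C_1]
      linear_combination (Polynomial.C c * Polynomial.X ^ (e' + 1)) * h5
    obtain ⟨D'', hD''⟩ := hcomp ((PolynomialModule.equivPolynomialSelf (R := A)).toLinearMap.compDer D.mapCoeffs)
      (by simp [PolynomialModule.equivPolynomialSelf, Derivation.mapCoeffs_C]) (by simp [Derivation.mapCoeffs_X])
    exact { formallySmooth := H4SmoothDiv.of_derivation f D'' hD''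
            finitePresentation := AdjoinRoot.finitePresentation _ }

end Groth.Agent.S13782
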