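import Groth.Statements.S13784
import Mathlib

set_option autoImplicit false
universe u
open CAlg

namespace Groth.Agent.S13784
open RingTheory.Sequence IsLocalRing
set_option linter.style.haveILetI false

/-- Let A be a commutative local ring and G a finite subgroup of Aˣ. If the order of G is invertible in
A, then G is cyclic. -/
theorem result {A : Type u} [CommRing A] [IsLocalRing A]
    (G : Subgroup Aˣ) [Finite G] (hG : IsUnit ((Nat.card G : ℕ) : A)) : IsCyclic G := by
  let f : G →* ResidueField A := (residue A).toMonoidHom.comp ((Units.coeHom A).comp G.subtype)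
  refine isCyclic_of_injective_ringHom f ((injective_iff_map_eq_one f).2 fun g hg => ?_)
  let u : A := ((g : Aˣ) : A)
  have hu : residue A u = 1 := hg
  have hN : u ^ Nat.card G = 1 := by
    rw [show u = ((g : Aˣ) : A) from rfl, ← Units.val_pow_eq_pow_val, ← SubgroupClass.coe_pow, pow_card_eq_one']
    rfl
  have hs : IsUnit (∑ i ∈ Finset.range (Nat.card G), u ^ i) := by
    rw [← residue_ne_zero_iff_isUnit, map_sum]
    simp only [map_pow, hu, one_pow, Finset.sum_const, Finset.card_range, nsmul_eq_mul, mul_one]
    rw [← map_natCast (residue A), residue_ne_zero_iff_isUnit]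
    exact hG
  have h0 := geom_sum_mul u (Nat.card G)
  rw [hN, sub_self] at h0
  exact Subtype.ext (Units.ext (sub_eq_zero.1 (hs.mul_right_eq_zero.1 h0)))

end Groth.Agent.S13784
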