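import Groth.Statements.S13788
import Mathlib
import Groth.Agent.Lib.H6.UnitsGL

set_option autoImplicit false
set_option backward.isDefEq.respectTransparency.types false
set_option maxHeartbeats 1000000
set_option linter.all false
universe u
open CAlg

namespace Groth.Agent.S13788
open Groth.Agent

/-- Units of GL_n: let A be a nonzero commutative ring whose only idempotents are 0 and 1, let n ≥ 1,
let det be the determinant of the generic n × n matrix in the polynomial ring A[X] in its n²
entries, and let A[X, 1/det] be the coordinate ring of GL_n over A. The homomorphism Aˣ × ℤ → (A[X,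
1/det])ˣ, (a, e) ↦ a · det^e, is bijective if and only if A is reduced. (The published statement
allows Spec A disconnected, with exponents locally constant ℤ-valued functions on Spec A; this row
is the connected case, to which the published proof reduces.) -/
theorem result (A : Type u) [CommRing A] [Nontrivial A]
    (hconn : ∀ e : A, IsIdempotentElem e → e = 0 ∨ e = 1) (n : ℕ) (hn : 0 < n) :
    Function.Bijective (fun p : Aˣ × ℤ =>
        Units.map (algebraMap A (Localization.Away (Matrix.mvPolynomialX (Fin n) (Fin n) A).det)).toMonoidHom p.1 *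
          (IsLocalization.Away.algebraMap_isUnit (S := Localization.Away (Matrix.mvPolynomialX (Fin n) (Fin n) A).det)
            (Matrix.mvPolynomialX (Fin n) (Fin n) A).det).unit ^ p.2) ↔ IsReduced A := by
    classical
    constructor
    · intro hbij
      by_contra hred
      obtain ⟨ε, hε, hε0⟩ : ∃ ε : A, ε * ε = 0 ∧ ε ≠ 0 := by
        simp only [isReduced_iff_pow_one_lt 2 Nat.one_lt_two, not_forall] at hred
        obtain ⟨ε, hε, hε0⟩ := hred
        exact ⟨ε, by rw [← sq]; exact hε, hε0⟩
      let ij : Fin n × Fin n := (⟨0, hn⟩, ⟨0, hn⟩)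
      let z : MvPolynomial (Fin n × Fin n) A := MvPolynomial.C ε * MvPolynomial.X ij
      have hz : z * z = 0 := by
        simp only [z]
        rw [mul_mul_mul_comm, ← map_mul, hε, map_zero, zero_mul]
      have hu : IsUnit (1 + z) := IsUnit.of_mul_eq_one (1 - z) (by ring_nf; rw [sq, hz, sub_zero])
      obtain ⟨⟨a, e⟩, hae⟩ := hbij.2 (hu.map (algebraMap _ (Localization.Away (H6UnitsGL.D A n)))).unit
      obtain ⟨p, q, rfl, h1⟩ := H6UnitsGL.mk_eq A n a e
      simp only at hae
      rw [hae, IsUnit.unit_spec, ← map_mul] at h1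
      have h4 := IsLocalization.injective (Localization.Away (H6UnitsGL.D A n))
        (Submonoid.powers_le.2 (S13785.result A n)) h1
      obtain ⟨m, hm, hεm⟩ : ∃ m : Ideal A, m.IsMaximal ∧ ε ∈ m := by
        refine exists_max_ideal_of_mem_nonunits fun hεu => hε0 ?_
        exact hεu.mul_left_eq_zero.1 hε
      haveI := hm
      have hmap : MvPolynomial.map (Ideal.Quotient.mk m) (1 + z) = 1 := by
        simp [z, Ideal.Quotient.eq_zero_iff_mem.2 hεm]
      have h5 := congrArg (MvPolynomial.map (Ideal.Quotient.mk m)) h4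
      simp only [map_mul, map_pow, H6UnitsGL.map_D, hmap, one_mul, MvPolynomial.map_C] at h5
      have hpq := (H6UnitsGL.pow_eq (A ⧸ m) n hn h5.symm).1
      subst hpq
      have h6 : (1 + z - MvPolynomial.C (a : A)) * H6UnitsGL.D A n ^ p = 0 := by
        rw [sub_mul, h4, sub_self]
      have h7 := ((mem_nonZeroDivisors_iff_right).1 (Submonoid.pow_mem _ (S13785.result A n) p)) _ h6
      have h8 := congrArg (MvPolynomial.coeff (Finsupp.single ij 1)) h7
      have hs : (Finsupp.single ij 1 : (Fin n × Fin n) →₀ ℕ) ≠ 0 := by simp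
      simp [z, MvPolynomial.coeff_one, MvPolynomial.coeff_C, hs.symm, MvPolynomial.coeff_C_mul] at h8
      exact hε0 h8
    · intro hred
      refine ⟨H6UnitsGL.injective A n hn, fun u => ?_⟩
      obtain ⟨m, g, hg⟩ : ∃ (m : ℕ) (g : MvPolynomial (Fin n × Fin n) A), (u : Localization.Away (H6UnitsGL.D A n)) *
          algebraMap _ _ (H6UnitsGL.D A n ^ m) = algebraMap _ _ g := IsLocalization.Away.surj (H6UnitsGL.D A n) (u : Localization.Away (H6UnitsGL.D A n)) |>.imp fun m ⟨g, hg⟩ => ⟨g, by rw [map_pow]; exact hg⟩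
      obtain ⟨l, h, hh⟩ : ∃ (l : ℕ) (h : MvPolynomial (Fin n × Fin n) A), ((u⁻¹ :) : Localization.Away (H6UnitsGL.D A n)) *
          algebraMap _ _ (H6UnitsGL.D A n ^ l) = algebraMap _ _ h := IsLocalization.Away.surj (H6UnitsGL.D A n) ((u⁻¹ :) : Localization.Away (H6UnitsGL.D A n)) |>.imp fun m ⟨g, hg⟩ => ⟨g, by rw [map_pow]; exact hg⟩
      have hgh : g * h = H6UnitsGL.D A n ^ (m + l) := IsLocalization.injective (Localization.Away (H6UnitsGL.D A n))
        (Submonoid.powers_le.2 (S13785.result A n)) (by
          rw [map_mul, ← hg, ← hh, pow_add, map_mul, mul_mul_mul_comm, Units.mul_inv, one_mul])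
      obtain ⟨c, i, rfl⟩ := H6UnitsGL.factor A n hn hconn g h _ hgh
      refine ⟨(c, (i : ℤ) - m), Units.ext ?_⟩
      obtain ⟨p, q, he, h1⟩ := H6UnitsGL.mk_eq A n c ((i : ℤ) - m)
      have hDu : ∀ k, IsUnit (algebraMap (MvPolynomial (Fin n × Fin n) A) (Localization.Away (H6UnitsGL.D A n)) (H6UnitsGL.D A n ^ k)) := fun k => by
        rw [map_pow]; exact (IsLocalization.Away.algebraMap_isUnit (H6UnitsGL.D A n)).pow k
      refine ((hDu m).mul (hDu q)).mul_right_cancel ?_
      rw [← mul_assoc _ (algebraMap _ _ (H6UnitsGL.D A n ^ m)), ← mul_assoc _ (algebraMap _ _ (H6UnitsGL.D A n ^ m)), hg, mul_right_comm]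
      show (_ * algebraMap _ _ _) * _ = _
      rw [h1, ← map_mul, ← map_mul, mul_assoc, mul_assoc, ← pow_add, ← pow_add, show p + m = i + q by omega]

end Groth.Agent.S13788
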