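import Groth.Statements.S13789
import Mathlib

set_option autoImplicit false
universe u
open CAlg

namespace Groth.Agent.S13789
open scoped TensorProduct
set_option linter.style.haveILetI false

/-- Let A be a commutative ring with total ring of fractions Q and let B be a ring with A ⊆ B ⊆ Q. Then
the inclusion A ⊆ B carries nonzerodivisors of A to nonzerodivisors of B, and every nonzerodivisor
of B has the form r/u with r and u nonzerodivisors of A. -/
theorem result {A Q : Type u} [CommRing A] [CommRing Q] [Algebra A Q] [IsFractionRing A Q] (B : Subalgebra A Q) :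
    (∀ a : A, a ∈ nonZeroDivisors A → algebraMap A B a ∈ nonZeroDivisors B) ∧
    (∀ b : B, b ∈ nonZeroDivisors B → ∃ r u : A, r ∈ nonZeroDivisors A ∧ u ∈ nonZeroDivisors A ∧
      (b : Q) * algebraMap A Q u = algebraMap A Q r) := by
  have h1 : ∀ a : A, a ∈ nonZeroDivisors A → algebraMap A B a ∈ nonZeroDivisors B := fun a ha => by
    rw [mem_nonZeroDivisors_iff_right]
    intro x hx
    have := congrArg Subtype.val hx
    exact Subtype.ext ((IsLocalization.map_units Q (⟨a, ha⟩ : nonZeroDivisors A)).mul_left_eq_zero.1 this)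
  refine ⟨h1, fun b hb => ?_⟩
  obtain ⟨⟨r, u⟩, hru⟩ := IsLocalization.surj (nonZeroDivisors A) (b : Q)
  refine ⟨r, u, ?_, u.2, hru⟩
  rw [mem_nonZeroDivisors_iff_right]
  intro x hx
  have h2 : algebraMap A B (x * u) * b = 0 := Subtype.ext (by
    show algebraMap A Q (x * u) * (b : Q) = 0
    rw [map_mul, mul_assoc, mul_comm _ (b : Q), hru, ← map_mul, hx, map_zero])
  have h3 : algebraMap A Q (x * u) = 0 := congrArg Subtype.val ((mem_nonZeroDivisors_iff_right.1 hb) _ h2)
  rw [map_mul] at h3
  exact IsFractionRing.injective A Q (((IsLocalization.map_units Q u).mul_left_eq_zero.1 h3).trans (map_zero _).symm)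

end Groth.Agent.S13789
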