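import Groth.Statements.S13790
import Mathlib

set_option autoImplicit false
universe u
open CAlg

namespace Groth.Agent.S13790
set_option linter.style.haveILetI false
open TensorProduct Polynomial

/-- Let A be a commutative ring with total ring of fractions Q and let B be a ring with A ⊆ B ⊆ Q. Then
Q, with the inclusion B ⊆ Q, is the total ring of fractions of B. -/
theorem result {A Q : Type u} [CommRing A] [CommRing Q] [Algebra A Q] [IsFractionRing A Q] (B : Subalgebra A Q) :
    IsFractionRing B Q := by
  constructor
  constructor
  · rintro ⟨b, hb⟩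
    obtain ⟨⟨a, s⟩, hs⟩ := IsLocalization.surj (nonZeroDivisors A) (b : Q)
    have ha : a ∈ nonZeroDivisors A := by
      rw [mem_nonZeroDivisors_iff_right]
      intro x hx
      have hinj := IsFractionRing.injective A Q
      have h1 : (algebraMap A B x) * b = 0 := by
        apply Subtype.ext
        have h2 : algebraMap A Q x * ((b : Q) * algebraMap A Q s) = 0 := by rw [hs, ← map_mul, hx, map_zero]
        rw [← mul_assoc] at h2
        exact (IsLocalization.map_units Q s).mul_left_eq_zero.1 h2
      have := hb.2 _ h1
      exact hinj (by rw [map_zero]; exact congrArg Subtype.val this)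
    have := IsLocalization.map_units Q (⟨a, ha⟩ : nonZeroDivisors A)
    rw [← hs] at this
    exact isUnit_of_mul_isUnit_left this
  · intro z
    obtain ⟨⟨a, s⟩, hs⟩ := IsLocalization.surj (nonZeroDivisors A) z
    refine ⟨⟨algebraMap A B a, ⟨algebraMap A B s, ?_⟩⟩, hs⟩
    rw [mem_nonZeroDivisors_iff_right]
    intro x hx
    exact Subtype.ext ((IsLocalization.map_units Q s).mul_left_eq_zero.1 (congrArg Subtype.val hx))
  · intro x y h
    exact ⟨1, by rw [Subtype.ext (show (x : Q) = y from h)]⟩

end Groth.Agent.S13790
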