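import Groth.Statements.S13801
import Mathlib

set_option autoImplicit false
set_option backward.isDefEq.respectTransparency.types false
set_option maxHeartbeats 1000000
set_option linter.all false
open ChowMon

namespace Groth.Agent.S13801
open Groth.Agent

/-- For a prime p and positive natural numbers a_1, ..., a_k with sum n one has v_p(a_1!) + ... +
v_p(a_k!) ≤ v_p(n!), and the inequality is strict whenever some a_i is not divisible by p^(v_p(n)). -/
theorem result {k : ℕ} (p : ℕ) [Fact p.Prime]
    (a : Fin k → ℕ) (ha : ∀ i, 0 < a i) :
    (∑ i, padicValNat p (a i).factorial ≤ padicValNat p (∑ i, a i).factorial) ∧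
      ((∃ i, ¬ p ^ padicValNat p (∑ j, a j) ∣ a i) →
        ∑ i, padicValNat p (a i).factorial < padicValNat p (∑ i, a i).factorial) := by
    classical
    have hfp : ∀ (s : Finset (Fin k)) (g : Fin k → ℕ), (∀ i ∈ s, g i ≠ 0) → padicValNat p (∏ i ∈ s, g i) = ∑ i ∈ s, padicValNat p (g i) := by
      intro s g hg
      induction s using Finset.induction_on with
      | empty => simp
      | insert x t hx ih =>
        rw [Finset.prod_insert hx, Finset.sum_insert hx, padicValNat.mul (hg x (Finset.mem_insert_self x t))
          (Finset.prod_ne_zero_iff.2 fun i hi => hg i (Finset.mem_insert_of_mem hi)), ih fun i hi => hg i (Finset.mem_insert_of_mem hi)]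
    have hld : ∀ {x y : ℕ}, y ≠ 0 → x ∣ y → padicValNat p x ≤ padicValNat p y := by
      intro x y hy h
      exact (padicValNat_dvd_iff_le hy).1 (pow_padicValNat_dvd.trans h)
    set n := ∑ i, a i with hn
    have h1 : (∑ i, padicValNat p (a i).factorial) = padicValNat p (∏ i, (a i).factorial) := by
      rw [hfp _ _ fun i _ => (Nat.factorial_pos _).ne']
    have hle := hld (Nat.factorial_pos n).ne' (Nat.prod_factorial_dvd_factorial_sum Finset.univ a)
    refine ⟨h1 ▸ hle, fun ⟨i, hi⟩ => ?_⟩
    have hi' : padicValNat p (a i) < padicValNat p n := by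
      by_contra hc
      exact hi ((pow_dvd_pow p (not_lt.1 hc)).trans pow_padicValNat_dvd)
    let b := Function.update a i (a i - 1)
    have hsum : ∑ j, b j = n - 1 := by
      have h := Finset.sum_update_of_mem (Finset.mem_univ i) a (a i - 1)
      have h' : n = a i + ∑ j ∈ Finset.univ \ {i}, a j := by
        rw [hn, Finset.sum_eq_add_sum_sdiff_singleton_of_mem (Finset.mem_univ i)]
      have := ha i
      rw [h, h']
      omega
    have hd := hld (Nat.factorial_pos (n - 1)).ne' (hsum ▸ Nat.prod_factorial_dvd_factorial_sum Finset.univ b)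
    rw [hfp _ _ (fun j _ => (Nat.factorial_pos _).ne')] at hd
    have hpos : 0 < n := Nat.lt_of_lt_of_le (ha i) (Finset.single_le_sum (fun j _ => Nat.zero_le _) (Finset.mem_univ i))
    have hn1 : padicValNat p n.factorial = padicValNat p n + padicValNat p (n - 1).factorial := by
      rw [← padicValNat.mul hpos.ne' (Nat.factorial_pos _).ne', Nat.mul_factorial_pred hpos.ne']
    have ha1 : padicValNat p (a i).factorial = padicValNat p (a i) + padicValNat p (b i).factorial := by
      rw [← padicValNat.mul (ha i).ne' (Nat.factorial_pos _).ne', show b i = a i - 1 from Function.update_self .., Nat.mul_factorial_pred (ha i).ne']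
    rw [← Finset.add_sum_erase _ _ (Finset.mem_univ i)] at hd ⊢
    have he : ∑ j ∈ Finset.univ.erase i, padicValNat p (b j).factorial = ∑ j ∈ Finset.univ.erase i, padicValNat p (a j).factorial :=
      Finset.sum_congr rfl fun j hj => by rw [show b j = a j from Function.update_of_ne (Finset.ne_of_mem_erase hj) ..]
    omega

end Groth.Agent.S13801
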