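import Groth.Statements.S13809
import Groth.Agent.Lib.H6.EtaMore

set_option autoImplicit false
set_option linter.all false
universe u
open EtaPt

namespace Groth.Agent.S13809

/-- For an integrally closed domain A such that η is bijective at the fraction field of A, the map q_A :
A → M_η(A) is bijective. Here η is a natural transformation from the identity of the category of
fields to an endofunctor F with F(η_K) bijective and η_K purely inseparable for every field K,
N_η(A) is the product of the F(k(p)) over the primes p of A with diagonal map t_A, and M_η(A) ⊆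
N_η(A) is the subring of elements sent into the range of t_R by every ring map from A to a valuation
ring R at whose fraction field η is bijective; q_A : A → M_η(A) is the corestriction of t_A. -/
theorem result (η : EtaPt.FieldEndo.{u}) (A : Type u) [CommRing A] [IsDomain A] [IsIntegrallyClosed A]
    (hA : η.InV A) : Function.Bijective (η.q A) := by
  have hK : Groth.Agent.H6.Eta.Cl η (⊥ : Ideal A).ResidueField :=
    (Groth.Agent.H6.Eta.inV_iff η A _).1 hA
  have hi : Function.Injective ((η.eta (⊥ : Ideal A).ResidueField).comp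
      (algebraMap A (⊥ : Ideal A).ResidueField)) :=
    (RingHom.injective (η.eta (⊥ : Ideal A).ResidueField)).comp (IsFractionRing.injective A (⊥ : Ideal A).ResidueField)
  refine ⟨fun a b h => hi (congrFun (congrArg Subtype.val h) ⟨⊥, Ideal.isPrime_bot⟩), fun x => ?_⟩
  obtain ⟨k, hk⟩ := hK.2 ((x : η.N A) ⟨⊥, Ideal.isPrime_bot⟩)
  have hint : IsIntegral A k := by
    obtain ⟨P, hP, hP0⟩ := Groth.Agent.H6.Eta.ev_integral η x.2 (Groth.Agent.H6.Eta.cl_obj η _)
      (Groth.Agent.H6.Eta.gpt η ⟨⊥, Ideal.isPrime_bot⟩)
    rw [Groth.Agent.H6.Eta.ev_gpt, ← hk] at hP0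
    refine ⟨P, hP, (η.eta (⊥ : Ideal A).ResidueField).injective ?_⟩
    rw [Polynomial.hom_eval₂, map_zero]
    exact hP0
  obtain ⟨a, ha⟩ := IsIntegrallyClosed.isIntegral_iff.1 hint
  refine ⟨a, Subtype.ext (Groth.Agent.H6.Eta.eq_of_minimal η (η.t_mem_M A a) x.2 fun p hp => ?_)⟩
  obtain rfl : p = ⟨⊥, Ideal.isPrime_bot⟩ := PrimeSpectrum.ext
    (le_bot_iff.1 (hp.2 ⟨Ideal.isPrime_bot, le_rfl⟩ bot_le))
  rw [← hk, ← ha]
  rfl

end Groth.Agent.S13809
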