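import Groth.Statements.S13810
import Groth.Agent.Lib.H6.EtaApps

set_option autoImplicit false
set_option linter.all false
universe u
open EtaPt

namespace Groth.Agent.S13810

/-- For commutative rings A and B, the pair of maps N_η of the two projections restricts to a bijection
from M_η(A × B) onto M_η(A) × M_η(B). Here η is a natural transformation from the identity of the
category of fields to an endofunctor F with F(η_K) bijective and η_K purely inseparable for every
field K, N_η(A) is the product of the F(k(p)) over the primes p of A with diagonal map t_A, and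
M_η(A) ⊆ N_η(A) is the subring of elements sent into the range of t_R by every ring map from A to a
valuation ring R at whose fraction field η is bijective; q_A : A → M_η(A) is the corestriction of
t_A. -/
theorem result (η : EtaPt.FieldEndo.{u}) (A B : Type u) [CommRing A] [CommRing B] :
    Set.BijOn (fun x : η.N (A × B) => (η.Nmap (RingHom.fst A B) x, η.Nmap (RingHom.snd A B) x))
      (η.M (A × B)) ((η.M A : Set (η.N A)) ×ˢ (η.M B : Set (η.N B))) := by
  classical
  have hfst : ∀ (C : Type u) [CommRing C] [IsDomain C] (φ : A × B →+* C),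
      (∃ φ' : A →+* C, φ'.comp (RingHom.fst A B) = φ) ∨ (∃ φ' : B →+* C, φ'.comp (RingHom.snd A B) = φ) := by
    intro C _ _ φ
    have hid : φ (1, 0) * φ (1, 0) = φ (1, 0) := by rw [← map_mul]; simp
    have hsum : φ (1, 0) + φ (0, 1) = 1 := by
      rw [← map_add, Prod.mk_add_mk, add_zero, zero_add]; exact map_one φ
    rcases eq_or_ne (φ (1, 0)) 0 with h | h
    · rw [h, zero_add] at hsum
      refine Or.inr ⟨{
        toFun := fun b => φ (0, b)
        map_one' := hsum
        map_mul' := fun x y => by simp [← map_mul]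
        map_zero' := map_zero φ
        map_add' := fun x y => by simp [← map_add] }, RingHom.ext fun x => ?_⟩
      change φ (0, x.2) = φ x
      have : φ (x.1, 0) = 0 := by
        rw [show ((x.1, 0) : A × B) = (x.1, 0) * (1, 0) by simp, map_mul, h, mul_zero]
      rw [← add_zero (φ (0, x.2)), ← this, ← map_add]; simp
    · have h1 : φ (1, 0) = 1 := mul_right_cancel₀ h (by rw [hid, one_mul])
      have h01 : φ (0, 1) = 0 := by rwa [h1, add_eq_left] at hsum
      refine Or.inl ⟨{
        toFun := fun a => φ (a, 0)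
        map_one' := h1
        map_mul' := fun x y => by simp [← map_mul]
        map_zero' := map_zero φ
        map_add' := fun x y => by simp [← map_add] }, RingHom.ext fun x => ?_⟩
      change φ (x.1, 0) = φ x
      have : φ (0, x.2) = 0 := by
        rw [show ((0, x.2) : A × B) = (0, x.2) * (0, 1) by simp, map_mul, h01, mul_zero]
      rw [← add_zero (φ (x.1, 0)), ← this, ← map_add]; simp
  refine ⟨fun x hx => ⟨Groth.Agent.H6.Eta.Nmap_mem_M η _ hx, Groth.Agent.H6.Eta.Nmap_mem_M η _ hx⟩,
    fun x hx y hy h => Groth.Agent.H6.Eta.N_ext η fun E _ hE φ => ?_, fun y hy => ?_⟩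
  · obtain ⟨h1, h2⟩ := Prod.mk.injEq _ _ _ _ ▸ h
    rcases hfst E φ with ⟨φ', rfl⟩ | ⟨φ', rfl⟩
    · rw [← Groth.Agent.H6.Eta.ev_Nmap, h1, Groth.Agent.H6.Eta.ev_Nmap]
    · rw [← Groth.Agent.H6.Eta.ev_Nmap, h2, Groth.Agent.H6.Eta.ev_Nmap]
  · let x : η.N (A × B) := fun p => if h : ∃ φ' : A →+* η.obj p.asIdeal.ResidueField,
        φ'.comp (RingHom.fst A B) = Groth.Agent.H6.Eta.gpt η p
      then Groth.Agent.H6.Eta.ev η (Groth.Agent.H6.Eta.cl_obj η _) h.choose y.1
      else if h' : ∃ φ' : B →+* η.obj p.asIdeal.ResidueField,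
        φ'.comp (RingHom.snd A B) = Groth.Agent.H6.Eta.gpt η p
      then Groth.Agent.H6.Eta.ev η (Groth.Agent.H6.Eta.cl_obj η _) h'.choose y.2 else 0
    have hA1 : ∀ (E : Type u) [Field E] (hE : Groth.Agent.H6.Eta.Cl η E) (φ : A →+* E),
        Groth.Agent.H6.Eta.ev η hE (φ.comp (RingHom.fst A B)) x = Groth.Agent.H6.Eta.ev η hE φ y.1 := by
      intro E _ hE φ
      set χ := φ.comp (RingHom.fst A B) with hχ
      set p := Groth.Agent.H6.Eta.pt χ with hp
      let m := Groth.Agent.H6.Eta.ext η hE (Groth.Agent.H6.Eta.lft χ)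
      have hm : m.comp (Groth.Agent.H6.Eta.gpt η p) = χ := by
        rw [Groth.Agent.H6.Eta.gpt, ← RingHom.comp_assoc, Groth.Agent.H6.Eta.ext_comp_eta,
          Groth.Agent.H6.Eta.lft_comp]
      change m (x p) = _
      have hex : ∃ φ' : A →+* η.obj p.asIdeal.ResidueField,
          φ'.comp (RingHom.fst A B) = Groth.Agent.H6.Eta.gpt η p := by
        rcases hfst _ (Groth.Agent.H6.Eta.gpt η p) with h | ⟨φ', h⟩
        · exact h
        · exfalso
          have h1 := RingHom.congr_fun (hm.trans hχ) (1, 0)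
          rw [← h] at h1
          simp at h1
      simp only [x, dif_pos hex]
      rw [Groth.Agent.H6.Eta.ev_comp η (Groth.Agent.H6.Eta.cl_obj η _) hE]
      congr 1
      refine congrArg (Groth.Agent.H6.Eta.ev η hE) (RingHom.ext fun a => ?_)
      have h1 := RingHom.congr_fun ((congrArg m.comp hex.choose_spec).trans (hm.trans hχ)) (a, 0)
      simpa using h1
    have hB1 : ∀ (E : Type u) [Field E] (hE : Groth.Agent.H6.Eta.Cl η E) (φ : B →+* E),
        Groth.Agent.H6.Eta.ev η hE (φ.comp (RingHom.snd A B)) x = Groth.Agent.H6.Eta.ev η hE φ y.2 := by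
      intro E _ hE φ
      set χ := φ.comp (RingHom.snd A B) with hχ
      set p := Groth.Agent.H6.Eta.pt χ with hp
      let m := Groth.Agent.H6.Eta.ext η hE (Groth.Agent.H6.Eta.lft χ)
      have hm : m.comp (Groth.Agent.H6.Eta.gpt η p) = χ := by
        rw [Groth.Agent.H6.Eta.gpt, ← RingHom.comp_assoc, Groth.Agent.H6.Eta.ext_comp_eta,
          Groth.Agent.H6.Eta.lft_comp]
      change m (x p) = _
      have hno : ¬ ∃ φ' : A →+* η.obj p.asIdeal.ResidueField,
          φ'.comp (RingHom.fst A B) = Groth.Agent.H6.Eta.gpt η p := by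
        rintro ⟨φ', h⟩
        have h1 := RingHom.congr_fun (hm.trans hχ) (1, 0)
        rw [← h] at h1
        simp at h1
      have hex : ∃ φ' : B →+* η.obj p.asIdeal.ResidueField,
          φ'.comp (RingHom.snd A B) = Groth.Agent.H6.Eta.gpt η p := by
        rcases hfst _ (Groth.Agent.H6.Eta.gpt η p) with h | h
        · exact absurd h hno
        · exact h
      simp only [x, dif_neg hno, dif_pos hex]
      rw [Groth.Agent.H6.Eta.ev_comp η (Groth.Agent.H6.Eta.cl_obj η _) hE]
      congr 1
      refine congrArg (Groth.Agent.H6.Eta.ev η hE) (RingHom.ext fun a => ?_)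
      have h1 := RingHom.congr_fun ((congrArg m.comp hex.choose_spec).trans (hm.trans hχ)) (0, a)
      simpa using h1
    refine ⟨x, Groth.Agent.H6.Eta.mem_M η fun R _ _ _ hR g => ?_, Prod.ext ?_ ?_⟩
    · rcases hfst R g with ⟨g', rfl⟩ | ⟨g', rfl⟩
      · obtain ⟨r, hr⟩ := Groth.Agent.H6.Eta.compat η hy.1 R hR g'
        exact ⟨r, fun E _ hE φ => by rw [← RingHom.comp_assoc, hA1, hr E hE φ]⟩
      · obtain ⟨r, hr⟩ := Groth.Agent.H6.Eta.compat η hy.2 R hR g'
        exact ⟨r, fun E _ hE φ => by rw [← RingHom.comp_assoc, hB1, hr E hE φ]⟩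
    · exact Groth.Agent.H6.Eta.N_ext η fun E _ hE φ => by rw [Groth.Agent.H6.Eta.ev_Nmap, hA1]
    · exact Groth.Agent.H6.Eta.N_ext η fun E _ hE φ => by rw [Groth.Agent.H6.Eta.ev_Nmap, hB1]

end Groth.Agent.S13810
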