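import Groth.Statements.S13814
import Groth.Agent.Lib.H6.EtaMore

set_option autoImplicit false
set_option linter.all false
universe u
open EtaPt

namespace Groth.Agent.S13814

/-- Let R be a valuation ring with fraction field K = k((0)) such that η is bijective at K, or such that
every field of the same characteristic as R at which η is bijective is perfect. Then the ring M_η(R)
is again a valuation ring, every element of F(K) is a quotient of generic components of elements of
M_η(R), and an element of F(K) that is both the generic component of an element of M_η(R) and in the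
image of K comes from R. (The published statement assumes nothing about η beyond the standing
conditions, and then fails: for the endofunctor equal to the perfect closure on the fields of
characteristic 2 and transcendence degree at least 2 over the prime field and to the identity on
every other field, and R = F_2(s)[t] localised at (t), neither of the elements (s^(1/2) t, 0) and
(t, 0) of M_η(R) ⊆ F(K) × F_2(s) divides the other, so M_η(R) is not a valuation ring. This row
assumes that η is bijective at Frac R, or that every field of the same characteristic as R at which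
η is bijective is perfect; both the identity and the perfect closure satisfy this.) Here η is a
natural transformation from the identity of the category of fields to an endofunctor F with F(η_K)
bijective and η_K purely inseparable for every field K, N_η(A) is the product of the F(k(p)) over
the primes p of A with diagonal map t_A, and M_η(A) ⊆ N_η(A) is the subring of elements sent into
the range of t_R by every ring map from A to a valuation ring R at whose fraction field η is
bijective; q_A : A → M_η(A) is the corestriction of t_A. -/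
theorem result (η : EtaPt.FieldEndo.{u}) (R : Type u) [CommRing R] [IsDomain R] [ValuationRing R]
    (hη : η.InV R ∨ ∀ (k : Type u) [Field k], ringChar k = ringChar R →
      Function.Bijective (η.eta k) → PerfectField k) :
    IsDomain (η.M R) ∧ PreValuationRing (η.M R) ∧
      (∀ y : η.obj (⊥ : Ideal R).ResidueField, ∃ a b : η.M R,
        (b : η.N R) ⟨⊥, Ideal.isPrime_bot⟩ ≠ 0 ∧
          y * (b : η.N R) ⟨⊥, Ideal.isPrime_bot⟩ = (a : η.N R) ⟨⊥, Ideal.isPrime_bot⟩) ∧
      (fun x : η.N R => x ⟨⊥, Ideal.isPrime_bot⟩) '' (η.M R : Set (η.N R)) ∩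
          Set.range (η.eta (⊥ : Ideal R).ResidueField) =
        Set.range ((η.eta (⊥ : Ideal R).ResidueField).comp (algebraMap R (⊥ : Ideal R).ResidueField)) := by
  classical
  let e0 : η.M R →+* η.obj (⊥ : Ideal R).ResidueField :=
    Groth.Agent.H6.Eta.evM η ⟨⊥, Ideal.isPrime_bot⟩
  have hinj : Function.Injective e0 := fun x y h => Subtype.ext (by
    refine Groth.Agent.H6.Eta.eq_of_minimal η x.2 y.2 fun p hp => ?_
    obtain rfl : p = ⟨⊥, Ideal.isPrime_bot⟩ := PrimeSpectrum.ext
      (le_bot_iff.1 (hp.2 ⟨Ideal.isPrime_bot, le_rfl⟩ bot_le))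
    exact h)
  haveI hdom : IsDomain (η.M R) := hinj.isDomain e0
  letI := (Groth.Agent.H6.Eta.gpt η (⟨⊥, Ideal.isPrime_bot⟩ : PrimeSpectrum R)).toAlgebra
  have hmem : ∀ y : η.obj (⊥ : Ideal R).ResidueField, IsIntegral R y → ∃ m : η.M R, e0 m = y :=
    fun y hy => by
      obtain ⟨x, hx, hxy⟩ := Groth.Agent.H6.Eta.valuation_image η R hη y hy
      exact ⟨⟨x, hx⟩, hxy⟩
  have hpos : ∀ (n : ℕ), 0 < ringExpChar (⊥ : Ideal R).ResidueField ^ n := fun n =>
    pow_pos (Nat.lt_of_lt_of_le Nat.zero_lt_one (le_max_right _ _)) n
  refine ⟨hdom, ⟨fun a b => ?_⟩, fun y => ?_, ?_⟩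
  · by_cases hb : b = 0
    · exact ⟨0, .inl (by rw [hb, mul_zero])⟩
    have hb' : e0 b ≠ 0 := fun h => hb (hinj (h.trans (map_zero e0).symm))
    obtain ⟨n, k, hk⟩ := η.exists_pow_mem_range_eta _ (e0 a / e0 b)
    rcases ValuationRing.isInteger_or_isInteger R k with ⟨r, hr⟩ | ⟨r, hr⟩
    · have hint : IsIntegral R (e0 a / e0 b) := IsIntegral.of_pow (hpos n)
        (by rw [← hk, ← hr]; exact isIntegral_algebraMap)
      obtain ⟨c, hc⟩ := hmem _ hint
      exact ⟨c, .inr (hinj (by rw [map_mul, hc, mul_div_cancel₀ _ hb']))⟩
    · by_cases ha : a = 0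
      · exact ⟨0, .inr (by rw [ha, mul_zero])⟩
      have ha' : e0 a ≠ 0 := fun h => ha (hinj (h.trans (map_zero e0).symm))
      have hint : IsIntegral R (e0 b / e0 a) := IsIntegral.of_pow (hpos n) (by
        rw [← inv_div, inv_pow, ← hk, ← map_inv₀, ← hr]; exact isIntegral_algebraMap)
      obtain ⟨c, hc⟩ := hmem _ hint
      exact ⟨c, .inl (hinj (by rw [map_mul, hc, mul_div_cancel₀ _ ha']))⟩
  · obtain ⟨n, k, hk⟩ := η.exists_pow_mem_range_eta _ y
    obtain ⟨r, s, hs, hrs⟩ := IsFractionRing.div_surjective (A := R) k
    have hs0 : algebraMap R (η.obj (⊥ : Ideal R).ResidueField) s ≠ 0 :=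
      fun h => nonZeroDivisors.ne_zero hs
        ((map_eq_zero_iff _ (IsFractionRing.injective R (⊥ : Ideal R).ResidueField)).1
        ((map_eq_zero_iff _ (RingHom.injective (η.eta (⊥ : Ideal R).ResidueField))).1 h))
    have hint : IsIntegral R (y * algebraMap R _ s) := by
      refine IsIntegral.of_pow (hpos n) ?_
      obtain ⟨m, hm⟩ := Nat.exists_eq_succ_of_ne_zero (hpos n).ne'
      have : (y * algebraMap R _ s) ^ (ringExpChar (⊥ : Ideal R).ResidueField ^ n) =
          algebraMap R _ (r * s ^ m) := by
        rw [mul_pow, ← hk, ← hrs, hm, pow_succ', map_div₀, map_mul, map_pow, ← mul_assoc]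
        congr 1
        exact div_mul_cancel₀ _ hs0
      rw [this]
      exact isIntegral_algebraMap
    obtain ⟨a, ha⟩ := hmem _ hint
    exact ⟨a, η.q R s, hs0, ha.symm⟩
  · ext y
    constructor
    · rintro ⟨⟨x, hx, rfl⟩, k, hk⟩
      have := Groth.Agent.H6.Eta.ev_integral η hx (Groth.Agent.H6.Eta.cl_obj η _)
        (Groth.Agent.H6.Eta.gpt η ⟨⊥, Ideal.isPrime_bot⟩)
      rw [Groth.Agent.H6.Eta.ev_gpt] at this
      obtain ⟨P, hP, hP0⟩ := this
      have hint : IsIntegral R k := by
        refine ⟨P, hP, (η.eta (⊥ : Ideal R).ResidueField).injective ?_⟩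
        rw [Polynomial.hom_eval₂, map_zero, hk]
        exact hP0
      obtain ⟨r, rfl⟩ := IsIntegrallyClosed.isIntegral_iff.1 hint
      exact ⟨r, hk⟩
    · rintro ⟨r, rfl⟩
      exact ⟨⟨η.t R r, η.t_mem_M R r, rfl⟩, ⟨_, rfl⟩⟩

end Groth.Agent.S13814
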