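import Groth.Statements.S13826
import Groth.Agent.Lib.H6.EtaScheme

set_option autoImplicit false
set_option linter.all false
universe u
open EtaPt

namespace Groth.Agent.S13826

/-- For the identity endofunctor and a commutative ring A with finitely many minimal prime ideals, q_A :
A → M(A) is a seminormalization of A: Spec(q_A) is a universal homeomorphism with trivial residue
field extensions, final among ring maps out of A with these properties. Here M(A) ⊆ ∏_p k(p) is the
subring of families whose image in ∏_q k(q), for every ring map from A to a valuation ring R, is the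
diagonal image of an element of R. -/
theorem result (A : Type u) [CommRing A] (hA : (minimalPrimes A).Finite) :
    HTop.IsRingSN (EtaPt.FieldEndo.ident.{u}.q A) := by

  let η := EtaPt.FieldEndo.ident.{u}
  have hres : ∀ Q : PrimeSpectrum (η.M A), Function.Bijective (Ideal.ResidueField.map
      (PrimeSpectrum.comap (η.q A) Q).asIdeal Q.asIdeal (η.q A) rfl) := fun Q => by
    obtain ⟨φ, h, -⟩ := Groth.Agent.H6.Eta.residue_factor η hA Q
    exact Groth.Agent.H6.Eta.ident_residue_bij _ φ h
  refine ⟨⟨Groth.Agent.H6.Eta.univHomeo_of _ (Groth.Agent.H6.Eta.q_isIntegral η hA)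
    (Groth.Agent.H6.Eta.comap_q_bij η hA) hres, (Groth.Agent.H6.Eta.residueFieldsIso_iff _).2 hres⟩,
    fun C _ ψ hu hr => ?_⟩
  obtain ⟨hi, hb⟩ := Groth.Agent.H6.Eta.univHomeo_integral ψ hu
  exact Groth.Agent.H6.Eta.lift_q η ψ hi (Groth.Agent.H6.Eta.Nmap_bij_of η ψ hb fun Q =>
    Groth.Agent.H6.Eta.ident_bij_of_residue _ ((Groth.Agent.H6.Eta.residueFieldsIso_iff ψ).1 hr Q))

end Groth.Agent.S13826
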