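import Groth.Statements.S13827
import Groth.Agent.Lib.H6.EtaApps

set_option autoImplicit false
set_option linter.all false
universe u
open EtaPt

namespace Groth.Agent.S13827

/-- For a normal ring A (every localization at a prime is an integrally closed domain) with finitely
many minimal prime ideals such that η is bijective at the residue field of every minimal prime, q_A
: A → M_η(A) is bijective. Here η is a natural transformation from the identity of the category of
fields to an endofunctor F with F(η_K) bijective and η_K purely inseparable for every field K,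
N_η(A) is the product of the F(k(p)) over the primes p of A with diagonal map t_A, and M_η(A) ⊆
N_η(A) is the subring of elements sent into the range of t_R by every ring map from A to a valuation
ring R at whose fraction field η is bijective; q_A : A → M_η(A) is the corestriction of t_A. -/
theorem result (η : EtaPt.FieldEndo.{u}) (A : Type u) [CommRing A] (hn : EGA4.IsNormalRing A)
    (hA : (minimalPrimes A).Finite)
    (hη : ∀ p : PrimeSpectrum A, p.asIdeal ∈ minimalPrimes A → Function.Bijective (η.eta p.asIdeal.ResidueField)) :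
    Function.Bijective (η.q A) := by
  classical
  haveI : IsReduced A := ⟨fun a ha => by
    by_contra hne
    obtain ⟨m, hm, hle⟩ := Ideal.exists_le_maximal (Submodule.colon (⊥ : Ideal A) {a}) (fun h => hne (by
      simpa [Submodule.mem_colon_singleton] using (h ▸ Submodule.mem_top : (1 : A) ∈ Submodule.colon (⊥ : Ideal A) {a})))
    haveI := hm.isPrime
    haveI := (hn m).1
    obtain ⟨⟨s, hs⟩, h⟩ := (IsLocalization.map_eq_zero_iff m.primeCompl (Localization.AtPrime m) a).1
      (ha.map (algebraMap A _)).eq_zero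
    exact hs (hle (by simpa [Submodule.mem_colon_singleton] using h))⟩
  refine ⟨fun a b h => Groth.Agent.H6.Eta.t_injective η (congrArg Subtype.val h), fun x => ?_⟩
  let I : Ideal A :=
    { carrier := {s | η.t A s * (x : η.N A) ∈ (η.t A).range}
      add_mem' := fun {a b} ha hb => by
        have := Subring.add_mem (η.t A).range ha hb
        simpa [add_mul] using this
      zero_mem' := ⟨0, by simp⟩
      smul_mem' := fun c d hd => by
        have := Subring.mul_mem (η.t A).range (RingHom.mem_range_self (η.t A) c) hd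
        simpa [mul_assoc] using this }
  suffices h : (1 : A) ∈ I by
    obtain ⟨a, ha⟩ := h
    refine ⟨a, Subtype.ext ?_⟩
    change η.t A a = _
    simpa using ha
  refine (Ideal.eq_top_iff_one I).1 (Classical.byContradiction fun hI => ?_)
  obtain ⟨p, hp, hle⟩ := Ideal.exists_le_maximal I hI
  haveI := hp.isPrime
  haveI := (hn p).1
  haveI := (hn p).2
  let L := Localization.AtPrime p
  let P0 : Ideal A := RingHom.ker (algebraMap A L)
  haveI hP0 : P0.IsPrime := RingHom.ker_isPrime _
  have hP0p : P0 ≤ p := fun a ha => by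
    by_contra h
    exact not_isUnit_zero (M₀ := L) (RingHom.mem_ker.1 ha ▸ IsLocalization.map_units L (⟨a, h⟩ : p.primeCompl))
  have huniq : ∀ P ∈ minimalPrimes A, P ≤ p → P = P0 := fun P hP hPp => by
    have h0 : P0 ≤ P := fun a ha => by
      obtain ⟨⟨s, hs⟩, h⟩ := (IsLocalization.map_eq_zero_iff p.primeCompl L a).1 (RingHom.mem_ker.1 ha)
      exact (hP.1.1.mem_or_mem (h ▸ P.zero_mem : s * a ∈ P)).resolve_left fun h' => hs (hPp h')
    exact le_antisymm (hP.2 ⟨hP0, bot_le⟩ h0) h0
  obtain ⟨P, hP, hPP⟩ := Ideal.exists_minimalPrimes_le (bot_le : (⊥ : Ideal A) ≤ p)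
  obtain rfl : P = P0 := huniq P hP hPP
  let P' : PrimeSpectrum A := ⟨P0, hP0⟩
  obtain ⟨k, hk⟩ := (hη P' hP).2 ((x : η.N A) P')
  let K0 := FractionRing L
  let g0 : A →+* K0 := (algebraMap L K0).comp (algebraMap A L)
  have hker : P'.asIdeal = RingHom.ker g0 := by
    ext a
    simp [g0, RingHom.mem_ker, P', P0, map_eq_zero_iff _ (IsFractionRing.injective L K0)]
  let j := Groth.Agent.H6.Eta.liftP g0 P' hker
  have hj : j.comp (algebraMap A _) = g0 :=
    RingHom.ext fun a => Groth.Agent.H6.Eta.liftP_algebraMap g0 P' hker a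
  have hint : IsIntegral L (j k) := by
    obtain ⟨F, hF, hF0⟩ := Groth.Agent.H6.Eta.ev_integral η x.2 (Groth.Agent.H6.Eta.cl_obj η _)
      (Groth.Agent.H6.Eta.gpt η P')
    rw [Groth.Agent.H6.Eta.ev_gpt, ← hk] at hF0
    refine ⟨F.map (algebraMap A L), hF.map _, ?_⟩
    rw [Polynomial.eval₂_map]
    change Polynomial.eval₂ g0 (j k) F = 0
    rw [← hj, ← Polynomial.hom_eval₂]
    refine (congrArg j ?_).trans (map_zero j)
    apply (η.eta P'.asIdeal.ResidueField).injective
    rw [Polynomial.hom_eval₂, map_zero]
    exact hF0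
  obtain ⟨y, hy⟩ := IsIntegrallyClosed.isIntegral_iff.1 hint
  obtain ⟨⟨a, s⟩, hys⟩ := IsLocalization.surj p.primeCompl y
  have hks : k * algebraMap A _ (s : A) = algebraMap A P'.asIdeal.ResidueField a := by
    apply j.injective
    rw [map_mul, ← RingHom.comp_apply j (algebraMap A _), ← RingHom.comp_apply j (algebraMap A _), hj, ← hy]
    exact (map_mul (algebraMap L K0) _ _).symm.trans (congrArg _ hys)
  have hu : ∀ P ∈ hA.toFinset.erase P0, ∃ u : A, u ∈ P ∧ u ∉ p := fun P hP' =>
    SetLike.not_le_iff_exists.1 fun hPp => (Finset.mem_erase.1 hP').1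
      (huniq P ((Set.Finite.mem_toFinset hA).1 (Finset.mem_erase.1 hP').2) hPp)
  choose! u hu hu' using hu
  let w := ∏ P ∈ hA.toFinset.erase P0, u P
  have hw : w ∉ p := fun h => by
    obtain ⟨P, hP, hmem⟩ := (hp.isPrime.prod_mem_iff).1 h
    exact hu' P hP hmem
  have hws : w * (s : A) ∉ p := fun h => (hp.isPrime.mem_or_mem h).elim hw s.2
  refine hws (hle ⟨w * a, Groth.Agent.H6.Eta.eq_of_minimal η (η.t_mem_M A _)
    ((η.M A).mul_mem (η.t_mem_M A _) x.2) fun q hq => ?_⟩)
  by_cases hqP : q.asIdeal = P0
  · obtain rfl : q = P' := PrimeSpectrum.ext hqP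
    change η.eta _ (algebraMap A _ (w * a)) = η.eta _ (algebraMap A _ (w * (s : A))) * (x : η.N A) _
    rw [← hk, ← map_mul (η.eta _)]
    refine congrArg (η.eta P'.asIdeal.ResidueField) ?_
    rw [map_mul, map_mul, ← hks]
    ring
  · have hw0 : algebraMap A q.asIdeal.ResidueField w = 0 :=
      Ideal.algebraMap_residueField_eq_zero.2 (Ideal.prod_mem q.asIdeal
        (Finset.mem_erase.2 ⟨hqP, (Set.Finite.mem_toFinset hA).2 hq⟩) (hu q.asIdeal
        (Finset.mem_erase.2 ⟨hqP, (Set.Finite.mem_toFinset hA).2 hq⟩)))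
    change η.eta _ (algebraMap A _ (w * a)) = η.eta _ (algebraMap A _ (w * (s : A))) * (x : η.N A) q
    simp [map_mul, hw0]

end Groth.Agent.S13827
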