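import Groth.Statements.S13830
import Groth.Agent.Lib.H6.EtaScheme

set_option autoImplicit false
set_option linter.all false
universe u
open AlgebraicGeometry
open EtaPt

namespace Groth.Agent.S13830

/-- For the identity endofunctor, a commutative ring A with finitely many minimal prime ideals and an
A-algebra B with Spec B → Spec A surjective, the subring (B/A) ⊆ B (elements b whose residue classes
(b mod q)_q come from a family in M(A) ⊆ ∏_p k(p), M(A) being the families that come from an element
of R after any base change to a valuation ring R) is the seminormalization of A in B: Spec (B/A) →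
Spec A is a universal homeomorphism with trivial residue field extensions, and every A-subalgebra C
of B with these two properties is contained in (B/A). -/
theorem result (A B : Type u) [CommRing A] [CommRing B] [Algebra A B] (hA : (minimalPrimes A).Finite)
    (hs : Function.Surjective (PrimeSpectrum.comap (algebraMap A B))) :
    (FlatMor.IsUnivHomeo (Spec.map (CommRingCat.ofHom (EtaPt.FieldEndo.ident.{u}.qRel (algebraMap A B)))) ∧
      HTop.ResidueFieldsIso (Spec.map (CommRingCat.ofHom (EtaPt.FieldEndo.ident.{u}.qRel (algebraMap A B))))) ∧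
    ∀ C : Subalgebra A B,
      FlatMor.IsUnivHomeo (Spec.map (CommRingCat.ofHom (algebraMap A C))) →
      HTop.ResidueFieldsIso (Spec.map (CommRingCat.ofHom (algebraMap A C))) →
      C.toSubring ≤ EtaPt.FieldEndo.ident.{u}.rel (algebraMap A B) := by
  let η := EtaPt.FieldEndo.ident.{u}
  have hres : ∀ Q : PrimeSpectrum (η.rel (algebraMap A B)), Function.Bijective (Ideal.ResidueField.map
      (PrimeSpectrum.comap (η.qRel (algebraMap A B)) Q).asIdeal Q.asIdeal (η.qRel (algebraMap A B)) rfl) :=
    fun Q => by
      obtain ⟨φ, h⟩ := Groth.Agent.H6.Eta.qRel_residue η hA _ hs Q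
      exact Groth.Agent.H6.Eta.ident_residue_bij _ φ h
  refine ⟨⟨Groth.Agent.H6.Eta.univHomeo_of _ (Groth.Agent.H6.Eta.qRel_isIntegral η hA _ hs)
    (Groth.Agent.H6.Eta.qRel_comap_bij η hA _ hs) hres,
    (Groth.Agent.H6.Eta.residueFieldsIso_iff _).2 hres⟩, fun C hu hr => ?_⟩
  obtain ⟨hi, hb⟩ := Groth.Agent.H6.Eta.univHomeo_integral (algebraMap A C) hu
  have h := Groth.Agent.H6.Eta.range_le_rel η (algebraMap A C) C.val.toRingHom hi
    (Groth.Agent.H6.Eta.Nmap_bij_of η _ hb fun Q => Groth.Agent.H6.Eta.ident_bij_of_residue _
      ((Groth.Agent.H6.Eta.residueFieldsIso_iff (algebraMap A C)).1 hr Q))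
  intro b hbC
  exact h ⟨⟨b, hbC⟩, rfl⟩

end Groth.Agent.S13830
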