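import Groth.Statements.S13835
import Groth.Agent.S0415
import Mathlib.AlgebraicGeometry.Morphisms.Separated

set_option autoImplicit false
set_option backward.isDefEq.respectTransparency.types false
set_option linter.all false
universe u
open AlgebraicGeometry CategoryTheory
open ChowMon

namespace Groth.Agent.S13835

/-- Let p : T' → T be a universal homeomorphism of separated schemes with T reduced and f' : T' → Y a
morphism (Y separated); if T has an open cover by affine opens U_i such that each restriction of f'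
to p⁻¹(U_i) factors through p⁻¹(U_i) → U_i, then f' factors through p. -/
theorem result {T' T Y : Scheme.{u}} (p : T' ⟶ T) (hp : FlatMor.IsUnivHomeo p) [IsReduced T]
    [T.IsSeparated] [T'.IsSeparated] [Y.IsSeparated] (f' : T' ⟶ Y)
    {ι : Type u} (U : ι → T.affineOpens) (hU : ⨆ i, (U i : T.Opens) = ⊤)
    (hloc : ∀ i, ∃ fi : ((U i : T.Opens) : Scheme.{u}) ⟶ Y, (p ⁻¹ᵁ (U i : T.Opens)).ι ≫ f' = (p ∣_ (U i : T.Opens)) ≫ fi) :
    ∃ f : T ⟶ Y, p ≫ f = f' := by
  obtain ⟨_, _, _⟩ := (Groth.Agent.S0415.result p).1 hp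
  choose fi hfi using hloc
  let 𝒰 := T.openCoverOfIsOpenCover (fun i => (U i : T.Opens)) hU
  have hdom : ∀ V : T.Opens, IsDominant (p ∣_ V) := fun V =>
    haveI : Surjective (p ∣_ V) :=
      MorphismProperty.of_isPullback (P := @Surjective) (isPullback_morphismRestrict p V).flip ‹_›
    inferInstance
  have key : ∀ (i j : ι) (W : T.Opens) (hi : W ≤ (U i : T.Opens)) (hj : W ≤ (U j : T.Opens)),
      T.homOfLE hi ≫ fi i = T.homOfLE hj ≫ fi j := fun i j W hi hj => by
    haveI := hdom W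
    refine ext_of_isDominant (p ∣_ W) ?_
    have hh : ∀ k (hk : W ≤ (U k : T.Opens)), (p ∣_ W) ≫ T.homOfLE hk ≫ fi k = (p ⁻¹ᵁ W).ι ≫ f' := fun k hk => by
      have h1 : (p ∣_ W) ≫ T.homOfLE hk = T'.homOfLE (p.preimage_mono hk) ≫ (p ∣_ (U k : T.Opens)) := by
        rw [← cancel_mono (U k : T.Opens).ι]; simp
      rw [← Category.assoc, h1, Category.assoc, ← hfi, Scheme.homOfLE_ι_assoc]
    rw [hh i hi, hh j hj]
  have compat : ∀ i j : ι, Limits.pullback.fst (U i : T.Opens).ι (U j : T.Opens).ι ≫ fi i = Limits.pullback.snd (U i : T.Opens).ι (U j : T.Opens).ι ≫ fi j :=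
    fun i j => by
    let e := Limits.pullback.fst (U i : T.Opens).ι (U j : T.Opens).ι ≫ (U i : T.Opens).ι
    have hs : e = Limits.pullback.snd (U i : T.Opens).ι (U j : T.Opens).ι ≫ (U j : T.Opens).ι := Limits.pullback.condition
    haveI : IsOpenImmersion e := inferInstance
    have hi : e.opensRange ≤ (U i : T.Opens) := by
      rintro _ ⟨x, rfl⟩
      exact ((Limits.pullback.fst (U i : T.Opens).ι (U j : T.Opens).ι).base x).2
    have hj : e.opensRange ≤ (U j : T.Opens) := by
      rintro _ ⟨x, rfl⟩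
      rw [hs]
      exact ((Limits.pullback.snd (U i : T.Opens).ι (U j : T.Opens).ι).base x).2
    have h1 : Limits.pullback.fst (U i : T.Opens).ι (U j : T.Opens).ι = e.isoOpensRange.hom ≫ T.homOfLE hi := by
      rw [← cancel_mono (U i : T.Opens).ι, Category.assoc, Scheme.homOfLE_ι, Scheme.Hom.isoOpensRange_hom_ι]
    have h2 : Limits.pullback.snd (U i : T.Opens).ι (U j : T.Opens).ι = e.isoOpensRange.hom ≫ T.homOfLE hj := by
      rw [← cancel_mono (U j : T.Opens).ι, Category.assoc, Scheme.homOfLE_ι, Scheme.Hom.isoOpensRange_hom_ι]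
      exact hs.symm
    rw [h1, h2, Category.assoc, Category.assoc]
    exact congrArg (_ ≫ ·) (key i j _ hi hj)
  refine ⟨Scheme.Cover.glueMorphisms 𝒰 fi compat, ?_⟩
  have hU' : ⨆ i, p ⁻¹ᵁ (U i : T.Opens) = ⊤ := by rw [← p.preimage_iSup, hU, p.preimage_top]
  refine (T'.openCoverOfIsOpenCover _ hU').hom_ext _ _ fun (i : ι) => ?_
  change (p ⁻¹ᵁ (U i : T.Opens)).ι ≫ p ≫ _ = (p ⁻¹ᵁ (U i : T.Opens)).ι ≫ f'
  rw [← Category.assoc, ← morphismRestrict_ι, Category.assoc,
    show (U i : T.Opens).ι ≫ Scheme.Cover.glueMorphisms 𝒰 fi compat = fi i from Scheme.Cover.ι_glueMorphisms 𝒰 fi compat i, hfi]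

end Groth.Agent.S13835
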