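import Groth.Statements.S13837
import Groth.Agent.Lib.H6.EtaScheme

set_option autoImplicit false
set_option linter.all false
universe u
open AlgebraicGeometry
open scoped TensorProduct
open HTop

namespace Groth.Agent.S13837

open CategoryTheory AlgebraicGeometry

/-- Let A ⊆ B be an integral ring extension where A and B have finitely many minimal prime ideals; then
the weak normalization of A in B is the equaliser of the two maps B ⇉ (B ⊗_A B)_red: the
A-subalgebra E of elements b with b ⊗ 1 − 1 ⊗ b nilpotent in B ⊗_A B has Spec E → Spec A a universal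
homeomorphism, and every A-subalgebra C of B with Spec C → Spec A a universal homeomorphism is
contained in E. -/
theorem result (A B : Type u) [CommRing A] [CommRing B] [Algebra A B] (hinj : Function.Injective (algebraMap A B))
    [Algebra.IsIntegral A B] (hA : (minimalPrimes A).Finite) (hB : (minimalPrimes B).Finite) :
    ∃ E : Subalgebra A B, (∀ b : B, b ∈ E ↔ IsNilpotent (b ⊗ₜ[A] (1 : B) - (1 : B) ⊗ₜ[A] b)) ∧
      FlatMor.IsUnivHomeo (Spec.map (CommRingCat.ofHom (algebraMap A E))) ∧
      ∀ C : Subalgebra A B, FlatMor.IsUnivHomeo (Spec.map (CommRingCat.ofHom (algebraMap A C))) → C ≤ E := by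
  classical
  let p1 : B →ₐ[A] B ⊗[A] B := Algebra.TensorProduct.includeLeft
  let p2 : B →ₐ[A] B ⊗[A] B := Algebra.TensorProduct.includeRight
  let π := Ideal.Quotient.mkₐ A (nilradical (B ⊗[A] B))
  let E : Subalgebra A B := AlgHom.equalizer (π.comp p1) (π.comp p2)
  have hE : ∀ b : B, b ∈ E ↔ IsNilpotent (b ⊗ₜ[A] (1 : B) - (1 : B) ⊗ₜ[A] b) := fun b => by
    refine Iff.trans ?_ mem_nilradical
    exact (Ideal.Quotient.mk_eq_mk_iff_sub_mem _ _)
  have hEi : Algebra.IsIntegral A E := ⟨fun e => (isIntegral_algHom_iff E.val Subtype.val_injective).1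
    (Algebra.IsIntegral.isIntegral (e : B))⟩
  have hint : (algebraMap A E).IsIntegral := fun e => hEi.isIntegral e
  have hinjE : Function.Injective (algebraMap A E) := fun a a' e => hinj (congrArg Subtype.val e)
  refine ⟨E, hE, ?_, fun C hC b hb => ?_⟩
  · rw [Groth.Agent.S0415.result]
    refine ⟨IsIntegralHom.SpecMap_iff.2 hint, ?_, ⟨hint.comap_surjective hinjE⟩⟩
    have e := (tfae_universallyInjective (Spec.map (CommRingCat.ofHom (algebraMap A E)))).out 1 0
    refine e.1 fun K _ g₁ g₂ hg => ?_
    obtain ⟨u₁, rfl⟩ := Spec.map_surjective g₁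
    obtain ⟨u₂, rfl⟩ := Spec.map_surjective g₂
    change Spec.map u₁ ≫ _ = Spec.map u₂ ≫ _ at hg
    rw [← Spec.map_comp, ← Spec.map_comp] at hg
    have hA' : u₁.hom.comp (algebraMap A E) = u₂.hom.comp (algebraMap A E) :=
      congrArg CommRingCat.Hom.hom (Spec.map_injective hg)
    congr 1
    ext x
    let L := AlgebraicClosure K
    have hs : Function.Surjective (PrimeSpectrum.comap E.val.toRingHom) :=
      (RingHom.IsIntegral.tower_top (algebraMap A E) E.val.toRingHom
        (by rw [AlgHom.toRingHom_eq_coe, AlgHom.comp_algebraMap]; exact fun b => Algebra.IsIntegral.isIntegral b)).comap_surjective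
        Subtype.val_injective
    have hEB : E.val.toRingHom.IsIntegral := RingHom.IsIntegral.tower_top (algebraMap A E) E.val.toRingHom
        (by rw [AlgHom.toRingHom_eq_coe, AlgHom.comp_algebraMap]; exact fun b => Algebra.IsIntegral.isIntegral b)
    obtain ⟨v₁, hv₁⟩ := Groth.Agent.H6.Eta.exists_alg_point E.val.toRingHom hEB hs
      ((algebraMap K L).comp u₁.hom)
    obtain ⟨v₂, hv₂⟩ := Groth.Agent.H6.Eta.exists_alg_point E.val.toRingHom hEB hs
      ((algebraMap K L).comp u₂.hom)
    letI : Algebra A L := (v₁.comp (algebraMap A B)).toAlgebra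
    have h12 : ∀ a, v₂ (algebraMap A B a) = v₁ (algebraMap A B a) := fun a =>
      ((RingHom.congr_fun hv₂ (algebraMap A E a)).trans
        (congrArg (algebraMap K L) (RingHom.congr_fun hA' a).symm)).trans
        (RingHom.congr_fun hv₁ (algebraMap A E a)).symm
    let w : B ⊗[A] B →ₐ[A] L := Algebra.TensorProduct.productMap
      ({ v₁ with commutes' := fun a => rfl } : B →ₐ[A] L)
      ({ v₂ with commutes' := h12 } : B →ₐ[A] L)
    have h0 : w ((x : B) ⊗ₜ[A] (1 : B) - (1 : B) ⊗ₜ[A] (x : B)) = 0 :=
      (((hE x).1 x.2).map w).eq_zero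
    simp [w, sub_eq_zero] at h0
    apply (algebraMap K L).injective
    exact ((RingHom.congr_fun hv₁ x).symm.trans h0).trans (RingHom.congr_fun hv₂ x)
  · rw [hE]
    rw [← mem_nilradical, nilradical_eq_sInf, Submodule.mem_sInf]
    intro P hP
    haveI : Ideal.IsPrime P := hP
    let K := Ideal.ResidueField P
    let j := algebraMap (B ⊗[A] B) K
    let u₁ : C →+* K := (j.comp p1.toRingHom).comp C.val.toRingHom
    let u₂ : C →+* K := (j.comp p2.toRingHom).comp C.val.toRingHom
    have hu := ((Groth.Agent.S0415.result _).1 hC).2.1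
    have e := (tfae_universallyInjective (Spec.map (CommRingCat.ofHom (algebraMap A C)))).out 0 1
    have hK := e.1 hu K
    have h12 : CommRingCat.ofHom u₁ = CommRingCat.ofHom u₂ := Spec.map_injective (hK (by
      change Spec.map _ ≫ _ = Spec.map _ ≫ _
      rw [← Spec.map_comp, ← Spec.map_comp]
      congr 1
      ext a
      exact congrArg j ((p1.commutes a).trans (p2.commutes a).symm)))
    have h := congrArg (fun g => g.hom ⟨b, hb⟩) h12
    rw [← Ideal.algebraMap_residueField_eq_zero (I := P), map_sub, sub_eq_zero]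
    exact h

end Groth.Agent.S13837
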