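import Groth.Statements.S13838
import Groth.Agent.Lib.H6.AWN2
import Groth.Agent.Lib.H6.EtaScheme

set_option autoImplicit false
set_option linter.all false
universe u
open AlgebraicGeometry
open HTop

namespace Groth.Agent.S13838

/-- Let A ⊆ B be an integral ring extension where A and B have finitely many minimal prime ideals, such
that every prime p of A has a prime q of B above it for which k(p) is closed under extracting
p-power roots inside k(q) (the purely inseparable closure of k(p) in k(q) is k(p)); then the semi-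
and weak normalizations of A in B coincide: every A-subalgebra C of B with Spec C → Spec A a
universal homeomorphism already induces isomorphisms on residue fields. -/
theorem result (A B : Type u) [CommRing A] [CommRing B] [Algebra A B] (hinj : Function.Injective (algebraMap A B))
    [Algebra.IsIntegral A B] (hA : (minimalPrimes A).Finite) (hB : (minimalPrimes B).Finite)
    (hpi : ∀ p : PrimeSpectrum A, ∃ q : PrimeSpectrum B, ∃ hq : p.asIdeal = Ideal.comap (algebraMap A B) q.asIdeal,
      ∀ x : q.asIdeal.ResidueField,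
        (∃ n : ℕ, x ^ ringExpChar p.asIdeal.ResidueField ^ n ∈
            Set.range (Ideal.ResidueField.map p.asIdeal q.asIdeal (algebraMap A B) hq)) →
        x ∈ Set.range (Ideal.ResidueField.map p.asIdeal q.asIdeal (algebraMap A B) hq)) :
    ∀ C : Subalgebra A B, FlatMor.IsUnivHomeo (Spec.map (CommRingCat.ofHom (algebraMap A C))) →
      HTop.ResidueFieldsIso (Spec.map (CommRingCat.ofHom (algebraMap A C))) := by
  intro C hC
  open Groth.Agent.H6 in
  rw [Groth.Agent.H6.Eta.residueFieldsIso_iff]
  intro Q
  have hu := (Groth.Agent.H6.AWN.uh_iff _).1 hC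
  refine ⟨RingHom.injective _, fun z => ?_⟩
  obtain ⟨q, hq, hqx⟩ := hpi (PrimeSpectrum.comap (algebraMap A C) Q)
  have hQ : PrimeSpectrum.comap C.val.toRingHom q = Q := by
    refine (Groth.Agent.H6.Eta.univHomeo_integral (algebraMap A C) hC).2.1 ?_
    refine PrimeSpectrum.ext ?_
    exact (Ideal.comap_comap _ _).trans hq.symm
  have hQ' : Q.asIdeal = Ideal.comap C.val.toRingHom q.asIdeal := (congrArg PrimeSpectrum.asIdeal hQ).symm
  let i := Ideal.ResidueField.map (PrimeSpectrum.comap (algebraMap A C) Q).asIdeal q.asIdeal (algebraMap A B) hq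
  let i₁ := Ideal.ResidueField.map (PrimeSpectrum.comap (algebraMap A C) Q).asIdeal Q.asIdeal (algebraMap A C) rfl
  let i₂ := Ideal.ResidueField.map Q.asIdeal q.asIdeal C.val.toRingHom hQ'
  have hi : i₂.comp i₁ = i := by
    refine Ideal.ResidueField.ringHom_ext (RingHom.ext fun a => ?_)
    simp only [RingHom.comp_apply, i, i₁, i₂, Ideal.ResidueField.map_algebraMap]
    rfl
  obtain ⟨n, hn⟩ : ∃ n : ℕ, z ^ ringExpChar (PrimeSpectrum.comap (algebraMap A C) Q).asIdeal.ResidueField ^ n ∈ Set.range i₁ := by
    letI := i₁.toAlgebra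
    haveI : Algebra.IsIntegral (PrimeSpectrum.comap (algebraMap A C) Q).asIdeal.ResidueField Q.asIdeal.ResidueField := by
      refine ⟨fun y => ?_⟩
      obtain ⟨a, s, -, rfl⟩ := IsFractionRing.div_surjective (A := C ⧸ Q.asIdeal) y
      have hel : ∀ w : C ⧸ Q.asIdeal, IsIntegral (PrimeSpectrum.comap (algebraMap A C) Q).asIdeal.ResidueField
          (algebraMap (C ⧸ Q.asIdeal) Q.asIdeal.ResidueField w) := fun w => by
        obtain ⟨w, rfl⟩ := Ideal.Quotient.mk_surjective w
        obtain ⟨F, hF, hF0⟩ := hu.int w
        refine ⟨F.map (algebraMap A _), hF.map _, ?_⟩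
        rw [Polynomial.eval₂_map, Ideal.algebraMap_quotient_residueField_mk,
          show (algebraMap (PrimeSpectrum.comap (algebraMap A C) Q).asIdeal.ResidueField Q.asIdeal.ResidueField).comp
            (algebraMap A _) = (algebraMap C Q.asIdeal.ResidueField).comp (algebraMap A C) from
            RingHom.ext fun r => Ideal.ResidueField.map_algebraMap _ _ (algebraMap A C) rfl r,
          ← Polynomial.hom_eval₂, hF0, map_zero]
      exact div_eq_mul_inv (algebraMap (C ⧸ Q.asIdeal) Q.asIdeal.ResidueField a) _ ▸ (hel a).mul (hel s).inv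
    haveI : IsPurelyInseparable (PrimeSpectrum.comap (algebraMap A C) Q).asIdeal.ResidueField Q.asIdeal.ResidueField := by
      rw [isPurelyInseparable_iff_finSepDegree_eq_one]
      haveI : Subsingleton (Field.Emb (PrimeSpectrum.comap (algebraMap A C) Q).asIdeal.ResidueField Q.asIdeal.ResidueField) := ⟨fun u v => by
        refine AlgHom.coe_ringHom_injective (Ideal.ResidueField.ringHom_ext (hu.inj _ _ _ (RingHom.ext fun r => ?_)))
        exact (congrArg u (Ideal.ResidueField.map_algebraMap _ _ (algebraMap A C) rfl r).symm).trans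
          ((u.commutes _).trans ((v.commutes _).symm.trans
            (congrArg v (Ideal.ResidueField.map_algebraMap _ _ (algebraMap A C) rfl r))))⟩
      rw [Field.finSepDegree]
      exact Nat.card_eq_one_iff_unique.2 ⟨inferInstance, inferInstance⟩
    exact IsPurelyInseparable.pow_mem _ (ringExpChar (PrimeSpectrum.comap (algebraMap A C) Q).asIdeal.ResidueField) z
  obtain ⟨w, hw⟩ := hqx (i₂ z) ⟨n, by
    obtain ⟨w, hw⟩ := hn
    exact ⟨w, ((RingHom.congr_fun hi w).symm.trans (congrArg i₂ hw)).trans (map_pow _ _ _)⟩⟩
  exact ⟨w, i₂.injective ((RingHom.congr_fun hi w).trans hw)⟩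

end Groth.Agent.S13838
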