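import Groth.Statements.S13860
import Mathlib

set_option autoImplicit false
universe u v w
open ModRep

namespace Groth.Agent.S13860

/-- For k a field of characteristic p > 0, G a finite group and P a Sylow p-subgroup of G, a short exact
sequence of k[G]-modules has a k[G]-linear splitting exactly when it has a k[P]-linear one. Stated
here for the surjection of the sequence: a G-equivariant k-linear map g : B → C between k-linear
representations of G admits a G-equivariant k-linear section if and only if it admits a
P-equivariant k-linear section. -/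
theorem result {k : Type u} [Field k] (p : ℕ) [Fact p.Prime]
    [CharP k p] {G : Type v} [Group G] [Finite G] (P : Sylow p G)
    {B C : Type w} [AddCommGroup B] [Module k B] [AddCommGroup C] [Module k C]
    (ρB : Representation k G B) (ρC : Representation k G C)
    (g : B →ₗ[k] C) (hg : ∀ x : G, g ∘ₗ ρB x = ρC x ∘ₗ g) :
    (∃ s : C →ₗ[k] B, g ∘ₗ s = LinearMap.id ∧ ∀ x : G, s ∘ₗ ρC x = ρB x ∘ₗ s) ↔
      (∃ s : C →ₗ[k] B, g ∘ₗ s = LinearMap.id ∧ ∀ x : G, x ∈ P → s ∘ₗ ρC x = ρB x ∘ₗ s) := by
  classical
  constructor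
  · rintro ⟨s, h1, h2⟩
    exact ⟨s, h1, fun x _ => h2 x⟩
  rintro ⟨s, h1, h2⟩
  have := Fintype.ofFinite (G ⧸ (P : Subgroup G))
  have hi : ((P : Subgroup G).index : k) ≠ 0 := fun h => P.not_dvd_index ((CharP.cast_eq_zero_iff k p _).1 h)
  let F : G → (C →ₗ[k] B) := fun x => ρB x ∘ₗ s ∘ₗ ρC x⁻¹
  have hF : ∀ x h : G, h ∈ P → F (x * h) = F x := fun x h hh => by
    refine LinearMap.ext fun v => ?_
    simp only [F, LinearMap.comp_apply, mul_inv_rev, map_mul, Module.End.mul_apply]
    have e := LinearMap.congr_fun (h2 h⁻¹ (inv_mem hh)) (ρC x⁻¹ v)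
    simp only [LinearMap.comp_apply] at e
    rw [e, Representation.self_inv_apply]
  have hgF : ∀ x, g ∘ₗ F x = LinearMap.id := fun x => by
    refine LinearMap.ext fun v => ?_
    simp only [F, LinearMap.comp_apply, LinearMap.id_apply]
    rw [← LinearMap.comp_apply g (ρB x), hg, LinearMap.comp_apply, ← LinearMap.comp_apply g s, h1, LinearMap.id_apply,
      Representation.self_inv_apply]
  refine ⟨((P : Subgroup G).index : k)⁻¹ • ∑ q : G ⧸ (P : Subgroup G), F q.out, ?_, fun x => ?_⟩
  · refine LinearMap.ext fun v => ?_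
    rw [LinearMap.comp_apply, LinearMap.smul_apply, map_smul, LinearMap.sum_apply, map_sum]
    simp only [fun x => show g (F x v) = v from LinearMap.congr_fun (hgF x) v, Finset.sum_const, Finset.card_univ]
    rw [← Nat.card_eq_fintype_card, ← Subgroup.index_eq_card, ← Nat.cast_smul_eq_nsmul k, smul_smul, inv_mul_cancel₀ hi, one_smul, LinearMap.id_apply]
  · refine LinearMap.ext fun v => ?_
    simp only [LinearMap.comp_apply, LinearMap.smul_apply, map_smul, LinearMap.sum_apply, map_sum]
    congr 1
    symm
    refine Fintype.sum_equiv (MulAction.toPerm x) _ _ fun q => ?_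
    have hout : x * q.out = (x • q).out * ((x • q).out⁻¹ * (x * q.out)) := by group
    have hmem : (x • q).out⁻¹ * (x * q.out) ∈ (P : Subgroup G) := by
      rw [← QuotientGroup.eq, QuotientGroup.out_eq']
      conv_lhs => rw [← QuotientGroup.out_eq' q]
      rfl
    calc ρB x (F q.out v) = F (x * q.out) (ρC x v) := by
          simp [F, LinearMap.comp_apply]
      _ = F (x • q).out (ρC x v) := by rw [hout, hF _ _ hmem]

end Groth.Agent.S13860
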