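import Groth.Statements.S13863
import Mathlib

set_option autoImplicit false
set_option backward.isDefEq.respectTransparency.types false
set_option maxHeartbeats 1000000
set_option linter.all false
universe u
open ASCover

namespace Groth.Agent.S13863
open Groth.Agent

/-- For k an algebraically closed field of characteristic p > 0, n ≥ 1 an integer prime to p, and u ∈
k[[t]] the power series with constant term 1 and u^n · (1 + t^n) = 1, the substitution σ(t) = t·u is
a k-automorphism of k((t)) of order p and, for an integer a, σ acts on the fractional ideal I =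
t^a·k[[t]]; transported to B = k[[t]] along h ↦ t^a·h this action is h ↦ u^a · h(t·u). For an
integer i with a − n ≤ i ≤ a − 1 the element σ(t^i) − t^i lies in I, so t^i defines a class in
H^1(⟨σ⟩, I); the classes with p ∤ i form a basis of this H^1, and when p divides i the class
vanishes, i.e. σ(t^i) − t^i = σ(w) − w for some w ∈ I. (The published statement of this vanishing is
printed with the condition p ∤ i, which contradicts the basis assertion of the same lemma; its proof
treats p | i, and this row states that case.) In transported form, with m = a − i ∈ [1, n] and c ∈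
k[[t]] defined by t^m · c = u^i − 1: there is h ∈ k[[t]] with u^a · h(t·u) − h = c. -/
theorem result {k : Type u} [Field k] [IsAlgClosed k] (p : ℕ)
    [Fact p.Prime] [CharP k p] (n : ℕ) (hn : 0 < n) (hpn : ¬ p ∣ n)
    (u : PowerSeries k) (hu1 : PowerSeries.constantCoeff u = 1)
    (hun : u ^ n * (1 + PowerSeries.X ^ n) = 1) (hu : IsUnit u) (a : ℤ) (m : ℕ)
    (hm1 : 1 ≤ m) (hmn : m ≤ n) (hdvd : (p : ℤ) ∣ a - m) (c : PowerSeries k)
    (hc : PowerSeries.X ^ m * c = ((hu.unit ^ (a - m) : (PowerSeries k)ˣ) : PowerSeries k) - 1) :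
    ∃ h : PowerSeries k,
      ((hu.unit ^ a : (PowerSeries k)ˣ) : PowerSeries k) * PowerSeries.subst (PowerSeries.X * u) h - h = c := by
    classical
    have hp2 : 2 ≤ p := (Fact.out : p.Prime).two_le
    have hnk : (n : k) ≠ 0 := fun h => hpn ((CharP.cast_eq_zero_iff k p n).1 h)
    have hσ : PowerSeries.HasSubst (PowerSeries.X * u) := PowerSeries.HasSubst.of_constantCoeff_zero' (by simp)
    let S : PowerSeries k →ₐ[k] PowerSeries k := PowerSeries.substAlgHom hσ
    have hSapp : ∀ f, PowerSeries.subst (PowerSeries.X * u) f = S f := fun f => (congrFun (PowerSeries.coe_substAlgHom hσ) f).symm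
    have hSX : S PowerSeries.X = PowerSeries.X * u := by rw [← hSapp, PowerSeries.subst_X hσ]
    obtain ⟨ζ, hζ⟩ := IsAlgClosed.exists_pow_nat_eq (-1 : k) hn
    have hT' : PowerSeries.HasSubst (PowerSeries.C ζ * PowerSeries.X ^ (p - 1)) :=
      PowerSeries.HasSubst.of_constantCoeff_zero' (by rw [map_mul, map_pow, PowerSeries.constantCoeff_X, zero_pow (by omega), mul_zero])
    let T : PowerSeries k →ₐ[k] PowerSeries k := PowerSeries.substAlgHom hT'
    have hTX : T PowerSeries.X = PowerSeries.C ζ * PowerSeries.X ^ (p - 1) := by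
      rw [show T PowerSeries.X = PowerSeries.subst (PowerSeries.C ζ * PowerSeries.X ^ (p - 1)) PowerSeries.X from congrFun (PowerSeries.coe_substAlgHom hT') _, PowerSeries.subst_X hT']
    set N := (p - 1) * n with hN
    have hE : (T u) ^ n * (1 - PowerSeries.X ^ N) = 1 := by
      have h := congrArg T hun
      rw [map_mul, map_pow, map_add, map_pow, map_one, hTX, mul_pow, ← map_pow PowerSeries.C, hζ, ← pow_mul, ← hN, map_neg, map_one, neg_one_mul, ← sub_eq_add_neg] at h
      exact h
    have huniq : ∀ x y : PowerSeries k, PowerSeries.constantCoeff x = 1 → PowerSeries.constantCoeff y = 1 → x ^ n = y ^ n → x = y := by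
      intro x y hx hy hxy
      have h := geom_sum₂_mul x y n
      rw [hxy, sub_self, mul_eq_zero] at h
      refine sub_eq_zero.1 (h.resolve_left fun h0 => hnk ?_)
      simpa [hx, hy] using congrArg PowerSeries.constantCoeff h0
    have hcu : ∀ {A : PowerSeries k}, (PowerSeries.constantCoeff A = 1) → IsUnit A := fun {A} h => PowerSeries.isUnit_iff_constantCoeff.2 (by rw [h]; exact isUnit_one)
    have hord : ∀ (x : PowerSeries k) (M : ℕ), PowerSeries.constantCoeff x = 1 → PowerSeries.X ^ M ∣ x ^ n - 1 → PowerSeries.X ^ M ∣ x - 1 := by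
      intro x M hx hM
      have hs : IsUnit (∑ i ∈ Finset.range n, x ^ i) := PowerSeries.isUnit_iff_constantCoeff.2 (by simpa [hx] using hnk)
      rw [← geom_sum_mul] at hM
      exact hs.dvd_mul_left.1 hM
    have hS0 : ∀ f, PowerSeries.constantCoeff f = 1 → PowerSeries.constantCoeff (S f) = 1 := by
      intro f hf
      obtain ⟨g, hg⟩ := PowerSeries.X_dvd_iff.2 (show PowerSeries.constantCoeff (f - 1) = 0 by rw [map_sub, hf, map_one, sub_self])
      have : f = 1 + PowerSeries.X * g := by linear_combination hg
      rw [this, map_add, map_mul, map_one, hSX]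
      simp
    have hE0 : PowerSeries.constantCoeff (T u) = 1 := by
      obtain ⟨g, hg⟩ := PowerSeries.X_dvd_iff.2 (show PowerSeries.constantCoeff (u - 1) = 0 by rw [map_sub, hu1, map_one, sub_self])
      have : u = 1 + PowerSeries.X * g := by linear_combination hg
      rw [this, map_add, map_mul, map_one, hTX]
      simp [zero_pow (show p - 1 ≠ 0 by omega)]
    haveI : CharP (PowerSeries k) p := charP_of_injective_ringHom PowerSeries.C_injective p
    have hfix : S (T u) * u ^ p = T u := by
      refine huniq _ _ (by rw [map_mul, map_pow, hS0 _ hE0, hu1, one_pow, one_mul]) hE0 ?_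
      obtain ⟨P, hP⟩ : ∃ P, u ^ n = P := ⟨_, rfl⟩
      rw [hP] at hun
      have hF := congrArg S hE
      rw [map_mul, map_pow, map_sub, map_pow, map_one, hSX, mul_pow, show u ^ N = P ^ (p - 1) by rw [← hP, ← pow_mul, hN, mul_comm]] at hF
      have hpp : (1 + PowerSeries.X ^ n : PowerSeries k) ^ p = 1 + PowerSeries.X ^ N * PowerSeries.X ^ n := by
        rw [add_pow_char, one_pow, ← pow_mul, ← pow_add, hN]
        congr 2
        conv_lhs => rw [show p = p - 1 + 1 by omega]
        ring
      have h1 : P ^ p * (1 + PowerSeries.X ^ n) ^ p = 1 := by rw [← mul_pow, hun, one_pow]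
      have h2 : P ^ p = P ^ (p - 1) * P := by rw [← pow_succ]; congr 1; omega
      have h3 : P ^ p * (1 - PowerSeries.X ^ N) = 1 - PowerSeries.X ^ N * P ^ (p - 1) := by
        rw [hpp] at h1
        linear_combination h1 + (-(PowerSeries.X ^ N * (1 + PowerSeries.X ^ n))) * h2 + (-(PowerSeries.X ^ N * P ^ (p - 1))) * hun
      rw [mul_pow, ← pow_mul, mul_comm p n, pow_mul, hP]
      linear_combination (T u) ^ n * hF + (T u) ^ n * S (T u) ^ n * h3 - S (T u) ^ n * P ^ p * hE
    obtain ⟨j, hj⟩ := hdvd
    let eu : (PowerSeries k)ˣ := (hcu hE0).unit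
    have hfixu : Units.map (S : PowerSeries k →* PowerSeries k) eu * hu.unit ^ (p : ℤ) = eu := Units.ext (by
      rw [zpow_natCast, Units.val_mul, Units.val_pow_eq_pow_val]; exact hfix)
    have hfixj : Units.map (S : PowerSeries k →* PowerSeries k) (eu ^ j) * hu.unit ^ (a - m) = eu ^ j := by
      conv_rhs => rw [← hfixu, mul_zpow, ← map_zpow, ← zpow_mul, ← hj]
    have hNm : m ≤ N := hmn.trans (Nat.le_mul_of_pos_left n (by omega))
    have hr : PowerSeries.X ^ m ∣ 1 - ((eu ^ j : (PowerSeries k)ˣ) : PowerSeries k) := by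
      have hd : PowerSeries.X ^ N ∣ T u - 1 := hord _ N hE0 ⟨(T u) ^ n, by linear_combination hE⟩
      let φ := Ideal.Quotient.mk (Ideal.span {(PowerSeries.X : PowerSeries k) ^ m})
      have h1 : Units.map φ.toMonoidHom eu = 1 := Units.ext (by
        show φ (T u) = 1
        rw [← sub_eq_zero, ← map_one φ, ← map_sub, Ideal.Quotient.eq_zero_iff_mem, Ideal.mem_span_singleton]
        exact (pow_dvd_pow _ hNm).trans hd)
      have h2 : φ ((eu ^ j : (PowerSeries k)ˣ) : PowerSeries k) = 1 := by
        have := map_zpow (Units.map φ.toMonoidHom) eu j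
        rw [h1, one_zpow] at this
        exact congrArg Units.val this
      rw [← Ideal.mem_span_singleton, ← Ideal.Quotient.eq_zero_iff_mem, map_sub, map_one]
      exact sub_eq_zero.2 h2.symm
    obtain ⟨h, hh⟩ := hr
    refine ⟨h, mul_left_cancel₀ (pow_ne_zero m PowerSeries.X_ne_zero) ?_⟩
    rw [hSapp, hc]
    have h4 := congrArg S hh
    rw [map_sub, map_one, map_mul, map_pow, hSX] at h4
    have h5 : ((hu.unit ^ a : (PowerSeries k)ˣ) : PowerSeries k) = ((hu.unit ^ (a - m) : (PowerSeries k)ˣ) : PowerSeries k) * u ^ m := by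
      have h6 : hu.unit ^ a = hu.unit ^ (a - m) * hu.unit ^ m := by rw [← zpow_natCast, ← zpow_add, sub_add_cancel]
      exact congrArg Units.val h6
    have h7 : S ((eu ^ j : (PowerSeries k)ˣ) : PowerSeries k) * ((hu.unit ^ (a - m) : (PowerSeries k)ˣ) : PowerSeries k) = ((eu ^ j : (PowerSeries k)ˣ) : PowerSeries k) := congrArg Units.val hfixj
    linear_combination PowerSeries.X ^ m * S h * h5 - ((hu.unit ^ (a - m) : (PowerSeries k)ˣ) : PowerSeries k) * h4 + hh - h7

end Groth.Agent.S13863
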