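import Groth.Statements.S13864
import Mathlib

set_option autoImplicit false
set_option backward.isDefEq.respectTransparency.types false
set_option maxHeartbeats 1000000
set_option linter.all false
universe u
open ASCover

namespace Groth.Agent.S13864
open Groth.Agent

/-- Let k be an algebraically closed field of characteristic p > 0, n ≥ 1 an integer prime to p, u ∈
k[[t]] the power series with constant term 1 and u^n · (1 + t^n) = 1 (so σ(t) = t·u is a
k-automorphism of k((t)) of order p), and a an integer; σ acts on I = t^a·k[[t]], and transported to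
B = k[[t]] along h ↦ t^a·h the action is h ↦ u^a · h(t·u). For 1 ≤ m ≤ n let c_m ∈ B be determined
by t^m · c_m = u^(a−m) − 1; this is the cocycle value σ(t^i) − t^i ∈ I of the element t^i, i = a −
m, divided by t^a. The published lemma says that the classes of the t^i with a − n ≤ i ≤ a − 1 and p
∤ i form a basis of H^1(⟨σ⟩, I); this row states their linear independence: if Σ λ_m c_m, summed
over 1 ≤ m ≤ n with p ∤ a − m, equals u^a · h(t·u) − h for some h ∈ B, then every such λ_m is 0.
(Together with the dimension of this H^1, namely n − ⌊(a−1)/p⌋ + ⌊(a−1−n)/p⌋, this gives the basis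
statement.) -/
theorem result {k : Type u} [Field k] [IsAlgClosed k] (p : ℕ)
    [Fact p.Prime] [CharP k p] (n : ℕ) (hn : 0 < n) (hpn : ¬ p ∣ n)
    (u : PowerSeries k) (hu1 : PowerSeries.constantCoeff u = 1)
    (hun : u ^ n * (1 + PowerSeries.X ^ n) = 1) (hu : IsUnit u) (a : ℤ)
    (c : ℕ → PowerSeries k)
    (hc : ∀ m : ℕ, 1 ≤ m → m ≤ n →
      PowerSeries.X ^ m * c m = ((hu.unit ^ (a - m) : (PowerSeries k)ˣ) : PowerSeries k) - 1)
    (coef : ℕ → k) (h : PowerSeries k)
    (hh : ((hu.unit ^ a : (PowerSeries k)ˣ) : PowerSeries k) * PowerSeries.subst (PowerSeries.X * u) h - h =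
      ∑ m ∈ (Finset.Icc 1 n).filter (fun m : ℕ => ¬ (p : ℤ) ∣ a - (m : ℤ)), coef m • c m) :
    ∀ m ∈ (Finset.Icc 1 n).filter (fun m : ℕ => ¬ (p : ℤ) ∣ a - (m : ℤ)), coef m = 0 := by
    classical
    have hnk : (n : k) ≠ 0 := fun h => hpn ((CharP.cast_eq_zero_iff k p n).1 h)
    have hσ : PowerSeries.HasSubst (PowerSeries.X * u) := PowerSeries.HasSubst.of_constantCoeff_zero' (by simp)
    let S : PowerSeries k →ₐ[k] PowerSeries k := PowerSeries.substAlgHom hσ
    have hSapp : ∀ f, PowerSeries.subst (PowerSeries.X * u) f = S f := fun f => (congrFun (PowerSeries.coe_substAlgHom hσ) f).symm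
    have hSX : S PowerSeries.X = PowerSeries.X * u := by rw [← hSapp, PowerSeries.subst_X hσ]
    -- u = 1 + X^n e
    have hu_div : PowerSeries.X ^ n ∣ u - 1 := by
      have hs : IsUnit (∑ i ∈ Finset.range n, u ^ i) := PowerSeries.isUnit_iff_constantCoeff.2 (by simpa [hu1] using hnk)
      refine hs.dvd_mul_left.1 ?_
      rw [geom_sum_mul]
      exact ⟨-u ^ n, by linear_combination hun⟩
    obtain ⟨e, he⟩ := hu_div
    have hue : u = 1 + PowerSeries.X ^ n * e := by linear_combination he
    have he0 : PowerSeries.constantCoeff e ≠ 0 := by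
      intro h0
      obtain ⟨e', he'⟩ := PowerSeries.X_dvd_iff.2 h0
      have hX0 : PowerSeries.constantCoeff (PowerSeries.X ^ n : PowerSeries k) = 0 := by simp [hn.ne']
      have h' : PowerSeries.X ^ n ∣ u ^ n - 1 := ⟨-u ^ n, by linear_combination hun⟩
      have h2 : PowerSeries.X ^ n * ((∑ i ∈ Finset.range n, u ^ i) * e + u ^ n) = 0 := by
        have h3 := geom_sum_mul u n
        rw [he] at h3
        linear_combination h3 + hun
      have h4 := congrArg PowerSeries.constantCoeff ((mul_eq_zero.1 h2).resolve_left (pow_ne_zero n PowerSeries.X_ne_zero))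
      simp [hu1, h0] at h4
    have hpow : ∀ r : ℤ, ∃ w, ((hu.unit ^ r : (PowerSeries k)ˣ) : PowerSeries k) = 1 + PowerSeries.X ^ n * w ∧
        PowerSeries.constantCoeff w = (r : k) * PowerSeries.constantCoeff e := by
      intro r
      induction r using Int.induction_on with
      | zero => exact ⟨0, by simp, by simp⟩
      | succ i ih =>
        obtain ⟨w, hw, hw0⟩ := ih
        refine ⟨w + e + PowerSeries.X ^ n * w * e, ?_, ?_⟩
        · rw [zpow_add_one, Units.val_mul, hw, IsUnit.unit_spec]; rw [hue]; ring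
        · simp [hw0, hn.ne']; ring
      | pred i ih =>
        obtain ⟨w, hw, hw0⟩ := ih
        obtain ⟨v, hv⟩ : ∃ v, ((hu.unit⁻¹ : (PowerSeries k)ˣ) : PowerSeries k) = v := ⟨_, rfl⟩
        have hvu : v * u = 1 := by rw [← hv]; exact hu.val_inv_mul
        have hv0 : PowerSeries.constantCoeff v = 1 := by simpa [hu1] using congrArg PowerSeries.constantCoeff hvu
        refine ⟨w - e * v - PowerSeries.X ^ n * w * e * v, ?_, ?_⟩
        · rw [zpow_sub_one, Units.val_mul, hw, hv]
          have : v = 1 - PowerSeries.X ^ n * e * v := by rw [hue] at hvu; linear_combination hvu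
          linear_combination (1 + PowerSeries.X ^ n * w) * this
        · simp [hw0, hv0, hn.ne']; ring
    have hSd : ∀ i, i ≤ n + 1 → ∀ g : PowerSeries k, PowerSeries.X ^ i ∣ S g - g := by
      intro i
      induction i with
      | zero => intro _ g; simp
      | succ i ih =>
        intro hi g
        obtain ⟨g', hg'⟩ := PowerSeries.X_dvd_iff.2 (show PowerSeries.constantCoeff (g - PowerSeries.C (PowerSeries.constantCoeff g)) = 0 by simp)
        obtain ⟨z, hz⟩ := ih (by omega) g'
        have hg : g = algebraMap k (PowerSeries k) (PowerSeries.constantCoeff g) + PowerSeries.X * g' := by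
          rw [PowerSeries.algebraMap_apply, Algebra.algebraMap_self, RingHom.id_apply]; linear_combination hg'
        have hX : PowerSeries.X * (PowerSeries.X ^ n) = PowerSeries.X ^ (i + 1) * (PowerSeries.X : PowerSeries k) ^ (n - i) := by
          rw [← pow_succ', ← pow_add]; congr 1; omega
        refine ⟨u * z + PowerSeries.X ^ (n - i) * e * g', ?_⟩
        rw [hg, map_add, map_mul, AlgHom.commutes, hSX]
        linear_combination PowerSeries.X * u * hz + PowerSeries.X * g' * he + e * g' * hX
    set F := (Finset.Icc 1 n).filter (fun m : ℕ => ¬ (p : ℤ) ∣ a - (m : ℤ)) with hF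
    let P : PowerSeries k := ∑ m ∈ F, coef m • PowerSeries.X ^ (n - m)
    let G : PowerSeries k := P - PowerSeries.X ^ n * h
    have hfix : ((hu.unit ^ (a - n) : (PowerSeries k)ˣ) : PowerSeries k) * S G = G := by
      have h1 : ∀ m ∈ F, ((hu.unit ^ (a - n) : (PowerSeries k)ˣ) : PowerSeries k) * S (PowerSeries.X ^ (n - m)) - PowerSeries.X ^ (n - m) = PowerSeries.X ^ n * c m := by
        intro m hm
        obtain ⟨hm1, hm2⟩ := Finset.mem_Icc.1 (Finset.mem_filter.1 hm).1
        have h2 : hu.unit ^ (a - m) = hu.unit ^ (a - n) * hu.unit ^ (n - m) := by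
          rw [← zpow_natCast, ← zpow_add]; congr 1; omega
        have h3 : PowerSeries.X ^ n * c m = PowerSeries.X ^ (n - m) * (((hu.unit ^ (a - m) : (PowerSeries k)ˣ) : PowerSeries k) - 1) := by
          rw [← hc m hm1 hm2, ← mul_assoc, ← pow_add, Nat.sub_add_cancel hm2]
        rw [h3, map_pow, hSX, mul_pow, h2, Units.val_mul, Units.val_pow_eq_pow_val, IsUnit.unit_spec]
        ring
      have h4 : hu.unit ^ a = hu.unit ^ (a - n) * hu.unit ^ n := by rw [← zpow_natCast, ← zpow_add, sub_add_cancel]
      have h4' := congrArg Units.val h4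
      rw [Units.val_mul, Units.val_pow_eq_pow_val, IsUnit.unit_spec] at h4'
      rw [hSapp, h4'] at hh
      have h5 : ((hu.unit ^ (a - n) : (PowerSeries k)ˣ) : PowerSeries k) * S P - P = PowerSeries.X ^ n * ∑ m ∈ F, coef m • c m := by
        simp only [P, map_sum, map_smul, Finset.mul_sum, mul_smul_comm, ← Finset.sum_sub_distrib, ← smul_sub]
        exact Finset.sum_congr rfl fun m hm => by rw [h1 m hm]
      simp only [G, map_sub, map_mul, map_pow, hSX, mul_pow]
      linear_combination h5 - PowerSeries.X ^ n * hh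
    intro m hm
    by_contra hne
    have hcoefG : ∀ m ∈ F, PowerSeries.coeff (n - m) G = coef m := by
      intro m hm
      obtain ⟨hm1, hm2⟩ := Finset.mem_Icc.1 (Finset.mem_filter.1 hm).1
      simp only [G, P, map_sub, map_sum, PowerSeries.coeff_X_pow_mul', PowerSeries.coeff_smul, smul_eq_mul]
      rw [if_neg (by omega), sub_zero, Finset.sum_eq_single m]
      · simp [PowerSeries.coeff_X_pow]
      · intro b hb hbm
        obtain ⟨-, hb2⟩ := Finset.mem_Icc.1 (Finset.mem_filter.1 hb).1
        simp [PowerSeries.coeff_X_pow, show n - m ≠ n - b by omega]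
      · exact fun h => absurd hm h
    have hG0 : G ≠ 0 := fun h0 => hne (by rw [← hcoefG m hm, h0, map_zero])
    obtain ⟨d, hd⟩ := ENat.ne_top_iff_exists.1 (fun h => hG0 (PowerSeries.order_eq_top.1 h))
    have hdn : d < n := by
      have := PowerSeries.order_le (n - m) (show PowerSeries.coeff (n - m) G ≠ 0 by rw [hcoefG m hm]; exact hne)
      rw [← hd, Nat.cast_le] at this
      obtain ⟨hm1, hm2⟩ := Finset.mem_Icc.1 (Finset.mem_filter.1 hm).1
      omega
    obtain ⟨g, hg⟩ := PowerSeries.X_pow_dvd_iff.2 (fun i hi => PowerSeries.coeff_of_lt_order i (hd ▸ (Nat.cast_lt.2 hi : (i : ℕ∞) < d)))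
    have hg0 : PowerSeries.constantCoeff g ≠ 0 := by
      have := (PowerSeries.order_eq_nat.1 hd.symm).1
      rw [hg, PowerSeries.coeff_X_pow_mul', if_pos le_rfl, Nat.sub_self, PowerSeries.coeff_zero_eq_constantCoeff] at this
      exact this
    obtain ⟨w, hw, hw0⟩ := hpow (a - n + d)
    obtain ⟨z, hz⟩ := hSd (n + 1) le_rfl g
    have heq : PowerSeries.X ^ d * (PowerSeries.X ^ n * (w * S g + PowerSeries.X * z)) = 0 := by
      have h1 := hfix
      rw [hg, map_mul, map_pow, hSX, mul_pow] at h1
      have h2 : ((hu.unit ^ (a - n) : (PowerSeries k)ˣ) : PowerSeries k) * u ^ d = 1 + PowerSeries.X ^ n * w := by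
        rw [← hw, zpow_add, Units.val_mul, zpow_natCast, Units.val_pow_eq_pow_val, IsUnit.unit_spec]
      linear_combination h1 - PowerSeries.X ^ d * S g * h2 - PowerSeries.X ^ d * hz
    have h0 := congrArg PowerSeries.constantCoeff ((mul_eq_zero.1 ((mul_eq_zero.1 heq).resolve_left (pow_ne_zero d PowerSeries.X_ne_zero))).resolve_left (pow_ne_zero n PowerSeries.X_ne_zero))
    have hSg : PowerSeries.constantCoeff (S g) = PowerSeries.constantCoeff g := by
      have := congrArg PowerSeries.constantCoeff hz
      rwa [map_sub, map_mul, map_pow, PowerSeries.constantCoeff_X, zero_pow (by omega), zero_mul, sub_eq_zero] at this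
    rw [map_add, map_mul, map_mul, PowerSeries.constantCoeff_X, zero_mul, add_zero, hw0, hSg, map_zero] at h0
    have hdvd : (p : ℤ) ∣ a - n + d := (CharP.intCast_eq_zero_iff k p _).1 (((mul_eq_zero.1 ((mul_eq_zero.1 h0).resolve_right hg0)).resolve_right he0))
    have hd0 := (PowerSeries.order_eq_nat.1 hd.symm).1
    simp only [G, P, map_sub, map_sum, PowerSeries.coeff_X_pow_mul', PowerSeries.coeff_smul, smul_eq_mul] at hd0
    rw [if_neg (by omega), sub_zero] at hd0
    obtain ⟨b, hb, hb0⟩ := Finset.exists_ne_zero_of_sum_ne_zero hd0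
    obtain ⟨hbI, hbn⟩ := Finset.mem_filter.1 hb
    obtain ⟨hb1, hb2⟩ := Finset.mem_Icc.1 hbI
    have : d = n - b := by
      by_contra hne'
      simp [PowerSeries.coeff_X_pow, hne'] at hb0
    exact hbn (by rwa [show a - (b : ℤ) = a - n + d by omega])

end Groth.Agent.S13864
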