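import Groth.Statements.S13874
import Groth.Agent.Lib.H7GammaPoint
import Groth.Agent.S0415
import Groth.Agent.S13398

set_option autoImplicit false
universe u
open scoped TensorProduct
open AlgebraicGeometry
open ZeroCyc

namespace Groth.Agent.S13874

open CategoryTheory in
theorem spec_eval_fraction (R : Type u) [CommRing R] (x : ↥(Spec (CommRingCat.of R)))
    (w : (Spec (CommRingCat.of R)).residueField x) :
    ∃ a b : R, (Spec (CommRingCat.of R)).Γevaluation x ((Scheme.ΓSpecIso (CommRingCat.of R)).inv b) ≠ 0 ∧
      w * (Spec (CommRingCat.of R)).Γevaluation x ((Scheme.ΓSpecIso (CommRingCat.of R)).inv b) =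
        (Spec (CommRingCat.of R)).Γevaluation x ((Scheme.ΓSpecIso (CommRingCat.of R)).inv a) := by
  obtain ⟨z, rfl⟩ := (Spec (CommRingCat.of R)).residue_surjective x w
  let i : R →+* (Spec (CommRingCat.of R)).presheaf.stalk x :=
    (((Spec (CommRingCat.of R)).presheaf.germ ⊤ x trivial).hom.comp (Scheme.ΓSpecIso (CommRingCat.of R)).inv.hom)
  let p : PrimeSpectrum R := x
  let St := (Spec.structureSheaf R).presheaf.stalk p
  letI : Algebra R St := StructureSheaf.stalkAlgebra R p
  haveI : IsLocalization.AtPrime St p.asIdeal := StructureSheaf.IsLocalization.to_stalk R p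
  obtain ⟨⟨a, b⟩, hab⟩ := IsLocalization.surj (S := St) p.asIdeal.primeCompl z
  have halg : ∀ r : R, algebraMap R St r = i r := fun r => rfl
  refine ⟨a, b, ?_, ?_⟩
  · have hu : IsUnit (i (b : R)) := by
      rw [← halg]
      exact IsLocalization.map_units (M := p.asIdeal.primeCompl) St b
    exact (hu.map ((Spec (CommRingCat.of R)).residue x).hom).ne_zero
  · show (Spec (CommRingCat.of R)).residue x z * (Spec (CommRingCat.of R)).residue x (i b) =
      (Spec (CommRingCat.of R)).residue x (i a)
    rw [← map_mul]
    exact congrArg _ hab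


/-- Affine form. Let A be a commutative ring, B an A-algebra and d ≥ 1; let (C, γ) be the degree-d
divided power algebra Γ^d_A(B) with its universal multiplicative law γ : B → C of degree d (every
multiplicative law of degree d out of B factors uniquely through γ), and let φ : Γ^d_A(B) →
TS^d_A(B) be the canonical homomorphism to the symmetric tensors, taken as data characterised by:
after any base change S, φ ∘ γ sends Σ_j s_j ⊗ b_j to Σ_{c : [d] → [n]} (∏_i s_{c(i)}) ⊗ (b_{c(1)} ⊗
⋯ ⊗ b_{c(d)}), i.e. φ corresponds to the law x ↦ x ⊗ ⋯ ⊗ x. Then the morphism Spec TS^d_A(B) → Spec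
Γ^d_A(B) induced by φ (the comparison map from the d-th symmetric product of Spec B over Spec A to
the scheme of degree-d divided powers) is a universal homeomorphism inducing an isomorphism on every
residue field. (The published statement is for a separated algebraic space X over an algebraic space
S; this row is its content for X = Spec B over S = Spec A. The second assertion of the published
statement, that the map is an isomorphism when B is flat over A or A contains the rationals, is not
part of this row.) -/
theorem result {A B C : Type u} [CommRing A] [CommRing B] [Algebra A B] [CommRing C] [Algebra A C] (d : ℕ) (hd : 0 < d)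
    (γ : PolLaw.MulLaw A B C d) (hγ : PolLaw.IsGammaD γ) (φ : C →ₐ[A] SymTen.TS A B d)
    (hφ : ∀ (S : Type u) [CommSemiring S] [Algebra A S] (n : ℕ) (s : Fin n → S) (b : Fin n → B),
      ((SymTen.TS A B d).val.comp φ).toLinearMap.lTensor S (γ.law.toFun' S (∑ j, s j ⊗ₜ[A] b j)) =
        ∑ c : Fin d → Fin n, (∏ i, s (c i)) ⊗ₜ[A] PiTensorProduct.tprod A (fun i => b (c i))) :
    FlatMor.IsUnivHomeo (Spec.map (CommRingCat.ofHom φ.toRingHom)) ∧
      ∀ x : ↥(Spec (CommRingCat.of (SymTen.TS A B d))),
        Function.Surjective ((Spec.map (CommRingCat.ofHom φ.toRingHom)).residueFieldMap x).hom := by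
  classical
  obtain ⟨hnil, hpow⟩ := Groth.Agent.S13398.result d γ hγ φ hφ
  have hcoef := fun (n : ℕ) (b : Fin n → B) (m : Fin n →₀ ℕ) => Groth.Agent.H7SymTen.phi_coef γ φ hφ b m
  have hint : φ.toRingHom.IsIntegral := fun y => by
    obtain ⟨c, hc⟩ := hpow y
    refine ⟨Polynomial.X ^ d.factorial - Polynomial.C c, Polynomial.monic_X_pow_sub_C c (Nat.factorial_ne_zero d), ?_⟩
    rw [Polynomial.eval₂_sub, Polynomial.eval₂_X_pow, Polynomial.eval₂_C]
    exact sub_eq_zero.mpr hc.symm
  constructor
  · rw [Groth.Agent.S0415.result]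
    refine ⟨IsIntegralHom.SpecMap_iff.2 hint, ?_, ⟨fun p => ?_⟩⟩
    · have e := (tfae_universallyInjective (Spec.map (CommRingCat.ofHom φ.toRingHom))).out 1 0
      refine e.1 fun K _ g₁ g₂ hg => ?_
      obtain ⟨u, rfl⟩ := Spec.map_surjective g₁
      obtain ⟨v, rfl⟩ := Spec.map_surjective g₂
      open CategoryTheory in change Spec.map u ≫ _ = Spec.map v ≫ _ at hg
      rw [← Spec.map_comp, ← Spec.map_comp] at hg
      have huv : ∀ c, u (φ c) = v (φ c) := fun c => congrArg (fun f => f.hom c) (Spec.map_injective hg)
      congr 1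
      refine CommRingCat.hom_ext (RingHom.ext fun y => ?_)
      have ha : ∀ a : A, u (algebraMap A (SymTen.TS A B d) a) = v (algebraMap A (SymTen.TS A B d) a) := fun a => by
        rw [← φ.commutes]; exact huv _
      haveI := RingHom.ker_isPrime (u.hom.comp (algebraMap A (SymTen.TS A B d)))
      obtain ⟨s, hs, c, hc⟩ := Groth.Agent.H7Gamma.exists_point_eq γ φ hcoef
        (RingHom.ker (u.hom.comp (algebraMap A (SymTen.TS A B d)))) y
      have h1 := hc K u.hom rfl
      have h2 := hc K v.hom (by
        ext a
        simp only [RingHom.mem_ker, RingHom.comp_apply]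
        exact ⟨fun h => (ha a).trans h, fun h => (ha a).symm.trans h⟩)
      have hs0 : u.hom (algebraMap A (SymTen.TS A B d) s) ≠ 0 := hs
      refine mul_left_cancel₀ hs0 (h1.trans ?_)
      rw [show u.hom (algebraMap A (SymTen.TS A B d) s) = v.hom (algebraMap A (SymTen.TS A B d) s) from ha s, h2]
      exact huv c
    · letI := φ.toRingHom.toAlgebra
      haveI : Algebra.IsIntegral C (SymTen.TS A B d) := ⟨hint⟩
      let p' : PrimeSpectrum C := p
      haveI : p'.asIdeal.IsPrime := p'.2
      obtain ⟨q, -, hq, hqp⟩ := Ideal.exists_ideal_over_prime_of_isIntegral p'.asIdeal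
        (⊥ : Ideal (SymTen.TS A B d)) (fun c hc => p'.2.mem_of_pow_mem d.factorial (by
          rw [hnil c hc]; exact zero_mem _))
      exact ⟨⟨q, hq⟩, PrimeSpectrum.ext hqp⟩
  · intro x
    let Y := Spec (CommRingCat.of C)
    let X := Spec (CommRingCat.of (SymTen.TS A B d))
    let f : X ⟶ Y := Spec.map (CommRingCat.ofHom φ.toRingHom)
    let ev : SymTen.TS A B d →+* X.residueField x :=
      (X.Γevaluation x).hom.comp (Scheme.ΓSpecIso (CommRingCat.of (SymTen.TS A B d))).inv.hom
    let ρ : Y.residueField (f x) →+* X.residueField x := (f.residueFieldMap x).hom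
    have hev : ∀ c : C, ev (φ c) = ρ (Y.Γevaluation (f x) ((Scheme.ΓSpecIso (CommRingCat.of C)).inv c)) := by
      intro c
      have e1 := Scheme.Γevaluation_naturality_apply f x ((Scheme.ΓSpecIso (CommRingCat.of C)).inv c)
      refine Eq.trans ?_ e1.symm
      exact congrArg (X.Γevaluation x).hom
        (congrArg (fun g => g.hom c) (Scheme.ΓSpecIso_inv_naturality (CommRingCat.ofHom φ.toRingHom)))
    have hrange : ∀ y : SymTen.TS A B d, ev y ∈ ρ.fieldRange := by
      intro y
      haveI := RingHom.ker_isPrime (ev.comp (algebraMap A (SymTen.TS A B d)))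
      obtain ⟨s, hs, c, hc⟩ := Groth.Agent.H7Gamma.exists_point_eq γ φ hcoef
        (RingHom.ker (ev.comp (algebraMap A (SymTen.TS A B d)))) y
      have h := hc _ ev rfl
      rw [← φ.commutes, hev, hev] at h
      have hs0 : ρ (Y.Γevaluation (f x) ((Scheme.ΓSpecIso (CommRingCat.of C)).inv (algebraMap A C s))) ≠ 0 := by
        rw [← hev, φ.commutes]; exact hs
      rw [eq_div_of_mul_eq hs0 ((mul_comm _ _).trans h)]
      exact div_mem ⟨_, rfl⟩ ⟨_, rfl⟩
    intro w
    obtain ⟨a, b, hb, hab⟩ := spec_eval_fraction (SymTen.TS A B d) x w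
    have : w ∈ ρ.fieldRange := by
      rw [eq_div_of_mul_eq hb hab]
      exact div_mem (hrange a) (hrange b)
    exact this

end Groth.Agent.S13874
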