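import Groth.Statements.S13877
import Mathlib

set_option autoImplicit false
set_option backward.isDefEq.respectTransparency.types false
set_option maxHeartbeats 1000000
set_option linter.all false
universe u v
open Crimp

namespace Groth.Agent.S13877
open Groth.Agent

/-- Over R = k⟦t⟧ with k an algebraically closed field of characteristic zero, let S' be a commutative
R-algebra with an R-basis of size d whose discriminant generates the ideal (t ^ a) (a finite cover
of the formal disk of degree d, unramified over the punctured disk, with branch divisor (t ^ a)),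
and let S be an R-subalgebra of S' with an R-basis of size d whose discriminant generates (t ^ b) (a
crimp with branch divisor (t ^ b)). Then t ^ b annihilates S' / S and twice the R-length of S' / S
plus a equals b. (The published statement is for a family of such subalgebras over a k-scheme T and
also asserts T-flatness of the quotient; this row is its restriction to T a point.) -/
theorem result {k : Type u} [Field k] [IsAlgClosed k] [CharZero k]
    {St : Type v} [CommRing St] [Algebra (PowerSeries k) St] (d a b : ℕ)
    (bt : Module.Basis (Fin d) (PowerSeries k) St)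
    (ha : Ideal.span {Algebra.discr (PowerSeries k) ⇑bt} = Ideal.span {(PowerSeries.X : PowerSeries k) ^ a})
    (S : Subalgebra (PowerSeries k) St) (bS : Module.Basis (Fin d) (PowerSeries k) S)
    (hb : Ideal.span {Algebra.discr (PowerSeries k) ⇑bS} = Ideal.span {(PowerSeries.X : PowerSeries k) ^ b}) :
    (∀ q : St ⧸ Subalgebra.toSubmodule S, ((PowerSeries.X : PowerSeries k) ^ b) • q = 0) ∧
    2 * Module.length (PowerSeries k) (St ⧸ Subalgebra.toSubmodule S) + (a : ℕ∞) = (b : ℕ∞) := by
  classical
  have hassoc : ∀ {B : Type v} [CommRing B] [Algebra (PowerSeries k) B]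
      (c c' : Module.Basis (Fin d) (PowerSeries k) B),
      Associated (Algebra.discr (PowerSeries k) ⇑c) (Algebra.discr (PowerSeries k) ⇑c') := by
    intro B _ _ c c'
    rw [← c.toMatrix_map_vecMul c', Algebra.discr_of_matrix_vecMul]
    have hu : IsUnit (c.toMatrix c').det := by
      have := c.invertibleToMatrix c'
      exact Matrix.isUnit_det_of_invertible _
    exact associated_unit_mul_right _ _ (hu.pow 2)
  let N : Submodule (PowerSeries k) St := Subalgebra.toSubmodule S
  let bN : Module.Basis (Fin d) (PowerSeries k) N := bS.map (Subalgebra.toSubmoduleEquiv S).symm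
  obtain ⟨m, c, s0, hs0⟩ := Submodule.exists_smith_normal_form_of_rank_eq (N := N) bt
    (by rw [Module.finrank_eq_card_basis bN, Module.finrank_eq_card_basis bt])
  let s : Module.Basis (Fin d) (PowerSeries k) S := s0.map (Subalgebra.toSubmoduleEquiv S)
  have hs : ∀ i, (s i : St) = c i • m i := fun i => by
    rw [← hs0]; rfl
  have hc : ∀ i, c i ≠ 0 := fun i h => s.ne_zero i (Subtype.ext (by rw [hs, h, zero_smul]; rfl))
  have htr : ∀ x : S, Algebra.trace (PowerSeries k) S x = Algebra.trace (PowerSeries k) St (x : St) := by
    intro x
    rw [Algebra.trace_eq_matrix_trace s, Algebra.trace_eq_matrix_trace m]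
    refine Finset.sum_congr rfl fun i _ => ?_
    simp only [Matrix.diag_apply, Algebra.leftMulMatrix_eq_repr_mul]
    refine mul_left_cancel₀ (hc i) ?_
    have h1 : (x : St) * (s i : St) = ∑ j, (s.repr (x * s i) j * c j) • m j := by
      calc (x : St) * (s i : St) = ((x * s i : S) : St) := rfl
        _ = ((∑ j, s.repr (x * s i) j • s j : S) : St) := by rw [s.sum_repr]
        _ = _ := by
          rw [AddSubmonoidClass.coe_finset_sum]
          refine Finset.sum_congr rfl fun j _ => ?_
          rw [SetLike.val_smul, hs, smul_smul]
    have h2 := congrArg (fun y => m.repr y i) h1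
    rw [hs, mul_smul_comm] at h2
    simp only [map_smul, Finsupp.smul_apply, smul_eq_mul, m.repr_sum_self] at h2
    rw [h2, mul_comm]
  have hdiscr : Algebra.discr (PowerSeries k) ⇑s = (∏ i, c i) ^ 2 * Algebra.discr (PowerSeries k) ⇑m := by
    rw [← Matrix.det_diagonal, ← Algebra.discr_of_matrix_vecMul, Algebra.discr_def, Algebra.discr_def]
    congr 1
    ext i j
    simp only [Algebra.traceMatrix_apply, Algebra.traceForm_apply, htr]
    congr 1
    simp [MulMemClass.coe_mul, hs, Matrix.vecMul_diagonal, Matrix.diagonal_map, Algebra.smul_def, mul_comm]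
  have hX : (PowerSeries.X : PowerSeries k) ≠ 0 := PowerSeries.X_ne_zero
  have e1 : Associated (Algebra.discr (PowerSeries k) ⇑m) ((PowerSeries.X : PowerSeries k) ^ a) :=
    (hassoc m bt).trans (Ideal.span_singleton_eq_span_singleton.1 ha)
  have e2 : Associated ((∏ i, c i) ^ 2 * (PowerSeries.X : PowerSeries k) ^ a) (PowerSeries.X ^ b) := by
    refine ((Associated.refl _).mul_mul e1.symm).trans ?_
    rw [← hdiscr]
    exact (hassoc s bS).trans (Ideal.span_singleton_eq_span_singleton.1 hb)
  refine ⟨fun q => ?_, ?_⟩
  · obtain ⟨y, rfl⟩ := Submodule.Quotient.mk_surjective _ q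
    rw [← Submodule.Quotient.mk_smul, Submodule.Quotient.mk_eq_zero]
    rw [← m.sum_repr y, Finset.smul_sum]
    refine Submodule.sum_mem _ fun i _ => ?_
    obtain ⟨u, hu⟩ : c i ∣ (PowerSeries.X : PowerSeries k) ^ b :=
      ((dvd_pow (Finset.dvd_prod_of_mem c (Finset.mem_univ i)) two_ne_zero).mul_right _).trans e2.dvd
    rw [smul_smul, hu, show c i * u * m.repr y i = (u * m.repr y i) * c i by ring, mul_smul, ← hs]
    exact Submodule.smul_mem _ _ (s i).2
  · have hlen : Module.length (PowerSeries k) (St ⧸ N) = ∑ i, Ring.ord (PowerSeries k) (c i) := by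
      let L : St →ₗ[PowerSeries k] Π i, PowerSeries k ⧸ Ideal.span {c i} :=
        LinearMap.pi fun i => (Ideal.span {c i}).mkQ.comp (m.coord i)
      have hL : Function.Surjective L := by
        intro z
        choose w hw using fun i => Submodule.Quotient.mk_surjective _ (z i)
        refine ⟨∑ i, w i • m i, funext fun i => ?_⟩
        rw [← hw i]
        show Submodule.Quotient.mk (m.repr (∑ i, w i • m i) i) = _
        rw [m.repr_sum_self]
      have hker : LinearMap.ker L = N := by
        ext y
        rw [LinearMap.mem_ker, s0.mem_submodule_iff']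
        simp only [L, funext_iff, LinearMap.pi_apply, LinearMap.comp_apply, Submodule.mkQ_apply, Pi.zero_apply, Submodule.Quotient.mk_eq_zero, Ideal.mem_span_singleton, Module.Basis.coord_apply]
        constructor
        · intro h
          choose w hw using h
          refine ⟨w, m.ext_elem fun i => ?_⟩
          simp only [hs0, smul_smul, m.repr_sum_self]
          rw [hw i, mul_comm]
        · rintro ⟨w, rfl⟩ i
          refine ⟨w i, ?_⟩
          simp only [hs0, smul_smul, m.repr_sum_self]
          rw [mul_comm]
      rw [← ((Submodule.quotEquivOfEq _ _ hker.symm).trans (L.quotKerEquivOfSurjective hL)).symm.length_eq, Module.length_pi_of_fintype]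
      rfl
    have hord : ∀ n : ℕ, Ring.ord (PowerSeries k) ((PowerSeries.X : PowerSeries k) ^ n) = n := by
      intro n
      rw [Ring.ord_pow (mem_nonZeroDivisors_of_ne_zero hX), Ring.ord_of_irreducible PowerSeries.X_irreducible, nsmul_one]
    have hprod : ∀ t : Finset (Fin d), Ring.ord (PowerSeries k) (∏ i ∈ t, c i) = ∑ i ∈ t, Ring.ord (PowerSeries k) (c i) := by
      intro t
      induction t using Finset.induction with
      | empty => simp [Ring.ord_of_isUnit]
      | insert x t hx ih =>
        rw [Finset.prod_insert hx, Finset.sum_insert hx, Ring.ord_mul' _ (mem_nonZeroDivisors_of_ne_zero (hc x)), ih]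
    show 2 * Module.length (PowerSeries k) (St ⧸ N) + _ = _
    rw [hlen, ← hprod, ← hord a, ← hord b, ← Ring.ord_eq_of_associated e2,
      Ring.ord_mul _ (mem_nonZeroDivisors_of_ne_zero (pow_ne_zero _ hX)),
      Ring.ord_pow (mem_nonZeroDivisors_of_ne_zero (Finset.prod_ne_zero_iff.2 fun i _ => hc i)), two_nsmul, two_mul]

end Groth.Agent.S13877
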