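import Groth.Statements.S13914
import Mathlib

set_option autoImplicit false
universe u
open PlaneConic

namespace Groth.Agent.S13914

/-- Over an algebraically closed field of characteristic zero, an invertible 3 × 3 matrix g, acting on
row vectors and so on the projective plane, fixes every point of the line u_0 = 0 if and only if g
is a nonzero scalar multiple of a matrix with rows (α, β, γ), (0, 1, 0), (0, 0, 1). -/
theorem result (k : Type u) [Field k] [IsAlgClosed k] [CharZero k]
    (g : Matrix (Fin 3) (Fin 3) k) (hg : IsUnit g.det) :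
    (∀ v : Fin 3 → k, v 0 = 0 → ∃ c : k, Matrix.vecMul v g = c • v) ↔
      ∃ c α β γ : k, c ≠ 0 ∧ g = c • !![α, β, γ; 0, 1, 0; 0, 0, 1] := by
  constructor
  · intro H
    obtain ⟨c₁, hc₁⟩ := H ![0, 1, 0] rfl
    obtain ⟨c₂, hc₂⟩ := H ![0, 0, 1] rfl
    obtain ⟨c₃, hc₃⟩ := H ![0, 1, 1] rfl
    have a := fun j => congrFun hc₁ j
    have b := fun j => congrFun hc₂ j
    have d := fun j => congrFun hc₃ j
    simp [Fin.forall_fin_succ, Matrix.vecMul, dotProduct, Fin.sum_univ_three] at a b d
    obtain ⟨a0, a1, a2⟩ := a; obtain ⟨b0, b1, b2⟩ := b; obtain ⟨d0, d1, d2⟩ := d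
    have e1 : c₃ = c₁ := by linear_combination a1 + b1 - d1
    have e2 : c₃ = c₂ := by linear_combination a2 + b2 - d2
    have hc : c₁ ≠ 0 := fun h0 => by
      refine hg.ne_zero (Matrix.det_eq_zero_of_row_eq_zero 1 fun j => ?_)
      fin_cases j <;> simp_all
    subst e1 e2
    refine ⟨c₃, g 0 0 / c₃, g 0 1 / c₃, g 0 2 / c₃, hc, ?_⟩
    ext i j
    fin_cases i <;> fin_cases j <;> simp [a0, a1, a2, b0, b1, b2] <;> field_simp
  · rintro ⟨c, α, β, γ, -, rfl⟩ v hv
    refine ⟨c, funext fun j => ?_⟩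
    fin_cases j <;> simp [Matrix.vecMul, dotProduct, Fin.sum_univ_three, hv, mul_comm]

end Groth.Agent.S13914
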