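import Groth.Statements.S13925
import Mathlib

set_option autoImplicit false
universe u v w x
open W4c1limliniiii

namespace Groth.Agent.S13925

/-- Let k be a field and U, E, W vector spaces over k with linear maps f : U → E, g' : E → U, f₂ : E → W
and g : W → E such that g' ∘ f = 0, the kernel of f₂ is contained in the image of g, and the image
of g meets the kernel of g' only in 0 — the conditions holding at a point of a linked Grassmannian
at which the linking scalar vanishes. Let V₁ ≤ U and V₂ ≤ E be subspaces and let C' ≤ V₂ be a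
subspace contained in the kernel of g' and meeting f(V₁) only in 0. Then the subspaces f(V₁), ker f₂
∩ V₂ and C' of E are independent: their sum is direct. (The published statement is for two
consecutive members V_{i-1}, V_i of a point of a linked Grassmannian at which the linking scalar
vanishes and adds the decomposition V_i = f(V_{i-1}) ⊕ (ker f_i ∩ V_i) ⊕ C with C ⊇ C'; this row
states the independence, with only the three conditions the argument uses.) -/
theorem result (k : Type u) [Field k]
    (U : Type v) (E : Type w) (W : Type x) [AddCommGroup U] [Module k U] [AddCommGroup E]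
    [Module k E] [AddCommGroup W] [Module k W]
    (f : U →ₗ[k] E) (g' : E →ₗ[k] U) (f₂ : E →ₗ[k] W) (g : W →ₗ[k] E)
    (hgf : g'.comp f = 0) (hII : LinearMap.ker f₂ ≤ LinearMap.range g)
    (hIII : LinearMap.range g ⊓ LinearMap.ker g' = ⊥)
    (V₁ : Submodule k U) (V₂ : Submodule k E) (C' : Submodule k E) (hC : C' ≤ V₂)
    (hCg : C' ≤ LinearMap.ker g') (hCf : Submodule.map f V₁ ⊓ C' = ⊥) :
    iSupIndep ![Submodule.map f V₁, LinearMap.ker f₂ ⊓ V₂, C'] := by
  have hA : Submodule.map f V₁ ≤ LinearMap.ker g' := by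
    rintro _ ⟨x, -, rfl⟩
    exact LinearMap.congr_fun hgf x
  have hB : ∀ b ∈ LinearMap.ker f₂ ⊓ V₂, b ∈ LinearMap.ker g' → b = 0 := fun b hb hb' =>
    (Submodule.mem_bot k).mp (hIII.le ⟨hII hb.1, hb'⟩)
  have key : ∀ a ∈ Submodule.map f V₁, ∀ b ∈ LinearMap.ker f₂ ⊓ V₂, ∀ c ∈ C', a + b + c = 0 → a = 0 ∧ b = 0 ∧ c = 0 := by
    intro a ha b hb c hc h
    have hb0 : b = 0 := hB b hb (by
      have : b = -(a + c) := eq_neg_of_add_eq_zero_left (by rw [← h]; abel)
      rw [this]; exact neg_mem (add_mem (hA ha) (hCg hc)))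
    subst hb0
    rw [add_zero] at h
    have hc' : c = -a := eq_neg_of_add_eq_zero_right h
    have hc0 : c = 0 := (Submodule.mem_bot k).mp (hCf.le ⟨hc' ▸ neg_mem ha, hc⟩)
    exact ⟨by simpa [hc0] using h, rfl, hc0⟩
  intro i
  rw [Submodule.disjoint_def]
  intro x hx hx'
  fin_cases i
  all_goals
    simp [-Submodule.mem_map, -Submodule.mem_inf, -LinearMap.mem_ker, iSup_fin_three, Fin.forall_fin_succ, iSup_and', Submodule.mem_sup] at hx hx'
  · obtain ⟨b, hb, c, hc, rfl⟩ := hx'
    exact (key (-(b + c)) (neg_mem hx) b hb c hc (by abel)) |>.elim fun _ h => by rw [h.1, h.2, add_zero]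
  · obtain ⟨a, ha, c, hc, rfl⟩ := hx'
    exact (key a ha (-(a + c)) (neg_mem hx) c hc (by abel)) |>.elim fun h h' => by rw [h, h'.2, add_zero]
  · obtain ⟨a, ha, b, hb, rfl⟩ := hx'
    exact (key a ha b hb (-(a + b)) (neg_mem hx) (by abel)) |>.elim fun h h' => by rw [h, h'.1, add_zero]

end Groth.Agent.S13925
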