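import Groth.Statements.S13926
import Mathlib

set_option autoImplicit false
universe u v w
open W4c1limliniiii

namespace Groth.Agent.S13926

theorem exists_between (k : Type*) [Field k] {E : Type*} [AddCommGroup E] [Module k E] [FiniteDimensional k E]
    (n : ℕ) : ∀ (d : ℕ) (A B : Submodule k E), A ≤ B → Module.finrank k A + d = n → n ≤ Module.finrank k B →
      ∃ W : Submodule k E, A ≤ W ∧ W ≤ B ∧ Module.finrank k W = n
  | 0, A, B, hAB, hA, _ => ⟨A, le_rfl, hAB, by omega⟩
  | d + 1, A, B, hAB, hA, hB => by
      obtain ⟨x, hxB, hxA⟩ : ∃ x ∈ B, x ∉ A := by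
        by_contra! h
        have := Submodule.finrank_mono (show B ≤ A from h)
        omega
      have h1 : Module.finrank k ↥(A ⊔ Submodule.span k {x}) = Module.finrank k A + 1 := by
        have hx0 : x ≠ 0 := fun h => hxA (h ▸ A.zero_mem)
        have := Submodule.finrank_sup_add_finrank_inf_eq A (Submodule.span k {x})
        have hd : A ⊓ Submodule.span k {x} = ⊥ := by
          rw [← disjoint_iff, Submodule.disjoint_span_singleton' hx0]; exact hxA
        rw [hd, finrank_bot, finrank_span_singleton hx0] at this
        omega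
      obtain ⟨W, h2, h3, h4⟩ := exists_between k n d (A ⊔ Submodule.span k {x}) B
        (sup_le hAB ((Submodule.span_singleton_le_iff_mem _ _).mpr hxB)) (by omega) hB
      exact ⟨W, le_sup_left.trans h2, h3, h4⟩


/-- Let k be a field, E₁ and E₂ finite-dimensional vector spaces over k of the same dimension, f : E₁ →
E₂ and g : E₂ → E₁ linear maps whose composite g ∘ f is multiplication by a scalar s, and V₁ a
subspace of E₁. Then there is a subspace V₂ of E₂ of the same dimension as V₁ with f(V₁) ≤ V₂ and
g(V₂) ≤ V₁. (The published statement is the surjectivity of the truncation morphisms of a linked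
Grassmannian, with a further assertion on lifting families; this row is the lifting step over a
field — over a point the chain of linked subspaces V_1, …, V_{n'} extends one index at a time — and
assumes only g ∘ f = s.) -/
theorem result (k : Type u) [Field k]
    (E₁ : Type v) (E₂ : Type w) [AddCommGroup E₁] [Module k E₁] [FiniteDimensional k E₁]
    [AddCommGroup E₂] [Module k E₂] [FiniteDimensional k E₂]
    (hdim : Module.finrank k E₁ = Module.finrank k E₂)
    (f : E₁ →ₗ[k] E₂) (g : E₂ →ₗ[k] E₁) (s : k) (hgf : g.comp f = s • LinearMap.id)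
    (V₁ : Submodule k E₁) :
    ∃ V₂ : Submodule k E₂, Module.finrank k V₂ = Module.finrank k V₁ ∧
      Submodule.map f V₁ ≤ V₂ ∧ Submodule.map g V₂ ≤ V₁ := by
  have hle : Submodule.map f V₁ ≤ Submodule.comap g V₁ := by
    rintro _ ⟨x, hx, rfl⟩
    rw [Submodule.mem_comap, ← LinearMap.comp_apply, hgf]
    exact V₁.smul_mem s hx
  have h1 : Module.finrank k ↥(Submodule.map f V₁) ≤ Module.finrank k V₁ := Submodule.finrank_map_le f V₁
  have h2 : Module.finrank k V₁ ≤ Module.finrank k ↥(Submodule.comap g V₁) := by
    have e1 := LinearMap.finrank_range_add_finrank_ker (V₁.mkQ.comp g)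
    have e2 : LinearMap.ker (V₁.mkQ.comp g) = Submodule.comap g V₁ := by
      rw [LinearMap.ker_comp, Submodule.ker_mkQ]
    have e3 := Submodule.finrank_le (LinearMap.range (V₁.mkQ.comp g))
    have e4 := Submodule.finrank_quotient_add_finrank V₁
    rw [e2] at e1
    omega
  obtain ⟨W, hW1, hW2, hW3⟩ := exists_between k (Module.finrank k V₁) _ _ _ hle (Nat.add_sub_cancel' h1) h2
  exact ⟨W, hW3, hW1, Submodule.map_le_iff_le_comap.mpr hW2⟩

end Groth.Agent.S13926
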