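import Groth.Statements.S13953
import Mathlib

set_option autoImplicit false
universe u
open TateLoc

namespace Groth.Agent.S13953

/-- Let (R_i) be a family of local commutative rings and R = ∏ R_i. Any open cover of Spec R can be
refined by one coming from a finite partition of the index set: there is a map c from the index set
to a finite set such that, for each value m, the basic open subset of Spec R defined by the
idempotent which is 1 at the indices with c i = m and 0 elsewhere (this open is the spectrum of the
product of the R_i over that class) is contained in some member of the cover. -/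
theorem result {ι : Type u} (R : ι → Type u)
    [∀ i, CommRing (R i)] [∀ i, IsLocalRing (R i)] {J : Type u}
    (U : J → TopologicalSpace.Opens (PrimeSpectrum (∀ i, R i))) (hU : ⨆ j, U j = ⊤) :
    ∃ (n : ℕ) (c : ι → Fin n), ∀ m : Fin n, ∃ j : J,
      PrimeSpectrum.basicOpen (fun i => if c i = m then (1 : R i) else 0) ≤ U j := by
  classical
  let A := ∀ i, R i
  have hspan : Ideal.span {f : A | ∃ j, PrimeSpectrum.basicOpen f ≤ U j} = ⊤ := by
    by_contra h
    obtain ⟨P, hP, hle⟩ := Ideal.exists_le_maximal _ h
    let x : PrimeSpectrum A := ⟨P, hP.isPrime⟩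
    have hx : x ∈ ⨆ j, U j := by rw [hU]; trivial
    obtain ⟨j, hj⟩ := TopologicalSpace.Opens.mem_iSup.1 hx
    obtain ⟨_, ⟨f, rfl⟩, hxf, hfU⟩ := PrimeSpectrum.isTopologicalBasis_basic_opens.exists_subset_of_mem_open hj (U j).isOpen
    exact hxf (hle (Ideal.subset_span ⟨j, hfU⟩))
  obtain ⟨T, hT, hT1⟩ := Submodule.mem_span_finite_of_mem_span ((Ideal.eq_top_iff_one _).1 hspan)
  have hc : ∀ i, ∃ f ∈ T, IsUnit (f i) := by
    intro i
    by_contra h
    push Not at h
    have : Ideal.span (T : Set A) ≤ (IsLocalRing.maximalIdeal (R i)).comap (Pi.evalRingHom R i) :=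
      Ideal.span_le.2 fun f hf => (IsLocalRing.mem_maximalIdeal _).2 (h f hf)
    have h1 := this hT1
    rw [Ideal.mem_comap, map_one] at h1
    exact (IsLocalRing.maximalIdeal.isMaximal (R i)).ne_top ((Ideal.eq_top_iff_one _).2 h1)
  choose g hgT hg using hc
  refine ⟨T.card, fun i => T.equivFin ⟨g i, hgT i⟩, fun m => ?_⟩
  obtain ⟨j, hj⟩ := hT (T.equivFin.symm m).2
  refine ⟨j, le_trans ?_ hj⟩
  have he : (fun i => if T.equivFin ⟨g i, hgT i⟩ = m then (1 : R i) else 0) =
      ((T.equivFin.symm m).1 : A) * fun i => if h : T.equivFin ⟨g i, hgT i⟩ = m then (hg i).unit⁻¹.val else 0 := by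
    funext i
    show _ = ((T.equivFin.symm m).1 : A) i * (if h : T.equivFin ⟨g i, hgT i⟩ = m then (hg i).unit⁻¹.val else 0)
    by_cases h : T.equivFin ⟨g i, hgT i⟩ = m
    · rw [if_pos h, dif_pos h]
      subst h
      rw [Equiv.symm_apply_apply]
      exact ((hg i).mul_val_inv).symm
    · rw [if_neg h, dif_neg h, mul_zero]
  rw [he]
  exact PrimeSpectrum.basicOpen_mul_le_left _ _

end Groth.Agent.S13953
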