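import Groth.Statements.S1396
import Mathlib
import Groth.Prelude.Def_MoreMor
import Groth.Agent.Lib.H2QuasiAffine

set_option autoImplicit false
universe u
open FlatMor

namespace Groth.Agent.S1396
open CategoryTheory Limits AlgebraicGeometry

open AlgebraicGeometry CategoryTheory Limits in
/-- (1) ⇔ (4): a morphism f : X → Y is ind-quasi-affine (the preimage of every affine open is a scheme
all of whose quasi-compact opens are quasi-affine) if and only if for every quasi-compact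
quasi-separated open V of Y and every quasi-compact open U of the preimage of V, the induced
morphism U → V is quasi-affine (quasi-compact with quasi-affine preimages of affine opens). -/
theorem result {X Y : Scheme.{u}} (f : X ⟶ Y) :
    MoreMor.IsIndQuasiAffineHom f ↔ ∀ (V : Y.Opens), IsCompact (V : Set ↑Y) → IsQuasiSeparated (V : Set ↑Y) →
      ∀ (U : X.Opens) (hUV : U ≤ f ⁻¹ᵁ V), IsCompact (U : Set ↑X) → MoreMor.IsQuasiAffineHom (f.resLE V U hUV) := by
  constructor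
  · intro h V hV hVqs U hUV hU
    haveI : CompactSpace (U : Scheme.{u}) := isCompact_iff_compactSpace.1 hU
    haveI : QuasiSeparatedSpace (V : Scheme.{u}) := (isQuasiSeparated_iff_quasiSeparatedSpace _ V.2).1 hVqs
    haveI : QuasiCompact (f.resLE V U hUV) := quasiCompact_of_compactSpace _
    refine ⟨inferInstance, fun W hW => ?_⟩
    let p : (f.resLE V U hUV ⁻¹ᵁ W : Scheme.{u}) ⟶ X := (f.resLE V U hUV ⁻¹ᵁ W).ι ≫ U.ι
    haveI : CompactSpace (f.resLE V U hUV ⁻¹ᵁ W : Scheme.{u}) :=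
      isCompact_iff_compactSpace.1 ((f.resLE V U hUV).isCompact_preimage hW.isCompact)
    let e : (f.resLE V U hUV ⁻¹ᵁ W : Scheme.{u}) ⟶ (f ⁻¹ᵁ (V.ι ''ᵁ W) : Scheme.{u}) :=
      IsOpenImmersion.lift (f ⁻¹ᵁ (V.ι ''ᵁ W)).ι p (by
        rw [Scheme.Opens.range_ι]
        rintro _ ⟨b, rfl⟩
        refine ⟨f.resLE V U hUV b.1, b.2, ?_⟩
        exact congrArg (fun m : (U : Scheme.{u}) ⟶ Y => m b.1) (Scheme.Hom.resLE_comp_ι f hUV))
    have he : e ≫ (f ⁻¹ᵁ (V.ι ''ᵁ W)).ι = p := IsOpenImmersion.lift_fac _ _ _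
    haveI : IsOpenImmersion (e ≫ (f ⁻¹ᵁ (V.ι ''ᵁ W)).ι) := by rw [he]; infer_instance
    haveI : IsOpenImmersion e := IsOpenImmersion.of_comp e (f ⁻¹ᵁ (V.ι ''ᵁ W)).ι
    haveI := h _ (hW.image_of_isOpenImmersion V.ι) e.opensRange (isCompact_range e.continuous)
    exact Scheme.IsQuasiAffine.of_isImmersion e.isoOpensRange.hom
  · intro h V hV U hU
    haveI : IsAffine (V : Scheme.{u}) := hV
    have hle : (f ⁻¹ᵁ V).ι ''ᵁ U ≤ f ⁻¹ᵁ V := by rintro _ ⟨u, -, rfl⟩; exact u.2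
    have hc : IsCompact ((f ⁻¹ᵁ V).ι ''ᵁ U : Set X) := hU.image (f ⁻¹ᵁ V).ι.continuous
    have := (h V hV.isCompact hV.isQuasiSeparated _ hle hc).2 ⊤ (isAffineOpen_top _)
    haveI : ((⊤ : (((f ⁻¹ᵁ V).ι ''ᵁ U : X.Opens) : Scheme.{u}).Opens) : Scheme.{u}).IsQuasiAffine := this
    haveI : CompactSpace (U : Scheme.{u}) := isCompact_iff_compactSpace.1 hU
    exact Scheme.IsQuasiAffine.of_isImmersion
      (((f ⁻¹ᵁ V).ι.isoImage U).hom ≫ (Scheme.topIso _).inv)

end Groth.Agent.S1396
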