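import Groth.Statements.S13963
import Mathlib

set_option autoImplicit false
universe u
open TateLoc

namespace Groth.Agent.S13963

/-- Let A' → A → A'' be continuous homomorphisms of locally compact, second-countable, Hausdorff abelian
topological groups which form a short exact sequence of abstract groups (the first injective, the
second surjective, image equal to kernel). If A' and A'' are compact, then A is compact. -/
theorem result (A' A A'' : Type u)
    [AddCommGroup A'] [TopologicalSpace A'] [IsTopologicalAddGroup A'] [SecondCountableTopology A'] [T2Space A']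
    [CompactSpace A']
    [AddCommGroup A] [TopologicalSpace A] [IsTopologicalAddGroup A] [LocallyCompactSpace A]
    [SecondCountableTopology A] [T2Space A]
    [AddCommGroup A''] [TopologicalSpace A''] [IsTopologicalAddGroup A''] [SecondCountableTopology A''] [T2Space A'']
    [CompactSpace A'']
    (f : A' →+ A) (g : A →+ A'') (hf : Continuous f) (hg : Continuous g)
    (hinj : Function.Injective f) (hsurj : Function.Surjective g) (hex : g.ker = f.range) :
    CompactSpace A := by
  classical
  have hopen : IsOpenMap g := g.isOpenMap_of_sigmaCompact hsurj hg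
  choose K hK hKnhds using fun x : A => exists_compact_mem_nhds x
  obtain ⟨s, hs⟩ := (isCompact_univ (X := A'')).elim_finite_subcover (fun x : A => g '' interior (K x))
    (fun x => hopen _ isOpen_interior) (fun y _ => by
      obtain ⟨x, rfl⟩ := hsurj y
      exact Set.mem_iUnion.2 ⟨x, x, mem_interior_iff_mem_nhds.2 (hKnhds x), rfl⟩)
  have hc : IsCompact ((fun q : A × A' => q.1 + f q.2) '' ((⋃ x ∈ s, K x) ×ˢ Set.univ)) :=
    ((s.isCompact_biUnion fun x _ => hK x).prod isCompact_univ).image (continuous_fst.add (hf.comp continuous_snd))
  refine ⟨?_⟩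
  convert hc
  symm
  rw [Set.eq_univ_iff_forall]
  intro a
  obtain ⟨x, hx, y, hy, hya⟩ := Set.mem_iUnion₂.1 (hs (Set.mem_univ (g a)))
  have : a - y ∈ g.ker := by rw [AddMonoidHom.mem_ker, map_sub, hya, sub_self]
  rw [hex] at this
  obtain ⟨b, hb⟩ := this
  exact ⟨(y, b), ⟨Set.mem_iUnion₂.2 ⟨x, hx, interior_subset hy⟩, trivial⟩, by simp [hb]⟩

end Groth.Agent.S13963
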