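import Groth.Statements.S1397
import Mathlib
import Groth.Prelude.Def_MoreMor
import Groth.Agent.Lib.H2QuasiAffine
import Groth.Agent.S1402

set_option autoImplicit false
universe u
open FlatMor

namespace Groth.Agent.S1397
open CategoryTheory Limits AlgebraicGeometry

open AlgebraicGeometry CategoryTheory Limits in
/-- Ind-quasi-affine morphisms are stable under composition. -/
theorem result {X Y Z : Scheme.{u}} (f : X ⟶ Y) (g : Y ⟶ Z) (hf : MoreMor.IsIndQuasiAffineHom f) (hg : MoreMor.IsIndQuasiAffineHom g) :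
    MoreMor.IsIndQuasiAffineHom (f ≫ g) := by
  intro W hW U hU
  let h : (U : Scheme.{u}) ⟶ (g ⁻¹ᵁ W : Scheme.{u}) :=
    U.ι ≫ f.resLE (g ⁻¹ᵁ W) ((f ≫ g) ⁻¹ᵁ W) le_rfl
  haveI : CompactSpace (U : Scheme.{u}) := isCompact_iff_compactSpace.1 hU
  have hr := isCompact_range h.continuous
  obtain ⟨t, ht⟩ := hr.elim_finite_subcover
    (fun V : (g ⁻¹ᵁ W : Scheme.{u}).affineOpens => (V.1 : Set (g ⁻¹ᵁ W : Scheme.{u}))) (fun V => V.1.2) (fun y _ => by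
      obtain ⟨_, ⟨V, hV, rfl⟩, hyV, -⟩ := (Scheme.isBasis_affineOpens _).exists_subset_of_mem_open (Set.mem_univ y) isOpen_univ
      exact Set.mem_iUnion.2 ⟨⟨V, hV⟩, hyV⟩)
  let P : (g ⁻¹ᵁ W : Scheme.{u}).Opens := ⨆ V : t, V.1.1
  have hP : IsCompact (P : Set (g ⁻¹ᵁ W : Scheme.{u})) := by
    rw [TopologicalSpace.Opens.coe_iSup]; exact isCompact_iUnion fun V => V.1.2.isCompact
  haveI := hg W hW P hP
  have hPle : ∀ u, h u ∈ P := fun u => by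
    obtain ⟨V, hV, huV⟩ := Set.mem_iUnion₂.1 (ht ⟨u, rfl⟩)
    exact TopologicalSpace.Opens.mem_iSup.2 ⟨⟨V, hV⟩, huV⟩
  let k : (U : Scheme.{u}) ⟶ (P : Scheme.{u}) := IsOpenImmersion.lift P.ι h (by
    rw [Scheme.Opens.range_ι]; rintro _ ⟨u, rfl⟩; exact hPle u)
  have hk : k ≫ P.ι = h := IsOpenImmersion.lift_fac _ _ _
  refine Groth.Agent.H2QuasiAffine.of_quasiAffine_basicOpens fun x => ?_
  obtain ⟨_, ⟨_, ⟨r, hra, rfl⟩, rfl⟩, hxr, -⟩ := (Scheme.IsQuasiAffine.isBasis_basicOpen (P : Scheme.{u})).exists_subset_of_mem_open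
    (Set.mem_univ (k x)) isOpen_univ
  refine ⟨k.appTop r, by rw [← Scheme.preimage_basicOpen_top]; exact hxr, ?_⟩
  set B := (U : Scheme.{u}).basicOpen (k.appTop r)
  haveI : CompactSpace (B : Scheme.{u}) := isCompact_iff_compactSpace.1 (Groth.Agent.H2QuasiAffine.isCompact_basicOpen _ _)
  let A : Y.Opens := (g ⁻¹ᵁ W).ι ''ᵁ (P.ι ''ᵁ (P : Scheme.{u}).basicOpen r)
  have hA : IsAffineOpen A := (hra.image_of_isOpenImmersion P.ι).image_of_isOpenImmersion (g ⁻¹ᵁ W).ι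
  let e : (B : Scheme.{u}) ⟶ (f ⁻¹ᵁ A : Scheme.{u}) := IsOpenImmersion.lift (f ⁻¹ᵁ A).ι (B.ι ≫ U.ι ≫ ((f ≫ g) ⁻¹ᵁ W).ι) (by
    rw [Scheme.Opens.range_ι]
    rintro _ ⟨b, rfl⟩
    refine ⟨P.ι (k b.1), ⟨k b.1, ?_, rfl⟩, ?_⟩
    · exact (Scheme.preimage_basicOpen_top k r).ge b.2
    · have e1 : (k ≫ P.ι) ≫ (g ⁻¹ᵁ W).ι = (U.ι ≫ ((f ≫ g) ⁻¹ᵁ W).ι) ≫ f := by
        rw [hk]; simp only [h, Category.assoc]; exact congrArg (U.ι ≫ ·) (Scheme.Hom.resLE_comp_ι f le_rfl)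
      exact congrArg (fun m : (U : Scheme.{u}) ⟶ Y => m b.1) e1)
  have he : e ≫ (f ⁻¹ᵁ A).ι = B.ι ≫ U.ι ≫ ((f ≫ g) ⁻¹ᵁ W).ι := IsOpenImmersion.lift_fac _ _ _
  haveI : IsOpenImmersion (e ≫ (f ⁻¹ᵁ A).ι) := by rw [he]; infer_instance
  haveI : IsOpenImmersion e := IsOpenImmersion.of_comp e (f ⁻¹ᵁ A).ι
  haveI := hf A hA e.opensRange (isCompact_range e.continuous)
  exact Scheme.IsQuasiAffine.of_isImmersion e.isoOpensRange.hom

end Groth.Agent.S1397
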