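import Groth.Statements.S13981
import Groth.Agent.Lib.H9ArtLift

set_option autoImplicit false
set_option linter.deprecated false
set_option backward.isDefEq.respectTransparency.types false
universe u v
open CategoryTheory
open ArtFun

namespace Groth.Agent.S13981

/-- Let F be a functor on Artinian local Λ-algebras with residue field k (Λ Noetherian, Λ → k finite and
surjective) satisfying (RS) — the comparison map for A₁ ×_A A₂ is bijective whenever A₂ → A is
surjective — and let ξ be a versal family of F over a complete local Noetherian Λ-algebra R with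
residue field k. Then the lifting property defining versality also holds along surjections of
complete local Noetherian algebras: if g : A' → A is such a surjection, η' is a formal element of F
over A' (a compatible system over the truncations A'/m^(n+1)) and φ : R → A is a map under which the
formal element of ξ becomes the pushforward of η' along g, then φ lifts to ψ : R → A' with g ∘ ψ = φ
and with ξ inducing η' along ψ. (The published statement takes Λ complete local Noetherian with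
residue field k; its proof does not use completeness of Λ, and this row assumes only Λ Noetherian
with Λ → k surjective.) -/
theorem result {Λ : Type u} {k : Type u} [CommRing Λ] [Field k]
    [Algebra Λ k] [IsNoetherianRing Λ] [Module.Finite Λ k] (hΛ : Function.Surjective (algebraMap Λ k))
    {F : ArtFun.Art Λ k ⥤ Type v}
    (hRS : ∀ ⦃B A A₁ A₂ : ArtFun.Art Λ k⦄ (p₁ : B ⟶ A₁) (p₂ : B ⟶ A₂) (f₁ : A₁ ⟶ A) (f₂ : A₂ ⟶ A)
        (h : ArtFun.Art.IsFibreProd p₁ p₂ f₁ f₂), Function.Surjective f₂ → Function.Bijective (ArtFun.cmp F h))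
    (R : ArtFun.CRing Λ k) (ξ : ArtFun.Family R.carrier R.res F) (hξ : ArtFun.IsVersal ξ)
    (A' A : ArtFun.CRing Λ k) (g : A'.carrier →ₐ[Λ] A.carrier) (hg : A.res.comp g = A'.res)
    (hgs : Function.Surjective g) (η' : ArtFun.FormalElt F A')
    (φ : R.carrier →ₐ[Λ] A.carrier) (hφ : A.res.comp φ = R.res)
    (hsq : (ξ.along φ hφ).toFormalElt = η'.push g hg) :
    ∃ (ψ : R.carrier →ₐ[Λ] A'.carrier) (hψ : A'.res.comp ψ = R.res),
      g.comp ψ = φ ∧ (ξ.along ψ hψ).toFormalElt = η' := by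
  -- one step: lift along `A' n+1 → A' n ×_{A n} A n+1`
  have hgn : ∀ n, Function.Surjective (ArtFun.CRing.truncMapOfHom g hg n) := fun n a => by
    obtain ⟨b, rfl⟩ := Ideal.Quotient.mk_surjective a
    obtain ⟨c, rfl⟩ := hgs b
    exact ⟨Ideal.Quotient.mk _ c, rfl⟩
  let φn : ∀ n, ArtFun.HomSet R.carrier R.res (A.trunc n) := fun n =>
    ⟨(A.truncHom n).1.comp φ, by rw [← AlgHom.comp_assoc, (A.truncHom n).2, hφ]⟩
  have hφn : ∀ n, ξ.app _ (φn n) = F.map (ArtFun.CRing.truncMapOfHom g hg n) (η'.elt n) := fun n =>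
    congrArg (fun t => t.elt n) hsq
  have hφc : ∀ n, ArtFun.HomSet.map (A.truncMap n) (φn (n + 1)) = φn n := fun n =>
    Subtype.ext (AlgHom.ext fun _ => rfl)
  let S : ℕ → Type _ := fun n => {ψ : ArtFun.HomSet R.carrier R.res (A'.trunc n) //
    ArtFun.HomSet.map (ArtFun.CRing.truncMapOfHom g hg n) ψ = φn n ∧ ξ.app _ ψ = η'.elt n}
  have h00 : Nonempty (S 0) := by
    obtain ⟨ψ, h₁, h₂⟩ := hξ _ (hgn 0) (φn 0) (η'.elt 0) (hφn 0).symm
    exact ⟨⟨ψ, h₁, h₂⟩⟩
  have step : ∀ n (s : S n), ∃ s' : S (n + 1), ArtFun.HomSet.map (A'.truncMap n) s'.1 = s.1 := by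
    rintro n ⟨ψ, hψ, hψη⟩
    obtain ⟨T, t₁, t₂, hT⟩ := H9Art.exists_fibreProd (ArtFun.CRing.truncMapOfHom g hg n) (A.truncMap n)
      (H9Art.truncMap_surjective A n)
    obtain ⟨r, hr₁, hr₂⟩ := H9Art.exists_lift hT (A'.truncMap n) (ArtFun.CRing.truncMapOfHom g hg (n + 1))
      (ArtFun.CRing.truncMapOfHom_truncMap g hg n).symm
    have hrs : Function.Surjective r := by
      intro x
      obtain ⟨a, ha⟩ := H9Art.truncHom_surjective A' n (t₁ x)
      obtain ⟨b, hb⟩ := H9Art.truncHom_surjective A (n + 1) (t₂ x)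
      have hd : g a - b ∈ A.mpow n := by
        refine Ideal.Quotient.eq.1 ?_
        have h := hT.w_apply x
        rw [← ha, ← hb] at h
        exact h
      have hmap : (IsLocalRing.maximalIdeal A'.carrier).map g = IsLocalRing.maximalIdeal A.carrier := by
        refine le_antisymm (Ideal.map_le_iff_le_comap.2 (ArtFun.CRing.maximalIdeal_le_comap g hg)) fun y hy => ?_
        obtain ⟨z, rfl⟩ := hgs y
        exact Ideal.mem_map_of_mem _ ((ArtFun.CRing.mem_maximalIdeal_iff A' z).2
          ((ArtFun.CRing.res_comp_apply g hg z).symm.trans ((ArtFun.CRing.mem_maximalIdeal_iff A _).1 hy)))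
      have hd' : g a - b ∈ (A'.mpow n).map g := by rwa [Ideal.map_pow, hmap]
      obtain ⟨z, hz, hzd⟩ := (Ideal.mem_map_iff_of_surjective g hgs).1 hd'
      refine ⟨(A'.truncHom (n + 1)).1 (a - z), hT.inj _ _ ?_ ?_⟩
      · rw [← ha, show t₁ (r ((A'.truncHom (n + 1)).1 (a - z))) = (r ≫ t₁) ((A'.truncHom (n + 1)).1 (a - z)) from rfl, hr₁]
        exact Ideal.Quotient.eq.2 (by rw [sub_sub_cancel_left]; exact neg_mem hz)
      · rw [← hb, show t₂ (r ((A'.truncHom (n + 1)).1 (a - z))) = (r ≫ t₂) ((A'.truncHom (n + 1)).1 (a - z)) from rfl, hr₂]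
        refine Ideal.Quotient.eq.2 ?_
        change g (a - z) - b ∈ _
        have e : g (a - z) - b = 0 := by rw [map_sub, hzd]; ring
        rw [e]
        exact zero_mem _
    obtain ⟨χ, hχ₁, hχ₂⟩ := H9Art.exists_liftHomSet hT ψ (φn (n + 1)) (hψ.trans (hφc n).symm)
    have hχη : F.map r (η'.elt (n + 1)) = ξ.app T χ := by
      refine (H9Art.cmp_injective_iff hT).1 (hRS t₁ t₂ _ _ hT (H9Art.truncMap_surjective A n)).1 _ _ ?_ ?_
      · rw [← ξ.natural, hχ₁, hψη, ← CategoryTheory.FunctorToTypes.map_comp_apply, hr₁, η'.compat]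
      · rw [← ξ.natural, hχ₂, hφn, ← CategoryTheory.FunctorToTypes.map_comp_apply, hr₂]
    obtain ⟨ψ', h₁, h₂⟩ := hξ r hrs χ (η'.elt (n + 1)) hχη
    refine ⟨⟨ψ', ?_, h₂⟩, ?_⟩
    · rw [← hr₂, H9Art.homSet_map_comp, h₁, hχ₂]
    · change ArtFun.HomSet.map (A'.truncMap n) ψ' = ψ
      rw [← hr₁, H9Art.homSet_map_comp, h₁, hχ₁]
  choose next hnext using step
  obtain ⟨s₀⟩ := h00
  let s : ∀ n, S n := fun n => Nat.rec s₀ (fun n a => next n a) n
  obtain ⟨ψ, hψ, hψn⟩ := H9Art.exists_lim A' (fun n => (s n).1) (fun n => hnext n (s n))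
  refine ⟨ψ, hψ, H9Art.hom_ext_trunc A fun n => ?_, ArtFun.FormalElt.ext' fun n => ?_⟩
  · refine AlgHom.ext fun x => ?_
    refine Eq.trans ?_ (congrArg (fun t : ArtFun.HomSet R.carrier R.res (A.trunc n) => t.1 x) (s n).2.1)
    change Ideal.Quotient.mk _ (g (ψ x)) = (ArtFun.CRing.truncMapOfHom g hg n).toAlgHom ((s n).1.1 x)
    rw [← hψn n]
    rfl
  · exact (congrArg (ξ.app _) (Subtype.ext (hψn n))).trans (s n).2.2

end Groth.Agent.S13981
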