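import Mathlib
import Groth.Statements.S13985
-- import your own Groth.Agent.* helpers here

set_option autoImplicit false
universe u
open CategoryTheory
open CohGab

namespace Groth.Agent.S13985

/-- For a ring A, the canonical map from the centre of A to the centre of the category of finitely
generated left A-modules (the endomorphism ring of its identity functor), sending a to
multiplication by a, is bijective: every natural endomorphism of the identity functor acts on each
finitely generated module as multiplication by a unique element of A, and that element is central.
(The published statement calls this map an isomorphism of commutative rings; this row states its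
bijectivity.) -/
theorem result (A : Type u) [Ring A]
    (φ : 𝟭 (FGModuleCat.{u} A) ⟶ 𝟭 (FGModuleCat.{u} A)) :
    ∃! a : A, a ∈ Subring.center A ∧
      ∀ (M : FGModuleCat.{u} A) (x : M), (φ.app M).hom.hom x = a • x := by
  let U : FGModuleCat.{u} A := FGModuleCat.of A A
  let f : A →ₗ[A] A := (φ.app U).hom.hom
  have key : ∀ (M : FGModuleCat.{u} A) (x : M), (φ.app M).hom.hom x = f 1 • x := by
    intro M x
    let g : U ⟶ M := InducedCategory.homMk (ModuleCat.ofHom (LinearMap.toSpanSingleton A M x))
    have h := φ.naturality g
    have h' := congrArg (fun t => t.hom.hom (1 : A)) h
    simpa [g, U, f] using h'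
  refine ⟨f 1, ⟨Subring.mem_center_iff.2 fun c => ?_, key⟩, fun a ha => ?_⟩
  · have h1 : f c = f 1 * c := key U c
    have h2 : f c = c * f 1 := by
      have := f.map_smul c 1
      simpa using this
    exact h2.symm.trans h1
  · have : f 1 = a • (1 : A) := ha.2 U (1 : A)
    exact ((this.trans (mul_one a)).symm)

end Groth.Agent.S13985
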