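import Groth.Statements.S1399
import Mathlib
import Groth.Prelude.Def_MoreMor
import Groth.Agent.Lib.H2QuasiAffine

set_option autoImplicit false
universe u
open FlatMor

namespace Groth.Agent.S1399
open CategoryTheory Limits AlgebraicGeometry

open AlgebraicGeometry CategoryTheory Limits in
/-- If g ∘ f is ind-quasi-affine then so is f. -/
theorem result {X Y Z : Scheme.{u}} (f : X ⟶ Y) (g : Y ⟶ Z) (h : MoreMor.IsIndQuasiAffineHom (f ≫ g)) :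
    MoreMor.IsIndQuasiAffineHom f := by
  intro V hV U hU
  haveI : IsAffine (V : Scheme.{u}) := hV
  haveI : CompactSpace (U : Scheme.{u}) := isCompact_iff_compactSpace.1 hU
  let k : (U : Scheme.{u}) ⟶ (V : Scheme.{u}) := U.ι ≫ f ∣_ V
  refine Groth.Agent.H2QuasiAffine.of_quasiAffine_basicOpens fun x => ?_
  obtain ⟨_, ⟨W, hW, rfl⟩, hxW, -⟩ := (Scheme.isBasis_affineOpens Z).exists_subset_of_mem_open
    (Set.mem_univ (g (V.ι (k x)))) isOpen_univ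
  obtain ⟨_, ⟨_, ⟨r, rfl⟩, rfl⟩, hxr, hrW⟩ := (isBasis_basicOpen (V : Scheme.{u})).exists_subset_of_mem_open
    (a := k x) (u := (((V.ι ≫ g) ⁻¹ᵁ W : (V : Scheme.{u}).Opens) : Set (V : Scheme.{u}))) hxW ((V.ι ≫ g) ⁻¹ᵁ W).2
  refine ⟨k.appTop r, (Scheme.preimage_basicOpen_top k r).le hxr, ?_⟩
  set B := (U : Scheme.{u}).basicOpen (k.appTop r) with hB
  haveI : CompactSpace (B : Scheme.{u}) := isCompact_iff_compactSpace.1 (Groth.Agent.H2QuasiAffine.isCompact_basicOpen _ _)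
  have e1 : (k ≫ V.ι) ≫ g = (U.ι ≫ (f ⁻¹ᵁ V).ι) ≫ f ≫ g := by
    simp only [k, Category.assoc, morphismRestrict_ι_assoc]
  let e : (B : Scheme.{u}) ⟶ ((f ≫ g) ⁻¹ᵁ W : Scheme.{u}) := IsOpenImmersion.lift ((f ≫ g) ⁻¹ᵁ W).ι (B.ι ≫ U.ι ≫ (f ⁻¹ᵁ V).ι) (by
    rw [Scheme.Opens.range_ι]
    rintro _ ⟨b, rfl⟩
    have h1 : (V.ι ≫ g) (k b.1) ∈ W := hrW ((Scheme.preimage_basicOpen_top k r).ge b.2)
    rwa [← Scheme.Hom.comp_apply, ← Category.assoc, e1] at h1)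
  have he : e ≫ ((f ≫ g) ⁻¹ᵁ W).ι = B.ι ≫ U.ι ≫ (f ⁻¹ᵁ V).ι := IsOpenImmersion.lift_fac _ _ _
  haveI : IsOpenImmersion (e ≫ ((f ≫ g) ⁻¹ᵁ W).ι) := by rw [he]; infer_instance
  haveI : IsOpenImmersion e := IsOpenImmersion.of_comp e ((f ≫ g) ⁻¹ᵁ W).ι
  haveI := h W hW e.opensRange (isCompact_range e.continuous)
  exact Scheme.IsQuasiAffine.of_isImmersion e.isoOpensRange.hom

end Groth.Agent.S1399
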