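import Groth.Statements.S13996
import Groth.Agent.Lib.H2Depth

set_option autoImplicit false
universe u
open CAlg

namespace Groth.Agent.S13996

/-- Let R be a reduced Noetherian local ring of Krull dimension one with maximal ideal m, and M a
non-zero finitely generated R-module. Then M is torsion-free in the sense that no element of m which
is a non-zero-divisor on R is a zero-divisor on M, if and only if M has depth one, i.e. some element
of m is a non-zero-divisor on M. (The published statement is for a non-zero coherent sheaf F on a
connected reduced projective curve over a characteristic-zero algebraically closed field and asserts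
the equivalence of: F torsion-free in the above sense at every closed point; F pure of dimension
one; depth of F_p equal to one at every closed point p. This row is the equivalence of the first and
third conditions at a single closed point p with F_p ≠ 0; at points outside the support the third
condition as published cannot hold, so the row assumes the stalk non-zero.) -/
theorem result (R : Type u) [CommRing R] [IsLocalRing R] [IsNoetherianRing R] [IsReduced R] (hdim : ringKrullDim R = 1) (M : Type u) [AddCommGroup M] [Module R M] [Module.Finite R M] [Nontrivial M] : (∀ r : R, r ∈ IsLocalRing.maximalIdeal R → IsSMulRegular R r → IsSMulRegular M r) ↔ (∃ x : R, x ∈ IsLocalRing.maximalIdeal R ∧ IsSMulRegular M x) := by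
  open Groth.Agent.H2Depth in
  constructor
  · intro h
    obtain ⟨r, hr, hreg⟩ := exists_regular_of_forall_not_le (M := R) (IsLocalRing.maximalIdeal R) fun p hp hle => by
      obtain ⟨hprime, u, hu⟩ := isAssociatedPrime_iff.1 hp
      have hm : p = IsLocalRing.maximalIdeal R := le_antisymm (IsLocalRing.le_maximalIdeal hprime.ne_top) hle
      by_cases humem : u ∈ IsLocalRing.maximalIdeal R
      · have h2 : u * u = 0 := by
          have : u ∈ p := hm ▸ humem
          rw [hu, Submodule.mem_colon_singleton] at this
          simpa using this
        have hu0 : u = 0 := IsReduced.eq_zero u ⟨2, by rw [pow_two, h2]⟩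
        subst hu0
        exact hprime.ne_top ((Ideal.eq_top_iff_one _).2 (hu ▸ Submodule.mem_colon_singleton.2 (by simp)))
      · have hbot : IsLocalRing.maximalIdeal R = ⊥ := by
          rw [← hm, hu]
          refine eq_bot_iff.2 fun x hx => ?_
          rw [Submodule.mem_colon_singleton] at hx
          have hx' : x * u = 0 := by simpa using hx
          have hunit : IsUnit u := by simpa using humem
          exact (Submodule.mem_bot R).2 (hunit.mul_left_eq_zero.1 hx')
        haveI : IsField R := IsLocalRing.isField_iff_maximalIdeal_eq.2 hbot
        rw [ringKrullDim_eq_zero_of_isField (IsLocalRing.isField_iff_maximalIdeal_eq.2 hbot)] at hdim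
        exact zero_ne_one hdim
    exact ⟨r, hr, h r hr hreg⟩
  · rintro ⟨x, hx, hxreg⟩ r hr hrR
    by_contra hc
    have hmem : r ∈ ⋃ p ∈ associatedPrimes R M, (p : Set R) := by
      rw [biUnion_associatedPrimes_eq_compl_regular]; exact hc
    simp only [Set.mem_iUnion, SetLike.mem_coe, exists_prop] at hmem
    obtain ⟨p, hp, hrp⟩ := hmem
    have h1 := hasReg_le_dim_quotient (k := 1) (HasReg.cons hx hxreg (HasReg.zero _)) p hp
    have hprime := hp.isPrime
    have h2 := ringKrullDim_quotient_span_singleton_succ_eq_ringKrullDim hrR hr
    have h3 : ringKrullDim (R ⧸ p) ≤ ringKrullDim (R ⧸ Ideal.span {r}) := ringKrullDim_le_of_surjective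
      (Ideal.Quotient.factor ((Ideal.span_singleton_le_iff_mem _).2 hrp)) (Ideal.Quotient.factor_surjective _)
    have h4 := (add_le_add (h1.trans h3) le_rfl).trans (h2.le.trans hdim.le)
    norm_num at h4

end Groth.Agent.S13996
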