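import Groth.Statements.S1400
import Mathlib
import Groth.Prelude.Def_MoreMor
import Groth.Agent.Lib.H2QuasiAffine

set_option autoImplicit false
universe u
open FlatMor

namespace Groth.Agent.S1400
open CategoryTheory Limits AlgebraicGeometry

open AlgebraicGeometry CategoryTheory Limits in
/-- The base change of an ind-quasi-affine morphism is ind-quasi-affine. -/
theorem result {X S X' S' : Scheme.{u}} (f : X ⟶ S) (f' : X' ⟶ S') (g' : X' ⟶ X) (g : S' ⟶ S)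
    (hc : IsPullback g' f' f g) (hf : MoreMor.IsIndQuasiAffineHom f) : MoreMor.IsIndQuasiAffineHom f' := by
  intro V hV U hU
  haveI : IsAffine (V : Scheme.{u}) := hV
  haveI : CompactSpace (U : Scheme.{u}) := isCompact_iff_compactSpace.1 hU
  let k : (U : Scheme.{u}) ⟶ (V : Scheme.{u}) := U.ι ≫ f' ∣_ V
  refine Groth.Agent.H2QuasiAffine.of_quasiAffine_basicOpens fun x => ?_
  obtain ⟨_, ⟨W0, hW, rfl⟩, hxW, -⟩ := (Scheme.isBasis_affineOpens S).exists_subset_of_mem_open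
    (Set.mem_univ (g (V.ι (k x)))) isOpen_univ
  let W : S.Opens := W0
  haveI : IsAffine (W : Scheme.{u}) := hW
  obtain ⟨_, ⟨_, ⟨r, rfl⟩, rfl⟩, hxr, hrW⟩ := (isBasis_basicOpen (V : Scheme.{u})).exists_subset_of_mem_open
    (a := k x) (u := (((V.ι ≫ g) ⁻¹ᵁ W : (V : Scheme.{u}).Opens) : Set (V : Scheme.{u}))) hxW ((V.ι ≫ g) ⁻¹ᵁ W).2
  refine ⟨k.appTop r, (Scheme.preimage_basicOpen_top k r).le hxr, ?_⟩
  set B := (U : Scheme.{u}).basicOpen (k.appTop r) with hB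
  haveI : CompactSpace (B : Scheme.{u}) := isCompact_iff_compactSpace.1 (Groth.Agent.H2QuasiAffine.isCompact_basicOpen _ _)
  let D := (V : Scheme.{u}).basicOpen r
  haveI : IsAffine (D : Scheme.{u}) := (isAffineOpen_top (V : Scheme.{u})).basicOpen r
  have e1 : (k ≫ V.ι) ≫ g = (U.ι ≫ (f' ⁻¹ᵁ V).ι) ≫ g' ≫ f := by
    simp only [k, Category.assoc, morphismRestrict_ι_assoc, hc.w]
  -- the map to `X`
  let a : (B : Scheme.{u}) ⟶ X := (B.ι ≫ U.ι ≫ (f' ⁻¹ᵁ V).ι) ≫ g'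
  let a' : (B : Scheme.{u}) ⟶ (f ⁻¹ᵁ W : Scheme.{u}) := IsOpenImmersion.lift (f ⁻¹ᵁ W).ι a (by
    rw [Scheme.Opens.range_ι]
    rintro _ ⟨b, rfl⟩
    have h1 : (V.ι ≫ g) (k b.1) ∈ W := hrW ((Scheme.preimage_basicOpen_top k r).ge b.2)
    rwa [← Scheme.Hom.comp_apply, ← Category.assoc, e1] at h1)
  obtain ⟨t, ht⟩ := (isCompact_range a'.continuous).elim_finite_subcover
    (fun Q : (f ⁻¹ᵁ W : Scheme.{u}).affineOpens => (Q.1 : Set (f ⁻¹ᵁ W : Scheme.{u}))) (fun Q => Q.1.2) (fun y _ => by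
      obtain ⟨_, ⟨Q, hQ, rfl⟩, hyQ, -⟩ := (Scheme.isBasis_affineOpens _).exists_subset_of_mem_open (Set.mem_univ y) isOpen_univ
      exact Set.mem_iUnion.2 ⟨⟨Q, hQ⟩, hyQ⟩)
  let P : (f ⁻¹ᵁ W : Scheme.{u}).Opens := ⨆ Q : t, Q.1.1
  have hP : IsCompact (P : Set (f ⁻¹ᵁ W : Scheme.{u})) := by
    rw [TopologicalSpace.Opens.coe_iSup]; exact isCompact_iUnion fun Q => Q.1.2.isCompact
  haveI := hf W hW P hP
  let a2 : (B : Scheme.{u}) ⟶ (P : Scheme.{u}) := IsOpenImmersion.lift P.ι a' (by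
    rw [Scheme.Opens.range_ι]
    rintro _ ⟨b, rfl⟩
    obtain ⟨Q, hQ, hbQ⟩ := Set.mem_iUnion₂.1 (ht ⟨b, rfl⟩)
    exact TopologicalSpace.Opens.mem_iSup.2 ⟨⟨Q, hQ⟩, hbQ⟩)
  have ha2 : a2 ≫ P.ι ≫ (f ⁻¹ᵁ W).ι = a := by
    rw [IsOpenImmersion.lift_fac_assoc, IsOpenImmersion.lift_fac]
  let d : (B : Scheme.{u}) ⟶ (D : Scheme.{u}) := IsOpenImmersion.lift D.ι (B.ι ≫ k) (by
    rw [Scheme.Opens.range_ι]
    rintro _ ⟨b, rfl⟩
    exact (Scheme.preimage_basicOpen_top k r).ge b.2)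
  have hd : d ≫ D.ι = B.ι ≫ k := IsOpenImmersion.lift_fac _ _ _
  let dW : (D : Scheme.{u}) ⟶ (W : Scheme.{u}) := IsOpenImmersion.lift W.ι (D.ι ≫ V.ι ≫ g) (by
    rw [Scheme.Opens.range_ι]
    rintro _ ⟨b, rfl⟩
    exact hrW b.2)
  have hdW : dW ≫ W.ι = D.ι ≫ V.ι ≫ g := IsOpenImmersion.lift_fac _ _ _
  haveI : IsAffineHom dW := isAffineHom_of_isAffine dW
  let Q := pullback (P.ι ≫ f ∣_ W) dW
  haveI : IsAffineHom (pullback.fst (P.ι ≫ f ∣_ W) dW) := MorphismProperty.of_isPullback (P := @IsAffineHom) (IsPullback.of_hasPullback (P.ι ≫ f ∣_ W) dW).flip ‹_›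
  haveI : Q.IsQuasiAffine := Scheme.IsQuasiAffine.of_isAffineHom (pullback.fst (P.ι ≫ f ∣_ W) dW)
  let q : (B : Scheme.{u}) ⟶ Q := pullback.lift a2 d (by
    rw [← cancel_mono W.ι]
    simp only [Category.assoc, morphismRestrict_ι, hdW]
    rw [reassoc_of% ha2, reassoc_of% hd]
    simpa [a, Category.assoc] using (congrArg (B.ι ≫ ·) e1).symm)
  -- `q` is an open immersion: compose to the base change
  let j : Q ⟶ X' := hc.lift (pullback.fst _ _ ≫ P.ι ≫ (f ⁻¹ᵁ W).ι) (pullback.snd _ _ ≫ D.ι ≫ V.ι) (by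
    have := congrArg (· ≫ W.ι) (pullback.condition (f := P.ι ≫ f ∣_ W) (g := dW))
    simpa only [Category.assoc, morphismRestrict_ι, hdW] using this)
  haveI : IsOpenImmersion j := by
    have : j = pullback.map (P.ι ≫ f ∣_ W) dW f g (P.ι ≫ (f ⁻¹ᵁ W).ι) (D.ι ≫ V.ι) W.ι
        (by simp only [Category.assoc, morphismRestrict_ι]) (by simp only [Category.assoc, hdW]) ≫ hc.isoPullback.inv := by
      apply hc.hom_ext <;> simp [j, pullback.lift_fst, pullback.lift_snd, pullback.map]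
    rw [this]; infer_instance
  have hq : q ≫ j = B.ι ≫ U.ι ≫ (f' ⁻¹ᵁ V).ι := by
    apply hc.hom_ext
    · simp only [Category.assoc, j, hc.lift_fst, q, pullback.lift_fst_assoc, ha2, a]
    · simp only [Category.assoc, j, hc.lift_snd, q, pullback.lift_snd_assoc]
      rw [reassoc_of% hd]; simp only [k, Category.assoc, morphismRestrict_ι]
  haveI : IsOpenImmersion (q ≫ j) := by rw [hq]; infer_instance
  haveI : IsOpenImmersion q := IsOpenImmersion.of_comp q j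
  exact Scheme.IsQuasiAffine.of_isImmersion q

end Groth.Agent.S1400
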