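import Groth.Statements.S14000
import Mathlib

set_option autoImplicit false
universe u
open Perf

namespace Groth.Agent.S14000

open CategoryTheory CategoryTheory.Limits in
theorem euler_exact {R : Type u} [CommRing R] [IsLocalRing R] (M : ℤ → Type u) [∀ i, AddCommGroup (M i)]
    [∀ i, Module R (M i)] [∀ i, Module.Finite R (M i)] [∀ i, Module.Projective R (M i)]
    (D : ∀ i, M i →ₗ[R] M (i + 1)) (hD : ∀ i, Function.Exact (D i) (D (i + 1))) (a : ℤ) (k : ℕ)
    (ha : Subsingleton (M a)) (hb : Subsingleton (M (a + k))) :
    ((Finset.range k).sum fun j => (((a + j).negOnePow : ℤˣ) : ℤ) * (Module.finrank R (M (a + j)) : ℤ)) = 0 := by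
  let z : ℤ → ℤ := fun i => Module.finrank R (LinearMap.ker (D i))
  have key : ∀ m : ℕ, ∀ i : ℤ, i + m = a + k →
      Module.Finite R (LinearMap.ker (D i)) ∧ Module.Projective R (LinearMap.ker (D i)) ∧
      (0 < m → (Module.finrank R (M i) : ℤ) = z i + z (i + 1)) := by
    intro m
    induction m with
    | zero =>
      intro i hi
      obtain rfl : i = a + k := by simpa using hi
      haveI : Subsingleton (LinearMap.ker (D (a + k))) := inferInstance
      exact ⟨inferInstance, inferInstance, fun h => absurd h (lt_irrefl 0)⟩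
    | succ m ih =>
      intro i hi
      obtain ⟨hf, hp, -⟩ := ih (i + 1) (by push_cast at hi ⊢; omega)
      let g : M i →ₗ[R] LinearMap.ker (D (i + 1)) := (D i).codRestrict _ fun x => (hD i).apply_apply_eq_zero x
      have hg : Function.Surjective g := fun y => by
        obtain ⟨x, hx⟩ := (hD i y.1).1 y.2
        exact ⟨x, Subtype.ext hx⟩
      have hk : LinearMap.ker g = LinearMap.ker (D i) := LinearMap.ker_codRestrict _ _ _
      obtain ⟨s, hs⟩ := Module.projective_lifting_property g LinearMap.id hg
      let π : M i →ₗ[R] LinearMap.ker (D i) := (LinearMap.id - s.comp g).codRestrict _ fun x => by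
        rw [← hk, LinearMap.mem_ker]
        have : g (s (g x)) = g x := LinearMap.congr_fun hs (g x)
        simp [this]
      let e : M i ≃ₗ[R] LinearMap.ker (D i) × LinearMap.ker (D (i + 1)) :=
        LinearEquiv.ofLinear (π.prod g) ((LinearMap.ker (D i)).subtype.coprod s)
          (LinearMap.ext fun p => by
            have h1 : g (p.1 : M i) = 0 := by rw [← LinearMap.mem_ker, hk]; exact p.1.2
            have h2 : g (s p.2) = p.2 := LinearMap.congr_fun hs p.2
            refine Prod.ext (Subtype.ext ?_) ?_
            · simp [π, h1, h2]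
            · simp [h1, h2])
          (LinearMap.ext fun x => by simp [π])
      haveI : Module.Finite R (LinearMap.ker (D i) × LinearMap.ker (D (i + 1))) := Module.Finite.equiv e
      have hf' : Module.Finite R (LinearMap.ker (D i)) :=
        Module.Finite.of_surjective (LinearMap.fst R _ _) (fun x => ⟨(x, 0), rfl⟩ : Function.Surjective (LinearMap.fst R (LinearMap.ker (D i)) (LinearMap.ker (D (i + 1)))))
      have hp' : Module.Projective R (LinearMap.ker (D i)) :=
        Module.Projective.of_split (LinearMap.ker (D i)).subtype π (LinearMap.ext fun x => Subtype.ext (by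
          have h1 : g (x : M i) = 0 := by rw [← LinearMap.mem_ker, hk]; exact x.2
          simp [π, h1]))
      haveI := hf; haveI := hp; haveI := hf'; haveI := hp'
      haveI : Module.Free R (LinearMap.ker (D i)) := Module.free_of_flat_of_isLocalRing
      haveI : Module.Free R (LinearMap.ker (D (i + 1))) := Module.free_of_flat_of_isLocalRing
      exact ⟨hf', hp', fun _ => by rw [e.finrank_eq, Module.finrank_prod]; push_cast; rfl⟩
  have hsum : ∀ m : ℕ, m ≤ k → ((Finset.range m).sum fun j => (((a + j).negOnePow : ℤˣ) : ℤ) * (Module.finrank R (M (a + j)) : ℤ)) =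
      (((a).negOnePow : ℤˣ) : ℤ) * z a - (((a + m).negOnePow : ℤˣ) : ℤ) * z (a + m) := by
    intro m
    induction m with
    | zero => intro _; simp
    | succ m ih =>
      intro hm
      have h := (key (k - m) (a + m) (by omega)).2.2 (by omega)
      rw [Finset.sum_range_succ, ih (by omega), h, show (a + ((m + 1 : ℕ) : ℤ)) = a + m + 1 by push_cast; ring, Int.negOnePow_succ]
      push_cast; ring
  have hz : ∀ i, Subsingleton (M i) → z i = 0 := fun i hi => by
    haveI := hi
    show ((Module.finrank R (LinearMap.ker (D i)) : ℕ) : ℤ) = 0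
    simp [Module.finrank_zero_of_subsingleton]
  rw [hsum k le_rfl, hz a ha, hz _ hb]; ring

open CategoryTheory CategoryTheory.Limits in
theorem exact_localized {A : Type u} [CommRing A] (P : CochainComplex (ModuleCat.{u} A) ℤ) (S : Submonoid A) (i : ℤ)
    (h : Subsingleton (LocalizedModule S (P.homology (i + 1)))) :
    Function.Exact (IsLocalizedModule.map S (LocalizedModule.mkLinearMap S _) (LocalizedModule.mkLinearMap S _) (P.d i (i + 1)).hom)
      (IsLocalizedModule.map S (LocalizedModule.mkLinearMap S _) (LocalizedModule.mkLinearMap S _) (P.d (i + 1) (i + 1 + 1)).hom) := by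
  intro m
  constructor
  · intro hm
    obtain ⟨⟨x, s⟩, rfl⟩ := IsLocalizedModule.mk'_surjective S (LocalizedModule.mkLinearMap S _) m
    simp only [Function.uncurry_apply_pair, IsLocalizedModule.map_mk', IsLocalizedModule.mk'_eq_zero'] at hm ⊢
    obtain ⟨t, ht⟩ := hm
    have hc : (P.d (i + 1) (i + 1 + 1)).hom ((t : A) • x) = 0 := by rw [map_smul]; exact ht
    let T : ShortComplex (ModuleCat.{u} A) := P.sc' i (i + 1) (i + 1 + 1)
    let e := P.homologyIsoSc' i (i + 1) (i + 1 + 1) (by simp) (by simp) ≪≫ T.moduleCatHomologyIso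
    let c : LinearMap.ker T.g.hom := ⟨(t : A) • x, hc⟩
    obtain ⟨w, hw⟩ := LocalizedModule.subsingleton_iff.1 h (e.inv.hom (Submodule.Quotient.mk c))
    have h2 : Submodule.Quotient.mk (p := LinearMap.range T.moduleCatToCycles) (w • c) = 0 := by
      have := congrArg e.hom.hom hw.2
      simp only [map_smul, map_zero] at this
      have hh : e.hom.hom (e.inv.hom (Submodule.Quotient.mk c)) = Submodule.Quotient.mk c := e.toLinearEquiv.apply_symm_apply _
      rw [hh] at this
      exact this
    obtain ⟨y, hy⟩ := (Submodule.Quotient.mk_eq_zero _).1 h2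
    refine ⟨IsLocalizedModule.mk' (LocalizedModule.mkLinearMap S _) y (⟨w, hw.1⟩ * t * s), ?_⟩
    have hy' : (P.d i (i + 1)).hom y = w • ((t : A) • x) := congrArg Subtype.val hy
    rw [IsLocalizedModule.map_mk', hy', ← mul_smul]
    exact IsLocalizedModule.mk'_cancel_left (f := LocalizedModule.mkLinearMap S (P.X (i + 1))) x (⟨w, hw.1⟩ * t) s
  · rintro ⟨y, rfl⟩
    obtain ⟨⟨x, s⟩, rfl⟩ := IsLocalizedModule.mk'_surjective S (LocalizedModule.mkLinearMap S _) y
    simp only [Function.uncurry_apply_pair, IsLocalizedModule.map_mk']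
    have : (P.d (i + 1) (i + 1 + 1)).hom ((P.d i (i + 1)).hom x) = 0 :=
      congrArg (fun φ => φ.hom x) (P.d_comp_d i (i + 1) (i + 1 + 1))
    rw [this, IsLocalizedModule.mk'_zero]


open CategoryTheory CategoryTheory.Limits in
/-- Let A be a commutative ring and P a strictly perfect complex over A, that is a cochain complex of
finitely generated projective A-modules which is zero outside a finite set s of degrees. Suppose the
cohomological support of P has positive codimension: for every minimal prime q of A and every degree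
i the localization at q of the cohomology module H^i(P) is zero. Then the Euler characteristic of P
vanishes identically: at every prime of A the alternating sum over i ∈ s of the ranks of the P^i is
zero. -/
theorem result {A : Type u} [CommRing A]
    (P : CochainComplex (ModuleCat.{u} A) ℤ) (s : Finset ℤ)
    (hP : ∀ i : ℤ, Module.Finite A (P.X i) ∧ Module.Projective A (P.X i))
    (hs : ∀ i : ℤ, i ∉ s → IsZero (P.X i))
    (hsupp : ∀ q : PrimeSpectrum A, q.asIdeal ∈ minimalPrimes A →
      ∀ i : ℤ, Subsingleton (LocalizedModule q.asIdeal.primeCompl (P.homology i))) :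
    ∀ x : PrimeSpectrum A,
      (s.sum fun i => ((i.negOnePow : ℤˣ) : ℤ) * (Module.rankAtStalk (R := A) (P.X i) x : ℤ)) = 0 := by
  intro x
  classical
  obtain ⟨p, hp, hpx⟩ := Ideal.exists_minimalPrimes_le (I := ⊥) (J := x.asIdeal) bot_le
  haveI : p.IsPrime := hp.1.1
  let q : PrimeSpectrum A := ⟨p, inferInstance⟩
  have hrank : ∀ i, Module.rankAtStalk (R := A) (P.X i) x = Module.rankAtStalk (R := A) (P.X i) q := fun i => by
    have := (hP i).1; have := (hP i).2
    have := Module.finitePresentation_of_projective A (P.X i)
    have hl := Module.isLocallyConstant_rankAtStalk (R := A) (M := P.X i)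
    have hspec : q ⤳ x := (PrimeSpectrum.le_iff_specializes q x).1 hpx
    by_contra hne
    exact hne ((hspec.mem_open (hl.isOpen_fiber _) rfl).symm)
  simp only [hrank]
  obtain ⟨a, k, hsub⟩ : ∃ (a : ℤ) (k : ℕ), s ⊆ (Finset.range k).image (fun j : ℕ => a + j) ∧ a ∉ s ∧ a + k ∉ s := by
    obtain ⟨B, hB⟩ := (s.image Int.natAbs).bddAbove
    have hB' : ∀ i ∈ s, i.natAbs ≤ B := fun i hi => hB (Finset.mem_coe.2 (Finset.mem_image_of_mem _ hi))
    refine ⟨-(B + 1 : ℤ), 2 * B + 2, fun i hi => ?_, fun h => ?_, fun h => ?_⟩
    · have := hB' i hi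
      exact Finset.mem_image.2 ⟨(i + (B + 1)).toNat, Finset.mem_range.2 (by omega), by omega⟩
    · have := hB' _ h; omega
    · have := hB' _ h; push_cast at this; omega
  have hz : ∀ i, i ∉ s → Module.rankAtStalk (R := A) (P.X i) q = 0 := fun i hi => by
    haveI := ModuleCat.subsingleton_of_isZero (hs i hi)
    simp [Module.rankAtStalk_eq_zero_of_subsingleton]
  rw [Finset.sum_subset hsub.1 (fun i _ hi => by simp [hz i hi]), Finset.sum_image (fun a _ b _ h => by simpa using h)]
  let S := q.asIdeal.primeCompl
  haveI : ∀ i, Module.Finite (Localization S) (LocalizedModule S (P.X i)) := fun i => by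
    have := (hP i).1
    exact Module.Finite.of_isLocalizedModule S (LocalizedModule.mkLinearMap S (P.X i))
  haveI : ∀ i, Module.Projective (Localization S) (LocalizedModule S (P.X i)) := fun i => by
    have := (hP i).2
    exact Module.Projective.of_equiv' (R := Localization S) (IsLocalizedModule.isBaseChange S (Localization S) (LocalizedModule.mkLinearMap S (P.X i))).equiv
  haveI hsub0 : ∀ i, i ∉ s → Subsingleton (LocalizedModule S (P.X i)) := fun i hi => by
    haveI := ModuleCat.subsingleton_of_isZero (hs i hi)
    infer_instance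
  exact euler_exact (R := Localization.AtPrime q.asIdeal) (fun i => LocalizedModule S (P.X i))
    (fun i => (IsLocalizedModule.map S (LocalizedModule.mkLinearMap S _) (LocalizedModule.mkLinearMap S _) (P.d i (i + 1)).hom).extendScalarsOfIsLocalization S _)
    (fun i => exact_localized P S i (hsupp q hp (i + 1))) a k (hsub0 a hsub.2.1) (hsub0 _ hsub.2.2)

end Groth.Agent.S14000
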