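import Groth.Statements.S14020
import Mathlib

set_option autoImplicit false
universe u
open CAlg

namespace Groth.Agent.S14020
open AlgebraicGeometry CategoryTheory Limits TensorProduct
set_option backward.isDefEq.respectTransparency.types false
set_option linter.style.haveILetI false

/-- Let R be a commutative ring and I a finitely generated ideal such that the quotient ring R/I is
artinian. Then R/I^n is artinian for every n. -/
theorem result
    (R : Type u) [CommRing R] (I : Ideal R) (hI : I.FG) [IsArtinianRing (R ⧸ I)] (n : ℕ) :
    IsArtinianRing (R ⧸ I ^ n) := by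
  rcases Nat.eq_zero_or_pos n with rfl | hn
  · rw [pow_zero, Ideal.one_eq_top]; infer_instance
  have hle : I ^ n ≤ I := Ideal.pow_le_self (by omega)
  let q : R ⧸ I ^ n →+* R ⧸ I := Ideal.Quotient.factor hle
  have hq : Function.Surjective q := Ideal.Quotient.factor_surjective hle
  have hker : RingHom.ker q = I.map (Ideal.Quotient.mk (I ^ n)) := Ideal.Quotient.factor_ker hle
  have hnil : ∀ P : Ideal (R ⧸ I ^ n), P.IsPrime → RingHom.ker q ≤ P := by
    intro P hP x hx
    refine hP.mem_of_pow_mem n ?_
    rw [hker] at hx
    have := Ideal.pow_mem_pow hx n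
    rw [← Ideal.map_pow, Ideal.map_quotient_self] at this
    simp at this; rw [this]; exact P.zero_mem
  haveI : IsNoetherianRing (R ⧸ I ^ n) := IsNoetherianRing.of_prime fun P hP => by
    haveI : IsNoetherianRing (R ⧸ I) := inferInstance
    obtain ⟨t, ht⟩ : (P.map q).FG := IsNoetherian.noetherian _
    classical
    have e : P = Ideal.span ((t.image (Function.surjInv hq) : Finset _) : Set _) ⊔ RingHom.ker q := by
      have : (Ideal.span ((t.image (Function.surjInv hq) : Finset _) : Set _)).map q = P.map q := by
        rw [Ideal.map_span, Finset.coe_image, ← Set.image_comp, ← ht,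
          show (q ∘ Function.surjInv hq) = id from funext (Function.surjInv_eq hq), Set.image_id]
      have h := congrArg (Ideal.comap q) this
      rw [Ideal.comap_map_of_surjective _ hq, Ideal.comap_map_of_surjective _ hq, ← RingHom.ker_eq_comap_bot,
        sup_eq_left.2 (hnil P hP)] at h
      exact h.symm
    rw [e]
    exact Submodule.FG.sup ⟨_, rfl⟩ (hker ▸ hI.map _)
  rw [isArtinianRing_iff_krullDimLE_zero, Ring.krullDimLE_zero_iff]
  intro P hP
  haveI := hP
  have h2 : (P.map q).IsPrime := Ideal.map_isPrime_of_surjective hq (hnil P hP)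
  have h3 := h2.isMaximal'
  have e : P = (P.map q).comap q := by
    rw [Ideal.comap_map_of_surjective _ hq, left_eq_sup, ← RingHom.ker_eq_comap_bot]; exact hnil P hP
  rw [e]
  exact Ideal.comap_isMaximal_of_surjective q hq

end Groth.Agent.S14020
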