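import Groth.Statements.S14046
import Mathlib

set_option autoImplicit false
universe u v w
open W4c1frobunstiva

namespace Groth.Agent.S14046

open TensorProduct in
/-- Let R → A be a homomorphism of commutative rings and I, J ideals of A with I ∩ J = 0 — so that A is
the fibre product of A/I and A/J over A/(I + J), i.e. Spec A is the union of the two closed
subschemes in the strong sense — and suppose A/(I + J) is flat over R. Then this persists under
every base change: for every commutative R-algebra R', the ideals generated by I and J in R' ⊗_R A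
again meet in 0. (This is the ideal-theoretic, affine form of the base-change step; the exact
sequence of unit sheaves deduced from it in the published statement — restriction of units to a
closed subscheme being surjective locally — is not restated. Without flatness of A/(I + J) the
conclusion fails: for A = k[x, y]/(xy) over R = k[u] with u ↦ x + y, I = (x) and J = (y), the base
change to R/(u) gives k[x]/(x²), in which both ideals become (x).) -/
theorem result (R : Type u) (A : Type v)
    [CommRing R] [CommRing A] [Algebra R A] (I J : Ideal A) (hIJ : I ⊓ J = ⊥)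
    [Module.Flat R (A ⧸ (I ⊔ J))] (R' : Type w) [CommRing R'] [Algebra R R'] :
    I.map (Algebra.TensorProduct.includeRight : A →ₐ[R] R' ⊗[R] A) ⊓
      J.map (Algebra.TensorProduct.includeRight : A →ₐ[R] R' ⊗[R] A) = ⊥ := by
  let g : A →ₗ[R] (A ⧸ I) × (A ⧸ J) := (Ideal.Quotient.mkₐ R I).toLinearMap.prod (Ideal.Quotient.mkₐ R J).toLinearMap
  let f : ((A ⧸ I) × (A ⧸ J)) →ₗ[R] A ⧸ (I ⊔ J) :=
    (Ideal.Quotient.factorₐ R (le_sup_left : I ≤ I ⊔ J)).toLinearMap.coprod (-(Ideal.Quotient.factorₐ R (le_sup_right : J ≤ I ⊔ J)).toLinearMap)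
  have hg : Function.Injective g := fun x y h => by
    obtain ⟨h1, h2⟩ := Prod.ext_iff.1 h
    have : x - y ∈ I ⊓ J := ⟨(Ideal.Quotient.eq).1 h1, (Ideal.Quotient.eq).1 h2⟩
    rw [hIJ, Ideal.mem_bot, sub_eq_zero] at this; exact this
  have hf : Function.Surjective f := fun z => by
    obtain ⟨a, rfl⟩ := Ideal.Quotient.mk_surjective z
    exact ⟨(Ideal.Quotient.mk I a, 0), by simp [f]⟩
  have hex : Function.Exact g f := fun z => by
    constructor
    · intro hz
      obtain ⟨a, ha⟩ := Ideal.Quotient.mk_surjective z.1
      obtain ⟨b, hb⟩ := Ideal.Quotient.mk_surjective z.2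
      have : a - b ∈ I ⊔ J := by
        rw [← Ideal.Quotient.eq_zero_iff_mem, map_sub]
        simpa [f, ← ha, ← hb, sub_eq_add_neg] using hz
      obtain ⟨i, hi, j, hj, e⟩ := Submodule.mem_sup.1 this
      refine ⟨a - i, Prod.ext ?_ ?_⟩
      · simp [g, ← ha, Ideal.Quotient.eq_zero_iff_mem.2 hi]
      · show Ideal.Quotient.mk J (a - i) = z.2
        rw [← hb, Ideal.Quotient.eq, show a - i - b = j by linear_combination -e]; exact hj
    · rintro ⟨a, rfl⟩
      simp [f, g]
  have hinj := LinearMap.lTensor_injective_of_exact_of_flat f hf g hg hex R'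
  rw [eq_bot_iff]
  rintro x ⟨hx1, hx2⟩
  rw [Ideal.mem_bot]
  have hk : ∀ (K : Ideal A) {x : R' ⊗[R] A}, x ∈ K.map (Algebra.TensorProduct.includeRight : A →ₐ[R] R' ⊗[R] A) →
      LinearMap.lTensor R' (Ideal.Quotient.mkₐ R K).toLinearMap x = 0 := fun K {x} hx => by
    have : K.map (Algebra.TensorProduct.includeRight : A →ₐ[R] R' ⊗[R] A) ≤ RingHom.ker (Algebra.TensorProduct.map (AlgHom.id R R') (Ideal.Quotient.mkₐ R K)) := by
      rw [Ideal.map_le_iff_le_comap]
      intro a ha
      simp [Ideal.Quotient.eq_zero_iff_mem.2 ha]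
    exact this hx
  apply hinj
  rw [map_zero]
  apply (TensorProduct.prodRight R R R' (A ⧸ I) (A ⧸ J)).injective
  rw [map_zero]
  have hsplit : ∀ y, TensorProduct.prodRight R R R' (A ⧸ I) (A ⧸ J) (g.lTensor R' y) =
      (LinearMap.lTensor R' (Ideal.Quotient.mkₐ R I).toLinearMap y, LinearMap.lTensor R' (Ideal.Quotient.mkₐ R J).toLinearMap y) := fun y => by
    induction y with
    | zero => simp only [map_zero]; rfl
    | tmul r a => simp [g]
    | add x y hx hy => simp [map_add, hx, hy]
  rw [hsplit, hk I hx1, hk J hx2]; rfl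

end Groth.Agent.S14046
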