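import Groth.Statements.S14048
import Mathlib

set_option autoImplicit false
universe u
open TensorProduct
open CAlg

namespace Groth.Agent.S14048

/-- Let A be an integral domain in which 2 is invertible and let t be an element of A, so that Spec A is
a scheme over the affine line Spec ℤ[1/2][t]. Assume that (1) the ℚ-algebra map (Polynomial ℚ) → ℚ ⊗_ℤ A
sending X to 1 ⊗ t is bijective (the map Spec A → Spec ℤ[1/2][t] becomes an isomorphism after base
change to ℚ); (2) every prime number is invertible in A/(t) (the fibre over t = 0 is of pure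
characteristic zero); and (3) there is a ring homomorphism s : A → ℤ[1/2] with s(t) = 1 (the fibre
over t = 1 admits a section). Then A is not Noetherian. -/
theorem result (A : Type u) [CommRing A]
    [IsDomain A] (h2 : IsUnit (2 : A)) (t : A)
    (h1 : Function.Bijective (Polynomial.aeval (R := ℚ) ((1 : ℚ) ⊗ₜ[ℤ] t : ℚ ⊗[ℤ] A)))
    (h0 : ∀ p : ℕ, p.Prime → IsUnit ((p : ℕ) : A ⧸ Ideal.span ({t} : Set A)))
    (s : A →+* Localization.Away (2 : ℤ)) (hs : s t = 1) :
    ¬ IsNoetherianRing A := by
  classical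
  intro hN
  let L := Localization.Away (2 : ℤ)
  have hLinj : Function.Injective (algebraMap ℤ L) :=
    IsLocalization.injective L (M := Submonoid.powers (2 : ℤ))
      (powers_le_nonZeroDivisors_of_noZeroDivisors (by norm_num))
  haveI : CharZero A := charZero_of_inj_zero (fun n hn => by
    have h0' : s (n : A) = 0 := by rw [hn, map_zero]
    rw [map_natCast] at h0'
    have : algebraMap ℤ L (n : ℤ) = algebraMap ℤ L 0 := by rw [map_natCast, map_zero, h0']
    exact_mod_cast hLinj this)
  haveI : Module.IsTorsionFree ℤ A := inferInstance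
  let e := AlgEquiv.ofBijective _ h1
  let φ : A →+* (Polynomial ℚ) := (e.symm : ℚ ⊗[ℤ] A →+* (Polynomial ℚ)).comp
    (Algebra.TensorProduct.includeRight (R := ℤ) (A := ℚ) (B := A)).toRingHom
  have hφinj : Function.Injective φ := fun a b hab =>
    Algebra.TensorProduct.includeRight_injective (R := ℤ) (A := ℚ) (B := A)
      (algebraMap ℤ ℚ).injective_int (e.symm.injective hab)
  have hφt : φ t = Polynomial.X := by
    apply e.injective
    show e (e.symm _) = _
    rw [AlgEquiv.apply_symm_apply]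
    simp [e]
  let ψ : A →+* (Polynomial ℚ) := (Polynomial.aeval (Polynomial.X + 1 : (Polynomial ℚ))).toRingHom.comp φ
  have hψt : ψ t = Polynomial.X + 1 := by simp [ψ, hφt]
  have h2Q : IsUnit (algebraMap ℤ ℚ 2) := by norm_num
  let κ : L →+* ℚ := IsLocalization.Away.lift (2 : ℤ) h2Q
  have h2A : IsUnit (algebraMap ℤ A 2) := by simpa using h2
  let ι : L →+* A := IsLocalization.Away.lift (2 : ℤ) h2A
  have hsι : ∀ x, s (ι x) = x := by
    intro x
    have : s.comp ι = RingHom.id L :=
      IsLocalization.ringHom_ext (Submonoid.powers (2 : ℤ)) (RingHom.ext_int _ _)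
    exact RingHom.congr_fun this x
  have hψι : ∀ x, ψ (ι x) = Polynomial.C (κ x) := by
    intro x
    have : ψ.comp ι = Polynomial.C.comp κ :=
      IsLocalization.ringHom_ext (Submonoid.powers (2 : ℤ)) (RingHom.ext_int _ _)
    exact RingHom.congr_fun this x
  have hψ0 : ∀ a, (ψ a).coeff 0 = κ (s a) := by
    let f1 : A →ₐ[ℤ] ℚ := ((Polynomial.constantCoeff).comp ψ).toIntAlgHom
    let f2 : A →ₐ[ℤ] ℚ := (κ.comp s).toIntAlgHom
    let F1 : ℚ ⊗[ℤ] A →ₐ[ℚ] ℚ :=
      Algebra.TensorProduct.lift (AlgHom.id ℚ ℚ) f1 (fun _ _ => Commute.all _ _)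
    let F2 : ℚ ⊗[ℤ] A →ₐ[ℚ] ℚ :=
      Algebra.TensorProduct.lift (AlgHom.id ℚ ℚ) f2 (fun _ _ => Commute.all _ _)
    have hF : F1.comp e.toAlgHom = F2.comp e.toAlgHom := by
      apply Polynomial.algHom_ext
      have h1' : f1 t = 1 := by simp [f1, hψt]
      have h2' : f2 t = 1 := by simp [f2, hs]
      simp [F1, F2, e, h1', h2']
    intro a
    have := AlgHom.congr_fun hF (e.symm ((1 : ℚ) ⊗ₜ[ℤ] a))
    simpa [F1, F2, f1, f2] using this
  obtain ⟨G, hG⟩ := IsNoetherian.noetherian (RingHom.ker s)
  let M := G.sup (fun g => (ψ g).support.sup (fun k => ((ψ g).coeff k).den))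
  obtain ⟨p, hpM, hp⟩ := Nat.exists_infinite_primes (M + 3)
  haveI : Fact p.Prime := ⟨hp⟩
  let O : Subring ℚ := (PadicInt.subring p).comap (algebraMap ℚ ℚ_[p])
  have hOden : ∀ q : ℚ, ¬ p ∣ q.den → q ∈ O := by
    intro q hq
    show ‖algebraMap ℚ ℚ_[p] q‖ ≤ 1
    rw [eq_ratCast]
    exact Padic.norm_rat_le_one hq
  have hκ : ∀ x, κ x ∈ O := by
    intro x
    obtain ⟨⟨a, ⟨b, k, rfl⟩⟩, hab⟩ := IsLocalization.surj (Submonoid.powers (2 : ℤ)) x
    have h : κ x * (2 : ℚ) ^ k = (a : ℚ) := by
      have := congr_arg κ hab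
      simpa [κ, map_ofNat κ 2] using this
    have hx : κ x = (a : ℚ) * ((2 : ℚ) ^ k)⁻¹ := by rw [← h]; field_simp
    rw [hx]
    refine O.mul_mem (intCast_mem O a) ?_
    rw [← inv_pow]
    refine O.pow_mem (hOden _ ?_) k
    rw [show ((2 : ℚ)⁻¹).den = 2 by norm_num]
    exact fun hd => by have := Nat.le_of_dvd (by norm_num) hd; omega
  have hgen : ∀ g ∈ G, ∀ k, (ψ g).coeff k ∈ O := by
    intro g hg k
    by_cases hk : k ∈ (ψ g).support
    · refine hOden _ (fun hd => ?_)
      have hle : ((ψ g).coeff k).den ≤ M :=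
        le_trans (Finset.le_sup (f := fun k => ((ψ g).coeff k).den) hk)
          (Finset.le_sup (f := fun g => (ψ g).support.sup (fun k => ((ψ g).coeff k).den)) hg)
      have := Nat.le_of_dvd (Rat.den_pos _) hd
      omega
    · rw [Polynomial.notMem_support_iff.mp hk]; exact O.zero_mem
  have hall : ∀ k, ∀ a, (ψ a).coeff k ∈ O := by
    intro k
    induction k using Nat.strong_induction_on with
    | _ k ih =>
      intro a
      have hker : a - ι (s a) ∈ RingHom.ker s := by simp [RingHom.mem_ker, hsι]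
      have hJ : ∀ y ∈ Ideal.span (G : Set A), (ψ y).coeff k ∈ O ∧ s y = 0 := by
        intro y hy
        induction hy using Submodule.span_induction with
        | mem g hg => exact ⟨hgen g hg k, RingHom.mem_ker.mp (hG ▸ Ideal.subset_span hg)⟩
        | zero => simp
        | add y z _ _ hy hz => exact ⟨by simpa using O.add_mem hy.1 hz.1, by simp [hy.2, hz.2]⟩
        | smul r y hy' hy =>
          refine ⟨?_, by simp [hy.2]⟩
          rw [smul_eq_mul, map_mul, Polynomial.coeff_mul]
          refine O.sum_mem (fun ij hij => ?_)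
          rcases Nat.eq_zero_or_pos ij.2 with h2' | h2'
          · have : (ψ y).coeff 0 = 0 := by rw [hψ0, hy.2, map_zero]
            rw [h2', this, mul_zero]; exact O.zero_mem
          · rw [Finset.HasAntidiagonal.mem_antidiagonal] at hij
            by_cases hk2 : ij.2 = k
            · refine O.mul_mem ?_ (hk2 ▸ hy.1)
              have : ij.1 = 0 := by omega
              rw [this, hψ0]; exact hκ _
            · exact O.mul_mem (ih _ (by omega) r) (ih _ (by omega) y)
      have hmem : a - ι (s a) ∈ Ideal.span (G : Set A) := by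
        rw [show Ideal.span (G : Set A) = RingHom.ker s from hG]; exact hker
      have h3 := (hJ _ hmem).1
      rw [map_sub, hψι, Polynomial.coeff_sub] at h3
      have hC : (Polynomial.C (κ (s a))).coeff k ∈ O := by
        rw [Polynomial.coeff_C]; split_ifs
        · exact hκ _
        · exact O.zero_mem
      simpa using O.add_mem h3 hC
  obtain ⟨a, ha⟩ := Ideal.Quotient.mk_surjective (↑((h0 p hp).unit⁻¹) : A ⧸ Ideal.span ({t} : Set A))
  have hmem : (p : A) * a - 1 ∈ Ideal.span ({t} : Set A) := by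
    rw [← Ideal.Quotient.eq, map_mul, ha, map_natCast, map_one, IsUnit.mul_val_inv]
  obtain ⟨b, hb⟩ := Ideal.mem_span_singleton'.mp hmem
  have hev := congr_arg (fun y => (ψ y).eval (-1)) hb
  simp [hψt] at hev
  have hO : (ψ a).eval (-1) ∈ O := by
    rw [Polynomial.eval_eq_sum, Polynomial.sum]
    exact O.sum_mem (fun k _ => O.mul_mem (hall k a) (O.pow_mem (O.neg_mem O.one_mem) k))
  have hinv : (ψ a).eval (-1) = (p : ℚ)⁻¹ := by
    have : (p : ℚ) ≠ 0 := Nat.cast_ne_zero.mpr hp.ne_zero
    field_simp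
    linarith [hev]
  rw [hinv] at hO
  have : ‖algebraMap ℚ ℚ_[p] ((p : ℚ)⁻¹)‖ ≤ 1 := hO
  rw [map_inv₀, map_natCast, norm_inv, Padic.norm_p, inv_inv] at this
  have : (p : ℝ) ≥ 2 := by exact_mod_cast hp.two_le
  linarith

end Groth.Agent.S14048
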