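import Groth.Statements.S14053
import Mathlib

set_option autoImplicit false
universe u
open CAlg

namespace Groth.Agent.S14053
open DirectSum

/-- Let k be a field and R a commutative ℕ-graded k-algebra with R_0 = k · 1 which is generated as a
k-algebra by R_1, R_2 and R_3, each a finite-dimensional k-vector space, of dimensions d_1, d_2,
d_3. Then for every natural number e ≥ 5 d_1 + 4 d_2 + 3 d_3 the (6e)-th Veronese subring of R is
generated in degree one over k: R_{6em} = (R_{6e})^m for every m > 0. -/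
theorem result
    (k : Type u) [Field k] (R : Type u) [CommRing R] [Algebra k R]
    (ℛ : ℕ → Submodule k R) [GradedAlgebra ℛ]
    (h0 : ℛ 0 = 1)
    (hgen : Algebra.adjoin k ((ℛ 1 : Set R) ∪ (ℛ 2 : Set R) ∪ (ℛ 3 : Set R)) = ⊤)
    [Module.Finite k (ℛ 1)] [Module.Finite k (ℛ 2)] [Module.Finite k (ℛ 3)]
    (e : ℕ) (he : 5 * Module.finrank k (ℛ 1) + 4 * Module.finrank k (ℛ 2) + 3 * Module.finrank k (ℛ 3) ≤ e)
    (m : ℕ) (hm : 0 < m) :
    ℛ (m * (6 * e)) = ℛ (6 * e) ^ m := by
  classical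
  have hmul : ∀ i j, ℛ i * ℛ j ≤ ℛ (i + j) := fun i j =>
    Submodule.mul_le.mpr fun a ha b hb => SetLike.mul_mem_graded ha hb
  have hpow : ∀ i a, ℛ i ^ a ≤ ℛ (a * i) := by
    intro i a
    induction a with
    | zero => rw [pow_zero, zero_mul, h0]
    | succ a ih => rw [pow_succ, add_mul, one_mul]; exact (mul_le_mul' ih le_rfl).trans (hmul _ _)
  let V : ℕ × ℕ × ℕ → Submodule k R := fun t => ℛ 1 ^ t.1 * ℛ 2 ^ t.2.1 * ℛ 3 ^ t.2.2
  let wt : ℕ × ℕ × ℕ → ℕ := fun t => t.1 + 2 * t.2.1 + 3 * t.2.2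
  have hV : ∀ t, V t ≤ ℛ (wt t) := by
    intro t
    refine (mul_le_mul' (mul_le_mul' (hpow 1 _) (hpow 2 _)) (hpow 3 _)).trans ?_
    refine (mul_le_mul' (hmul _ _) le_rfl).trans ((hmul _ _).trans (le_of_eq ?_))
    congr 1; simp only [wt]; ring
  let M : Submodule k R := ⨆ t, V t
  have hVV : ∀ s t, V s * V t = V (s + t) := by
    intro s t; simp only [V, Prod.fst_add, Prod.snd_add, pow_add]; ring
  have h1M : (1 : R) ∈ M := by
    refine Submodule.mem_iSup_of_mem (0, 0, 0) ?_
    simp only [V, pow_zero, one_mul]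
    exact Submodule.one_le.mp le_rfl
  have hMM : M * M ≤ M := by
    simp only [M, Submodule.iSup_mul, Submodule.mul_iSup, hVV]
    exact iSup_le fun s => iSup_le fun t => le_iSup V _
  have htop : ∀ x, x ∈ M := by
    intro x
    have hx : x ∈ Algebra.adjoin k ((ℛ 1 : Set R) ∪ (ℛ 2 : Set R) ∪ (ℛ 3 : Set R)) := by rw [hgen]; trivial
    refine Algebra.adjoin_le (S := M.toSubalgebra h1M (fun a b ha hb => hMM (Submodule.mul_mem_mul ha hb))) ?_ hx
    rintro y ((hy | hy) | hy)
    · exact Submodule.mem_iSup_of_mem (1, 0, 0) (by simpa [V] using hy)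
    · exact Submodule.mem_iSup_of_mem (0, 1, 0) (by simpa [V] using hy)
    · exact Submodule.mem_iSup_of_mem (0, 0, 1) (by simpa [V] using hy)
  have hdec : ∀ (n : ℕ) (N : Submodule k R), (∀ t, wt t = n → V t ≤ N) → ℛ n ≤ N := by
    intro n N hN x hx
    have : GradedAlgebra.proj ℛ n x ∈ N := by
      refine Submodule.iSup_induction V (motive := fun y => GradedAlgebra.proj ℛ n y ∈ N) (htop x) ?_ ?_ ?_
      · intro t y hy
        rw [GradedAlgebra.proj_apply]
        by_cases ht : wt t = n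
        · rw [← ht, DirectSum.decompose_of_mem_same ℛ (hV t hy)]; exact hN t ht hy
        · rw [DirectSum.decompose_of_mem_ne ℛ (hV t hy) ht]; exact zero_mem _
      · rw [map_zero]; exact zero_mem _
      · intro a b ha hb; rw [map_add]; exact add_mem ha hb
    rwa [GradedAlgebra.proj_apply, DirectSum.decompose_of_mem_same ℛ hx] at this
  refine le_antisymm ?_ (hpow _ _)
  rcases lt_or_ge e 2 with hlt | hge
  · rcases Nat.eq_zero_or_pos e with rfl | hepos
    · rw [mul_zero, mul_zero, h0, one_pow]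
    have f1 : Module.finrank k (ℛ 1) = 0 := by omega
    have f2 : Module.finrank k (ℛ 2) = 0 := by omega
    have f3 : Module.finrank k (ℛ 3) = 0 := by omega
    rw [Submodule.finrank_eq_zero] at f1 f2 f3
    refine le_trans (hdec _ ⊥ fun t ht => ?_) bot_le
    obtain ⟨a, b, c⟩ := t
    simp only [V, f1, f2, f3]
    rcases Nat.eq_zero_or_pos a with rfl | ha
    · rcases Nat.eq_zero_or_pos b with rfl | hb
      · rcases Nat.eq_zero_or_pos c with rfl | hc
        · simp only [wt] at ht
          have : 0 < m * (6 * e) := Nat.mul_pos hm (by omega)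
          omega
        · simp [← Submodule.zero_eq_bot, zero_pow hc.ne']
      · simp [← Submodule.zero_eq_bot, zero_pow hb.ne']
    · simp [← Submodule.zero_eq_bot, zero_pow ha.ne']
  have hstep : ∀ n, 12 < n + 6 → ℛ (n + 6) ≤ ℛ 6 * ℛ n := by
    intro n hn
    refine hdec _ _ fun t ht => ?_
    obtain ⟨a, b, c⟩ := t
    simp only [wt] at ht
    have hsplit : ∀ s r : ℕ × ℕ × ℕ, s + r = (a, b, c) → wt s = 6 → V (a, b, c) ≤ ℛ 6 * ℛ n := by
      intro s r h h6
      have : wt r = n := by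
        have h1 := congrArg (fun q => q.1) h; have h2 := congrArg (fun q => q.2.1) h; have h3 := congrArg (fun q => q.2.2) h
        simp only [wt, Prod.fst_add, Prod.snd_add] at h1 h2 h3 h6 ⊢
        omega
      rw [← h, ← hVV, ← h6, ← this]
      exact mul_le_mul' (hV s) (hV r)
    have : 6 ≤ a ∨ 3 ≤ b ∨ 2 ≤ c := by omega
    rcases this with h | h | h
    · exact hsplit (6, 0, 0) (a - 6, b, c) (by simp; omega) rfl
    · exact hsplit (0, 3, 0) (a, b - 3, c) (by simp; omega) rfl
    · exact hsplit (0, 0, 2) (a, b, c - 2) (by simp; omega) rfl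
  have hiter : ∀ b i, 12 ≤ b → ℛ (b + 6 * i) ≤ ℛ 6 ^ i * ℛ b := by
    intro b i hb
    induction i with
    | zero => simp
    | succ i ih =>
      rw [show b + 6 * (i + 1) = (b + 6 * i) + 6 by ring, pow_succ']
      refine (hstep _ (by omega)).trans ?_
      rw [mul_assoc]
      exact mul_le_mul' le_rfl ih
  obtain ⟨m, rfl⟩ : ∃ j, m = j + 1 := ⟨m - 1, by omega⟩
  rw [show (m + 1) * (6 * e) = 6 * e + 6 * (e * m) by ring, pow_succ]
  refine (hiter _ _ (by omega)).trans (mul_le_mul' ?_ le_rfl)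
  rw [pow_mul]
  exact pow_le_pow_left' ((hpow 6 e).trans (le_of_eq (by rw [mul_comm]))) m

end Groth.Agent.S14053
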