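import Groth.Statements.S1409
import Mathlib

set_option autoImplicit false
universe u
open FlatMor

namespace Groth.Agent.S1409
set_option maxHeartbeats 4000000

/-- Let (R_i) be a directed system of commutative rings whose transition maps are faithfully flat, with
colimit R. Then, counting in the extended natural numbers, the minimal primes of R are exactly as
numerous as the supremum over i of the count of minimal primes of R_i. -/
theorem result {ι : Type u} [Preorder ι] [IsDirected ι (· ≤ ·)] [Nonempty ι] (G : ι → Type u) [∀ i, CommRing (G i)]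
    (f : ∀ i j, i ≤ j → G i →+* G j) [DirectedSystem G fun i j h => f i j h]
    (hf : ∀ i j (h : i ≤ j), letI := (f i j h).toAlgebra
      Module.FaithfullyFlat (G i) (G j)) :
    (minimalPrimes (Ring.DirectLimit G fun i j h => ⇑(f i j h))).encard = ⨆ i, (minimalPrimes (G i)).encard := by
  classical
  set H := Ring.DirectLimit G fun i j h => ⇑(f i j h)
  let φ : ∀ i, G i →+* H := fun i => Ring.DirectLimit.of G (fun i j h => ⇑(f i j h)) i
  have hφ : ∀ i j (h : i ≤ j) x, φ j (f i j h x) = φ i x := fun i j h x => Ring.DirectLimit.of_f h x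
  have hinj : ∀ i j (h : i ≤ j), Function.Injective (f i j h) := fun i j h => by
    letI := (f i j h).toAlgebra
    haveI := hf i j h
    exact FaithfulSMul.algebraMap_injective (G i) (G j)
  have hzero : ∀ i x, φ i x = 0 → ∃ (j : ι) (h : i ≤ j), f i j h x = 0 := fun i x hx =>
    Ring.DirectLimit.of.zero_exact hx
  have hφinj : ∀ i, Function.Injective (φ i) := fun i => by
    rw [injective_iff_map_eq_zero]
    intro x hx
    obtain ⟨j, h, hj⟩ := hzero i x hx
    exact hinj i j h (hj.trans (map_zero _).symm)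
  have hfcomp : ∀ i j k (hij : i ≤ j) (hjk : j ≤ k) x, f j k hjk (f i j hij x) = f i k (hij.trans hjk) x :=
    fun i j k hij hjk x => DirectedSystem.map_map (f := fun i j h => f i j h) hij hjk x
  -- elements of an extended ideal live at a finite level
  have hlevel : ∀ (i : ι) (q : Ideal (G i)), ∀ z ∈ q.map (φ i), ∃ (j : ι) (h : i ≤ j), ∃ y ∈ q.map (f i j h), φ j y = z := by
    intro i q z hz
    induction hz using Submodule.span_induction with
    | mem z hz =>
      obtain ⟨x, hx, rfl⟩ := hz
      exact ⟨i, le_rfl, f i i le_rfl x, Ideal.mem_map_of_mem _ hx, hφ i i le_rfl x⟩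
    | zero => exact ⟨i, le_rfl, 0, zero_mem _, map_zero _⟩
    | add a b _ _ ha hb =>
      obtain ⟨j, hj, y, hy, rfl⟩ := ha
      obtain ⟨k, hk, w, hw, rfl⟩ := hb
      obtain ⟨l, hjl, hkl⟩ := directed_of (· ≤ ·) j k
      have hmap : ∀ (j : ι) (hj : i ≤ j) (hjl : j ≤ l) (y : G j), y ∈ q.map (f i j hj) → f j l hjl y ∈ q.map (f i l (hj.trans hjl)) := by
        intro j hj hjl y hy
        have := Ideal.mem_map_of_mem (f j l hjl) hy
        rwa [Ideal.map_map, show (f j l hjl).comp (f i j hj) = f i l (hj.trans hjl) from RingHom.ext fun x => hfcomp i j l hj hjl x] at this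
      exact ⟨l, hj.trans hjl, f j l hjl y + f k l hkl w, add_mem (hmap j hj hjl y hy) (hmap k hk hkl w hw), by rw [map_add, hφ, hφ]⟩
    | smul c a _ ha =>
      obtain ⟨j, hj, y, hy, rfl⟩ := ha
      obtain ⟨k, c, rfl⟩ := Ring.DirectLimit.exists_of c
      obtain ⟨l, hjl, hkl⟩ := directed_of (· ≤ ·) j k
      have := Ideal.mem_map_of_mem (f j l hjl) hy
      rw [Ideal.map_map, show (f j l hjl).comp (f i j hj) = f i l (hj.trans hjl) from RingHom.ext fun x => hfcomp i j l hj hjl x] at this
      exact ⟨l, hj.trans hjl, f k l hkl c * f j l hjl y, Ideal.mul_mem_left _ _ this, by rw [map_mul, hφ, hφ]; rfl⟩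
  -- comaps of minimal primes are minimal
  have hmin : ∀ (P : Ideal H), P ∈ minimalPrimes H → ∀ i, P.comap (φ i) ∈ minimalPrimes (G i) := by
    intro P hP i
    haveI : P.IsPrime := hP.1.1
    refine ⟨⟨inferInstance, bot_le⟩, fun q hq hle => ?_⟩
    haveI : q.IsPrime := hq.1
    let M : Submonoid H := P.primeCompl ⊔ q.primeCompl.map (φ i : G i →* H)
    have hdis : Disjoint ((q.map (φ i) : Ideal H) : Set H) (M : Set H) := by
      rw [Set.disjoint_left]
      intro z hz hzM
      obtain ⟨a, ha, b, ⟨s, hs, rfl⟩, rfl⟩ := Submonoid.mem_sup.1 hzM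
      obtain ⟨j, hij, y, hy, hyz⟩ := hlevel i q _ hz
      obtain ⟨k, a, rfl⟩ := Ring.DirectLimit.exists_of a
      obtain ⟨l, hjl, hkl⟩ := directed_of (· ≤ ·) j k
      have hil := hij.trans hjl
      have h0 : φ l (f j l hjl y - f k l hkl a * f i l hil s) = 0 := by
        rw [map_sub, map_mul, hφ, hφ, hφ, hyz]; exact sub_self _
      obtain ⟨o, hlo, ho⟩ := hzero l _ h0
      have hio := hil.trans hlo
      rw [map_sub, map_mul, sub_eq_zero, hfcomp, hfcomp, hfcomp] at ho
      have hyo : f k o (hkl.trans hlo) a * f i o hio s ∈ q.map (f i o hio) := by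
        rw [← ho]
        have := Ideal.mem_map_of_mem (f j o (hjl.trans hlo)) hy
        rwa [Ideal.map_map, show (f j o (hjl.trans hlo)).comp (f i j hij) = f i o hio from RingHom.ext fun x => hfcomp i j o hij _ x] at this
      letI := (f i o hio).toAlgebra
      haveI := hf i o hio
      let P' := P.comap (φ o)
      haveI : P'.LiesOver (P.comap (φ i)) := ⟨by
        ext x
        show φ i x ∈ P ↔ φ o (f i o hio x) ∈ P
        rw [hφ]⟩
      obtain ⟨Q, hQ, hQp, hQo⟩ := P'.exists_ideal_le_liesOver_of_le (p := q) (q := P.comap (φ i)) hle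
      have hQq : q.map (f i o hio) ≤ Q := Ideal.map_le_iff_le_comap.2 hQo.over.le
      rcases hQp.mem_or_mem (hQq hyo) with h1 | h1
      · exact ha (by have := hQ h1; rwa [Ideal.mem_comap, hφ] at this)
      · exact hs (hQo.over.ge h1)
    obtain ⟨Q, hQp, hqQ, hQM⟩ := Ideal.exists_le_prime_disjoint _ M hdis
    have hQP : Q ≤ P := fun x hx => by
      by_contra hxP
      exact Set.disjoint_left.1 hQM hx (Submonoid.mem_sup_left hxP)
    have hPQ : P ≤ Q := hP.2 ⟨hQp, bot_le⟩ hQP
    intro x hx
    by_contra hxq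
    exact Set.disjoint_left.1 hQM (hPQ hx) (Submonoid.mem_sup_right ⟨x, hxq, rfl⟩)
  refine le_antisymm ?_ (iSup_le fun i => ?_)
  · refine le_of_not_gt fun hc => ?_
    obtain ⟨n, hn⟩ := ENat.ne_top_iff_exists.1 hc.ne_top
    obtain ⟨s, hsX, hs⟩ := Set.exists_subset_encard_eq (k := ((n + 1 : ℕ) : ℕ∞)) (by push_cast; exact Order.add_one_le_of_lt (hn ▸ hc))
    have hfin : s.Finite := Set.encard_ne_top_iff.1 (by rw [hs]; exact ENat.natCast_ne_top _)
    have hsep : ∀ a b : Ideal H, ∃ j, ∀ k, j ≤ k → a.comap (φ k) = b.comap (φ k) → a = b := by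
      intro a b
      by_cases hab : a = b
      · exact ⟨Classical.arbitrary ι, fun _ _ _ => hab⟩
      · obtain ⟨x, hx⟩ : ∃ x, ¬ (x ∈ a ↔ x ∈ b) := not_forall.1 fun h => hab (Ideal.ext h)
        obtain ⟨j, x, rfl⟩ := Ring.DirectLimit.exists_of x
        refine ⟨j, fun k hk he => absurd ?_ hx⟩
        have := SetLike.ext_iff.1 he (f j k hk x)
        simp only [Ideal.mem_comap, hφ] at this
        exact this
    choose lev hlev using hsep
    obtain ⟨k, hk⟩ := Finset.exists_le ((hfin.toFinset ×ˢ hfin.toFinset).image fun p => lev p.1 p.2)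
    have key : s.encard ≤ (minimalPrimes (G k)).encard := ?_
    · rw [hs] at key
      have h2 := key.trans ((le_iSup (fun i => (minimalPrimes (G i)).encard) k).trans hn.ge)
      rw [Nat.cast_le] at h2
      omega
    refine Set.encard_le_encard_of_injOn (f := fun P => P.comap (φ k)) (fun P hP => hmin P (hsX hP) k) ?_
    intro a ha b hb he
    exact hlev a b k (hk _ (Finset.mem_image.2 ⟨(a, b), Finset.mem_product.2 ⟨hfin.mem_toFinset.2 ha, hfin.mem_toFinset.2 hb⟩, rfl⟩)) he
  · refine (Set.encard_le_encard fun p hp => ?_).trans (Set.encard_image_le (fun P : Ideal H => P.comap (φ i)) _)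
    obtain ⟨P, hP, hPp⟩ := Ideal.exists_comap_eq_of_mem_minimalPrimes_of_injective (hφinj i) p hp
    obtain ⟨P', hP', hle⟩ := Ideal.exists_minimalPrimes_le (I := (⊥ : Ideal H)) (J := P) bot_le
    exact ⟨P', hP', le_antisymm (hPp ▸ Ideal.comap_mono hle) (hp.2 ⟨(hmin P' hP' i).1.1, bot_le⟩ (hPp ▸ Ideal.comap_mono hle))⟩

end Groth.Agent.S1409
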