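import Groth.Statements.S14097
import Mathlib

set_option autoImplicit false
universe u
open ArSing

namespace Groth.Agent.S14097

/-- In any commutative ring, if h_0, …, h_(k-1) (k ≥ 2) and τ satisfy h_i^2 + τ h_i = 0, then ∏_(i ≤
k-2) (h_i + h_(i+1) + τ) = Σ_(j ≤ k-1) τ^(k-1-j) e_j(h), e_j the elementary symmetric functions.
(The published statement is the resulting formula for the class of the small diagonal in the Chow
ring of (P^1)^k, where the h_i are the hyperplane classes of the factors and satisfy these
relations; only the ring identity is asserted here.) -/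
theorem result (A : Type u) [CommRing A] (k : ℕ) (hk : 2 ≤ k) (τ : A)
    (h : ℕ → A) (hrel : ∀ i, i < k → h i ^ 2 + τ * h i = 0) :
    ∏ i ∈ Finset.range (k - 1), (h i + h (i + 1) + τ) =
      ∑ j ∈ Finset.range k, τ ^ (k - 1 - j) * (((Finset.range k).val.map h).esymm j) := by
  classical
  let e : ℕ → ℕ → A := fun n j => ((Finset.range n).val.map h).esymm j
  let E : ℕ → A := fun n => ∑ j ∈ Finset.range (n + 1), τ ^ (n - j) * e (n + 1) j
  have hz : ∀ n, e n 0 = 1 := fun n => by
    show ((Finset.range n).val.map h).esymm 0 = 1
    rw [Finset.esymm_map_val]; simp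
  have hfull : ∀ n, e n n = ∏ i ∈ Finset.range n, h i := fun n => by
    have := Finset.powersetCard_self (Finset.range n)
    rw [Finset.card_range] at this
    show ((Finset.range n).val.map h).esymm n = _
    rw [Finset.esymm_map_val, this, Finset.sum_singleton]
  have hrec : ∀ n j, e (n + 1) (j + 1) = e n (j + 1) + h n * e n j := fun n j => by
    simp only [e, Finset.range_val, Multiset.range_succ, Multiset.map_cons, Multiset.esymm, Multiset.powersetCard_cons, Multiset.map_add, Multiset.sum_add, Multiset.map_map, Function.comp_def, Multiset.prod_cons]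
    rw [Multiset.sum_map_mul_left]
  have hE : ∀ n, E (n + 1) = (τ + h (n + 1)) * E n + ∏ i ∈ Finset.range (n + 1), h i := fun n => by
    simp only [E]
    rw [Finset.sum_range_succ', Finset.sum_congr rfl fun j (_ : j ∈ Finset.range (n + 1)) => by rw [hrec]]
    simp only [hz, mul_one, Nat.sub_zero, Nat.add_sub_add_right, mul_add, Finset.sum_add_distrib]
    rw [Finset.sum_range_succ (fun j => τ ^ (n - j) * e (n + 1) (j + 1)), Nat.sub_self, pow_zero, one_mul, hfull]
    rw [add_mul, Finset.mul_sum, Finset.mul_sum, Finset.sum_range_succ' (fun j => τ * (τ ^ (n - j) * e (n + 1) j))]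
    simp only [hz, mul_one, Nat.sub_zero]
    have e1 : ∀ j ∈ Finset.range n, τ ^ (n - j) * e (n + 1) (j + 1) = τ * (τ ^ (n - (j + 1)) * e (n + 1) (j + 1)) := fun j hj => by
      rw [← mul_assoc, ← pow_succ', show n - (j + 1) + 1 = n - j by have := Finset.mem_range.1 hj; omega]
    have e2 : ∀ j ∈ Finset.range (n + 1), τ ^ (n - j) * (h (n + 1) * e (n + 1) j) = h (n + 1) * (τ ^ (n - j) * e (n + 1) j) := fun j _ => by ring
    rw [Finset.sum_congr rfl e1, Finset.sum_congr rfl e2]
    ring
  have hEh : ∀ n, n < k → h n * E n = ∏ i ∈ Finset.range (n + 1), h i := fun n hn => by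
    cases n with
    | zero => simp [E, hz]
    | succ n =>
      rw [hE, Finset.prod_range_succ _ (n + 1)]
      linear_combination E n * hrel (n + 1) hn
  have main : ∀ n, n < k → ∏ i ∈ Finset.range n, (h i + h (i + 1) + τ) = E n := fun n => by
    induction n with
    | zero => intro _; simp [E, hz]
    | succ n ih =>
      intro hn
      rw [Finset.prod_range_succ, ih (by omega), hE, ← hEh n (by omega)]
      ring
  rw [main (k - 1) (by omega)]
  simp only [E, e, show k - 1 + 1 = k by omega]

end Groth.Agent.S14097
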