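import Groth.Statements.S14100
import Mathlib

set_option autoImplicit false
universe w v u
open DCoh

namespace Groth.Agent.S14100

open CategoryTheory in
/-- maps from `≤ c` to `≥ c` are detected on `H^c` -/
theorem hom_eq_zero_of_homology {C : Type u} [Category.{v} C] [Abelian C] [HasDerivedCategory.{w} C] (c : ℤ)
    {W B : DerivedCategory C} [W.IsLE c] [B.IsGE c] (φ : W ⟶ B)
    (h : (DerivedCategory.homologyFunctor C c).map φ = 0) : φ = 0 := by
  obtain ⟨K, hK, ⟨e⟩⟩ := DerivedCategory.exists_iso_Q_obj_of_isLE W c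
  obtain ⟨L, hL, ⟨e'⟩⟩ := DerivedCategory.exists_iso_Q_obj_of_isGE B c
  obtain ⟨W₁, B₁, hW₁, hB₁, f, g, δ, hT⟩ := DerivedCategory.TStructure.t.exists_triangle W (c - 1) c (by omega)
  haveI : W₁.IsLE (c - 1) := ⟨hW₁⟩
  haveI : B₁.IsGE c := ⟨hB₁⟩
  obtain ⟨φ', hφ'⟩ : ∃ φ' : B₁ ⟶ B, φ = g ≫ φ' :=
    Pretriangulated.Triangle.yoneda_exact₂ _ hT φ (DerivedCategory.TStructure.t.zero (f ≫ φ) (c - 1) c (by omega))
  haveI : B₁.IsLE c := by
    rw [DerivedCategory.isLE_iff]
    intro i hi
    exact (DerivedCategory.HomologySequence.exact₃ _ hT i (i + 1) rfl).isZero_of_both_zeros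
      ((DerivedCategory.isZero_of_isLE W c i hi).eq_of_src _ _)
      ((DerivedCategory.isZero_of_isLE W₁ (c - 1) (i + 1) (by omega)).eq_of_tgt _ _)
  have hg : IsIso ((DerivedCategory.homologyFunctor C c).map g) := by
    have h1 := (DerivedCategory.HomologySequence.exact₂ _ hT c).mono_g
      ((DerivedCategory.isZero_of_isLE W₁ (c - 1) c (by omega)).eq_of_src _ _)
    have h2 := (DerivedCategory.HomologySequence.exact₃ _ hT c (c + 1) rfl).epi_f
      ((DerivedCategory.isZero_of_isLE W₁ (c - 1) (c + 1) (by omega)).eq_of_tgt _ _)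
    exact @isIso_of_mono_of_epi _ _ _ _ _ _ h1 h2
  obtain ⟨A₂, C₂, hA₂, hC₂, f₂, g₂, δ₂, hT₂⟩ := DerivedCategory.TStructure.t.exists_triangle B c (c + 1) (by omega)
  haveI : A₂.IsLE c := ⟨hA₂⟩
  haveI : C₂.IsGE (c + 1) := ⟨hC₂⟩
  obtain ⟨χ, hχ⟩ : ∃ χ : B₁ ⟶ A₂, φ' = χ ≫ f₂ :=
    Pretriangulated.Triangle.coyoneda_exact₂ _ hT₂ φ' (DerivedCategory.TStructure.t.zero (φ' ≫ g₂) c (c + 1) (by omega))
  haveI : A₂.IsGE c := by
    rw [DerivedCategory.isGE_iff]
    intro i hi
    exact (DerivedCategory.HomologySequence.exact₁ _ hT₂ (i - 1) i (by omega)).isZero_of_both_zeros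
      ((DerivedCategory.isZero_of_isGE C₂ (c + 1) (i - 1) (by omega)).eq_of_src _ _)
      ((DerivedCategory.isZero_of_isGE B c i hi).eq_of_tgt _ _)
  have hf₂ : Mono ((DerivedCategory.homologyFunctor C c).map f₂) :=
    (DerivedCategory.HomologySequence.exact₁ _ hT₂ (c - 1) c (by omega)).mono_g
      ((DerivedCategory.isZero_of_isGE C₂ (c + 1) (c - 1) (by omega)).eq_of_src _ _)
  obtain ⟨M, ⟨eM⟩⟩ := DerivedCategory.exists_iso_singleFunctor_obj_of_isGE_of_isLE B₁ c
  obtain ⟨N, ⟨eN⟩⟩ := DerivedCategory.exists_iso_singleFunctor_obj_of_isGE_of_isLE A₂ c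
  have hχ0 : (DerivedCategory.homologyFunctor C c).map χ = 0 := by
    have h' : (DerivedCategory.homologyFunctor C c).map g ≫ (DerivedCategory.homologyFunctor C c).map χ ≫
        (DerivedCategory.homologyFunctor C c).map f₂ = 0 := by
      rw [← Functor.map_comp, ← hχ, ← Functor.map_comp]
      exact (congrArg _ hφ'.symm).trans h
    rw [← cancel_epi ((DerivedCategory.homologyFunctor C c).map g), Limits.comp_zero,
      ← cancel_mono ((DerivedCategory.homologyFunctor C c).map f₂), Limits.zero_comp, Category.assoc, h']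
  obtain ⟨m, hm⟩ := (DerivedCategory.singleFunctor C c).map_surjective (eM.inv ≫ χ ≫ eN.hom)
  have hm0 : m = 0 := by
    have hn := (DerivedCategory.singleFunctorCompHomologyFunctorIso C c).hom.naturality m
    rw [Functor.comp_map, hm, Functor.map_comp, Functor.map_comp, hχ0] at hn
    simp only [Limits.zero_comp, Limits.comp_zero, Functor.id_map] at hn
    rw [← cancel_epi ((DerivedCategory.singleFunctorCompHomologyFunctorIso C c).hom.app M), ← hn, Limits.comp_zero]
  rw [hm0, Functor.map_zero] at hm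
  have : χ = 0 := by
    rw [← cancel_epi eM.inv, ← cancel_mono eN.hom, Category.assoc, ← hm]; simp
  rw [hφ', hχ, this, Limits.zero_comp, Limits.comp_zero]


open CategoryTheory in
/-- Let C be an abelian category, a an integer and n a natural number, and let K_0 → K_1 → ⋯ → K_{n+1}
be composable morphisms in the derived category of C such that each K_i has cohomology concentrated
in degrees a, …, a+n and each map K_i → K_{i+1} induces zero on every cohomology object. Then the
composite K_0 → K_{n+1} is zero. (The chain is given as a functor from the ordered set of natural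
numbers; only its values on 0, …, n+1 matter.) -/
theorem result
    (C : Type u) [Category.{v} C] [Abelian C] [HasDerivedCategory.{w} C]
    (a : ℤ) (n : ℕ) (K : ℕ ⥤ DerivedCategory C)
    (hGE : ∀ i : ℕ, i ≤ n + 1 → (K.obj i).IsGE a)
    (hLE : ∀ i : ℕ, i ≤ n + 1 → (K.obj i).IsLE (a + n))
    (hzero : ∀ i : ℕ, i ≤ n → ∀ q : ℤ,
      (DerivedCategory.homologyFunctor C q).map (K.map (homOfLE (Nat.le_succ i))) = 0) :
    K.map (homOfLE (Nat.zero_le (n + 1))) = 0 := by
  suffices key : ∀ (m : ℕ) (i : ℕ) (hi : i + m ≤ n + 1) (W : DerivedCategory C) (u : W ⟶ K.obj i),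
      W.IsLE (a + m - 1) → u ≫ K.map (homOfLE (Nat.le_add_right i m)) = 0 by
    have := key (n + 1) 0 (by omega) _ (𝟙 (K.obj 0)) (by
      have := hLE 0 (by omega)
      have e : a + ((n + 1 : ℕ) : ℤ) - 1 = a + n := by push_cast; ring
      rw [e]; exact this)
    rw [Category.id_comp] at this
    rw [show (homOfLE (Nat.zero_le (n + 1)) : 0 ⟶ n + 1) = homOfLE (Nat.le_add_right 0 (n + 1)) ≫ eqToHom (Nat.zero_add _) from
      Subsingleton.elim _ _, Functor.map_comp, this, Limits.zero_comp]
  intro m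
  induction m with
  | zero =>
    intro i hi W u hW
    haveI := hGE i (by omega)
    haveI : W.IsLE (a - 1) := by simpa using hW
    rw [DerivedCategory.TStructure.t.zero u (a - 1) a (by omega), Limits.zero_comp]
  | succ m ih =>
    intro i hi W u hW
    obtain ⟨A, B, hA, hB, f, g, h, hT⟩ := DerivedCategory.TStructure.t.exists_triangle (K.obj (i + 1)) (a + m - 1) (a + m) (by omega)
    haveI : B.IsGE (a + m) := ⟨hB⟩
    haveI : A.IsLE (a + m - 1) := ⟨hA⟩
    haveI : W.IsLE (a + m) := by
      have e : a + ((m + 1 : ℕ) : ℤ) - 1 = a + m := by push_cast; ring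
      rwa [e] at hW
    let v : W ⟶ K.obj (i + 1) := u ≫ K.map (homOfLE (Nat.le_succ i))
    have hv : (DerivedCategory.homologyFunctor C (a + m)).map (v ≫ g) = 0 := by
      simp [v, hzero i (by omega) (a + m)]
    have hvg : v ≫ g = 0 := hom_eq_zero_of_homology (a + m) _ hv
    obtain ⟨w, hw⟩ : ∃ w : W ⟶ A, v = w ≫ f := Pretriangulated.Triangle.coyoneda_exact₂ _ hT v hvg
    have := ih (i + 1) (by omega) A f inferInstance
    rw [show (homOfLE (Nat.le_add_right i (m + 1)) : i ⟶ i + (m + 1)) =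
      homOfLE (Nat.le_succ i) ≫ homOfLE (Nat.le_add_right (i + 1) m) ≫ eqToHom (by omega) from Subsingleton.elim _ _,
      Functor.map_comp, ← Category.assoc, show u ≫ K.map (homOfLE (Nat.le_succ i)) = v from rfl, hw, Category.assoc]
    show w ≫ f ≫ _ = 0
    rw [Functor.map_comp, reassoc_of% this, Limits.zero_comp, Limits.comp_zero]

end Groth.Agent.S14100
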