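import Groth.Statements.S14113
import Groth.Agent.Lib.H7AffineHom
import Mathlib

set_option autoImplicit false
universe u
open CategoryTheory CategoryTheory.Limits AlgebraicGeometry Opposite TopologicalSpace
attribute [local instance] HasDerivedCategory.standard
open DCoh

namespace Groth.Agent.S14113

attribute [local instance] HasDerivedCategory.standard


/-- Let X be an affine scheme and E a bounded above cochain complex of finite locally free O_X-modules
(a strictly pseudo-coherent complex). Then E is acyclic if and only if the identity of E is null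
homotopic. -/
theorem result {X : Scheme.{u}} [IsAffine X]
    (E : CochainComplex X.Modules ℤ) (b : ℤ) (hEb : ∀ i : ℤ, b < i → IsZero (E.X i))
    (hE : ∀ i : ℤ, FlatMod.IsFinLocFree (E.X i)) :
    E.Acyclic ↔ Nonempty (Homotopy (𝟙 E) 0) := by
  constructor
  · intro h
    have hz : Limits.IsZero (DerivedCategory.Q.obj E) := H7RpushCoprod.isZero_of_HD _ fun i =>
      ((HomologicalComplex.exactAt_iff_isZero_homology _ _).1 (h i)).of_iso ((DerivedCategory.homologyFunctorFactors _ i).app E)
    have hz' : Limits.IsZero (DerivedCategory.Qh.obj ((HomotopyCategory.quotient _ _).obj E)) :=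
      hz.of_iso ((DerivedCategory.quotientCompQhIso X.Modules).app E)
    refine ⟨HomotopyCategory.homotopyOfEq _ _ ((H7AffineHom.Qh_map_bijective E E b hEb hE
      (fun i => H7PerfHom.qcoh_of_finLocFree (hE i))).1 ?_)⟩
    exact hz'.eq_of_src _ _
  · rintro ⟨H⟩ i
    rw [HomologicalComplex.exactAt_iff_isZero_homology, Limits.IsZero.iff_id_eq_zero, ← HomologicalComplex.homologyMap_id,
      H.homologyMap_eq, HomologicalComplex.homologyMap_zero]

end Groth.Agent.S14113
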