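import Groth.Statements.S1412
import Mathlib
import Groth.Agent.Lib.H2WELoc

set_option autoImplicit false
universe u
open FlatMor

namespace Groth.Agent.S1412
open AlgebraicGeometry CategoryTheory Limits TensorProduct
set_option backward.isDefEq.respectTransparency.types false
set_option maxHeartbeats 800000
set_option synthInstance.maxHeartbeats 400000

open AlgebraicGeometry CategoryTheory Limits in
/-- A morphism of schemes f : X → Y is weakly étale (flat with flat diagonal) if and only if for every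
point x of X the local ring map O_{Y, f(x)} → O_{X, x} is weakly étale, that is, flat and with flat
multiplication map O_{X,x} ⊗_{O_{Y, f(x)}} O_{X,x} → O_{X,x}. -/
theorem result {X Y : Scheme.{u}} (f : X ⟶ Y) :
    WeaklyEtale f ↔ ∀ x : X, (f.stalkMap x).hom.Flat ∧
      (letI := (f.stalkMap x).hom.toAlgebra
       (Algebra.TensorProduct.lmul' (S := ↑(X.presheaf.stalk x)) (↑(Y.presheaf.stalk (f x)))).toRingHom.Flat) := by
  have hsq : ∀ (U : X.Opens) (V : Y.Opens) (hUV : U ≤ f ⁻¹ᵁ V) (x : X) (hx : x ∈ U),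
      (f.stalkMap x).hom.comp (Y.presheaf.germ V (f x) (hUV hx)).hom =
        (X.presheaf.germ U x hx).hom.comp (f.appLE V U hUV).hom := by
    intro U V hUV x hx
    rw [← CommRingCat.hom_comp, ← CommRingCat.hom_comp, Scheme.Hom.germ_stalkMap]
    simp [Scheme.Hom.appLE]
  constructor
  · intro _ x
    obtain ⟨_, ⟨V, hV, rfl⟩, hfV, -⟩ := Y.isBasis_affineOpens.exists_subset_of_mem_open (Set.mem_univ (f x)) isOpen_univ
    obtain ⟨_, ⟨U, hU, rfl⟩, hxU, hUV⟩ := X.isBasis_affineOpens.exists_subset_of_mem_open (show x ∈ f ⁻¹ᵁ V from hfV) (f ⁻¹ᵁ V).2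
    letI := (f.appLE V U hUV).hom.toAlgebra
    haveI := Groth.Agent.H2WERed.appLE_weaklyEtale f hV hU hUV
    letI := TopCat.Presheaf.algebra_section_stalk X.presheaf (⟨x, hxU⟩ : U)
    haveI := hU.isLocalization_stalk ⟨x, hxU⟩
    letI := TopCat.Presheaf.algebra_section_stalk Y.presheaf (⟨f x, hUV hxU⟩ : V)
    haveI := hV.isLocalization_stalk ⟨f x, hUV hxU⟩
    letI := (f.stalkMap x).hom.toAlgebra
    letI : Algebra Γ(Y, V) (X.presheaf.stalk x) := ((algebraMap Γ(X, U) (X.presheaf.stalk x)).comp (algebraMap Γ(Y, V) Γ(X, U))).toAlgebra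
    haveI : IsScalarTower Γ(Y, V) Γ(X, U) (X.presheaf.stalk x) := IsScalarTower.of_algebraMap_eq' rfl
    haveI : IsScalarTower Γ(Y, V) (Y.presheaf.stalk (f x)) (X.presheaf.stalk x) := IsScalarTower.of_algebraMap_eq' (hsq U V hUV x hxU).symm
    have := Groth.Agent.H2WELoc.we_loc_loc Γ(Y, V) Γ(X, U) (hV.primeIdealOf ⟨f x, hUV hxU⟩).asIdeal.primeCompl (Y.presheaf.stalk (f x)) (hU.primeIdealOf ⟨x, hxU⟩).asIdeal.primeCompl (X.presheaf.stalk x)
    exact ⟨RingHom.flat_algebraMap_iff.2 this.flat, this.flat_lmul'⟩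
  · intro h
    have key : ∀ x : X, ∃ U : X.Opens, x ∈ U ∧ WeaklyEtale (U.ι ≫ f) := by
      intro x
      obtain ⟨_, ⟨V, hV, rfl⟩, hfV, -⟩ := Y.isBasis_affineOpens.exists_subset_of_mem_open (Set.mem_univ (f x)) isOpen_univ
      obtain ⟨_, ⟨U, hU, rfl⟩, hxU, hUV⟩ := X.isBasis_affineOpens.exists_subset_of_mem_open (show x ∈ f ⁻¹ᵁ V from hfV) (f ⁻¹ᵁ V).2
      refine ⟨U, hxU, ?_⟩
      algebraize [(f.appLE V U hUV).hom]
      haveI : Algebra.WeaklyEtale Γ(Y, V) Γ(X, U) := by
        have hpt : ∀ P : Ideal Γ(X, U), P.IsMaximal → ∃ z : U, (hU.primeIdealOf z).asIdeal = P := by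
          intro P hP
          exact ⟨⟨hU.fromSpec ⟨P, hP.isPrime⟩, by rw [← SetLike.mem_coe, ← hU.range_fromSpec]; exact ⟨_, rfl⟩⟩, congrArg PrimeSpectrum.asIdeal (hU.fromSpec.isOpenEmbedding.injective (hU.fromSpec_primeIdealOf _))⟩
        choose z hz using hpt
        letI a1 : ∀ (P : Ideal Γ(X, U)) [hP : P.IsMaximal], Algebra Γ(X, U) (X.presheaf.stalk (z P hP : X)) :=
          fun P hP => TopCat.Presheaf.algebra_section_stalk X.presheaf (z P hP)
        letI a2 : ∀ (P : Ideal Γ(X, U)) [hP : P.IsMaximal], Algebra Γ(Y, V) (X.presheaf.stalk (z P hP : X)) :=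
          fun P hP => ((algebraMap Γ(X, U) (X.presheaf.stalk (z P hP : X))).comp (algebraMap Γ(Y, V) Γ(X, U))).toAlgebra
        haveI : ∀ (P : Ideal Γ(X, U)) [hP : P.IsMaximal], IsScalarTower Γ(Y, V) Γ(X, U) (X.presheaf.stalk (z P hP : X)) :=
          fun P hP => IsScalarTower.of_algebraMap_eq' rfl
        haveI : ∀ (P : Ideal Γ(X, U)) [hP : P.IsMaximal], IsLocalization.AtPrime (X.presheaf.stalk (z P hP : X)) P := fun P hP => by
          have h0 := hU.isLocalization_stalk (z P hP)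
          simp only [hz P hP] at h0
          exact h0
        refine Groth.Agent.H2WELoc.we_of_localizations Γ(Y, V) Γ(X, U) (fun P => X.presheaf.stalk (z P ‹_› : X)) fun P hP => ?_
        let y : X := (z P hP).1
        have hy : y ∈ U := (z P hP).2
        letI := TopCat.Presheaf.algebra_section_stalk Y.presheaf (⟨f y, hUV hy⟩ : V)
        haveI := hV.isLocalization_stalk ⟨f y, hUV hy⟩
        haveI := Groth.Agent.H2WELoc.we_loc Γ(Y, V) (hV.primeIdealOf ⟨f y, hUV hy⟩).asIdeal.primeCompl (Y.presheaf.stalk (f y))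
        letI := (f.stalkMap y).hom.toAlgebra
        haveI : Module.Flat (Y.presheaf.stalk (f y)) (X.presheaf.stalk y) := RingHom.flat_algebraMap_iff.1 (h y).1
        haveI : Algebra.WeaklyEtale (Y.presheaf.stalk (f y)) (X.presheaf.stalk y) := { flat_lmul' := (h y).2 }
        haveI : IsScalarTower Γ(Y, V) (Y.presheaf.stalk (f y)) (X.presheaf.stalk y) := IsScalarTower.of_algebraMap_eq' (hsq U V hUV y hy).symm
        exact Algebra.WeaklyEtale.trans Γ(Y, V) (Y.presheaf.stalk (f y)) (X.presheaf.stalk y)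
      haveI : WeaklyEtale (Spec.map (f.appLE V U hUV)) := Groth.Agent.H2WERed.weaklyEtale_SpecMap.2 ‹_›
      have : Scheme.Opens.ι U ≫ f = hU.isoSpec.hom ≫ Spec.map (f.appLE V U hUV) ≫ hV.fromSpec := by
        rw [IsAffineOpen.SpecMap_appLE_fromSpec f hV hU hUV, ← Category.assoc, IsAffineOpen.isoSpec_hom_fromSpec]
      rw [this]; infer_instance
    choose U hxU hU using key
    exact IsZariskiLocalAtSource.of_iSup_eq_top (P := @WeaklyEtale) U (eq_top_iff.2 fun x _ => TopologicalSpace.Opens.mem_iSup.2 ⟨x, hxU x⟩) hU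

end Groth.Agent.S1412
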