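import Groth.Statements.S14128
import Groth.Agent.Lib.H2LDual
import Mathlib

set_option autoImplicit false
universe u
open CategoryTheory CategoryTheory.Limits
open LocAlg

namespace Groth.Agent.H2LCShiftH

open Groth.Agent.H2LC in
theorem congrH {R : Type u} [CommRing R] {I : Ideal R} {A B : Type u} [AddCommGroup A] [Module R A]
    [AddCommGroup B] [Module R B] (e : A ≃ₗ[R] B) (i : ℕ) :
    Subsingleton (LocCoh.H I i A) ↔ Subsingleton (LocCoh.H I i B) :=
  ((localCohomology I i).mapIso e.toModuleIso).toLinearEquiv.toEquiv.subsingleton_congr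

end Groth.Agent.H2LCShiftH

namespace Groth.Agent.S14128

/-- Let R be a regular local ring of Krull dimension g and M = (M^0 → M^1 → ⋯ → M^g) a perfect complex
over R, here a cochain complex of finitely generated free R-modules indexed by ℕ with M^i = 0 for i
> g, such that every cohomology module H^i(M) has finite length. Then H^i(M) = 0 for all i < g, so
that M has cohomology at most in degree g. -/
theorem result (R : Type u) [CommRing R]
    [IsRegularLocalRing R] (g : ℕ) (hg : ringKrullDim R = g) (M : CochainComplex (ModuleCat.{u} R) ℕ)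
    (hbd : ∀ i, g < i → IsZero (M.X i)) (hfree : ∀ i, Module.Free R (M.X i) ∧ Module.Finite R (M.X i))
    (hfl : ∀ i, IsFiniteLength R (M.homology i)) (i : ℕ) (hi : i < g) :
    IsZero (M.homology i) := by
  classical
  let 𝔪 := IsLocalRing.maximalIdeal R
  let B : (i : ℕ) → Submodule R (M.X i) := fun i => LinearMap.range (M.d ((ComplexShape.up ℕ).prev i) i).hom
  let Z : (i : ℕ) → Submodule R (M.X i) := fun i => LinearMap.ker (M.d i (i + 1)).hom
  have hfreeH : ∀ i j, j < g → Subsingleton (LocCoh.H 𝔪 j (M.X i)) := fun i j hj => by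
    haveI := (hfree i).1
    exact Groth.Agent.H2LDual.subsingleton_free hg (M.X i) hj
  have hBZ : ∀ i, B i ≤ Z i := fun i => by
    rintro _ ⟨x, rfl⟩
    exact LinearMap.congr_fun (congrArg ModuleCat.Hom.hom (M.d_comp_d ((ComplexShape.up ℕ).prev i) i (i + 1))) x
  -- homology as the quotient cycles / boundaries
  have hQ : ∀ i, ∃ e : M.homology i ≃ₗ[R] (↥(Z i) ⧸ (B i).comap (Z i).subtype), True := fun i => by
    have e0 : M.homology i ≅ (M.sc' ((ComplexShape.up ℕ).prev i) i (i + 1)).homology :=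
      ShortComplex.homologyMapIso (M.isoSc' ((ComplexShape.up ℕ).prev i) i (i + 1) rfl (CochainComplex.next ℕ i))
    refine ⟨(e0 ≪≫ (M.sc' ((ComplexShape.up ℕ).prev i) i (i + 1)).moduleCatHomologyIso).toLinearEquiv.trans
      (Submodule.quotEquivOfEq _ _ ?_), trivial⟩
    ext z
    constructor
    · rintro ⟨x, rfl⟩; exact ⟨x, rfl⟩
    · rintro ⟨x, hx⟩; exact ⟨x, Subtype.ext hx⟩
  have key : ∀ i, i < g → (∀ j, j + i < g + 1 → Subsingleton (LocCoh.H 𝔪 j (B i))) → B i = Z i := by
    intro i hi hB
    obtain ⟨e, -⟩ := hQ i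
    let B' := (B i).comap (Z i).subtype
    haveI := hfree i
    haveI : Module.Finite R (M.X i) := (hfree i).2
    haveI := (isFiniteLength_iff_isNoetherian_isArtinian.mp (hfl i)).2
    have hart : IsArtinian R (↥(Z i) ⧸ B') := isArtinian_of_linearEquiv e
    haveI := hart
    obtain ⟨n, hn⟩ := IsArtinian.monotone_stabilizes (R := R) (M := ↥(Z i) ⧸ B')
      ⟨fun n => OrderDual.toDual (𝔪 ^ n • (⊤ : Submodule R (↥(Z i) ⧸ B'))), fun a b hab =>
        Submodule.smul_mono_left (Ideal.pow_le_pow_right hab)⟩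
    have hn' : 𝔪 ^ n • (⊤ : Submodule R (↥(Z i) ⧸ B')) = ⊥ := by
      refine Submodule.eq_bot_of_le_smul_of_le_jacobson_bot 𝔪 _ (IsNoetherian.noetherian _) ?_ (IsLocalRing.maximalIdeal_le_jacobson _)
      have : 𝔪 ^ n • (⊤ : Submodule R (↥(Z i) ⧸ B')) = 𝔪 ^ (n + 1) • ⊤ :=
        congrArg OrderDual.ofDual (hn (n + 1) (Nat.le_succ n))
      rw [← Submodule.mul_smul, ← pow_succ']
      exact le_of_eq this
    have h1 : Subsingleton (LocCoh.H 𝔪 1 ↥B') :=
      let eB : ↥B' ≃ₗ[R] ↥(B i) := Submodule.comapSubtypeEquivOfLe (hBZ i)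
      (Groth.Agent.H2LCShiftH.congrH eB 1).mpr (hB 1 (by omega))
    have h0 : Subsingleton (LocCoh.H 𝔪 0 ↥(Z i)) := by
      rw [Groth.Agent.H2LC.subsingleton_H0_iff, eq_bot_iff]
      rintro z ⟨k, hk⟩
      have h := (Groth.Agent.H2LC.subsingleton_H0_iff (I := 𝔪) (M.X i)).mp (hfreeH i 0 (by omega))
      have hz : (z : M.X i) ∈ DRing.torsionSub 𝔪 (M.X i) := ⟨k, fun a ha => congrArg Subtype.val (hk a ha)⟩
      rw [h] at hz
      exact (Submodule.mem_bot R).mpr (Subtype.ext ((Submodule.mem_bot R).mp hz))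
    have hq := Groth.Agent.H2LC.subsingleton_right B'.injective_subtype (Submodule.mkQ_surjective B')
      (LinearMap.exact_subtype_mkQ B') 0 h0 h1
    rw [Groth.Agent.H2LC.subsingleton_H0_iff, eq_bot_iff] at hq
    refine le_antisymm (hBZ i) fun z hz => ?_
    have : B'.mkQ ⟨z, hz⟩ = 0 := (Submodule.mem_bot R).mp (hq ⟨n, fun a ha =>
      (Submodule.mem_bot R).mp (hn' ▸ Submodule.smul_mem_smul ha Submodule.mem_top)⟩)
    exact (Submodule.Quotient.mk_eq_zero B').mp this
  have hBall : ∀ i, i ≤ g → ∀ j, j + i < g + 1 → Subsingleton (LocCoh.H 𝔪 j (B i)) := by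
    intro i
    induction i with
    | zero =>
      intro _ j _
      have : B 0 = ⊥ := by
        show LinearMap.range (M.d ((ComplexShape.up ℕ).prev 0) 0).hom = ⊥
        rw [M.shape _ _ (by simp), ModuleCat.hom_zero, LinearMap.range_zero]
      haveI : Subsingleton (B 0) := Submodule.subsingleton_iff_eq_bot.mpr this
      exact Groth.Agent.H2LC.subsingleton_of_subsingleton j
    | succ i ih =>
      intro hi j hj
      have hex := key i (by omega) (ih (by omega))
      let f := (M.d i (i + 1)).hom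
      have hBs : LinearMap.range f = B (i + 1) := by
        show _ = LinearMap.range (M.d ((ComplexShape.up ℕ).prev (i + 1)) (i + 1)).hom
        rw [CochainComplex.prev_nat_succ]
      let e : (M.X i ⧸ Z i) ≃ₗ[R] B (i + 1) := f.quotKerEquivRange.trans (LinearEquiv.ofEq _ _ hBs)
      refine (Groth.Agent.H2LCShiftH.congrH e j).mp ?_
      refine Groth.Agent.H2LC.subsingleton_right (Z i).injective_subtype (Submodule.mkQ_surjective _)
        (LinearMap.exact_subtype_mkQ _) j (hfreeH i j (by omega)) ?_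
      rw [← hex]
      exact ih (by omega) (j + 1) (by omega)
  obtain ⟨e, -⟩ := hQ i
  haveI : Subsingleton (↥(Z i) ⧸ (B i).comap (Z i).subtype) := by
    rw [Submodule.Quotient.subsingleton_iff, Submodule.comap_subtype_eq_top]
    exact (key i hi (hBall i hi.le)).ge
  haveI := e.subsingleton
  exact ModuleCat.isZero_of_subsingleton _

end Groth.Agent.S14128
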