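import Groth.Statements.S1413
import Groth.Agent.Lib.H8GrpFlat
import Mathlib

set_option autoImplicit false
universe u
open FlatMor

namespace Groth.Agent.S1413
open CategoryTheory CategoryTheory.Limits AlgebraicGeometry

open AlgebraicGeometry CategoryTheory Limits in
/-- Let X → Y → Z be morphisms with X → Y flat and surjective and with the diagonal of X over Z flat.
Then the diagonal of Y over Z is flat. -/
theorem result {X Y Z : Scheme.{u}} (f : X ⟶ Y) (g : Y ⟶ Z) [Flat f] [Surjective f] [Flat (pullback.diagonal (f ≫ g))] :
    Flat (pullback.diagonal g) := by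
  have e : f ≫ pullback.diagonal g = pullback.diagonal (f ≫ g) ≫ pullback.map _ _ _ _ f f (𝟙 _) (by simp) (by simp) := by
    apply pullback.hom_ext <;> simp only [Category.assoc, pullback.diagonal_fst, pullback.diagonal_snd, pullback.lift_fst, pullback.lift_snd, pullback.lift_fst_assoc, pullback.lift_snd_assoc, pullback.diagonal_fst_assoc, pullback.diagonal_snd_assoc, Category.comp_id]
  have hfl : Flat f := inferInstance
  have : Flat (pullback.map (f ≫ g) (f ≫ g) g g f f (𝟙 _) (by simp) (by simp)) :=
    MorphismProperty.pullbackMap (P := @Flat) hfl hfl rfl rfl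
  have : Flat (f ≫ pullback.diagonal g) := by rw [e]; infer_instance
  exact Groth.Agent.H8GrpFlat.flat_of_comp f (pullback.diagonal g)

end Groth.Agent.S1413
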