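import Groth.Statements.S1414
import Mathlib

set_option autoImplicit false
universe u
open FlatMor

namespace Groth.Agent.S1414
open AlgebraicGeometry CategoryTheory Limits TensorProduct
set_option backward.isDefEq.respectTransparency.types false
set_option linter.style.haveILetI false

open AlgebraicGeometry CategoryTheory Limits in
/-- Let f : X → Y and g : Y → Z with f ≫ g smooth and g étale. Then f is smooth. -/
theorem result {X Y Z : Scheme.{u}} (f : X ⟶ Y) (g : Y ⟶ Z) [Smooth (f ≫ g)] [Etale g] : Smooth f := by
  haveI : MorphismProperty.IsMultiplicative @Smooth.{u} := { id_mem := fun _ => inferInstance }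
  haveI : MorphismProperty.HasOfPostcompProperty @Smooth.{u} @Etale.{u} := by
    rw [MorphismProperty.hasOfPostcompProperty_iff_le_diagonal]
    intro A B q hq
    haveI : IsOpenImmersion (pullback.diagonal q) := inferInstance
    exact inferInstanceAs <| Smooth (pullback.diagonal q)
  exact MorphismProperty.of_postcomp @Smooth (W' := @Etale) f g ‹_› ‹_›

end Groth.Agent.S1414
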