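import Groth.Statements.S1415
import Mathlib
import Groth.Prelude.Def_MoreMor
import Groth.Agent.Lib.H2GeomFibre

set_option autoImplicit false
universe u
open FlatMor

namespace Groth.Agent.S1415
open CategoryTheory Limits AlgebraicGeometry

open AlgebraicGeometry CategoryTheory Limits in
/-- Let f : X → Y be locally quasi-finite. Then (1) for every y the number of irreducible components and
the number of connected components of the geometric fibre over y agree, and (2) if X is
quasi-compact these numbers are bounded by some natural number. -/
theorem result {X Y : Scheme.{u}} (f : X ⟶ Y) [LocallyQuasiFinite f] [LocallyOfFiniteType f] :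
    (∀ y : Y, MoreMor.nGeomIrredComp f y = MoreMor.nGeomConnComp f y) ∧
      (CompactSpace ↑X → ∃ d : ℕ, ∀ y : Y, MoreMor.nGeomConnComp f y ≤ d) := by
  refine ⟨fun y => Groth.Agent.H2Weight.nGeom_eq f y, fun h => ?_⟩
  haveI := h
  exact Groth.Agent.H2Weight.nGeomConnComp_le f

end Groth.Agent.S1415
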