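import Mathlib
import Groth.Statements.S14178


set_option autoImplicit false
universe u v w
open scoped nonZeroDivisors
open EtAlg

namespace Groth.Agent.S14178

open FractionalIdeal in
theorem le_one_of_pow_le_one {A : Type*} {K : Type*} [CommRing A] [IsDomain A] [IsIntegrallyClosed A] [Field K]
    [Algebra A K] [IsFractionRing A K] (V : FractionalIdeal A⁰ K) {m : ℕ} (hm : 0 < m) (h : V ^ m = 1) : V ≤ 1 := by
  intro x hx
  have h1 : x ^ m ∈ V ^ m := by
    clear h hm
    induction m with
    | zero => rw [pow_zero, pow_zero]; exact (mem_one_iff _).mpr ⟨1, map_one _⟩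
    | succ m ih => rw [pow_succ, pow_succ]; exact mul_mem_mul ih hx
  rw [h, mem_one_iff] at h1
  obtain ⟨a, ha⟩ := h1
  exact (mem_one_iff _).mpr (IsIntegrallyClosed.isIntegral_iff.mp (.of_pow hm (ha ▸ isIntegral_algebraMap)))

theorem eq_one_of_pow_eq_one {A : Type*} {K : Type*} [CommRing A] [IsDomain A] [IsIntegrallyClosed A] [Field K]
    [Algebra A K] [IsFractionRing A K] (V : (FractionalIdeal A⁰ K)ˣ) {m : ℕ} (hm : 0 < m) (h : V ^ m = 1) : V = 1 := by
  have h1 : (V : FractionalIdeal A⁰ K) ^ m = 1 := by rw [← Units.val_pow_eq_pow_val, h, Units.val_one]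
  have h2 : ((V⁻¹ : (FractionalIdeal A⁰ K)ˣ) : FractionalIdeal A⁰ K) ^ m = 1 := by
    rw [← Units.val_pow_eq_pow_val, inv_pow, h, inv_one, Units.val_one]
  refine Units.ext (le_antisymm (le_one_of_pow_le_one _ hm h1) ?_)
  calc (1 : FractionalIdeal A⁰ K) = (V : FractionalIdeal A⁰ K) * ((V⁻¹ : (FractionalIdeal A⁰ K)ˣ) : FractionalIdeal A⁰ K) :=
        (Units.mul_inv V).symm
    _ ≤ (V : FractionalIdeal A⁰ K) * 1 := mul_le_mul_right (le_one_of_pow_le_one _ hm h2) _
    _ = _ := mul_one _

/-- Let A be a Dedekind domain with fraction field K, let n be a natural number invertible in A such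
that K contains a primitive n-th root of unity, let f be a nonzero element of K and I an invertible
fractional ideal of A with (f) = I^n whose class in the ideal class group of A has order exactly n
(the divisor of f is n times a divisor whose class has order n), and let L = K(α) be a field
extension of K generated by a single element α with α^n = f. Then L is Galois over K of degree n
with cyclic Galois group. (The published statement is for an integral smooth curve over a perfect
field containing a primitive n-th root of unity, with the Picard group of the curve in place of the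
class group; this row states it for any Dedekind domain.) -/
theorem result
    {A : Type u} {K : Type v} {L : Type w} [CommRing A] [IsDedekindDomain A]
    [Field K] [Algebra A K] [IsFractionRing A K]
    [Field L] [Algebra K L]
    (n : ℕ) (hn : IsUnit (n : A)) (ζ : K) (hζ : IsPrimitiveRoot ζ n) (f : K) (hf : f ≠ 0)
    (I : (FractionalIdeal A⁰ K)ˣ) (hI : FractionalIdeal.spanSingleton A⁰ f = (I : FractionalIdeal A⁰ K) ^ n)
    (hord : orderOf (ClassGroup.mk K I) = n)
    (α : L) (hα : α ^ n = algebraMap K L f) (hgen : IntermediateField.adjoin K {α} = ⊤) :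
    IsGalois K L ∧ IsCyclic (L ≃ₐ[K] L) ∧ Module.finrank K L = n := by
  classical
  have hn0 : 0 < n := by
    rcases Nat.eq_zero_or_pos n with rfl | h
    · simp at hn
    · exact h
  haveI : NeZero n := ⟨hn0.ne'⟩
  set am := algebraMap K L
  have hαint : IsIntegral K α := .of_pow hn0 (hα ▸ isIntegral_algebraMap)
  haveI : FiniteDimensional K L := by
    haveI := IntermediateField.adjoin.finiteDimensional hαint
    exact Module.Finite.equiv ((IntermediateField.equivOfEq hgen).trans IntermediateField.topEquiv).toLinearEquiv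
  have hd : Module.finrank K L = (minpoly K α).natDegree := by
    rw [← IntermediateField.adjoin.finrank hαint, hgen, IntermediateField.finrank_top']
  have hα0 : α ≠ 0 := fun h => by
    rw [h, zero_pow hn0.ne', eq_comm, map_eq_zero_iff am am.injective] at hα
    exact hf hα
  set g := (minpoly K α).map am
  set d := (minpoly K α).natDegree
  have hζL : IsPrimitiveRoot (am ζ) n := hζ.map_of_injective am.injective
  have hdvd : g ∣ Polynomial.X ^ n - Polynomial.C (am f) := by
    have h1 : minpoly K α ∣ Polynomial.X ^ n - Polynomial.C f := minpoly.dvd K α (by simp [hα, am])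
    simpa [g] using Polynomial.map_dvd am h1
  have hgs : g.Splits := (X_pow_sub_C_splits_of_isPrimitiveRoot hζL hα).of_dvd (Polynomial.monic_X_pow_sub_C _ hn0.ne').ne_zero hdvd
  have hgm : g.Monic := (minpoly.monic hαint).map am
  have hgd : g.natDegree = d := Polynomial.natDegree_map _
  have hroot : ∀ r ∈ g.roots, ∃ k : K, r = am k * α := by
    intro r hr
    have h1 : r ^ n = am f := by
      have h2 := (Polynomial.mem_roots hgm.ne_zero).mp hr
      have h3 := Polynomial.IsRoot.dvd h2 hdvd
      simpa [sub_eq_zero] using h3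
    obtain ⟨i, -, hi⟩ := hζL.eq_pow_of_pow_eq_one (ξ := r / α) (by rw [div_pow, h1, hα, div_self (by simpa using hf)])
    exact ⟨ζ ^ i, by rw [map_pow, hi, div_mul_cancel₀ _ hα0]⟩
  have hprod : ∀ s : Multiset L, (∀ r ∈ s, ∃ k : K, r = am k * α) → ∃ k : K, s.prod = am k * α ^ s.card := by
    intro s
    induction s using Multiset.induction with
    | empty => intro _; exact ⟨1, by simp⟩
    | cons r s ih =>
      intro h
      obtain ⟨k, hk⟩ := ih fun x hx => h x (Multiset.mem_cons_of_mem hx)
      obtain ⟨l, hl⟩ := h r (Multiset.mem_cons_self r s)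
      exact ⟨l * k, by rw [Multiset.prod_cons, hl, hk, map_mul, Multiset.card_cons]; ring⟩
  obtain ⟨k, hk⟩ := hprod g.roots hroot
  rw [← hgs.natDegree_eq_card_roots, hgd] at hk
  have hc : am ((minpoly K α).coeff 0) = (-1) ^ d * (am k * α ^ d) := by
    rw [← Polynomial.coeff_map, show (minpoly K α).map am = g from rfl, hgs.coeff_zero_eq_prod_roots_of_monic hgm, hgd, hk]
  have h0 : (minpoly K α).coeff 0 ≠ 0 := minpoly.coeff_zero_ne_zero hαint hα0
  have hk0 : k ≠ 0 := by
    rintro rfl
    rw [map_zero, zero_mul, mul_zero, map_eq_zero_iff am am.injective] at hc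
    exact h0 hc
  obtain ⟨c, hc'⟩ : ∃ c : K, α ^ d = am c :=
    ⟨(-1) ^ d * (minpoly K α).coeff 0 / k, by
      rw [map_div₀, map_mul, hc, map_pow, map_neg, map_one, ← mul_assoc, ← mul_pow, neg_one_mul, neg_neg, one_pow, one_mul,
        mul_div_cancel_left₀ _ (by simpa using hk0)]⟩
  set e := d.gcd n
  obtain ⟨c', hce⟩ : ∃ c' : K, α ^ e = am c' := by
    refine ⟨c ^ (d.gcdA n) * f ^ (d.gcdB n), ?_⟩
    rw [← zpow_natCast α e, Nat.gcd_eq_gcd_ab, zpow_add₀ hα0, zpow_mul, zpow_mul, zpow_natCast, zpow_natCast, hc', hα,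
      map_mul, map_zpow₀, map_zpow₀]
  obtain ⟨m, hm⟩ : e ∣ n := Nat.gcd_dvd_right d n
  have hm0 : 0 < m := by
    rcases Nat.eq_zero_or_pos m with rfl | h
    · simp at hm; omega
    · exact h
  have hc'0 : c' ≠ 0 := fun h => by rw [h, map_zero] at hce; exact hα0 (pow_eq_zero_iff'.mp hce).1
  have hcm : c' ^ m = f := am.injective (by rw [map_pow, ← hce, ← pow_mul, ← hm, hα])
  let U := toPrincipalIdeal A K (Units.mk0 c' hc'0)
  have hU : U ^ m = (I ^ e) ^ m := by
    rw [← pow_mul, ← hm, ← map_pow]
    refine Units.ext ?_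
    rw [coe_toPrincipalIdeal, Units.val_pow_eq_pow_val, Units.val_pow_eq_pow_val, Units.val_mk0, hcm, hI]
  have hIe : U⁻¹ * I ^ e = 1 := eq_one_of_pow_eq_one _ hm0 (by rw [mul_pow, inv_pow, hU, inv_mul_cancel])
  have hclass : ClassGroup.mk K I ^ e = 1 := by
    rw [← map_pow, ← inv_mul_eq_one.mp hIe, ClassGroup.mk_eq_one_iff]
    refine ⟨⟨c', ?_⟩⟩
    rw [coe_toPrincipalIdeal, FractionalIdeal.coe_spanSingleton, Units.val_mk0]
  have hne : n ∣ e := hord ▸ orderOf_dvd_of_pow_eq_one hclass
  have hdn : d = n := by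
    have hd0 : 0 < d := minpoly.natDegree_pos hαint
    refine le_antisymm ?_ (Nat.le_of_dvd hd0 (hne.trans (Nat.gcd_dvd_left d n)))
    have := Polynomial.natDegree_le_of_dvd hdvd (Polynomial.monic_X_pow_sub_C _ hn0.ne').ne_zero
    rwa [hgd, Polynomial.natDegree_X_pow_sub_C] at this
  have hfin : Module.finrank K L = n := hd.trans hdn
  have hK : (primitiveRoots (Module.finrank K L) K).Nonempty :=
    ⟨ζ, (mem_primitiveRoots (by rw [hfin]; exact hn0)).mpr (by rw [hfin]; exact hζ)⟩
  have h3 : ∃ a : L, a ^ (Module.finrank K L) ∈ Set.range (algebraMap K L) ∧ IntermediateField.adjoin K {a} = ⊤ :=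
    ⟨α, ⟨f, by rw [hfin, hα]⟩, hgen⟩
  have h4 : IsGalois K L ∧ IsCyclic (L ≃ₐ[K] L) := ((isCyclic_tfae K L hK).out 0 2 rfl rfl).mpr h3
  obtain ⟨hgal, hcyc⟩ := h4
  exact ⟨hgal, hcyc, hfin⟩

end Groth.Agent.S14178
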