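import Groth.Statements.S14193
import Mathlib
import Groth.Agent.Lib.H6.LaurentExp

set_option autoImplicit false
set_option backward.isDefEq.respectTransparency.types false
set_option maxHeartbeats 1000000
set_option linter.all false
open PowerSeries
open StackCount

namespace Groth.Agent.S14193
open Groth.Agent

/-- Let q > 1 be an integer and let F be an element of the subring of the rational function field ℚ(X)
generated by X, X^(-1) and the fractions 1/(X^n - 1) for n ≥ 1 (so F(q^v) is defined for every v ≥
1). If the formal power series exp(Σ_{v ≥ 1} F(q^v) t^v / v) in ℚ⟦t⟧ is the expansion of a rational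
function, i.e. its product with some non-zero polynomial in t is a polynomial, then F is a Laurent
polynomial with integer coefficients: F · X^a is the image of a polynomial with integer coefficients
for some a. (The published statement also assumes that the series defines a meromorphic function on
the complex plane; that is implied by rationality and is omitted here.) -/
theorem result (q : ℤ) (hq : 1 < q) (F : RatFunc ℚ)
    (hF : F ∈ Subring.closure
      (({RatFunc.X, (RatFunc.X : RatFunc ℚ)⁻¹} : Set (RatFunc ℚ)) ∪
        Set.range fun n : ℕ => ((RatFunc.X : RatFunc ℚ) ^ (n + 1) - 1)⁻¹))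
    (hrat : ∃ P Q : Polynomial ℚ, Q ≠ 0 ∧
      (PowerSeries.exp ℚ).subst
          (PowerSeries.mk fun v : ℕ => if v = 0 then (0 : ℚ)
            else F.eval (RingHom.id ℚ) ((q : ℚ) ^ v) / (v : ℚ))
        * (Q : PowerSeries ℚ) = (P : PowerSeries ℚ)) :
    ∃ (P : Polynomial ℤ) (a : ℕ),
      F * RatFunc.X ^ a = algebraMap (Polynomial ℚ) (RatFunc ℚ) (P.map (Int.castRingHom ℚ)) := by
    classical
    obtain ⟨P, Q, hQ, hPQ⟩ := hrat
    set f : PowerSeries ℚ := PowerSeries.mk fun v : ℕ => if v = 0 then (0 : ℚ)
      else F.eval (RingHom.id ℚ) ((q : ℚ) ^ v) / (v : ℚ) with hf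
    have hf0 : PowerSeries.constantCoeff f = 0 := by simp [hf]
    have hsub : PowerSeries.HasSubst f := PowerSeries.HasSubst.of_constantCoeff_zero' hf0
    set E : PowerSeries ℚ := (PowerSeries.exp ℚ).subst f with hE
    have hE' : d⁄dX ℚ E = E * d⁄dX ℚ f := by
      rw [hE, PowerSeries.derivative_subst hsub, PowerSeries.derivative_exp]
    have hEne : E ≠ 0 := by
      intro h
      have h1 : PowerSeries.constantCoeff E = 1 := by
        rw [hE]
        rw [← PowerSeries.coeff_zero_eq_constantCoeff_apply, PowerSeries.coeff_subst' hsub]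
        rw [finsum_eq_single _ 0]
        · simp
        · intro n hn
          simp [map_pow, hf0, hn]
      rw [h, map_zero] at h1
      exact zero_ne_one h1
    have hP : P ≠ 0 := by
      intro h
      rw [h, Polynomial.coe_zero] at hPQ
      exact mul_ne_zero hEne (fun h' => hQ (Polynomial.coe_eq_zero_iff.1 h')) hPQ
    set W := Polynomial.derivative P * Q - P * Polynomial.derivative Q with hW
    have hlog : d⁄dX ℚ f * ((P * Q : Polynomial ℚ) : PowerSeries ℚ) = (W : PowerSeries ℚ) := by
      have h1 := congrArg (d⁄dX ℚ) hPQ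
      rw [Derivation.leibniz, hE', PowerSeries.derivative_coe, PowerSeries.derivative_coe] at h1
      simp only [smul_eq_mul] at h1
      rw [hW, Polynomial.coe_sub, Polynomial.coe_mul, Polynomial.coe_mul, Polynomial.coe_mul, ← h1, ← hPQ]
      ring
    set G : ℕ → ℚ := fun v => F.eval (RingHom.id ℚ) ((q : ℚ) ^ (v + 1)) with hG
    have hfG : d⁄dX ℚ f = PowerSeries.mk G := by
      ext n
      rw [PowerSeries.coeff_derivative, hf, PowerSeries.coeff_mk, PowerSeries.coeff_mk, if_neg (Nat.succ_ne_zero n), hG]
      push_cast
      field_simp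
    rw [hfG] at hlog
    set D := P * Q with hD
    have hDne : D ≠ 0 := mul_ne_zero hP hQ
    have hq' : (1 : ℚ) < (q : ℚ) := by exact_mod_cast hq
    have hGeval : ∀ x : ℚ, F.eval (RingHom.id ℚ) x = F.num.eval x / F.denom.eval x := fun x => rfl
    have hdvd := H6LE.denom_dvd F.num F.denom D (RatFunc.isCoprime_num_denom F) hDne (q : ℚ) hq'
      (W.natDegree + D.natDegree + 1) (fun n hn => by
        have h := congrArg (PowerSeries.coeff n) hlog
        rw [mul_comm, PowerSeries.coeff_mul, Polynomial.coeff_coe W,
          Polynomial.coeff_eq_zero_of_natDegree_lt (by omega : W.natDegree < n),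
          Finset.Nat.sum_antidiagonal_eq_sum_range_succ
            (fun i j => PowerSeries.coeff i (D : PowerSeries ℚ) * PowerSeries.coeff j (PowerSeries.mk G))] at h
        simp only [PowerSeries.coeff_mk, Polynomial.coeff_coe] at h
        rw [← h]
        refine Finset.sum_subset (by simp; omega) fun j _ hj => ?_
        rw [Finset.mem_range, not_lt] at hj
        rw [Polynomial.coeff_eq_zero_of_natDegree_lt (by omega : D.natDegree < j), zero_mul])
      (RatFunc.denom_ne_zero F)
    have hDn := H6LE.eq_X_pow F.denom (RatFunc.monic_denom F) (q : ℚ) hq' _ hdvd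
    set a := F.denom.natDegree
    set N := F.num with hN
    have hFN : F * RatFunc.X ^ a = algebraMap (Polynomial ℚ) (RatFunc ℚ) N := by
      have h := RatFunc.num_div_denom F
      rw [hDn, map_pow, RatFunc.algebraMap_X, div_eq_iff (pow_ne_zero _ RatFunc.X_ne_zero)] at h
      exact h.symm
    set n := N.natDegree + 1
    let r : ℕ → ℚ := fun m => (q : ℚ) ^ m / (q : ℚ) ^ a
    have hqa : (q : ℚ) ^ a ≠ 0 := pow_ne_zero _ (by linarith)
    have hr : ∀ m, r m ≠ 0 := fun m => div_ne_zero (pow_ne_zero _ (by linarith)) hqa
    have hGsum : ∀ v, G v = ∑ m ∈ Finset.range n, N.coeff m * r m * r m ^ v := by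
      intro v
      rw [hG]
      show F.eval (RingHom.id ℚ) ((q : ℚ) ^ (v + 1)) = _
      rw [hGeval, hDn, Polynomial.eval_pow, Polynomial.eval_X, Polynomial.eval_eq_sum_range, Finset.sum_div]
      refine Finset.sum_congr rfl fun m _ => ?_
      simp only [r]
      rw [mul_assoc, ← pow_succ', div_pow, ← pow_mul, ← pow_mul, ← pow_mul, ← pow_mul, mul_comm m, mul_comm a,
        mul_div_assoc]
    let Pr : Polynomial ℚ := ∏ m ∈ Finset.range n, (1 - Polynomial.C (r m) * Polynomial.X)
    let M : Polynomial ℚ := ∑ m ∈ Finset.range n, Polynomial.C (N.coeff m * r m) *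
      ∏ l ∈ (Finset.range n).erase m, (1 - Polynomial.C (r l) * Polynomial.X)
    have hgeo : ∀ x : ℚ, PowerSeries.mk (fun v => x ^ v) * ((1 - Polynomial.C x * Polynomial.X : Polynomial ℚ) : PowerSeries ℚ) = 1 := by
      intro x
      ext v
      rw [Polynomial.coe_sub, Polynomial.coe_one, Polynomial.coe_mul, Polynomial.coe_C, Polynomial.coe_X, mul_sub,
        mul_one, mul_left_comm, map_sub, PowerSeries.coeff_C_mul]
      rcases v with _ | v
      · simp
      · simp [PowerSeries.coeff_succ_mul_X, pow_succ']
    have hGM : PowerSeries.mk G * (Pr : PowerSeries ℚ) = (M : PowerSeries ℚ) := by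
      have h1 : PowerSeries.mk G = ∑ m ∈ Finset.range n, PowerSeries.C (N.coeff m * r m) * PowerSeries.mk (fun v => r m ^ v) := by
        ext v
        simp only [map_sum, PowerSeries.coeff_mk, PowerSeries.coeff_C_mul, hGsum]
      rw [h1, Finset.sum_mul]
      simp only [M]
      rw [← Polynomial.coeToPowerSeries.ringHom_apply (φ := ∑ m ∈ Finset.range n, _), map_sum]
      refine Finset.sum_congr rfl fun m hm => ?_
      simp only [Pr]
      rw [Polynomial.coeToPowerSeries.ringHom_apply, ← Finset.mul_prod_erase _ _ hm, Polynomial.coe_mul,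
        Polynomial.coe_mul, Polynomial.coe_C, mul_assoc, ← mul_assoc (PowerSeries.mk _), hgeo, one_mul]
    have hid : M * (P * Q) = W * Pr := by
      apply Polynomial.coe_injective ℚ
      rw [Polynomial.coe_mul, Polynomial.coe_mul W, ← hGM, ← hlog, hD]
      ring
    have hint : ∀ m, ∃ z : ℤ, N.coeff m = (z : ℚ) := by
      intro m
      by_cases hm : m ∈ Finset.range n
      swap
      · refine ⟨0, ?_⟩
        rw [Finset.mem_range, not_lt] at hm
        rw [Polynomial.coeff_eq_zero_of_natDegree_lt (by omega), Int.cast_zero]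
      refine H6LE.key_cancel P Q M (∏ l ∈ (Finset.range n).erase m, (1 - Polynomial.C (r l) * Polynomial.X))
        (r m) (N.coeff m) (hr m) hP hQ
        (∑ l ∈ (Finset.range n).erase m, Polynomial.C (N.coeff l * r l) *
          ∏ i ∈ ((Finset.range n).erase l).erase m, (1 - Polynomial.C (r i) * Polynomial.X)) ?_ ?_ ?_
      · simp only [M]
        rw [← Finset.add_sum_erase _ _ hm, Finset.mul_sum]
        congr 1
        refine Finset.sum_congr rfl fun l hl => ?_
        have hml : m ∈ (Finset.range n).erase l := Finset.mem_erase.2 ⟨(Finset.mem_erase.1 hl).1.symm, hm⟩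
        rw [← Finset.mul_prod_erase _ _ hml]
        ring
      · simp only [Polynomial.eval_prod, Polynomial.eval_sub, Polynomial.eval_one, Polynomial.eval_mul,
          Polynomial.eval_C, Polynomial.eval_X]
        rw [Finset.prod_ne_zero_iff]
        intro l hl h
        rw [sub_eq_zero, ← div_eq_mul_inv, eq_comm, div_eq_one_iff_eq (hr m)] at h
        simp only [r, div_left_inj' hqa] at h
        exact (Finset.mem_erase.1 hl).1 ((pow_right_strictMono₀ hq').injective h)
      · rw [hid, hW]
        simp only [Pr]
        rw [← Finset.mul_prod_erase _ _ hm]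
    have hlift : N ∈ Polynomial.lifts (Int.castRingHom ℚ) := (Polynomial.lifts_iff_coeff_lifts N).2 fun m => by
      obtain ⟨z, hz⟩ := hint m
      exact ⟨z, hz.symm⟩
    obtain ⟨P', hP'⟩ := (Polynomial.mem_lifts N).1 hlift
    exact ⟨P', a, by rw [hFN, hP']⟩

end Groth.Agent.S14193
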