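import Groth.Statements.S14205
import Groth.Agent.Lib.BrauerIndex

set_option autoImplicit false
universe u v
open scoped TensorProduct
open Brauer

namespace Groth.Agent.S14205

/-- Let A be a finite-dimensional central simple algebra over a field k with period p: p is the least
positive integer for which the p-fold tensor power of A over k is a full matrix algebra over k. Then
for every r ≥ 1 the r-fold tensor power of A has period p / gcd(p, r) (the order of the r-th
multiple of an element of order p). -/
theorem result (k : Type u) [Field k] (A : Type v) [Ring A] [Algebra k A]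
    [Algebra.IsCentral k A] [IsSimpleRing A] [FiniteDimensional k A] (p : ℕ)
    (hp : CSAGal.IsPeriod k A p) (r : ℕ) (hr : 0 < r) :
    CSAGal.IsPeriod k (CSAGal.tpow k A r) (p / Nat.gcd p r) := by
  have hA : BrauerLib.IsCSA k A := ⟨inferInstance, inferInstance, inferInstance⟩
  have hk := BrauerLib.isPeriod_killed hA hp
  set g := Nat.gcd p r with hg
  have hgp : 0 < g := Nat.gcd_pos_of_pos_left r hp.1
  obtain ⟨p₀, hp₀⟩ := Nat.gcd_dvd_left p r
  obtain ⟨r₀, hr₀⟩ := Nat.gcd_dvd_right p r
  rw [← hg] at hp₀ hr₀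
  have hpg : p / g = p₀ := by rw [hp₀, Nat.mul_div_cancel_left _ hgp]
  rw [hpg]
  have hcop : Nat.Coprime p₀ r₀ := by
    have := Nat.coprime_div_gcd_div_gcd (m := p) (n := r) hgp
    rwa [← hg, hpg, hr₀, Nat.mul_div_cancel_left _ hgp] at this
  refine ⟨Nat.pos_of_ne_zero fun h => by simp [h] at hp₀; have := hp.1; omega,
    (BrauerLib.killed_iff_splits (hA.tpow r) _).1 (BrauerLib.Killed.tpow.2 ?_), fun e he hlt hsp => ?_⟩
  · exact hk.of_dvd ⟨r₀, by rw [hp₀, hr₀]; ring⟩
  · have h1 := BrauerLib.period_dvd hA hp (BrauerLib.Killed.tpow.1 ((BrauerLib.killed_iff_splits (hA.tpow r) e).2 hsp))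
    rw [hp₀, hr₀, mul_assoc] at h1
    have h2 := hcop.dvd_of_dvd_mul_left (Nat.dvd_of_mul_dvd_mul_left hgp h1)
    exact absurd (Nat.le_of_dvd he h2) (by omega)

end Groth.Agent.S14205
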