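import Groth.Statements.S14211
import Groth.Agent.Lib.BrauerQuat

set_option autoImplicit false
universe u v
open scoped TensorProduct
open Brauer

namespace Groth.Agent.S14211

/-- Let k be a field in which 2 ≠ 0 and A a finite-dimensional central simple k-algebra. Then A has
period 2 and index 2 (its Severi–Brauer variety has type (2, 2, 2m)) if and only if A is isomorphic
over k to a matrix algebra M_m(Q), m ≥ 1, over a quaternion algebra Q = (a, b)_k (the k-algebra with
basis 1, i, j, ij, i² = a, j² = b, ij = −ji) which is a division ring; moreover such a quaternion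
algebra is unique up to k-isomorphism. -/
theorem result (k : Type u) [Field k] (h2 : (2 : k) ≠ 0)
    (A : Type v) [Ring A] [Algebra k A] [Algebra.IsCentral k A] [IsSimpleRing A]
    [FiniteDimensional k A] :
    ((CSAGal.IsPeriod k A 2 ∧ CSAGal.IsIndex k A 2) ↔
      ∃ (a b : k) (m : ℕ), 0 < m ∧ (∀ x : QuaternionAlgebra k a 0 b, x ≠ 0 → IsUnit x) ∧
        Nonempty (A ≃ₐ[k] Matrix (Fin m) (Fin m) (QuaternionAlgebra k a 0 b))) ∧
    (∀ (a b a' b' : k) (m m' : ℕ),
      (∀ x : QuaternionAlgebra k a 0 b, x ≠ 0 → IsUnit x) →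
      (∀ x : QuaternionAlgebra k a' 0 b', x ≠ 0 → IsUnit x) →
      Nonempty (A ≃ₐ[k] Matrix (Fin m) (Fin m) (QuaternionAlgebra k a 0 b)) →
      Nonempty (A ≃ₐ[k] Matrix (Fin m') (Fin m') (QuaternionAlgebra k a' 0 b')) →
      Nonempty (QuaternionAlgebra k a 0 b ≃ₐ[k] QuaternionAlgebra k a' 0 b')) := by
  have hA : BrauerLib.IsCSA k A := ⟨inferInstance, inferInstance, inferInstance⟩
  refine ⟨BrauerLib.period_two_index_two_iff h2 hA, fun a b a' b' m m' hdiv hdiv' he he' => ?_⟩
  obtain ⟨e⟩ := he
  obtain ⟨e'⟩ := he'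
  obtain ⟨D, _, _, f, hD, hdim⟩ := BrauerLib.quat_divisionRing hdiv h2
  obtain ⟨D', _, _, f', hD', hdim'⟩ := BrauerLib.quat_divisionRing hdiv' h2
  have := hD.finite
  have hm : m ≠ 0 := by
    rintro rfl
    have : Subsingleton A := e.toEquiv.subsingleton
    exact not_subsingleton A this
  have hm' : m' ≠ 0 := by
    rintro rfl
    have : Subsingleton A := e'.toEquiv.subsingleton
    exact not_subsingleton A this
  obtain ⟨g⟩ := Groth.Agent.H7CSA.divisionRing_unique D D' m m' hm hm' (f.mapMatrix.trans (e.symm.trans (e'.trans f'.symm.mapMatrix)))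
  exact ⟨f.symm.trans (g.trans f')⟩

end Groth.Agent.S14211
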