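import Groth.Statements.S14262
import Mathlib

set_option autoImplicit false
universe u
open FrobAlg

namespace Groth.Agent.S14262
open TensorProduct

/-- Let p be a prime, A a perfect ring of characteristic p and f ∈ A. The radical of the principal ideal
(f) — equivalently the ideal generated by all p^n-th roots of f, n ≥ 0 — is a flat A-module. -/
theorem result (p : ℕ) [Fact p.Prime] (A : Type u) [CommRing A]
    [CharP A p] [PerfectRing A p] (f : A) :
    Module.Flat A ((Ideal.span {f}).radical) := by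
  have : ExpChar A p := ExpChar.prime Fact.out
  have hp2 : 2 ≤ p := (Fact.out : p.Prime).two_le
  let g : ℕ → A := fun n => (iterateFrobeniusEquiv A p n).symm f
  have hg : ∀ n, g n ^ p ^ n = f := fun n => (iterateFrobeniusEquiv A p n).apply_symm_apply f
  have hinj : ∀ n (x y : A), x ^ p ^ n = y ^ p ^ n → x = y := fun n x y h => (iterateFrobeniusEquiv A p n).injective h
  have hg' : ∀ n m, g n = g (n + m) ^ p ^ m := fun n m => hinj n _ _ (by
    rw [hg, ← pow_mul, ← pow_add, add_comm m n, hg])
  let I := (Ideal.span {f}).radical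
  have hgI : ∀ n, g n ∈ I := fun n => ⟨p ^ n, by rw [hg]; exact Ideal.mem_span_singleton_self f⟩
  let F : ℕ → I := fun n => ⟨g n, hgI n⟩
  have hF : ∀ n m, n ≤ m → ∃ b : A, F n = b • F m := fun n m h => by
    obtain ⟨k, rfl⟩ := Nat.exists_eq_add_of_le h
    exact ⟨g (n + k) ^ (p ^ k - 1), Subtype.ext (by
      show g n = g (n + k) ^ (p ^ k - 1) * g (n + k)
      rw [← pow_succ, Nat.sub_add_cancel (Nat.one_le_pow _ _ (by omega)), ← hg'])⟩
  rw [Module.Flat.iff_rTensor_injective']
  intro J
  rw [injective_iff_map_eq_zero]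
  intro t ht
  obtain ⟨j, n, rfl⟩ : ∃ (j : J) (n : ℕ), t = j ⊗ₜ F n := by
    clear ht
    induction t with
    | zero => exact ⟨0, 0, (zero_tmul _ _).symm⟩
    | tmul j x =>
      obtain ⟨k, hk⟩ := x.2
      have hk' : (x : A) ^ p ^ k ∈ Ideal.span {f} :=
        Ideal.pow_mem_of_pow_mem _ hk (Nat.le_of_lt (Nat.lt_pow_self (by omega)))
      obtain ⟨a, ha⟩ := Ideal.mem_span_singleton'.1 hk'
      refine ⟨(iterateFrobeniusEquiv A p k).symm a • j, k, ?_⟩
      rw [smul_tmul]
      congr 1
      refine Subtype.ext (hinj k _ _ ?_)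
      show (x : A) ^ p ^ k = ((iterateFrobeniusEquiv A p k).symm a * g k) ^ p ^ k
      rw [mul_pow, hg, ← ha]
      congr 1
      exact ((iterateFrobeniusEquiv A p k).apply_symm_apply a).symm
    | add a b ha hb =>
      obtain ⟨j, n, rfl⟩ := ha
      obtain ⟨j', n', rfl⟩ := hb
      obtain ⟨c, hc⟩ := hF n (max n n') (le_max_left _ _)
      obtain ⟨c', hc'⟩ := hF n' (max n n') (le_max_right _ _)
      exact ⟨c • j + c' • j', max n n', by rw [hc, hc', ← smul_tmul, ← smul_tmul, add_tmul]⟩
  have h0 : (j : A) * g n = 0 := by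
    have := congrArg (TensorProduct.lid A I) ht
    simp only [LinearMap.rTensor_tmul, lid_tmul, map_zero, Submodule.subtype_apply] at this
    exact congrArg Subtype.val this
  have h1 : (j : A) * g (n + 1) = 0 := hinj 1 _ _ (by
    rw [pow_one, mul_pow, zero_pow (by omega)]
    have e : g (n + 1) ^ p = g n := by rw [hg' n 1, pow_one]
    rw [e, show (j : A) ^ p = (j : A) ^ (p - 1) * j by rw [← pow_succ, Nat.sub_add_cancel (by omega)], mul_assoc, h0,
      mul_zero])
  have e : F n = g (n + 1) ^ (p - 1) • F (n + 1) := Subtype.ext (by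
    show g n = g (n + 1) ^ (p - 1) * g (n + 1)
    rw [← pow_succ, Nat.sub_add_cancel (by omega), hg' n 1, pow_one])
  rw [e, ← smul_tmul, show g (n + 1) ^ (p - 1) • j = 0 from Subtype.ext (by
    show g (n + 1) ^ (p - 1) * (j : A) = 0
    obtain ⟨q, hq⟩ : ∃ q, p - 1 = q + 1 := ⟨p - 2, by omega⟩
    rw [hq, pow_succ, mul_assoc, mul_comm (g (n+1)), h1, mul_zero]), zero_tmul]

end Groth.Agent.S14262
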