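import Groth.Statements.S14272
import Groth.Agent.Lib.H6.Hartogs
import Mathlib.AlgebraicGeometry.Morphisms.QuasiCompact

set_option autoImplicit false
set_option linter.all false
set_option backward.isDefEq.respectTransparency.types false
universe u
open FlatPur

namespace Groth.Agent.S14272

open AlgebraicGeometry CategoryTheory CategoryTheory.Limits in
/-- Let X be a scheme and U an open subscheme whose inclusion is quasi-compact, such that for every
point z of X outside U the maximal ideal of O_{X,z} contains two elements forming a weakly regular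
sequence on that local ring. Then for every X-scheme Y that is affine and of finite presentation
over X, the restriction map from X-sections of Y to U-sections of Y is bijective: every morphism U
-> Y over X extends uniquely to a section X -> Y. -/
theorem result (X : Scheme.{u}) (U : X.Opens) [QuasiCompact U.ι]
    (hZ : ∀ z : X, z ∉ U → ∃ a b : X.presheaf.stalk z, a ∈ IsLocalRing.maximalIdeal (X.presheaf.stalk z) ∧
      b ∈ IsLocalRing.maximalIdeal (X.presheaf.stalk z) ∧ RingTheory.Sequence.IsWeaklyRegular (X.presheaf.stalk z) [a, b])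
    (Y : Scheme.{u}) (f : Y ⟶ X) [IsAffineHom f] [LocallyOfFinitePresentation f]
    (t : (U : Scheme.{u}) ⟶ Y) (ht : t ≫ f = U.ι) :
    ∃! s : X ⟶ Y, s ≫ f = 𝟙 X ∧ U.ι ≫ s = t := by
    classical
    have hsq : ∀ (W : X.Opens), QuasiCompact (W.ι ⁻¹ᵁ U).ι := fun W =>
      MorphismProperty.of_isPullback (P := @QuasiCompact) (isPullback_morphismRestrict W.ι U) inferInstance
    have hZW : ∀ (W : X.Opens) (z : W.toScheme), z ∉ W.ι ⁻¹ᵁ U → ∃ a b : W.toScheme.presheaf.stalk z,
        a ∈ IsLocalRing.maximalIdeal (W.toScheme.presheaf.stalk z) ∧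
        b ∈ IsLocalRing.maximalIdeal (W.toScheme.presheaf.stalk z) ∧
        RingTheory.Sequence.IsWeaklyRegular (W.toScheme.presheaf.stalk z) [a, b] := fun W z hz => by
      obtain ⟨a, b, ha, hb, hab⟩ := hZ (W.ι.base z) hz
      let e := (asIso (W.ι.stalkMap z)).commRingCatIsoToRingEquiv
      have hm : ∀ y ∈ IsLocalRing.maximalIdeal (X.presheaf.stalk (W.ι.base z)),
          e y ∈ IsLocalRing.maximalIdeal (W.toScheme.presheaf.stalk z) := fun y hy => by
        rw [IsLocalRing.mem_maximalIdeal, mem_nonunits_iff] at hy ⊢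
        exact fun h => hy ((isUnit_map_iff e y).1 h)
      refine ⟨e a, e b, hm a ha, hm b hb, ?_⟩
      refine (AddEquiv.isWeaklyRegular_congr (e := e.toAddEquiv) ?_).1 hab
      exact .cons (fun m => map_mul e a m) (.cons (fun m => map_mul e b m) .nil)
    have hsd : ∀ W : X.Opens, IsSchemeTheoreticallyDominant (W.ι ⁻¹ᵁ U).ι := fun W => by
      haveI := hsq W
      refine Groth.Agent.H6.SchDense.schDominant_opens _ fun z hz => ?_
      obtain ⟨a, b, ha, -, hab⟩ := hZW W z hz
      rw [RingTheory.Sequence.isWeaklyRegular_cons_iff] at hab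
      exact ⟨a, ha, hab.1⟩
    have uniq : ∀ (W : X.Opens) (p q : W.toScheme ⟶ Y), p ≫ f = W.ι → q ≫ f = W.ι →
        (W.ι ⁻¹ᵁ U).ι ≫ p = (W.ι ⁻¹ᵁ U).ι ≫ q → p = q := fun W p q hp hq h => by
      haveI := hsd W
      exact Groth.Agent.H6.SchDense.ext_of_schDominant f (hp.trans hq.symm) (W.ι ⁻¹ᵁ U).ι h
    let tW : ∀ W : X.Opens, (W.ι ⁻¹ᵁ U).toScheme ⟶ Y := fun W => (W.ι ∣_ U) ≫ t
    have htW : ∀ W : X.Opens, tW W ≫ f = (W.ι ⁻¹ᵁ U).ι ≫ W.ι := fun W => by
      simp only [tW, Category.assoc, ht, morphismRestrict_ι]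
    have exi : ∀ V : X.affineOpens, ∃ s : V.1.toScheme ⟶ Y, s ≫ f = V.1.ι ∧ (V.1.ι ⁻¹ᵁ U).ι ≫ s = tW V.1 := by
      intro ⟨V, hV⟩
      haveI : IsAffine V.toScheme := hV
      haveI := hsq V
      have hbij := Groth.Agent.H6.Hartogs.restrict_bijective V.toScheme (V.ι ⁻¹ᵁ U) (hZW V)
      let q := (V.ι ⁻¹ᵁ U).ι
      haveI : IsIso q.appTop := by
        haveI : IsIso (V.toScheme.presheaf.map (homOfLE (le_top : V.ι ⁻¹ᵁ U ≤ ⊤)).op) :=
          (ConcreteCategory.isIso_iff_bijective _).2 hbij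
        have : q.appTop = V.toScheme.presheaf.map (homOfLE (le_top : V.ι ⁻¹ᵁ U ≤ ⊤)).op ≫ (V.ι ⁻¹ᵁ U).topIso.inv := by
          simp [q]
          exact (congrArg X.presheaf.map (Subsingleton.elim _ _)).trans (X.presheaf.map_comp _ _)
        rw [this]; infer_instance
      let P := pullback f V.ι
      haveI : IsAffineHom (pullback.snd f V.ι) :=
        MorphismProperty.pullback_snd (P := @IsAffineHom) _ _ inferInstance
      haveI : IsAffine P := isAffine_of_isAffineHom (pullback.snd f V.ι)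
      let t' : (V.ι ⁻¹ᵁ U).toScheme ⟶ P := pullback.lift (tW V) q (htW V)
      let φ := t'.appTop ≫ inv q.appTop
      let s := V.toScheme.toSpecΓ ≫ Spec.map φ ≫ P.isoSpec.inv
      have h2 : s ≫ pullback.snd f V.ι = 𝟙 V.toScheme := by
        rw [← cancel_mono V.toScheme.isoSpec.hom]
        have hn : pullback.snd f V.ι ≫ V.toScheme.isoSpec.hom =
            P.isoSpec.hom ≫ Spec.map (pullback.snd f V.ι).appTop := Scheme.toSpecΓ_naturality _
        simp only [s, Category.assoc, hn, Iso.inv_hom_id_assoc, ← Spec.map_comp, Category.id_comp]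
        have hc : (pullback.snd f V.ι).appTop ≫ φ = 𝟙 _ := by
          have := congrArg Scheme.Hom.appTop (pullback.lift_snd (tW V) q (htW V))
          simp only [Scheme.Hom.comp_appTop] at this
          simp only [φ, ← Category.assoc]
          rw [show (pullback.snd f V.ι).appTop ≫ t'.appTop = q.appTop from this, IsIso.hom_inv_id]
        rw [hc, Spec.map_id]
        exact Category.comp_id _
      have h3 : q ≫ s = t' := by
        rw [← cancel_mono P.isoSpec.hom]
        have hn : q ≫ V.toScheme.toSpecΓ = (V.ι ⁻¹ᵁ U).toScheme.toSpecΓ ≫ Spec.map q.appTop := Scheme.toSpecΓ_naturality _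
        simp only [s, Category.assoc, Iso.inv_hom_id, Category.comp_id, reassoc_of% hn, ← Spec.map_comp, φ, IsIso.inv_hom_id]
        exact (Scheme.toSpecΓ_naturality t').symm
      refine ⟨s ≫ pullback.fst f V.ι, ?_, ?_⟩
      · rw [Category.assoc, pullback.condition, ← Category.assoc, h2, Category.id_comp]
      · rw [← Category.assoc, h3, pullback.lift_fst]
    choose s hs1 hs2 using exi
    let 𝒰 := X.openCoverOfIsOpenCover (fun V : X.affineOpens => V.1) (iSup_affineOpens_eq_top X)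
    have hcompat : ∀ a b : X.affineOpens, pullback.fst (𝒰.f a) (𝒰.f b) ≫ s a = pullback.snd (𝒰.f a) (𝒰.f b) ≫ s b := by
      intro a b
      change pullback.fst a.1.ι b.1.ι ≫ s a = pullback.snd a.1.ι b.1.ι ≫ s b
      let W := a.1 ⊓ b.1
      let e : W.toScheme ⟶ pullback a.1.ι b.1.ι :=
        pullback.lift (X.homOfLE inf_le_left) (X.homOfLE inf_le_right) (by simp)
      haveI : IsIso e := by
        have H : IsPullback (X.homOfLE (inf_le_left : W ≤ a.1)) (X.homOfLE (inf_le_right : W ≤ b.1)) a.1.ι b.1.ι :=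
          isPullback_opens_inf a.1 b.1
        have : e = H.isoPullback.hom := by
          apply pullback.hom_ext
          · exact (pullback.lift_fst _ _ _).trans H.isoPullback_hom_fst.symm
          · exact (pullback.lift_snd _ _ _).trans H.isoPullback_hom_snd.symm
        rw [this]; infer_instance
      rw [← cancel_epi e]
      simp only [e, pullback.lift_fst_assoc, pullback.lift_snd_assoc]
      refine uniq W _ _ (by rw [Category.assoc, hs1, Scheme.homOfLE_ι]) (by rw [Category.assoc, hs1, Scheme.homOfLE_ι]) ?_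
      have key : ∀ (V : X.affineOpens) (hle : W ≤ V.1),
          (W.ι ⁻¹ᵁ U).ι ≫ X.homOfLE hle ≫ s V = tW W := fun V hle => by
        have hle' : W.ι ⁻¹ᵁ U ≤ X.homOfLE hle ⁻¹ᵁ (V.1.ι ⁻¹ᵁ U) := by
          rw [← Scheme.Hom.comp_preimage, Scheme.homOfLE_ι]
        rw [← Scheme.Hom.resLE_comp_ι_assoc _ hle', hs2]
        simp only [tW, ← Category.assoc]
        congr 1
        rw [← cancel_mono U.ι]
        simp only [Category.assoc, morphismRestrict_ι, Scheme.Hom.resLE_comp_ι_assoc, Scheme.homOfLE_ι]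
      rw [key a inf_le_left, key b inf_le_right]
    let S := 𝒰.glueMorphisms s hcompat
    have hS : ∀ V : X.affineOpens, V.1.ι ≫ S = s V := fun V => 𝒰.ι_glueMorphisms s hcompat V
    have hSf : S ≫ f = 𝟙 X := 𝒰.hom_ext _ _ fun V => by
      change V.1.ι ≫ S ≫ f = V.1.ι ≫ 𝟙 X
      rw [← Category.assoc, hS V, hs1, Category.comp_id]
    haveI : IsSchemeTheoreticallyDominant U.ι := Groth.Agent.H6.SchDense.schDominant_opens U fun z hz => by
      obtain ⟨a, b, ha, -, hab⟩ := hZ z hz
      rw [RingTheory.Sequence.isWeaklyRegular_cons_iff] at hab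
      exact ⟨a, ha, hab.1⟩
    have hUS : U.ι ≫ S = t := by
      let 𝒱 := U.toScheme.openCoverOfIsOpenCover (fun V : X.affineOpens => U.ι ⁻¹ᵁ V.1) (by
        have := (iSup_affineOpens_eq_top X)
        exact eq_top_iff.2 fun x _ => by
          obtain ⟨V, hV⟩ := TopologicalSpace.Opens.mem_iSup.1 (this.ge (show U.ι.base x ∈ (⊤ : X.Opens) from trivial))
          exact TopologicalSpace.Opens.mem_iSup.2 ⟨V, hV⟩)
      refine 𝒱.hom_ext _ _ fun V => ?_
      change (U.ι ⁻¹ᵁ V.1).ι ≫ U.ι ≫ S = (U.ι ⁻¹ᵁ V.1).ι ≫ t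
      have hv : (U.ι ⁻¹ᵁ V.1).ι ≫ U.ι = (U.ι ∣_ V.1) ≫ V.1.ι := (morphismRestrict_ι _ _).symm
      have hle : U.ι ⁻¹ᵁ V.1 ≤ ⊤ := le_top
      let j : (U.ι ⁻¹ᵁ V.1).toScheme ⟶ (V.1.ι ⁻¹ᵁ U).toScheme :=
        IsOpenImmersion.lift (V.1.ι ⁻¹ᵁ U).ι (U.ι ∣_ V.1) (by
          rw [show Set.range (V.1.ι ⁻¹ᵁ U).ι.base = _ from Scheme.Opens.range_ι _]
          rintro _ ⟨x, rfl⟩
          have := congrArg (fun g : (U.ι ⁻¹ᵁ V.1).toScheme ⟶ X => g.base x) hv.symm
          show V.1.ι.base ((U.ι ∣_ V.1).base x) ∈ U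
          exact (show V.1.ι.base ((U.ι ∣_ V.1).base x) = U.ι.base ((U.ι ⁻¹ᵁ V.1).ι.base x) from this) ▸
            ((U.ι ⁻¹ᵁ V.1).ι.base x).2)
      have hj : j ≫ (V.1.ι ⁻¹ᵁ U).ι = U.ι ∣_ V.1 := IsOpenImmersion.lift_fac _ _ _
      rw [← Category.assoc, hv, Category.assoc, hS, ← hj, Category.assoc, hs2]
      simp only [tW, ← Category.assoc]
      congr 1
      rw [← cancel_mono U.ι]
      simp only [Category.assoc, morphismRestrict_ι]
      rw [reassoc_of% hj, morphismRestrict_ι]
    refine ⟨S, ⟨hSf, hUS⟩, ?_⟩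
    rintro S' ⟨h1, h2⟩
    exact Groth.Agent.H6.SchDense.ext_of_schDominant f (h1.trans hSf.symm) U.ι (h2.trans hUS.symm)

end Groth.Agent.S14272
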