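import Groth.Statements.S1433
import Mathlib

set_option autoImplicit false
universe u
open FlatMor

namespace Groth.Agent.S1433
open AlgebraicGeometry CategoryTheory Limits TensorProduct
set_option backward.isDefEq.respectTransparency.types false
set_option linter.style.haveILetI false

open AlgebraicGeometry CategoryTheory Limits in
/-- If the canonical morphism X → Spec Γ(X, O_X) has a retraction, then X is affine. -/
theorem result (X : Scheme.{u}) (r : Spec Γ(X, ⊤) ⟶ X) (h : X.toSpecΓ ≫ r = 𝟙 X) : IsAffine X := by
  refine ⟨⟨r, h, ?_⟩⟩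
  apply ext_of_isAffine
  have h2 := congr(Scheme.Hom.appTop $h)
  rw [Scheme.Hom.comp_appTop, Scheme.Hom.id_appTop] at h2
  rw [Scheme.Hom.comp_appTop, Scheme.Hom.id_appTop]
  have hiso : IsIso X.toSpecΓ.appTop := by rw [Scheme.toSpecΓ_appTop]; infer_instance
  rw [← IsIso.eq_comp_inv] at h2
  rw [h2]; simp

end Groth.Agent.S1433
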