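import Groth.Statements.S1435
import Mathlib
import Groth.Prelude.Def_MoreMor
import Groth.Agent.Lib.H2AffStrat

set_option autoImplicit false
universe u
open FlatMor

namespace Groth.Agent.S1435
open CategoryTheory Limits AlgebraicGeometry

open AlgebraicGeometry CategoryTheory Limits in
/-- A scheme has a finite affine stratification if and only if it is quasi-compact and quasi-separated. -/
theorem result (X : Scheme.{u}) :
    (∃ n : ℕ, MoreMor.HasAffineStratification X n) ↔ CompactSpace ↑X ∧ QuasiSeparatedSpace ↑X := by
  exact Groth.Agent.H2AffStrat.stratification_iff X

end Groth.Agent.S1435
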