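import Groth.Statements.S14351
import Mathlib

set_option autoImplicit false
universe u
open CAlg

namespace Groth.Agent.S14351
set_option linter.style.haveILetI false
open TensorProduct Polynomial

/-- For ring maps A → B → C with C faithfully flat over B and C faithfully flat over A, the ring B is
faithfully flat over A. -/
theorem result (A B C : Type u) [CommRing A] [CommRing B]
    [CommRing C] [Algebra A B] [Algebra B C] [Algebra A C] [IsScalarTower A B C]
    [Module.FaithfullyFlat B C] [Module.FaithfullyFlat A C] : Module.FaithfullyFlat A B := by
  haveI : Module.Flat A B := by
    rw [Module.Flat.iff_lTensor_preserves_injective_linearMap]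
    intro M N _ _ _ _ f hf
    have hC : Function.Injective (f.lTensor C) := Module.Flat.lTensor_preserves_injective_linearMap f hf
    let eM := TensorProduct.AlgebraTensorModule.cancelBaseChange A B B C M
    let eN := TensorProduct.AlgebraTensorModule.cancelBaseChange A B B C N
    have : Function.Injective ((f.baseChange B).lTensor C) := by
      have hh : ∀ x, eN ((f.baseChange B).lTensor C x) = f.lTensor C (eM x) := by
        intro x
        induction x using TensorProduct.induction_on with
        | zero => simp
        | tmul c y =>
          induction y using TensorProduct.induction_on with
          | zero => simp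
          | tmul b m => simp [eM, eN]
          | add y z hy hz => simp only [TensorProduct.tmul_add, map_add, hy, hz]
        | add y z hy hz => simp only [map_add, hy, hz]
      intro x y hxy
      exact eM.injective (hC (by rw [← hh, ← hh, hxy]))
    exact (Module.FaithfullyFlat.lTensor_injective_iff_injective B C (f.baseChange B)).1 this
  refine Module.FaithfullyFlat.iff_flat_and_proper_ideal .. |>.2 ⟨inferInstance, fun I hI h => ?_⟩
  have h1 : I.map (algebraMap A B) = ⊤ := by
    rw [Ideal.smul_top_eq_map] at h
    simpa using h
  have h2 : I.map (algebraMap A C) = ⊤ := by
    rw [IsScalarTower.algebraMap_eq A B C, ← Ideal.map_map, h1, Ideal.map_top]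
  apply hI
  have := congrArg (Ideal.comap (algebraMap A C)) h2
  rwa [Ideal.comap_map_eq_self_of_faithfullyFlat, Ideal.comap_top] at this

end Groth.Agent.S14351
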