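import Groth.Statements.S14363
import Mathlib

set_option autoImplicit false
universe u
open CAlg

namespace Groth.Agent.S14363
open scoped TensorProduct
set_option linter.style.haveILetI false

/-- Let A be a Noetherian ring and 0 → M' → M → M'' → 0 a short exact sequence of A-modules. If a prime
p of A is an associated prime of M'' and is not in the support of M', then p is an associated prime
of M. -/
theorem result (A : Type u) [CommRing A] [IsNoetherianRing A]
    (M' M M'' : Type u) [AddCommGroup M'] [Module A M'] [AddCommGroup M] [Module A M]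
    [AddCommGroup M''] [Module A M'']
    (f : M' →ₗ[A] M) (g : M →ₗ[A] M'') (hf : Function.Injective f) (hg : Function.Surjective g)
    (hfg : Function.Exact f g)
    (p : PrimeSpectrum A) (hp : p.asIdeal ∈ associatedPrimes A M'') (hsupp : p ∉ Module.support A M') :
    p.asIdeal ∈ associatedPrimes A M := by
  classical
  obtain ⟨hpp, x, hx⟩ := isAssociatedPrime_iff.1 hp
  obtain ⟨m, rfl⟩ := hg x
  have hmem : ∀ r, r ∈ p.asIdeal ↔ r • g m = 0 := fun r => by rw [hx, Submodule.mem_colon_singleton, Submodule.mem_bot]
  obtain ⟨G, hG⟩ := IsNoetherian.noetherian p.asIdeal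
  have key : ∀ a ∈ G, ∃ t : A, t ∉ p.asIdeal ∧ (t * a) • m = 0 := by
    intro a ha
    obtain ⟨m', hm'⟩ := (hfg (a • m)).1 (by rw [map_smul]; exact (hmem a).1 (hG.le (Submodule.subset_span ha)))
    obtain ⟨t, ht, ht0⟩ := Module.notMem_support_iff'.1 hsupp m'
    exact ⟨t, ht, by rw [mul_smul, ← hm', ← map_smul, ht0, map_zero]⟩
  choose! t ht ht0 using key
  refine isAssociatedPrime_iff.2 ⟨hpp, (∏ a ∈ G, t a) • m, ?_⟩
  ext r
  rw [Submodule.mem_colon_singleton, Submodule.mem_bot]
  constructor
  · intro hr
    rw [← hG] at hr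
    induction hr using Submodule.span_induction with
    | mem a ha => rw [← mul_smul, ← Finset.prod_erase_mul G t ha, mul_left_comm, mul_comm a (t a), mul_smul, ht0 a ha, smul_zero]
    | zero => rw [zero_smul]
    | add a b _ _ ha hb => rw [add_smul, ha, hb, add_zero]
    | smul c a _ ha => rw [smul_eq_mul, mul_smul, ha, smul_zero]
  · intro hr
    have h1 : r * (∏ a ∈ G, t a) ∈ p.asIdeal := (hmem _).2 (by rw [← map_smul, mul_smul, hr, map_zero])
    refine (hpp.mem_or_mem h1).resolve_right fun h => ?_
    obtain ⟨a, ha, ha'⟩ := Ideal.IsPrime.prod_mem_iff.1 h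
    exact ht a ha ha'

end Groth.Agent.S14363
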