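import Groth.Statements.S14372
import Groth.Agent.Lib.H7Ci

set_option autoImplicit false
universe u
open Fano

namespace Groth.Agent.S14372

open MvPolynomial in
private lemma deriv_line {k : Type u} [Field k] {N : ℕ} (a b : Fin N → k) (f : MvPolynomial (Fin N) k) :
    (aeval (fun i => Polynomial.C (a i) + Polynomial.C (b i) * Polynomial.X) f : Polynomial k).derivative.eval 0 =
      ∑ i, b i * eval a (pderiv i f) := by
  induction f using MvPolynomial.induction_on with
  | C c => simp
  | add p q hp hq => simp [hp, hq, mul_add, Finset.sum_add_distrib]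
  | mul_X p j hp =>
    have h0 : (aeval (fun i => Polynomial.C (a i) + Polynomial.C (b i) * Polynomial.X) p : Polynomial k).eval 0 =
        eval a p := by
      rw [← Polynomial.coe_aeval_eq_eval, ← AlgHom.comp_apply, comp_aeval, ← aeval_eq_eval]
      simp
    rw [map_mul, aeval_X, Polynomial.derivative_mul]
    simp [hp, h0, Pi.single_apply, mul_add, Finset.sum_add_distrib, Finset.sum_mul, ite_mul, mul_ite]
    simp only [apply_ite (eval a), map_zero, mul_ite, mul_zero, Finset.sum_ite_eq, Finset.mem_univ, if_true]
    rw [add_comm]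
    refine congrArg₂ (· + ·) (mul_comm _ _) (Finset.sum_congr rfl fun x _ => by ring)



/-- Over an algebraically closed field k of arbitrary characteristic, let f be a homogeneous form of
degree d ≥ 2 in n + 1 variables and U a linear subspace of k^(n+1) on which f vanishes, such that at
every nonzero vector of U some partial derivative of f does not vanish (the hypersurface f = 0 in
P^n contains the r-plane P(U), r + 1 = dim U, and is smooth at every point of it). Then 2 · dim U ≤
n + 1, i.e. r ≤ (n − 1)/2. (The published statement assumes the hypersurface smooth everywhere; this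
row assumes smoothness only along P(U).) -/
theorem result (k : Type u) [Field k] [IsAlgClosed k]
    (n d : ℕ) (hd : 2 ≤ d) (f : MvPolynomial (Fin (n + 1)) k) (hf : f.IsHomogeneous d)
    (U : Submodule k (Fin (n + 1) → k)) (hU : ∀ u ∈ U, MvPolynomial.eval u f = 0)
    (hsm : ∀ u ∈ U, u ≠ 0 → ∃ i : Fin (n + 1), MvPolynomial.eval u (MvPolynomial.pderiv i f) ≠ 0) :
    2 * Module.finrank k ↥U ≤ n + 1 := by
  classical
  by_contra hlt
  push Not at hlt
  let V := Fin (n + 1) → k
  obtain ⟨W, hW⟩ := U.exists_isCompl
  have hWfin : Module.finrank k W + Module.finrank k U = n + 1 := by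
    rw [add_comm, Submodule.finrank_add_eq_of_isCompl hW, Module.finrank_fin_fun]
  let w := Module.finBasis k W
  let b := Module.finBasis k U
  let L : Fin (n + 1) → MvPolynomial (Fin (Module.finrank k U)) k := fun i =>
    ∑ l, MvPolynomial.C ((b l : V) i) * MvPolynomial.X l
  have hL : ∀ i, (L i).IsHomogeneous 1 := fun i => MvPolynomial.IsHomogeneous.sum _ _ _ fun l _ =>
    (MvPolynomial.isHomogeneous_X k l).C_mul _
  have hd1 : 0 < d - 1 := by omega
  let g : Fin (Module.finrank k W) → MvPolynomial (Fin (Module.finrank k U)) k := fun m =>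
    ∑ i, MvPolynomial.C ((w m : V) i) * MvPolynomial.aeval L (MvPolynomial.pderiv i f)
  have hg : ∀ m, (g m).IsHomogeneous (d - 1) := fun m => MvPolynomial.IsHomogeneous.sum _ _ _ fun i _ => by
    refine MvPolynomial.IsHomogeneous.C_mul ?_ _
    simpa using hf.pderiv.aeval L hL
  obtain ⟨c, hc, hc0⟩ := Groth.Agent.H7Ci.isCi_zero_of_isAlgClosed (K := k) (Module.finrank k W)
    (Module.finrank k U) g (fun _ => d - 1) hg (fun _ => hd1) (by simp; omega)
  let u : U := b.equivFun.symm c
  have hu0 : (u : V) ≠ 0 := fun h => hc (b.equivFun.symm.injective ((Subtype.ext h : u = 0).trans (map_zero _).symm))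
  have huL : ∀ i, MvPolynomial.eval c (L i) = (u : V) i := fun i => by
    simp [L, u, Module.Basis.equivFun_symm_apply, Finset.sum_apply, mul_comm]
  obtain ⟨i, hi⟩ := hsm u u.2 hu0
  apply hi
  have hpair : ∀ v : V, ∑ j, v j * MvPolynomial.eval (u : V) (MvPolynomial.pderiv j f) = 0 := by
    let Φ : V →ₗ[k] k := ∑ j, (MvPolynomial.eval (u : V) (MvPolynomial.pderiv j f)) • LinearMap.proj j
    have hΦ : ∀ v, Φ v = ∑ j, v j * MvPolynomial.eval (u : V) (MvPolynomial.pderiv j f) := fun v => by
      simp [Φ, mul_comm]
      rfl
    have h1 : U ≤ LinearMap.ker Φ := fun v hv => by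
      rw [LinearMap.mem_ker, hΦ, ← deriv_line]
      rw [show (MvPolynomial.aeval (fun j => Polynomial.C ((u : V) j) + Polynomial.C (v j) * Polynomial.X) f :
          Polynomial k) = 0 from Polynomial.funext fun t => ?_]
      · simp
      rw [← Polynomial.coe_aeval_eq_eval, ← AlgHom.comp_apply, MvPolynomial.comp_aeval]
      simp only [Polynomial.coe_aeval_eq_eval, Polynomial.eval_zero]
      refine (hU _ (U.add_mem u.2 (U.smul_mem t hv))) ▸ ?_
      rw [← MvPolynomial.aeval_eq_eval]
      congr 1
      congr 1
      funext j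
      simp only [Polynomial.eval_add, Polynomial.eval_mul, Polynomial.eval_C, Polynomial.eval_X, map_add, map_mul, Polynomial.aeval_C, Polynomial.aeval_X, Algebra.algebraMap_self, RingHom.id_apply, Pi.add_apply, Pi.smul_apply, smul_eq_mul]
      ring
    have h2 : W ≤ LinearMap.ker Φ := by
      have : ∀ m, Φ (w m : V) = 0 := fun m => by
        rw [hΦ, ← hc0 m]
        simp only [g, map_sum, map_mul, MvPolynomial.eval_C]
        refine Finset.sum_congr rfl fun j _ => ?_
        congr 1
        rw [← MvPolynomial.aeval_eq_eval, ← MvPolynomial.aeval_eq_eval, ← AlgHom.comp_apply,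
          MvPolynomial.comp_aeval]
        congr 1
        congr 1
        funext l
        exact (huL l).symm
      intro v hv
      have h3 : Φ.comp W.subtype = 0 := w.ext this
      exact LinearMap.congr_fun h3 ⟨v, hv⟩
    intro v
    rw [← hΦ]
    exact LinearMap.mem_ker.mp ((hW.sup_eq_top ▸ sup_le h1 h2) Submodule.mem_top)
  simpa [Pi.single_apply] using hpair (Pi.single i 1)

end Groth.Agent.S14372
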