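import Groth.Statements.S14405
import Mathlib

set_option autoImplicit false
open Polynomial
open HilbNum

namespace Groth.Agent.S14405

/-- Let φ be a function from the integers to the rationals and Q a nonzero polynomial with rational
coefficients of degree d such that φ(m) - φ(m-1) = Q(m) for every integer m. Then there is a
polynomial P with rational coefficients, of degree d + 1, such that φ(m) = P(m) for every integer m.
(The explicit form of P in the binomial basis is not part of this statement.) -/
theorem result (φ : ℤ → ℚ) (d : ℕ) (Q : ℚ[X]) (hQ : Q ≠ 0)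
    (hd : Q.natDegree = d) (h : ∀ m : ℤ, φ m - φ (m - 1) = Q.eval (m : ℚ)) :
    ∃ P : ℚ[X], P.natDegree = d + 1 ∧ ∀ m : ℤ, φ m = P.eval (m : ℚ) := by
  have key : ∀ (d : ℕ) (Q : ℚ[X]), Q.natDegree ≤ d → ∃ P : ℚ[X], P.natDegree ≤ d + 1 ∧
      P.coeff (d + 1) * (d + 1) = Q.coeff d ∧ ∀ t : ℚ, P.eval t - P.eval (t - 1) = Q.eval t := by
    intro d
    induction d with
    | zero =>
      intro Q hQ
      refine ⟨C (Q.coeff 0) * X, (natDegree_C_mul_le _ _).trans natDegree_X_le, by simp, fun t => ?_⟩
      conv_rhs => rw [Polynomial.eq_C_of_natDegree_le_zero hQ]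
      simp
      ring
    | succ d ih =>
      intro Q hQ
      set c : ℚ := Q.coeff (d + 1) / (d + 2) with hc
      set D : ℚ[X] := X ^ (d + 2) - taylor (-1) (X ^ (d + 2)) with hD
      have hDc : D.coeff (d + 1) = d + 2 := by
        rw [hD, coeff_sub, taylor_X_pow, coeff_X_pow, if_neg (by omega)]
        rw [coeff_X_add_C_pow]
        have : (d + 2).choose (d + 1) = d + 2 := Nat.choose_succ_self_right (d + 1)
        rw [this, show d + 2 - (d + 1) = 1 by omega]
        push_cast; ring
      have hDd : D.natDegree ≤ d + 1 := by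
        rw [natDegree_le_iff_coeff_eq_zero]
        intro m hm
        rw [hD, coeff_sub, taylor_X_pow, coeff_X_pow, coeff_X_add_C_pow]
        rcases eq_or_lt_of_le (show d + 2 ≤ m from hm) with h | h
        · subst h; simp
        · rw [if_neg (by omega), Nat.choose_eq_zero_of_lt h]; simp
      have hR : (Q - C c * D).natDegree ≤ d := by
        rw [natDegree_le_iff_coeff_eq_zero]
        intro m hm
        rcases eq_or_lt_of_le (show d + 1 ≤ m from hm) with h | h
        · subst h
          rw [coeff_sub, coeff_C_mul, hDc, hc]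
          field_simp
          ring
        · rw [coeff_sub, coeff_C_mul, coeff_eq_zero_of_natDegree_lt (by omega),
            coeff_eq_zero_of_natDegree_lt (p := D) (by omega)]
          simp
      obtain ⟨P, hP1, -, hP3⟩ := ih _ hR
      refine ⟨P + C c * X ^ (d + 2), ?_, ?_, fun t => ?_⟩
      · exact (natDegree_add_le _ _).trans (max_le (by omega)
          ((natDegree_C_mul_le _ _).trans (natDegree_X_pow_le _)))
      · rw [coeff_add, coeff_eq_zero_of_natDegree_lt (by omega), coeff_C_mul, coeff_X_pow,
          if_pos rfl, hc]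
        push_cast
        field_simp
        ring
      · have := hP3 t
        simp [hD, taylor_eval, taylor_X_pow] at this ⊢
        simp [sub_eq_add_neg] at this ⊢
        linarith
  obtain ⟨P, hP1, hP2, hP3⟩ := key d Q hd.le
  refine ⟨P + C (φ 0 - P.eval 0), ?_, ?_⟩
  · apply le_antisymm
    · exact (natDegree_add_le _ _).trans (max_le hP1 (by simp))
    · apply le_natDegree_of_ne_zero
      rw [coeff_add, coeff_C_ne_zero (by omega), add_zero]
      intro h0
      rw [h0, zero_mul, ← hd] at hP2
      exact hQ (leadingCoeff_eq_zero.mp hP2.symm)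
  · intro m
    simp only [eval_add, eval_C]
    induction m using Int.induction_on with
    | zero => simp
    | succ m ih =>
      have e1 := h ((m:ℤ) + 1)
      have e2 := hP3 ((((m:ℤ) + 1 : ℤ)) : ℚ)
      rw [show ((m:ℤ) + 1 - 1) = (m:ℤ) by ring] at e1
      push_cast at e1 e2 ih ⊢
      rw [show ((m:ℚ) + 1 - 1) = (m:ℚ) by ring] at e2
      linarith
    | pred m ih =>
      have e1 := h (-(m:ℤ))
      have e2 := hP3 (((-(m:ℤ) : ℤ)) : ℚ)
      push_cast at e1 e2 ih ⊢
      linarith

end Groth.Agent.S14405
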