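import Groth.Statements.S14414
import Groth.Agent.Lib.H1TorRes
import Mathlib

set_option autoImplicit false
universe u
open CategoryTheory CategoryTheory.Limits
open CAlg

namespace Groth.Agent.S14414

open Groth.Agent.H1TorRes
open scoped TensorProduct

variable {R : Type u} [CommRing R] {N : ModuleCat.{u} R} (P : ProjectiveResolution N)

/-- `coker d_j` -/
abbrev C (j : ℕ) : Type u := cF P.complex j ⧸ LinearMap.range (cd P.complex j)

abbrev toC (j : ℕ) : cF P.complex j →ₗ[R] C P j := (LinearMap.range (cd P.complex j)).mkQ

theorem toC_surjective (j : ℕ) : Function.Surjective (toC P j) := Submodule.mkQ_surjective _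

def dbar (j : ℕ) : C P (j + 1) →ₗ[R] cF P.complex j :=
  (LinearMap.range (cd P.complex (j + 1))).liftQ (cd P.complex j) (by
    rintro _ ⟨z, rfl⟩
    exact congr($(cd_comp P.complex j) z))

theorem dbar_comp (j : ℕ) : (dbar P j).comp (toC P (j + 1)) = cd P.complex j := Submodule.liftQ_mkQ _ _ _

theorem dbar_injective (j : ℕ) : Function.Injective (dbar P j) := by
  rw [injective_iff_map_eq_zero]
  intro x hx
  obtain ⟨y, rfl⟩ := toC_surjective P (j + 1) x
  have hex := (ShortComplex.ShortExact.moduleCat_exact_iff_function_exact _).1 (P.exact_succ j)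
  exact (Submodule.Quotient.mk_eq_zero _).mpr ((hex y).mp hx)

theorem dbar_exact (j : ℕ) : Function.Exact (dbar P j) (toC P j) := fun y => by
  refine (Submodule.Quotient.mk_eq_zero _).trans ⟨?_, ?_⟩
  · rintro ⟨z, rfl⟩
    exact ⟨toC P (j + 1) z, congr($(dbar_comp P j) z)⟩
  · rintro ⟨z, rfl⟩
    obtain ⟨z, rfl⟩ := toC_surjective P (j + 1) z
    exact ⟨z, (congr($(dbar_comp P j) z)).symm⟩

theorem lTensor_injective_of_flat {M K L Q : Type u} [AddCommGroup M] [Module R M] [AddCommGroup K] [Module R K]
    [AddCommGroup L] [Module R L] [AddCommGroup Q] [Module R Q] [Module.Projective R Q]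
    (f : K →ₗ[R] L) (g : L →ₗ[R] Q) (hf : Function.Injective f) (hg : Function.Surjective g)
    (hfg : Function.Exact f g) : Function.Injective (f.lTensor M) := by
  obtain ⟨s, hs⟩ := Module.projective_lifting_property g LinearMap.id hg
  have hl : ∃ r, r ∘ₗ f = LinearMap.id := ((hfg.split_tfae hf hg).out 0 1).mp (show ∃ s, g ∘ₗ s = LinearMap.id from ⟨s, hs⟩)
  obtain ⟨r, hr⟩ := hl
  intro a b hab
  have := congrArg (r.lTensor M) hab
  rwa [← LinearMap.lTensor_comp_apply, ← LinearMap.lTensor_comp_apply, hr, LinearMap.lTensor_id] at this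

theorem pd_C (q : ℕ) [HasProjectiveDimensionLE N q] :
    ∀ j, HasProjectiveDimensionLE (ModuleCat.of R (C P j)) (q - j)
  | 0 => by
    have hex := (ShortComplex.ShortExact.moduleCat_exact_iff_function_exact _).1 P.exact₀
    have hπ : Function.Surjective (P.π.f 0).hom := (ModuleCat.epi_iff_surjective (P.π.f 0)).1 inferInstance
    let e : C P 0 ≃ₗ[R] N := (Submodule.quotEquivOfEq _ _ (hex.linearMap_ker_eq).symm).trans
      (LinearMap.quotKerEquivOfSurjective (P.π.f 0).hom hπ)
    exact hasProjectiveDimensionLT_of_iso e.toModuleIso.symm _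
  | j + 1 => by
    haveI hj := pd_C q j
    let S : ShortComplex (ModuleCat.{u} R) := ShortComplex.mk (ModuleCat.ofHom (dbar P j)) (ModuleCat.ofHom (toC P j))
      (ModuleCat.hom_ext (dbar_exact P j).linearMap_comp_eq_zero)
    have hS : S.ShortExact :=
      { exact := (ShortComplex.ShortExact.moduleCat_exact_iff_function_exact _).2 (dbar_exact P j)
        mono_f := (ModuleCat.mono_iff_injective _).2 (dbar_injective P j)
        epi_g := (ModuleCat.epi_iff_surjective _).2 (toC_surjective P j) }
    haveI : Projective S.X₂ := P.projective j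
    have h3 : HasProjectiveDimensionLT S.X₃ (q - (j + 1) + 1 + 1) :=
      hasProjectiveDimensionLT_of_ge S.X₃ (q - j + 1) _ (by omega)
    exact hS.hasProjectiveDimensionLT_X₁ (q - (j + 1) + 1) inferInstance h3

theorem projective_C (q j : ℕ) [HasProjectiveDimensionLE N q] (hj : q ≤ j) : Module.Projective R (C P j) := by
  have := pd_C P q j
  rw [Nat.sub_eq_zero_of_le hj] at this
  haveI : Projective (ModuleCat.of R (C P j)) := projective_iff_hasProjectiveDimensionLT_one.2 this
  exact (IsProjective.iff_projective _).2 inferInstance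

/-- Let R be a commutative ring and N an R-module of projective dimension at most q, in the sense that
Ext^i_R(N, N′) = 0 for all i > q and all N′ (equivalently, N has a projective resolution of length
at most q). Then for every R-module M and every i > q, Tor_i^R(M, N) — the value at N of the i-th
left derived functor of M ⊗_R (-) — is zero. -/
theorem result (R : Type u) [CommRing R]
    (M N : ModuleCat.{u} R) (q : ℕ) [HasProjectiveDimensionLE N q] (i : ℕ) (hi : q < i) :
    IsZero (((CategoryTheory.Tor (ModuleCat.{u} R) i).obj M).obj N) := by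
  let P : ProjectiveResolution N := Classical.choice HasProjectiveResolution.out
  refine (isZero_tor_iff M N P i).2 ?_
  obtain ⟨j, rfl⟩ : ∃ j, i = j + 1 := Nat.exists_eq_add_of_le' (Nat.succ_le_of_lt (lt_of_le_of_lt (Nat.zero_le _) hi))
  haveI := projective_C P q j (by omega)
  intro x hx
  refine (lTensor_exact M (LinearMap.exact_map_mkQ_range (cd P.complex (j + 1))) (Submodule.mkQ_surjective _) x).mp ?_
  apply lTensor_injective_of_flat (M := M) (dbar P j) (toC P j) (dbar_injective P j) (toC_surjective P j) (dbar_exact P j)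
  rw [map_zero, ← LinearMap.lTensor_comp_apply, dbar_comp]
  exact hx

end Groth.Agent.S14414
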