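import Groth.Statements.S14416
import Mathlib
import Groth.Agent.Lib.H2Decay

set_option autoImplicit false
universe u
open scoped TensorProduct
open CAlg

namespace Groth.Agent.S14416
open scoped TensorProduct
set_option linter.style.haveILetI false

/-- Let B → A be a ring map with A a finitely generated B-module such that for every prime ideal p of B
the fibre κ(p) ⊗_B A has dimension at most one over the residue field κ(p). Then B → A is
surjective. In scheme language: a finite morphism whose degree at every point of the target is 0 or
1 is a closed immersion. (The published statement assumes the two schemes Noetherian; that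
hypothesis plays no role and is dropped here.) -/
theorem result
    (B A : Type u) [CommRing B] [CommRing A] [Algebra B A] [Module.Finite B A]
    (h : ∀ p : PrimeSpectrum B,
      Module.finrank p.asIdeal.ResidueField (p.asIdeal.ResidueField ⊗[B] A) ≤ 1) :
    Function.Surjective (algebraMap B A) := by
  show Function.Surjective (Algebra.linearMap B A)
  rw [← LinearMap.range_eq_top, ← Submodule.Quotient.subsingleton_iff, ← Module.support_eq_empty_iff (R := B)]
  refine Set.eq_empty_iff_forall_notMem.2 fun p hp => ?_
  set κ := p.asIdeal.ResidueField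
  let Q := A ⧸ LinearMap.range (Algebra.linearMap B A)
  let π : A →ₗ[B] Q := Submodule.mkQ _
  haveI : Module.Finite B Q := Module.Finite.of_surjective π (Submodule.mkQ_surjective _)
  rw [Module.mem_support_iff_nontrivial_residueField_tensorProduct] at hp
  obtain ⟨q, hq⟩ := exists_ne (0 : κ ⊗[B] Q)
  obtain ⟨y, rfl⟩ := LinearMap.lTensor_surjective κ (Submodule.mkQ_surjective (LinearMap.range (Algebra.linearMap B A))) q
  haveI : Nontrivial (κ ⊗[B] A) := ⟨⟨y, 0, fun hy => hq (by rw [hy, map_zero])⟩⟩
  have hone : ((1 : κ) ⊗ₜ[B] (1 : A)) ≠ 0 := by rw [← Algebra.TensorProduct.one_def]; exact one_ne_zero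
  have hle : Module.finrank κ (κ ⊗[B] A) = 1 := le_antisymm (h p) (Module.finrank_pos)
  obtain ⟨c, hc⟩ := (finrank_eq_one_iff_of_nonzero' _ hone).1 hle y
  apply hq
  rw [← hc, TensorProduct.smul_tmul', smul_eq_mul, mul_one, LinearMap.lTensor_tmul]
  rw [show Submodule.mkQ (LinearMap.range (Algebra.linearMap B A)) (1 : A) = 0 from (Submodule.Quotient.mk_eq_zero _).2 ⟨1, map_one (algebraMap B A)⟩, TensorProduct.tmul_zero]

end Groth.Agent.S14416
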