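import Mathlib
import Groth.Statements.S14421
-- import your own Groth.Agent.* helpers here

set_option autoImplicit false
universe u v
open CategoryTheory
open HomAlg

namespace Groth.Agent.S14421

/-- Let φ : K → J be a morphism of cochain complexes of modules over a ring which is surjective in
degree p − 1. Then the map induced on cohomology in degree p is surjective if and only if the map
induced on cocycles in degree p is surjective. (Stated for cochain complexes indexed by the
integers; the published statement is for three-term complexes in degrees p − 1, p, p + 1, which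
embed as such complexes.) -/
theorem result {R : Type u} [Ring R]
    (K J : CochainComplex (ModuleCat.{v} R) ℤ) (φ : K ⟶ J) (p : ℤ) [Epi (φ.f (p - 1))] :
    Epi (HomologicalComplex.homologyMap φ p) ↔ Epi (HomologicalComplex.cyclesMap φ p) := by
  constructor
  · intro hH
    rw [Preadditive.epi_iff_cancel_zero]
    intro W h hh
    have hp : (ComplexShape.up ℤ).prev p = p - 1 := by simp
    have h1 : J.toCycles (p - 1) p ≫ h = 0 := by
      have h2 : φ.f (p - 1) ≫ J.toCycles (p - 1) p ≫ h = 0 := by
        have h3 : φ.f (p - 1) ≫ J.toCycles (p - 1) p = K.toCycles (p - 1) p ≫ HomologicalComplex.cyclesMap φ p := by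
          rw [← cancel_mono (J.iCycles p)]
          simp
        rw [reassoc_of% h3, hh, Limits.comp_zero]
      exact (cancel_epi (φ.f (p - 1))).1 (by rw [h2, Limits.comp_zero])
    obtain ⟨h', hh'⟩ := Limits.CokernelCofork.IsColimit.desc' (J.homologyIsCokernel (p - 1) p hp) h h1
    dsimp at hh'
    have h4 : h' = 0 := by
      apply (cancel_epi (K.homologyπ p ≫ HomologicalComplex.homologyMap φ p)).1
      rw [HomologicalComplex.homologyπ_naturality, Category.assoc, hh', hh, Limits.comp_zero]
    rw [← hh', h4, Limits.comp_zero]
  · intro hZ
    exact ShortComplex.epi_homologyMap_of_epi_cyclesMap' _ hZ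

end Groth.Agent.S14421
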