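import Groth.Statements.S14425
import Groth.Agent.Lib.H2Depth

set_option autoImplicit false
universe u
open LocCoh

namespace Groth.Agent.S14425
open Groth.Agent.H2Depth RingTheory.Sequence Pointwise in
private theorem exists_add_notMem {R : Type u} [CommRing R] (S : Finset (Ideal R)) (hS : ∀ p ∈ S, p.IsPrime)
    (x : R) (J : Ideal R) (h : ∀ p ∈ S, ¬ (J ⊔ Ideal.span {x}) ≤ p) : ∃ j ∈ J, ∀ p ∈ S, x + j ∉ p := by
  induction S using Finset.strongInduction with
  | _ S ih =>
    by_cases hinc : ∃ p ∈ S, ∃ q ∈ S, p ≠ q ∧ p ≤ q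
    · obtain ⟨p, hp, q, hq, hne, hle⟩ := hinc
      obtain ⟨j, hj, hjS⟩ := ih _ (Finset.erase_ssubset hp) (fun r hr => hS r (Finset.mem_of_mem_erase hr))
        (fun r hr => h r (Finset.mem_of_mem_erase hr))
      refine ⟨j, hj, fun r hr hmem => ?_⟩
      by_cases hrp : r = p
      · exact hjS q (Finset.mem_erase.2 ⟨hne.symm, hq⟩) (hle (hrp ▸ hmem))
      · exact hjS r (Finset.mem_erase.2 ⟨hrp, hr⟩) hmem
    push Not at hinc
    classical
    set T := S.filter (fun p => x ∈ p)
    set K := J * ∏ q ∈ S.filter (fun q => x ∉ q), q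
    have hK : ¬ (K : Set R) ⊆ ⋃ p ∈ (T : Set (Ideal R)), (p : Set R) := by
      intro hsub
      obtain ⟨p, hp, hle⟩ := (Ideal.subset_union_prime (f := fun p : Ideal R => p) ⊥ ⊥
        (fun p hp _ _ => hS p (Finset.mem_filter.1 hp).1)).1 hsub
      obtain ⟨hpS, hxp⟩ := Finset.mem_filter.1 hp
      rcases (hS p hpS).mul_le.1 hle with hJ | hQ
      · exact h p hpS (sup_le hJ ((Ideal.span_singleton_le_iff_mem _).2 hxp))
      · obtain ⟨q, hq, hqp⟩ := (hS p hpS).prod_le.1 hQ
        obtain ⟨hqS, hxq⟩ := Finset.mem_filter.1 hq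
        exact hinc q hqS p hpS (fun e => hxq (e ▸ hxp)) hqp
    obtain ⟨j, hj, hjT⟩ := Set.not_subset.1 hK
    have hj' : j ∈ J ∧ j ∈ ∏ q ∈ S.filter (fun q => x ∉ q), q := Ideal.mul_le_inf hj
    refine ⟨j, hj'.1, fun p hp hmem => ?_⟩
    by_cases hxp : x ∈ p
    · refine hjT (Set.mem_biUnion (Finset.mem_filter.2 ⟨hp, hxp⟩) ?_)
      simpa using Ideal.sub_mem _ hmem hxp
    · refine hxp ?_
      have hjp : j ∈ p := Ideal.prod_le_inf.trans (Finset.inf_le (f := fun q : Ideal R => q) (Finset.mem_filter.2 ⟨hp, hxp⟩)) hj'.2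
      simpa using Ideal.sub_mem _ hmem hjp

open RingTheory.Sequence Pointwise in
private theorem transfer {R : Type u} [CommRing R] {I : Ideal R} (z : ∀ y : R, y ∈ I → R) :
    ∀ (ys : List R) (N : Type u) [AddCommGroup N] [Module R N],
      (∀ y (hy : y ∈ I) (m : N), y • m = z y hy • m) → (h : ∀ r ∈ ys, r ∈ I) →
      IsWeaklyRegular N ys → IsWeaklyRegular N (ys.pmap z h) := by
  intro ys
  induction ys with
  | nil => intro N _ _ _ _ _; exact IsWeaklyRegular.nil R N
  | cons y ys ih =>
    intro N _ _ hz h hreg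
    rw [isWeaklyRegular_cons_iff] at hreg
    rw [List.pmap]
    refine IsWeaklyRegular.cons (fun a b hab => hreg.1 ?_) ?_
    · show y • a = y • b
      rw [hz y (h y (by simp)), hz y (h y (by simp))]; exact hab
    · have e : (z y (h y (by simp)) • (⊤ : Submodule R N)) = y • ⊤ := by
        ext m
        simp only [Submodule.mem_smul_pointwise_iff_exists, hz y (h y (by simp))]
      refine (LinearEquiv.isWeaklyRegular_congr (Submodule.quotEquivOfEq _ _ e) _).2
        (ih _ (fun y' hy' m => ?_) _ hreg.2)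
      obtain ⟨m, rfl⟩ := Submodule.Quotient.mk_surjective _ m
      rw [← Submodule.Quotient.mk_smul, ← Submodule.Quotient.mk_smul, hz y' hy']

open Groth.Agent.H2Depth RingTheory.Sequence Pointwise in
private theorem aux {R : Type u} [CommRing R] [IsNoetherianRing R] [IsLocalRing R] : ∀ (n : ℕ) (xs : List R)
    (M : Type u) [AddCommGroup M] [Module R M] [Module.Finite R M], xs.length = n →
    (∀ x ∈ xs, x ∈ IsLocalRing.maximalIdeal R) → HasReg (Ideal.span {x | x ∈ xs}) M n → IsWeaklyRegular M xs := by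
  intro n
  induction n with
  | zero =>
    intro xs M _ _ _ hlen _ _
    rw [List.length_eq_zero_iff.1 hlen]
    exact IsWeaklyRegular.nil R M
  | succ n ih =>
    intro xs M _ _ _ hlen hxs hreg
    obtain _ | ⟨x, xs⟩ := xs
    · simp at hlen
    simp only [List.length_cons, Nat.add_right_cancel_iff] at hlen
    have hIJ : Ideal.span {y | y ∈ x :: xs} = Ideal.ofList xs ⊔ Ideal.span {x} := by
      rw [show Ideal.span {y | y ∈ x :: xs} = Ideal.ofList (x :: xs) from rfl, Ideal.ofList_cons, sup_comm]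
    obtain ⟨r, hr, hrreg, -⟩ := hreg.exists_cons
    obtain ⟨j, hj, hjr⟩ := exists_add_notMem (associatedPrimes.finite R M).toFinset
      (fun p hp => ((Set.Finite.mem_toFinset _).1 hp).isPrime) x (Ideal.ofList xs) (fun p hp hle =>
        exists_notMem_of_hasRegElem (M := M) _ hr hrreg p ((Set.Finite.mem_toFinset _).1 hp) (hIJ ▸ hle))
    have hjreg : IsSMulRegular M (x + j) := by
      by_contra hc
      have hmem : x + j ∈ ⋃ p ∈ associatedPrimes R M, (p : Set R) := by
        rw [biUnion_associatedPrimes_eq_compl_regular]; exact hc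
      simp only [Set.mem_iUnion, SetLike.mem_coe, exists_prop] at hmem
      obtain ⟨p, hp, hxp⟩ := hmem
      exact hjr p ((Set.Finite.mem_toFinset _).2 hp) hxp
    have hxj : x + j ∈ Ideal.span {y | y ∈ x :: xs} := by
      rw [hIJ]; exact Ideal.add_mem _ (Ideal.mem_sup_right (Ideal.mem_span_singleton_self x)) (Ideal.mem_sup_left hj)
    obtain ⟨ys, hys, hysreg, hysmem⟩ := hreg.quot hxj hjreg
    have hmj : x + j ∈ IsLocalRing.maximalIdeal R := (Ideal.span_le.2 hxs) hxj
    -- express everything modulo `x + j`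
    have hIH : IsWeaklyRegular (QuotSMulTop (x + j) M) xs := by
      have key : ∀ y ∈ Ideal.span {y | y ∈ x :: xs}, ∃ z ∈ Ideal.span {y | y ∈ xs}, ∀ m : QuotSMulTop (x + j) M, y • m = z • m := by
        intro y hy
        rw [hIJ, Submodule.mem_sup] at hy
        obtain ⟨u, hu, v, hv, rfl⟩ := hy
        obtain ⟨c, rfl⟩ := Ideal.mem_span_singleton.1 hv
        refine ⟨u - c * j, Ideal.sub_mem _ hu (Ideal.mul_mem_left _ _ hj), fun m => ?_⟩
        have h0 : (x + j) • m = 0 := by
          obtain ⟨m, rfl⟩ := Submodule.Quotient.mk_surjective _ m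
          rw [← Submodule.Quotient.mk_smul, mk_eq_zero_iff_exists]
          exact ⟨m, rfl⟩
        rw [show u + x * c = (u - c * j) + c * (x + j) by ring, add_smul, mul_smul, h0, smul_zero, add_zero]
      refine ih xs _ hlen (fun y hy => hxs y (by simp [hy])) ?_
      choose z hz hzeq using key
      refine ⟨ys.pmap z hysmem, by simpa using hys, ?_, fun w hw => ?_⟩
      · exact transfer z ys _ hzeq hysmem hysreg
      · obtain ⟨a, ha, rfl⟩ := List.mem_pmap.1 hw
        exact hz a (hysmem a ha)
    have hp1 : IsWeaklyRegular M ((x + j) :: xs) := hIH.cons hjreg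
    have hp2 : IsWeaklyRegular M (xs ++ [x + j]) := IsLocalRing.isWeaklyRegular_of_perm_of_subset_maximalIdeal hp1
      (List.perm_append_singleton _ _).symm (fun y hy => (List.mem_cons.1 hy).elim (fun e => e ▸ hmj) fun h => hxs y (by simp [h]))
    rw [isWeaklyRegular_append_iff, isWeaklyRegular_singleton_iff] at hp2
    have hp3 : IsWeaklyRegular M (xs ++ [x]) := by
      rw [isWeaklyRegular_append_iff, isWeaklyRegular_singleton_iff]
      refine ⟨hp2.1, fun a b hab => hp2.2 ?_⟩
      show (x + j) • a = (x + j) • b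
      have hj0 : ∀ m : M ⧸ (Ideal.ofList xs • ⊤ : Submodule R M), j • m = 0 := by
        intro m
        obtain ⟨m, rfl⟩ := Submodule.Quotient.mk_surjective _ m
        exact (Submodule.Quotient.mk_eq_zero _).2 (Submodule.smul_mem_smul hj trivial)
      simpa [add_smul, hj0] using hab
    exact IsLocalRing.isWeaklyRegular_of_perm_of_subset_maximalIdeal hp3
      (List.perm_append_singleton _ _) (fun y hy => hxs y (by simpa [or_comm] using hy))

/-- Let (R, m) be a Noetherian local ring, M a nonzero finitely generated R-module and x_1, …, x_n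
elements of m generating the ideal a. Then depth(a, M) = n if and only if x_1, …, x_n is an
M-regular sequence (each x_i a non-zero-divisor on M/(x_1, …, x_{i-1})M; the condition (x)M ≠ M is
automatic here). -/
theorem result {R : Type u} [CommRing R] [IsNoetherianRing R] [IsLocalRing R]
    {M : Type u} [AddCommGroup M] [Module R M] [Module.Finite R M] [Nontrivial M]
    (xs : List R) (hxs : ∀ x ∈ xs, x ∈ IsLocalRing.maximalIdeal R) :
    LocCoh.idealDepth (Ideal.span {x | x ∈ xs}) M = xs.length ↔ RingTheory.Sequence.IsWeaklyRegular M xs := by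
  open Groth.Agent.H2Depth RingTheory.Sequence in
  have hI : Ideal.span {x | x ∈ xs} ≤ IsLocalRing.maximalIdeal R := Ideal.span_le.2 hxs
  have hne : ∀ (J : Ideal R), J ≤ IsLocalRing.maximalIdeal R → ∀ (N : Type u) [AddCommGroup N] [Module R N]
      [Module.Finite R N] [Nontrivial N], J • (⊤ : Submodule R N) ≠ ⊤ := fun J hJ N _ _ _ _ h =>
    Submodule.top_ne_ideal_smul_of_le_jacobson_annihilator (M := N)
      (hJ.trans (IsLocalRing.maximalIdeal_le_jacobson _)) h.symm
  constructor
  · intro h
    exact aux xs.length xs M rfl hxs ((hasReg_iff_le_idealDepth (hne _ hI M)).2 h.ge)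
  · intro h
    refine idealDepth_eq_length (hne _ hI M) h (fun r hr => Ideal.subset_span hr) fun r hr hreg => ?_
    haveI : Nontrivial (M ⧸ (Ideal.ofList xs • ⊤ : Submodule R M)) :=
      Submodule.Quotient.nontrivial_iff.2 (hne _ hI M)
    obtain ⟨m, hm⟩ := exists_ne (0 : M ⧸ (Ideal.ofList xs • ⊤ : Submodule R M))
    refine hm (hreg ?_)
    obtain ⟨m, rfl⟩ := Submodule.Quotient.mk_surjective _ m
    simp only [smul_zero, ← Submodule.Quotient.mk_smul, Submodule.Quotient.mk_eq_zero]
    exact Submodule.smul_mem_smul hr trivial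

end Groth.Agent.S14425
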