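import Groth.Statements.S14427
import Mathlib
import Groth.Agent.Lib.PointsIdeal
import Groth.Agent.Lib.PointsForms

set_option autoImplicit false
universe u
open MvPolynomial
open Groth.Agent.Points (lin lin_isHomogeneous eval_lin)
open Groth.Agent.PointsForms
open CAlgX

namespace Groth.Agent.S14427

/-- Let k be a field and Λ a set of n ≥ 3 nonzero vectors of k^3 which are pairwise linearly
independent, i.e. n distinct k-rational points of the projective plane. Then the space of
homogeneous forms of degree n − 1 in k[x_0, x_1, x_2] vanishing at every point of Λ — the global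
sections of I_Λ(n − 1) — has dimension C(n+1, 2) − n over k, the same for all such Λ. (The published
statement is over an algebraically closed field; this row allows any field and k-rational points,
which is all its argument uses.) -/
theorem result (k : Type u) [Field k] (n : ℕ) (hn : 3 ≤ n)
    (Λ : Finset (Fin 3 → k)) (hcard : Λ.card = n) (h0 : ∀ v ∈ Λ, v ≠ 0)
    (hdist : ∀ v ∈ Λ, ∀ w ∈ Λ, v ≠ w → LinearIndependent k ![v, w]) :
    Module.finrank k ↥(MvPolynomial.homogeneousSubmodule (Fin 3) k (n - 1) ⊓ ⨅ v ∈ Λ, LinearMap.ker (MvPolynomial.aeval v).toLinearMap) = Nat.choose (n + 1) 2 - n := by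
  classical
  set T := homogeneousSubmodule (Fin 3) k (n - 1) with hT
  set K : Submodule k (MvPolynomial (Fin 3) k) := ⨅ v ∈ Λ, LinearMap.ker (MvPolynomial.aeval v).toLinearMap
  haveI : Module.Finite k T := Module.Finite.iff_fg.mpr (by
    rw [hT]; exact weightedHomogeneousSubmodule_fg (R := k) (1 : Fin 3 → ℕ) (fun _ => one_ne_zero) (n - 1))
  let ev : T →ₗ[k] (Λ → k) := LinearMap.pi fun v => (aeval v.1).toLinearMap ∘ₗ T.subtype
  have hev : ∀ g v, ev g v = eval v.1 g.1 := fun g v => rfl
  have hsurj : Function.Surjective ev := by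
    rw [← LinearMap.range_eq_top, eq_top_iff]
    intro y _
    rw [pi_eq_sum_univ' y]
    refine Submodule.sum_mem _ fun v _ => Submodule.smul_mem _ _ ?_
    obtain ⟨g, hg, hg0, hgv⟩ := exists_prod (Λ.erase v.1) v.1 (fun w hw c hc => by
      obtain ⟨hwv, hw⟩ := Finset.mem_erase.mp hw
      have := (LinearIndependent.pair_iff.mp (hdist v.1 v.2 w hw hwv.symm) 1 (-c) (by simp [hc])).1
      exact one_ne_zero this)
    rw [Finset.card_erase_of_mem v.2, hcard] at hg
    refine ⟨(eval v.1 g)⁻¹ • ⟨g, hg⟩, funext fun w => ?_⟩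
    rw [map_smul, Pi.smul_apply, hev, smul_eq_mul]
    by_cases hwv : w = v
    · subst hwv
      rw [Pi.single_eq_same, inv_mul_cancel₀ hgv]
    · rw [Pi.single_eq_of_ne hwv, hg0 w.1 (Finset.mem_erase.mpr
        ⟨fun h => hwv (Subtype.ext h), w.2⟩), mul_zero]
  have hker : LinearMap.ker ev = Submodule.comap T.subtype (T ⊓ K) := by
    ext g
    simp only [LinearMap.mem_ker, Submodule.mem_comap, Submodule.mem_inf, Submodule.coe_subtype,
      g.2, true_and, K, mem_ker_iff, funext_iff, hev, Pi.zero_apply, Subtype.forall]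
  have h := LinearMap.finrank_range_add_finrank_ker ev
  rw [LinearMap.range_eq_top.mpr hsurj, finrank_top, Module.finrank_pi, Fintype.card_coe, hcard,
    hker, (Submodule.comapSubtypeEquivOfLe (inf_le_left : T ⊓ K ≤ T)).finrank_eq] at h
  rw [show Module.finrank k T = (n - 1 + 2).choose 2 from finrank_hom (n - 1),
    show n - 1 + 2 = n + 1 by omega] at h
  omega

end Groth.Agent.S14427
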