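import Groth.Statements.S14435
import Mathlib
import Groth.Agent.Lib.H2DepthMore
import Groth.Prelude.Def_DRing3

set_option autoImplicit false
universe u
open LocCoh

namespace Groth.Agent.S14435
set_option linter.style.haveILetI false
open TensorProduct RingTheory.Sequence Groth.Agent.H2Depth Groth.Agent.H2DepthMore
open scoped Pointwise

/-- Let (A, m) be a Noetherian local ring, φ : A → B a finite homomorphism of commutative rings, a ⊆ m
an ideal and M a finitely generated B-module. Then depth(a, M), computed over A, equals depth(aB,
M), computed over B (depths by regular sequences, ⊤ when aM = M). -/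
theorem result {A B : Type u} [CommRing A] [IsNoetherianRing A] [IsLocalRing A]
    [CommRing B] [Algebra A B] [Module.Finite A B] (a : Ideal A) (ha : a ≤ IsLocalRing.maximalIdeal A)
    (M : Type u) [AddCommGroup M] [Module B M] [Module A M] [IsScalarTower A B M] [Module.Finite B M] :
    LocCoh.idealDepth a M = LocCoh.idealDepth (a.map (algebraMap A B)) M := by
  haveI : Module.Finite A M := Module.Finite.trans B M
  haveI : IsNoetherianRing B := isNoetherian_of_tower A inferInstance
  set b := a.map (algebraMap A B)
  have hres : ∀ J : Ideal A, (J • (⊤ : Submodule A M) : Submodule A M) = ((J.map (algebraMap A B)) • (⊤ : Submodule B M)).restrictScalars A := fun J => by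
    rw [Ideal.smul_restrictScalars, Submodule.restrictScalars_top]
  by_cases hIM : a • (⊤ : Submodule A M) = ⊤
  · have hb : b • (⊤ : Submodule B M) = ⊤ := by
      rw [hres] at hIM
      exact Submodule.restrictScalars_injective A B M (hIM.trans (Submodule.restrictScalars_top A B M).symm)
    rw [LocCoh.idealDepth, LocCoh.idealDepth, if_pos hIM, if_pos hb]
  have hb : b • (⊤ : Submodule B M) ≠ ⊤ := fun h => hIM (by rw [hres, h, Submodule.restrictScalars_top])
  obtain ⟨ss, h1, h2, h3, h4⟩ := exists_idealDepth_eq hIM
  rw [h4, idealDepth_eq_length (rs := ss.map (algebraMap A B)) hb]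
  · simp
  · exact (isWeaklyRegular_map_algebraMap_iff B M ss).2 h1
  · intro r hr
    obtain ⟨s, hs, rfl⟩ := List.mem_map.1 hr
    exact Ideal.mem_map_of_mem _ (h2 s hs)
  · obtain ⟨u, hu, hku⟩ := exists_killed_of_noReg h3
    obtain ⟨u, rfl⟩ := Submodule.Quotient.mk_surjective _ u
    refine noReg_of_killed (u := Submodule.Quotient.mk u) ?_ ?_
    · rw [Ne, Submodule.Quotient.mk_eq_zero] at hu ⊢
      rwa [hres, Submodule.restrictScalars_mem, Ideal.map_ofList] at hu
    · intro r hr
      rw [← Submodule.Quotient.mk_smul, Submodule.Quotient.mk_eq_zero]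
      induction hr using Submodule.span_induction with
      | mem r hr =>
        obtain ⟨s, hs, rfl⟩ := hr
        have := hku s hs
        rw [← Submodule.Quotient.mk_smul, Submodule.Quotient.mk_eq_zero, hres, Submodule.restrictScalars_mem, Ideal.map_ofList] at this
        rwa [algebraMap_smul]
      | zero => simp
      | add x y _ _ hx hy => rw [add_smul]; exact add_mem hx hy
      | smul c x _ hx => rw [smul_eq_mul, mul_smul]; exact Submodule.smul_mem _ c hx

end Groth.Agent.S14435
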