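import Groth.Statements.S14436
import Mathlib

set_option autoImplicit false
universe u
open CAlg

namespace Groth.Agent.S14436
set_option maxHeartbeats 4000000
open TensorProduct

/-- Let L/K be a finitely generated field extension which is separable in the sense that it has a
transcendence basis a_1, …, a_n over which L is a (finite) separable extension of K(a_1, …, a_n).
Then dim_L Ω_{L/K} = n, the transcendence degree of L over K. -/
theorem result (K L : Type u) [Field K] [Field L] [Algebra K L]
    (hfg : ∃ s : Finset L, IntermediateField.adjoin K (s : Set L) = ⊤)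
    (n : ℕ) (a : Fin n → L) (ha : IsTranscendenceBasis K a)
    (hsep : Algebra.IsSeparable ↥(IntermediateField.adjoin K (Set.range a)) L) :
    Module.finrank L (Ω[L⁄K]) = n := by
  open scoped IntermediateField.algebraAdjoinAdjoin in
  haveI := hsep
  let P := MvPolynomial (Fin n) K
  let A := Algebra.adjoin K (Set.range a)
  let F := IntermediateField.adjoin K (Set.range a)
  haveI hAF : Algebra.FormallyEtale A F := .of_isLocalization (nonZeroDivisors _)
  haveI : Algebra.FormallyEtale F L := Algebra.FormallyEtale.of_isSeparable _ L
  haveI : Algebra.FormallyEtale A L := .comp A F L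
  let e := ha.1.aevalEquiv
  letI : Algebra P A := (e : P →ₐ[K] A).toRingHom.toAlgebra
  letI : Algebra P L := (MvPolynomial.aeval a : P →ₐ[K] L).toRingHom.toAlgebra
  haveI : IsScalarTower P A L := IsScalarTower.of_algebraMap_eq fun p => (AlgebraicIndependent.algebraMap_aevalEquiv ha.1 p).symm
  haveI : IsScalarTower K P L := IsScalarTower.of_algHom (MvPolynomial.aeval a : P →ₐ[K] L)
  let e' : P ≃ₐ[P] A := { e.toRingEquiv with commutes' := fun p => rfl }
  haveI : Algebra.FormallyEtale P A := Algebra.FormallyEtale.of_equiv e'
  haveI : Algebra.FormallyEtale P L := .comp P A L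
  let eK := KaehlerDifferential.tensorKaehlerEquivOfFormallyEtale K P L
  rw [← eK.finrank_eq, Module.finrank_eq_card_basis (Algebra.TensorProduct.basis L (KaehlerDifferential.mvPolynomialBasis K (Fin n))), Fintype.card_fin]

end Groth.Agent.S14436
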