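import Groth.Statements.S14457
import Groth.Agent.Lib.H2EtaleXn
import Mathlib

set_option autoImplicit false
universe u
open CAlg

namespace Groth.Agent.S14457
open Polynomial

open Polynomial in
/-- Let A be a commutative ring, a an element of A and n ≥ 1 an integer. The A-algebra A[T]/(T^n − a) is
etale exactly when either n = 1 or the product n·a is a unit of A. (The exponent n is a positive
integer here; for n = 0 the quotient is (A/(1 − a))[T] and the equivalence fails.) -/
theorem result (A : Type u) [CommRing A] (a : A) (n : ℕ) (hn : 1 ≤ n) :
    Algebra.Etale A (AdjoinRoot ((X : A[X]) ^ n - C a)) ↔ n = 1 ∨ IsUnit ((n : A) * a) := by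
  exact Groth.Agent.H2EtaleXn.etale_iff A a n hn

end Groth.Agent.S14457
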