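import Groth.Statements.S14458
import Mathlib

set_option autoImplicit false
universe u
open CAlg

namespace Groth.Agent.S14458
set_option linter.style.haveILetI false
open TensorProduct Polynomial

open TensorProduct in
/-- Let R be an Artinian local ring with residue field k and M an R-module, not necessarily finitely
generated. If M ⊗_R k = 0 then M = 0. -/
theorem result {R : Type u} [CommRing R]
    [IsArtinianRing R] [IsLocalRing R] (M : Type u) [AddCommGroup M] [Module R M]
    (h : Subsingleton ((IsLocalRing.ResidueField R) ⊗[R] M)) : Subsingleton M := by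
  obtain ⟨n, hn⟩ := (IsArtinianRing.isNilpotent_jacobson_bot (R := R))
  rw [IsLocalRing.jacobson_eq_maximalIdeal ⊥ bot_ne_top] at hn
  haveI : Subsingleton ((R ⧸ IsLocalRing.maximalIdeal R) ⊗[R] M) := h
  have h2 : Subsingleton (M ⧸ (IsLocalRing.maximalIdeal R • ⊤ : Submodule R M)) :=
    (TensorProduct.quotTensorEquivQuotSMul _ _).symm.toEquiv.subsingleton
  have h3 := Submodule.Quotient.subsingleton_iff.1 h2
  have h4 : ∀ k, (IsLocalRing.maximalIdeal R ^ k • ⊤ : Submodule R M) = ⊤ := by
    intro k; induction k with
    | zero => simp
    | succ k ih => rw [pow_succ, Submodule.mul_smul, h3, ih]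
  have := h4 n
  rw [hn, Submodule.zero_eq_bot, Submodule.bot_smul] at this
  exact (Submodule.subsingleton_iff R).1 (subsingleton_iff_bot_eq_top.1 this)

end Groth.Agent.S14458
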