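import Groth.Statements.S14479
import Mathlib

set_option autoImplicit false
universe u
open CharCyc

namespace Groth.Agent.S14479

/-- Let V be a finite-dimensional vector space over a field k. If dim V is even or the characteristic of
k is different from 2, there is a bilinear form B on V such that the bilinear form (v, w) ↦ B(v, w)
+ B(w, v) (B plus its transpose, as a map V → V^∨) is nondegenerate. -/
theorem result (k V : Type u) [Field k] [AddCommGroup V] [Module k V]
    [FiniteDimensional k V] (h : Even (Module.finrank k V) ∨ ringChar k ≠ 2) :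
    ∃ B : LinearMap.BilinForm k V, (B + B.flip).Nondegenerate := by
  classical
  rcases Decidable.em (ringChar k = 2) with h2 | h2
  · obtain ⟨m, hm⟩ := h.resolve_right (fun hne => hne h2)
    obtain ⟨e⟩ : Nonempty (V ≃ₗ[k] ((Fin m → k) × (Fin m → k))) :=
      ⟨LinearEquiv.ofFinrankEq _ _ (by simp [hm])⟩
    let B : LinearMap.BilinForm k V := LinearMap.mk₂ k (fun x y => (e x).1 ⬝ᵥ (e y).2)
      (by intros; simp [add_dotProduct]) (by intros; simp [smul_dotProduct])
      (by intros; simp [dotProduct_add]) (by intros; simp [dotProduct_smul])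
    have hsep : ∀ x, (∀ y, (e x).1 ⬝ᵥ (e y).2 + (e y).1 ⬝ᵥ (e x).2 = 0) → x = 0 := fun x hx => by
      apply e.injective
      rw [map_zero]
      refine Prod.ext (funext fun i => ?_) (funext fun i => ?_)
      · simpa using hx (e.symm (0, Pi.single i 1))
      · simpa using hx (e.symm (Pi.single i 1, 0))
    refine ⟨B, fun x hx => hsep x fun y => by simpa [B] using hx y, fun x hx => hsep x fun y => ?_⟩
    rw [← hx y]
    simp only [B, LinearMap.add_apply, LinearMap.flip_apply, LinearMap.mk₂_apply]
    exact add_comm _ _
  · obtain ⟨e⟩ : Nonempty (V ≃ₗ[k] (Fin (Module.finrank k V) → k)) :=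
      ⟨LinearEquiv.ofFinrankEq _ _ (by simp)⟩
    let B : LinearMap.BilinForm k V := LinearMap.mk₂ k (fun x y => e x ⬝ᵥ e y)
      (by intros; simp [add_dotProduct]) (by intros; simp [smul_dotProduct])
      (by intros; simp [dotProduct_add]) (by intros; simp [dotProduct_smul])
    have hsep : ∀ x, (∀ y, e x ⬝ᵥ e y + e x ⬝ᵥ e y = 0) → x = 0 := fun x hx => by
      apply e.injective
      rw [map_zero]
      funext i
      have := hx (e.symm (Pi.single i 1))
      rw [← two_mul] at this
      simpa [Ring.two_ne_zero h2] using this
    refine ⟨B, fun x hx => hsep x fun y => ?_, fun x hx => hsep x fun y => ?_⟩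
    · simpa [B, dotProduct_comm (e y)] using hx y
    · simpa [B, dotProduct_comm (e y)] using hx y

end Groth.Agent.S14479
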