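import Groth.Statements.S14491
import Mathlib

set_option autoImplicit false
set_option backward.isDefEq.respectTransparency.types false
set_option maxHeartbeats 1000000
set_option linter.all false
universe w v u
open DerTri

namespace Groth.Agent.S14491
open Groth.Agent CategoryTheory.Pretriangulated

open CategoryTheory Pretriangulated in
/-- In the derived category D(C) of an abelian category C, let E ⟶ F ⟶ G be two morphisms with E
concentrated in non-positive degrees and G concentrated in non-negative degrees for the canonical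
t-structure. If two morphisms G ⟶ E⟦1⟧ both complete E ⟶ F ⟶ G to a distinguished triangle, then
they are equal. (The published statement is phrased with the morphism G⟦-1⟧ ⟶ E of the triangle
G⟦-1⟧ ⟶ E ⟶ F ⟶ G; this row uses the equivalent connecting morphism G ⟶ E⟦1⟧ of the rotated
triangle.) -/
theorem result {C : Type u} [Category.{v} C] [Abelian C]
    [HasDerivedCategory.{w} C] {E F G : DerivedCategory C} (u : E ⟶ F) (v : F ⟶ G)
    [E.IsLE 0] [G.IsGE 0] (w w' : G ⟶ E⟦(1 : ℤ)⟧)
    (hw : Triangle.mk u v w ∈ distTriang (DerivedCategory C))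
    (hw' : Triangle.mk u v w' ∈ distTriang (DerivedCategory C)) :
    w = w' := by
  obtain ⟨c', h1, h2⟩ := Pretriangulated.complete_distinguished_triangle_morphism _ _ hw hw' (𝟙 E) (𝟙 F) ((Category.comp_id u).trans (Category.id_comp u).symm)
  let c : G ⟶ G := c'
  have h1' : v ≫ c = 𝟙 F ≫ v := h1
  have h2' : w ≫ (𝟙 E)⟦(1 : ℤ)⟧' = c ≫ w' := h2
  have h3 : v ≫ (c - 𝟙 G) = 0 := by rw [Preadditive.comp_sub, h1', Category.id_comp, Category.comp_id, sub_self]
  obtain ⟨h', hh'⟩ := Triangle.yoneda_exact₃ _ hw (c - 𝟙 G) h3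
  let h : E⟦(1 : ℤ)⟧ ⟶ G := h'
  have hh : c - 𝟙 G = w ≫ h := hh'
  have h0 : h = 0 := by
    haveI : (DerivedCategory.TStructure.t (C := C)).IsLE (E⟦(1 : ℤ)⟧) (-1) := DerivedCategory.TStructure.t.isLE_shift E 0 1 (-1) (by omega)
    exact DerivedCategory.TStructure.t.zero_of_isLE_of_isGE h (-1) 0 (by omega) inferInstance inferInstance
  rw [h0, Limits.comp_zero, sub_eq_zero] at hh
  rw [hh, Category.id_comp, CategoryTheory.Functor.map_id, Category.comp_id] at h2'
  exact h2'

end Groth.Agent.S14491
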