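import Groth.Statements.S14493
import Mathlib
import Groth.Agent.Lib.H6.IndCofExt

set_option autoImplicit false
set_option backward.isDefEq.respectTransparency.types false
set_option maxHeartbeats 1000000
set_option linter.all false
universe v
open IndCof

namespace Groth.Agent.S14493
open Groth.Agent
open CategoryTheory CategoryTheory.Limits

open CategoryTheory CategoryTheory.Limits in
/-- Let C be a small abelian category all of whose objects are Artinian and killed by some power of a
prime p. The ind-objects of cofinite type (those A in Ind C with every p^n-torsion sub-object A[p^n]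
isomorphic to an object of C) form an abelian subcategory of Ind C: for a morphism f : A ⟶ B between
ind-objects of cofinite type, the kernel and the cokernel of f in Ind C are of cofinite type. -/
theorem result {C : Type v} [SmallCategory C] [Abelian C]
    (hart : ∀ X : C, IsArtinianObject X) (p : ℕ) (hp : p.Prime)
    (htor : ∀ X : C, ∃ n : ℕ, (p ^ n) • 𝟙 X = 0)
    (A B : Ind C) (hA : ∀ n : ℕ, (Ind.yoneda (C := C)).essImage (kernel ((p ^ n) • 𝟙 A))) (hB : ∀ n : ℕ, (Ind.yoneda (C := C)).essImage (kernel ((p ^ n) • 𝟙 B))) (f : A ⟶ B) :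
    (∀ n : ℕ, (Ind.yoneda (C := C)).essImage (kernel ((p ^ n) • 𝟙 (kernel f)))) ∧
      (∀ n : ℕ, (Ind.yoneda (C := C)).essImage (kernel ((p ^ n) • 𝟙 (cokernel f)))) := by
    have htor' : ∀ X : C, ∃ k : ℕ, 0 < k ∧ k • 𝟙 X = 0 := fun X =>
      let ⟨k, hk⟩ := htor X
      ⟨p ^ k, pow_pos hp.pos k, hk⟩
    exact ⟨fun n => H6IC.mem_kernel_smul_kernel f _ (hA n) (hB n), fun n =>
      H6IC.mem_kernel_smul_cokernel hart htor' f (p ^ n) (pow_pos hp.pos n)
        (fun j => by rw [← pow_mul]; exact hA _) (fun j => by rw [← pow_mul]; exact hB _)⟩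

end Groth.Agent.S14493
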