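import Groth.Statements.S14494
import Mathlib
import Groth.Agent.Lib.H6.IndCof

set_option autoImplicit false
set_option backward.isDefEq.respectTransparency.types false
set_option maxHeartbeats 1000000
set_option linter.all false
universe v
open IndCof

namespace Groth.Agent.S14494
open Groth.Agent
open CategoryTheory CategoryTheory.Limits

open CategoryTheory CategoryTheory.Limits in
/-- Let C be a small abelian category all of whose objects are Artinian and killed by some power of a
prime p, and let A be an ind-object of C of cofinite type (every A[p^n] is isomorphic to an object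
of C). Then the decreasing sequence of sub-objects ⋯ ⊆ p²A ⊆ pA ⊆ A stabilizes: the image of
multiplication by p^n on A is the same sub-object for all large n. -/
theorem result {C : Type v} [SmallCategory C] [Abelian C]
    (hart : ∀ X : C, IsArtinianObject X) (p : ℕ) (hp : p.Prime)
    (htor : ∀ X : C, ∃ n : ℕ, (p ^ n) • 𝟙 X = 0)
    (A : Ind C) (hA : ∀ n : ℕ, (Ind.yoneda (C := C)).essImage (kernel ((p ^ n) • 𝟙 A))) :
    ∃ N : ℕ, ∀ n : ℕ, N ≤ n →
      imageSubobject ((p ^ n) • 𝟙 A) = imageSubobject ((p ^ N) • 𝟙 A) := by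
    have htor' : ∀ X : C, ∃ k : ℕ, 0 < k ∧ k • 𝟙 X = 0 := fun X =>
      let ⟨k, hk⟩ := htor X
      ⟨p ^ k, pow_pos hp.pos k, hk⟩
    obtain ⟨N, hN⟩ := H6IC.exists_stable hart htor' A p hp.pos hA
    refine ⟨N, fun n hn => le_antisymm ?_ ?_⟩
    · rw [H6El.imageSubobject_le_iff (H6IC.Φ C)]
      intro x
      obtain ⟨c, rfl⟩ := Nat.exists_eq_add_of_le hn
      exact ⟨p ^ c • x, by rw [H6El.map_nsmul_id, H6El.map_nsmul_id, smul_smul, ← pow_add]⟩
    · rw [H6El.imageSubobject_le_iff (H6IC.Φ C)]
      intro x
      obtain ⟨y, hy⟩ := hN n x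
      exact ⟨y, by rw [H6El.map_nsmul_id, H6El.map_nsmul_id, hy]⟩

end Groth.Agent.S14494
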