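import Groth.Statements.S14495
import Mathlib
import Groth.Agent.Lib.H6.IndCof

set_option autoImplicit false
set_option backward.isDefEq.respectTransparency.types false
set_option maxHeartbeats 1000000
set_option linter.all false
universe v
open IndCof

namespace Groth.Agent.S14495
open Groth.Agent
open CategoryTheory CategoryTheory.Limits

open CategoryTheory CategoryTheory.Limits in
/-- Let C be a small abelian category all of whose objects are Artinian and killed by some power of a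
prime p. The abelian category of ind-objects of C of cofinite type (those A with every A[p^n]
isomorphic to an object of C) is Artinian: for A of cofinite type, every decreasing chain of
sub-objects of A in Ind C whose underlying objects are of cofinite type is eventually constant.
(Sub-objects of A in the full subcategory of cofinite-type objects are exactly such sub-objects,
since that subcategory is stable under kernels in Ind C.) -/
theorem result {C : Type v} [SmallCategory C] [Abelian C]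
    (hart : ∀ X : C, IsArtinianObject X) (p : ℕ) (hp : p.Prime)
    (htor : ∀ X : C, ∃ n : ℕ, (p ^ n) • 𝟙 X = 0)
    (A : Ind C) (hA : ∀ n : ℕ, (Ind.yoneda (C := C)).essImage (kernel ((p ^ n) • 𝟙 A))) (S : ℕ → Subobject A) (hS : Antitone S)
    (hcof : ∀ m n : ℕ, (Ind.yoneda (C := C)).essImage
      (kernel ((p ^ n) • 𝟙 ((S m : Subobject A) : Ind C)))) :
    ∃ N : ℕ, ∀ m : ℕ, N ≤ m → S m = S N := by
    have htor' : ∀ X : C, ∃ k : ℕ, 0 < k ∧ k • 𝟙 X = 0 := fun X =>
      let ⟨k, hk⟩ := htor X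
      ⟨p ^ k, pow_pos hp.pos k, hk⟩
    let Φ := H6IC.Φ C
    choose N hN using fun m => H6IC.exists_stable hart htor' ((S m : Subobject A) : Ind C) p hp.pos (hcof m)
    let ι : ∀ m, Φ.obj ((S m : Subobject A) : Ind C) → Φ.obj A := fun m x => (Φ.map (S m).arrow).hom x
    have hι : ∀ m, Function.Injective (ι m) := fun m => H6El.inj Φ (S m).arrow
    have ιs : ∀ m k x, ι m (k • x) = k • ι m x := fun m k x => map_nsmul _ _ _
    have ιa : ∀ m x y, ι m (x + y) = ι m x + ι m y := fun m x y => map_add _ _ _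
    have ιb : ∀ m x y, ι m (x - y) = ι m x - ι m y := fun m x y => map_sub _ _ _
    have hincl : ∀ m l (h : m ≤ l) x, ι m ((Φ.map (Subobject.ofLE _ _ (hS h))).hom x) = ι l x := fun m l h x => by
      show (Φ.map (S m).arrow).hom _ = _
      rw [← H6El.map_comp' Φ, Subobject.ofLE_arrow]
    let D : ℕ → Φ.obj A → Prop := fun m a => ∃ x, ι m (p ^ N m • x) = a
    have decr : ∀ m l, m ≤ l → ∀ a, D l a → D m a := by
      rintro m l h a ⟨x, rfl⟩
      obtain ⟨y, hy⟩ := hN l (N m) x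
      exact ⟨(Φ.map (Subobject.ofLE _ _ (hS h))).hom y, by rw [ιs, hincl m l h, ← ιs, hy]⟩
    have dsub : ∀ m a b, D m a → D m b → D m (a - b) := by
      rintro m a b ⟨x, rfl⟩ ⟨y, rfl⟩
      exact ⟨x - y, by rw [smul_sub, ιb]⟩
    have dadd : ∀ m a b, D m a → D m b → D m (a + b) := by
      rintro m a b ⟨x, rfl⟩ ⟨y, rfl⟩
      exact ⟨x + y, by rw [smul_add, ιa]⟩
    have divis : ∀ m a j, D m a → ∃ b, D m b ∧ p ^ j • b = a := by
      rintro m a j ⟨x, rfl⟩
      obtain ⟨y, hy⟩ := hN m (N m + j) x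
      exact ⟨ι m (p ^ N m • y), ⟨y, rfl⟩, by rw [← ιs, smul_smul, ← pow_add, add_comm, hy]⟩
    let u : ∀ m, kernel ((p ^ (N m + 1)) • 𝟙 ((S m : Subobject A) : Ind C)) ⟶ kernel ((p ^ 1) • 𝟙 A) := fun m =>
      kernel.lift _ (kernel.ι _ ≫ ((p ^ N m) • 𝟙 _) ≫ (S m).arrow) (by
        refine H6El.eq_zero_of Φ _ fun z => ?_
        rw [H6El.map_comp' Φ, H6El.map_nsmul_id Φ, H6El.map_comp' Φ, H6El.map_comp' Φ, H6El.map_nsmul_id Φ,
          ← map_nsmul, smul_smul, ← pow_add, add_comm, ← H6El.map_nsmul_id Φ (p ^ (N m + 1)),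
          H6El.apply_of_comp_eq_zero Φ (kernel.condition _), map_zero])
    have hu : ∀ m z, (Φ.map (kernel.ι ((p ^ 1) • 𝟙 A))).hom ((Φ.map (u m)).hom z) =
        ι m (p ^ N m • (Φ.map (kernel.ι ((p ^ (N m + 1)) • 𝟙 ((S m : Subobject A) : Ind C)))).hom z) := fun m z => by
      rw [← H6El.map_comp' Φ, kernel.lift_ι, H6El.map_comp' Φ, H6El.map_comp' Φ, H6El.map_nsmul_id Φ]
    have hu' : ∀ m a, D m a → p • a = 0 → ∃ z, (Φ.map (kernel.ι ((p ^ 1) • 𝟙 A))).hom ((Φ.map (u m)).hom z) = a := by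
      rintro m a ⟨x, rfl⟩ hp0
      obtain ⟨z, hz⟩ := H6El.exists_kernel_ι Φ ((p ^ (N m + 1)) • 𝟙 _) x (by
        rw [H6El.map_nsmul_id Φ]
        apply hι m
        rw [pow_succ', mul_smul, ιs, hp0]
        exact (map_zero _).symm)
      exact ⟨z, by rw [hu, hz]⟩
    have kill1 : ∀ z, p • (Φ.map (kernel.ι ((p ^ 1) • 𝟙 A))).hom z = 0 := fun z => by
      have := H6El.apply_of_comp_eq_zero Φ (kernel.condition ((p ^ 1) • 𝟙 A)) z
      rw [H6El.map_nsmul_id Φ] at this
      exact (congrArg (fun q => q • _) (pow_one p).symm).trans this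
    obtain ⟨M, hM⟩ := H6IC.artin_chain hart (hA 1) _ (fun m => hcof m (N m + 1)) u fun m l h z => by
      obtain ⟨z', hz'⟩ := hu' m _ (decr m l h _ ⟨_, (hu l z).symm⟩) (kill1 _)
      exact ⟨z', H6El.inj Φ (kernel.ι ((p ^ 1) • 𝟙 A)) hz'⟩
    have key : ∀ j l, ∀ a, D M a → p ^ j • a = 0 → D l a := by
      intro j l
      induction j with
      | zero => intro a _ ha; exact ⟨0, by rw [smul_zero]; exact (map_zero _).trans (by simpa using ha.symm)⟩
      | succ j ih =>
        intro a hDa ha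
        obtain ⟨x, hx⟩ := hDa
        have hd : D M (p ^ j • a) := ⟨p ^ j • x, by rw [← hx, smul_comm, ιs M (p ^ j)]⟩
        obtain ⟨z, hz⟩ := hu' M _ hd (by rw [smul_smul, ← pow_succ', ha])
        obtain ⟨z', hz'⟩ := hM M l le_rfl z
        have hdl : D l (p ^ j • a) := ⟨_, by rw [← hu, hz', hz]⟩
        obtain ⟨b, hb, hb'⟩ := divis l _ j hdl
        by_cases hl : M ≤ l
        · have := dadd l _ _ (ih (a - b) (dsub M _ _ ⟨x, hx⟩ (decr M l hl b hb)) (by rw [smul_sub, hb', sub_self])) hb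
          rwa [sub_add_cancel] at this
        · exact decr l M (by omega) a ⟨x, hx⟩
    have all : ∀ l a, D M a → D l a := by
      rintro l a ⟨x, rfl⟩
      have h0 : (((p ^ N M) • 𝟙 _) ≫ (S M).arrow) ≫
          cokernel.π (((p ^ N l) • 𝟙 _) ≫ (S l).arrow) = 0 := by
        refine Ind.isSeparating_range_yoneda _ 0 fun G hG g => ?_
        obtain ⟨X⟩ := hG
        obtain ⟨k, hk⟩ := htor X
        rw [comp_zero]
        refine H6El.eq_zero_of Φ _ fun z => ?_
        rw [H6El.map_comp' Φ, H6El.map_comp' Φ, H6El.map_comp' Φ, H6El.map_nsmul_id Φ]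
        obtain ⟨y, hy⟩ := key k l (ι M (p ^ N M • (Φ.map g).hom z)) ⟨_, rfl⟩ (by
          rw [← ιs, smul_comm, ← map_nsmul, ← H6El.map_nsmul_id Φ (p ^ k) z,
            show (p ^ k) • 𝟙 (Ind.yoneda.obj X) = 0 by rw [← Ind.yoneda.map_id, ← Functor.map_nsmul, hk, Functor.map_zero],
            H6El.map_zero' Φ, map_zero, smul_zero]
          exact map_zero _)
        show (Φ.map (cokernel.π _)).hom (ι M _) = 0
        rw [← hy, show ι l (p ^ N l • y) = (Φ.map (((p ^ N l) • 𝟙 _) ≫ (S l).arrow)).hom y by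
          rw [H6El.map_comp' Φ, H6El.map_nsmul_id Φ]]
        exact H6El.apply_of_comp_eq_zero Φ (cokernel.condition _) y
      obtain ⟨y, hy⟩ := (H6El.comp_cokernel_π_eq_zero_iff Φ _ _).1 h0 x
      rw [H6El.map_comp' Φ, H6El.map_comp' Φ, H6El.map_nsmul_id Φ, H6El.map_nsmul_id Φ] at hy
      exact ⟨y, hy⟩
    have hmemQ : ∀ l, H6IC.Mem (cokernel ((p ^ N l) • 𝟙 ((S l : Subobject A) : Ind C))) := fun l =>
      H6IC.mem_cokernel_smul hart htor' _ _ (pow_pos hp.pos _) fun j => by rw [← pow_mul]; exact hcof l _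
    let v : ∀ k, cokernel ((p ^ N (M + k)) • 𝟙 ((S (M + k) : Subobject A) : Ind C)) ⟶
        cokernel ((p ^ N M) • 𝟙 ((S M : Subobject A) : Ind C)) := fun k =>
      cokernel.desc _ (Subobject.ofLE _ _ (hS (Nat.le_add_right M k)) ≫ cokernel.π _) (by
        refine H6El.eq_zero_of Φ _ fun z => ?_
        rw [H6El.map_comp' Φ, H6El.map_nsmul_id Φ, H6El.map_comp' Φ]
        obtain ⟨y, hy⟩ := decr M (M + k) (Nat.le_add_right M k) _ ⟨z, rfl⟩
        rw [show (Φ.map (Subobject.ofLE _ _ (hS (Nat.le_add_right M k)))).hom (p ^ N (M + k) • z) = p ^ N M • y from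
          hι M (by rw [hincl M (M + k) (Nat.le_add_right M k), hy]), ← H6El.map_nsmul_id Φ]
        exact H6El.apply_of_comp_eq_zero Φ (cokernel.condition _) y)
    have hv : ∀ k x, (Φ.map (v k)).hom ((Φ.map (cokernel.π _)).hom x) =
        (Φ.map (cokernel.π ((p ^ N M) • 𝟙 ((S M : Subobject A) : Ind C)))).hom
          ((Φ.map (Subobject.ofLE _ _ (hS (Nat.le_add_right M k)))).hom x) := fun k x => by
      rw [← H6El.map_comp' Φ, cokernel.π_desc, H6El.map_comp' Φ]
    obtain ⟨K, hK⟩ := H6IC.artin_chain hart (hmemQ M) _ (fun k => hmemQ (M + k)) v fun k l h c => by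
      obtain ⟨x, rfl⟩ := H6El.surj Φ (cokernel.π _) c
      refine ⟨(Φ.map (cokernel.π _)).hom ((Φ.map (Subobject.ofLE _ _ (hS (by omega : M + k ≤ M + l)))).hom x), ?_⟩
      rw [hv, hv, ← H6El.map_comp' Φ (Subobject.ofLE _ _ _) (Subobject.ofLE _ _ _), Subobject.ofLE_comp_ofLE]
    refine ⟨M + K, fun l hl => le_antisymm (hS hl) ((H6El.le_iff Φ _ _).2 fun x => ?_)⟩
    obtain ⟨k, rfl⟩ := Nat.exists_eq_add_of_le (Nat.le_of_add_right_le hl : M ≤ l)
    obtain ⟨c, hc⟩ := hK K k le_rfl ((Φ.map (cokernel.π _)).hom x)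
    obtain ⟨y, rfl⟩ := H6El.surj Φ (cokernel.π _) c
    rw [hv, hv, ← sub_eq_zero, ← map_sub] at hc
    obtain ⟨w, hw⟩ := H6El.exists_of_cokernel_π Φ _ _ hc
    rw [H6El.map_nsmul_id Φ] at hw
    obtain ⟨w', hw'⟩ := all (M + k) _ ⟨w, rfl⟩
    refine ⟨y - p ^ N (M + k) • w', ?_⟩
    show ι (M + k) (y - _) = ι (M + K) x
    rw [ιb, hw', hw, ιb, hincl M (M + k) (Nat.le_add_right M k), hincl M (M + K) (Nat.le_add_right M K), sub_sub_cancel]

end Groth.Agent.S14495
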