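import Groth.Statements.S14496
import Mathlib
import Groth.Agent.Lib.H6.IndCof

set_option autoImplicit false
set_option backward.isDefEq.respectTransparency.types false
set_option maxHeartbeats 1000000
set_option linter.all false
universe v
open IndCof

namespace Groth.Agent.S14496
open Groth.Agent
open CategoryTheory CategoryTheory.Limits

open CategoryTheory CategoryTheory.Limits in
/-- Let C be a small abelian category all of whose objects are Artinian and killed by some power of a
prime p, and A an ind-object of C of cofinite type. Let N be such that p^n A = p^N A for all n ≥ N,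
so that the divisible part A_div = ⋂ p^n A equals p^N A. Then A_div is of cofinite type and
divisible (multiplication by p on it is an epimorphism; integers prime to p act invertibly on every
ind-object here, so this is divisibility by all positive integers); it is the largest divisible
sub-object of A; and A / A_div is the largest quotient of A lying in C: every epimorphism from A
onto an object isomorphic to an object of C vanishes on A_div. (The row takes the stabilization
index N as a hypothesis instead of forming the intersection; that A / A_div itself lies in C is the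
statement about A / p^N A and is not repeated here.) -/
theorem result {C : Type v} [SmallCategory C] [Abelian C]
    (hart : ∀ X : C, IsArtinianObject X) (p : ℕ) (hp : p.Prime)
    (htor : ∀ X : C, ∃ n : ℕ, (p ^ n) • 𝟙 X = 0)
    (A : Ind C) (hA : ∀ n : ℕ, (Ind.yoneda (C := C)).essImage (kernel ((p ^ n) • 𝟙 A))) (N : ℕ)
    (hN : ∀ n : ℕ, N ≤ n → imageSubobject ((p ^ n) • 𝟙 A) = imageSubobject ((p ^ N) • 𝟙 A)) :
    (∀ n : ℕ, (Ind.yoneda (C := C)).essImage
        (kernel ((p ^ n) • 𝟙 ((imageSubobject ((p ^ N) • 𝟙 A) : Subobject A) : Ind C)))) ∧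
      Epi (p • 𝟙 ((imageSubobject ((p ^ N) • 𝟙 A) : Subobject A) : Ind C)) ∧
      (∀ D : Subobject A, Epi (p • 𝟙 (D : Ind C)) → D ≤ imageSubobject ((p ^ N) • 𝟙 A)) ∧
      (∀ (Q : Ind C) (q : A ⟶ Q), Epi q → (Ind.yoneda (C := C)).essImage Q →
        (imageSubobject ((p ^ N) • 𝟙 A)).arrow ≫ q = 0) := by
    have htor' : ∀ X : C, ∃ k : ℕ, 0 < k ∧ k • 𝟙 X = 0 := fun X =>
      let ⟨k, hk⟩ := htor X
      ⟨p ^ k, pow_pos hp.pos k, hk⟩
    have hmem : H6IC.Mem (cokernel ((p ^ N) • 𝟙 A)) :=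
      H6IC.mem_cokernel_smul hart htor' A _ (pow_pos hp.pos _) fun j => by rw [← pow_mul]; exact hA _
    let Φ := H6IC.Φ C
    let B : Ind C := ((imageSubobject ((p ^ N) • 𝟙 A) : Subobject A) : Ind C)
    let ι : B ⟶ A := (imageSubobject ((p ^ N) • 𝟙 A)).arrow
    let e : A ⟶ B := factorThruImageSubobject ((p ^ N) • 𝟙 A)
    have he : ∀ a, (Φ.map ι).hom ((Φ.map e).hom a) = p ^ N • a := fun a => by
      rw [← H6El.map_comp' Φ, imageSubobject_arrow_comp, H6El.map_nsmul_id Φ]
    have hrng : ∀ b, ∃ a, (Φ.map ι).hom b = p ^ N • a := fun b => by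
      obtain ⟨a, rfl⟩ := H6El.surj Φ e b
      exact ⟨a, he a⟩
    have hdiv : ∀ n a, ∃ a', p ^ (N + n) • a' = p ^ N • (a : Φ.obj A) := fun n a => by
      have h := (H6El.imageSubobject_le_iff Φ _ _).1 (hN (N + n) (Nat.le_add_right N n)).ge a
      obtain ⟨a', ha'⟩ := h
      exact ⟨a', by rw [← H6El.map_nsmul_id Φ, ha', H6El.map_nsmul_id Φ]⟩
    refine ⟨fun n => ?_, ?_, fun D hD => ?_, fun Q q _ hQ => ?_⟩
    · let u : kernel ((p ^ n) • 𝟙 B) ⟶ kernel ((p ^ n) • 𝟙 A) :=
        kernel.map ((p ^ n) • 𝟙 B) _ ι ι (by simp)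
      let v : kernel ((p ^ n) • 𝟙 A) ⟶ cokernel ((p ^ N) • 𝟙 A) := kernel.ι _ ≫ cokernel.π _
      have hu : ∀ z, (Φ.map (kernel.ι ((p ^ n) • 𝟙 A))).hom ((Φ.map u).hom z) =
          (Φ.map ι).hom ((Φ.map (kernel.ι ((p ^ n) • 𝟙 B))).hom z) := fun z => by
        rw [← H6El.map_comp' Φ, kernel.lift_ι, H6El.map_comp' Φ]
      have huv : u ≫ v = 0 := H6El.eq_zero_of Φ _ fun z => by
        obtain ⟨a, ha⟩ := hrng ((Φ.map (kernel.ι ((p ^ n) • 𝟙 B))).hom z)
        rw [H6El.map_comp' Φ, H6El.map_comp' Φ, hu, ha, ← H6El.map_nsmul_id Φ]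
        exact H6El.apply_of_comp_eq_zero Φ (cokernel.condition _) a
      let w : kernel ((p ^ n) • 𝟙 B) ⟶ kernel v := kernel.lift v u huv
      haveI : Mono w := H6El.mono_of Φ w fun z z' h => by
        apply H6El.inj Φ (kernel.ι ((p ^ n) • 𝟙 B))
        apply H6El.inj Φ ι
        rw [← hu, ← hu, show u = w ≫ kernel.ι v from (kernel.lift_ι _ _ _).symm, H6El.map_comp' Φ, H6El.map_comp' Φ, h]
      haveI : Epi w := H6El.epi_of Φ w fun c => by
        have hc := H6El.apply_of_comp_eq_zero Φ (kernel.condition v) c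
        rw [H6El.map_comp' Φ] at hc
        obtain ⟨a, ha⟩ := H6El.exists_of_cokernel_π Φ _ _ hc
        rw [H6El.map_nsmul_id Φ, ← he] at ha
        obtain ⟨z, hz⟩ := H6El.exists_kernel_ι Φ ((p ^ n) • 𝟙 B) ((Φ.map e).hom a) (by
          apply H6El.inj Φ ι
          rw [H6El.map_nsmul_id Φ, map_nsmul, ha, map_zero, ← H6El.map_nsmul_id Φ (p ^ n),
            H6El.apply_of_comp_eq_zero Φ (kernel.condition _)])
        refine ⟨z, H6El.inj Φ (kernel.ι v) (H6El.inj Φ (kernel.ι ((p ^ n) • 𝟙 A)) ?_)⟩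
        rw [← H6El.map_comp' Φ w, kernel.lift_ι, hu, hz, ha]
      haveI : IsIso w := isIso_of_mono_of_epi w
      exact H6IC.mem_iso (asIso w).symm (H6IC.mem_kernel v (hA n) hmem)
    · refine H6El.epi_of Φ _ fun b => ?_
      obtain ⟨a, ha⟩ := hrng b
      obtain ⟨a', ha'⟩ := hdiv 1 a
      refine ⟨(Φ.map e).hom a', H6El.inj Φ ι ?_⟩
      rw [H6El.map_nsmul_id Φ, map_nsmul, he, ha, ← ha', smul_smul, ← pow_succ']
    · refine (H6El.le_iff Φ _ _).2 fun d => ?_
      have key : ∀ k, ∀ d, ∃ d' : Φ.obj (D : Ind C), p ^ k • d' = d := by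
        intro k
        induction k with
        | zero => exact fun d => ⟨d, by simp⟩
        | succ k ih =>
          intro d
          obtain ⟨d₁, rfl⟩ := H6El.surj Φ (p • 𝟙 (D : Ind C)) d
          obtain ⟨d₂, rfl⟩ := ih d₁
          exact ⟨d₂, by rw [H6El.map_nsmul_id Φ, smul_smul, ← pow_succ']⟩
      obtain ⟨d', rfl⟩ := key N d
      exact ⟨(Φ.map e).hom ((Φ.map D.arrow).hom d'), by rw [map_nsmul]; exact he _⟩
    · obtain ⟨X, ⟨eX⟩⟩ := hQ
      obtain ⟨k, hk⟩ := htor X
      refine H6El.eq_zero_of Φ _ fun b => ?_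
      obtain ⟨a, ha⟩ := hrng b
      obtain ⟨a', ha'⟩ := hdiv k a
      rw [H6El.map_comp' Φ]
      show (Φ.map q).hom ((Φ.map ι).hom b) = 0
      rw [ha, ← ha', map_nsmul, pow_add, mul_smul, ← H6El.map_nsmul_id Φ (p ^ k),
        show (p ^ k) • 𝟙 Q = 0 by
          rw [← eX.inv_hom_id, ← Preadditive.nsmul_comp, ← Category.comp_id eX.inv, ← Ind.yoneda.map_id,
            ← Preadditive.comp_nsmul, ← Functor.map_nsmul, hk, Functor.map_zero, comp_zero, zero_comp],
        H6El.map_zero' Φ, smul_zero]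

end Groth.Agent.S14496
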