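import Groth.Statements.S14510
import Mathlib
import Groth.Agent.Lib.SegreBilinear

set_option autoImplicit false
universe u v
open Groth.Agent.SegreBilinear
open MvPolynomial IsLocalRing
open CAlgX

namespace Groth.Agent.S14510

/-- Let k be an algebraically closed field, U, V, W finite-dimensional k-vector spaces with U and V
nonzero, and φ : U ⊗ V → W a linear map which is 1-generic, i.e. φ(u ⊗ v) ≠ 0 for all nonzero u and
v (φ is given here as a bilinear map). Then dim W ≥ dim U + dim V − 1. (Algebraic closedness
matters: complex multiplication ℂ ⊗ ℂ → ℂ over the reals is 1-generic with 2 + 2 − 1 > 2.) -/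
theorem result (k : Type u) [Field k] [IsAlgClosed k]
    (U V W : Type v) [AddCommGroup U] [Module k U] [AddCommGroup V] [Module k V] [AddCommGroup W] [Module k W]
    [Module.Finite k U] [Module.Finite k V] [Module.Finite k W] [Nontrivial U] [Nontrivial V]
    (φ : U →ₗ[k] V →ₗ[k] W) (hφ : ∀ (a : U) (b : V), a ≠ 0 → b ≠ 0 → φ a b ≠ 0) :
    Module.finrank k U + Module.finrank k V ≤ Module.finrank k W + 1 := by
  let eU := Module.finBasis k U
  let eV := Module.finBasis k V
  let eW := Module.finBasis k W
  refine card_le Module.finrank_pos Module.finrank_pos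
    (fun l i j => eW.repr (φ (eU i) (eV j)) l) fun x y h => ?_
  have h0 : φ (eU.equivFun.symm x) (eV.equivFun.symm y) = 0 := by
    refine eW.repr.injective (Finsupp.ext fun l => ?_)
    rw [map_zero, Finsupp.zero_apply, ← h l]
    simp only [Module.Basis.equivFun_symm_apply, map_sum, map_smul, LinearMap.sum_apply,
      LinearMap.smul_apply, Finsupp.finsetSum_apply, Finsupp.smul_apply, smul_eq_mul, bil,
      Algebra.algebraMap_self, RingHom.id_apply, Finset.mul_sum, Finset.smul_sum]
    rw [Finset.sum_comm]
    exact Finset.sum_congr rfl fun i _ => Finset.sum_congr rfl fun j _ => by ring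
  by_contra hne
  rw [not_or] at hne
  refine hφ _ _ ?_ ?_ h0
  · exact (LinearEquiv.map_ne_zero_iff _).mpr hne.1
  · exact (LinearEquiv.map_ne_zero_iff _).mpr hne.2

end Groth.Agent.S14510
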