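import Groth.Statements.S14511
import Mathlib
import Groth.Agent.Lib.TorsionFreeEmbed
import Groth.Agent.Lib.CAlgSmall1

set_option autoImplicit false
universe u
open TensorProduct Groth.Agent.TorsionFreeEmbed
open Groth.Agent.CAlgSmall1
open CAlgX

namespace Groth.Agent.S14511

/-- Let R be a commutative ring and P ∈ R[x_1, …, x_r] a polynomial of total degree at most r. Then the
coefficient of the monomial x_1 ⋯ x_r in P equals Σ_J (−1)^{|J|} P(δ_J), the sum over all subsets J
⊆ {1, …, r} (the empty one included), where δ_J is the point with coordinate −1 at the indices in J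
and 0 at the others. -/
theorem result (R : Type u) [CommRing R] (r : ℕ)
    (P : MvPolynomial (Fin r) R) (hP : P.totalDegree ≤ r) :
    MvPolynomial.coeff (∑ i : Fin r, Finsupp.single i 1) P =
      ∑ J : Finset (Fin r), (-1 : R) ^ J.card * MvPolynomial.eval (fun j => if j ∈ J then (-1 : R) else 0) P := by
  classical
  set e : Fin r →₀ ℕ := ∑ i : Fin r, Finsupp.single i 1
  have he : ∀ i, e i = 1 := fun i => by
    simp [e, Finsupp.finsetSum_apply, Finsupp.single_apply]
  have key : ∀ d : Fin r →₀ ℕ, (∑ i, d i) ≤ r →
      ∑ J : Finset (Fin r), (-1 : R) ^ J.card * ∏ i, (if i ∈ J then (-1 : R) else 0) ^ d i =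
        if d = e then 1 else 0 := by
    intro d hd
    have hterm : ∀ J : Finset (Fin r), (-1 : R) ^ J.card * ∏ i, (if i ∈ J then (-1 : R) else 0) ^ d i =
        (∏ i ∈ J, -((-1 : R) ^ d i)) * ∏ i ∈ Finset.univ \ J, (0 : R) ^ d i := by
      intro J
      rw [← Finset.prod_sdiff (Finset.subset_univ J), mul_comm (∏ i ∈ Finset.univ \ J, _), ← mul_assoc,
        ← Finset.prod_const, ← Finset.prod_mul_distrib]
      congr 1
      · exact Finset.prod_congr rfl fun i hi => by simp [hi]
      · exact Finset.prod_congr rfl fun i hi => by simp [(Finset.mem_sdiff.mp hi).2]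
    simp only [hterm]
    rw [← Finset.powerset_univ, ← Finset.prod_add]
    by_cases hde : d = e
    · subst hde
      simp [he]
    · rw [if_neg hde]
      have : ∃ i, d i = 0 := by
        by_contra hc
        push_neg at hc
        refine hde (Finsupp.ext fun i => ?_)
        rw [he]
        by_contra h1
        have h2 : ∀ j ∈ (Finset.univ : Finset (Fin r)), 1 ≤ d j := fun j _ => Nat.one_le_iff_ne_zero.mpr (hc j)
        have h3 : (∑ _j : Fin r, 1) < ∑ j, d j := Finset.sum_lt_sum h2 ⟨i, Finset.mem_univ _, by have := hc i; omega⟩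
        simp at h3
        omega
      obtain ⟨i, hi⟩ := this
      exact Finset.prod_eq_zero (Finset.mem_univ i) (by simp [hi])
  have hev : ∀ x : Fin r → R, MvPolynomial.eval x P = ∑ d ∈ P.support, P.coeff d * ∏ i, x i ^ d i :=
    fun x => MvPolynomial.eval_eq' x P
  simp only [hev, Finset.mul_sum]
  rw [Finset.sum_comm]
  calc MvPolynomial.coeff e P = ∑ d ∈ P.support, if d = e then P.coeff d else 0 := by
        rw [Finset.sum_ite_eq']
        split_ifs with h
        · rfl
        · exact MvPolynomial.notMem_support_iff.mp h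
    _ = _ := by
      refine Finset.sum_congr rfl fun d hd => ?_
      have hdr : ∑ i, d i ≤ r := by
        refine le_trans ?_ hP
        refine le_trans ?_ (MvPolynomial.le_totalDegree hd)
        rw [Finsupp.sum_fintype] ; simp
      rw [Finset.sum_congr rfl (fun J _ => mul_left_comm ((-1 : R) ^ J.card) (P.coeff d) _), ← Finset.mul_sum, key d hdr]
      split_ifs <;> simp

end Groth.Agent.S14511
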