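import Groth.Statements.S1458
import Mathlib

set_option autoImplicit false
universe u
open FlatMor

namespace Groth.Agent.S1458
set_option maxHeartbeats 4000000
open TensorProduct

open TensorProduct in
/-- Let A → B be a finite ring map of finite presentation. Then there are a finitely presented A-algebra
A_u and an idempotent e_u of B ⊗_A A_u such that for every A-algebra A' and every idempotent e of B
⊗_A A' there is an A-algebra map A_u → A' whose induced map B ⊗ A_u → B ⊗ A' sends e_u to e. -/
theorem result {A B : Type u} [CommRing A] [CommRing B] [Algebra A B] [Module.Finite A B] [Algebra.FinitePresentation A B] :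
    ∃ (Au : Type u) (_ : CommRing Au) (_ : Algebra A Au) (eu : B ⊗[A] Au), Algebra.FinitePresentation A Au ∧ IsIdempotentElem eu ∧
      ∀ (A' : Type u) [CommRing A'] [Algebra A A'] (e : B ⊗[A] A'), IsIdempotentElem e →
        ∃ φ : Au →ₐ[A] A', Algebra.TensorProduct.map (AlgHom.id A B) φ eu = e := by
  classical
  haveI := Module.FinitePresentation.of_finite_of_finitePresentation A B
  obtain ⟨n, m, f, g, hf, hfg⟩ := Module.FinitePresentation.exists_fin' A B
  let δ : Fin n → (Fin n → A) := fun i => Pi.single i 1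
  let b : Fin n → B := fun i => f (δ i)
  have hfb : ∀ x : Fin n → A, f x = ∑ i, x i • b i := fun x => by
    conv_lhs => rw [pi_eq_sum_univ' x]
    simp only [map_sum, map_smul, b, δ]
  choose c hc using fun p : Fin n × Fin n => hf (b p.1 * b p.2)
  let gr : Fin m → (Fin n → A) := fun r => g (Pi.single r 1)
  have hgr : ∀ r, ∑ l, gr r l • b l = 0 := fun r => by
    rw [← hfb]; exact (hfg _).2 ⟨_, rfl⟩
  have hsq : ∀ (C : Type u) [CommRing C] [Algebra A C] (a : Fin n → C),
      (∑ i, b i ⊗ₜ[A] a i) * (∑ i, b i ⊗ₜ[A] a i) = ∑ l, b l ⊗ₜ[A] (∑ p : Fin n × Fin n, c p l • (a p.1 * a p.2)) := by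
    intro C _ _ a
    simp only [Finset.sum_mul, Finset.mul_sum, Algebra.TensorProduct.tmul_mul_tmul, tmul_sum, tmul_smul]
    conv_lhs => rw [Finset.sum_comm]
    conv_rhs => rw [Finset.sum_comm, Fintype.sum_prod_type]
    refine Finset.sum_congr rfl fun i _ => Finset.sum_congr rfl fun j _ => ?_
    have h := hc (i, j)
    rw [hfb] at h
    simp only [smul_tmul', ← sum_tmul, h]
  let T := MvPolynomial (Fin n ⊕ Fin m) A
  let y : Fin n → T := fun i => MvPolynomial.X (Sum.inl i)
  let z : Fin m → T := fun r => MvPolynomial.X (Sum.inr r)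
  let E : Fin n → T := fun l => (∑ p : Fin n × Fin n, c p l • (y p.1 * y p.2)) - y l - ∑ r, gr r l • z r
  let I : Ideal T := Ideal.span (Set.range E)
  let π := Ideal.Quotient.mkₐ A I
  let eu : B ⊗[A] (T ⧸ I) := ∑ i, b i ⊗ₜ[A] π (y i)
  haveI : Algebra.FinitePresentation A (T ⧸ I) := Algebra.FinitePresentation.quotient (Submodule.fg_span (Set.finite_range E))
  refine ⟨T ⧸ I, inferInstance, inferInstance, eu, inferInstance, ?_, ?_⟩
  · show eu * eu = eu
    rw [hsq]
    have hE : ∀ l, (∑ p : Fin n × Fin n, c p l • (π (y p.1) * π (y p.2))) = π (y l) + ∑ r, gr r l • π (z r) := fun l => by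
      have h0 : π (E l) = 0 := Ideal.Quotient.eq_zero_iff_mem.2 (Ideal.subset_span ⟨l, rfl⟩)
      simp only [E, map_sub, map_sum, map_smul, map_mul] at h0
      linear_combination h0
    simp only [hE, tmul_add, Finset.sum_add_distrib]
    rw [add_eq_left]
    simp only [tmul_sum]
    rw [Finset.sum_comm]
    refine Finset.sum_eq_zero fun r _ => ?_
    simp only [← smul_tmul, ← sum_tmul, hgr, zero_tmul]
  · intro A' _ _ e he
    obtain ⟨v, hv⟩ := LinearMap.rTensor_surjective A' hf e
    obtain ⟨a, ha⟩ : ∃ a : Fin n → A', e = ∑ i, b i ⊗ₜ[A] a i := by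
      subst hv
      clear he
      induction v using TensorProduct.induction_on with
      | zero => exact ⟨0, by simp⟩
      | tmul x w => exact ⟨fun i => x i • w, by simp [hfb, sum_tmul, smul_tmul]⟩
      | add p q hp hq =>
        obtain ⟨u, hu⟩ := hp
        obtain ⟨u', hu'⟩ := hq
        exact ⟨u + u', by simp [hu, hu', tmul_add, Finset.sum_add_distrib]⟩
    let w : Fin n → A' := fun l => (∑ p : Fin n × Fin n, c p l • (a p.1 * a p.2)) - a l
    have hw : f.rTensor A' (∑ l, δ l ⊗ₜ[A] w l) = 0 := by
      rw [map_sum]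
      show ∑ l, b l ⊗ₜ[A] w l = 0
      simp only [w, tmul_sub, Finset.sum_sub_distrib, ← hsq, ← ha, he.eq, sub_self]
    obtain ⟨u, hu⟩ := (rTensor_exact A' hfg hf _).1 hw
    let ev : (Fin n → A) ⊗[A] A' →ₗ[A] (Fin n → A') := TensorProduct.lift
      (LinearMap.mk₂ A (fun x s l => x l • s) (fun x x' s => by funext l; simp [add_smul])
        (fun r x s => by funext l; simp [mul_smul]) (fun x s s' => by funext l; simp) (fun r x s => by funext l; simp [smul_comm r]))
    obtain ⟨zz, hzz⟩ : ∃ zz : Fin m → A', ∀ l, ev (g.rTensor A' u) l = ∑ r, gr r l • zz r := by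
      clear hu
      induction u using TensorProduct.induction_on with
      | zero => exact ⟨0, fun l => by simp⟩
      | tmul x s =>
        refine ⟨fun r => x r • s, fun l => ?_⟩
        have hx : g x = ∑ r, x r • gr r := by
          conv_lhs => rw [pi_eq_sum_univ' x]
          simp only [map_sum, map_smul, gr]
        simp [ev, hx, Finset.sum_apply, Finset.sum_smul, smul_smul, mul_comm]
      | add p q hp hq =>
        obtain ⟨u, hu⟩ := hp
        obtain ⟨u', hu'⟩ := hq
        exact ⟨u + u', fun l => by simp [hu, hu', Finset.sum_add_distrib]⟩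
    have hwl : ∀ l, w l = ∑ r, gr r l • zz r := fun l => by
      rw [← hzz, hu, map_sum, Finset.sum_apply, Finset.sum_eq_single l]
      · simp [ev, δ]
      · intro i _ hi; simp [ev, δ, Pi.single_eq_of_ne' hi]
      · exact fun h => absurd (Finset.mem_univ l) h
    let φ0 : T →ₐ[A] A' := MvPolynomial.aeval (Sum.elim a zz)
    have hX : ∀ q, φ0 (MvPolynomial.X q) = Sum.elim a zz q := fun q => MvPolynomial.aeval_X _ q
    have hφ : ∀ t ∈ I, φ0 t = 0 := by
      intro t ht
      refine Submodule.span_induction (p := fun t _ => φ0 t = 0) ?_ (map_zero _) (fun x y _ _ hx hy => by rw [map_add, hx, hy, add_zero]) (fun c x _ hx => by rw [smul_eq_mul, map_mul, hx, mul_zero]) ht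
      rintro _ ⟨l, rfl⟩
      have h := hwl l
      simp only [w] at h
      simp only [E, y, z, map_sub, map_sum, map_smul, map_mul, hX, Sum.elim_inl, Sum.elim_inr]
      linear_combination h
    refine ⟨Ideal.Quotient.liftₐ I φ0 hφ, ?_⟩
    rw [ha, map_sum]
    refine Finset.sum_congr rfl fun i _ => ?_
    rw [Algebra.TensorProduct.map_tmul]
    congr 1
    show φ0 (y i) = a i
    exact hX (Sum.inl i)

end Groth.Agent.S1458
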