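import Groth.Statements.S14580
import Mathlib
import Groth.Agent.Lib.H8SmoothRed
import Groth.Agent.Lib.H5TopSpectral

set_option autoImplicit false
universe u
open CategoryTheory MonoidalCategory CartesianMonoidalCategory MonObj GrpObj AlgebraicGeometry CategoryTheory.Limits
open AlgGrp

namespace Groth.Agent.S14580
open Groth.Agent CategoryTheory.Limits

/-- Let k be a field, G a proper k-group scheme of finite type and N ⊆ G the kernel of the affinization
morphism G → Spec O(G), i.e. the fibre over the image of the unit section (the largest anti-affine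
subgroup scheme of G). Then the image of N in G is the connected component of the identity: as N is
smooth, N is the reduced neutral component G⁰_red, which is therefore a smooth connected algebraic
group. -/
theorem result (k : Type u) [Field k]
    (G : Over (Spec (CommRingCat.of k))) [GrpObj G] [IsProper G.hom] (t : ↥((𝟙_ (Over (Spec (CommRingCat.of k)))).left)) :
    Set.range ⇑(pullback.fst G.left.toSpecΓ (η[G].left ≫ G.left.toSpecΓ)).base = connectedComponent ((η[G]).left.base t) := by
  set q := G.left.toSpecΓ
  set x := η[G].left t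
  haveI : Subsingleton ↥((𝟙_ (Over (Spec (CommRingCat.of k)))).left) :=
    inferInstanceAs (Subsingleton (PrimeSpectrum k))
  have hrange : Set.range ⇑(pullback.fst q (η[G].left ≫ q)).base = q ⁻¹' {q x} := by
    rw [Scheme.Pullback.range_fst]
    congr 1
    ext y
    exact ⟨fun ⟨s, hs⟩ => by rw [← hs, Subsingleton.elim s t]; rfl, fun hy => ⟨t, hy.symm⟩⟩
  rw [hrange]
  haveI : CompactSpace G.left := QuasiCompact.compactSpace_of_compactSpace G.hom
  haveI : IsLocallyNoetherian G.left := LocallyOfFiniteType.isLocallyNoetherian G.hom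
  apply subset_antisymm
  · intro y hy
    rw [H5Top.connectedComponent_eq_sInter]
    rintro Z ⟨hcl, hxZ⟩
    let C : G.left.Opens := ⟨Z, hcl.isOpen⟩
    let D : G.left.Opens := ⟨Zᶜ, hcl.compl.isOpen⟩
    let U : Bool → G.left.Opens := fun b => bif b then C else D
    let sf : ∀ b, Γ(G.left, U b) := fun b => bif b then 1 else 0
    obtain ⟨e, he, -⟩ := G.left.sheaf.existsUnique_gluing' U ⊤ (fun b => homOfLE le_top)
      (fun z _ => by
        by_cases hz : z ∈ C
        · exact TopologicalSpace.Opens.mem_iSup.mpr ⟨true, hz⟩
        · exact TopologicalSpace.Opens.mem_iSup.mpr ⟨false, hz⟩)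
      sf (fun a b => by
        rcases a <;> rcases b
        · rfl
        · exact TopCat.Presheaf.section_ext G.left.sheaf _ _ _ fun z hz => absurd hz.2 hz.1
        · exact TopCat.Presheaf.section_ext G.left.sheaf _ _ _ fun z hz => absurd hz.1 hz.2
        · rfl)
    let e' : Γ(G.left, ⊤) := e
    have key : ∀ b z, z ∈ U b → (z ∈ G.left.basicOpen e' ↔ z ∈ G.left.basicOpen (sf b)) := by
      intro b z hb
      have h2 : G.left.presheaf.map (homOfLE (le_top : U b ≤ ⊤)).op e' = sf b := he b
      rw [← h2, Scheme.basicOpen_res]
      exact ⟨fun h => ⟨hb, h⟩, fun h => h.2⟩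
    have hpre : ∀ z, z ∈ G.left.basicOpen e' ↔ q z ∈ PrimeSpectrum.basicOpen e' := fun z => by
      rw [← Scheme.toSpecΓ_preimage_basicOpen]
      rfl
    have hmem : ∀ z, z ∈ G.left.basicOpen e' ↔ z ∈ Z := fun z => by
      by_cases hz : z ∈ C
      · refine iff_of_true ?_ hz
        rw [key true z hz]
        simpa [sf, U] using hz
      · refine iff_of_false ?_ hz
        rw [key false z hz]
        simp [sf, U]
    rw [Set.mem_preimage, Set.mem_singleton_iff] at hy
    rw [← hmem, hpre, hy, ← hpre, hmem]
    exact hxZ
  · intro y hy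
    have hint := isIntegral_appTop_of_universallyClosed G.hom
    let φ : k →+* Γ(G.left, ⊤) :=
      ((Scheme.ΓSpecIso (CommRingCat.of k)).inv ≫ G.hom.appTop).hom
    have hφ : φ.IsIntegral := RingHom.IsIntegral.trans _ _
      (RingHom.isIntegral_of_surjective _
        (ConcreteCategory.bijective_of_isIso (Scheme.ΓSpecIso (CommRingCat.of k)).inv).2) hint
    letI := φ.toAlgebra
    haveI : Algebra.IsIntegral k Γ(G.left, ⊤) := ⟨hφ⟩
    haveI : T2Space (Spec Γ(G.left, ⊤)) := H8SmoothRed.t2Space fun P hP =>
      haveI := hP
      Ideal.isMaximal_of_isIntegral_of_isMaximal_comap (R := k) P (by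
        rw [(P.comap (algebraMap k Γ(G.left, ⊤))).eq_bot_or_top.resolve_right
          (Ideal.comap_ne_top _ hP.ne_top)]
        exact Ideal.bot_isMaximal)
    exact (q.continuous.image_connectedComponent_eq_singleton x).le ⟨y, hy, rfl⟩

end Groth.Agent.S14580
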