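import Groth.Statements.S1460
import Mathlib

set_option autoImplicit false
universe u
open FlatMor

namespace Groth.Agent.S1460

open AlgebraicGeometry CategoryTheory Limits in
/-- Let f : X → S be a morphism of finite presentation between affine schemes. Then f is the base change
of a morphism of finite type f₀ : X₀ → S₀ between affine schemes with S₀ of finite type over ℤ. -/
theorem result {X S : Scheme.{u}} (f : X ⟶ S) [IsAffine X] [IsAffine S] [LocallyOfFinitePresentation f] :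
    ∃ (X₀ S₀ : Scheme.{u}) (f₀ : X₀ ⟶ S₀) (g : S ⟶ S₀) (g' : X ⟶ X₀), IsAffine X₀ ∧ IsAffine S₀ ∧ IsPullback g' f f₀ g ∧
      Algebra.FiniteType ℤ Γ(S₀, ⊤) ∧ LocallyOfFiniteType f₀ := by
  classical
  letI : Algebra Γ(S, ⊤) Γ(X, ⊤) := f.appTop.hom.toAlgebra
  haveI : Algebra.FinitePresentation Γ(S, ⊤) Γ(X, ⊤) :=
    (HasRingHomProperty.iff_of_isAffine (P := @LocallyOfFinitePresentation)).mp ‹_›
  let P := Algebra.Presentation.ofFinitePresentation Γ(S, ⊤) Γ(X, ⊤)
  let R₀ : Type u := P.Core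
  let A₀ : Type u := P.ModelOfHasCoeffs P.Core
  let e := P.tensorModelOfHasCoeffsEquiv P.Core
  let i₁ : CommRingCat.of (TensorProduct P.Core Γ(S, ⊤) A₀) ≅ Γ(X, ⊤) :=
    RingEquiv.toCommRingCatIso (R := TensorProduct P.Core Γ(S, ⊤) A₀) (S := Γ(X, ⊤)) (e : TensorProduct P.Core Γ(S, ⊤) A₀ ≃+* Γ(X, ⊤))
  have hpo := (CommRingCat.isPushout_tensorProduct P.Core Γ(S, ⊤) A₀)
  let ι₀ : CommRingCat.of A₀ ⟶ Γ(X, ⊤) :=
    CommRingCat.ofHom (Algebra.TensorProduct.includeRight.toRingHom) ≫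
      i₁.hom
  have hpo' : IsPushout (CommRingCat.ofHom (algebraMap P.Core Γ(S, ⊤)))
      (CommRingCat.ofHom (algebraMap P.Core A₀)) f.appTop ι₀ := by
    refine hpo.of_iso (Iso.refl _) (Iso.refl _) (Iso.refl _) i₁ ?_ ?_ ?_ ?_
    · simp
    · simp
    · ext x
      exact e.commutes x
    · simp [ι₀]
  refine ⟨Spec (CommRingCat.of A₀), Spec (CommRingCat.of R₀),
    Spec.map (CommRingCat.ofHom (algebraMap P.Core A₀)),
    S.isoSpec.hom ≫ Spec.map (CommRingCat.ofHom (algebraMap P.Core Γ(S, ⊤))),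
    X.isoSpec.hom ≫ Spec.map ι₀, inferInstance, inferInstance, ?_, ?_, ?_⟩
  · refine ((isPullback_SpecMap_of_isPushout _ _ _ _ hpo').flip).of_iso X.isoSpec.symm (Iso.refl _)
      S.isoSpec.symm (Iso.refl _) ?_ ?_ ?_ ?_
    · simp
    · simp [Scheme.isoSpec_inv_naturality]
    · simp
    · simp
  · haveI : Algebra.FiniteType ℤ R₀ := inferInstanceAs (Algebra.FiniteType ℤ P.Core)
    exact Algebra.FiniteType.equiv ‹_›
      (AlgEquiv.ofRingEquiv (f := ((Scheme.ΓSpecIso (CommRingCat.of R₀)).symm.commRingCatIsoToRingEquiv))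
        (fun n => by simp))
  · rw [HasRingHomProperty.Spec_iff (P := @LocallyOfFiniteType), CommRingCat.hom_ofHom,
      RingHom.finiteType_algebraMap]
    infer_instance

end Groth.Agent.S1460
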