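import Groth.Statements.S14606
import Mathlib

set_option autoImplicit false
universe u
open FrobAlg
open scoped TensorProduct

namespace Groth.Agent.S14606

/-- Let k be a field of characteristic p > 0 and R a finitely generated commutative k-algebra. The
scheme-theoretic image of the n-th relative Frobenius morphism of Spec R is the spectrum of the
k-subalgebra k[R^(p^n)] generated by all p^n-th powers; for n large enough this image is
geometrically reduced: there is an n such that k[R^(p^n)] is a geometrically reduced k-algebra.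
(Stated in affine, ring-theoretic form.) -/
theorem result (k : Type u) [Field k] (p : ℕ) [Fact p.Prime] [CharP k p]
    (R : Type u) [CommRing R] [Algebra k R] [Algebra.FiniteType k R] :
    ∃ n : ℕ, Algebra.IsGeometricallyReduced k ↥(Algebra.adjoin k (Set.range (fun x : R => x ^ (p ^ n)))) := by
  classical
  let k' := AlgebraicClosure k
  haveI : IsNoetherianRing (k' ⊗[k] R) := Algebra.FiniteType.isNoetherianRing k' (k' ⊗[k] R)
  obtain ⟨m, hm⟩ := IsNoetherianRing.isNilpotent_nilradical (k' ⊗[k] R)
  obtain ⟨n, hn⟩ : ∃ n : ℕ, m ≤ p ^ n := ⟨m, (Nat.lt_pow_self (Fact.out : p.Prime).one_lt).le⟩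
  refine ⟨n, ?_⟩
  set S := Algebra.adjoin k (Set.range (fun x : R => x ^ (p ^ n))) with hS
  rw [Algebra.isGeometricallyReduced_field_iff]
  rcases subsingleton_or_nontrivial (k' ⊗[k] R) with hsub | hnt
  · exact isReduced_of_injective (Algebra.TensorProduct.map (AlgHom.id k k') S.val)
      (Module.Flat.lTensor_preserves_injective_linearMap (M := k') S.val.toLinearMap
        Subtype.val_injective)
  haveI : CharP k' p := charP_of_injective_algebraMap (algebraMap k k').injective p
  haveI : CharP (k' ⊗[k] R) p := charP_of_injective_algebraMap (algebraMap k' (k' ⊗[k] R)).injective p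
  haveI : ExpChar (k' ⊗[k] R) p := ExpChar.prime Fact.out
  set f := Algebra.TensorProduct.map (AlgHom.id k k') S.val with hf
  have finj : Function.Injective f :=
    Module.Flat.lTensor_preserves_injective_linearMap (M := k') S.val.toLinearMap Subtype.val_injective
  set P := (iterateFrobenius (k' ⊗[k] R) p n).range with hP
  have hc : ∀ c : k', c ⊗ₜ[k] (1 : R) ∈ P := by
    intro c
    obtain ⟨d, hd⟩ := IsAlgClosed.exists_pow_nat_eq c (n := p ^ n) (pow_pos (Fact.out : p.Prime).pos n)
    refine ⟨d ⊗ₜ 1, ?_⟩
    rw [iterateFrobenius_def, Algebra.TensorProduct.tmul_pow, hd, one_pow]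
  have hs : ∀ s ∈ S, (1 : k') ⊗ₜ[k] s ∈ P := by
    intro s hs
    induction hs using Algebra.adjoin_induction with
    | mem x hx =>
      obtain ⟨y, rfl⟩ := hx
      exact ⟨1 ⊗ₜ y, by rw [iterateFrobenius_def, Algebra.TensorProduct.tmul_pow, one_pow]⟩
    | algebraMap r =>
      have : (1 : k') ⊗ₜ[k] (algebraMap k R r) = (algebraMap k k' r) ⊗ₜ[k] 1 := by
        rw [Algebra.algebraMap_eq_smul_one, Algebra.algebraMap_eq_smul_one, TensorProduct.smul_tmul]
      rw [this]; exact hc _
    | add x y _ _ hx hy => rw [TensorProduct.tmul_add]; exact P.add_mem hx hy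
    | mul x y _ _ hx hy =>
      have := P.mul_mem hx hy
      rwa [Algebra.TensorProduct.tmul_mul_tmul, one_mul] at this
  have hrange : ∀ z, f z ∈ P := by
    intro z
    induction z using TensorProduct.induction_on with
    | zero => rw [map_zero]; exact P.zero_mem
    | add a b ha hb => rw [map_add]; exact P.add_mem ha hb
    | tmul c s =>
      have : f (c ⊗ₜ[k] s) = (c ⊗ₜ[k] (1 : R)) * ((1 : k') ⊗ₜ[k] (s : R)) := by
        simp [hf, Algebra.TensorProduct.tmul_mul_tmul]
      rw [this]; exact P.mul_mem (hc c) (hs s s.2)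
  constructor
  rintro z ⟨j, hj⟩
  apply finj
  rw [map_zero]
  obtain ⟨y, hy⟩ := hrange z
  rw [iterateFrobenius_def] at hy
  have hnil : IsNilpotent y := ⟨p ^ n * j, by rw [pow_mul, hy, ← map_pow, hj, map_zero]⟩
  have : y ^ m ∈ (nilradical (k' ⊗[k] R)) ^ m := Ideal.pow_mem_pow (mem_nilradical.mpr hnil) m
  rw [hm] at this
  rw [← hy]
  exact pow_eq_zero_of_le hn (by simpa using this)

end Groth.Agent.S14606
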