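import Groth.Statements.S14615
import Mathlib
import Groth.Prelude
import Groth.Agent.Lib.H2LocalCrit

set_option autoImplicit false
universe u
open Formal2

namespace Groth.Agent.S14615
open TensorProduct
set_option backward.isDefEq.respectTransparency.types false

/-- Let … → G_2 → G_1 → G_0 be an inverse system of abelian groups with transition maps t_n : G_{n+1} →
G_n, and suppose that for every i there is j ≥ i such that the composite transition map G_j → G_i is
zero; this is expressed by asking that every sequence (x_n) ∈ ∏ G_n satisfying x_n = t_n(x_{n+1})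
for i ≤ n < j has x_i = 0. Then both lim G_n and lim¹ G_n vanish: the map (x_n) ↦ (x_n −
t_n(x_{n+1})) on ∏ G_n, whose kernel is lim and whose cokernel is lim¹, is injective and surjective. -/
theorem result (G : ℕ → Type u)
    [∀ n, AddCommGroup (G n)] (t : ∀ n, G (n + 1) →+ G n)
    (h : ∀ i : ℕ, ∃ j : ℕ, i ≤ j ∧
      ∀ x : ∀ n, G n, (∀ n, i ≤ n → n < j → x n = t n (x (n + 1))) → x i = 0) :
    Formal2.limZero G t = ⊥ ∧ Function.Surjective (Formal2.towerDiff G t) := by
  choose j hij hj using h
  refine ⟨?_, fun x => ?_⟩
  · rw [eq_bot_iff]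
    intro y hy
    rw [AddSubgroup.mem_bot]
    funext i
    refine hj i y fun n _ _ => ?_
    have h0 : Formal2.towerDiff G t y = 0 := hy
    exact sub_eq_zero.mp (congrFun h0 n)
  let D : ℕ → ∀ n, G n := fun K => Nat.rec x (fun _ prev n => t n (prev (n + 1))) K
  have hD : ∀ K i, j i - i ≤ K → D K i = 0 := by
    intro K i hK
    have hi := hij i
    have := hj i (fun n => D (K + i - n) n) fun n h1 h2 => by
      show D (K + i - n) n = t n (D (K + i - (n + 1)) (n + 1))
      rw [show K + i - n = (K + i - (n + 1)) + 1 by omega]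
    simpa using this
  refine ⟨fun n => ∑ K ∈ Finset.range (j n - n), D K n, ?_⟩
  funext n
  show (∑ K ∈ Finset.range (j n - n), D K n) - t n (∑ K ∈ Finset.range (j (n+1) - (n+1)), D K (n+1)) = x n
  set B := max (j n - n) (j (n+1) - (n+1))
  have e : ∀ m C, j m - m ≤ C → ∑ K ∈ Finset.range (j m - m), D K m = ∑ K ∈ Finset.range C, D K m := fun m C hC =>
    Finset.sum_subset (Finset.range_subset_range.mpr hC) fun K _ hK => hD K m (by simpa using hK)
  rw [e n (B + 1) (by omega), e (n+1) B (le_max_right _ _), Finset.sum_range_succ', map_sum]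
  simp [D]

end Groth.Agent.S14615
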