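import Groth.Statements.S14616
import Mathlib

set_option autoImplicit false
universe u
open Formal2

namespace Groth.Agent.S14616
open CategoryTheory Opposite
set_option backward.isDefEq.respectTransparency.types false

open CategoryTheory in
/-- Let … → G_2 → G_1 → G_0 be an inverse system of abelian groups with transition maps t_n : G_{n+1} →
G_n which satisfies the Mittag-Leffler condition: for every i there is j ≥ i such that for all k ≥ j
the images of G_k → G_i and G_j → G_i coincide. Then lim¹ G_n = 0, i.e. the map (x_n) ↦ (x_n −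
t_n(x_{n+1})) on ∏ G_n is surjective. -/
theorem result (G : ℕ → Type u) [∀ n, AddCommGroup (G n)]
    (t : ∀ n, G (n + 1) →+ G n)
    (h : (Functor.ofOpSequence (X := fun n => AddCommGrpCat.of (G n))
      (fun n => AddCommGrpCat.ofHom (t n)) ⋙ forget AddCommGrpCat).IsMittagLeffler) :
    Function.Surjective (Formal2.towerDiff G t) := by
  intro x
  set F := Functor.ofOpSequence (X := fun n => AddCommGrpCat.of (G n))
    (fun n => AddCommGrpCat.ofHom (t n)) with hF
  let m : ∀ i j : ℕ, j ≤ i → (G i →+ G j) := fun i j hji => (F.map (homOfLE hji).op).hom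
  have mrefl : ∀ i (a : G i), m i i le_rfl a = a := fun i a => by
    exact congrArg (fun q => AddCommGrpCat.Hom.hom q a) (F.map_id (op i))
  have mtrans : ∀ i j k (h1 : j ≤ i) (h2 : k ≤ j) (a : G i), m j k h2 (m i j h1 a) = m i k (h2.trans h1) a :=
    fun i j k h1 h2 a => by
      exact (congrArg (fun q => AddCommGrpCat.Hom.hom q a) (F.map_comp (homOfLE h1).op (homOfLE h2).op)).symm
  have msucc : ∀ n (a : G (n + 1)), m (n + 1) n (Nat.le_succ n) a = t n a := fun n a => by
    exact congrArg (fun q => AddCommGrpCat.Hom.hom q a)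
      (Functor.ofOpSequence_map_homOfLE_succ (X := fun n => AddCommGrpCat.of (G n))
        (fun n => AddCommGrpCat.ofHom (t n)) n)
  have h' : ∀ n, ∃ N, n < N ∧ ∀ M (hM : n ≤ M), ∀ K (hK : n ≤ K), N ≤ K → ∀ a : G K, ∃ b : G M,
      m M n hM b = m K n hK a := by
    intro n
    obtain ⟨i, f, hi⟩ := h (op n)
    refine ⟨i.unop + n + 1, by omega, fun M hM K hK hNK a => ?_⟩
    obtain ⟨b, hb⟩ := hi (homOfLE hM).op
      ⟨m K i.unop (by omega) a, rfl⟩
    exact ⟨b, hb.trans (mtrans K i.unop n (by omega) (leOfHom f.unop) a)⟩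
  choose N0 hN0 hN using h'
  let N : ℕ → ℕ := fun n => ∑ i ∈ Finset.range (n + 1), N0 i
  have hNN : ∀ n, N (n + 1) = N n + N0 (n + 1) := fun n => Finset.sum_range_succ _ _
  have hle : ∀ n, N0 n ≤ N n := fun n =>
    Finset.single_le_sum (fun i _ => Nat.zero_le _) (Finset.self_mem_range_succ n)
  have hnN : ∀ n, n ≤ N n := fun n => ((hN0 n).le).trans (hle n)
  let p : ∀ n, ℕ → G n := fun n K => if hK : n ≤ K then m K n hK (x K) else 0
  let y0 : ∀ n, G n := fun n => ∑ K ∈ Finset.Ico n (N n), p n K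
  let H : ∀ n, AddSubgroup (G n) := fun n => (m (N n) n (hnN n)).range
  have hH : ∀ n K (hK : n ≤ K), N n ≤ K → ∀ a, m K n hK a ∈ H n := fun n K hK hNK a =>
    hN n (N n) (hnN n) K hK ((hle n).trans hNK) a
  let e : ∀ n, G n := fun n => ∑ K ∈ Finset.Ico (N n) (N (n + 1)), p n K
  have he : ∀ n, e n ∈ H n := fun n => sum_mem fun K hK => by
    rw [Finset.mem_Ico] at hK
    simp only [p, dif_pos ((hnN n).trans hK.1)]
    exact hH n K _ hK.1 _
  have hlift : ∀ n (a : H n), ∃ b : H (n + 1), t n b.1 = a.1 := by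
    rintro n ⟨a, c, rfl⟩
    obtain ⟨b, hb⟩ := hN n (N (n + 1)) (by have := hnN n; rw [hNN]; omega) (N n) (hnN n) (hle n) c
    refine ⟨⟨m (N (n + 1)) (n + 1) (hnN _) b, b, rfl⟩, ?_⟩
    rw [← msucc, mtrans]
    exact hb
  choose L hL using hlift
  let z : ∀ n, H n := fun n => Nat.rec (0 : H 0) (fun k prev => L k (prev + ⟨e k, he k⟩)) n
  refine ⟨fun n => y0 n + (-(z n).1), funext fun n => ?_⟩
  show y0 n + -(z n).1 - t n (y0 (n + 1) + -(z (n + 1)).1) = x n
  have hz : t n (z (n + 1)).1 = (z n).1 + e n := hL n _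
  have hy : t n (y0 (n + 1)) = ∑ K ∈ Finset.Ico (n + 1) (N (n + 1)), p n K := by
    rw [map_sum]
    refine Finset.sum_congr rfl fun K hK => ?_
    rw [Finset.mem_Ico] at hK
    simp only [p, dif_pos hK.1, dif_pos ((Nat.le_succ n).trans hK.1)]
    rw [← msucc, mtrans]
  have hs : (∑ K ∈ Finset.Ico n (N n), p n K) + e n =
      x n + ∑ K ∈ Finset.Ico (n + 1) (N (n + 1)), p n K := by
    rw [Finset.sum_Ico_consecutive _ (hnN n) (by rw [hNN]; omega),
      Finset.sum_eq_sum_Ico_succ_bot (by have := hnN n; have := hN0 (n + 1); rw [hNN]; omega)]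
    simp only [p, dif_pos le_rfl]
    rw [mrefl]
  rw [map_add, map_neg, hz, hy]
  linear_combination (norm := abel) hs

end Groth.Agent.S14616
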