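import Groth.Statements.S14622
import Mathlib
import Groth.Agent.Lib.LEtStalkPull

set_option autoImplicit false
open CategoryTheory AlgebraicGeometry
universe u
open EtBase

namespace Groth.Agent.S14622

/-- Let g : Y' → Y be a morphism of schemes which is surjective on points. Then for every abelian sheaf
F on the small étale site of Y the unit F → g_* g⁻¹ F of the adjunction between inverse image and
direct image is a monomorphism. -/
theorem result {Y Y' : Scheme.{u}} (g : Y' ⟶ Y) [Surjective g]
    (F : EtCoh.Ab Y) : Mono ((EtCoh.pullPushAdj g).unit.app F) := by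
  choose x hx using g.surjective
  let pt : ∀ y : Y, Spec (CommRingCat.of (SeparableClosure (Y'.residueField (x y)))) ⟶ Y' := fun y =>
    (Scheme.SpecToEquivOfField (SeparableClosure (Y'.residueField (x y))) Y').symm
      ⟨x y, CommRingCat.ofHom (algebraMap (Y'.residueField (x y)) _)⟩
  refine Groth.Agent.LEtStalk.mono_of_family _ (fun y => pt y ≫ g) (fun y => ⟨y, ?_⟩) (fun y => ?_)
  · rw [Scheme.Hom.comp_apply]
    exact (congrArg g (by simp [pt, Scheme.SpecToEquivOfField])).trans (hx y)
  · let e := Groth.Agent.LEtStalkPull.stalkPullIso g (pt y)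
    have h1 : IsSplitMono ((EtCoh.pull g).map ((EtCoh.pullPushAdj g).unit.app F)) :=
      IsSplitMono.mk' ⟨_, (EtCoh.pullPushAdj g).left_triangle_components F⟩
    have h2 : Mono ((EtCoh.pull g ⋙ EtCoh.stalk (pt y)).map ((EtCoh.pullPushAdj g).unit.app F)) :=
      (inferInstanceAs (Mono ((EtCoh.stalk (pt y)).map ((EtCoh.pull g).map ((EtCoh.pullPushAdj g).unit.app F)))))
    exact (AddCommGrpCat.mono_iff_injective ((EtCoh.stalk (pt y ≫ g)).map ((EtCoh.pullPushAdj g).unit.app F))).1
      (((MorphismProperty.monomorphisms _).arrow_mk_iso_iff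
        (((Functor.mapArrowFunctor _ _).mapIso e).app (Arrow.mk ((EtCoh.pullPushAdj g).unit.app F)))).1 h2)

end Groth.Agent.S14622
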