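import Groth.Statements.S14631
import Mathlib

set_option autoImplicit false
set_option backward.isDefEq.respectTransparency.types false
open CategoryTheory AlgebraicGeometry
universe u
open EtBase

namespace Groth.Agent.S14631

/-- Let X be a quasi-separated scheme and U an étale X-scheme. Then there is a jointly surjective family
of étale U-schemes each of which is quasi-compact and quasi-separated, hence of finite presentation,
over X. (Sheaves on the small étale site are therefore determined by their values on étale X-schemes
of finite presentation; that equivalence is not stated here.) -/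
theorem result (X : Scheme.{u})
    [QuasiSeparatedSpace ↥X] (U : X.Etale) :
    ∃ (ι : Type u) (V : ι → Over U), (∀ i, QuasiCompact (V i).left.hom ∧ QuasiSeparated (V i).left.hom) ∧
      ∀ x : ↥(U.left), ∃ (i : ι) (y : ↥((V i).left.left)), (V i).hom.left.base y = x := by
  refine ⟨U.left, fun x => Over.mk (Y := Scheme.Etale.mk ((U.left.affineCover.f (U.left.affineCover.idx x)) ≫ U.hom)) (MorphismProperty.Over.homMk (U.left.affineCover.f (U.left.affineCover.idx x)) rfl), fun i => ?_, fun x => ?_⟩
  · haveI : CompactSpace ↥(U.left.affineCover.X (U.left.affineCover.idx i)) := inferInstance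
    haveI : QuasiSeparatedSpace ↥(U.left.affineCover.X (U.left.affineCover.idx i)) := inferInstance
    exact ⟨quasiCompact_of_compactSpace (X := U.left.affineCover.X (U.left.affineCover.idx i)) (Y := X) (U.left.affineCover.f (U.left.affineCover.idx i) ≫ U.hom),
      QuasiSeparated.of_quasiSeparatedSpace (U.left.affineCover.f (U.left.affineCover.idx i) ≫ U.hom)⟩
  · obtain ⟨y, hy⟩ := U.left.affineCover.covers x
    exact ⟨x, y, hy⟩

end Groth.Agent.S14631
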