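import Groth.Statements.S14671
import Groth.Agent.Lib.H7GammaMore

set_option autoImplicit false
universe u
open scoped TensorProduct
open SymTen

namespace Groth.Agent.S14671

/-- Let R be a commutative ring, M a flat R-module and n ≥ 0. Then the module of symmetric tensors of
degree n — the R-submodule of the n-fold tensor power of M over R consisting of the tensors fixed by
every permutation of the factors — is a flat R-module. (The published corollary also asserts that
forming symmetric tensors of a flat module commutes with every base change; only the flatness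
assertion is stated here.) -/
theorem result (R : Type u) [CommRing R] (M : Type u) [AddCommGroup M] [Module R M]
    [Module.Flat R M] (n : ℕ) :
    Module.Flat R ↥(⨅ σ : Equiv.Perm (Fin n),
      LinearMap.eqLocus (PiTensorProduct.reindex R (fun _ : Fin n => M) σ).toLinearMap LinearMap.id) := by
  classical
  open Groth.Agent in
  letI : Module Rᵐᵒᵖ M := Module.compHom M ((RingHom.id R).fromOpposite mul_comm)
  haveI : IsCentralScalar R M := ⟨fun r m => rfl⟩
  let B := TrivSqZeroExt R M
  let eB : (R × M) ≃ₗ[R] B := { toFun := fun p => p, invFun := fun p => p, map_add' := fun _ _ => rfl, map_smul' := fun _ _ => rfl, left_inv := fun _ => rfl, right_inv := fun _ => rfl }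
  haveI : Module.Flat R (R × M) := by
    rw [Module.Flat.iff_rTensor_preserves_injective_linearMap]
    intro N N' _ _ _ _ g hg z z' hzz'
    have h1 := Module.Flat.rTensor_preserves_injective_linearMap (M := R) g hg
    have h2 := Module.Flat.rTensor_preserves_injective_linearMap (M := M) g hg
    have e : ∀ w : N ⊗[R] (R × M), w = (LinearMap.inl R R M).lTensor N ((LinearMap.fst R R M).lTensor N w) +
        (LinearMap.inr R R M).lTensor N ((LinearMap.snd R R M).lTensor N w) := fun w => by
      induction w using TensorProduct.induction_on with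
      | zero => simp
      | tmul a b => simp [← TensorProduct.tmul_add]
      | add w w' hw hw' =>
        conv_lhs => rw [hw, hw']
        simp only [map_add]
        abel
    have c1 : ∀ w, (LinearMap.fst R R M).lTensor N' (g.rTensor (R × M) w) = g.rTensor R ((LinearMap.fst R R M).lTensor N w) := fun w => by
      rw [← LinearMap.comp_apply, ← LinearMap.comp_apply, LinearMap.lTensor_comp_rTensor, LinearMap.rTensor_comp_lTensor]
    have c2 : ∀ w, (LinearMap.snd R R M).lTensor N' (g.rTensor (R × M) w) = g.rTensor M ((LinearMap.snd R R M).lTensor N w) := fun w => by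
      rw [← LinearMap.comp_apply, ← LinearMap.comp_apply, LinearMap.lTensor_comp_rTensor, LinearMap.rTensor_comp_lTensor]
    rw [e z, e z', h1 ((c1 z).symm.trans ((congrArg _ hzz').trans (c1 z'))),
      h2 ((c2 z).symm.trans ((congrArg _ hzz').trans (c2 z')))]
  haveI : Module.Flat R B := Module.Flat.of_linearEquiv eB.symm
  haveI := H7Gamma.TS_flat (A := R) (B := B) (d := n)
  let i : M →ₗ[R] B := TrivSqZeroExt.inrHom R M
  let s : B →ₗ[R] M := TrivSqZeroExt.sndHom R M
  have hsi : s ∘ₗ i = LinearMap.id := LinearMap.ext fun m => rfl
  set W := (⨅ σ : Equiv.Perm (Fin n),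
      LinearMap.eqLocus (PiTensorProduct.reindex R (fun _ : Fin n => M) σ).toLinearMap LinearMap.id) with hW
  have hmem : ∀ x : ⨂[R] _ : Fin n, M, x ∈ W ↔ ∀ σ, PiTensorProduct.reindex R (fun _ : Fin n => M) σ x = x := fun x => by
    rw [hW, Submodule.mem_iInf]
    rfl
  let I' : W →ₗ[R] SymTen.TS R B n :=
    (((PiTensorProduct.map fun _ : Fin n => i).comp W.subtype).codRestrict (Subalgebra.toSubmodule (SymTen.TS R B n))
      fun x p => by
        rw [LinearMap.comp_apply, H7Gamma.reindex_map]
        exact congrArg _ ((hmem x.1).mp x.2 p))
  let S' : SymTen.TS R B n →ₗ[R] W :=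
    (((PiTensorProduct.map fun _ : Fin n => s).comp (SymTen.TS R B n).val.toLinearMap).codRestrict W
      fun x => (hmem _).mpr fun p => by
        rw [LinearMap.comp_apply, H7Gamma.reindex_map]
        exact congrArg _ (x.2 p))
  refine Module.Flat.of_retract I' S' (LinearMap.ext fun x => Subtype.ext ?_)
  show PiTensorProduct.map (fun _ : Fin n => s) (PiTensorProduct.map (fun _ : Fin n => i) (x : ⨂[R] _ : Fin n, M)) = x
  have : ∀ y, PiTensorProduct.map (fun _ : Fin n => s) (PiTensorProduct.map (fun _ : Fin n => i) y) =
      PiTensorProduct.map (fun _ : Fin n => s ∘ₗ i) y := fun y => by rw [PiTensorProduct.map_comp]; rfl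
  rw [this, hsi, PiTensorProduct.map_id]
  rfl

end Groth.Agent.S14671
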