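import Groth.Statements.S14672
import Groth.Agent.Lib.H7GammaMore

set_option autoImplicit false
universe u
open scoped TensorProduct
open SymTen

namespace Groth.Agent.S14672

/-- Let R be a commutative ring, f : M → N a surjective R-linear map whose target N is flat over R, and
n ≥ 0. Then the induced map on symmetric tensors of degree n is surjective: every element of the
n-fold tensor power of N over R which is fixed by every permutation of the factors is the image,
under the n-fold tensor power of f, of an element of the n-fold tensor power of M fixed by every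
permutation of the factors. -/
theorem result (R : Type u) [CommRing R] (M N : Type u) [AddCommGroup M] [Module R M]
    [AddCommGroup N] [Module R N] [Module.Flat R N] (f : M →ₗ[R] N) (hf : Function.Surjective f) (n : ℕ)
    (t : ⨂[R] _ : Fin n, N) (ht : ∀ σ : Equiv.Perm (Fin n), PiTensorProduct.reindex R (fun _ : Fin n => N) σ t = t) :
    ∃ s : ⨂[R] _ : Fin n, M, (∀ σ : Equiv.Perm (Fin n), PiTensorProduct.reindex R (fun _ : Fin n => M) σ s = s) ∧
      PiTensorProduct.map (fun _ : Fin n => f) s = t := by
  classical
  open Groth.Agent in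
  let π : (N →₀ R) →ₗ[R] N := Finsupp.linearCombination R id
  have hπ : Function.Surjective π := fun x => ⟨Finsupp.single x 1, by simp [π]⟩
  choose l hl using hf
  let g : (N →₀ R) →ₗ[R] M := Finsupp.linearCombination R l
  have hfg : f ∘ₗ g = π := Finsupp.lhom_ext fun x a => by simp [g, π, hl]
  obtain ⟨z, hz⟩ := H7Gamma.map_surjective (d := n) π hπ t
  obtain ⟨u, hu, hu0⟩ := H7Gamma.exists_kill_tensors (Finsupp.basisSingleOne) π hπ
    (Finset.univ.image fun p : Equiv.Perm (Fin n) => PiTensorProduct.reindex R (fun _ : Fin n => (N →₀ R)) p z - z)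
    (fun w hw => by
      obtain ⟨p, -, rfl⟩ := Finset.mem_image.mp hw
      rw [map_sub, ← H7Gamma.reindex_map, hz, ht p, sub_self])
  refine ⟨PiTensorProduct.map (fun _ : Fin n => g ∘ₗ u) z, fun p => ?_, ?_⟩
  · rw [H7Gamma.reindex_map, ← sub_eq_zero, ← map_sub, ← H7Gamma.map_map, hu0 _ (Finset.mem_image_of_mem _ (Finset.mem_univ p)), map_zero]
  · have e : ∀ x, PiTensorProduct.map (fun _ : Fin n => f) (PiTensorProduct.map (fun _ : Fin n => g ∘ₗ u) x) =
        PiTensorProduct.map (fun _ : Fin n => f ∘ₗ (g ∘ₗ u)) x := fun x => by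
      exact (LinearMap.congr_fun (PiTensorProduct.map_comp (fun _ : Fin n => f) (fun _ : Fin n => g ∘ₗ u)) x).symm
    rw [e, show f ∘ₗ (g ∘ₗ u) = π by rw [← LinearMap.comp_assoc, hfg, hu], hz]

end Groth.Agent.S14672
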