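import Groth.Statements.S14673
import Groth.Agent.Lib.H7GammaMore

set_option autoImplicit false
universe u
open scoped TensorProduct
open SymTen

namespace Groth.Agent.S14673

open scoped TensorProduct
open Groth.Agent.H7SymTen

theorem cnt_mapDomain {σ τ : Type} [Fintype σ] [Fintype τ] {d : ℕ} (f : σ → τ) (c : Fin d → σ) :
    cnt (f ∘ c) = Finsupp.mapDomain f (cnt c) := by
  simp [cnt, Finsupp.mapDomain_finsetSum]

open scoped Classical in
theorem orb_mapDomain {R M : Type u} [CommRing R] [AddCommGroup M] [Module R M] {σ τ : Type} [Fintype σ] [Fintype τ] {d : ℕ}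
    (f : σ → τ) (hf : Function.Injective f) (b : τ → M) (k : σ →₀ ℕ) :
    orb (A := R) (d := d) b (Finsupp.mapDomain f k) = orb (fun x => b (f x)) k := by
  classical
  simp only [orb, ← Finset.sum_filter]
  refine (Finset.sum_bij (fun c _ => f ∘ c) ?_ ?_ ?_ ?_).symm
  · intro c hc
    simp only [Finset.mem_filter, Finset.mem_univ, true_and] at hc ⊢
    rw [cnt_mapDomain, hc]
  · intro c _ c' _ h
    exact funext fun i => hf (congrFun h i)
  · intro c hc
    simp only [Finset.mem_filter, Finset.mem_univ, true_and] at hc
    have hmem : ∀ i, ∃ x, f x = c i := by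
      intro i
      by_contra hno
      push Not at hno
      have h0 : (Finsupp.mapDomain f k) (c i) = 0 := Finsupp.mapDomain_notin_range k _ (fun ⟨x, hx⟩ => hno x hx)
      rw [← hc, cnt_apply, Fintype.card_eq_zero_iff] at h0
      exact h0.false ⟨i, rfl⟩
    choose c' hc' using hmem
    refine ⟨c', ?_, funext hc'⟩
    simp only [Finset.mem_filter, Finset.mem_univ, true_and]
    refine Finsupp.mapDomain_injective hf ?_
    rw [← cnt_mapDomain, show f ∘ c' = c from funext hc', hc]
  · intro c _
    rfl

/-- the `j`-th elementary symmetric tensor of `a` -/
noncomputable def esym (R : Type u) [CommRing R] {A : Type u} [CommRing A] [Algebra R A] (n : ℕ) (a : A) (j : ℕ) : ⨂[R] _ : Fin n, A :=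
  ∑ I ∈ (Finset.univ : Finset (Fin n)).powersetCard j,
        PiTensorProduct.tprod R (fun i : Fin n => if i ∈ I then a else (1 : A))

theorem orb_mem_adjoin {R A : Type u} [CommRing R] [CommRing A] [Algebra R A] (d : ℕ) : ∀ (m : ℕ) (σ : Type) (_ : Fintype σ)
    (b : σ → A) (k : σ →₀ ℕ) (j₀ : σ), b j₀ = 1 → k.degree = d → d ≤ k j₀ + m →
      orb (A := R) (d := d) b k ∈ Algebra.adjoin R {t | ∃ (a : A) (j : ℕ), t = esym R d a j} := by
  classical
  intro m
  induction m using Nat.strong_induction_on with
  | _ m ih =>
    intro σ _ b k j₀ hb hdeg hm
    let D := Algebra.adjoin R {t : ⨂[R] _ : Fin d, A | ∃ (a : A) (j : ℕ), t = esym R d a j}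
    by_cases hall : ∀ l, l ≠ j₀ → k l = 0
    · have hk : k = Finsupp.single j₀ d := by
        have h1 : k = Finsupp.single j₀ (k j₀) := Finsupp.ext fun l => by
          by_cases hl : l = j₀
          · subst hl; simp
          · simp [hall l hl, Ne.symm hl]
        rw [h1, Finsupp.degree_single] at hdeg
        rw [h1, hdeg]
      have hfilter : (Finset.univ : Finset (Fin d → σ)).filter (fun c => cnt c = k) = {fun _ => j₀} := by
        ext c
        simp only [Finset.mem_filter, Finset.mem_univ, true_and, Finset.mem_singleton]
        constructor
        · intro hc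
          funext i
          by_contra hi
          have h1 := congrArg (fun q => q (c i)) hc
          simp only [hall _ hi, cnt_apply, Fintype.card_eq_zero_iff] at h1
          exact h1.false ⟨i, rfl⟩
        · rintro rfl
          simp [cnt, hk, ← Finset.smul_sum, Finsupp.smul_single]
      rw [orb, ← Finset.sum_filter, hfilter, Finset.sum_singleton]
      simp only [hb]
      exact one_mem D
    push Not at hall
    obtain ⟨l, hlj, hl⟩ := hall
    let a := b l
    let j := k l
    let k' : σ →₀ ℕ := k.erase l + Finsupp.single j₀ j
    have hdeg' : k'.degree = d := by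
      rw [map_add, Finsupp.degree_single, ← hdeg]
      conv_rhs => rw [← Finsupp.erase_add_single l k, map_add, Finsupp.degree_single]
    have hk'j : k' j₀ = k j₀ + j := by simp [k', Finsupp.erase_ne (Ne.symm hlj)]
    have hk'l : k' l = 0 := by simp [k', hlj]
    have hjpos : 0 < j := Nat.pos_of_ne_zero hl
    have hkj : k j₀ + j ≤ d := by
      rw [← hk'j, ← hdeg']
      exact Finsupp.le_degree j₀ k'
    have hmem' : orb (A := R) (d := d) b k' ∈ D := ih (m - j) (by omega) σ _ b k' j₀ hb hdeg' (by omega)
    let b' : σ × Bool → A := fun x => b x.1 * (if x.2 then a else 1)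
    let V : Finset (Fin d → σ × Bool) :=
      Finset.univ.filter fun c => cnt (Prod.fst ∘ c) = k' ∧ cnt (Prod.snd ∘ c) true = j
    let f : σ → σ × Bool := fun x => if x = l then (j₀, true) else (x, false)
    have hf : Function.Injective f := by
      intro x y h
      simp only [f] at h
      split_ifs at h with hx hy hy
      · rw [hx, hy]
      all_goals simp_all
    have hprod : esym R d a j * orb (A := R) (d := d) b k' = ∑ k'' ∈ V.image cnt, orb (A := R) (d := d) b' k'' := by
      simp only [esym, orb, ← Finset.sum_filter, Finset.sum_mul_sum, PiTensorProduct.tprod_mul_tprod]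
      rw [← Finset.sum_product']
      have hfib : ∀ k'' ∈ V.image cnt, (Finset.univ : Finset (Fin d → σ × Bool)).filter (fun c => cnt c = k'') = V.filter (fun c => cnt c = k'') := by
        intro k'' hk''
        obtain ⟨c₀, hc₀, rfl⟩ := Finset.mem_image.mp hk''
        simp only [V, Finset.mem_filter, Finset.mem_univ, true_and] at hc₀
        ext c
        simp only [V, Finset.mem_filter, Finset.mem_univ, true_and]
        refine ⟨fun h => ⟨?_, h⟩, fun h => h.2⟩
        rw [cnt_mapDomain, cnt_mapDomain, h, ← cnt_mapDomain, ← cnt_mapDomain]
        exact hc₀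
      conv_rhs => rw [Finset.sum_congr rfl (g := fun k'' => ∑ c ∈ V.filter (fun c => cnt c = k''), PiTensorProduct.tprod R fun i => b' (c i))
        fun k'' hk'' => by
          rw [← hfib k'' hk'', Finset.sum_filter]
          exact Finset.sum_congr rfl fun c _ => by congr]
      rw [Finset.sum_fiberwise_of_maps_to fun c hc => Finset.mem_image_of_mem cnt hc]
      refine Finset.sum_bij' (fun p _ => fun i => (p.2 i, decide (i ∈ p.1)))
        (fun c _ => (Finset.univ.filter (fun i => (c i).2 = true), fun i => (c i).1)) ?_ ?_ ?_ ?_ ?_
      · rintro ⟨I, c⟩ h
        simp only [Finset.mem_product, Finset.mem_powersetCard, Finset.mem_filter, Finset.mem_univ, true_and] at h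
        simp only [V, Finset.mem_filter, Finset.mem_univ, true_and]
        refine ⟨h.2, ?_⟩
        rw [cnt_apply, Fintype.card_subtype]
        simpa using h.1.2
      · intro c hc
        simp only [V, Finset.mem_filter, Finset.mem_univ, true_and] at hc
        simp only [Finset.mem_product, Finset.mem_powersetCard, Finset.mem_filter, Finset.mem_univ, true_and]
        refine ⟨⟨Finset.subset_univ _, ?_⟩, hc.1⟩
        rw [← hc.2, cnt_apply, Fintype.card_subtype]
        rfl
      · rintro ⟨I, c⟩ _
        simp
      · intro c _
        funext i
        simp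
      · rintro ⟨I, c⟩ _
        show PiTensorProduct.tprod R _ = PiTensorProduct.tprod R _
        congr 1
        funext i
        simp [b', mul_comm]
    have hlead : orb (A := R) (d := d) b' (Finsupp.mapDomain f k) = orb (A := R) (d := d) b k := by
      rw [orb_mapDomain f hf]
      congr 1
      funext x
      simp only [b', f]
      by_cases hx : x = l
      · simp [hx, hb, a]
      · simp [hx]
    have hrest : ∀ k'' ∈ V.image cnt, k'' ≠ Finsupp.mapDomain f k → orb (A := R) (d := d) b' k'' ∈ D := by
      intro k'' hk'' hne
      obtain ⟨c, hc, rfl⟩ := Finset.mem_image.mp hk''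
      simp only [V, Finset.mem_filter, Finset.mem_univ, true_and] at hc
      have hmem : k j₀ < cnt c (j₀, false) := by
        by_contra hle
        push Not at hle
        apply hne
        have h1 : cnt (Prod.fst ∘ c) j₀ = cnt c (j₀, false) + cnt c (j₀, true) := by
          simp only [cnt_apply, Fintype.card_subtype, Function.comp_apply]
          rw [← Finset.card_union_of_disjoint (Finset.disjoint_filter.mpr fun i _ h h' => by rw [h] at h'; simp at h')]
          congr 1
          ext i
          simp only [Finset.mem_filter, Finset.mem_union, Finset.mem_univ, true_and]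
          constructor
          · intro h
            cases hb2 : (c i).2
            · exact Or.inl (Prod.ext h hb2)
            · exact Or.inr (Prod.ext h hb2)
          · rintro (h | h) <;> simp [h]
        rw [hc.1, hk'j] at h1
        have h2 : (Finset.univ.filter fun i => c i = (j₀, true)) ⊆ Finset.univ.filter (fun i => (c i).2 = true) := by
          intro i hi
          simp only [Finset.mem_filter, Finset.mem_univ, true_and] at hi ⊢
          rw [hi]
        have h3 : (Finset.univ.filter fun i => (c i).2 = true).card = j := by
          rw [← hc.2, cnt_apply, Fintype.card_subtype]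
          rfl
        have h4 : (Finset.univ.filter fun i => c i = (j₀, true)).card = cnt c (j₀, true) := by
          rw [cnt_apply, Fintype.card_subtype]
        have h5 := Finset.eq_of_subset_of_card_le h2 (by rw [h3, h4]; omega)
        have hct : ∀ i, (c i).2 = true → c i = (j₀, true) := fun i hi => by
          have : i ∈ Finset.univ.filter (fun i => (c i).2 = true) := by simp [hi]
          rw [← h5] at this
          simpa using this
        have hcl : ∀ i, (c i).1 ≠ l := by
          intro i hi
          have h6 := hk'l
          rw [← hc.1, cnt_apply, Fintype.card_eq_zero_iff] at h6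
          exact h6.false ⟨i, hi⟩
        let c₁ : Fin d → σ := fun i => if (c i).2 then l else (c i).1
        have hfc : f ∘ c₁ = c := by
          funext i
          cases hb2 : (c i).2
          · simp only [Function.comp_apply, c₁, hb2, f, if_neg Bool.false_ne_true, if_neg (hcl i)]
            exact Prod.ext rfl hb2.symm
          · simp only [Function.comp_apply, c₁, hb2, f, if_true]
            exact (hct i hb2).symm
        rw [← hfc, cnt_mapDomain]
        congr 1
        ext x
        by_cases hx : x = l
        · subst hx
          rw [cnt_apply, Fintype.card_subtype]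
          refine (congrArg Finset.card ?_).trans h3
          ext i
          simp only [c₁, Finset.mem_filter, Finset.mem_univ, true_and]
          cases hb2 : (c i).2 <;> simp [hcl i]
        · have h7 : cnt (Prod.fst ∘ c) x = k' x := by rw [hc.1]
          by_cases hxj : x = j₀
          · subst hxj
            have h8 : cnt c₁ x = cnt c (x, false) := by
              simp only [cnt_apply, Fintype.card_subtype]
              congr 1
              ext i
              simp only [c₁, Finset.mem_filter, Finset.mem_univ, true_and]
              cases hb2 : (c i).2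
              · simp only [if_neg Bool.false_ne_true]
                exact ⟨fun h => Prod.ext h hb2, fun h => by rw [h]⟩
              · simp only [if_true]
                exact ⟨fun h => absurd h.symm hx, fun h => by rw [h] at hb2; simp at hb2⟩
            have hle2 : cnt c (x, true) ≤ j := by rw [← h4, ← h3]; exact Finset.card_le_card h2
            rw [h8]
            omega
          · have h8 : k' x = k x := by simp [k', hx, Ne.symm hxj]
            rw [← h8, ← h7]
            simp only [cnt_apply, Fintype.card_subtype, Function.comp_apply]
            congr 1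
            ext i
            simp only [c₁, Finset.mem_filter, Finset.mem_univ, true_and]
            cases hb2 : (c i).2
            · simp
            · simp [hct i hb2, Ne.symm hx, Ne.symm hxj]
      refine ih (d - cnt c (j₀, false)) (by omega) (σ × Bool) _ b' (cnt c) (j₀, false) ?_ (degree_cnt c) (by omega)
      simp [b', hb]
    have hin : Finsupp.mapDomain f k ∈ V.image cnt := by
      obtain ⟨c, hc⟩ := exists_cnt_eq hdeg
      refine Finset.mem_image.mpr ⟨f ∘ c, ?_, by rw [cnt_mapDomain, hc]⟩
      simp only [V, Finset.mem_filter, Finset.mem_univ, true_and]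
      constructor
      · rw [cnt_mapDomain, cnt_mapDomain, hc, ← Finsupp.mapDomain_comp]
        conv_lhs => rw [← Finsupp.erase_add_single l k, Finsupp.mapDomain_add, Finsupp.mapDomain_single]
        simp only [k']
        congr 1
        · refine (Finsupp.mapDomain_congr fun x hx => ?_).trans Finsupp.mapDomain_id
          have : x ≠ l := fun h => by simp [h] at hx
          simp [f, this]
        · simp [f, j]
      · rw [cnt_apply, Fintype.card_subtype]
        have h9 : k l = (Finset.univ.filter fun i => c i = l).card := by
          rw [← hc, cnt_apply, Fintype.card_subtype]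
        show _ = k l
        rw [h9]
        congr 1
        ext i
        simp only [Function.comp_apply, f, Finset.mem_filter, Finset.mem_univ, true_and]
        split_ifs with hi <;> simp [hi]
    rw [← Finset.add_sum_erase _ _ hin, hlead] at hprod
    rw [eq_sub_of_add_eq hprod.symm]
    exact sub_mem (mul_mem (Algebra.subset_adjoin ⟨a, j, rfl⟩) hmem')
      (sum_mem fun k'' hk'' => hrest k'' (Finset.mem_of_mem_erase hk'') (Finset.ne_of_mem_erase hk''))


/-- Let R be a commutative ring, A a commutative R-algebra which is flat as an R-module, and n ≥ 0. For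
a ∈ A and j ≥ 0 write σ_j(a) for the j-th elementary symmetric polynomial in the n elements 1 ⊗ ⋯ ⊗
a ⊗ ⋯ ⊗ 1 of the n-fold tensor power of A over R, that is, the sum over the j-element sets I of
indices of the pure tensors having a in the places of I and 1 in the other places. Then the
subalgebra TS^n_R(A) of symmetric tensors (tensors fixed by every permutation of the factors) equals
the R-subalgebra generated by all the σ_j(a). -/
theorem result (R : Type u) [CommRing R] (A : Type u) [CommRing A] [Algebra R A]
    [Module.Flat R A] (n : ℕ) :
    SymTen.TS R A n = Algebra.adjoin R {t : ⨂[R] _ : Fin n, A | ∃ (a : A) (j : ℕ),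
      t = ∑ I ∈ (Finset.univ : Finset (Fin n)).powersetCard j,
        PiTensorProduct.tprod R (fun i : Fin n => if i ∈ I then a else (1 : A))} := by
  classical
  open Groth.Agent in
  show SymTen.TS R A n = Algebra.adjoin R {t | ∃ (a : A) (j : ℕ), t = esym R n a j}
  refine le_antisymm (fun y hy => ?_) (Algebra.adjoin_le ?_)
  · have h := H7PolLaw.coefSpan_eq_top _ (H7Gamma.isGammaD_of_flat (A := R) (B := A) (d := n))
    have hmem : (⟨y, hy⟩ : SymTen.TS R A n) ∈ H7PolLaw.coefSpan (H7SymTen.tsLaw R A n) := by rw [h]; exact Submodule.mem_top
    have key : H7PolLaw.coefSpan (H7SymTen.tsLaw R A n) ≤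
        (Subalgebra.toSubmodule (Algebra.adjoin R {t : ⨂[R] _ : Fin n, A | ∃ (a : A) (j : ℕ), t = esym R n a j})).comap
          (SymTen.TS R A n).val.toLinearMap := by
      refine Submodule.span_le.mpr ?_
      rintro _ ⟨m, b, k, rfl⟩
      show ((H7PolLaw.coef (H7SymTen.tsLaw R A n).law b k : SymTen.TS R A n) : ⨂[R] _ : Fin n, A) ∈ Algebra.adjoin R _
      rw [H7SymTen.coe_coef_tsLaw]
      by_cases hk : k.degree = n
      · have h2 := orb_mem_adjoin (R := R) n n (Option (Fin m)) inferInstance (fun o => o.elim 1 b) (Finsupp.mapDomain some k) none rfl
          (by rw [← hk]; simp [Finsupp.degree_mapDomain]) (Nat.le_add_left _ _)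
        rw [orb_mapDomain some (Option.some_injective _)] at h2
        exact h2
      · have : H7SymTen.orb (A := R) (d := n) b k = 0 := by
          refine Finset.sum_eq_zero fun c _ => if_neg fun hc => hk ?_
          rw [← hc, H7SymTen.degree_cnt]
        rw [this]
        exact zero_mem _
    exact key hmem
  · rintro _ ⟨a, j, rfl⟩ σ
    simp only [esym, map_sum, PiTensorProduct.reindex_tprod]
    refine Finset.sum_equiv σ.finsetCongr (fun I => ?_) (fun I _ => ?_)
    · simp [Finset.mem_powersetCard]
    · congr 1
      funext i
      simp [Equiv.finsetCongr_apply, Finset.mem_map_equiv]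

end Groth.Agent.S14673
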