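import Groth.Statements.S14676
import Mathlib
import Groth.Agent.Lib.H2MinPrime

set_option autoImplicit false
universe u
open CAlg

namespace Groth.Agent.S14676
set_option linter.style.haveILetI false
open TensorProduct Polynomial Matrix

/-- Let A be a commutative ring which is separated and complete for the I-adic topology of an ideal I,
let P be any polynomial over A (not assumed monic) and a₀ an element of A such that P(a₀) lies in I
and P'(a₀) is a unit modulo I. Then there is a unique a in A congruent to a₀ modulo I with P(a) = 0. -/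
theorem result (A : Type u) [CommRing A] (I : Ideal A) [IsAdicComplete I A]
    (P : Polynomial A) (a₀ : A) (h₀ : P.eval a₀ ∈ I)
    (h₁ : IsUnit (Ideal.Quotient.mk I (P.derivative.eval a₀))) :
    ∃! a : A, a - a₀ ∈ I ∧ P.IsRoot a := by
  obtain ⟨w, hw⟩ := h₁.exists_right_inv
  obtain ⟨v, rfl⟩ := Ideal.Quotient.mk_surjective w
  rw [← map_mul, ← map_one (Ideal.Quotient.mk I), Ideal.Quotient.eq] at hw
  let s : ℕ → A := fun k => Nat.rec a₀ (fun _ a => a - v * P.eval a) k
  have hs : ∀ k, s k - a₀ ∈ I ∧ P.eval (s k) ∈ I ^ (k + 1) := by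
    intro k; induction k with
    | zero => exact ⟨by simp [s], by simpa [s] using h₀⟩
    | succ k ih =>
      show s k - v * P.eval (s k) - a₀ ∈ I ∧ P.eval (s k - v * P.eval (s k)) ∈ I ^ (k + 1 + 1)
      have hI : P.eval (s k) ∈ I := Ideal.pow_le_self (Nat.succ_ne_zero k) ih.2
      refine ⟨?_, ?_⟩
      · have : s k - v * P.eval (s k) - a₀ = (s k - a₀) - v * P.eval (s k) := by ring
        rw [this]; exact I.sub_mem ih.1 (I.mul_mem_left _ hI)
      · obtain ⟨q, hq⟩ := P.binomExpansion (s k) (-(v * P.eval (s k)))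
        obtain ⟨d, hd⟩ := Polynomial.sub_dvd_eval_sub (s k) a₀ P.derivative
        rw [sub_eq_add_neg, hq, show P.eval (s k) + P.derivative.eval (s k) * -(v * P.eval (s k)) + q * (-(v * P.eval (s k))) ^ 2 =
          P.eval (s k) * (-(P.derivative.eval a₀ * v - 1) - v * (P.derivative.eval (s k) - P.derivative.eval a₀) + q * v ^ 2 * P.eval (s k)) by ring]
        rw [pow_succ]
        refine Ideal.mul_mem_mul ih.2 (I.add_mem (I.sub_mem (I.neg_mem hw) (I.mul_mem_left _ ?_)) (I.mul_mem_left _ hI))
        rw [hd]; exact I.mul_mem_right _ ih.1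
  have hc : ∀ m k, s (m + k) - s m ∈ I ^ (m + 1) := by
    intro m k; induction k with
    | zero => simp
    | succ k ih =>
      have : s (m + (k + 1)) - s m = (s (m + k) - s m) - v * P.eval (s (m + k)) := by
        show s (m + k) - v * P.eval (s (m + k)) - s m = _
        ring
      rw [this]
      exact Ideal.sub_mem _ ih (Ideal.mul_mem_left _ _ (Ideal.pow_le_pow_right (by omega) (hs (m + k)).2))
  obtain ⟨a, ha⟩ := IsPrecomplete.prec (I := I) inferInstance (f := s) (fun {m n} hmn => by
    obtain ⟨k, rfl⟩ := Nat.exists_eq_add_of_le hmn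
    rw [SModEq.sub_mem, Ideal.smul_eq_mul, Ideal.mul_top, ← neg_sub]
    exact neg_mem (Ideal.pow_le_pow_right (Nat.le_succ m) (hc m k)))
  have ha' : ∀ m, s m - a ∈ I ^ m := fun m => by
    have := ha m; rwa [SModEq.sub_mem, Ideal.smul_eq_mul, Ideal.mul_top] at this
  have ha0 : a - a₀ ∈ I := by
    have : a - a₀ = (s 1 - a₀) - (s 1 - a) := by ring
    rw [this]; exact I.sub_mem (hs 1).1 (by simpa using ha' 1)
  have hroot : P.IsRoot a := IsHausdorff.haus (I := I) inferInstance _ fun m => by
    rw [SModEq.zero, Ideal.smul_eq_mul, Ideal.mul_top]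
    obtain ⟨d, hd⟩ := Polynomial.sub_dvd_eval_sub (s m) a P
    have : P.eval a = P.eval (s m) - (s m - a) * d := by rw [← hd]; ring
    rw [this]
    exact Ideal.sub_mem _ (Ideal.pow_le_pow_right (Nat.le_succ m) (hs m).2) (Ideal.mul_mem_right _ _ (ha' m))
  refine ⟨a, ⟨ha0, hroot⟩, ?_⟩
  rintro b ⟨hb0, hb⟩
  obtain ⟨q, hq⟩ := P.binomExpansion a (b - a)
  rw [add_sub_cancel, hb.eq_zero, hroot.eq_zero, zero_add] at hq
  obtain ⟨d, hd⟩ := Polynomial.sub_dvd_eval_sub a a₀ P.derivative
  have hu : IsUnit (v * (P.derivative.eval a + q * (b - a))) := by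
    have hmem : v * (P.derivative.eval a + q * (b - a)) - 1 ∈ Ideal.jacobson ⊥ := by
      refine IsAdicComplete.le_jacobson_bot I ?_
      have : v * (P.derivative.eval a + q * (b - a)) - 1 = (P.derivative.eval a₀ * v - 1) + v * (P.derivative.eval a - P.derivative.eval a₀) + v * q * ((b - a₀) - (a - a₀)) := by ring
      rw [this]
      exact I.add_mem (I.add_mem hw (I.mul_mem_left _ (hd ▸ I.mul_mem_right _ ha0))) (I.mul_mem_left _ (I.sub_mem hb0 ha0))
    have := (Ideal.mem_jacobson_bot.1 hmem) 1
    rwa [mul_one, sub_add_cancel] at this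
  have : (v * (P.derivative.eval a + q * (b - a))) * (b - a) = 0 := by
    linear_combination -v * hq
  exact sub_eq_zero.1 (hu.mul_right_eq_zero.1 this)

end Groth.Agent.S14676
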