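import Groth.Statements.S1468
import Mathlib
import Groth.Prelude.Def_EGA4b
import Groth.Prelude.Def_CAlg
import Groth.Prelude.Def_Found
import Groth.Agent.Lib.H2GeomRegMore
import Groth.Agent.Lib.LSmoothNormal

set_option autoImplicit false
universe u
open FlatMor

namespace Groth.Agent.S1468
open CategoryTheory AlgebraicGeometry TensorProduct
set_option maxHeartbeats 1000000
set_option synthInstance.maxHeartbeats 400000
set_option backward.isDefEq.respectTransparency.types false

open AlgebraicGeometry CategoryTheory Limits in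
/-- A smooth morphism is regular; concretely, for affine opens U ⊆ f⁻¹(V) the ring map O_Y(V) → O_X(U)
is a regular ring map (flat, with Noetherian and geometrically regular fibre rings). -/
theorem result {X Y : Scheme.{u}} (f : X ⟶ Y) [Smooth f] (U : X.Opens) (V : Y.Opens) (hU : IsAffineOpen U) (hV : IsAffineOpen V) (hUV : U ≤ f ⁻¹ᵁ V) :
    letI := (f.appLE V U hUV).hom.toAlgebra
    CAlg.IsRegularHom Γ(Y, V) Γ(X, U) := by

  letI := (f.appLE V U hUV).hom.toAlgebra
  haveI hs : Algebra.Smooth Γ(Y, V) Γ(X, U) := RingHom.smooth_algebraMap.1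
    (HasRingHomProperty.appLE @Smooth f inferInstance ⟨V, hV⟩ ⟨U, hU⟩ hUV)
  haveI : Module.Flat Γ(Y, V) Γ(X, U) := inferInstance
  refine ⟨inferInstance, fun p _ => ⟨Algebra.FiniteType.isNoetherianRing p.ResidueField _, fun k' _ _ _ => ?_⟩⟩
  haveI : IsNoetherianRing (k' ⊗[p.ResidueField] p.Fiber Γ(X, U)) := by
    haveI : Algebra.FiniteType k' (k' ⊗[p.ResidueField] p.Fiber Γ(X, U)) := inferInstance
    exact @Algebra.FiniteType.isNoetherianRing k' (k' ⊗[p.ResidueField] p.Fiber Γ(X, U)) _ _ _ this _
  refine Groth.Agent.H2GeomRegMore.isRegularRing_of_adicFS_over (R := k') fun q _ => ?_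
  haveI : Algebra.FormallySmooth (k' ⊗[p.ResidueField] p.Fiber Γ(X, U)) (Localization.AtPrime q) :=
    Algebra.FormallySmooth.of_isLocalization q.primeCompl
  haveI : Algebra.FormallySmooth k' (Localization.AtPrime q) :=
    Algebra.FormallySmooth.comp k' (k' ⊗[p.ResidueField] p.Fiber Γ(X, U)) _
  exact Groth.Agent.H2GeomRegMore.adicFS_of_formallySmooth _

end Groth.Agent.S1468
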