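import Groth.Statements.S1469
import Mathlib
import Groth.Prelude.Def_EGA4b
import Groth.Prelude.Def_CAlg
import Groth.Prelude.Def_Found
import Groth.Agent.Lib.H2GeomRegMore
import Groth.Agent.Lib.LSmoothNormal

set_option autoImplicit false
universe u
open FlatMor

namespace Groth.Agent.S1469
open CategoryTheory AlgebraicGeometry TensorProduct
set_option maxHeartbeats 1000000
set_option synthInstance.maxHeartbeats 400000
set_option backward.isDefEq.respectTransparency.types false

open AlgebraicGeometry CategoryTheory Limits in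
/-- A smooth morphism is normal; concretely, for affine opens U ⊆ f⁻¹(V) the ring map O_Y(V) → O_X(U) is
flat with geometrically normal fibre rings. -/
theorem result {X Y : Scheme.{u}} (f : X ⟶ Y) [Smooth f] (U : X.Opens) (V : Y.Opens) (hU : IsAffineOpen U) (hV : IsAffineOpen V) (hUV : U ≤ f ⁻¹ᵁ V) :
    letI := (f.appLE V U hUV).hom.toAlgebra
    EGA4.IsNormalHom Γ(Y, V) Γ(X, U) := by

  letI := (f.appLE V U hUV).hom.toAlgebra
  haveI hs : Algebra.Smooth Γ(Y, V) Γ(X, U) := RingHom.smooth_algebraMap.1
    (HasRingHomProperty.appLE @Smooth f inferInstance ⟨V, hV⟩ ⟨U, hU⟩ hUV)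
  haveI : Module.Flat Γ(Y, V) Γ(X, U) := inferInstance
  refine ⟨inferInstance, fun p _ k' _ _ _ q _ => ?_⟩
  exact Groth.Agent.LSmoothNormal.normal_atPrime k' (k' ⊗[p.ResidueField] p.Fiber Γ(X, U)) q

end Groth.Agent.S1469
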