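import Groth.Statements.S1471
import Mathlib
import Groth.Agent.S16707

set_option autoImplicit false
universe u
open FlatMor

namespace Groth.Agent.S1471
open AlgebraicGeometry CategoryTheory Limits
set_option backward.isDefEq.respectTransparency.types false
set_option linter.style.haveILetI false

open AlgebraicGeometry CategoryTheory Limits in
/-- Let f : X → Y and η a generic point of an irreducible component of Y. Then the fibre over η of the
composite X_red → X → Y is reduced; since it is a closed subscheme of X_η with the same underlying
set, this says (X_η)_red = (X_red)_η. -/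
theorem result {X Y : Scheme.{u}} (f : X ⟶ Y) (η : Y) (W : Set ↑Y) (hW : W ∈ irreducibleComponents ↑Y) (hη : IsGenericPoint η W) :
    IsReduced ((X.nilradical.subschemeι ≫ f).fiber η) := by
  set g := X.nilradical.subschemeι ≫ f
  haveI : IsReduced X.nilradical.subscheme := by
    apply +allowSynthFailures @IsReduced.of_openCover (𝒰 := X.nilradical.subschemeCover.openCover)
    intro U
    have hid : ∀ V : X.affineOpens, (X.nilradical.ideal V).IsRadical := fun V => by
      rw [← Scheme.IdealSheafData.radical_bot, Scheme.IdealSheafData.radical_ideal]; exact Ideal.radical_isRadical _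
    haveI : _root_.IsReduced (Γ(X, U.1) ⧸ X.nilradical.ideal U) := (Ideal.isRadical_iff_quotient_reduced _).1 (hid U)
    exact inferInstanceAs (IsReduced (Spec (CommRingCat.of (Γ(X, U.1) ⧸ X.nilradical.ideal U))))
  let b := Y.fromSpecStalk η
  let a : Spec (Y.residueField η) ⟶ Spec (Y.presheaf.stalk η) := Spec.map (Y.residue η)
  haveI : Flat b := by
    obtain ⟨_, ⟨U, hU, rfl⟩, hxU, -⟩ :=
      Y.isBasis_affineOpens.exists_subset_of_mem_open (Set.mem_univ η) isOpen_univ
    rw [show b = hU.fromSpecStalk hxU from (hU.fromSpecStalk_eq_fromSpecStalk hxU).symm, IsAffineOpen.fromSpecStalk]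
    letI : Algebra Γ(Y, U) (Y.presheaf.stalk η) := (Y.presheaf.germ U η hxU).hom.toAlgebra
    haveI := hU.isLocalization_stalk ⟨η, hxU⟩
    haveI : Flat (Spec.map (Y.presheaf.germ U η hxU)) :=
      Flat.SpecMap_iff.2 (IsLocalization.flat (Y.presheaf.stalk η) (hU.primeIdealOf ⟨η, hxU⟩).asIdeal.primeCompl)
    exact MorphismProperty.comp_mem _ _ _ this inferInstance
  haveI : IsReduced (pullback g b) := by
    haveI : ∀ z, _root_.IsReduced ((pullback g b).presheaf.stalk z) := by
      intro z
      have hs := (pullback.fst g b).stalkMap_surjective z
      have hf : ((pullback.fst g b).stalkMap z).hom.Flat := Flat.stalkMap _ z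
      algebraize [((pullback.fst g b).stalkMap z).hom]
      haveI : IsLocalHom (algebraMap (X.nilradical.subscheme.presheaf.stalk (pullback.fst g b z)) ((pullback g b).presheaf.stalk z)) :=
        inferInstanceAs (IsLocalHom ((pullback.fst g b).stalkMap z).hom)
      haveI := Module.FaithfullyFlat.of_flat_of_isLocalHom
        (A := X.nilradical.subscheme.presheaf.stalk (pullback.fst g b z)) (B := (pullback g b).presheaf.stalk z)
      let e := RingEquiv.ofBijective ((pullback.fst g b).stalkMap z).hom
        ⟨FaithfulSMul.algebraMap_injective (X.nilradical.subscheme.presheaf.stalk (pullback.fst g b z)) ((pullback g b).presheaf.stalk z), hs⟩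
      exact isReduced_of_injective e.symm e.symm.injective
    exact isReduced_of_isReduced_stalk _
  haveI : IsClosedImmersion a := IsClosedImmersion.spec_of_surjective _ (Y.residue_surjective η)
  haveI : Surjective a := by
    refine ⟨fun p => ⟨IsLocalRing.closedPoint _, b.isEmbedding.injective ?_⟩⟩
    have h1 : ∀ q, b q = η := by
      intro q
      have hq : b q ⤳ η := by
        have := Y.range_fromSpecStalk (x := η) ▸ Set.mem_range_self (f := b) q
        exact this
      have hcl : closure {η} ⊆ closure {b q} := closure_minimal (Set.singleton_subset_iff.2 hq.mem_closure) isClosed_closure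
      rw [hη.def] at hcl
      have := hW.2 (isIrreducible_singleton.closure) hcl
      exact (IsGenericPoint.eq (isGenericPoint_closure) (show IsGenericPoint η (closure {b q}) by
        rwa [show closure {b q} = W from le_antisymm this hcl]))
    rw [h1, h1]
  have hp : IsPullback (pullback.fst (pullback.snd g b) a ≫ pullback.fst g b) (pullback.snd (pullback.snd g b) a) g (a ≫ b) :=
    (IsPullback.of_hasPullback _ a).paste_horiz (IsPullback.of_hasPullback g b)
  haveI : IsIso (pullback.fst (pullback.snd g b) a) := isIso_of_isClosedImmersion_of_surjective _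
  haveI : IsReduced (pullback (pullback.snd g b) a) := isReduced_of_isOpenImmersion (pullback.fst (pullback.snd g b) a)
  exact isReduced_of_isOpenImmersion (hp.isoPullback.inv : g.fiber η ⟶ _)

end Groth.Agent.S1471
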