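import Groth.Statements.S14727
import Mathlib

set_option autoImplicit false
universe u
open ValPrufer

namespace Groth.Agent.S14727

set_option maxHeartbeats 1000000

/-- Let R be a semilocal ring (finitely many maximal ideals) and I an ideal of R of co-height zero, i.e.
every prime ideal containing I is maximal. Then the canonical map from the I-adic completion of R to
the product, over the maximal ideals m ⊇ I, of the I-adic completions of the local rings R_m
(equivalently their IR_m-adic completions) is bijective; it is the continuous ring isomorphism of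
the source, stated here as bijectivity of the canonical map of completed modules. -/
theorem result
    (R : Type u) [CommRing R] (hR : Finite (MaximalSpectrum R)) (I : Ideal R)
    (hI : ∀ (p : Ideal R), p.IsPrime → I ≤ p → p.IsMaximal) :
    Function.Bijective (LinearMap.pi (fun m : {m : MaximalSpectrum R // I ≤ m.asIdeal} =>
      AdicCompletion.map I (Algebra.linearMap R (Localization.AtPrime m.1.asIdeal)))) := by
  classical
  let ι := {m : MaximalSpectrum R // I ≤ m.asIdeal}
  let Rm : ι → Type u := fun m => Localization.AtPrime m.1.asIdeal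
  let g : ∀ m : ι, R →ₗ[R] Localization.AtPrime m.1.asIdeal := fun m => Algebra.linearMap R _
  let J : ι → ℕ → Ideal R := fun m n => Submodule.comap (g m) (I ^ n • ⊤)
  haveI : Finite ι := Subtype.finite
  haveI : Fintype ι := Fintype.ofFinite _
  have hJ : ∀ m n r, r ∈ J m n ↔ ∃ s ∉ m.1.asIdeal, s * r ∈ I ^ n := by
    intro m n r
    show algebraMap R (Localization.AtPrime m.1.asIdeal) r ∈ I ^ n • (⊤ : Submodule R _) ↔ _
    rw [Ideal.smul_top_eq_map, Submodule.restrictScalars_mem,
      IsLocalization.algebraMap_mem_map_algebraMap_iff m.1.asIdeal.primeCompl]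
    rfl
  have hIJ : ∀ m n, I ^ n ≤ J m n := fun m n r hr =>
    (hJ m n r).mpr ⟨1, fun h => m.1.isMaximal.ne_top ((Ideal.eq_top_iff_one _).mpr h), by rwa [one_mul]⟩
  have honly : ∀ m n (q : Ideal R), q.IsMaximal → J m n ≤ q → q = m.1.asIdeal := by
    intro m n q hq hle
    by_contra hne
    rcases Nat.eq_zero_or_pos n with rfl | hn
    · exact hq.ne_top (top_le_iff.mp (by simpa using (hIJ m 0).trans hle))
    have hIq : I ≤ q := hq.isPrime.le_of_pow_le ((hIJ m n).trans hle)
    obtain ⟨y, hym, hyq⟩ : ∃ y ∈ m.1.asIdeal, y ∉ q := by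
      by_contra h
      push Not at h
      exact hne (m.1.isMaximal.eq_of_le hq.ne_top h).symm
    let L := Localization.AtPrime m.1.asIdeal
    have hrad : algebraMap R L y ∈ (I.map (algebraMap R L)).radical := by
      rw [Ideal.radical_eq_sInf, Submodule.mem_sInf]
      rintro P ⟨hP, hPp⟩
      haveI := hPp
      have hP' : I ≤ Ideal.comap (algebraMap R L) P := Ideal.map_le_iff_le_comap.mp hP
      have hmax : (Ideal.comap (algebraMap R L) P).IsMaximal :=
        hI (Ideal.comap (algebraMap R L) P) inferInstance hP'
      have hle' : Ideal.comap (algebraMap R L) P ≤ m.1.asIdeal := by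
        intro r hr
        by_contra hrm
        exact hPp.ne_top (Ideal.eq_top_of_isUnit_mem _ hr
          (IsLocalization.map_units L (⟨r, hrm⟩ : m.1.asIdeal.primeCompl)))
      rw [← hmax.eq_of_le m.1.isMaximal.ne_top hle'] at hym
      exact hym
    obtain ⟨k, hk⟩ := hrad
    have hmem : y ^ (k * n) ∈ J m n := by
      show algebraMap R L (y ^ (k * n)) ∈ I ^ n • (⊤ : Submodule R L)
      rw [Ideal.smul_top_eq_map, Submodule.restrictScalars_mem, Ideal.map_pow, pow_mul, map_pow, map_pow]
      exact Ideal.pow_mem_pow hk n
    exact hyq (hq.isPrime.mem_of_pow_mem _ (hle hmem))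
  have hinj : ∀ n r, (∀ m, r ∈ J m n) → r ∈ I ^ n := by
    intro n r hr
    by_contra hrn
    let T : Ideal R := Submodule.comap (LinearMap.toSpanSingleton R R r) (I ^ n)
    have hT : T ≠ ⊤ := fun h => hrn (by
      have : (1 : R) ∈ T := h ▸ Submodule.mem_top
      simpa [T] using this)
    obtain ⟨q, hq, hTq⟩ := Ideal.exists_le_maximal T hT
    rcases Nat.eq_zero_or_pos n with rfl | hn
    · exact hrn (by simp)
    have hIT : I ^ n ≤ T := fun x hx => by
      show x • r ∈ I ^ n
      exact Ideal.mul_mem_right r _ hx
    have hIq : I ≤ q := hq.isPrime.le_of_pow_le (hIT.trans hTq)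
    obtain ⟨s, hs, hsr⟩ := (hJ ⟨⟨q, hq⟩, hIq⟩ n r).mp (hr _)
    exact hs (hTq (show s • r ∈ I ^ n from hsr))
  have hsurj : ∀ n (x : ∀ m : ι, Localization.AtPrime m.1.asIdeal),
      ∃ r, ∀ m, g m r - x m ∈ I ^ n • (⊤ : Submodule R (Localization.AtPrime m.1.asIdeal)) := by
    intro n x
    have hx : ∀ m : ι, ∃ a : R, g m a - x m ∈ I ^ n • (⊤ : Submodule R _) := by
      intro m
      obtain ⟨⟨a, s⟩, has⟩ := IsLocalization.surj m.1.asIdeal.primeCompl (x m)
      have htop : J m n ⊔ Ideal.span {(s : R)} = ⊤ := by
        by_contra hne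
        obtain ⟨q, hq, hle⟩ := Ideal.exists_le_maximal _ hne
        have hqm := honly m n q hq (le_sup_left.trans hle)
        have hsq : (s : R) ∈ q := hle (Ideal.mem_sup_right (Ideal.mem_span_singleton_self _))
        rw [hqm] at hsq
        exact s.2 hsq
      obtain ⟨j, hj, t, ht, hjt⟩ := Submodule.mem_sup.mp ((Ideal.eq_top_iff_one _).mp htop)
      obtain ⟨u, rfl⟩ := Ideal.mem_span_singleton'.mp ht
      refine ⟨u * a, ?_⟩
      have h1 : x m * algebraMap R (Localization.AtPrime m.1.asIdeal) s = algebraMap R _ a := has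
      have h2 : g m (u * a) - x m = -(x m * g m j) := by
        show algebraMap R _ (u * a) - x m = -(x m * algebraMap R _ j)
        rw [map_mul, ← h1, eq_sub_of_add_eq hjt, map_sub, map_one, map_mul]
        ring
      rw [h2, Ideal.smul_top_eq_map, Submodule.restrictScalars_mem]
      refine neg_mem (Ideal.mul_mem_left _ _ ?_)
      have := hj
      rw [Submodule.mem_comap, Ideal.smul_top_eq_map, Submodule.restrictScalars_mem] at this
      exact this
    choose a ha using hx
    obtain ⟨r, hr⟩ := Ideal.exists_forall_sub_mem_ideal (I := fun m : ι => J m n)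
      (fun m m' hmm' => by
        rw [Function.onFun, Ideal.isCoprime_iff_sup_eq]
        by_contra hne
        obtain ⟨q, hq, hle⟩ := Ideal.exists_le_maximal _ hne
        exact hmm' (Subtype.ext (MaximalSpectrum.ext
          ((honly m n q hq (le_sup_left.trans hle)).symm.trans (honly m' n q hq (le_sup_right.trans hle))))))
      a
    refine ⟨r, fun m => ?_⟩
    have := add_mem (show g m (r - a m) ∈ I ^ n • (⊤ : Submodule R _) from hr m) (ha m)
    rwa [map_sub, sub_add_sub_cancel] at this
  constructor
  · rw [injective_iff_map_eq_zero]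
    intro x hx
    refine AdicCompletion.ext (fun n => ?_)
    obtain ⟨r, hr⟩ := Submodule.Quotient.mk_surjective _ (x.val n)
    rw [AdicCompletion.val_zero_apply, ← hr, Submodule.Quotient.mk_eq_zero, smul_eq_mul, Ideal.mul_top]
    refine hinj n r (fun m => ?_)
    have h1 := congrArg (fun y => y.val n) (congrFun hx m)
    simp only [LinearMap.pi_apply, AdicCompletion.map_val_apply, ← hr, Pi.zero_apply,
      AdicCompletion.val_zero_apply] at h1
    show g m r ∈ I ^ n • (⊤ : Submodule R (Localization.AtPrime m.1.asIdeal))
    exact (Submodule.Quotient.mk_eq_zero _).mp h1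
  · intro y
    choose yn hyn using fun n (m : ι) => Submodule.Quotient.mk_surjective _ ((y m).val n)
    choose r hr using fun n => hsurj n (yn n)
    have hcompat : ∀ {a b : ℕ}, a ≤ b → r b - r a ∈ I ^ a := by
      intro a b hab
      refine hinj a _ (fun m => ?_)
      show g m (r b - r a) ∈ I ^ a • (⊤ : Submodule R (Localization.AtPrime m.1.asIdeal))
      have h1 : yn b m - yn a m ∈ I ^ a • (⊤ : Submodule R (Localization.AtPrime m.1.asIdeal)) := by
        rw [← Submodule.Quotient.eq, hyn a m, ← (y m).2 hab, ← hyn b m]
        rfl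
      have := add_mem (add_mem (Submodule.smul_mono_left (Ideal.pow_le_pow_right hab) (hr b m)) h1)
        (neg_mem (hr a m))
      rw [map_sub]
      convert this using 1
      abel
    refine ⟨⟨fun n => Submodule.Quotient.mk (r n), fun {a b} hab => ?_⟩, ?_⟩
    · refine (Submodule.Quotient.eq _).mpr ?_
      rw [smul_eq_mul, Ideal.mul_top]
      exact hcompat hab
    · funext m
      refine AdicCompletion.ext (fun n => ?_)
      show Submodule.Quotient.mk (g m (r n)) = _
      rw [← hyn n m]
      exact (Submodule.Quotient.eq _).mpr (hr n m)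

end Groth.Agent.S14727
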