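import Groth.Statements.S14729
import Mathlib
import Groth.Agent.Lib.H6.SemilocalPrufer

set_option autoImplicit false
set_option backward.isDefEq.respectTransparency.types false
set_option maxHeartbeats 1000000
set_option linter.all false
universe u
open ValPrufer

namespace Groth.Agent.S14729
open Groth.Agent

/-- Let R be a semilocal Prüfer domain (an integral domain with finitely many maximal ideals whose
localisations at primes are valuation rings) with fraction field L, and let K ⊆ L be a subfield.
Then R ∩ K is again a semilocal Prüfer domain and its fraction field is K, i.e. every element of K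
is a quotient of two elements of R ∩ K. -/
theorem result
    (R L : Type u) [CommRing R] [IsDomain R] [Field L] [Algebra R L] [IsFractionRing R L]
    (hR : ∀ (p : Ideal R) [p.IsPrime], ValuationRing (Localization.AtPrime p))
    (hfin : Finite (MaximalSpectrum R)) (K : Subfield L) :
    (∀ (p : Ideal ↥((algebraMap R L).range ⊓ K.toSubring)) [p.IsPrime],
        ValuationRing (Localization.AtPrime p)) ∧
      Finite (MaximalSpectrum ↥((algebraMap R L).range ⊓ K.toSubring)) ∧
      ∀ x : L, x ∈ K → ∃ a b : L, a ∈ (algebraMap R L).range ⊓ K.toSubring ∧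
        b ∈ (algebraMap R L).range ⊓ K.toSubring ∧ b ≠ 0 ∧ x = a / b := by
    classical
    haveI := hfin
    have htot : ∀ (m : MaximalSpectrum R) (a b : R), ∃ c s : R, s ∉ m.asIdeal ∧ (a * s = b * c ∨ b * s = a * c) := by
      intro m a b
      haveI := hR m.asIdeal
      have hinj : Function.Injective (algebraMap R (Localization.AtPrime m.asIdeal)) :=
        IsLocalization.injective _ m.asIdeal.primeCompl_le_nonZeroDivisors
      rcases ValuationRing.dvd_total (algebraMap R (Localization.AtPrime m.asIdeal) a)
        (algebraMap R _ b) with ⟨z, hz⟩ | ⟨z, hz⟩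
      all_goals
        obtain ⟨⟨c, s⟩, hcs⟩ := IsLocalization.surj m.asIdeal.primeCompl z
      · refine ⟨c, s, s.2, Or.inr (hinj ?_)⟩
        simp only [map_mul] at hcs ⊢
        rw [hz, mul_assoc, hcs]
      · refine ⟨c, s, s.2, Or.inl (hinj ?_)⟩
        simp only [map_mul] at hcs ⊢
        rw [hz, mul_assoc, hcs]
    let φ : R →+* L := algebraMap R L
    have hφ : Function.Injective φ := IsFractionRing.injective R L
    let O : MaximalSpectrum R → ValuationSubring L := fun m =>
      { carrier := {x | ∃ a s : R, s ∉ m.asIdeal ∧ x * φ s = φ a}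
        mul_mem' := by
          rintro x y ⟨a, s, hs, hx⟩ ⟨b, t, ht, hy⟩
          exact ⟨a * b, s * t, fun h => (m.isMaximal.isPrime.mem_or_mem h).elim hs ht, by
            rw [map_mul, map_mul, ← hx, ← hy]; ring⟩
        one_mem' := ⟨1, 1, m.isMaximal.isPrime.one_notMem, by simp⟩
        add_mem' := by
          rintro x y ⟨a, s, hs, hx⟩ ⟨b, t, ht, hy⟩
          exact ⟨a * t + b * s, s * t, fun h => (m.isMaximal.isPrime.mem_or_mem h).elim hs ht, by
            simp only [map_mul, map_add, ← hx, ← hy]; ring⟩
        zero_mem' := ⟨0, 1, m.isMaximal.isPrime.one_notMem, by simp⟩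
        neg_mem' := by
          rintro x ⟨a, s, hs, hx⟩
          exact ⟨-a, s, hs, by rw [map_neg, ← hx]; ring⟩
        mem_or_inv_mem' := by
          intro x
          obtain ⟨a, b, hb, rfl⟩ := IsFractionRing.div_surjective R x
          have hb0 : algebraMap R L b ≠ 0 := fun h => nonZeroDivisors.ne_zero hb
            (hφ (h.trans (map_zero φ).symm))
          obtain ⟨c, s, hs, h | h⟩ := htot m a b
          · left
            refine ⟨c, s, hs, ?_⟩
            have := congrArg φ h
            simp only [map_mul, φ] at this ⊢
            field_simp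
            exact this
          · rcases eq_or_ne (algebraMap R L a) 0 with ha | ha
            · left
              exact ⟨0, 1, m.isMaximal.isPrime.one_notMem, by simp [φ, ha]⟩
            · right
              refine ⟨c, s, hs, ?_⟩
              have := congrArg φ h
              simp only [map_mul, φ] at this ⊢
              field_simp
              exact this }
    have hA : ∀ z, z ∈ (algebraMap R L).range ⊓ K.toSubring ↔ z ∈ K ∧ ∀ m, z ∈ O m := by
      intro z
      constructor
      · rintro ⟨⟨a, rfl⟩, hK⟩
        exact ⟨hK, fun m => ⟨a, 1, m.isMaximal.isPrime.one_notMem, by simp [φ]⟩⟩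
      · rintro ⟨hK, hO⟩
        refine ⟨?_, hK⟩
        let J : Ideal R :=
          { carrier := {s | ∃ a, z * φ s = φ a}
            zero_mem' := ⟨0, by simp⟩
            add_mem' := by
              rintro s t ⟨a, ha⟩ ⟨b, hb⟩
              exact ⟨a + b, by simp only [map_add, mul_add, ha, hb]⟩
            smul_mem' := by
              rintro r s ⟨a, ha⟩
              exact ⟨r * a, by simp only [smul_eq_mul, map_mul, ← ha]; ring⟩ }
        have hJ : J = ⊤ := by
          by_contra h
          obtain ⟨M, hM, hle⟩ := Ideal.exists_le_maximal J h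
          obtain ⟨a, s, hs, hzs⟩ := hO ⟨M, hM⟩
          exact hs (hle ⟨a, hzs⟩)
        obtain ⟨a, ha⟩ := (Ideal.eq_top_iff_one J).1 hJ
        exact ⟨a, by simpa [φ] using ha.symm⟩
    haveI : Nontrivial R := inferInstance
    haveI : Nonempty (MaximalSpectrum R) := inferInstance
    refine ⟨fun p _ => ?_, H6SP.finite_maximal O K _ hA, fun x hx => H6SP.frac O K _ hA x hx⟩
    rw [ValuationRing.iff_dvd_total]
    refine ⟨fun a b => ?_⟩
    obtain ⟨⟨a', s⟩, ha⟩ := IsLocalization.surj p.primeCompl a
    obtain ⟨⟨b', t⟩, hb⟩ := IsLocalization.surj p.primeCompl b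
    simp only at ha hb
    have hs := IsLocalization.map_units (Localization.AtPrime p) s
    have ht := IsLocalization.map_units (Localization.AtPrime p) t
    obtain ⟨u, v, hu, h⟩ := H6SP.total O K _ hA p a' b'
    have huU := IsLocalization.map_units (Localization.AtPrime p) (⟨u, hu⟩ : p.primeCompl)
    rcases h with h | h
    · right
      rw [← hs.dvd_mul_right, ha, ← ht.mul_right_dvd, hb, ← huU.dvd_mul_right]
      exact ⟨algebraMap _ _ v, by rw [← map_mul, ← map_mul, h]⟩
    · left
      rw [← hs.mul_right_dvd, ha, ← ht.dvd_mul_right, hb, ← huU.dvd_mul_right]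
      exact ⟨algebraMap _ _ v, by rw [← map_mul, ← map_mul, h]⟩

end Groth.Agent.S14729
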