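import Groth.Statements.S14730
import Mathlib

set_option autoImplicit false
universe u
open ValPrufer

namespace Groth.Agent.S14730


section helpers

/-- For all but finitely many primes `n`, the homogenised geometric sum avoids a maximal ideal. -/
theorem bad_finite {R : Type u} [CommRing R] (m : Ideal R) [m.IsMaximal] (r s : R) (h : r ∉ m ∨ s ∉ m) :
    {n : ℕ | n.Prime ∧ (∑ i ∈ Finset.range n, r ^ i * s ^ (n - 1 - i)) ∈ m}.Finite := by
  classical
  letI := Ideal.Quotient.field m
  let π := Ideal.Quotient.mk m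
  refine Set.Finite.subset (Set.toFinite {orderOf (π r / π s), ringChar (R ⧸ m)}) ?_
  rintro n ⟨hn, hG⟩
  have hG' : ∑ i ∈ Finset.range n, π r ^ i * π s ^ (n - 1 - i) = 0 := by
    have := (Ideal.Quotient.eq_zero_iff_mem (I := m)).mpr hG
    simpa [map_sum] using this
  by_cases hs : π s = 0
  · exfalso
    rw [Finset.sum_eq_single (n - 1)] at hG'
    · rw [Nat.sub_self, pow_zero, mul_one] at hG'
      rcases h with h | h
      · exact h (Ideal.Quotient.eq_zero_iff_mem.mp (eq_zero_of_pow_eq_zero hG'))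
      · exact h (Ideal.Quotient.eq_zero_iff_mem.mp hs)
    · intro i hi hne
      have := Finset.mem_range.mp hi
      rw [hs, zero_pow (by omega), mul_zero]
    · intro h'
      exact absurd (Finset.mem_range.mpr (by have := hn.pos; omega)) h'
  · set y := π r / π s with hy
    have hy0 : (∑ i ∈ Finset.range n, y ^ i) = 0 := by
      have : (∑ i ∈ Finset.range n, y ^ i) * π s ^ (n - 1) = 0 := by
        rw [Finset.sum_mul, ← hG']
        refine Finset.sum_congr rfl fun i hi => ?_
        have := Finset.mem_range.mp hi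
        conv_lhs => rw [show n - 1 = i + (n - 1 - i) by omega, pow_add, ← mul_assoc, ← mul_pow, hy, div_mul_cancel₀ _ hs]
      exact (mul_eq_zero.mp this).resolve_right (pow_ne_zero _ hs)
    by_cases h1 : y = 1
    · rw [h1] at hy0
      simp at hy0
      right
      haveI := Fact.mk hn
      have := (ringChar.spec (R ⧸ m) n).mp hy0
      rcases hn.eq_one_or_self_of_dvd _ this with hc | hc
      · exact absurd hc (CharP.ringChar_ne_one (R := R ⧸ m))
      · exact hc.symm
    · left
      haveI := Fact.mk hn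
      exact (orderOf_eq_prime (sub_eq_zero.mp (by rw [← geom_sum_mul, hy0, zero_mul])) h1).symm

/-- Monomials in elements separating a chain of primes have a dominant term. -/
theorem not_mem_sum {V : Type u} [CommRing V] {n : ℕ} (P : Fin (n + 1) → Ideal V) (hP : ∀ i, (P i).IsPrime)
    (hmono : Monotone P) (Q : Ideal V) [Q.IsPrime] (hPQ : ∀ i, P i ≤ Q)
    (htot : ∀ a b : V, ∃ t, t ∉ Q ∧ (a ∣ t * b ∨ b ∣ t * a))
    (x : Fin n → V) (hx : ∀ i, x i ∈ P i.succ) (hx' : ∀ i, x i ∉ P i.castSucc)
    (S : Finset (Fin n → ℕ)) (c : (Fin n → ℕ) → V) (hc : ∀ a ∈ S, c a ∈ P 0 ∨ c a ∉ P (Fin.last n))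
    (hex : ∃ a ∈ S, c a ∉ P (Fin.last n)) :
    ∑ a ∈ S, c a * ∏ i, x i ^ a i ∉ P 0 := by
  classical
  haveI := hP
  let M : (Fin n → ℕ) → V := fun a => ∏ i, x i ^ a i
  have hne : (S.filter fun a => c a ∉ P (Fin.last n)).Nonempty := by
    obtain ⟨a, ha, h⟩ := hex
    exact ⟨a, Finset.mem_filter.mpr ⟨ha, h⟩⟩
  obtain ⟨a0, ha0, hmin⟩ := Finset.exists_min_image _ (fun a => toLex a) hne
  obtain ⟨ha0S, ha0c⟩ := Finset.mem_filter.mp ha0
  have hnot : ∀ (i j : Fin n), i < j → x j ∉ P i.succ := fun i j hij h =>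
    hx' j (hmono (Fin.le_def.mpr (by simp only [Fin.val_succ, Fin.val_castSucc]; omega)) h)
  have hM0 : M a0 ∉ P 0 := fun h => by
    obtain ⟨i, -, hi⟩ := Ideal.IsPrime.prod_mem_iff.mp h
    exact hx' i (hmono (Fin.zero_le _) ((hP 0).mem_of_pow_mem _ hi))
  have key : ∀ b, toLex a0 < toLex b → ∃ t, t ∉ Q ∧ ∃ z ∈ P (Fin.last n), t * M b = M a0 * z := by
    intro b hb
    obtain ⟨i, hlt, hi⟩ := hb
    change a0 i < b i at hi
    have hlt' : ∀ j, j < i → a0 j = b j := hlt
    let ls := (Finset.univ.erase i).filter fun j => j < i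
    let rs := (Finset.univ.erase i).filter fun j => ¬ j < i
    have hsplit : ∀ a : Fin n → ℕ, M a = x i ^ a i * ((∏ j ∈ ls, x j ^ a j) * ∏ j ∈ rs, x j ^ a j) := fun a => by
      rw [Finset.prod_filter_mul_prod_filter_not]
      exact (Finset.mul_prod_erase _ (fun j => x j ^ a j) (Finset.mem_univ i)).symm
    let ra := ∏ j ∈ rs, x j ^ a0 j
    let y := x i ^ (b i - a0 i) * ∏ j ∈ rs, x j ^ b j
    have hra : ra ∉ P i.succ := fun h => by
      obtain ⟨j, hj, hj'⟩ := Ideal.IsPrime.prod_mem_iff.mp h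
      obtain ⟨hj1, hj2⟩ := Finset.mem_filter.mp hj
      exact hnot i j (lt_of_le_of_ne (not_lt.mp hj2) (Finset.ne_of_mem_erase hj1).symm)
        ((hP _).mem_of_pow_mem _ hj')
    have hy : y ∈ P i.succ := Ideal.mul_mem_right _ _ (Ideal.pow_mem_of_mem _ (hx i) _ (by omega))
    obtain ⟨t, htQ, htot'⟩ := htot ra y
    rcases htot' with ⟨z, hz⟩ | ⟨w, hw⟩
    · have hzP : z ∈ P i.succ := by
        have : ra * z ∈ P i.succ := hz ▸ Ideal.mul_mem_left _ _ hy
        exact ((hP _).mem_or_mem this).resolve_left hra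
      refine ⟨t, htQ, z, hmono (Fin.le_last _) hzP, ?_⟩
      rw [hsplit b, hsplit a0, Finset.prod_congr rfl (fun j hj => by rw [hlt' j (Finset.mem_filter.mp hj).2] :
        ∀ j ∈ ls, x j ^ a0 j = x j ^ b j), ← Nat.add_sub_cancel' hi.le, pow_add]
      linear_combination x i ^ a0 i * (∏ j ∈ ls, x j ^ b j) * hz
    · exfalso
      have : t * ra ∈ P i.succ := hw ▸ Ideal.mul_mem_right _ _ hy
      rcases (hP _).mem_or_mem this with h | h
      · exact htQ (hPQ _ h)
      · exact hra h
  let Good : V → Prop := fun y => ∃ t, t ∉ Q ∧ ∃ z ∈ P (Fin.last n), ∃ e ∈ P 0, t * y = M a0 * z + e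
  have hsum : Good (∑ a ∈ S.erase a0, c a * M a) := by
    refine Finset.sum_induction _ Good ?_ ⟨1, ‹Q.IsPrime›.ne_top ∘ (Ideal.eq_top_iff_one _).mpr, 0, zero_mem _, 0, zero_mem _, by simp⟩ ?_
    · rintro u v ⟨t, ht, z, hz, e, he, h⟩ ⟨t', ht', z', hz', e', he', h'⟩
      refine ⟨t * t', fun h'' => (‹Q.IsPrime›.mem_or_mem h'').elim ht ht', t' * z + t * z', ?_, t' * e + t * e', ?_, ?_⟩
      · exact add_mem (Ideal.mul_mem_left _ _ hz) (Ideal.mul_mem_left _ _ hz')
      · exact add_mem (Ideal.mul_mem_left _ _ he) (Ideal.mul_mem_left _ _ he')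
      · linear_combination t' * h + t * h'
    · intro a ha
      obtain ⟨hne', haS⟩ := Finset.mem_erase.mp ha
      by_cases hca : c a ∈ P (Fin.last n)
      · have h0 : c a ∈ P 0 := (hc a haS).resolve_right (fun h => h hca)
        exact ⟨1, ‹Q.IsPrime›.ne_top ∘ (Ideal.eq_top_iff_one _).mpr, 0, zero_mem _, c a * M a, Ideal.mul_mem_right _ _ h0, by ring⟩
      · have hlt : toLex a0 < toLex a :=
          lt_of_le_of_ne (hmin a (Finset.mem_filter.mpr ⟨haS, hca⟩)) fun h => hne' (toLex.injective h).symm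
        obtain ⟨t, ht, z, hz, h⟩ := key a hlt
        exact ⟨t, ht, c a * z, Ideal.mul_mem_left _ _ hz, 0, zero_mem _, by linear_combination c a * h⟩
  intro hmem
  rw [← Finset.add_sum_erase _ _ ha0S] at hmem
  obtain ⟨t, ht, z, hz, e, he, h⟩ := hsum
  have h1 : M a0 * (t * c a0 + z) ∈ P 0 := by
    have h2 : M a0 * (t * c a0 + z) = t * (c a0 * M a0 + ∑ a ∈ S.erase a0, c a * M a) - e := by
      linear_combination -h
    rw [h2]
    exact sub_mem (Ideal.mul_mem_left _ _ hmem) he
  have h3 := hmono (Fin.zero_le (Fin.last n)) (((hP 0).mem_or_mem h1).resolve_left hM0)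
  have h4 : t * c a0 ∈ P (Fin.last n) := by simpa using sub_mem h3 hz
  rcases (hP _).mem_or_mem h4 with h5 | h5
  · exact ht (hPQ _ h5)
  · exact ha0c h5

/-- Elements separating a chain of primes with constant trace on the base are algebraically independent. -/
theorem indep {A : Type*} [CommRing A] [IsDomain A] [IsPrincipalIdealRing A] {V : Type u} [CommRing V] [IsDomain V]
    [Algebra A V] (hinj : Function.Injective (algebraMap A V))
    {n : ℕ} (P : Fin (n + 1) → Ideal V) (hP : ∀ i, (P i).IsPrime)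
    (hmono : Monotone P) (Q : Ideal V) [Q.IsPrime] (hPQ : ∀ i, P i ≤ Q)
    (htot : ∀ a b : V, ∃ t, t ∉ Q ∧ (a ∣ t * b ∨ b ∣ t * a))
    (x : Fin n → V) (hx : ∀ i, x i ∈ P i.succ) (hx' : ∀ i, x i ∉ P i.castSucc)
    (heq : (P (Fin.last n)).comap (algebraMap A V) ≤ (P 0).comap (algebraMap A V)) :
    AlgebraicIndependent A x := by
  classical
  rw [algebraicIndependent_iff]
  intro p hp
  by_contra hne
  have aux : ∀ c : A, ∀ p : MvPolynomial (Fin n) A, ∀ d, p.coeff d = c → c ≠ 0 → MvPolynomial.aeval x p = 0 → False := by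
    intro c
    induction c using (wellFounded_dvdNotUnit (α := A)).induction with
    | _ c ih =>
      intro p d hd hc0 hp
      by_cases hall : ∀ a ∈ p.support, algebraMap A V (p.coeff a) ∈ P 0
      · let I := (P 0).comap (algebraMap A V)
        haveI : I.IsPrime := inferInstance
        have hmem : ∀ a, p.coeff a ∈ I := fun a => by
          by_cases ha : a ∈ p.support
          · exact hall a ha
          · rw [MvPolynomial.notMem_support_iff.mp ha]; exact zero_mem _
        obtain ⟨π, hπ⟩ := (IsPrincipalIdealRing.principal I).principal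
        have hπd : ∀ a, π ∣ p.coeff a := fun a => Ideal.mem_span_singleton.mp (show p.coeff a ∈ Ideal.span {π} by rw [← Ideal.submodule_span_eq, ← hπ]; exact hmem a)
        obtain ⟨q, rfl⟩ := (MvPolynomial.C_dvd_iff_dvd_coeff π p).mpr hπd
        rw [MvPolynomial.coeff_C_mul] at hd
        have hπ0 : π ≠ 0 := by rintro rfl; exact hc0 (by rw [← hd, zero_mul])
        have hq0 : q.coeff d ≠ 0 := fun h => hc0 (by rw [← hd, h, mul_zero])
        have hu : ¬ IsUnit π := fun hu => Ideal.IsPrime.ne_top (I := I) inferInstance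
          (by rw [hπ]; exact Ideal.span_singleton_eq_top.mpr hu)
        refine ih (q.coeff d) ⟨hq0, π, hu, by rw [← hd, mul_comm]⟩ q d rfl hq0 ?_
        rw [map_mul, MvPolynomial.aeval_C] at hp
        exact (mul_eq_zero.mp hp).resolve_left fun h => hπ0 (hinj (h.trans (map_zero _).symm))
      · push Not at hall
        obtain ⟨a₁, ha₁, ha₁'⟩ := hall
        let S : Finset (Fin n → ℕ) := p.support.map Finsupp.equivFunOnFinite.toEmbedding
        let cc : (Fin n → ℕ) → V := fun a => algebraMap A V (p.coeff (Finsupp.equivFunOnFinite.symm a))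
        refine not_mem_sum P hP hmono Q hPQ htot x hx hx' S cc (fun a _ => ?_) ⟨Finsupp.equivFunOnFinite a₁,
          Finset.mem_map_of_mem _ ha₁, ?_⟩ ?_
        · by_cases h : cc a ∈ P (Fin.last n)
          · exact .inl (heq h)
          · exact .inr h
        · intro h
          apply ha₁'
          have := heq (show p.coeff (Finsupp.equivFunOnFinite.symm (Finsupp.equivFunOnFinite a₁)) ∈ _ from h)
          rwa [Equiv.symm_apply_apply] at this
        · convert (P 0).zero_mem
          rw [← hp, MvPolynomial.aeval_def, MvPolynomial.eval₂_eq', Finset.sum_map]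
          refine Finset.sum_congr rfl fun a _ => ?_
          simp [cc]
  obtain ⟨d, hd⟩ := MvPolynomial.exists_coeff_ne_zero hne
  exact aux _ p d rfl hd hp

end helpers

/-- Let R be a semilocal Prüfer domain (an integral domain with finitely many maximal ideals whose
localisations at primes are valuation rings). Then R is the increasing union of subrings that are
semilocal Prüfer domains of finite Krull dimension; equivalently, every finite subset of R is
contained in such a subring. -/
theorem result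
    (R : Type u) [CommRing R] [IsDomain R]
    (hR : ∀ (p : Ideal R) [p.IsPrime], ValuationRing (Localization.AtPrime p))
    (hfin : Finite (MaximalSpectrum R)) (s : Finset R) :
    ∃ R' : Subring R, (↑s : Set R) ⊆ R' ∧
      (∀ (p : Ideal R') [p.IsPrime], ValuationRing (Localization.AtPrime p)) ∧
      Finite (MaximalSpectrum R') ∧ ringKrullDim R' < ⊤ := by
  classical
  haveI := Fintype.ofFinite (MaximalSpectrum R)
  have htotR : ∀ (m : Ideal R) [m.IsMaximal] (a b : R),
      ∃ r t, t ∉ m ∧ (t * a = b * r ∨ t * b = a * r) := by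
    intro m _ a b
    haveI := hR m
    rcases (ValuationRing.iff_dvd_total.mp (inferInstance : ValuationRing (Localization.AtPrime m))).total
      (algebraMap R (Localization.AtPrime m) b) (algebraMap R (Localization.AtPrime m) a) with ⟨w, hw⟩ | ⟨w, hw⟩
    all_goals obtain ⟨r, t, rfl⟩ := IsLocalization.exists_mk'_eq m.primeCompl w
    · refine ⟨r, t, t.2, .inl (IsLocalization.injective (Localization.AtPrime m) m.primeCompl_le_nonZeroDivisors ?_)⟩
      rw [map_mul, map_mul, hw, mul_left_comm, mul_comm (algebraMap R (Localization.AtPrime m) (t : R)), IsLocalization.mk'_spec]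
    · refine ⟨r, t, t.2, .inr (IsLocalization.injective (Localization.AtPrime m) m.primeCompl_le_nonZeroDivisors ?_)⟩
      rw [map_mul, map_mul, hw, mul_left_comm, mul_comm (algebraMap R (Localization.AtPrime m) (t : R)), IsLocalization.mk'_spec]
  let FR := FractionRing R
  let ι := algebraMap R FR
  have hι : Function.Injective ι := IsFractionRing.injective R FR
  let F := Subfield.closure (ι '' (s : Set R))
  let R' : Subring R := F.toSubring.comap ι
  have hglob : ∀ y : FR, (∀ m : MaximalSpectrum R, ∃ G U : R, G ∉ m.asIdeal ∧ ι U = ι G * y) → y ∈ Set.range ι := by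
    intro y hy
    let J : Ideal R :=
      { carrier := {g | ι g * y ∈ Set.range ι}
        zero_mem' := ⟨0, by simp⟩
        add_mem' := fun {a b} ⟨u, hu⟩ ⟨v, hv⟩ => ⟨u + v, by rw [map_add, map_add, add_mul, hu, hv]⟩
        smul_mem' := fun c a ⟨u, hu⟩ => ⟨c * u, by rw [smul_eq_mul, map_mul, map_mul, hu, mul_assoc]⟩ }
    have hJ : J = ⊤ := by
      by_contra h
      obtain ⟨M, hM, hJM⟩ := Ideal.exists_le_maximal J h
      obtain ⟨G, U, hG, hU⟩ := hy ⟨M, hM⟩
      exact hG (hJM ⟨U, hU⟩)
    obtain ⟨u, hu⟩ : (1 : R) ∈ J := hJ ▸ Submodule.mem_top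
    exact ⟨u, by rw [hu, map_one, one_mul]⟩
  -- elements of `R'` control the localizations of `R` on `R'`
  have key : ∀ (m : MaximalSpectrum R) (a b : R'), b ≠ 0 → ∀ (r sv : R), sv ∉ m.asIdeal → sv * (a : R) = b * r →
      ∃ u v : R', (u : R) ∉ m.asIdeal ∧ u * a = b * v := by
    intro m a b hb r sv hsv hrel
    have hb0 : ι (b : R) ≠ 0 := fun h => hb (Subtype.ext (hι (by rw [h]; simp)))
    let x : FR := ι (a : R) / ι (b : R)
    have hxF : x ∈ F := F.div_mem a.2 b.2
    have hrep : ∀ M : MaximalSpectrum R, ∃ r s : R, (r ∉ M.asIdeal ∨ s ∉ M.asIdeal) ∧ s * (a : R) = b * r := by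
      intro M
      haveI := M.isMaximal
      obtain ⟨r, t, ht, h | h⟩ := htotR M.asIdeal (a : R) (b : R)
      · exact ⟨r, t, .inr ht, h⟩
      · exact ⟨t, r, .inl ht, by linear_combination -h⟩
    choose rr ss hrs hrel' using hrep
    let rf : MaximalSpectrum R → R := Function.update rr m r
    let sf : MaximalSpectrum R → R := Function.update ss m sv
    have hrs' : ∀ M, (rf M ∉ M.asIdeal ∨ sf M ∉ M.asIdeal) ∧ sf M * (a : R) = b * rf M := by
      intro M
      by_cases h : M = m
      · subst h; simp [rf, sf, hsv, hrel]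
      · simp [rf, sf, h, hrs, hrel']
    let bad : Set ℕ := ⋃ M : MaximalSpectrum R,
      {n : ℕ | n.Prime ∧ (∑ i ∈ Finset.range n, rf M ^ i * sf M ^ (n - 1 - i)) ∈ M.asIdeal}
    have hbad : bad.Finite := Set.finite_iUnion fun M => by
      haveI := M.isMaximal
      exact bad_finite M.asIdeal _ _ (hrs' M).1
    obtain ⟨N, hN⟩ := hbad.bddAbove
    obtain ⟨n, hnN, hn⟩ := Nat.exists_infinite_primes (N + 1)
    let G : MaximalSpectrum R → R := fun M => ∑ i ∈ Finset.range n, rf M ^ i * sf M ^ (n - 1 - i)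
    have hG : ∀ M, G M ∉ M.asIdeal := fun M h => by
      have : n ∈ bad := Set.mem_iUnion.mpr ⟨M, hn, h⟩
      have := hN this
      omega
    let f : FR := ∑ i ∈ Finset.range n, x ^ i
    have hxs : ∀ M, x * ι (sf M) = ι (rf M) := fun M => by
      have := congrArg ι (hrs' M).2
      rw [map_mul, map_mul] at this
      simp only [x]
      rw [div_mul_eq_mul_div, div_eq_iff hb0]
      linear_combination this
    have hGf : ∀ M, ι (G M) = f * ι (sf M) ^ (n - 1) := fun M => by
      simp only [G, f, map_sum, Finset.sum_mul, map_mul, map_pow]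
      refine Finset.sum_congr rfl fun i hi => ?_
      have := Finset.mem_range.mp hi
      rw [← hxs M, mul_pow, mul_assoc, ← pow_add, show i + (n - 1 - i) = n - 1 by omega]
    have hf : f ≠ 0 := fun h => hG m (by
      have h0 := hGf m
      rw [h, zero_mul] at h0
      rw [hι (h0.trans (map_zero ι).symm)]
      exact zero_mem _)
    have hfF : f ∈ F := sum_mem fun i _ => pow_mem hxF i
    obtain ⟨u, hu⟩ := hglob f⁻¹ fun M => ⟨G M, sf M ^ (n - 1), hG M, by
      rw [hGf, map_pow, mul_right_comm, mul_inv_cancel₀ hf, one_mul]⟩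
    obtain ⟨v, hv⟩ := hglob (x * f⁻¹) fun M => ⟨G M, rf M * sf M ^ (n - 2), hG M, by
      rw [hGf, map_mul, map_pow, ← hxs M, show n - 1 = (n - 2) + 1 by have := hn.two_le; omega, pow_succ]
      rw [show f * (ι (sf M) ^ (n - 2) * ι (sf M)) * (x * f⁻¹) = (f * f⁻¹) * (x * ι (sf M) * ι (sf M) ^ (n - 2)) by ring, mul_inv_cancel₀ hf, one_mul]⟩
    have huF : ι u ∈ F := hu ▸ F.inv_mem hfF
    have hvF : ι v ∈ F := hv ▸ F.mul_mem hxF (F.inv_mem hfF)
    refine ⟨⟨u, huF⟩, ⟨v, hvF⟩, fun h => hsv ?_, Subtype.ext (hι ?_)⟩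
    · have h1 : u * G m = sf m ^ (n - 1) := hι (by rw [map_mul, hu, hGf, map_pow, ← mul_assoc, inv_mul_cancel₀ hf, one_mul])
      have h2 : sf m ^ (n - 1) ∈ m.asIdeal := h1 ▸ Ideal.mul_mem_right _ _ h
      have h3 := m.isMaximal.isPrime.mem_of_pow_mem _ h2
      simpa [sf] using h3
    · show ι (u * (a : R)) = ι ((b : R) * v)
      rw [map_mul, map_mul, hu, hv]
      simp only [x]
      rw [mul_comm f⁻¹, ← mul_assoc, mul_div_cancel₀ _ hb0]
  let qi : MaximalSpectrum R → Ideal R' := fun m => m.asIdeal.comap R'.subtype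
  haveI hqi : ∀ m, (qi m).IsPrime := fun m => by
    haveI := m.isMaximal
    exact inferInstanceAs (Ideal.comap _ _).IsPrime
  have hle : ∀ P : Ideal R', P.IsPrime → ∃ m, P ≤ qi m := by
    intro P hP
    have hsub : (P : Set R') ⊆ ⋃ m ∈ (↑(Finset.univ : Finset (MaximalSpectrum R)) : Set (MaximalSpectrum R)), (qi m : Set R') := by
      intro r hr
      have hnu : (r : R) ∈ nonunits R := by
        intro hu
        obtain ⟨w, hw⟩ := hu.exists_right_inv
        have hwF : ι w ∈ F := by
          have h1 : ι (r : R) * ι w = 1 := by rw [← map_mul, hw, map_one]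
          rw [eq_inv_of_mul_eq_one_right h1]
          exact F.inv_mem r.2
        exact hP.ne_top (Ideal.eq_top_of_isUnit_mem _ hr (IsUnit.of_mul_eq_one (⟨w, hwF⟩ : R') (Subtype.ext hw)))
      obtain ⟨M, hM, hrM⟩ := exists_max_ideal_of_mem_nonunits hnu
      exact Set.mem_iUnion₂.mpr ⟨⟨M, hM⟩, by simp, hrM⟩
    obtain ⟨m0⟩ : Nonempty (MaximalSpectrum R) := inferInstance
    obtain ⟨m, -, hm⟩ := (Ideal.subset_union_prime m0 m0 fun m _ _ _ => hqi m).mp hsub
    exact ⟨m, hm⟩
  have htot' : ∀ (m : MaximalSpectrum R) (a b : R'), ∃ t, t ∉ qi m ∧ (a ∣ t * b ∨ b ∣ t * a) := by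
    intro m a b
    haveI := m.isMaximal
    by_cases ha : a = 0
    · exact ⟨1, (hqi m).ne_top ∘ (Ideal.eq_top_iff_one _).mpr, .inr (by simp [ha])⟩
    by_cases hb : b = 0
    · exact ⟨1, (hqi m).ne_top ∘ (Ideal.eq_top_iff_one _).mpr, .inl (by simp [hb])⟩
    obtain ⟨r, t, ht, h | h⟩ := htotR m.asIdeal (a : R) (b : R)
    · obtain ⟨u, v, hu, huv⟩ := key m a b hb r t ht h
      exact ⟨u, hu, .inr ⟨v, huv⟩⟩
    · obtain ⟨u, v, hu, huv⟩ := key m b a ha r t ht h
      exact ⟨u, hu, .inl ⟨v, huv⟩⟩
  refine ⟨R', fun x hx => Subfield.subset_closure ⟨x, hx, rfl⟩, ?_, ?_, ?_⟩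
  · intro P hP
    obtain ⟨m, hm⟩ := hle P hP
    refine ValuationRing.iff_dvd_total.mpr ⟨fun z w => ?_⟩
    obtain ⟨a, sa, rfl⟩ := IsLocalization.exists_mk'_eq P.primeCompl z
    obtain ⟨b, sb, rfl⟩ := IsLocalization.exists_mk'_eq P.primeCompl w
    rw [IsLocalization.mk'_eq_mul_mk'_one, IsLocalization.mk'_eq_mul_mk'_one (x := b)]
    have hu1 : ∀ c : P.primeCompl, IsUnit (IsLocalization.mk' (Localization.AtPrime P) (1 : R') c) := fun c =>
      (IsLocalization.AtPrime.isUnit_mk'_iff _ P _ _).mpr (one_mem _)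
    rw [(hu1 sa).mul_right_dvd, (hu1 sb).dvd_mul_right, (hu1 sa).dvd_mul_right, (hu1 sb).mul_right_dvd]
    obtain ⟨t, ht, h⟩ := htot' m a b
    have htu : IsUnit (algebraMap R' (Localization.AtPrime P) t) :=
      IsLocalization.map_units _ (⟨t, fun h => ht (hm h)⟩ : P.primeCompl)
    rcases h with h | h
    · left
      have := map_dvd (algebraMap R' (Localization.AtPrime P)) h
      rwa [map_mul, htu.dvd_mul_left] at this
    · right
      have := map_dvd (algebraMap R' (Localization.AtPrime P)) h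
      rwa [map_mul, htu.dvd_mul_left] at this
  · have : ∀ Q : MaximalSpectrum R', Q.asIdeal ∈ Set.range qi := fun Q => by
      obtain ⟨m, hm⟩ := hle _ Q.isMaximal.isPrime
      exact ⟨m, (Q.isMaximal.eq_of_le (hqi m).ne_top hm).symm⟩
    exact Finite.of_injective (fun Q => (⟨Q.asIdeal, this Q⟩ : Set.range qi))
      fun Q Q' h => MaximalSpectrum.ext (Subtype.ext_iff.mp h)
  · let A := (Int.castRingHom R').range
    haveI : IsPrincipalIdealRing A := IsPrincipalIdealRing.of_surjective _ (RingHom.rangeRestrict_surjective (Int.castRingHom R'))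
    let ψ : R' →+* F := (ι.comp R'.subtype).codRestrict F fun r => r.2
    have hψ : Function.Injective ψ := fun u v h => Subtype.ext (hι (Subtype.ext_iff.mp h))
    letI : Algebra A F := (ψ.comp A.subtype).toAlgebra
    have hAF : Function.Injective (algebraMap A F) := hψ.comp Subtype.val_injective
    haveI : FaithfulSMul A F := (faithfulSMul_iff_algebraMap_injective A F).mpr hAF
    let ψA : R' →ₐ[A] F := { ψ with commutes' := fun _ => rfl }
    let T : Finset F := s.attach.image fun x => ⟨ι x.1, Subfield.subset_closure ⟨x.1, x.2, rfl⟩⟩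
    let B := Algebra.adjoin A (T : Set F)
    haveI : Algebra.IsAlgebraic B F := by
      refine ⟨fun z => ?_⟩
      obtain ⟨y, hy, w, hw, hyw⟩ := Subfield.mem_closure_iff.mp z.2
      have hsub : Subring.closure (ι '' (s : Set R)) ≤ B.toSubring.map F.subtype := by
        rw [Subring.closure_le]
        rintro _ ⟨x, hx, rfl⟩
        exact ⟨⟨ι x, Subfield.subset_closure ⟨x, hx, rfl⟩⟩,
          Algebra.subset_adjoin (Finset.mem_image.mpr ⟨⟨x, hx⟩, Finset.mem_attach _ _, rfl⟩), rfl⟩
      obtain ⟨y', hy', rfl⟩ := hsub hy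
      obtain ⟨w', hw', rfl⟩ := hsub hw
      have hz : z = y' / w' := Subtype.ext hyw.symm
      rw [hz, div_eq_mul_inv]
      exact (isAlgebraic_algebraMap (⟨y', hy'⟩ : B)).mul (isAlgebraic_algebraMap (⟨w', hw'⟩ : B)).inv
    obtain ⟨t, htT, htb⟩ := exists_isTranscendenceBasis_subset (R := A) (T : Set F)
    have htr : Algebra.trdeg A F ≤ (s.card : Cardinal) := by
      rw [← htb.cardinalMk_eq_trdeg]
      refine (Cardinal.mk_le_mk_of_subset htT).trans ?_
      exact (Cardinal.mk_coe_finset (s := T)).le.trans (Nat.cast_le.mpr (Finset.card_image_le.trans_eq s.card_attach))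
    have hbound : ∀ (m : MaximalSpectrum R) (k : ℕ) (P : Fin (k + 1) → Ideal R'), (∀ i, (P i).IsPrime) → StrictMono P →
        (∀ i, P i ≤ qi m) → (P (Fin.last k)).comap (algebraMap A R') ≤ (P 0).comap (algebraMap A R') → k ≤ s.card := by
      intro m k P hP hsm hq heq
      have hex : ∀ i : Fin k, ∃ x, x ∈ P i.succ ∧ x ∉ P i.castSucc := fun i =>
        SetLike.exists_of_lt (hsm (Fin.castSucc_lt_succ (i := i)))
      choose x hx hx' using hex
      haveI := hqi m
      have h1 := indep (A := A) Subtype.val_injective P hP hsm.monotone (qi m) hq (htot' m) x hx hx' heq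
      have h2 := (h1.map' (f := ψA) hψ).lift_cardinalMk_le_trdeg.trans (Cardinal.lift_le.mpr htr)
      simpa using h2
    refine lt_of_le_of_lt (b := ((2 * s.card + 1 : ℕ) : WithBot ℕ∞)) (iSup_le fun l => ?_) (WithBot.coe_lt_coe.mpr (ENat.coe_lt_top _))
    show ((l.length : ℕ∞) : WithBot ℕ∞) ≤ _
    refine WithBot.coe_le_coe.mpr (Nat.cast_le.mpr ?_)
    by_contra hlen
    push Not at hlen
    obtain ⟨m, hm⟩ := hle _ (l (Fin.last l.length)).isPrime
    let P : Fin (l.length + 1) → Ideal R' := fun i => (l i).asIdeal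
    have hsm : StrictMono P := fun i j h => l.strictMono h
    have hq : ∀ i, P i ≤ qi m := fun i => le_trans (hsm.monotone (Fin.le_last i)) hm
    set N := s.card + 1 with hN
    have hpr : ∀ i, (P i).IsPrime := fun i => (l i).isPrime
    let mid : Fin (l.length + 1) := ⟨N, by omega⟩
    by_cases hC : (P mid).comap (algebraMap A R') = ⊥
    · have := hbound m N (fun i => P ⟨i, by omega⟩) (fun i => hpr _) (fun i j h => hsm h) (fun i => hq _) (by
        show (P mid).comap _ ≤ _
        rw [hC]; exact bot_le)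
      omega
    · have hmax : ((P mid).comap (algebraMap A R')).IsMaximal := by
        haveI := hpr mid
        exact Ideal.IsPrime.isMaximal inferInstance hC
      have hlast : (P (Fin.last _)).comap (algebraMap A R') ≠ ⊤ := by
        haveI := hpr (Fin.last l.length)
        exact Ideal.IsPrime.ne_top inferInstance
      have := hbound m (l.length - N) (fun i => P ⟨N + i, by omega⟩) (fun i => hpr _)
        (fun i j h => hsm (by simp only [Fin.lt_def]; omega)) (fun i => hq _) (by
        have h1 := hmax.eq_of_le hlast (Ideal.comap_mono (hsm.monotone (Fin.le_last mid)))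
        have h0 : (⟨N + ((0 : Fin (l.length - N + 1)) : ℕ), by omega⟩ : Fin (l.length + 1)) = mid := Fin.ext (by simp [mid])
        have hL : (⟨N + ((Fin.last (l.length - N)) : ℕ), by simp; omega⟩ : Fin (l.length + 1)) = Fin.last _ := Fin.ext (by simp; omega)
        show (P _).comap _ ≤ (P _).comap _
        rw [h0, hL, h1])
      omega

end Groth.Agent.S14730
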