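import Groth.Statements.S14766
import Groth.Agent.Lib.H6.SubtrVal2

set_option autoImplicit false
set_option linter.all false
universe u
open CategoryTheory CategoryTheory.Limits AlgebraicGeometry
open Subtr

namespace Groth.Agent.S14766

/-- Let V be a discrete valuation ring and f : X ⟶ Spec V any morphism of schemes. Then the underlying
continuous map of f is a quotient map (f is submersive) if and only if every ordered pair of points
of Spec V lifts to an ordered pair of points of X. -/
theorem result (V : Type u) [CommRing V] [IsDomain V]
    [IsDiscreteValuationRing V] {X : Scheme.{u}} (f : X ⟶ Spec (CommRingCat.of V)) :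
    Topology.IsQuotientMap f ↔ Subtr.IsSSubtrusive f := by
    have hpts : ∀ y : Spec (CommRingCat.of V), y = Groth.Agent.H6.SubtrVal.gen V ∨ y = Groth.Agent.H6.SubtrVal.cl V := fun y => by
      by_cases hb : (y : PrimeSpectrum V).asIdeal = ⊥
      · exact Or.inl (PrimeSpectrum.ext hb)
      · exact Or.inr (PrimeSpectrum.ext (IsLocalRing.eq_maximalIdeal (Ideal.IsPrime.isMaximal y.2 hb)))
    constructor
    · intro hq y y' hy
      rcases hpts y' with rfl | rfl
      · rcases hpts y with rfl | rfl
        · obtain ⟨x, hx⟩ := hq.surjective (Groth.Agent.H6.SubtrVal.gen V)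
          exact ⟨x, x, specializes_rfl, hx, hx⟩
        · by_contra hne
          have hcl : IsClosed (f ⁻¹' {Groth.Agent.H6.SubtrVal.gen V}) := by
            refine closure_eq_iff_isClosed.1 (subset_antisymm (fun x hx => ?_) subset_closure)
            obtain ⟨x', h1, h2⟩ := Groth.Agent.H6.SubtrVal.exists_specializes_of_mem_closure_preimage f hx
            rcases hpts (f x) with h3 | h3
            · exact h3
            · exact absurd ⟨x, x', h1, h3, h2⟩ hne
          have hc1 : IsClosed ({Groth.Agent.H6.SubtrVal.gen V} : Set (Spec (CommRingCat.of V))) :=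
            hq.isClosed_preimage.1 hcl
          have h4 : Groth.Agent.H6.SubtrVal.cl V = Groth.Agent.H6.SubtrVal.gen V := by
            have := hy.mem_closure
            rwa [hc1.closure_eq] at this
          obtain ⟨x, hx⟩ := hq.surjective (Groth.Agent.H6.SubtrVal.gen V)
          exact hne ⟨x, x, specializes_rfl, hx.trans h4.symm, hx⟩
      · have h5 := (hy.antisymm (Groth.Agent.H6.SubtrVal.specializes_cl V y)).eq
        obtain ⟨x, hx⟩ := hq.surjective y
        exact ⟨x, x, specializes_rfl, hx, hx.trans h5.symm⟩
    · intro h
      suffices key : ∀ s : Set (Spec (CommRingCat.of V)), IsOpen (f ⁻¹' s) → IsOpen s by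
        refine Topology.isQuotientMap_iff_isClosed.2 ⟨fun y => ?_, fun s => ⟨fun hs => hs.preimage f.continuous, fun hs => ?_⟩⟩
        · obtain ⟨x, -, -, hx, -⟩ := h (specializes_rfl (x := y))
          exact ⟨x, hx⟩
        · rw [← isOpen_compl_iff]
          exact key sᶜ (by rw [Set.preimage_compl]; exact hs.isOpen_compl)
      intro s hs
      by_cases hc : Groth.Agent.H6.SubtrVal.cl V ∈ s
      · obtain ⟨x, x', hx, h1, h2⟩ := h (Groth.Agent.H6.SubtrVal.gen_specializes V (Groth.Agent.H6.SubtrVal.cl V))
        have hg : Groth.Agent.H6.SubtrVal.gen V ∈ s := by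
          have : x' ∈ f ⁻¹' s := hx.mem_open hs (show x ∈ f ⁻¹' s by rw [Set.mem_preimage, h1]; exact hc)
          rwa [Set.mem_preimage, h2] at this
        have : s = Set.univ := Set.eq_univ_of_forall fun y => by
          rcases hpts y with rfl | rfl
          exacts [hg, hc]
        rw [this]
        exact isOpen_univ
      · have hs' : s ⊆ {Groth.Agent.H6.SubtrVal.cl V}ᶜ := fun y hy he => hc (he ▸ hy)
        rcases Set.eq_empty_or_nonempty s with rfl | ⟨y, hy⟩
        · exact isOpen_empty
        · have : s = {Groth.Agent.H6.SubtrVal.cl V}ᶜ := subset_antisymm hs' fun z hz => by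
            rcases hpts z with rfl | rfl
            · rcases hpts y with rfl | rfl
              · exact hy
              · exact absurd hy hc
            · exact absurd rfl hz
          rw [this]
          exact (IsLocalRing.isClosed_singleton_closedPoint (R := V)).isOpen_compl

end Groth.Agent.S14766
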