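import Groth.Statements.S14767
import Groth.Agent.Lib.H6.SubtrTop

set_option autoImplicit false
set_option linter.all false
universe u
open CategoryTheory CategoryTheory.Limits AlgebraicGeometry
open Subtr

namespace Groth.Agent.S14767

/-- Let f : X ⟶ Y be a quasi-compact morphism of schemes. Then f is universally submersive if and only
if, for every valuation ring V and every morphism Spec V ⟶ Y, the base change X ×_Y Spec V ⟶ Spec V
is submersive (its underlying continuous map is a quotient map). (The published statement asks
instead that f be universally submersive for the constructible topologies, which holds for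
quasi-compact surjective morphisms; both sides here force f to be surjective.) -/
theorem result {X Y : Scheme.{u}} (f : X ⟶ Y) [QuasiCompact f] :
    SGA1.UnivSubmersive f ↔
      ∀ (V : Type u) [CommRing V] [IsDomain V] [ValuationRing V] (g : Spec (CommRingCat.of V) ⟶ Y),
        Topology.IsQuotientMap (pullback.snd f g) := by
    constructor
    · intro h V _ _ _ g
      exact h (pullback.fst f g) g (pullback.snd f g) (IsPullback.of_hasPullback f g).flip
    · intro h X' Y' i₁ i₂ f' hsq
      haveI : QuasiCompact f' := MorphismProperty.of_isPullback (P := @QuasiCompact) hsq.flip inferInstance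
      have key : ∀ (V : Type u) [CommRing V] [IsDomain V] [ValuationRing V] (t : Spec (CommRingCat.of V) ⟶ Y'),
          ∃ l : pullback f (t ≫ i₂) ⟶ X', l ≫ f' = pullback.snd f (t ≫ i₂) ≫ t := fun V _ _ _ t =>
        ⟨hsq.lift (pullback.snd f (t ≫ i₂) ≫ t) (pullback.fst f (t ≫ i₂))
          (by rw [Category.assoc, ← pullback.condition]), hsq.lift_fst _ _ _⟩
      have hsurj : Function.Surjective f' := fun y => by
        obtain ⟨V, _, _, _, t, ht, -⟩ := Groth.Agent.H6.SubtrVal.exists_valuationRing_pair (specializes_rfl (x := y))
        obtain ⟨l, hl⟩ := key V t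
        obtain ⟨p, hp⟩ := (h V (t ≫ i₂)).surjective (Groth.Agent.H6.SubtrVal.cl V)
        exact ⟨l p, by rw [← Scheme.Hom.comp_apply, hl, Scheme.Hom.comp_apply, hp, ht]⟩
      show Topology.IsQuotientMap f'
      refine Topology.isQuotientMap_iff_isClosed.2 ⟨hsurj, fun s => ⟨fun hs => hs.preimage f'.continuous, fun hs => ?_⟩⟩
      refine isClosed_of_closure_subset fun y hy => ?_
      rw [← Set.image_preimage_eq s hsurj] at hy
      obtain ⟨x, hx, hxy⟩ := Groth.Agent.H6.SubtrVal.exists_mem_specializes_of_isClosed f' hs hy
      obtain ⟨V, _, _, _, t, ht, ht'⟩ := Groth.Agent.H6.SubtrVal.exists_valuationRing_pair hxy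
      obtain ⟨l, hl⟩ := key V t
      have heq : pullback.snd f (t ≫ i₂) ⁻¹' (t ⁻¹' s) = l ⁻¹' (f' ⁻¹' s) := by
        ext p
        rw [Set.mem_preimage, Set.mem_preimage, Set.mem_preimage, Set.mem_preimage, ← Scheme.Hom.comp_apply, ← hl,
          Scheme.Hom.comp_apply]
      have hcl : IsClosed (t ⁻¹' s) := (h V (t ≫ i₂)).isClosed_preimage.1 (heq ▸ hs.preimage l.continuous)
      have hgen : Groth.Agent.H6.SubtrVal.gen V ∈ t ⁻¹' s := by
        rw [Set.mem_preimage, ht']
        exact hx
      have : Groth.Agent.H6.SubtrVal.cl V ∈ t ⁻¹' s :=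
        (Groth.Agent.H6.SubtrVal.gen_specializes V _).mem_closed hcl hgen
      rwa [Set.mem_preimage, ht] at this

end Groth.Agent.S14767
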