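import Groth.Statements.S14768
import Groth.Agent.Lib.H6.SubtrVal2

set_option autoImplicit false
set_option linter.all false
universe u
open CategoryTheory CategoryTheory.Limits AlgebraicGeometry
open Subtr

namespace Groth.Agent.S14768

/-- Let f : X ⟶ Y be any morphism of schemes. Then every base change of f has the lifting property for
ordered pairs of points if and only if this holds for the base changes X ×_Y Spec V ⟶ Spec V along
all morphisms Spec V ⟶ Y with V a valuation ring. (The published statement is about universally
subtrusive morphisms and assumes f universally submersive for the constructible topologies; the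
lifting property alone descends from valuation rings with the same proof, and for quasi-compact f
the two statements agree.) -/
theorem result {X Y : Scheme.{u}} (f : X ⟶ Y) :
    Subtr.UnivSSubtrusive f ↔
      ∀ (V : Type u) [CommRing V] [IsDomain V] [ValuationRing V] (g : Spec (CommRingCat.of V) ⟶ Y),
        Subtr.IsSSubtrusive (pullback.snd f g) := by
    exact ⟨fun h V _ _ _ g => Groth.Agent.H6.SubtrVal.isSSubtrusive_snd_of_univ f h g,
      fun h => Groth.Agent.H6.SubtrVal.univ_of_valuation f fun V _ _ _ g => by
        obtain ⟨x, x', hx, h1, h2⟩ := h V g (Groth.Agent.H6.SubtrVal.gen_specializes V (Groth.Agent.H6.SubtrVal.cl V))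
        exact ⟨x, x', hx, h1, h2⟩⟩

end Groth.Agent.S14768
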