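import Groth.Statements.S14769
import Groth.Agent.Lib.H6.SubtrVal2

set_option autoImplicit false
set_option linter.all false
universe u
open CategoryTheory CategoryTheory.Limits AlgebraicGeometry
open Subtr

namespace Groth.Agent.S14769

/-- Let f : X ⟶ Y be any morphism of schemes. Then every base change of f has the lifting property for
ordered pairs of points if and only if, for every valuation ring V and morphism g : Spec V ⟶ Y,
there are a valuation ring V', a morphism a : Spec V' ⟶ X and a surjective morphism b : Spec V' ⟶
Spec V with a ≫ f = b ≫ g. (The published statement assumes f universally submersive for the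
constructible topologies and concludes universal subtrusiveness; for quasi-compact f the two agree.) -/
theorem result {X Y : Scheme.{u}} (f : X ⟶ Y) :
    Subtr.UnivSSubtrusive f ↔
      ∀ (V : Type u) [CommRing V] [IsDomain V] [ValuationRing V] (g : Spec (CommRingCat.of V) ⟶ Y),
        ∃ (V' : Type u) (_ : CommRing V') (_ : IsDomain V') (_ : ValuationRing V')
          (a : Spec (CommRingCat.of V') ⟶ X) (b : Spec (CommRingCat.of V') ⟶ Spec (CommRingCat.of V)),
          Surjective b ∧ a ≫ f = b ≫ g := by
    constructor
    · intro h V _ _ _ g
      obtain ⟨x, x', hx, h1, h2⟩ := Groth.Agent.H6.SubtrVal.isSSubtrusive_snd_of_univ f h g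
        (Groth.Agent.H6.SubtrVal.gen_specializes V (Groth.Agent.H6.SubtrVal.cl V))
      obtain ⟨W, _, _, _, a, ha⟩ := Groth.Agent.H6.SubtrVal.exists_dominating (pullback.snd f g) hx h1 h2
      exact ⟨W, inferInstance, inferInstance, inferInstance, a ≫ pullback.fst f g, a ≫ pullback.snd f g, ha,
        by rw [Category.assoc, Category.assoc, pullback.condition]⟩
    · intro h
      refine Groth.Agent.H6.SubtrVal.univ_of_valuation f fun V _ _ _ g => ?_
      obtain ⟨W, _, _, _, a, b, hb, hw⟩ := h V g
      exact Groth.Agent.H6.SubtrVal.pair_of_surjective (pullback.snd f g) (pullback.lift a b hw)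
        (by rw [pullback.lift_snd]; exact hb)

end Groth.Agent.S14769
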