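import Groth.Statements.S14772
import Groth.Agent.Lib.H6.SubtrFT

set_option autoImplicit false
set_option linter.all false
universe u
open CategoryTheory CategoryTheory.Limits AlgebraicGeometry
open Subtr

namespace Groth.Agent.S14772

/-- Let f : X ⟶ Y be a quasi-compact morphism of schemes. Then every base change of f has the lifting
property for ordered pairs of points if and only if, for every integer n ≥ 1, the base change X ×_Y
𝔸ⁿ_Y ⟶ 𝔸ⁿ_Y has it. (The published statement is about universally subtrusive morphisms f, with the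
condition that f be universally submersive for the constructible topologies added on both sides, and
does not assume f quasi-compact; this row states the quasi-compact case, where that condition is
automatic once f is surjective.) -/
theorem result {X Y : Scheme.{u}} (f : X ⟶ Y) [QuasiCompact f] :
    Subtr.UnivSSubtrusive f ↔
      ∀ n : ℕ, 0 < n →
        Subtr.IsSSubtrusive (pullback.snd f (AffineSpace (ULift.{u} (Fin n)) Y ↘ Y)) := by
  refine ⟨fun h n _ => H6.SubtrVal.isSSubtrusive_snd_of_univ f h _, fun h => H6.SubtrFT.univ_of_finiteType f fun W hW C _ _ hC => ?_⟩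
  obtain ⟨s, hs⟩ := hC.out
  classical
  let e := s.equivFin
  let v : ULift.{u} (Fin (s.card + 1)) → C := fun i => if hi : i.down.1 < s.card then ((e.symm ⟨i.down.1, hi⟩ : s) : C) else 0
  let ψ : MvPolynomial (ULift.{u} (Fin (s.card + 1))) Γ(Y, W) →ₐ[Γ(Y, W)] C := MvPolynomial.aeval v
  have hψ : Function.Surjective ψ := by
    rw [← AlgHom.range_eq_top, eq_top_iff, ← hs, Algebra.adjoin_le_iff]
    intro c hc
    refine ⟨MvPolynomial.X ⟨⟨(e ⟨c, hc⟩).1, Nat.lt_succ_of_lt (e ⟨c, hc⟩).2⟩⟩, ?_⟩
    show ψ _ = c
    rw [MvPolynomial.aeval_X]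
    simp [v]
  let j : Spec (CommRingCat.of C) ⟶ AffineSpace (ULift.{u} (Fin (s.card + 1))) Y :=
    Spec.map (CommRingCat.ofHom ψ.toRingHom) ≫ (AffineSpace.SpecIso _ Γ(Y, W)).inv ≫ AffineSpace.map _ hW.fromSpec
  haveI : IsOpenImmersion (AffineSpace.map (ULift.{u} (Fin (s.card + 1))) hW.fromSpec) :=
    MorphismProperty.of_isPullback (AffineSpace.isPullback_map hW.fromSpec).flip inferInstance
  haveI : IsClosedImmersion (Spec.map (CommRingCat.ofHom ψ.toRingHom)) :=
    IsClosedImmersion.spec_of_surjective _ hψ
  haveI : IsPreimmersion j := inferInstanceAs (IsPreimmersion (_ ≫ _ ≫ _))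
  have hj : j ≫ (AffineSpace (ULift.{u} (Fin (s.card + 1))) Y ↘ Y) = H6.PullAff.base hW.fromSpec C := by
    simp only [j, Category.assoc, AffineSpace.map_over, AffineSpace.SpecIso_inv_over_assoc, ← Spec.map_comp_assoc]
    congr 2
    ext a
    exact ψ.commutes a
  intro y y' hy
  obtain ⟨x, x', hx, hxy, hxy'⟩ := h (s.card + 1) (Nat.succ_pos _) (hy.map j.continuous)
  let m : pullback f (H6.PullAff.base hW.fromSpec C) ⟶ pullback f (AffineSpace (ULift.{u} (Fin (s.card + 1))) Y ↘ Y) :=
    pullback.lift (pullback.fst _ _) (pullback.snd _ _ ≫ j) (by rw [pullback.condition, Category.assoc, hj])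
  have hm : IsPullback m (pullback.snd f (H6.PullAff.base hW.fromSpec C)) (pullback.snd f (AffineSpace (ULift.{u} (Fin (s.card + 1))) Y ↘ Y)) j := by
    refine IsPullback.of_right ?_ (pullback.lift_snd _ _ _) (IsPullback.of_hasPullback f _)
    rw [pullback.lift_fst, hj]
    exact IsPullback.of_hasPullback _ _
  haveI : IsPreimmersion m := MorphismProperty.of_isPullback (P := @IsPreimmersion) hm.flip inferInstance
  obtain ⟨z, hz, hzy⟩ := Scheme.exists_preimage_of_isPullback hm x y hxy
  obtain ⟨z', hz', hzy'⟩ := Scheme.exists_preimage_of_isPullback hm x' y' hxy'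
  exact ⟨z, z', m.isEmbedding.isInducing.specializes_iff.1 (hz.symm ▸ hz'.symm ▸ hx), hzy, hzy'⟩

end Groth.Agent.S14772
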