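import Groth.Statements.S1478
import Groth.Agent.Lib.H6.OmegaLocal

set_option autoImplicit false
set_option backward.isDefEq.respectTransparency.types false
set_option linter.all false
set_option backward.isDefEq.respectTransparency.types false
universe u
open FlatMor

namespace Groth.Agent.S1478

open AlgebraicGeometry CategoryTheory Limits in
/-- For separated morphisms (where the sheaf of differentials is literally the conormal sheaf of the
closed diagonal): a separated morphism f : X → S is formally unramified if and only if Ω_{X/S}, the
conormal sheaf of the diagonal, is the zero O_X-module. -/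
theorem result {X S : Scheme.{u}} (f : X ⟶ S) [IsSeparated f] :
    FormallyUnramified f ↔ IsZero (Omega.sheaf f) := by
  constructor
  · intro hf
    refine H6.OmegaLocal.isZero_of_forall_affine f fun A B hA hB e => ?_
    have h := HasRingHomProperty.appLE (P := @FormallyUnramified) f hf ⟨B, hB⟩ ⟨A, hA⟩ e
    letI := (f.appLE B A e).hom.toAlgebra
    exact (h : Algebra.FormallyUnramified Γ(S, B) Γ(X, A)).1
  · intro h
    rw [HasRingHomProperty.iff_appLE (P := @FormallyUnramified)]
    intro B A e
    letI := (f.appLE B.1 A.1 e).hom.toAlgebra
    obtain ⟨φ⟩ := H6.OmegaLocal.exists_omega_affine f A.2 B.2 e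
    have hz := IsZero.of_iso ((Scheme.Modules.restrictFunctor A.2.fromSpec).map_isZero h) φ.symm
    have hz' : IsZero (ModuleCat.of Γ(X, A.1) (Ω[Γ(X, A.1)⁄Γ(S, B.1)])) := by
      rw [IsZero.iff_id_eq_zero]
      apply (tilde.functor _).map_injective
      exact hz.eq_of_src _ _
    exact ⟨ModuleCat.subsingleton_of_isZero hz'⟩

end Groth.Agent.S1478
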