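import Groth.Statements.S19530
import Groth.Agent.Lib.H6.SubtrChain

set_option autoImplicit false
set_option linter.all false
universe u
open CategoryTheory CategoryTheory.Limits AlgebraicGeometry
open Subtr

namespace Groth.Agent.S19530

/-- Let f : X ⟶ Y be a morphism of schemes such that every base change of f has the lifting property for
ordered pairs of points (every point together with a specialization of it is the image of such a
pair). Then every finite chain of points y_0, y_1, …, y_n of Y, in which y_j is a specialization of
y_i whenever i ≤ j, lifts to a chain in X: there are points x_0, …, x_n of X with x_j a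
specialization of x_i for i ≤ j and f(x_i) = y_i for every i. (The published statement is for
universally subtrusive f, which adds submersiveness for the constructible topologies, and for
arbitrary chains having a lower bound in Y; this row keeps the pair-lifting property alone and
finite chains, whose most special member is a lower bound.) -/
theorem result {X Y : Scheme.{u}} (f : X ⟶ Y)
    (hf : Subtr.UnivSSubtrusive f) (n : ℕ) (y : Fin (n + 1) → Y)
    (hy : ∀ i j : Fin (n + 1), i ≤ j → y i ⤳ y j) :
    ∃ x : Fin (n + 1) → X, (∀ i j : Fin (n + 1), i ≤ j → x i ⤳ x j) ∧ ∀ i, f (x i) = y i := by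
    let y' : ℕ → Y := fun m => y ⟨min m n, Nat.lt_succ_of_le (min_le_right m n)⟩
    obtain ⟨W, _, _, _, g, hg⟩ := Groth.Agent.H6.SubtrVal.exists_valuationRing_chain y' n fun m hm =>
      hy _ _ (by show min m n ≤ min (m + 1) n; omega)
    obtain ⟨P₀, hP, hPmono⟩ := hg
    let P : Fin (n + 1) → Spec (CommRingCat.of W) := fun i => P₀ i.1
    have hPy : ∀ i : Fin (n + 1), g (P i) = y i := fun i => by
      rw [hP i.1 (Nat.lt_succ_iff.1 i.2)]
      show y _ = y i
      congr 1
      exact Fin.ext (min_eq_left (Nat.lt_succ_iff.1 i.2))
    obtain ⟨p, p', hp, h1, h2⟩ := Groth.Agent.H6.SubtrVal.isSSubtrusive_snd_of_univ f hf g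
      (Groth.Agent.H6.SubtrVal.gen_specializes W (Groth.Agent.H6.SubtrVal.cl W))
    obtain ⟨V, _, _, _, a, ha⟩ := Groth.Agent.H6.SubtrVal.exists_dominating (pullback.snd f g) hp h1 h2
    let π := a ≫ pullback.snd f g
    let s : Spec (CommRingCat.of W) → Spec (CommRingCat.of V) := Function.surjInv π.surjective
    have hs : ∀ Q, π (s Q) = Q := Function.surjInv_eq π.surjective
    have hmono : ∀ Q Q', Q ⤳ Q' → s Q ⤳ s Q' := fun Q Q' hQ => by
      rcases Groth.Agent.H6.SubtrVal.specializes_total V (s Q) (s Q') with h | h
      · exact h
      · have : Q' ⤳ Q := by have := h.map π.continuous; rwa [hs, hs] at this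
        rw [(hQ.antisymm this).eq]
    have hfa : ∀ Q, f ((a ≫ pullback.fst f g) (s Q)) = g Q := fun Q => by
      conv_rhs => rw [← hs Q]
      rw [← Scheme.Hom.comp_apply, ← Scheme.Hom.comp_apply, Category.assoc, pullback.condition, ← Category.assoc]
    refine ⟨fun i => (a ≫ pullback.fst f g) (s (P i)), fun i j hij => ?_, fun i => by rw [hfa, hPy]⟩
    exact (hmono _ _ (hPmono i.1 j.1 hij (Nat.lt_succ_iff.1 j.2))).map (a ≫ pullback.fst f g).continuous

end Groth.Agent.S19530
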