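import Groth.Statements.S14783
import Groth.Agent.Lib.H6.SubtrTop
import Groth.Agent.S19530

set_option autoImplicit false
set_option linter.all false
universe u
open CategoryTheory CategoryTheory.Limits AlgebraicGeometry
open Subtr

namespace Groth.Agent.S14783

/-- Let f : S' ⟶ S be a quasi-compact morphism of schemes every base change of which has the lifting
property for ordered pairs of points, and E ⊆ S any subset. For E to be both locally closed and
retrocompact it is necessary and sufficient that f⁻¹(E) be both. -/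
theorem result {S' S : Scheme.{u}} (f : S' ⟶ S)
    [QuasiCompact f] (hf : Subtr.UnivSSubtrusive f) (E : Set S) :
    (IsLocallyClosed E ∧ IsRetrocompact E) ↔
      (IsLocallyClosed (f ⁻¹' E) ∧ IsRetrocompact (f ⁻¹' E)) := by
    constructor
    · rintro ⟨hE, hE'⟩
      refine ⟨hE.preimage f.continuous, fun Q hQ hQo => ?_⟩
      have hloc : ∀ (W : S.Opens), IsAffineOpen W → ∀ (V : S'.Opens), IsAffineOpen V → V ≤ f ⁻¹ᵁ W →
          IsCompact (f ⁻¹' E ∩ (V : Set S')) := by
        intro W hW V hV hVW
        let O : S.Opens := ⟨coborder E, hE.isOpen_coborder⟩ ⊓ W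
        choose r hr hxr using fun y : {y : S // y ∈ E ∧ y ∈ W} =>
          hW.exists_basicOpen_le (V := O) ⟨y.1, ⟨subset_coborder y.2.1, y.2.2⟩⟩ y.2.2
        obtain ⟨t, ht⟩ := (hE' hW.isCompact W.isOpen).elim_finite_subcover (fun y => (S.basicOpen (r y) : Set S))
          (fun y => (S.basicOpen (r y)).isOpen) fun y hy => Set.mem_iUnion.2 ⟨⟨y, hy.1, hy.2⟩, hxr _⟩
        have heq : f ⁻¹' E ∩ (V : Set S') =
            f ⁻¹' closure E ∩ ⋃ y ∈ (↑t : Set _), (S'.basicOpen ((f.appLE W V hVW) (r y)) : Set S') := by
          have hb : ∀ y, S'.basicOpen ((f.appLE W V hVW) (r y)) = V ⊓ f ⁻¹ᵁ S.basicOpen (r y) := fun y => by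
            rw [Scheme.preimage_basicOpen, Scheme.Hom.appLE, CommRingCat.comp_apply, Scheme.basicOpen_res]
          ext x
          simp only [Set.mem_inter_iff, Set.mem_iUnion₂, Set.mem_preimage, SetLike.mem_coe, hb]
          constructor
          · rintro ⟨h1, h2⟩
            obtain ⟨y, hy, hxy⟩ := Set.mem_iUnion₂.1 (ht ⟨h1, hVW h2⟩)
            exact ⟨subset_closure h1, y, hy, h2, hxy⟩
          · rintro ⟨h1, y, -, h2, h3⟩
            exact ⟨closure_inter_coborder.subset ⟨h1, (hr y h3).1⟩, h2⟩
        rw [heq]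
        refine IsCompact.inter_left ?_ (isClosed_closure.preimage f.continuous)
        exact t.finite_toSet.isCompact_biUnion fun y _ => (hV.basicOpen _).isCompact
      choose W hW hxW using fun x : {x : S' // x ∈ Q} =>
        (show ∃ W : S.Opens, IsAffineOpen W ∧ f x.1 ∈ W from
          ⟨_, (exists_isAffineOpen_mem_and_subset (X := S) (x := f x.1) (U := ⊤) trivial).choose_spec.1,
            (exists_isAffineOpen_mem_and_subset (X := S) (x := f x.1) (U := ⊤) trivial).choose_spec.2.1⟩)
      choose V hV hxV hVQ using fun x : {x : S' // x ∈ Q} =>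
        exists_isAffineOpen_mem_and_subset (X := S') (x := x.1) (U := ⟨Q, hQo⟩ ⊓ f ⁻¹ᵁ W x) ⟨x.2, hxW x⟩
      obtain ⟨t, ht⟩ := hQ.elim_finite_subcover (fun x => (V x : Set S')) (fun x => (V x).isOpen)
        fun x hx => Set.mem_iUnion.2 ⟨⟨x, hx⟩, hxV _⟩
      have hQeq : f ⁻¹' E ∩ Q = ⋃ x ∈ (↑t : Set _), f ⁻¹' E ∩ (V x : Set S') := by
        ext y
        simp only [Set.mem_iUnion₂, Set.mem_inter_iff]
        constructor
        · rintro ⟨h1, h2⟩
          obtain ⟨i, hi, hyi⟩ := Set.mem_iUnion₂.1 (ht h2)
          exact ⟨i, hi, h1, hyi⟩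
        · rintro ⟨i, -, h1, hyi⟩
          exact ⟨h1, (hVQ i hyi).1⟩
      rw [hQeq]
      exact t.finite_toSet.isCompact_biUnion fun x _ => hloc _ (hW x) _ (hV x) fun y hy => (hVQ x hy).2
    · rintro ⟨hE, hE'⟩
      have hsurj : Function.Surjective f := fun y => by
        obtain ⟨x, -, -, hx, -⟩ := (hf (𝟙 S') (𝟙 S) f (IsPullback.id_vert f)) (specializes_rfl (x := y))
        exact ⟨x, hx⟩
      have hlift := hf (𝟙 S') (𝟙 S) f (IsPullback.id_vert f)
      refine ⟨?_, fun W hW hWo => ?_⟩
      · rw [isLocallyClosed_iff_isOpen_coborder, coborder, isOpen_compl_iff]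
        have hT : IsClosed (closure (f ⁻¹' E) \ f ⁻¹' E) := by
          have h1 := hE.isOpen_coborder.isClosed_compl
          rwa [coborder, compl_compl] at h1
        have him : f '' (closure (f ⁻¹' E) \ f ⁻¹' E) = closure E \ E := by
          refine subset_antisymm ?_ fun y hy => ?_
          · rintro _ ⟨x, hx, rfl⟩
            exact ⟨f.continuous.closure_preimage_subset E hx.1, hx.2⟩
          · have hy1 := hy.1
            rw [← Set.image_preimage_eq E hsurj] at hy1
            obtain ⟨e, he, hey⟩ := Groth.Agent.H6.SubtrVal.exists_mem_specializes_of_mem_closure_image f hE hE' hy1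
            obtain ⟨x, x', hx, h1, h2⟩ := hlift hey
            exact ⟨x, ⟨closure_mono (Set.singleton_subset_iff.2 (show x' ∈ f ⁻¹' E by rw [Set.mem_preimage, h2]; exact he)) hx.mem_closure,
              fun h => hy.2 (h1 ▸ h)⟩, h1⟩
        refine isClosed_of_closure_subset fun y hy => ?_
        have hyE : y ∈ closure E := by
          have := closure_mono Set.diff_subset hy
          rwa [closure_closure] at this
        refine ⟨hyE, fun hyE' => ?_⟩
        rw [← him] at hy
        obtain ⟨x, hx, hxy⟩ := Groth.Agent.H6.SubtrVal.exists_mem_specializes_of_isClosed f hT hy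
        have hfx : f x ∈ closure E \ E := him ▸ ⟨x, hx, rfl⟩
        have hfx1 := hfx.1
        rw [← Set.image_preimage_eq E hsurj] at hfx1
        obtain ⟨e, he, hex⟩ := Groth.Agent.H6.SubtrVal.exists_mem_specializes_of_mem_closure_image f hE hE' hfx1
        obtain ⟨l, hl, hfl⟩ := Groth.Agent.S19530.result f hf 2 ![f e, f x, y] (by
          intro i j hij
          fin_cases i <;> fin_cases j <;> first
            | exact specializes_rfl | exact hex | exact hxy | exact hex.trans hxy | exact absurd hij (by decide))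
        have h0 : l 0 ∈ f ⁻¹' E := by rw [Set.mem_preimage, hfl 0]; exact he
        have h2 : l 2 ∈ f ⁻¹' E := by rw [Set.mem_preimage, hfl 2]; exact hyE'
        have h1 : l 1 ∈ f ⁻¹' E := closure_inter_coborder.subset
          ⟨closure_mono (Set.singleton_subset_iff.2 h0) (hl 0 1 (by decide)).mem_closure,
            (hl 1 2 (by decide)).mem_open hE.isOpen_coborder (subset_coborder h2)⟩
        rw [Set.mem_preimage, hfl 1] at h1
        exact hfx.2 h1
      · rw [← Set.image_preimage_eq E hsurj, ← Set.image_inter_preimage]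
        exact (hE' (QuasiCompact.isCompact_preimage (f := f) W hWo hW) (hWo.preimage f.continuous)).image f.continuous

end Groth.Agent.S14783
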