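import Groth.Statements.S14788
import Groth.Agent.Lib.H6.ProConsSpec

set_option autoImplicit false
set_option linter.all false
universe u
open CategoryTheory CategoryTheory.Limits AlgebraicGeometry
open Subtr

namespace Groth.Agent.S14788

/-- (i) ⇔ (iv): a morphism of schemes f : X ⟶ Y has the lifting property for ordered pairs of points if
and only if, for every pro-constructible subset Z ⊆ Y, the image under f of the closure of f⁻¹(Z) is
the closure of Z. (In the published item (iv) the right-hand side is printed as Z itself; the
closure is meant, as the case of a non-closed point shows and as the proof uses.) -/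
theorem result {X Y : Scheme.{u}} (f : X ⟶ Y) :
    Subtr.IsSSubtrusive f ↔
      ∀ Z : Set Y, ProCons.IsProConstructible Z → f '' closure (f ⁻¹' Z) = closure Z := by
  constructor
  · intro h Z hZ
    refine subset_antisymm ?_ fun y hy => ?_
    · refine (image_closure_subset_closure_image f.continuous).trans (closure_mono ?_)
      exact Set.image_preimage_subset _ _
    · obtain ⟨y', hy', hsp⟩ := H6.ProConsSpec.closure_eq_specializations hZ hy
      obtain ⟨x, x', hx, hxy, hxy'⟩ := h hsp
      exact ⟨x, hx.mem_closed isClosed_closure (subset_closure (by rw [Set.mem_preimage, hxy']; exact hy')), hxy⟩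
  · intro h y y' hsp
    have hy : y ∈ f '' closure (f ⁻¹' {y'}) := by
      rw [h {y'} (H6.ProConsSpec.isProConstructible_singleton y')]
      exact specializes_iff_mem_closure.1 hsp
    obtain ⟨x, hx, rfl⟩ := hy
    obtain ⟨x', hx', hxs⟩ := H6.ProConsSpec.exists_specializes_of_mem_closure_fibre f y' hx
    exact ⟨x, x', hxs, rfl, hx'⟩

end Groth.Agent.S14788
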