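import Groth.Statements.S14795
import Groth.Agent.Lib.H6.AWN

set_option autoImplicit false
set_option linter.all false
universe u
open CategoryTheory CategoryTheory.Limits AlgebraicGeometry
open Subtr

namespace Groth.Agent.S14795

/-- Let A ⊆ B be an integral ring extension and C ⊆ B the weak subintegral closure of A in B, that is
the largest A-subalgebra C of B such that Spec C ⟶ Spec A is a universal homeomorphism (C is
characterised here by that maximality). Then b ∈ B lies in C if and only if b ⊗ 1 − 1 ⊗ b is
nilpotent in B ⊗_A B (b ⊗ 1 = 1 ⊗ b in the reduction of B ⊗_A B). -/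
theorem result {A B : Type u} [CommRing A] [CommRing B]
    [Algebra A B] (hinj : Function.Injective (algebraMap A B)) [Algebra.IsIntegral A B]
    (C : Subalgebra A B) (hC : FlatMor.IsUnivHomeo (Spec.map (CommRingCat.ofHom (algebraMap A C))))
    (hmax : ∀ D : Subalgebra A B, FlatMor.IsUnivHomeo (Spec.map (CommRingCat.ofHom (algebraMap A D))) → D ≤ C) (b : B) :
    b ∈ C ↔ IsNilpotent (b ⊗ₜ[A] (1 : B) - (1 : B) ⊗ₜ[A] b) := by
  have hu := (H6.AWN.uh_iff _).1 hC
  constructor
  · intro hb
    have h0 : IsNilpotent ((⟨b, hb⟩ : C) ⊗ₜ[A] (1 : C) - (1 : C) ⊗ₜ[A] (⟨b, hb⟩ : C)) := by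
      rw [← mem_nilradical, mem_nilradical, nilpotent_iff_mem_prime]
      intro P hP
      let q := algebraMap (TensorProduct A C C) P.ResidueField
      have := hu.inj P.ResidueField
        (q.comp (Algebra.TensorProduct.includeLeft (R := A) (S := A) (A := C) (B := C)).toRingHom)
        (q.comp (Algebra.TensorProduct.includeRight (R := A) (A := C) (B := C)).toRingHom)
        (RingHom.ext fun a => congrArg q (((Algebra.TensorProduct.includeLeft (R := A) (S := A) (A := C) (B := C)).commutes a).trans
          ((Algebra.TensorProduct.includeRight (R := A) (A := C) (B := C)).commutes a).symm))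
      refine Ideal.algebraMap_residueField_eq_zero.1 ?_
      rw [map_sub]
      exact sub_eq_zero.2 (RingHom.congr_fun this ⟨b, hb⟩)
    simpa using h0.map (Algebra.TensorProduct.map C.val C.val)
  · intro hn
    let D := Algebra.adjoin A ({b} : Set B)
    refine hmax D ((H6.AWN.uh_iff _).2 ?_) (Algebra.subset_adjoin rfl)
    have hint : (algebraMap A D).IsIntegral := fun x =>
      (isIntegral_algHom_iff D.val Subtype.val_injective).1 (Algebra.IsIntegral.isIntegral (R := A) (x : B))
    have hDB : D.val.toRingHom.IsIntegral := fun x => (Algebra.IsIntegral.isIntegral (R := A) x).tower_top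
    refine ⟨hint, RingHom.IsIntegral.comap_surjective hint fun x y h => hinj (congrArg D.val h), fun K _ u v huv => ?_⟩
    let L := AlgebraicClosure K
    have hsurj : Function.Surjective (PrimeSpectrum.comap D.val.toRingHom) :=
      RingHom.IsIntegral.comap_surjective hDB Subtype.val_injective
    obtain ⟨u', hu'⟩ := H6.Eta.exists_alg_point D.val.toRingHom hDB hsurj ((algebraMap K L).comp u)
    obtain ⟨v', hv'⟩ := H6.Eta.exists_alg_point D.val.toRingHom hDB hsurj ((algebraMap K L).comp v)
    letI : Algebra A L := ((algebraMap K L).comp (u.comp (algebraMap A D))).toAlgebra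
    let uA : B →ₐ[A] L := { u' with commutes' := fun a => RingHom.congr_fun hu' (algebraMap A D a) }
    let vA : B →ₐ[A] L := { v' with commutes' := fun a => (RingHom.congr_fun hv' (algebraMap A D a)).trans (congrArg (algebraMap K L) (RingHom.congr_fun huv a).symm) }
    have h0 := (hn.map (Algebra.TensorProduct.productMap uA vA)).eq_zero
    rw [map_sub, Algebra.TensorProduct.productMap_apply_tmul, Algebra.TensorProduct.productMap_apply_tmul, map_one, map_one, mul_one, one_mul,
      sub_eq_zero] at h0
    have hb' : u ⟨b, Algebra.subset_adjoin rfl⟩ = v ⟨b, Algebra.subset_adjoin rfl⟩ :=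
      (algebraMap K L).injective ((RingHom.congr_fun hu' ⟨b, Algebra.subset_adjoin rfl⟩).symm.trans
        (h0.trans (RingHom.congr_fun hv' ⟨b, Algebra.subset_adjoin rfl⟩)))
    refine RingHom.ext fun x => ?_
    obtain ⟨x, hx⟩ := x
    induction hx using Algebra.adjoin_induction with
    | mem y hy =>
      obtain rfl : y = b := hy
      exact hb'
    | algebraMap r => exact RingHom.congr_fun huv r
    | add y z hy hz h1 h2 =>
      show u (⟨y, hy⟩ + ⟨z, hz⟩) = v (⟨y, hy⟩ + ⟨z, hz⟩)
      rw [map_add, map_add, h1, h2]
    | mul y z hy hz h1 h2 =>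
      show u (⟨y, hy⟩ * ⟨z, hz⟩) = v (⟨y, hy⟩ * ⟨z, hz⟩)
      rw [map_mul, map_mul, h1, h2]

end Groth.Agent.S14795
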