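import Groth.Statements.S14801
import Groth.Agent.Lib.LChain

set_option autoImplicit false
universe u
open Finset
open LabGraph

namespace Groth.Agent.S14801

/-- Let (G, β) be a finite multigraph with a multiplicity function and α its matrix (α_{vw} = #edges(v,
w) for v ≠ w, diagonal entries defined by Σ_w β(w) α_{vw} = 0); let L be a connecting chain of
length m (vertices v₀, …, v_m, edges e₁, …, e_m, each connecting) with β(v_i) = m and α_{v_i v_i} =
-2 for all i; let (G', β') be the contraction of L and f : ℤ^{V(G')} → ℤ^{V(G)} the map extending a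
vector by zero along the section of V(G) → V(G') that sends the contracted vertex to v₀. Then f
carries ker β' into ker β, and there is a map h : ℤ^{V(G')} → ℤ^{V(G)} with f ∘ α' = α ∘ h, so that
f induces a homomorphism of component groups ker β'/im α' → ker β/im α; this homomorphism is
surjective. -/
theorem result {V E : Type u} [Fintype V] [Fintype E] [DecidableEq V] [DecidableEq E]
    (ends : E → V × V) (β : V → ℤ) (hβ : LabGraph.IsMultFn ends β)
    (m : ℕ) (f : Fin (m + 1) → V) (e : Fin m → E) (hC : LabGraph.IsChain ends f e)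
    (hconn : ∀ i, LabGraph.IsConnecting ends (e i)) (hβm : ∀ i, β (f i) = m)
    (hα : ∀ i, LabGraph.mfMatrix ends β (f i) (f i) = -2) :
    ∃ φ : LabGraph.CompGrp (DualGr.ctrEnds ends (univ.image e)) (LabGraph.ctrFn ends (univ.image e) β) →+
        LabGraph.CompGrp ends β,
      Function.Surjective φ ∧
      ∀ (x : LinearMap.ker (LabGraph.betaHom (LabGraph.ctrFn ends (univ.image e) β)))
        (y : LinearMap.ker (LabGraph.betaHom β)),
        (y : V → ℤ) = LabGraph.liftAt ends (univ.image e) (f 0) (x : DualGr.CtrVert ends (univ.image e) → ℤ) →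
        φ (Submodule.Quotient.mk x) = Submodule.Quotient.mk y := by
  have hc : ∀ i j, β (f i) = β (f j) := fun i j => by rw [hβm, hβm]
  set M := LinearMap.range (Matrix.mulVecLin (LabGraph.mfMatrix ends β)) with hM
  let δ : Fin (m + 1) → V → ℤ := fun j => Pi.single (f j) 1
  have hlin : ∀ x : DualGr.CtrVert ends (univ.image e) → ℤ,
      LabGraph.betaHom β (LabGraph.liftAt ends (univ.image e) (f 0) x) =
        LabGraph.betaHom (LabGraph.ctrFn ends (univ.image e) β) x := fun x => by
    rw [← LChain.beta_pushV hC hc, LChain.pushV_liftAt hC]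
  let L : (DualGr.CtrVert ends (univ.image e) → ℤ) →ₗ[ℤ] (V → ℤ) :=
    { toFun := fun x => LabGraph.liftAt ends (univ.image e) (f 0) x
      map_add' := fun x y => by funext v; simp only [LabGraph.liftAt, Pi.add_apply]; split_ifs <;> simp
      map_smul' := fun r x => by funext v; simp only [LabGraph.liftAt, Pi.smul_apply, RingHom.id_apply]; split_ifs <;> simp }
  let L₀ : LinearMap.ker (LabGraph.betaHom (LabGraph.ctrFn ends (univ.image e) β)) →ₗ[ℤ] LinearMap.ker (LabGraph.betaHom β) :=
    LinearMap.restrict L (fun x hx => by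
      rw [LinearMap.mem_ker] at hx ⊢
      exact (hlin x).trans hx)
  let q := ((LinearMap.range (Matrix.mulVecLin (LabGraph.mfMatrix ends β))).comap (LinearMap.ker (LabGraph.betaHom β)).subtype).mkQ ∘ₗ L₀
  have hwd : (LinearMap.range (Matrix.mulVecLin (LabGraph.mfMatrix (DualGr.ctrEnds ends (univ.image e))
      (LabGraph.ctrFn ends (univ.image e) β)))).comap
      (LinearMap.ker (LabGraph.betaHom (LabGraph.ctrFn ends (univ.image e) β))).subtype ≤ LinearMap.ker q := by
    rintro x ⟨y, hy⟩
    rw [LinearMap.mem_ker, LinearMap.comp_apply, Submodule.mkQ_apply, Submodule.Quotient.mk_eq_zero, Submodule.mem_comap]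
    show LabGraph.liftAt ends (univ.image e) (f 0) x.1 ∈ M
    set z : V → ℤ := fun v => y (DualGr.ctrMk ends (univ.image e) v) with hz
    have hzc : ∀ i j, z (f i) = z (f j) := fun i j => by simp only [hz, LChain.same_class hC i, LChain.same_class hC j]
    have hzy : LabGraph.ctrFn ends (univ.image e) z = y :=
      funext fun c => congrArg y (Quotient.out_eq (s := DualGr.ctrSetoid ends (univ.image e)) c)
    have hx : (x : DualGr.CtrVert ends (univ.image e) → ℤ) = DualGr.pushV ends (univ.image e) ((LabGraph.mfMatrix ends β).mulVec z) := by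
      rw [← LChain.ctr_mulVec hβ hC hc z hzc, hzy]
      exact hy.symm
    have h1 := LChain.liftAt_pushV hC ((LabGraph.mfMatrix ends β).mulVec z)
    rw [← hx, sub_eq_iff_eq_add] at h1
    have h2 : ∑ j, (LabGraph.mfMatrix ends β).mulVec z (f j) • (δ j - δ 0) ∈ M := by
      refine Submodule.sum_mem _ fun j _ => ?_
      by_cases h0 : j = 0
      · simp [h0]
      by_cases hm : (j : ℕ) = m
      · obtain ⟨w, -, hw⟩ := LChain.exists_end_vector hβ hC hβm hα hconn
        refine M.smul_mem _ ⟨w, ?_⟩
        rw [Matrix.mulVecLin_apply, hw]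
        simp [δ, show j = Fin.last m from Fin.ext hm]
      · have hj := j.2
        have hj0 : (j : ℕ) ≠ 0 := fun h => h0 (Fin.ext h)
        have e1 : j = (⟨(j : ℕ) - 1, by omega⟩ : Fin m).succ := Fin.ext (by simp; omega)
        have h3 := LChain.arith hβ hC hβm hα z (a := ⟨(j : ℕ) - 1, by omega⟩) (b := ⟨j, by omega⟩) (Fin.ext (by simp; omega))
        rw [← e1, hzc _ j, hzc (Fin.succ _) j] at h3
        rw [h3]
        simp [two_mul]
    have : (LabGraph.mfMatrix ends β).mulVec z - ∑ j, (LabGraph.mfMatrix ends β).mulVec z (f j) • (δ j - δ 0) =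
        LabGraph.liftAt ends (univ.image e) (f 0) x.1 := sub_eq_iff_eq_add.2 (h1.trans (add_comm _ _))
    rw [← this]
    exact sub_mem ⟨z, rfl⟩ h2
  refine ⟨(Submodule.liftQ _ q hwd).toAddMonoidHom, ?_, fun x y hxy => ?_⟩
  swap
  · show Submodule.Quotient.mk (L₀ x) = Submodule.Quotient.mk y
    exact congrArg _ (Subtype.ext hxy.symm)
  intro c
  obtain ⟨y, rfl⟩ := Submodule.Quotient.mk_surjective _ c
  have hcol : ∀ j v, (LabGraph.mfMatrix ends β).mulVec (δ j) v = LabGraph.mfMatrix ends β v (f j) := fun j v => by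
    simp [δ, Matrix.mulVec_single]
  set r : V → ℤ := if h : 0 < m then δ (⟨0, h⟩ : Fin m).succ - δ 0 - (LabGraph.mfMatrix ends β).mulVec (δ 0) else 0 with hr
  have hrf : ∀ j : Fin (m + 1), j ≠ 0 → r (f j) = 0 := by
    intro j hj
    have hm : 0 < m := by rcases Nat.eq_zero_or_pos m with rfl | h; exacts [absurd (Fin.eq_zero j) hj, h]
    rw [hr, dif_pos hm, Pi.sub_apply, Pi.sub_apply, hcol, LChain.offdiag (hC.1.ne hj), LChain.mult_zero_succ hC hconn hj]
    simp only [δ, Pi.single_apply, hC.1.eq_iff, if_neg hj, sub_zero, Fin.ext_iff, Fin.val_succ]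
    split_ifs <;> simp_all
  have hmem : ∀ j : Fin (m + 1), δ j - δ 0 - ((j : ℕ) : ℤ) • r ∈ M := by
    rcases Nat.eq_zero_or_pos m with rfl | hm
    · intro j; simp [Fin.eq_zero j]
    suffices ∀ n : ℕ, ∀ h : n < m + 1, δ ⟨n, h⟩ - δ 0 - (n : ℤ) • r ∈ M from fun j => this j j.2
    intro n
    induction n using Nat.strong_induction_on with
    | _ n ih =>
      intro h
      match n, ih, h with
      | 0, _, _ => simp
      | 1, _, h =>
        refine ⟨δ 0, ?_⟩
        rw [Matrix.mulVecLin_apply, hr, dif_pos hm, Nat.cast_one, one_smul]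
        rw [show (⟨0, hm⟩ : Fin m).succ = (⟨1, h⟩ : Fin (m + 1)) from rfl]
        abel
      | (k + 2), ih, h =>
        have h1 := ih (k + 1) (by omega) (by omega)
        have h2 := ih k (by omega) (by omega)
        have hab : (⟨k, by omega⟩ : Fin m).succ = (⟨k + 1, by omega⟩ : Fin m).castSucc := rfl
        have h3 : δ ⟨k + 2, h⟩ + δ ⟨k, by omega⟩ - 2 • δ ⟨k + 1, by omega⟩ ∈ M := by
          refine ⟨δ ⟨k + 1, by omega⟩, funext fun v => ?_⟩
          rw [Matrix.mulVecLin_apply, hcol, LChain.mat_symm]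
          refine (LChain.interior_edges hβ hC hβm hα hab v).trans ?_
          simp only [δ, Pi.sub_apply, Pi.add_apply, Pi.smul_apply, Pi.single_apply, smul_eq_mul,
            Fin.succ_mk, Fin.castSucc_mk, nsmul_eq_mul]
          split_ifs <;> simp_all
        have : δ ⟨k + 2, h⟩ - δ 0 - ((k + 2 : ℕ) : ℤ) • r =
            (δ ⟨k + 2, h⟩ + δ ⟨k, by omega⟩ - 2 • δ ⟨k + 1, by omega⟩) + 2 • (δ ⟨k + 1, by omega⟩ - δ 0 - ((k + 1 : ℕ) : ℤ) • r)
              - (δ ⟨k, by omega⟩ - δ 0 - (k : ℤ) • r) := by
          push_cast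
          module
        rw [this]
        exact sub_mem (add_mem h3 (nsmul_mem h1 2)) h2
  set u : V → ℤ := (y : V → ℤ) - ∑ j, (y : V → ℤ) (f j) • (δ j - δ 0 - ((j : ℕ) : ℤ) • r) with hu
  have huf : ∀ i : Fin (m + 1), i ≠ 0 → u (f i) = 0 := by
    intro i hi
    simp only [hu, Pi.sub_apply, Finset.sum_apply, Pi.smul_apply, smul_eq_mul, hrf i hi, mul_zero, sub_zero, δ,
      Pi.single_apply, hC.1.eq_iff, if_neg hi]
    simp
  have hsumM : ∑ j, (y : V → ℤ) (f j) • (δ j - δ 0 - ((j : ℕ) : ℤ) • r) ∈ M :=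
    Submodule.sum_mem _ fun j _ => M.smul_mem _ (hmem j)
  have hβu : LabGraph.betaHom β u = 0 := by
    obtain ⟨w, hw⟩ := hsumM
    rw [hu, ← hw, map_sub, LinearMap.mem_ker.1 y.2, Matrix.mulVecLin_apply, zero_sub, neg_eq_zero]
    simp only [LabGraph.betaHom, Fintype.linearCombination_apply, smul_eq_mul, Matrix.mulVec, dotProduct, Finset.sum_mul]
    rw [Finset.sum_comm]
    refine Finset.sum_eq_zero fun v _ => ?_
    rw [← mul_zero (w v), ← LChain.row hβ v, Finset.mul_sum]
    exact Finset.sum_congr rfl fun i _ => by rw [LChain.mat_symm (β := β) v i]; ring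
  have hLP : LabGraph.liftAt ends (univ.image e) (f 0) (DualGr.pushV ends (univ.image e) u) = u := by
    refine (sub_eq_zero.1 ((LChain.liftAt_pushV hC u).trans (Finset.sum_eq_zero fun j _ => ?_))).symm
    by_cases h0 : j = 0
    · simp [h0]
    · rw [huf j h0, zero_smul]
  refine ⟨Submodule.Quotient.mk ⟨DualGr.pushV ends (univ.image e) u, ?_⟩, ?_⟩
  · rw [LinearMap.mem_ker, LChain.beta_pushV hC hc, hβu]
  · show Submodule.Quotient.mk (L₀ _) = _
    rw [Submodule.Quotient.eq, Submodule.mem_comap]
    show LabGraph.liftAt ends (univ.image e) (f 0) (DualGr.pushV ends (univ.image e) u) - (y : V → ℤ) ∈ M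
    rw [hLP, hu, sub_sub_cancel_left]
    exact neg_mem hsumM

end Groth.Agent.S14801
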