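import Groth.Statements.S14802
import Groth.Agent.Lib.LChain

set_option autoImplicit false
universe u
open Finset
open LabGraph

namespace Groth.Agent.S14802

/-- Let (G, β) be a connected finite multigraph with a multiplicity function and α its matrix; let L be
a connecting chain of length m (vertices v₀, …, v_m, edges e₁, …, e_m, each connecting) with β(v_i)
= m and α_{v_i v_i} = -2 for all i; let (G', β') be the contraction of L and f : ℤ^{V(G')} →
ℤ^{V(G)} the extension by zero along the section sending the contracted vertex to v₀. Then the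
homomorphism ker β'/im α' → ker β/im α induced by f is injective: if x ∈ ker β' and f(x) ∈ im α then
x ∈ im α'. With the surjectivity this gives Φ(G') ≅ Φ(G): the component group depends on the length
of such a chain only modulo m. -/
theorem result {V E : Type u} [Fintype V] [Fintype E] [DecidableEq V] [DecidableEq E]
    (ends : E → V × V) (β : V → ℤ) (hβ : LabGraph.IsMultFn ends β) (hG : LabGraph.Connected ends)
    (m : ℕ) (f : Fin (m + 1) → V) (e : Fin m → E) (hC : LabGraph.IsChain ends f e)
    (hconn : ∀ i, LabGraph.IsConnecting ends (e i)) (hβm : ∀ i, β (f i) = m)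
    (hα : ∀ i, LabGraph.mfMatrix ends β (f i) (f i) = -2)
    (x : DualGr.CtrVert ends (univ.image e) → ℤ)
    (hx : x ∈ LinearMap.ker (LabGraph.betaHom (LabGraph.ctrFn ends (univ.image e) β)))
    (hfx : LabGraph.liftAt ends (univ.image e) (f 0) x ∈
      LinearMap.range (Matrix.mulVecLin (LabGraph.mfMatrix ends β))) :
    x ∈ LinearMap.range (Matrix.mulVecLin
      (LabGraph.mfMatrix (DualGr.ctrEnds ends (univ.image e)) (LabGraph.ctrFn ends (univ.image e) β))) := by
  obtain ⟨y, hy⟩ := hfx
  rw [Matrix.mulVecLin_apply] at hy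
  obtain ⟨w, hw, hαw⟩ := LChain.exists_end_vector hβ hC hβm hα hconn
  have hc : ∀ i j, β (f i) = β (f j) := fun i j => by rw [hβm, hβm]
  let g : ℕ → ℤ := fun n => if h : n < m + 1 then y (f ⟨n, h⟩) else 0
  have hg : ∀ j : Fin (m + 1), g j = y (f j) := fun j => dif_pos j.2
  have hrec : ∀ n, n + 2 ≤ m → g (n + 2) = 2 * g (n + 1) - g n := by
    intro n hn
    let a : Fin m := ⟨n, by omega⟩
    let b : Fin m := ⟨n + 1, by omega⟩
    have h0 : LabGraph.liftAt ends (univ.image e) (f 0) x (f a.succ) = 0 :=
      if_pos ⟨LChain.same_class hC _, hC.1.ne (Fin.succ_ne_zero _)⟩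
    have h1 := LChain.arith hβ hC hβm hα y (a := a) (b := b) rfl
    rw [hy, h0] at h1
    have e1 := hg a.castSucc
    have e2 := hg a.succ
    have e3 := hg b.succ
    simp only [a, b, Fin.val_castSucc, Fin.val_succ] at e1 e2 e3
    linarith
  have hAP : ∀ n, n ≤ m → g n = g 0 + n * (g 1 - g 0) := by
    intro n
    induction n using Nat.strong_induction_on with
    | _ n ih =>
      intro hn
      match n, ih, hn with
      | 0, _, _ => simp
      | 1, _, _ => simp
      | (k + 2), ih, hn =>
        rw [hrec k hn, ih (k + 1) (by omega) (by omega), ih k (by omega) (by omega)]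
        push_cast
        ring
  set d := g 1 - g 0 with hd
  set z : V → ℤ := y + d • w with hz
  have hzc : ∀ i j, z (f i) = z (f j) := by
    have : ∀ j, z (f j) = g 0 + m * d := fun j => by
      rw [hz, Pi.add_apply, Pi.smul_apply, smul_eq_mul, hw, ← hg j, hAP j (Nat.le_of_lt_succ j.2)]
      ring
    exact fun i j => by rw [this i, this j]
  refine ⟨LabGraph.ctrFn ends (univ.image e) z, ?_⟩
  rw [Matrix.mulVecLin_apply, LChain.ctr_mulVec hβ hC hc z hzc, hz, Matrix.mulVec_add, Matrix.mulVec_smul, hαw, hy,
    map_add, map_smul, LChain.pushV_liftAt hC, map_sub]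
  have hs : ∀ j, DualGr.pushV ends (univ.image e) (Pi.single (f j) 1) =
      DualGr.pushV ends (univ.image e) (Pi.single (f 0) 1) := fun j => by
    funext c
    show ∑ v ∈ _, _ = ∑ v ∈ _, _
    simp only [Finset.sum_pi_single', Finset.mem_filter, Finset.mem_univ, true_and, LChain.same_class hC j]
  rw [hs, sub_self, smul_zero, add_zero]

end Groth.Agent.S14802
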