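import Groth.Statements.S14803
import Groth.Agent.Lib.LabGraphMatrixTree
import Mathlib.LinearAlgebra.FreeModule.Finite.CardQuotient
import Mathlib.Algebra.BigOperators.Field
import Mathlib.Data.ZMod.QuotientGroup
import Mathlib.Tactic.FieldSimp
import Mathlib.RingTheory.PrincipalIdealDomain

set_option autoImplicit false
universe u
open Finset
open LabGraph

namespace Groth.Agent.S14803

open Classical in
/-- Let (G, β) be a connected finite multigraph with a multiplicity function, α its matrix (α_{vw} =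
#edges(v, w) for v ≠ w, Σ_w β(w) α_{vw} = 0) and Φ(G) = ker β / im α its component group; let m be
the gcd of all the values β(v). Then Φ(G) is finite of order m² · Σ_T Π_v β(v)^{#N_T(v) - 2}, where
T runs over the spanning trees of G and N_T(v) is the set of neighbours of v in T. (The published
statement gives this order for the Néron component group of a curve's Jacobian, G being the weighted
dual graph of a proper regular model and β its component multiplicities; this row states the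
identity for every connected pair (G, β) with a positive multiplicity function.) -/
theorem result {V E : Type u} [Fintype V] [Fintype E] [DecidableEq V] [DecidableEq E]
    (ends : E → V × V) (β : V → ℤ) (hβ : LabGraph.IsMultFn ends β) (hG : LabGraph.Connected ends) :
    (Nat.card (LabGraph.CompGrp ends β) : ℚ) =
      ((univ.gcd β : ℤ) : ℚ) ^ 2 *
        ∑ T ∈ univ.powerset.filter (fun T : Finset E => LabGraph.IsSpanningTree ends T),
          ∏ v : V, ((β v : ℚ) ^ ((LabGraph.nbrCount ends T v : ℤ) - 2)) := by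
  classical
  obtain ⟨v₀⟩ := hG.1
  have hb0 : 0 < β v₀ := (hβ v₀).1
  set m : ℤ := univ.gcd β with hm
  have hm0 : 0 ≤ m := Int.nonneg_of_normalize_eq_self Finset.normalize_gcd
  obtain ⟨q, hq⟩ : m ∣ β v₀ := Finset.gcd_dvd (mem_univ v₀)
  have hm1 : 0 < m := lt_of_le_of_ne hm0 fun h => by rw [← h, zero_mul] at hq; omega
  have hq1 : 0 < q := by nlinarith
  obtain ⟨a, ha⟩ := Finset.gcd_eq_sum_mul univ β
  rw [← hm] at ha
  set α := LabGraph.mfMatrix ends β with hα
  set A := α.submatrix (fun v : {v : V // v ≠ v₀} => v.1) (fun v : {v : V // v ≠ v₀} => v.1) with hA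
  have key := LabGraphMatrixTree.det_reduced hβ v₀
  rw [← hα, ← hA] at key
  set S := ∑ T ∈ univ.powerset.filter (fun T : Finset E => LabGraph.IsSpanningTree ends T),
    ∏ v : V, β v ^ LabGraph.nbrCount ends T v with hS
  have hSpos : 0 < S := by
    obtain ⟨T, -, -, hT⟩ := LabGraphTree.exists_spanningTree hG.1 (empty_subset (univ : Finset E))
      (fun C hC hc => by obtain ⟨e, he⟩ := hc.1; exact absurd (hC he) (notMem_empty e)) (LabGraphForest.reach_univ hG)
    exact sum_pos (fun T _ => prod_pos fun v _ => pow_pos (hβ v).1 _)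
      ⟨T, mem_filter.2 ⟨mem_powerset.2 (subset_univ _), hT⟩⟩
  have hA0 : A.det ≠ 0 := fun h => by rw [h, abs_zero, zero_mul] at key; omega
  have hrow : ∀ v, ∑ u, α v u * β u = 0 := by
    intro v
    rw [← Finset.add_sum_erase _ _ (Finset.mem_univ v), hα, LabGraph.mfMatrix, if_pos rfl, mul_comm,
      Int.mul_ediv_cancel' (dvd_neg.2 (hβ v).2), add_comm, ← sub_eq_add_neg, sub_eq_zero]
    refine Finset.sum_congr rfl fun u hu => ?_
    rw [LabGraph.mfMatrix, if_neg (Finset.ne_of_mem_erase hu).symm, mul_comm]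
  have hsymm : ∀ v u, α v u = α u v := by
    intro v u
    by_cases h : v = u
    · rw [h]
    · simp only [hα, LabGraph.mfMatrix, if_neg h, if_neg (Ne.symm h), LabGraph.edgeMult, or_comm]
  let P : (V → ℤ) →ₗ[ℤ] ({v : V // v ≠ v₀} → ℤ) := LinearMap.funLeft ℤ ℤ (fun v : {v : V // v ≠ v₀} => v.1)
  have hsplit : ∀ f : V → ℤ, ∑ u, f u = f v₀ + ∑ u : {v : V // v ≠ v₀}, f u.1 := by
    intro f
    rw [← Finset.add_sum_erase _ _ (Finset.mem_univ v₀)]
    congr 1
    exact Finset.sum_subtype _ (by simp) f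
  have hPmul : ∀ z : V → ℤ, z v₀ = 0 → P (α.mulVec z) = A.mulVec (P z) := by
    intro z hz
    funext v
    show ∑ u, α v.1 u * z u = ∑ u : {v : V // v ≠ v₀}, α v.1 u.1 * z u.1
    rw [hsplit, hz, mul_zero, zero_add]
  have hker : ∀ z : V → ℤ, P (α.mulVec z) = 0 → q ∣ z v₀ := by
    intro z hz
    have h0 : P (β v₀ • z - z v₀ • β) = 0 := by
      by_contra hne
      refine hA0 (Matrix.exists_mulVec_eq_zero_iff.1 ⟨_, hne, ?_⟩)
      rw [← hPmul _ (by simp [mul_comm]), Matrix.mulVec_sub, Matrix.mulVec_smul, Matrix.mulVec_smul, map_sub, map_smul, map_smul, hz,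
        show α.mulVec β = 0 from funext hrow, map_zero, smul_zero, smul_zero, sub_zero]
    have h1 : ∀ v, β v₀ * z v = z v₀ * β v := by
      intro v
      by_cases h : v = v₀
      · subst h; ring
      · have := congrFun h0 ⟨v, h⟩
        simp [P, LinearMap.funLeft_apply] at this
        linarith
    have h2 : β v₀ * ∑ v, a v * z v = z v₀ * m := by
      rw [ha, Finset.mul_sum, Finset.mul_sum]
      exact Finset.sum_congr rfl fun v _ => by linear_combination a v * h1 v
    rw [hq] at h2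
    exact ⟨∑ v, a v * z v, mul_left_cancel₀ hm1.ne' (by linear_combination -h2)⟩
  have hbq : ∀ v, m ∣ β v := fun v => Finset.gcd_dvd (mem_univ v)
  choose b hb using hbq
  have hb0' : b v₀ = q := mul_left_cancel₀ hm1.ne' (by rw [← hb, hq])
  have hbker : α.mulVec b = 0 := by
    funext v
    refine mul_left_cancel₀ hm1.ne' ?_
    rw [Pi.zero_apply, mul_zero]
    show m * ∑ u, α v u * b u = 0
    rw [Finset.mul_sum, ← hrow v]
    exact Finset.sum_congr rfl fun u _ => by rw [hb u]; ring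
  let c0 : {v : V // v ≠ v₀} → ℤ := P (α.mulVec (Pi.single v₀ 1))
  let L0 : AddSubgroup ({v : V // v ≠ v₀} → ℤ) := (LinearMap.range A.mulVecLin).toAddSubgroup
  let Im : AddSubgroup ({v : V // v ≠ v₀} → ℤ) := (LinearMap.range (P ∘ₗ α.mulVecLin)).toAddSubgroup
  let ι0 : ({v : V // v ≠ v₀} → ℤ) → V → ℤ := fun x v => if h : v = v₀ then 0 else x ⟨v, h⟩
  have hι0 : ∀ x, P (ι0 x) = x ∧ ι0 x v₀ = 0 := fun x => ⟨funext fun v => dif_neg v.2, dif_pos rfl⟩
  have hL0 : ∀ x, x ∈ L0 ↔ ∃ y, A.mulVec y = x := fun x => Iff.rfl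
  have hIm : ∀ x, x ∈ Im ↔ ∃ z, P (α.mulVec z) = x := fun x => Iff.rfl
  have hle : L0 ≤ Im := by
    intro x hx
    obtain ⟨y, rfl⟩ := (hL0 x).1 hx
    exact (hIm _).2 ⟨ι0 y, by rw [hPmul _ (hι0 y).2, (hι0 y).1]⟩
  have hdec : ∀ z : V → ℤ, P (α.mulVec z) = A.mulVec (P (z - z v₀ • Pi.single v₀ 1)) + z v₀ • c0 := by
    intro z
    rw [← hPmul _ (by simp), Matrix.mulVec_sub, Matrix.mulVec_smul, map_sub, map_smul, sub_add_cancel]
  have hrel : L0.relIndex Im = q.natAbs := by
    have hc0 : c0 ∈ Im := (hIm _).2 ⟨_, rfl⟩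
    let χ : ℤ →+ Im ⧸ L0.addSubgroupOf Im := (QuotientAddGroup.mk' (L0.addSubgroupOf Im)).comp (zmultiplesHom Im ⟨c0, hc0⟩)
    have hsur : Function.Surjective χ := by
      intro x
      obtain ⟨⟨x, hx⟩, rfl⟩ := QuotientAddGroup.mk'_surjective _ x
      obtain ⟨z, hz⟩ := (hIm x).1 hx
      refine ⟨z v₀, (QuotientAddGroup.eq).2 (AddSubgroup.mem_addSubgroupOf.2 ((hL0 _).2 ⟨P (z - z v₀ • Pi.single v₀ 1), ?_⟩))⟩
      have := hdec z
      simp only [AddSubgroup.coe_add, AddSubgroup.coe_neg, zmultiplesHom_apply, AddSubgroup.coe_zsmul]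
      rw [← hz, this]
      abel
    have hk : χ.ker = AddSubgroup.zmultiples q := by
      ext k
      have hmem : k ∈ χ.ker ↔ k • c0 ∈ L0 := by
        rw [AddMonoidHom.mem_ker]
        show ((zmultiplesHom Im ⟨c0, hc0⟩ k : Im) : Im ⧸ L0.addSubgroupOf Im) = 0 ↔ _
        rw [QuotientAddGroup.eq_zero_iff, AddSubgroup.mem_addSubgroupOf, zmultiplesHom_apply, AddSubgroup.coe_zsmul]
      rw [hmem, Int.mem_zmultiples_iff, hL0]
      constructor
      · rintro ⟨y, hy⟩
        have := hker (k • Pi.single v₀ 1 - ι0 y) (by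
          rw [Matrix.mulVec_sub, Matrix.mulVec_smul, map_sub, map_smul, hPmul _ (hι0 y).2, (hι0 y).1, hy, sub_self])
        simpa [(hι0 y).2] using this
      · rintro ⟨s, rfl⟩
        refine ⟨P ((q * s) • Pi.single v₀ 1 - s • b), ?_⟩
        rw [← hPmul _ (by simp [hb0', mul_comm]), Matrix.mulVec_sub, Matrix.mulVec_smul, Matrix.mulVec_smul, hbker,
          smul_zero, sub_zero, map_smul]
    have h1 := AddSubgroup.index_ker χ
    rw [hk, Int.index_zmultiples, AddMonoidHom.range_eq_top.2 hsur, Nat.card_congr AddSubgroup.topEquiv.toEquiv] at h1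
    exact h1.symm
  have hdet : L0.index = A.det.natAbs := by
    have hinj : Function.Injective A.mulVecLin := by
      rw [← LinearMap.ker_eq_bot, LinearMap.ker_eq_bot']
      intro x hx
      by_contra hne
      exact hA0 (Matrix.exists_mulVec_eq_zero_iff.1 ⟨x, hne, hx⟩)
    have h := Submodule.natAbs_det_equiv (LinearMap.range A.mulVecLin) (LinearEquiv.ofInjective A.mulVecLin hinj)
    rw [show L0.index = Nat.card (({v : V // v ≠ v₀} → ℤ) ⧸ LinearMap.range A.mulVecLin) from rfl, ← h]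
    congr 1
    rw [← LinearMap.det_toLin' A]
    rfl
  have hIdx : Im.index = Nat.card (LabGraph.CompGrp ends β) * q.natAbs := by
    let K := LinearMap.ker (LabGraph.betaHom β)
    let φ : K →+ ({v : V // v ≠ v₀} → ℤ) := (P ∘ₗ K.subtype).toAddMonoidHom
    have hKmem : ∀ z, z ∈ K ↔ ∑ u, z u * β u = 0 := fun z => by
      simp [K, LabGraph.betaHom, Fintype.linearCombination_apply]
    have hαK : ∀ z, α.mulVec z ∈ K := by
      intro z
      rw [hKmem]
      simp only [Matrix.mulVec, dotProduct, Finset.sum_mul]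
      rw [Finset.sum_comm]
      refine Finset.sum_eq_zero fun u _ => ?_
      rw [← mul_zero (z u), ← hrow u, Finset.mul_sum]
      exact Finset.sum_congr rfl fun v _ => by rw [hsymm v u]; ring
    have hinj : Function.Injective φ := by
      rw [injective_iff_map_eq_zero]
      intro z hz
      have h1 : ∀ v, v ≠ v₀ → z.1 v = 0 := fun v hv => congrFun hz ⟨v, hv⟩
      have h2 := (hKmem z.1).1 z.2
      rw [Finset.sum_eq_single v₀ (fun v _ hv => by rw [h1 v hv, zero_mul]) (fun h => absurd (mem_univ _) h)] at h2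
      refine Subtype.ext (funext fun v => ?_)
      by_cases hv : v = v₀
      · exact hv ▸ (mul_eq_zero.1 h2).resolve_right hb0.ne'
      · exact h1 v hv
    let N := ((LinearMap.range (Matrix.mulVecLin α)).comap K.subtype).toAddSubgroup
    have hmap : N.map φ = Im := by
      ext x
      rw [hIm]
      constructor
      · rintro ⟨z, ⟨w, hw⟩, rfl⟩
        exact ⟨w, congrArg P hw⟩
      · rintro ⟨w, rfl⟩
        exact ⟨⟨α.mulVec w, hαK w⟩, ⟨w, rfl⟩, rfl⟩
    have hN : N.index = Nat.card (LabGraph.CompGrp ends β) := rfl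
    rw [← hmap, AddSubgroup.index_map_of_injective _ hinj, hN]
    congr 1
    have hbn : ((β v₀).natAbs : ℤ) = β v₀ := Int.natAbs_of_nonneg hb0.le
    let ψ : ({v : V // v ≠ v₀} → ℤ) →+ ZMod (β v₀).natAbs :=
      (Int.castAddHom (ZMod (β v₀).natAbs)).comp (Fintype.linearCombination ℤ (fun v : {v : V // v ≠ v₀} => β v.1)).toAddMonoidHom
    have hψ : ∀ x, ψ x = ((∑ v : {v : V // v ≠ v₀}, x v * β v.1 : ℤ) : ZMod (β v₀).natAbs) := fun x => by
      simp [ψ, Fintype.linearCombination_apply]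
    have hrange : φ.range = ψ.ker := by
      ext x
      rw [AddMonoidHom.mem_range, AddMonoidHom.mem_ker, hψ, ZMod.intCast_zmod_eq_zero_iff_dvd, hbn]
      constructor
      · rintro ⟨z, rfl⟩
        refine ⟨-(z.1 v₀), ?_⟩
        have h2 := (hKmem z.1).1 z.2
        rw [hsplit] at h2
        show ∑ v : {v : V // v ≠ v₀}, z.1 v.1 * β v.1 = _
        linarith
      · rintro ⟨s, hs⟩
        refine ⟨⟨ι0 x - s • Pi.single v₀ 1, (hKmem _).2 ?_⟩, ?_⟩
        · rw [hsplit]
          have : ∀ u : {v : V // v ≠ v₀}, ι0 x u.1 = x u := fun u => dif_neg u.2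
          simp [(hι0 x).2, this, fun u : {v : V // v ≠ v₀} => u.2, hs]
          ring
        · funext v
          show (ι0 x - s • Pi.single v₀ 1 : V → ℤ) v.1 = x v
          simp [v.2, show ι0 x v.1 = x v from dif_neg v.2]
    have hψr : ψ.range = AddSubgroup.zmultiples ((m.natAbs : ℕ) : ZMod (β v₀).natAbs) := by
      have hmz : ((m.natAbs : ℕ) : ZMod (β v₀).natAbs) = ((m : ℤ) : ZMod (β v₀).natAbs) := by
        rw [← Int.cast_natCast, Int.natAbs_of_nonneg hm0]
      apply le_antisymm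
      · rintro _ ⟨x, rfl⟩
        refine AddSubgroup.mem_zmultiples_iff.2 ⟨∑ v : {v : V // v ≠ v₀}, x v * b v.1, ?_⟩
        rw [hψ, hmz, zsmul_eq_mul, ← Int.cast_mul, Finset.sum_mul]
        congr 1
        exact Finset.sum_congr rfl fun v _ => by rw [hb v.1]; ring
      · rw [AddSubgroup.zmultiples_le]
        refine ⟨P a, ?_⟩
        rw [hψ, hmz, ha, hsplit]
        push_cast
        rw [show ((β v₀ : ℤ) : ZMod (β v₀).natAbs) = 0 from (ZMod.intCast_zmod_eq_zero_iff_dvd _ _).2 (by rw [hbn]), zero_mul, zero_add]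
        exact Finset.sum_congr rfl fun v _ => mul_comm _ _
    rw [hrange, AddSubgroup.index_ker, hψr, Nat.card_zmultiples, ZMod.addOrderOf_coe _ (by omega)]
    have hnat : (β v₀).natAbs = m.natAbs * q.natAbs := by rw [hq, Int.natAbs_mul]
    rw [hnat, Nat.gcd_mul_right_left, Nat.mul_div_cancel_left _ (by omega)]
  have hmain : A.det.natAbs = q.natAbs * (Nat.card (LabGraph.CompGrp ends β) * q.natAbs) := by
    rw [← hdet, ← AddSubgroup.relIndex_mul_index hle, hrel, hIdx]
  have hQ : ((|A.det| : ℤ) : ℚ) = (q : ℚ) ^ 2 * (Nat.card (LabGraph.CompGrp ends β) : ℚ) := by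
    rw [← Int.natCast_natAbs, Int.cast_natCast, hmain]
    push_cast
    rw [show ((q.natAbs : ℕ) : ℚ) = (q : ℚ) by rw [← Int.cast_natCast, Int.natAbs_of_nonneg hq1.le]]
    ring
  have keyQ : ((|A.det| : ℤ) : ℚ) * ∏ v : {v : V // v ≠ v₀}, ((β v.1 : ℚ)) ^ 2 = (S : ℚ) := by
    rw [← key]; push_cast; ring
  have hprod : ∏ v : V, (β v : ℚ) ^ 2 = (β v₀ : ℚ) ^ 2 * ∏ v : {v : V // v ≠ v₀}, ((β v.1 : ℚ)) ^ 2 := by
    rw [← Finset.mul_prod_erase _ _ (Finset.mem_univ v₀)]
    congr 1
    exact Finset.prod_subtype _ (by simp) (fun v => (β v : ℚ) ^ 2)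
  have hne : ∀ v, (β v : ℚ) ≠ 0 := fun v => by exact_mod_cast (hβ v).1.ne'
  have hT : ∑ T ∈ univ.powerset.filter (fun T : Finset E => LabGraph.IsSpanningTree ends T),
      ∏ v : V, ((β v : ℚ) ^ ((LabGraph.nbrCount ends T v : ℤ) - 2)) = (S : ℚ) / ∏ v : V, (β v : ℚ) ^ 2 := by
    rw [hS]
    push_cast
    rw [Finset.sum_div]
    refine Finset.sum_congr rfl fun T _ => ?_
    rw [← Finset.prod_div_distrib]
    refine Finset.prod_congr rfl fun v _ => ?_
    rw [zpow_sub₀ (hne v), zpow_natCast]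
    norm_num
  rw [hT, ← keyQ, hQ, hprod, show (β v₀ : ℚ) = (m : ℚ) * (q : ℚ) by rw [hq]; push_cast; ring]
  have h1 : (m : ℚ) ≠ 0 := by exact_mod_cast hm1.ne'
  have h2 : (q : ℚ) ≠ 0 := by exact_mod_cast hq1.ne'
  have h3 : ∏ v : {v : V // v ≠ v₀}, ((β v.1 : ℚ)) ^ 2 ≠ 0 := Finset.prod_ne_zero_iff.2 fun v _ => pow_ne_zero _ (hne _)
  field_simp

end Groth.Agent.S14803
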