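import Groth.Statements.S14804
import Groth.Agent.Lib.LabGraphTree

set_option autoImplicit false
universe u
open Finset
open LabGraph

namespace Groth.Agent.S14804

/-- In a connected finite multigraph G, a vertex v belongs to some cycle of G (here: v is an endpoint of
an edge of some circuit, a circuit being a minimal nonempty edge set meeting every vertex in an even
number of edge-ends, which includes loops and pairs of parallel edges) if and only if G has a
spanning tree T such that some edge outside T has v as an endpoint. (The published statement is for
an arbitrary multigraph; when G is disconnected it has no spanning tree while a vertex may lie on a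
cycle, so G is taken connected here, the case of dual graphs for which it is used.) -/
theorem result
    {V E : Type u} [Fintype V] [Fintype E] [DecidableEq V] [DecidableEq E]
    (ends : E → V × V) (hG : LabGraph.Connected ends) (v : V) :
    (∃ C : Finset E, LabGraph.IsCircuit ends C ∧ LabGraph.endCount ends C v ≠ 0) ↔
      ∃ T : Finset E, LabGraph.IsSpanningTree ends T ∧
        ∃ e : E, e ∉ T ∧ ((ends e).1 = v ∨ (ends e).2 = v) := by
  constructor
  · rintro ⟨C, hC, hv⟩
    obtain ⟨e, he, hev⟩ : ∃ e ∈ C, (ends e).1 = v ∨ (ends e).2 = v := by
      by_contra! h
      exact hv (Finset.sum_eq_zero fun e he => by simp [(h e he).1, (h e he).2])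
    have hG : ∀ a b, LabGraphForest.Reach ends (Finset.univ.erase e) a b := by
      intro a b
      have hr := LabGraphForest.reach_univ hG a b
      induction hr with
      | refl => exact Relation.ReflTransGen.refl
      | tail _ hbc ih =>
        obtain ⟨e', -, h⟩ := hbc
        by_cases hee : e' = e
        · subst hee
          have h1 := LabGraphForest.reach_mono (G := Finset.univ.erase e')
            (Finset.erase_subset_erase _ (Finset.subset_univ C)) (LabGraphForest.reach_erase_of_circuit hC he)
          rcases h with h | h <;> rw [h] at h1
          · exact ih.trans h1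
          · exact ih.trans (LabGraphForest.reach_symm h1)
        · exact ih.tail ⟨e', Finset.mem_erase.2 ⟨hee, Finset.mem_univ _⟩, h⟩
    obtain ⟨T, hCT, hTG, hT⟩ := LabGraphTree.exists_spanningTree ⟨v⟩
      (Finset.erase_subset_erase e (Finset.subset_univ C)) (LabGraphForest.noCirc_erase hC he) hG
    exact ⟨T, hT, e, fun h => absurd (hTG h) (Finset.notMem_erase e _), hev⟩
  · rintro ⟨T, hT, e, heT, hev⟩
    obtain ⟨-, hconn, hnc⟩ := (LabGraphTree.isSpanningTree_iff T).1 hT
    obtain ⟨C, hC, hc⟩ := LabGraphForest.exists_circuit_of_reach heT (hconn (ends e).1 (ends e).2)
    have heC : e ∈ C := by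
      by_contra h
      exact hnc C (fun x hx => (Finset.mem_insert.1 (hC hx)).resolve_left fun hh => h (hh ▸ hx)) hc
    refine ⟨C, hc, fun h0 => ?_⟩
    have := Finset.sum_eq_zero_iff.1 h0 e heC
    rcases hev with hev | hev <;> simp [hev] at this

end Groth.Agent.S14804
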