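import Groth.Statements.S14806
import Mathlib
import Groth.Agent.Lib.H6.CompLat

set_option autoImplicit false
set_option backward.isDefEq.respectTransparency.types false
set_option maxHeartbeats 1000000
set_option linter.all false
open Finset
open CompLat

namespace Groth.Agent.S14806
open Groth.Agent

/-- Let n ≥ 1, let D, D' : ℤⁿ → ℤⁿ be given by diagonal matrices with nonzero diagonal entries, A : ℤⁿ →
ℤⁿ an integer matrix of rank n - 1, S : ℤⁿ → ℤ the sum of the coordinates and Δ : ℤ → ℤⁿ the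
diagonal embedding, with S D A = 0 and A D' Δ = 0; let d, d' be the greatest common divisors of the
diagonal entries of D and of D' (dℤ = im(S D), d'ℤ = im(S D')). Then #(ker(S D)/im A) · |det D| ·
|det D'| = d d' · #(ker S/im(D A D')). -/
theorem result (n : ℕ) (hn : 0 < n) (δ δ' : Fin n → ℤ) (hδ : ∀ i, δ i ≠ 0) (hδ' : ∀ i, δ' i ≠ 0)
    (A : Matrix (Fin n) (Fin n) ℤ) (hA : A.rank = n - 1)
    (hSDA : (∑ i : Fin n, (LinearMap.proj i : (Fin n → ℤ) →ₗ[ℤ] ℤ)) ∘ₗ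
        (Matrix.mulVecLin (Matrix.diagonal δ)) ∘ₗ (Matrix.mulVecLin A) = 0)
    (hADΔ : (Matrix.mulVecLin A) ∘ₗ (Matrix.mulVecLin (Matrix.diagonal δ')) ∘ₗ
        (LinearMap.pi fun _ : Fin n => (LinearMap.id : ℤ →ₗ[ℤ] ℤ)) = 0) :
    (Nat.card (LinearMap.ker ((∑ i : Fin n, (LinearMap.proj i : (Fin n → ℤ) →ₗ[ℤ] ℤ)) ∘ₗ (Matrix.mulVecLin (Matrix.diagonal δ))) ⧸
          (LinearMap.range (Matrix.mulVecLin A)).comap (LinearMap.ker ((∑ i : Fin n, (LinearMap.proj i : (Fin n → ℤ) →ₗ[ℤ] ℤ)) ∘ₗ (Matrix.mulVecLin (Matrix.diagonal δ)))).subtype) : ℤ) * |∏ i, δ i| * |∏ i, δ' i| =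
      (univ.gcd δ) * (univ.gcd δ') * Nat.card (LinearMap.ker (∑ i : Fin n, (LinearMap.proj i : (Fin n → ℤ) →ₗ[ℤ] ℤ)) ⧸
          (LinearMap.range ((Matrix.mulVecLin (Matrix.diagonal δ)) ∘ₗ (Matrix.mulVecLin A) ∘ₗ (Matrix.mulVecLin (Matrix.diagonal δ')))).comap (LinearMap.ker (∑ i : Fin n, (LinearMap.proj i : (Fin n → ℤ) →ₗ[ℤ] ℤ))).subtype) := by
    have hR : (LinearMap.range (Matrix.mulVecLin A ∘ₗ H6.CompLat.D δ')).toAddSubgroup ≤ ((H6.CompLat.S n) ∘ₗ (H6.CompLat.D δ)).ker.toAddSubgroup := by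
      rintro _ ⟨y, rfl⟩
      exact LinearMap.congr_fun hSDA _
    have hR0 : (LinearMap.range (Matrix.mulVecLin A)).toAddSubgroup ≤ ((H6.CompLat.S n) ∘ₗ (H6.CompLat.D δ)).ker.toAddSubgroup := by
      rintro _ ⟨y, rfl⟩
      exact LinearMap.congr_fun hSDA y
    have hδA : Matrix.mulVecLin A δ' = 0 := by
      have h := LinearMap.congr_fun hADΔ 1
      have e : Matrix.mulVecLin (Matrix.diagonal δ') ((LinearMap.pi fun _ : Fin n => (LinearMap.id : ℤ →ₗ[ℤ] ℤ)) 1) = δ' := funext fun i => by simp [Matrix.mulVec_diagonal]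
      rw [LinearMap.comp_apply, LinearMap.comp_apply, e] at h
      exact h
    have hle : (LinearMap.range (Matrix.mulVecLin A ∘ₗ H6.CompLat.D δ')).toAddSubgroup ≤ (LinearMap.range (Matrix.mulVecLin A)).toAddSubgroup := by
      rintro _ ⟨y, rfl⟩; exact ⟨_, rfl⟩
    have h1 := H6.CompLat.key hn hδ _ hR
    have h2 := H6.CompLat.relIndex_range_comp hn hδ' (Matrix.mulVecLin A) hA hδA
    rw [← AddSubgroup.relIndex_mul_relIndex _ _ _ hle hR0] at h1
    have hmap : (LinearMap.range (Matrix.mulVecLin A ∘ₗ H6.CompLat.D δ')).toAddSubgroup.map (H6.CompLat.D δ).toAddMonoidHom = (LinearMap.range ((Matrix.mulVecLin (Matrix.diagonal δ)) ∘ₗ (Matrix.mulVecLin A) ∘ₗ (Matrix.mulVecLin (Matrix.diagonal δ')))).toAddSubgroup := by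
      ext x; constructor
      · rintro ⟨_, ⟨y, rfl⟩, rfl⟩; exact ⟨y, rfl⟩
      · rintro ⟨y, rfl⟩; exact ⟨_, ⟨y, rfl⟩, rfl⟩
    rw [hmap] at h1
    rw [Int.abs_eq_natAbs, Int.abs_eq_natAbs, ← Int.natAbs_of_nonneg (Int.nonneg_iff_normalize_eq_self _ |>.1 (Finset.normalize_gcd (f := δ) (s := univ))),
      ← Int.natAbs_of_nonneg (Int.nonneg_iff_normalize_eq_self _ |>.1 (Finset.normalize_gcd (f := δ') (s := univ)))]
    set a := (LinearMap.range (Matrix.mulVecLin A ∘ₗ H6.CompLat.D δ')).toAddSubgroup.relIndex (LinearMap.range (Matrix.mulVecLin A)).toAddSubgroup with ha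
    set b := (LinearMap.range (Matrix.mulVecLin A)).toAddSubgroup.relIndex ((H6.CompLat.S n) ∘ₗ (H6.CompLat.D δ)).ker.toAddSubgroup with hb
    set m := (LinearMap.range ((Matrix.mulVecLin (Matrix.diagonal δ)) ∘ₗ (Matrix.mulVecLin A) ∘ₗ (Matrix.mulVecLin (Matrix.diagonal δ')))).toAddSubgroup.relIndex (H6.CompLat.S n).ker.toAddSubgroup with hm
    change (b : ℤ) * _ * _ = _ * _ * (m : ℤ)
    have key : b * (∏ i, δ i).natAbs * (∏ i, δ' i).natAbs = (univ.gcd δ).natAbs * (univ.gcd δ').natAbs * m := by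
      rw [← h2]
      calc b * (∏ i, δ i).natAbs * (a * (univ.gcd δ').natAbs) = a * b * (∏ i, δ i).natAbs * (univ.gcd δ').natAbs := by ring
        _ = (univ.gcd δ).natAbs * m * (univ.gcd δ').natAbs := by rw [h1]
        _ = _ := by ring
    exact_mod_cast key

end Groth.Agent.S14806
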