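import Groth.Statements.S14807
import Mathlib

set_option autoImplicit false
universe u
open CAlg

namespace Groth.Agent.S14807
open AlgebraicGeometry CategoryTheory Limits TensorProduct
set_option backward.isDefEq.respectTransparency.types false
set_option linter.style.haveILetI false

/-- Let G be a finite abelian group, written additively, and ℓ a prime number. Every sequence (g_n)_{n ≥
0} of elements of G with ℓ^n · g_n = 0 and ℓ · g_{n+1} = g_n for all n is identically zero; in other
words the inverse limit of the subgroups of ℓ^n-torsion elements, with transition maps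
multiplication by ℓ, vanishes. -/
theorem result (G : Type u) [AddCommGroup G] [Finite G]
    (ℓ : ℕ) (hℓ : ℓ.Prime) (g : ℕ → G) (htor : ∀ n : ℕ, ℓ ^ n • g n = 0)
    (hcomp : ∀ n : ℕ, ℓ • g (n + 1) = g n) (n : ℕ) : g n = 0 := by
  have h : ∀ k n, ℓ ^ k • g (n + k) = g n := by
    intro k; induction k with
    | zero => intro n; simp
    | succ k ih => intro n; rw [pow_succ, mul_smul, show n + (k+1) = (n + k) + 1 by omega, hcomp, ih]
  obtain ⟨a, b, hne, hab⟩ := Finite.exists_ne_map_eq_of_infinite (fun k : ℕ => (fun x : G => ℓ ^ k • x))
  wlog hlt : a < b generalizing a b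
  · exact this b a hne.symm hab.symm (by omega)
  have hx := congrFun hab (g (n + b))
  rw [h b n, show n + b = (n + (b - a)) + a by omega, h a (n + (b-a))] at hx
  have key : g n = ℓ ^ (b - a) • g n := by
    conv_rhs => rw [← hx]
    exact (h (b-a) n).symm
  have kk : ∀ j, g n = ℓ ^ (j * (b - a)) • g n := by
    intro j; induction j with
    | zero => simp
    | succ j ih => rw [Nat.succ_mul, pow_add, mul_smul, ← key, ← ih]
  rw [kk n]
  obtain ⟨d, hd⟩ : ∃ d, n * (b - a) = n + d := ⟨n * (b-a) - n, by
    have : n * 1 ≤ n * (b - a) := Nat.mul_le_mul_left n (by omega)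
    omega⟩
  rw [hd, add_comm, pow_add, mul_smul, htor, smul_zero]

end Groth.Agent.S14807
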