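import Groth.Statements.S1484
import Mathlib

set_option autoImplicit false
universe u
open FlatMor

namespace Groth.Agent.S1484
set_option maxHeartbeats 4000000
open TensorProduct

/-- Let R be a ring, p_1, …, p_r primes of R none of which is contained in another, k_i ⊆ κ(p_i)
subfields over which κ(p_i) is not algebraic, and J an ideal of R contained in none of the p_i. Then
some x ∈ J has image in κ(p_i) transcendental over k_i for every i. -/
theorem result {R : Type u} [CommRing R] {r : ℕ} (p : Fin r → Ideal R) [∀ i, (p i).IsPrime]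
    (hp : ∀ i j, i ≠ j → ¬ p i ≤ p j) (k : ∀ i, Subfield (p i).ResidueField)
    (hk : ∀ i, ¬ Algebra.IsAlgebraic ↥(k i) (p i).ResidueField) (J : Ideal R) (hJ : ∀ i, ¬ J ≤ p i) :
    ∃ x ∈ J, ∀ i, Transcendental ↥(k i) (algebraMap R (p i).ResidueField x) := by
  classical
  have key : ∀ i, ∃ x ∈ J, (∀ j, j ≠ i → x ∈ p j) ∧ Transcendental ↥(k i) (algebraMap R (p i).ResidueField x) := by
    intro i
    let κ := (p i).ResidueField
    let f := algebraMap R κ
    have hker : ∀ x, f x = 0 ↔ x ∈ p i := fun x => Ideal.algebraMap_residueField_eq_zero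
    obtain ⟨e, he, hei⟩ : ∃ e ∈ J ⊓ (Finset.univ.erase i).inf p, e ∉ p i := by
      by_contra h
      push Not at h
      rcases (Ideal.IsPrime.inf_le (inferInstance : (p i).IsPrime)).1 (show J ⊓ (Finset.univ.erase i).inf p ≤ p i from h) with h1 | h1
      · exact hJ i h1
      · obtain ⟨j, hj, hji⟩ := (Ideal.IsPrime.inf_le' (inferInstance : (p i).IsPrime)).1 h1
        exact hp j i (Finset.ne_of_mem_erase hj) hji
    have he0 : f e ≠ 0 := fun h => hei ((hker e).1 h)
    suffices h : ∃ c : R, Transcendental ↥(k i) (f (e * c)) by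
      obtain ⟨c, hc⟩ := h
      refine ⟨e * c, J.mul_mem_right c he.1, fun j hj => ?_, hc⟩
      exact (p j).mul_mem_right c ((Finset.inf_le (f := p) (Finset.mem_erase.2 ⟨hj, Finset.mem_univ j⟩)) he.2)
    by_contra hno
    have halg : ∀ c : R, IsAlgebraic ↥(k i) (f (e * c)) := fun c => not_not.1 fun h => hno ⟨c, h⟩
    have hall : ∀ c : R, IsAlgebraic ↥(k i) (f c) := by
      intro c
      have h1 := (halg c).isIntegral
      have h2 := (halg 1).isIntegral
      rw [mul_one] at h2
      have : f c = f (e * c) * (f e)⁻¹ := by rw [map_mul, mul_comm (f e), mul_assoc, mul_inv_cancel₀ he0, mul_one]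
      rw [this]
      exact (h1.mul (IsIntegral.inv h2)).isAlgebraic
    refine hk i ⟨fun z => ?_⟩
    obtain ⟨a, s, hs, rfl⟩ := IsFractionRing.div_surjective (R ⧸ p i) z
    obtain ⟨a, rfl⟩ := Ideal.Quotient.mk_surjective a
    obtain ⟨s, rfl⟩ := Ideal.Quotient.mk_surjective s
    have e1 : ∀ w : R, algebraMap (R ⧸ p i) κ (Ideal.Quotient.mk (p i) w) = f w := fun w => rfl
    rw [e1, e1, div_eq_mul_inv]
    exact ((hall a).isIntegral.mul (IsIntegral.inv (hall s).isIntegral)).isAlgebraic
  choose x hxJ hxp hxt using key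
  refine ⟨∑ i, x i, J.sum_mem fun i _ => hxJ i, fun i => ?_⟩
  have : algebraMap R (p i).ResidueField (∑ j, x j) = algebraMap R (p i).ResidueField (x i) := by
    rw [map_sum, Finset.sum_eq_single i]
    · intro j _ hj
      exact Ideal.algebraMap_residueField_eq_zero.2 (hxp j i (Ne.symm hj))
    · exact fun h => absurd (Finset.mem_univ i) h
  rw [this]
  exact hxt i

end Groth.Agent.S1484
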