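import Groth.Statements.S14842
import Mathlib
import Groth.Agent.Lib.H8Cosemisimple

set_option autoImplicit false
universe u v
open HopfRep

namespace Groth.Agent.S14842

open TensorProduct in
/-- Over a field K, every simple subcoalgebra D of a coalgebra C is the coefficient space of a simple
comodule. Precisely: there is a subspace E of C contained in D which is a simple subcomodule of the
regular right comodule C (E is nonzero, stable under the coaction, and its only subcomodules are 0
and E) and such that D is the least subspace D' of C with comul(E) inside the image of E ⊗ D'. Here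
a subcoalgebra of C is a subspace B whose comultiplication lands in the image of B ⊗ B, and a simple
subcoalgebra is a nonzero subcoalgebra D whose only subcoalgebras contained in D are 0 and D.
(Stated for right comodules; the published statement is for left comodules.) -/
theorem result {K : Type u} {C : Type v} [Field K]
    [AddCommGroup C] [Module K C] [Coalgebra K C]
    (D : Submodule K C) (hD0 : D ≠ ⊥) (hD : (∀ b ∈ D, CoalgebraStruct.comul (R := K) b ∈ LinearMap.range (TensorProduct.map D.subtype D.subtype)))
    (hDs : ∀ B : Submodule K C, B ≤ D → (∀ b ∈ B, CoalgebraStruct.comul (R := K) b ∈ LinearMap.range (TensorProduct.map B.subtype B.subtype)) → B = ⊥ ∨ B = D) :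
    ∃ E : Submodule K C, E ≤ D ∧ E ≠ ⊥ ∧ HopfRep.IsSubcomod (k := K) (A := C) E ∧
      (∀ E' : Submodule K C, E' ≤ E → HopfRep.IsSubcomod (k := K) (A := C) E' → E' = ⊥ ∨ E' = E) ∧
      IsLeast {D' : Submodule K C |
        ∀ e ∈ E, CoalgebraStruct.comul (R := K) e ∈ LinearMap.range (TensorProduct.map E.subtype D'.subtype)} D := by
  obtain ⟨U, hU, hUD, hs⟩ := Groth.Agent.H8Comod.exists_simple_subcomod (D := D) ⟨hD0, hD, hDs⟩
  letI := Groth.Agent.H8Comod.subComod U hU
  have hsub := Groth.Agent.H8Comod.subComod_subtype U hU
  refine ⟨U, hUD, ?_, hU, fun E' hE' hE's => ?_, ?_, fun D' hD' => ?_⟩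
  · haveI := hs.1.1
    exact (Submodule.nontrivial_iff_ne_bot).mp inferInstance
  · rcases hs.1.2 (E'.comap U.subtype) (Groth.Agent.H8Comod.isSubcomod_comap hsub hE's) with h | h
    · left; exact (Submodule.eq_bot_iff _).mpr fun x hx => by
        have hm : (⟨x, hE' hx⟩ : U) ∈ E'.comap U.subtype := hx
        rw [h, Submodule.mem_bot] at hm
        exact congrArg Subtype.val hm
    · right; exact le_antisymm hE' fun x hx => (h.symm ▸ Submodule.mem_top : (⟨x, hx⟩ : U) ∈ E'.comap U.subtype)
  · intro e he
    rw [Groth.Agent.H8Comod.mem_range_map_iff, Groth.Agent.H8Comod.mem_range_lTensor_iff]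
    exact ⟨hU e he, fun f hf => (Groth.Agent.H8Comod.isSubcoalg_iff.mp hD).2 f hf e (hUD he)⟩
  · rw [← hs.2, Groth.Agent.H8Comod.coef_le_iff]
    intro f hf x
    apply Subtype.ext
    have h := Groth.Agent.H8Comod.isComodHom_iff.mp hsub (WithConv.toConv f) x
    simp only [Submodule.subtype_apply] at h
    rw [h]
    have h2 := hD' x.1 x.2
    rw [Groth.Agent.H8Comod.mem_range_map_iff, Groth.Agent.H8Comod.mem_range_lTensor_iff] at h2
    exact h2.2 f hf

end Groth.Agent.S14842
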