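import Groth.Statements.S14844
import Mathlib
import Groth.Prelude.Def_HopfRep

set_option autoImplicit false
universe u v w w'
open HopfRep

namespace Groth.Agent.S14844

open TensorProduct
open scoped DirectSum

lemma comod_decomp {R : Type u} {C : Type v} [CommRing R] [AddCommGroup C] [Module R C] [Coalgebra R C]
    {ι : Type w} (D : ι → Submodule R C)
    (hD : ∀ i, ∀ d ∈ D i, CoalgebraStruct.comul (R := R) d ∈
      LinearMap.range (TensorProduct.map (D i).subtype (D i).subtype))
    (hind : iSupIndep D) (htop : iSup D = ⊤)
    {V : Type*} [AddCommGroup V] [Module R V] [HopfRep.Comod R C V] :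
    let W := fun i => (LinearMap.range (LinearMap.lTensor V (D i).subtype)).comap
        (HopfRep.Comod.coact (k := R) (A := C) (V := V))
    (∀ i, HopfRep.IsSubcomod (k := R) (A := C) (W i)) ∧ iSupIndep W ∧ (⨆ i, W i) = ⊤ ∧
    ∀ i, ∀ v ∈ W i, HopfRep.Comod.coact (k := R) (A := C) v ∈
        LinearMap.range (TensorProduct.map (W i).subtype (D i).subtype) := by
  classical
  intro W
  let E : (⨁ i, D i) ≃ₗ[R] C := LinearEquiv.ofBijective (DirectSum.coeLinearMap D)
    (DirectSum.isInternal_submodule_of_iSupIndep_of_iSup_eq_top hind htop)
  let pr : ∀ i, C →ₗ[R] D i := fun i => DirectSum.component R ι (fun i => D i) i ∘ₗ E.symm.toLinearMap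
  let p : ι → C →ₗ[R] C := fun i => (D i).subtype ∘ₗ pr i
  have hp : ∀ i j, ∀ d ∈ D j, p i d = if j = i then d else 0 := by
    intro i j d hd
    have h1 : E.symm d = DirectSum.lof R ι (fun i => D i) j ⟨d, hd⟩ := by
      rw [LinearEquiv.symm_apply_eq]
      simp [E, DirectSum.lof_eq_of]
    simp only [p, pr, LinearMap.comp_apply, LinearEquiv.coe_coe, h1, Submodule.subtype_apply, DirectSum.component.of]
    split_ifs with h
    · subst h; rfl
    · rfl
  let ρ := HopfRep.Comod.coact (k := R) (A := C) (V := V)
  let Δ := CoalgebraStruct.comul (R := R) (A := C)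
  let ε := CoalgebraStruct.counit (R := R) (A := C)
  -- the projection on either factor of the comultiplication
  have hΔ : ∀ i c, (p i).lTensor C (Δ c) = Δ (p i c) ∧ (p i).rTensor C (Δ c) = Δ (p i c) := by
    intro i c
    have hc : c ∈ iSup D := htop ▸ Submodule.mem_top
    induction hc using Submodule.iSup_induction' with
    | mem j d hd =>
      obtain ⟨z, hz⟩ := hD j d hd
      show (p i).lTensor C (Δ d) = _ ∧ (p i).rTensor C (Δ d) = _
      simp only [Δ, hp i j d hd]
      rw [← hz]
      split_ifs with h
      · subst h
        rw [← hz]
        constructor <;>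
        · clear hz
          induction z using TensorProduct.induction_on with
          | zero => simp
          | add a b ha hb => simp only [map_add, ha, hb]
          | tmul a b => simp [hp j j a a.2, hp j j b b.2]
      · rw [map_zero]
        constructor <;>
        · clear hz
          induction z using TensorProduct.induction_on with
          | zero => simp
          | add a b ha hb => simp only [map_add, ha, hb, add_zero]
          | tmul a b => simp [hp i j a a.2, hp i j b b.2, h]
    | zero => simp
    | add a b _ _ ha hb => exact ⟨by simp only [map_add, ha.1, hb.1], by simp only [map_add, ha.2, hb.2]⟩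
  let e : ι → V →ₗ[R] V := fun i =>
    (TensorProduct.rid R V).toLinearMap ∘ₗ (ε ∘ₗ p i).lTensor V ∘ₗ ρ
  have hco := LinearMap.congr_fun (HopfRep.Comod.coassoc (k := R) (A := C) (V := V))
  have hcu := LinearMap.congr_fun (HopfRep.Comod.counit_comp (k := R) (A := C) (V := V))
  have hρe : ∀ i v, ρ (e i v) = (p i).lTensor V (ρ v) := by
    intro i v
    have h := congrArg (fun z => ((TensorProduct.rid R C).toLinearMap ∘ₗ (ε ∘ₗ p i).lTensor C).lTensor V z) (hco v)
    simp only [LinearMap.comp_apply, LinearEquiv.coe_coe] at h
    refine Eq.trans ?_ (h.trans ?_)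
    · show ρ (TensorProduct.rid R V ((ε ∘ₗ p i).lTensor V (ρ v))) = _
      generalize hz : HopfRep.Comod.coact (k := R) (A := C) v = z
      clear hz h
      induction z using TensorProduct.induction_on with
      | zero => simp
      | add a b ha hb => simp only [map_add, ha, hb]
      | tmul a b =>
        simp only [LinearMap.lTensor_tmul, TensorProduct.rid_tmul, map_smul, LinearMap.rTensor_tmul]
        show _ = _
        generalize hy : HopfRep.Comod.coact (k := R) (A := C) a = y
        clear hy
        induction y using TensorProduct.induction_on with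
        | zero => simp
        | add c d hc hd => simp only [map_add, smul_add, add_tmul, hc, hd]
        | tmul c d => simp [tmul_smul]
    · show _ = (p i).lTensor V (ρ v)
      generalize hz : HopfRep.Comod.coact (k := R) (A := C) v = z
      clear hz h
      induction z using TensorProduct.induction_on with
      | zero => simp
      | add a b ha hb => simp only [map_add, ha, hb]
      | tmul a b =>
        simp only [LinearMap.lTensor_tmul, LinearMap.comp_apply]
        rw [LinearMap.lTensor_comp_apply, (hΔ i b).1, Coalgebra.lTensor_counit_comul]
        simp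
  have hinj : ∀ x y : V, ρ x = ρ y → x = y := fun x y h => by
    have h1 := congrArg (fun z => TensorProduct.rid R V (ε.lTensor V z)) h
    have hx := hcu x
    have hy := hcu y
    simp only [LinearMap.comp_apply, LinearMap.flip_apply, TensorProduct.mk_apply] at hx hy
    simpa [ρ, ε, hx, hy] using h1
  have hmem : ∀ i v, v ∈ W i ↔ (p i).lTensor V (ρ v) = ρ v := by
    intro i v
    constructor
    · rintro ⟨z, hz⟩
      show (p i).lTensor V (HopfRep.Comod.coact (k := R) (A := C) v) = HopfRep.Comod.coact (k := R) (A := C) v
      rw [← hz, ← LinearMap.lTensor_comp_apply]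
      congr 2
      ext d
      simpa using hp i i d d.2
    · intro h
      refine ⟨(pr i).lTensor V (ρ v), ?_⟩
      rw [← LinearMap.lTensor_comp_apply]
      exact h
  have heW : ∀ i v, e i v ∈ W i := by
    intro i v
    rw [hmem, hρe, ← LinearMap.lTensor_comp_apply]
    congr 2
    ext c
    show p i (pr i c : C) = p i c
    rw [hp i i _ (pr i c).2, if_pos rfl]
    rfl
  have hid : ∀ i, ∀ v ∈ W i, e i v = v := fun i v hv => hinj _ _ ((hρe i v).trans ((hmem i v).mp hv))
  have hstrong : ∀ i, ∀ v ∈ W i, ρ v = TensorProduct.map (e i) (p i) (ρ v) := by
    intro i v hv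
    have h := congrArg (fun z => ((TensorProduct.lid R C).toLinearMap ∘ₗ (ε ∘ₗ p i).rTensor C).lTensor V z) (hco v)
    simp only [LinearMap.comp_apply, LinearEquiv.coe_coe] at h
    have h1 : (e i).rTensor C (ρ v) = (p i).lTensor V (ρ v) := by
      refine Eq.trans ?_ (h.trans ?_)
      · generalize hz : HopfRep.Comod.coact (k := R) (A := C) v = z
        clear hz h
        induction z using TensorProduct.induction_on with
        | zero => simp
        | add a b ha hb => simp only [map_add, ha, hb]
        | tmul a b =>
          simp only [LinearMap.rTensor_tmul, e, LinearMap.comp_apply, LinearEquiv.coe_coe]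
          generalize hy : HopfRep.Comod.coact (k := R) (A := C) a = y
          clear hy
          induction y using TensorProduct.induction_on with
          | zero => simp
          | add c d hc hd => simp only [map_add, add_tmul, hc, hd]
          | tmul c d => simp [smul_tmul]
      · generalize hz : HopfRep.Comod.coact (k := R) (A := C) v = z
        clear hz h
        induction z using TensorProduct.induction_on with
        | zero => simp
        | add a b ha hb => simp only [map_add, ha, hb]
        | tmul a b =>
          simp only [LinearMap.lTensor_tmul, LinearMap.comp_apply]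
          rw [LinearMap.rTensor_comp_apply, (hΔ i b).2, Coalgebra.rTensor_counit_comul]
          simp
    rw [(hmem i v).mp hv] at h1
    conv_lhs => rw [← (hmem i v).mp hv]
    rw [← LinearMap.lTensor_comp_rTensor, LinearMap.comp_apply, h1]
  refine ⟨fun i v hv => ?_, ?_, ?_, fun i v hv => ?_⟩
  · refine ⟨TensorProduct.map (LinearMap.codRestrict (W i) (e i) (heW i)) (p i) (ρ v), ?_⟩
    rw [← LinearMap.comp_apply, LinearMap.rTensor_comp_map]
    exact (hstrong i v hv).symm
  · rw [iSupIndep_def]
    intro i
    rw [Submodule.disjoint_def]
    intro v hv hv'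
    have : ∀ x ∈ ⨆ (j) (_ : j ≠ i), W j, e i x = 0 := by
      intro x hx
      refine SetLike.le_def.mp (show (⨆ (j) (_ : j ≠ i), W j) ≤ LinearMap.ker (e i) from iSup₂_le fun j hj y hy => ?_) hx
      refine hinj _ _ ?_
      rw [hρe, map_zero, ← (hmem j y).mp hy, ← LinearMap.lTensor_comp_apply,
        show p i ∘ₗ p j = 0 from LinearMap.ext fun c => by
          show p i (pr j c : C) = 0
          rw [hp i j _ (pr j c).2, if_neg hj]]
      simp
    rw [← hid i v hv]
    exact this v hv'
  · rw [eq_top_iff]
    intro v _
    have hs : ∀ z : V ⊗[R] C, ∃ s : Finset ι, ∀ t, s ⊆ t → ∑ i ∈ t, (p i).lTensor V z = z := by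
      intro z
      induction z using TensorProduct.induction_on with
      | zero => exact ⟨∅, fun t _ => by simp⟩
      | add a b ha hb =>
        obtain ⟨s, hs⟩ := ha; obtain ⟨s', hs'⟩ := hb
        exact ⟨s ∪ s', fun t ht => by
          simp only [map_add, Finset.sum_add_distrib, hs t ((Finset.subset_union_left).trans ht),
            hs' t ((Finset.subset_union_right).trans ht)]⟩
      | tmul a c =>
        refine ⟨DFinsupp.support (E.symm c), fun t ht => ?_⟩
        simp only [LinearMap.lTensor_tmul, ← tmul_sum]
        congr 1
        conv_rhs => rw [← E.apply_symm_apply c, ← DirectSum.sum_support_of (E.symm c), map_sum]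
        rw [← Finset.sum_subset ht (fun i _ hi => by
          show ((DirectSum.component R ι (fun i => D i) i (E.symm c) : D i) : C) = 0
          simp [DFinsupp.notMem_support_iff.mp hi, ← DirectSum.apply_eq_component])]
        refine Finset.sum_congr rfl fun i _ => ?_
        show _ = DirectSum.coeLinearMap D _
        rw [DirectSum.coeLinearMap_of]
        rfl
    obtain ⟨s, hs⟩ := hs (ρ v)
    have : v = ∑ i ∈ s, e i v := hinj _ _ (by rw [map_sum]; simp only [hρe]; exact (hs s subset_rfl).symm)
    rw [this]
    exact Submodule.sum_mem _ fun i _ => Submodule.mem_iSup_of_mem i (heW i v)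
  · refine ⟨TensorProduct.map (LinearMap.codRestrict (W i) (e i) (heW i)) (pr i) (ρ v), ?_⟩
    rw [← LinearMap.comp_apply, ← TensorProduct.map_comp]
    exact (hstrong i v hv).symm

open TensorProduct in
/-- Let R be a commutative ring and C an R-coalgebra, flat over R, which is the internal direct sum of
subcoalgebras D_i (submodules whose comultiplication lands in the image of D_i ⊗ D_i, independent
and with supremum C). Then every right C-comodule V is the internal direct sum of the subcomodules
V_i, where V_i is the preimage under the coaction of the image of V ⊗ D_i in V ⊗ C, and the coaction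
maps V_i into the image of V_i ⊗ D_i, so that the comodule structure of V_i reduces to a
D_i-comodule structure. (The published statement is for a flat sheaf of coalgebras over a base
scheme and left comodules on a scheme over it; this row is the case of an affine base with modules
of global sections, for right comodules.) -/
theorem result {R : Type u} {C : Type v} [CommRing R]
    [AddCommGroup C] [Module R C] [Coalgebra R C] [Module.Flat R C]
    {ι : Type w} (D : ι → Submodule R C)
    (hD : ∀ i, ∀ d ∈ D i, CoalgebraStruct.comul (R := R) d ∈
      LinearMap.range (TensorProduct.map (D i).subtype (D i).subtype))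
    (hind : iSupIndep D) (htop : iSup D = ⊤)
    {V : Type w'} [AddCommGroup V] [Module R V] [HopfRep.Comod R C V] :
    (∀ i, HopfRep.IsSubcomod (k := R) (A := C) ((LinearMap.range (LinearMap.lTensor V (D i).subtype)).comap
        (HopfRep.Comod.coact (k := R) (A := C) (V := V)))) ∧
    iSupIndep (fun i => ((LinearMap.range (LinearMap.lTensor V (D i).subtype)).comap
        (HopfRep.Comod.coact (k := R) (A := C) (V := V)))) ∧
    (⨆ i, ((LinearMap.range (LinearMap.lTensor V (D i).subtype)).comap
        (HopfRep.Comod.coact (k := R) (A := C) (V := V)))) = ⊤ ∧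
    ∀ i, ∀ v ∈ ((LinearMap.range (LinearMap.lTensor V (D i).subtype)).comap
        (HopfRep.Comod.coact (k := R) (A := C) (V := V))),
      HopfRep.Comod.coact (k := R) (A := C) v ∈
        LinearMap.range (TensorProduct.map ((LinearMap.range (LinearMap.lTensor V (D i).subtype)).comap
        (HopfRep.Comod.coact (k := R) (A := C) (V := V))).subtype (D i).subtype) := by
  exact comod_decomp D hD hind htop

end Groth.Agent.S14844
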