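import Groth.Statements.S14846
import Mathlib

set_option autoImplicit false
universe u v w
open Brauer

namespace Groth.Agent.S14846

open TensorProduct in
/-- Let L/K be a Galois extension with group Γ = Aut_K(L), and A a K-algebra which is a simple ring. If
L ⊗_K A is semisimple, then Γ, acting on L ⊗_K A through the first tensor factor, permutes its
simple components, i.e. its minimal nonzero two-sided ideals, transitively: any minimal two-sided
ideal is carried onto any other by some γ ⊗ id. -/
theorem result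
    {K : Type u} {L : Type v} [Field K] [Field L] [Algebra K L] [IsGalois K L]
    {A : Type w} [Ring A] [Algebra K A] [IsSimpleRing A]
    [IsSemisimpleRing (L ⊗[K] A)]
    (I J : TwoSidedIdeal (L ⊗[K] A)) (hI : IsAtom I) (hJ : IsAtom J) :
    ∃ γ : L ≃ₐ[K] L, (J : Set (L ⊗[K] A)) =
      Algebra.TensorProduct.map (γ : L →ₐ[K] L) (AlgHom.id K A) '' (I : Set (L ⊗[K] A)) := by
  classical
  let σ : (L ≃ₐ[K] L) → (L ⊗[K] A) →ₐ[K] (L ⊗[K] A) := fun γ => Algebra.TensorProduct.map (γ : L →ₐ[K] L) (AlgHom.id K A)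
  have hσ : ∀ γ δ x, σ γ (σ δ x) = σ (γ * δ) x := by
    intro γ δ x
    induction x using TensorProduct.induction_on with
    | zero => simp
    | add a b ha hb => simp only [map_add, ha, hb]
    | tmul a b => simp [σ]
  have hσ1 : ∀ x, σ 1 x = x := by
    intro x
    induction x using TensorProduct.induction_on with
    | zero => simp
    | add a b ha hb => simp only [map_add, ha, hb]
    | tmul a b => simp [σ]
  have hinv : ∀ γ x, σ γ (σ γ⁻¹ x) = x := fun γ x => by rw [hσ, mul_inv_cancel, hσ1]
  have hinv' : ∀ γ x, σ γ⁻¹ (σ γ x) = x := fun γ x => by rw [hσ, inv_mul_cancel, hσ1]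
  -- the translates
  let tr : (L ≃ₐ[K] L) → TwoSidedIdeal (L ⊗[K] A) := fun γ => TwoSidedIdeal.comap (σ γ⁻¹) I
  have hmem : ∀ γ x, x ∈ tr γ ↔ σ γ⁻¹ x ∈ I := fun γ x => TwoSidedIdeal.mem_comap (f := σ γ⁻¹)
  have hatom : ∀ γ, IsAtom (tr γ) := by
    intro γ
    refine ⟨fun h0 => hI.1 ?_, fun T hT => ?_⟩
    · rw [eq_bot_iff]
      intro x hx
      have : σ γ x ∈ tr γ := by rw [hmem, hinv']; exact hx
      rw [h0, TwoSidedIdeal.mem_bot] at this
      rw [TwoSidedIdeal.mem_bot, ← hinv' γ x, this, map_zero]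
    · have hle : TwoSidedIdeal.comap (σ γ) T < I := by
        refine lt_of_le_of_ne (fun x hx => ?_) fun h => hT.not_ge fun x hx => ?_
        · have := hT.le ((TwoSidedIdeal.mem_comap (f := σ γ)).1 hx)
          rwa [hmem, hinv'] at this
        · rw [hmem, ← h, TwoSidedIdeal.mem_comap, hinv] at hx
          exact hx
      have h0 := hI.2 _ hle
      rw [eq_bot_iff]
      intro x hx
      have : σ γ⁻¹ x ∈ TwoSidedIdeal.comap (σ γ) T := by rw [TwoSidedIdeal.mem_comap, hinv]; exact hx
      rw [h0, TwoSidedIdeal.mem_bot] at this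
      rw [TwoSidedIdeal.mem_bot, ← hinv γ x, this, map_zero]
  by_contra hne
  push_neg at hne
  have hneq : ∀ γ, J ≠ tr γ := by
    intro γ h
    apply hne γ
    ext x
    rw [SetLike.mem_coe, h, hmem]
    exact ⟨fun hx => ⟨σ γ⁻¹ x, hx, hinv γ x⟩, fun ⟨y, hy, hyx⟩ => by rw [← hyx]; change σ γ⁻¹ (σ γ y) ∈ I; rw [hinv']; exact hy⟩
  have hann : ∀ γ, ∀ j ∈ J, ∀ x ∈ tr γ, j * x = 0 := by
    intro γ j hj x hx
    have hbot : J ⊓ tr γ = ⊥ := by
      rcases hJ.le_iff.1 (inf_le_left : J ⊓ tr γ ≤ J) with h | h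
      · exact h
      · have hle : J ≤ tr γ := h ▸ inf_le_right
        rcases (hatom γ).le_iff.1 hle with h' | h'
        · exact absurd h' hJ.1
        · exact absurd h' (hneq γ)
    have : j * x ∈ J ⊓ tr γ := ⟨J.mul_mem_right _ _ hj, (tr γ).mul_mem_left _ _ hx⟩
    rwa [hbot, TwoSidedIdeal.mem_bot] at this
  -- the sum of all translates
  let gen : Set (L ⊗[K] A) := {x | ∃ γ, x ∈ tr γ}
  let S : TwoSidedIdeal (L ⊗[K] A) := TwoSidedIdeal.span gen
  have hstab : ∀ γ x, x ∈ S → σ γ x ∈ S := by
    intro γ x hx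
    have := (TwoSidedIdeal.mem_span_iff.1 hx) (TwoSidedIdeal.comap (σ γ) S) ?_
    · exact (TwoSidedIdeal.mem_comap (f := σ γ)).1 this
    · rintro y ⟨δ, hy⟩
      rw [SetLike.mem_coe, TwoSidedIdeal.mem_comap]
      refine TwoSidedIdeal.subset_span ⟨γ * δ, ?_⟩
      rw [hmem, hσ, mul_inv_rev, inv_mul_cancel_right]
      exact (hmem δ y).1 hy
  have hS0 : ∃ x ∈ S, x ≠ 0 := by
    by_contra h
    push_neg at h
    apply hI.1
    rw [eq_bot_iff]
    intro x hx
    rw [TwoSidedIdeal.mem_bot]
    exact h x (TwoSidedIdeal.subset_span ⟨1, by rw [hmem, inv_one, hσ1]; exact hx⟩)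
  let e := Module.Basis.ofVectorSpace K A
  let co : (L ⊗[K] A) ≃ₗ[K] _ := TensorProduct.equivFinsuppOfBasisRight (M := L) e
  have hco : ∀ γ x i, co (σ γ x) i = γ (co x i) := by
    intro γ x i
    induction x using TensorProduct.induction_on with
    | zero => simp
    | add a b ha hb => simp only [map_add, Finsupp.add_apply, ha, hb]
    | tmul a b =>
      simp only [σ, co, Algebra.TensorProduct.map_tmul, AlgHom.coe_id, id_eq,
        TensorProduct.equivFinsuppOfBasisRight_apply_tmul_apply]
      exact (map_smul γ _ _).symm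
  have hmulco : ∀ (c : L) x i, co ((c ⊗ₜ[K] (1 : A)) * x) i = c * co x i := by
    intro c x i
    induction x using TensorProduct.induction_on with
    | zero => simp
    | add a b ha hb => simp only [mul_add, map_add, Finsupp.add_apply, ha, hb]
    | tmul a b => simp [co, mul_smul_comm]
  obtain ⟨a, ha, haS⟩ : ∃ a : A, a ≠ 0 ∧ (1 : L) ⊗ₜ[K] a ∈ S := by
    obtain ⟨x, hx, hx0⟩ := hS0
    induction hn : (co x).support.card using Nat.strong_induction_on generalizing x with
    | _ n IH =>
      subst hn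
      obtain ⟨i₀, hi₀⟩ := Finsupp.support_nonempty_iff.2 (fun h => hx0 (co.map_eq_zero_iff.1 h))
      have hc := Finsupp.mem_support_iff.1 hi₀
      let y := (((co x i₀)⁻¹) ⊗ₜ[K] (1 : A)) * x
      have hy : y ∈ S := S.mul_mem_left _ _ hx
      have hyi : ∀ i, co y i = (co x i₀)⁻¹ * co x i := hmulco _ x
      by_cases hfix : ∀ (γ : L ≃ₐ[K] L) i, γ (co y i) = co y i
      · have hK : ∀ i, ∃ k : K, algebraMap K L k = co y i := fun i =>
          (InfiniteGalois.mem_range_algebraMap_iff_fixed (co y i)).2 fun γ => hfix γ i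
        choose k hk using hK
        refine ⟨(co y).sum fun i _ => k i • e i, ?_, ?_⟩
        · intro h0
          have h1 := congrArg (fun w => e.repr w i₀) h0
          simp only [Finsupp.sum, map_sum, map_smul, Module.Basis.repr_self, Finsupp.finset_sum_apply,
            Finsupp.smul_apply, Finsupp.single_apply, smul_eq_mul, mul_ite, mul_one, mul_zero,
            Finset.sum_ite_eq', map_zero, Finsupp.zero_apply] at h1
          have h2 : co y i₀ = 1 := by rw [hyi, inv_mul_cancel₀ hc]
          rw [if_pos (by rw [Finsupp.mem_support_iff, h2]; exact one_ne_zero)] at h1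
          rw [← hk, h1, map_zero] at h2
          exact zero_ne_one h2
        · convert hy
          apply co.injective
          ext i
          simp only [co, TensorProduct.equivFinsuppOfBasisRight_apply_tmul_apply, Finsupp.sum, map_sum,
            map_smul, Module.Basis.repr_self, Finsupp.finset_sum_apply, Finsupp.smul_apply,
            Finsupp.single_apply, smul_eq_mul, mul_ite, mul_one, mul_zero, Finset.sum_ite_eq']
          by_cases hi : i ∈ (co y).support
          · rw [if_pos hi, ← Algebra.algebraMap_eq_smul_one, hk]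
          · rw [if_neg hi, zero_smul]
            exact (Finsupp.notMem_support_iff.1 hi).symm
      · push_neg at hfix
        obtain ⟨γ, i₁, hi₁⟩ := hfix
        have hz : σ γ y - y ∈ S := S.sub_mem (hstab γ y hy) hy
        have hzi : ∀ i, co (σ γ y - y) i = γ (co y i) - co y i := fun i => by
          rw [map_sub, Finsupp.sub_apply, hco]
        refine IH _ (Finset.card_lt_card ?_) (σ γ y - y) hz ?_ rfl
        · refine Finset.ssubset_iff_of_subset (fun i hi => ?_) |>.2 ⟨i₀, hi₀, ?_⟩
          · rw [Finsupp.mem_support_iff] at hi ⊢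
            intro h
            apply hi
            rw [hzi, hyi, h, mul_zero, map_zero, sub_zero]
          · rw [Finsupp.mem_support_iff, not_not, hzi, hyi, inv_mul_cancel₀ hc, map_one, sub_self]
        · intro h
          apply hi₁
          have := hzi i₁
          rw [h, map_zero, Finsupp.zero_apply] at this
          exact (sub_eq_zero.1 this.symm)
  have htop : (1 : (L ⊗[K] A)) ∈ S := by
    have := IsSimpleRing.one_mem_of_ne_zero_mem
      (TwoSidedIdeal.comap (Algebra.TensorProduct.includeRight : A →ₐ[K] (L ⊗[K] A)) S) ha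
      ((TwoSidedIdeal.mem_comap (f := (Algebra.TensorProduct.includeRight : A →ₐ[K] (L ⊗[K] A)))).2 haS)
    rw [TwoSidedIdeal.mem_comap] at this
    simpa [Algebra.TensorProduct.one_def] using this
  apply hJ.1
  rw [eq_bot_iff]
  intro j hj
  rw [TwoSidedIdeal.mem_bot]
  have key : ∀ x ∈ S, j * x = 0 := by
    intro x hx
    let Z : TwoSidedIdeal (L ⊗[K] A) := TwoSidedIdeal.mk' {x | ∀ j ∈ J, j * x = 0}
      (fun j _ => mul_zero j) (fun {a b} ha hb j hj => by rw [mul_add, ha j hj, hb j hj, add_zero])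
      (fun {a} ha j hj => by rw [mul_neg, ha j hj, neg_zero])
      (fun {a b} hb j hj => by rw [← mul_assoc]; exact hb _ (J.mul_mem_right _ _ hj))
      (fun {a b} ha j hj => by rw [← mul_assoc, ha j hj, zero_mul])
    have := TwoSidedIdeal.mem_span_iff.1 hx Z (by
      rintro y ⟨γ, hy⟩
      exact (TwoSidedIdeal.mem_mk' _ _ _ _ _ _ y).2 fun j hj => hann γ j hj y hy)
    exact (TwoSidedIdeal.mem_mk' _ _ _ _ _ _ x).1 this j hj
  simpa using key 1 htop

end Groth.Agent.S14846
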