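import Groth.Statements.S14848
import Mathlib

set_option autoImplicit false
universe u v
open McKay

namespace Groth.Agent.S14848

/-- Let K be a field of characteristic zero, L an extension field of K and ξ ∈ L a primitive n-th root
of unity (n ≥ 1) with ξ + ξ⁻¹ ∈ K, say ξ + ξ⁻¹ = 2c with c ∈ K (the character of the natural
two-dimensional representation of the cyclic group of order n takes values in K). Then the cyclic
group of order n is realisable over K as a subgroup of SL(2, K): there is an element of SL(2, K) of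
order n. -/
theorem result {K : Type u} {L : Type v} [Field K] [Field L]
    [CharZero K] [Algebra K L] (n : ℕ) (hn : 1 ≤ n) (ξ : L) (hξ : IsPrimitiveRoot ξ n) (c : K)
    (hc : algebraMap K L (2 * c) = ξ + ξ⁻¹) :
    ∃ M : Matrix.SpecialLinearGroup (Fin 2) K, orderOf M = n := by
  classical
  rcases Nat.lt_or_ge n 3 with h3 | h3
  · interval_cases n
    · exact ⟨1, orderOf_one⟩
    · refine ⟨-1, orderOf_eq_prime (by simp) fun h => ?_⟩
      have := congrArg (fun M : Matrix.SpecialLinearGroup (Fin 2) K => M.1 0 0) h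
      simp at this
      exact two_ne_zero (α := K) (by linear_combination -this)
  let A : Matrix (Fin 2) (Fin 2) K := !![0, -1; 1, 2 * c]
  have hdet : A.det = 1 := by simp [A, Matrix.det_fin_two_of]
  refine ⟨⟨A, hdet⟩, ?_⟩
  have hsq : A * A = (2 * c) • A - 1 := by
    ext i j; fin_cases i <;> fin_cases j <;> simp [A, Matrix.mul_apply, Fin.sum_univ_two] <;> ring
  have hξ0 : ξ ≠ 0 := hξ.ne_zero (by omega)
  have hk : ∀ k : ℕ, ∃ a b : K, A ^ k = a • A + b • (1 : Matrix (Fin 2) (Fin 2) K) ∧
      ξ ^ k = algebraMap K L a * ξ + algebraMap K L b ∧ ξ⁻¹ ^ k = algebraMap K L a * ξ⁻¹ + algebraMap K L b := fun k => by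
    induction k with
    | zero => exact ⟨0, 1, by simp, by simp, by simp⟩
    | succ k ih =>
      obtain ⟨a, b, h1, h2, h4⟩ := ih
      refine ⟨a * (2 * c) + b, -a, ?_, ?_, ?_⟩
      · rw [pow_succ, h1, add_mul, smul_mul_assoc, hsq, smul_mul_assoc, one_mul, smul_sub, smul_smul, add_smul, neg_smul]; abel
      · rw [pow_succ, h2, map_add, map_mul, hc, map_neg]
        linear_combination -(algebraMap K L a) * mul_inv_cancel₀ hξ0
      · rw [pow_succ, h4, map_add, map_mul, hc, map_neg]
        linear_combination -(algebraMap K L a) * mul_inv_cancel₀ hξ0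
  have hne : ξ ≠ ξ⁻¹ := fun e => by
    have h2 : ξ ^ 2 = 1 := by rw [pow_two]; nth_rw 2 [e]; exact mul_inv_cancel₀ hξ0
    exact absurd (Nat.le_of_dvd two_pos (hξ.dvd_of_pow_eq_one 2 h2)) (by omega)
  have hiff : ∀ k : ℕ, A ^ k = 1 ↔ ξ ^ k = 1 := fun k => by
    obtain ⟨a, b, h1, h2, h4⟩ := hk k
    constructor
    · intro h
      rw [h1] at h
      have ha : a = 0 := by simpa [A] using congrFun (congrFun h 1) 0
      have hb : b = 1 := by simpa [A] using congrFun (congrFun h 0) 0
      rw [h2, ha, hb]; simp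
    · intro h
      have h' : ξ⁻¹ ^ k = 1 := by rw [inv_pow, h, inv_one]
      rw [h2] at h; rw [h4] at h'
      have ha : algebraMap K L a = 0 := by
        have : algebraMap K L a * (ξ - ξ⁻¹) = 0 := by linear_combination h - h'
        exact (mul_eq_zero.1 this).resolve_right (sub_ne_zero.2 hne)
      rw [ha, zero_mul, zero_add] at h
      rw [h1, (map_eq_zero _).1 ha, (algebraMap K L).injective (h.trans (map_one _).symm)]
      simp
  refine ((orderOf_eq_iff (by omega)).2 ⟨Subtype.ext ?_, fun m hm hm0 e => ?_⟩)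
  · rw [Matrix.SpecialLinearGroup.coe_pow]; exact (hiff n).2 hξ.pow_eq_one
  · exact absurd (Nat.le_of_dvd hm0 (hξ.dvd_of_pow_eq_one m ((hiff m).1 (by
      rw [← Matrix.SpecialLinearGroup.coe_pow ⟨A, hdet⟩, e, Matrix.SpecialLinearGroup.coe_one])))) (by omega)

end Groth.Agent.S14848
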