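import Groth.Statements.S14849
import Mathlib

set_option autoImplicit false
set_option backward.isDefEq.respectTransparency.types false
set_option maxHeartbeats 1000000
set_option linter.all false
universe u v
open McKay

namespace Groth.Agent.S14849
open Groth.Agent

/-- Let K be a field of characteristic zero, L an extension field of K, n ≥ 2, and ξ ∈ L a primitive
2n-th root of unity with ξ + ξ⁻¹ = 2c for some c ∈ K. If the Hilbert symbol of -1 and c² - 1 over K
equals 1, i.e. x² - (c² - 1) y² = -1 has a solution in K, then the binary dihedral group of order 4n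
(generators σ, τ with τ² = σⁿ = (τσ)²) is isomorphic to a subgroup of SL(2, K). (The published
statement is an equivalence; this row is the direction realising the group from a solution of the
conic.) -/
theorem result {K : Type u} {L : Type v}
    [Field K] [Field L] [CharZero K] [Algebra K L] (n : ℕ) (hn : 2 ≤ n) (ξ : L)
    (hξ : IsPrimitiveRoot ξ (2 * n)) (c : K) (hc : algebraMap K L (2 * c) = ξ + ξ⁻¹)
    (hsol : ∃ x y : K, x ^ 2 - (c ^ 2 - 1) * y ^ 2 = -1) :
    ∃ f : QuaternionGroup n →* Matrix.SpecialLinearGroup (Fin 2) K, Function.Injective f := by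
    classical
    obtain ⟨x, y, hxy⟩ := hsol
    let A : Matrix.SpecialLinearGroup (Fin 2) K := ⟨!![0, -1; 1, 2 * c], by rw [Matrix.det_fin_two_of]; ring⟩
    let B : Matrix.SpecialLinearGroup (Fin 2) K := ⟨!![x - c * y, y + 2 * c * (x - c * y); y, -(x - c * y)], by rw [Matrix.det_fin_two_of]; linear_combination -hxy⟩
    have hξ0 : ξ ≠ 0 := hξ.ne_zero (by omega)
    have hsq : ξ ^ 2 ≠ 1 := hξ.pow_ne_one_of_pos_of_lt (by omega) (by omega)
    have hd : ξ - ξ⁻¹ ≠ 0 := by
      intro h
      refine hsq ?_
      calc ξ ^ 2 = ξ * ξ := pow_two ξ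
        _ = ξ * ξ⁻¹ := by rw [← sub_eq_zero.1 h]
        _ = 1 := mul_inv_cancel₀ hξ0
    have hpow : ∀ m : ℕ, ∃ u v : K, algebraMap K L u * (ξ - ξ⁻¹) = ξ ^ m - (ξ⁻¹) ^ m ∧
        algebraMap K L v * (ξ - ξ⁻¹) = ξ ^ (m + 1) - (ξ⁻¹) ^ (m + 1) ∧
        ((A ^ m : Matrix.SpecialLinearGroup (Fin 2) K) : Matrix (Fin 2) (Fin 2) K) = !![v - 2 * c * u, -u; u, v] := by
      intro m
      induction m with
      | zero =>
        refine ⟨0, 1, by simp, by simp, ?_⟩
        rw [pow_zero, Matrix.SpecialLinearGroup.coe_one, Matrix.one_fin_two]; simp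
      | succ m ih =>
        obtain ⟨u, v, hu, hv, hm⟩ := ih
        refine ⟨v, 2 * c * v - u, hv, ?_, ?_⟩
        · rw [map_sub, map_mul, hc, sub_mul, hu, mul_assoc, hv, pow_succ ξ (m + 1), pow_succ ξ⁻¹ (m + 1), pow_succ ξ m, pow_succ ξ⁻¹ m]
          have h1 : ξ * ξ⁻¹ = 1 := mul_inv_cancel₀ hξ0
          linear_combination (ξ ^ m - ξ⁻¹ ^ m) * h1
        · rw [pow_succ, Matrix.SpecialLinearGroup.coe_mul, hm, show (A : Matrix (Fin 2) (Fin 2) K) = !![0, -1; 1, 2 * c] from rfl, Matrix.mul_fin_two]
          ext i j; fin_cases i <;> fin_cases j <;> simp <;> ring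
    have hn' : ξ ^ n = -1 := by
      have h2 : ξ ^ n * ξ ^ n = 1 := by rw [← pow_add, ← two_mul]; exact hξ.pow_eq_one
      exact (mul_self_eq_one_iff.1 h2).resolve_left (hξ.pow_ne_one_of_pos_of_lt (by omega) (by omega))
    have hinj := (algebraMap K L).injective
    have hAn : ((A ^ n : Matrix.SpecialLinearGroup (Fin 2) K) : Matrix (Fin 2) (Fin 2) K) = !![-1, 0; 0, -1] := by
      obtain ⟨u, v, hu, hv, hm⟩ := hpow n
      have hu0 : u = 0 := hinj (mul_right_cancel₀ hd (by rw [hu, inv_pow, hn', map_zero]; norm_num))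
      have hv0 : v = -1 := hinj (mul_right_cancel₀ hd (by rw [hv, pow_succ, pow_succ, inv_pow, hn', map_neg, map_one]; norm_num; ring))
      rw [hm, hu0, hv0]; simp
    have hord : ∀ m : ℕ, A ^ m = 1 → 2 * n ∣ m := by
      intro m hm
      obtain ⟨u, v, hu, hv, he⟩ := hpow m
      rw [hm, Matrix.SpecialLinearGroup.coe_one] at he
      have hu0 : u = 0 := by have := congr($he 1 0); simp at this; exact this.symm
      have hv0 : v = 1 := by have := congr($he 1 1); simp at this; exact this.symm
      rw [hu0, map_zero, zero_mul] at hu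
      rw [hv0, map_one, one_mul, pow_succ, pow_succ, ← sub_eq_zero.1 hu.symm] at hv
      refine (hξ.pow_eq_one_iff_dvd m).1 (mul_right_cancel₀ hd ?_)
      linear_combination -hv
    have h2n : A ^ (2 * n) = 1 := by
      apply Subtype.ext
      rw [two_mul, pow_add, Matrix.SpecialLinearGroup.coe_mul, hAn, Matrix.mul_fin_two, Matrix.SpecialLinearGroup.coe_one, Matrix.one_fin_two]; simp
    have hBB : B * B = A ^ n := by
      apply Subtype.ext
      rw [Matrix.SpecialLinearGroup.coe_mul, hAn, show (B : Matrix (Fin 2) (Fin 2) K) = !![x - c * y, y + 2 * c * (x - c * y); y, -(x - c * y)] from rfl, Matrix.mul_fin_two]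
      ext i j; fin_cases i <;> fin_cases j <;> simp <;> first | linear_combination hxy | linear_combination -hxy | ring1 | grind
    have hAB : A * B * A = B := by
      apply Subtype.ext
      rw [Matrix.SpecialLinearGroup.coe_mul, Matrix.SpecialLinearGroup.coe_mul, show (A : Matrix (Fin 2) (Fin 2) K) = !![0, -1; 1, 2 * c] from rfl, show (B : Matrix (Fin 2) (Fin 2) K) = !![x - c * y, y + 2 * c * (x - c * y); y, -(x - c * y)] from rfl, Matrix.mul_fin_two, Matrix.mul_fin_two]
      ext i j; fin_cases i <;> fin_cases j <;> simp <;> ring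
    have hconj : ∀ z : ℤ, A ^ z * B = B * A ^ (-z) := by
      have h1 : SemiconjBy B A⁻¹ A := by
        show B * A⁻¹ = A * B
        calc B * A⁻¹ = A * B * A * A⁻¹ := by rw [hAB]
          _ = A * B := by group
      intro z
      have h2 := h1.zpow_right z
      rw [inv_zpow, ← zpow_neg] at h2
      exact h2.symm
    let F : ℤ →+ Additive (Matrix.SpecialLinearGroup (Fin 2) K) := zmultiplesHom _ (Additive.ofMul A)
    let φ : ZMod (2 * n) →+ Additive (Matrix.SpecialLinearGroup (Fin 2) K) := ZMod.lift (2 * n) ⟨F, by simp only [F, zmultiplesHom_apply, natCast_zsmul]; exact congrArg Additive.ofMul h2n⟩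
    let g : ZMod (2 * n) → Matrix.SpecialLinearGroup (Fin 2) K := fun i => (φ i).toMul
    have hg : ∀ z : ℤ, g z = A ^ z := fun z => by simp [g, φ, F, ZMod.lift_coe]
    have hgadd : ∀ i j, g (i + j) = g i * g j := fun i j => by simp [g]
    have hgneg : ∀ i, g i * B = B * g (-i) := fun i => by
      obtain ⟨z, rfl⟩ := ZMod.intCast_surjective i
      rw [← Int.cast_neg, hg, hg, hconj]
    have hgn : g (n : ZMod (2 * n)) = A ^ n := by rw [← Int.cast_natCast, hg, zpow_natCast]
    let f : QuaternionGroup n →* Matrix.SpecialLinearGroup (Fin 2) K :=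
      MonoidHom.mk' (fun q => match q with
        | .a i => g i
        | .xa i => B * g i) (by
        rintro (i | i) (j | j)
        · simp only [QuaternionGroup.a_mul_a, hgadd]
        · simp only [QuaternionGroup.a_mul_xa]; rw [← mul_assoc, hgneg, mul_assoc, ← hgadd, neg_add_eq_sub]
        · simp only [QuaternionGroup.xa_mul_a]; rw [mul_assoc, hgadd]
        · simp only [QuaternionGroup.xa_mul_xa]
          rw [mul_assoc B, ← mul_assoc (g i), hgneg, mul_assoc B (g (-i)), ← mul_assoc B B, hBB, ← hgadd, ← hgn, ← hgadd]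
          congr 1; ring)
    haveI : NeZero (2 * n) := ⟨by omega⟩
    have hker : ∀ i, g i = 1 → i = 0 := fun i hi => by
      rw [← ZMod.natCast_zmod_val i, ← Int.cast_natCast, hg, zpow_natCast] at hi
      rw [← ZMod.natCast_zmod_val i]
      exact (ZMod.natCast_eq_zero_iff _ _).2 (hord _ hi)
    refine ⟨f, (injective_iff_map_eq_one f).2 ?_⟩
    rintro (i | i) hi
    · rw [hker i hi]; rfl
    · exfalso
      have hB : B = g (-i) := by
        have hi' : B * g i = 1 := hi
        calc B = B * g (i + -i) := by rw [add_neg_cancel, show g 0 = 1 by simp [g], mul_one]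
          _ = g (-i) := by rw [hgadd, ← mul_assoc, hi', one_mul]
      have hA2 : A ^ 2 = 1 := by
        have hc' : A * B = B * A := by
          rw [hB, ← zpow_one A, ← hg, ← hgadd, ← hgadd, add_comm]
        have h3 := hAB
        rw [hc', mul_assoc] at h3
        exact (pow_two A).trans (mul_left_cancel (a := B) (by rw [h3, mul_one]))
      have := Nat.le_of_dvd (by omega) (hord 2 hA2)
      omega

end Groth.Agent.S14849
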