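import Groth.Statements.S14850
import Mathlib
import Groth.Agent.Lib.H8Cosemisimple

set_option autoImplicit false
universe u v
open HopfRep

namespace Groth.Agent.S14850

open TensorProduct in
/-- Over a field K, a nonzero coalgebra C is simple if and only if C is isotypic as a right comodule
over itself, i.e. C is the internal direct sum of the images of a family of injective comodule maps
from one simple right C-comodule E. Here a subcoalgebra of C is a subspace B whose comultiplication
lands in the image of B ⊗ B, and C is simple when its only subcoalgebras are 0 and C. (Stated for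
the right regular comodule; the published statement allows left or right.) -/
theorem result {K : Type u} {C : Type v} [Field K] [AddCommGroup C]
    [Module K C] [Coalgebra K C] [Nontrivial C] :
    (∀ B : Submodule K C, (∀ b ∈ B, CoalgebraStruct.comul (R := K) b ∈ LinearMap.range (TensorProduct.map B.subtype B.subtype)) → B = ⊥ ∨ B = ⊤) ↔
    ∃ (E : Type v) (_ : AddCommGroup E) (_ : Module K E) (_ : HopfRep.Comod K C E),
      HopfRep.IsSimpleComod K C E ∧
      ∃ (ι : Type v) (f : ι → (E →ₗ[K] C)),
        (∀ i, Hoch.IsComodHom C (f i) ∧ Function.Injective (f i)) ∧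
        iSupIndep (fun i => LinearMap.range (f i)) ∧ (⨆ i, LinearMap.range (f i)) = ⊤ := by
  classical
  constructor
  · intro h
    have hD : Groth.Agent.H8Comod.IsSimpleSubcoalg (⊤ : Submodule K C) :=
      ⟨top_ne_bot, fun b _ => by
        rw [Groth.Agent.H8Comod.mem_range_map_iff, Groth.Agent.H8Comod.mem_range_lTensor_iff]
        refine ⟨Groth.Agent.H8Comod.isSubcomod_top b trivial, fun f hf => ?_⟩
        rw [show f = 0 from LinearMap.ext fun d => hf d trivial]; simp [Groth.Agent.H8Comod.contr],
      fun B _ hB => h B hB⟩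
    obtain ⟨U, hU, -, hs⟩ := Groth.Agent.H8Comod.exists_simple_subcomod hD
    letI := Groth.Agent.H8Comod.subComod U hU
    obtain ⟨hs1, hs2⟩ := hs
    refine ⟨U, inferInstance, inferInstance, Groth.Agent.H8Comod.subComod U hU, hs1, ?_⟩
    have hss : HopfRep.IsSemisimpleComod K C C :=
      (Groth.Agent.H8Comod.cosemisimple_iff (k := K) (C := C)).mp ⟨PUnit, fun _ => ⊤,
        fun i => by simp, iSup_const, fun _ => hD⟩ C
    obtain ⟨ι, W, hind, htop, hW⟩ := (Groth.Agent.H8Comod.semisimple_iff_exists_decomposition).mpr hss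
    letI := Groth.Agent.H8Comod.dualModule (k := K) (C := C) C
    have : ∀ i, ∃ j : U →ₗ[K] C, Hoch.IsComodHom C j ∧ Function.Injective j ∧ LinearMap.range j = W i := by
      intro i
      obtain ⟨N, hN⟩ := Groth.Agent.H8Comod.exists_ofK (hW i).1
      obtain ⟨-, j, h1, h2, h3⟩ := Groth.Agent.H8Comod.exists_iso_of_le_iSup (fun _ : U →ₗ[K] K => U) (fun _ => hs1)
        (fun φ => Groth.Agent.H8Comod.mc (C := C) φ) Groth.Agent.H8Comod.mc_isComodHom N
        ((Groth.Agent.H8Comod.isSimple_sub_iff N).mpr (by rw [hN]; exact (hW i).2))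
        (le_top.trans_eq hs2.symm)
      exact ⟨j, h1, h2, h3.trans hN⟩
    choose j h1 h2 h3 using this
    exact ⟨ι, j, fun i => ⟨h1 i, h2 i⟩, by simpa only [h3] using hind, by simpa only [h3] using htop⟩
  · rintro ⟨E, _, _, _, hE, ι, f, hf, -, htop⟩ B hB
    by_cases h : B = ⊥
    · exact Or.inl h
    right
    rw [eq_top_iff, ← htop]
    refine iSup_le fun i => (Groth.Agent.H8Comod.range_le_coef _ (hf i).1).trans ?_
    obtain ⟨N, hN, hNB⟩ := Groth.Agent.H8Comod.exists_simple_le (Groth.Agent.H8Comod.isSubcoalg_iff.mp hB).1 h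
    obtain ⟨-, j, hj, hinj, hr⟩ := Groth.Agent.H8Comod.exists_iso_of_le_iSup (fun _ : ι => E) (fun _ => hE)
      f (fun i => (hf i).1) N hN (le_top.trans_eq htop.symm)
    refine Groth.Agent.H8Comod.coef_le_iff.mpr fun g hg v => hinj ?_
    rw [map_zero, Groth.Agent.H8Comod.isComodHom_iff.mp hj]
    exact (Groth.Agent.H8Comod.isSubcoalg_iff.mp hB).2 g hg _ (hNB (hr ▸ LinearMap.mem_range_self j v))

end Groth.Agent.S14850
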