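import Groth.Statements.S14851
import Mathlib
import Groth.Agent.Lib.H8Cosemisimple

set_option autoImplicit false
universe u v w w'
open HopfRep

namespace Groth.Agent.S14851
open Groth.Agent.H8Comod in

open TensorProduct in
/-- The map E ↦ C(E) from isomorphism classes of simple comodules to simple subcoalgebras is injective,
that is: over a field K, two simple right comodules E, E' over a coalgebra C with the same
coefficient space D (the least subspace D' of C such that the coaction lands in E ⊗ D', resp. E' ⊗
D') are isomorphic as comodules. (The published statement is made for a cosemisimple coalgebra and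
for left comodules; the printed argument for this part uses neither restriction.) -/
theorem result {K : Type u} {C : Type v} [Field K]
    [AddCommGroup C] [Module K C] [Coalgebra K C]
    {E : Type w} [AddCommGroup E] [Module K E] [HopfRep.Comod K C E]
    {E' : Type w'} [AddCommGroup E'] [Module K E'] [HopfRep.Comod K C E']
    (hE : HopfRep.IsSimpleComod K C E) (hE' : HopfRep.IsSimpleComod K C E') (D : Submodule K C)
    (hD : IsLeast {D' : Submodule K C |
      ∀ e : E, HopfRep.Comod.coact (k := K) (A := C) e ∈ LinearMap.range (LinearMap.lTensor E D'.subtype)} D)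
    (hD' : IsLeast {D' : Submodule K C |
      ∀ e : E', HopfRep.Comod.coact (k := K) (A := C) e ∈ LinearMap.range (LinearMap.lTensor E' D'.subtype)} D) :
    ∃ e : E ≃ₗ[K] E', Hoch.IsComodHom C e.toLinearMap := by
  have heq : Groth.Agent.H8Comod.coef K C E = Groth.Agent.H8Comod.coef K C E' :=
    (hD.unique Groth.Agent.H8Comod.isLeast_coef).symm.trans (hD'.unique Groth.Agent.H8Comod.isLeast_coef)
  haveI := hE.1
  obtain ⟨φ, hφ⟩ : ∃ φ : E →ₗ[K] K, Groth.Agent.H8Comod.mc (C := C) φ ≠ 0 := by
    by_contra hcon
    push_neg at hcon
    exact Groth.Agent.H8Comod.coef_ne_bot (k := K) (C := C) (V := E) (le_antisymm (iSup_le fun φ => by rw [hcon φ, LinearMap.range_zero]) bot_le)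
  exact Groth.Agent.H8Comod.exists_hom_of_le_coef hE' hE _ (Groth.Agent.H8Comod.mc_isComodHom φ) hφ
    ((le_iSup (fun φ : E →ₗ[K] K => LinearMap.range (Groth.Agent.H8Comod.mc (C := C) φ)) φ).trans heq.le)

end Groth.Agent.S14851
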