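import Groth.Statements.S14852
import Mathlib
import Groth.Agent.Lib.H8Cosemisimple

set_option autoImplicit false
universe u v w w'
open HopfRep

namespace Groth.Agent.S14852

open TensorProduct in
/-- Over a field K, let C be a cosemisimple coalgebra and D₁ ≠ D₂ simple subcoalgebras of C. If V is a
right C-comodule whose coaction lands in V ⊗ D₁ and W one whose coaction lands in W ⊗ D₂, then the
only comodule map V → W is zero. Here a subcoalgebra of C is a subspace B whose comultiplication
lands in the image of B ⊗ B, and a simple subcoalgebra is a nonzero subcoalgebra D whose only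
subcoalgebras contained in D are 0 and D; cosemisimple means C is the internal direct sum of a
family of simple subcoalgebras. (The published statement is for quasi-coherent G-sheaves on a scheme
with trivial action of G = Spec C; this row is the statement on spaces of sections to which its
proof reduces.) -/
theorem result {K : Type u} {C : Type v} [Field K]
    [AddCommGroup C] [Module K C] [Coalgebra K C]
    (hC : ∃ (ι : Type v) (D : ι → Submodule K C), iSupIndep D ∧ iSup D = ⊤ ∧ ∀ i,
        D i ≠ ⊥ ∧ (∀ b ∈ (D i), CoalgebraStruct.comul (R := K) b ∈ LinearMap.range (TensorProduct.map (D i).subtype (D i).subtype)) ∧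
        ∀ B : Submodule K C, B ≤ D i → (∀ b ∈ B, CoalgebraStruct.comul (R := K) b ∈ LinearMap.range (TensorProduct.map B.subtype B.subtype)) → B = ⊥ ∨ B = D i)
    (D₁ D₂ : Submodule K C) (hne : D₁ ≠ D₂)
    (h₁ : D₁ ≠ ⊥ ∧ (∀ b ∈ D₁, CoalgebraStruct.comul (R := K) b ∈ LinearMap.range (TensorProduct.map D₁.subtype D₁.subtype)) ∧ ∀ B : Submodule K C, B ≤ D₁ → (∀ b ∈ B, CoalgebraStruct.comul (R := K) b ∈ LinearMap.range (TensorProduct.map B.subtype B.subtype)) → B = ⊥ ∨ B = D₁)
    (h₂ : D₂ ≠ ⊥ ∧ (∀ b ∈ D₂, CoalgebraStruct.comul (R := K) b ∈ LinearMap.range (TensorProduct.map D₂.subtype D₂.subtype)) ∧ ∀ B : Submodule K C, B ≤ D₂ → (∀ b ∈ B, CoalgebraStruct.comul (R := K) b ∈ LinearMap.range (TensorProduct.map B.subtype B.subtype)) → B = ⊥ ∨ B = D₂)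
    {V : Type w} [AddCommGroup V] [Module K V] [HopfRep.Comod K C V]
    {W : Type w'} [AddCommGroup W] [Module K W] [HopfRep.Comod K C W]
    (hV : ∀ v : V, HopfRep.Comod.coact (k := K) (A := C) v ∈ LinearMap.range (LinearMap.lTensor V D₁.subtype))
    (hW : ∀ w : W, HopfRep.Comod.coact (k := K) (A := C) w ∈ LinearMap.range (LinearMap.lTensor W D₂.subtype))
    (φ : V →ₗ[K] W) (hφ : Hoch.IsComodHom C φ) : φ = 0 := by
  by_contra h0
  have hr : LinearMap.range φ ≠ ⊥ := fun h => h0 (LinearMap.range_eq_bot.mp h)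
  letI := Groth.Agent.H8Comod.dualModule (k := K) (C := C) W
  obtain ⟨N, hN, hle⟩ := Groth.Agent.H8Comod.exists_simple_le (Groth.Agent.H8Comod.isSubcomod_range hφ) hr
  have hU : HopfRep.IsSubcomod (k := K) (A := C) (Groth.Agent.H8Comod.toK K C W N) :=
    ((Groth.Agent.H8Comod.subEquiv (k := K) (C := C) (V := W)) N).2
  letI := Groth.Agent.H8Comod.subComod _ hU
  have hsub := Groth.Agent.H8Comod.subComod_subtype _ hU
  have hs := Groth.Agent.H8Comod.isSimple_subComod _ hU ((Groth.Agent.H8Comod.isSimple_sub_iff N).mp hN).1 ((Groth.Agent.H8Comod.isSimple_sub_iff N).mp hN).2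
  haveI := hs.1
  have key : ∀ D : Submodule K C, (∀ f : C →ₗ[K] K, (∀ d ∈ D, f d = 0) → ∀ w ∈ LinearMap.range φ, Groth.Agent.H8Comod.act W (WithConv.toConv f) w = 0) →
      Groth.Agent.H8Comod.coef K C (Groth.Agent.H8Comod.toK K C W N) ≤ D := by
    intro D hD
    refine Groth.Agent.H8Comod.coef_le_iff.mpr fun f hf x => Subtype.ext ?_
    have h := Groth.Agent.H8Comod.isComodHom_iff.mp hsub (WithConv.toConv f) x
    simp only [Submodule.subtype_apply] at h
    rw [h, hD f hf x.1 (hle x.2)]; rfl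
  have h1 := key D₁ (by
    rintro f hf _ ⟨v, rfl⟩
    rw [← Groth.Agent.H8Comod.isComodHom_iff.mp hφ, show Groth.Agent.H8Comod.act V (WithConv.toConv f) v = 0 from
      (Groth.Agent.H8Comod.mem_range_lTensor_iff D₁ _).mp (hV v) f hf, map_zero])
  have h2 := key D₂ (fun f hf w _ => (Groth.Agent.H8Comod.mem_range_lTensor_iff D₂ _).mp (hW w) f hf)
  have hb := Groth.Agent.H8Comod.coef_ne_bot (k := K) (C := C) (V := Groth.Agent.H8Comod.toK K C W N)
  exact hne (((h₁.2.2 _ h1 Groth.Agent.H8Comod.isSubcoalg_coef).resolve_left hb).symm.trans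
    ((h₂.2.2 _ h2 Groth.Agent.H8Comod.isSubcoalg_coef).resolve_left hb))

end Groth.Agent.S14852
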