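import Groth.Statements.S14855
import Mathlib

set_option autoImplicit false
set_option backward.isDefEq.respectTransparency.types false
set_option maxHeartbeats 1000000
set_option linter.all false
universe u
open CAlg

namespace Groth.Agent.S14855
open Groth.Agent

/-- Let p be a prime and R a commutative ring which is complete and separated for the p-adic topology.
Then the ring W(R) of p-typical Witt vectors of R is complete and separated for its own p-adic
topology, and it is also complete and separated for the adic topology of the ideal I_R, the kernel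
of the projection of W(R) onto the zeroth Witt component. -/
theorem result (p : ℕ) [Fact p.Prime] (R : Type u) [CommRing R]
    [IsAdicComplete (Ideal.span {(p : R)}) R] :
    IsAdicComplete (Ideal.span {(p : WittVector p R)}) (WittVector p R) ∧
      IsAdicComplete (RingHom.ker (WittVector.constantCoeff : WittVector p R →+* R)) (WittVector p R) := by
    have hp0 : Fact p.Prime := inferInstance
    let q : (t : ℕ) → R →+* R ⧸ Ideal.span {(p : R) ^ t} := fun t => Ideal.Quotient.mk _
    have hA : ∀ (S : Type u) [CommRing S] (t : ℕ), (p : S) ^ t = 0 → ∀ (n : ℕ) (x : WittVector p S),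
        ∀ i < n, ((p : WittVector p S) ^ (t * n) * x).coeff i = 0 := by
      intro S _ t ht n
      induction n with
      | zero => intro x i hi; omega
      | succ n ih =>
        intro x i hi
        have hy := WittVector.eq_iterate_verschiebung (ih x)
        generalize WittVector.shift ((p : WittVector p S) ^ (t * n) * x) n = y at hy
        have he : (p : WittVector p S) ^ (t * (n + 1)) * x = (⇑WittVector.verschiebung)^[n] ((p ^ t) • y) := by
          rw [iterate_map_nsmul, ← hy, nsmul_eq_mul, Nat.cast_pow, Nat.mul_succ, pow_add]
          ring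
        rw [he]
        rcases Nat.lt_succ_iff_lt_or_eq.1 hi with h | h
        · exact WittVector.iterate_verschiebung_coeff_eq_zero _ h
        · subst h
          have h0 := WittVector.iterate_verschiebung_coeff ((p ^ t) • y) i 0
          rw [zero_add] at h0
          rw [h0]
          show WittVector.constantCoeff ((p ^ t) • y) = 0
          rw [map_nsmul, nsmul_eq_mul, Nat.cast_pow, ht, zero_mul]
    let Φ : (t n : ℕ) → WittVector p R →+* TruncatedWittVector p n (R ⧸ Ideal.span {(p : R) ^ t}) :=
      fun t n => (WittVector.truncate n).comp (WittVector.map (q t))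
    have hΦ0 : ∀ t n x, Φ t n ((p : WittVector p R) ^ (t * n) * x) = 0 := by
      intro t n x
      rw [← RingHom.mem_ker]
      show WittVector.truncate n (WittVector.map (q t) _) = 0
      rw [← RingHom.mem_ker, WittVector.mem_ker_truncate, map_mul, map_pow, map_natCast]
      refine hA _ t ?_ n _
      rw [← map_natCast (q t), ← map_pow]
      exact Ideal.Quotient.eq_zero_iff_mem.2 (Ideal.mem_span_singleton_self _)
    have hcoeff : ∀ t n (i : Fin n) x, (Φ t n x).coeff i = q t (x.coeff i) := by
      intro t n i x
      show (WittVector.truncate n (WittVector.map (q t) x)).coeff i = _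
      rw [WittVector.coeff_truncate, WittVector.map_coeff]
    have hinj : ∀ x y, (∀ t n, Φ t n x = Φ t n y) → x = y := by
      intro x y h
      refine WittVector.ext fun i => sub_eq_zero.1 (IsHausdorff.haus (I := Ideal.span {(p : R)}) inferInstance _ fun t => ?_)
      have hi := congrArg (TruncatedWittVector.coeff ⟨i, i.lt_succ_self⟩) (h t (i + 1))
      rw [hcoeff, hcoeff] at hi
      rw [SModEq.sub_mem, sub_zero, smul_eq_mul, Ideal.mul_top, Ideal.span_singleton_pow]
      exact Ideal.Quotient.eq.1 hi
    let s : (ℕ → WittVector p R) → ℕ → WittVector p R := fun b N => ∑ j ∈ Finset.range N, (p : WittVector p R) ^ j * b j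
    have hstable : ∀ b t n N, t * n ≤ N → Φ t n (s b N) = Φ t n (s b (t * n)) := by
      intro b t n N hN
      induction N, hN using Nat.le_induction with
      | base => rfl
      | succ N hN ih =>
        obtain ⟨d, rfl⟩ := Nat.exists_eq_add_of_le hN
        show Φ t n (∑ j ∈ Finset.range (t * n + d + 1), _) = _
        rw [Finset.sum_range_succ, map_add, pow_add, mul_assoc, hΦ0, add_zero]
        exact ih
    have hlim : ∀ b : ℕ → WittVector p R, ∃ L, ∀ t n, Φ t n L = Φ t n (s b (t * n)) := by
      intro b
      have hk : ∀ (i : ℕ) (t n : ℕ) (hi : i < n) (N : ℕ), t * n ≤ N →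
          q t ((s b N).coeff i) = q t ((s b (t * (i + 1))).coeff i) := by
        intro i t n hi N hN
        have h := congrArg (TruncatedWittVector.coeff ⟨i, i.lt_succ_self⟩)
          (hstable b t (i + 1) N (le_trans (Nat.mul_le_mul_left t hi) hN))
        rw [hcoeff, hcoeff] at h
        exact h
      have hex : ∀ i, ∃ l : R, ∀ t, q t ((s b (t * (i + 1))).coeff i) = q t l := by
        intro i
        obtain ⟨l, hl⟩ := IsPrecomplete.prec (I := Ideal.span {(p : R)}) (M := R) inferInstance
          (f := fun t => (s b (t * (i + 1))).coeff i) (fun {a a'} h => by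
            rw [SModEq.sub_mem, smul_eq_mul, Ideal.mul_top, Ideal.span_singleton_pow, ← Ideal.Quotient.eq]
            exact (hk i a (i + 1) i.lt_succ_self _ (Nat.mul_le_mul_right _ h)).symm)
        refine ⟨l, fun t => Ideal.Quotient.eq.2 ?_⟩
        have h := hl t
        rw [SModEq.sub_mem, smul_eq_mul, Ideal.mul_top, Ideal.span_singleton_pow] at h
        exact h
      choose l hl using hex
      refine ⟨WittVector.mk p l, fun t n => TruncatedWittVector.ext fun i => ?_⟩
      rw [hcoeff, hcoeff, WittVector.coeff_mk, ← hl, hk i t n i.2 _ le_rfl]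
    choose L hL using hlim
    have hsplit : ∀ b m, L b = s b m + (p : WittVector p R) ^ m * L (fun j => b (m + j)) := by
      intro b m
      refine hinj _ _ fun t n => ?_
      have e : s b (m + t * n) = s b m + (p : WittVector p R) ^ m * s (fun j => b (m + j)) (t * n) := by
        simp only [s, Finset.sum_range_add, Finset.mul_sum, pow_add, mul_assoc]
      rw [hL, ← hstable b t n (m + t * n) (Nat.le_add_left _ _), e, map_add, map_add, map_mul, map_mul, hL]
    have hsep : ∀ x, (∀ m, (p : WittVector p R) ^ m ∣ x) → x = 0 := by
      intro x hx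
      refine hinj _ _ fun t n => ?_
      obtain ⟨z, rfl⟩ := hx (t * n)
      rw [hΦ0, map_zero]
    have hprec : ∀ a : ℕ → WittVector p R, (∀ j, (p : WittVector p R) ^ j ∣ a (j + 1) - a j) →
        ∃ l, ∀ m, (p : WittVector p R) ^ m ∣ a m - l := by
      intro a ha
      choose b hb using ha
      refine ⟨a 0 + L b, fun m => ⟨-L (fun j => b (m + j)), ?_⟩⟩
      have hs : s b m = a m - a 0 := by
        simp only [s, ← hb]
        exact Finset.sum_range_sub a m
      rw [hsplit b m, hs]
      ring
    have hPsmod : ∀ (m : ℕ) (x y : WittVector p R),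
        x ≡ y [SMOD (Ideal.span {(p : WittVector p R)}) ^ m • (⊤ : Submodule (WittVector p R) (WittVector p R))] ↔
          (p : WittVector p R) ^ m ∣ x - y := fun m x y => by
      rw [SModEq.sub_mem, smul_eq_mul, Ideal.mul_top, Ideal.span_singleton_pow, Ideal.mem_span_singleton]
    let I := RingHom.ker (WittVector.constantCoeff : WittVector p R →+* R)
    have hI1 : ∀ x, x ∈ I ↔ ∃ z, x = WittVector.verschiebung z := fun x => by
      constructor
      · intro hx
        refine ⟨x.shift 1, ?_⟩
        have := WittVector.eq_iterate_verschiebung (x := x) (n := 1) fun i hi => by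
          obtain rfl : i = 0 := by omega
          exact hx
        simpa using this
      · rintro ⟨z, rfl⟩
        exact WittVector.verschiebung_coeff_zero z
    have hI : ∀ n x, x ∈ I ^ (n + 1) ↔ ∃ z, x = WittVector.verschiebung ((p : WittVector p R) ^ n * z) := by
      intro n
      induction n with
      | zero => intro x; simp [hI1]
      | succ n ih =>
        intro x
        rw [pow_succ I]
        constructor
        · intro hx
          induction hx using Submodule.mul_induction_on' with
          | mem_mul_mem a ha b hb =>
            obtain ⟨z, rfl⟩ := (ih a).1 ha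
            obtain ⟨w, rfl⟩ := (hI1 b).1 hb
            refine ⟨z * w, ?_⟩
            rw [← WittVector.verschiebung_mul_frobenius, WittVector.frobenius_verschiebung]
            congr 1
            ring
          | add a _ b _ ha hb =>
            obtain ⟨z, rfl⟩ := ha
            obtain ⟨w, rfl⟩ := hb
            exact ⟨z + w, by rw [← map_add, mul_add]⟩
        · rintro ⟨z, rfl⟩
          have : WittVector.verschiebung ((p : WittVector p R) ^ (n + 1) * z) =
              WittVector.verschiebung ((p : WittVector p R) ^ n * z) * WittVector.verschiebung 1 := by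
            rw [← WittVector.verschiebung_mul_frobenius, WittVector.frobenius_verschiebung]
            congr 1
            ring
          rw [this]
          exact Ideal.mul_mem_mul ((ih _).2 ⟨z, rfl⟩) ((hI1 _).2 ⟨1, rfl⟩)
    have hIsmod : ∀ (m : ℕ) (x y : WittVector p R),
        x ≡ y [SMOD I ^ m • (⊤ : Submodule (WittVector p R) (WittVector p R))] ↔ x - y ∈ I ^ m := fun m x y => by
      rw [SModEq.sub_mem, smul_eq_mul, Ideal.mul_top]
    refine ⟨?_, ?_⟩
    · refine { toIsHausdorff := ⟨fun x hx => hsep x fun m => ?_⟩, toIsPrecomplete := ⟨fun f hf => ?_⟩ }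
      · simpa using (hPsmod m x 0).1 (hx m)
      · obtain ⟨l, hl⟩ := hprec f fun j => by
          have := (hPsmod j _ _).1 (hf j.le_succ)
          rwa [← dvd_neg, neg_sub] at this
        exact ⟨l, fun m => (hPsmod m _ _).2 (hl m)⟩
    · refine { toIsHausdorff := ⟨fun x hx => ?_⟩, toIsPrecomplete := ⟨fun f hf => ?_⟩ }
      · have h : ∀ m, x ∈ I ^ m := fun m => by simpa using (hIsmod m x 0).1 (hx m)
        obtain ⟨w, rfl⟩ := (hI1 x).1 (by simpa using h 1)
        suffices w = 0 by rw [this, map_zero]
        refine hsep w fun m => ?_
        obtain ⟨z, hz⟩ := (hI m _).1 (h (m + 1))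
        exact ⟨z, WittVector.verschiebung_injective _ _ hz⟩
      · have hd : ∀ j, f (j + 1) - f 1 ∈ I := fun j => by
          have := (hIsmod 1 _ _).1 (hf (Nat.le_add_left 1 j))
          rw [pow_one] at this
          simpa using I.neg_mem this
        choose c hc using fun j => (hI1 _).1 (hd j)
        obtain ⟨l, hl⟩ := hprec c fun j => by
          obtain ⟨z, hz⟩ := (hI j _).1 ((hIsmod (j + 1) _ _).1 (hf (j + 1).le_succ))
          refine ⟨-z, WittVector.verschiebung_injective _ _ ?_⟩
          rw [map_sub, ← hc, ← hc, mul_neg, map_neg, ← hz]
          ring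
        refine ⟨f 1 + WittVector.verschiebung l, fun m => ?_⟩
        match m with
        | 0 => simp
        | m + 1 =>
          refine (hIsmod _ _ _).2 ((hI m _).2 ?_)
          obtain ⟨z, hz⟩ := hl m
          exact ⟨z, by rw [← hz, map_sub, ← hc]; ring⟩

end Groth.Agent.S14855
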