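import Groth.Statements.S14857
import Mathlib

set_option autoImplicit false
open CAlg

namespace Groth.Agent.S14857

/-- For a prime p, the Teichmüller representative [p^p] of the element p^p of the p-adic integers is
divisible by p in the ring of p-typical Witt vectors W(ℤ_p). -/
theorem result (p : ℕ) [Fact p.Prime] :
    (p : WittVector p ℤ_[p]) ∣ WittVector.teichmuller p ((p : ℤ_[p]) ^ p) := by
  have hinj : Function.Injective (WittVector.map (p := p) (PadicInt.Coe.ringHom : ℤ_[p] →+* ℚ_[p])) :=
    WittVector.map_injective _ Subtype.coe_injective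
  have key : WittVector.frobenius (WittVector.teichmuller p (p : ℤ_[p])) = WittVector.teichmuller p ((p : ℤ_[p]) ^ p) := by
    apply hinj
    haveI : Invertible (p : ℚ_[p]) := invertibleOfNonzero (by exact_mod_cast (Fact.out : p.Prime).ne_zero)
    apply (WittVector.ghostMap.bijective_of_invertible p ℚ_[p]).1
    ext n
    rw [WittVector.ghostMap_apply, WittVector.ghostMap_apply, WittVector.map_teichmuller, ← RingHom.comp_apply,
      WittVector.ghostComponent_teichmuller]
    show WittVector.ghostComponent n (WittVector.map _ (WittVector.frobenius _)) = _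
    rw [(WittVector.frobenius_isPoly p).map, WittVector.ghostComponent_frobenius, WittVector.map_teichmuller, WittVector.ghostComponent_teichmuller,
      map_pow, ← pow_mul, ← pow_succ']
  have h0 : (WittVector.teichmuller p (p : ℤ_[p]) - (p : WittVector p ℤ_[p])).coeff 0 = 0 := by
    have := map_sub (WittVector.constantCoeff : WittVector p ℤ_[p] →+* ℤ_[p]) (WittVector.teichmuller p (p : ℤ_[p])) (p : WittVector p ℤ_[p])
    rw [map_natCast (WittVector.constantCoeff : WittVector p ℤ_[p] →+* ℤ_[p]), WittVector.constantCoeff_apply, WittVector.constantCoeff_apply, WittVector.teichmuller_coeff_zero, sub_self] at this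
    exact this
  have hV := WittVector.eq_iterate_verschiebung (n := 1) (x := WittVector.teichmuller p (p : ℤ_[p]) - (p : WittVector p ℤ_[p])) (by
    intro i hi; obtain rfl : i = 0 := by omega
    exact h0)
  rw [Function.iterate_one] at hV
  rw [← key, ← sub_add_cancel (WittVector.teichmuller p (p : ℤ_[p])) (p : WittVector p ℤ_[p]), map_add, hV, WittVector.frobenius_verschiebung, map_natCast (WittVector.frobenius : WittVector p ℤ_[p] →+* WittVector p ℤ_[p])]
  exact dvd_add (dvd_mul_left _ _) dvd_rfl

end Groth.Agent.S14857
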