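import Groth.Statements.S14860
import Mathlib
import Groth.Agent.Lib.H6.WittProjective

set_option autoImplicit false
set_option backward.isDefEq.respectTransparency.types false
set_option maxHeartbeats 1000000
set_option linter.all false
universe u v
open CAlg

namespace Groth.Agent.S14860
open Groth.Agent

/-- Let p be a prime and R a commutative ring in which p is nilpotent; write W = W(R) for the p-typical
Witt vectors and, for n ≥ 0, I_n ⊆ W for the ideal of Witt vectors whose first n components vanish
(the kernel of the truncation W → W_n(R), so W/I_n = W_n(R)). For a W-module P conditions (i) and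
(ii) below are equivalent: (i) P is a projective W-module of finite type; (ii) P is separated for
the filtration by the submodules I_n P, and for every n the W_n(R)-module P/I_n P is finitely
generated and projective. (The published statement is made for every ℤ_(p)-algebra R, the section's
standing convention; over R = ℚ, where W(ℚ) ≅ ℚ^ℕ by the ghost map, the module ⊕_ℕ ℚ satisfies (ii)
but is not finitely generated, and the published proof uses that I_1 is nilpotent in each W_n(R),
which holds when p is nilpotent in R; so p is taken nilpotent here. The third equivalent condition
of the published statement, freeness Zariski-locally on R, is not rendered.) -/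
theorem result (p : ℕ) [Fact p.Prime] (R : Type u) [CommRing R]
    (hp : IsNilpotent (p : R))
    (P : Type v) [AddCommGroup P] [Module (WittVector p R) P] :
    (Module.Finite (WittVector p R) P ∧ Module.Projective (WittVector p R) P) ↔
      ((⨅ n : ℕ, (RingHom.ker (WittVector.truncate (p := p) (R := R) n) • (⊤ : Submodule (WittVector p R) P))) = ⊥ ∧
        ∀ n : ℕ, Module.Finite (WittVector p R ⧸ RingHom.ker (WittVector.truncate (p := p) (R := R) n))
              (P ⧸ (RingHom.ker (WittVector.truncate (p := p) (R := R) n) • (⊤ : Submodule (WittVector p R) P))) ∧
            Module.Projective (WittVector p R ⧸ RingHom.ker (WittVector.truncate (p := p) (R := R) n))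
              (P ⧸ (RingHom.ker (WittVector.truncate (p := p) (R := R) n) • (⊤ : Submodule (WittVector p R) P)))) := by
    refine H6.WittProj.main (fun n => RingHom.ker (WittVector.truncate (p := p) (R := R) n)) ?_ ?_ ?_ ?_
      (H6.WittProj.witt_hnil p R hp) P
    · intro a b hab x hx
      rw [WittVector.mem_ker_truncate] at hx ⊢
      exact fun i hi => hx i (lt_of_lt_of_le hi hab)
    · refine eq_top_iff.2 fun x _ => ?_
      rw [WittVector.mem_ker_truncate]
      intro i hi
      exact absurd hi (Nat.not_lt_zero i)
    · intro x hx
      refine WittVector.ext fun i => ?_
      rw [WittVector.zero_coeff]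
      exact (WittVector.mem_ker_truncate (i + 1) x).1 (hx (i + 1)) i i.lt_succ_self
    · intro x hx
      refine ⟨WittVector.mk p fun k => (x (k + 1)).coeff k, fun n => ?_⟩
      rw [RingHom.mem_ker, map_sub, sub_eq_zero]
      refine TruncatedWittVector.ext fun i => ?_
      rw [WittVector.coeff_truncate, WittVector.coeff_truncate, WittVector.coeff_mk]
      have hst : ∀ N, (i : ℕ) + 1 ≤ N → (x N).coeff i = (x ((i : ℕ) + 1)).coeff i := by
        intro N hN
        induction N, hN using Nat.le_induction with
        | base => rfl
        | succ N hN ih =>
          have h := hx N
          rw [RingHom.mem_ker, map_sub, sub_eq_zero] at h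
          have h' := congrArg (TruncatedWittVector.coeff (⟨i, hN⟩ : Fin N)) h
          rw [WittVector.coeff_truncate, WittVector.coeff_truncate] at h'
          exact h'.trans ih
      exact (hst n i.2).symm

end Groth.Agent.S14860
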