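import Groth.Statements.S14869
import Mathlib

set_option autoImplicit false
universe u v w
open CAlg

namespace Groth.Agent.S14869
open scoped TensorProduct
set_option linter.style.haveILetI false

open TensorProduct in
/-- Let S → R be a surjective homomorphism of commutative rings, let π : P_1 → P_2 be a surjective
homomorphism of S-modules with P_2 projective, and let π̄ : R ⊗_S P_1 → R ⊗_S P_2 be its base
change. Then every R-linear section σ̄ of π̄ lifts to a section of π: there is an S-linear map σ :
P_2 → P_1 with π ∘ σ = id whose base change R ⊗_S σ is σ̄. -/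
theorem result (S R : Type u) [CommRing S] [CommRing R] [Algebra S R]
    (hSR : Function.Surjective (algebraMap S R))
    (P₁ : Type v) [AddCommGroup P₁] [Module S P₁]
    (P₂ : Type w) [AddCommGroup P₂] [Module S P₂] [Module.Projective S P₂]
    (π : P₁ →ₗ[S] P₂) (hπ : Function.Surjective π)
    (σ' : R ⊗[S] P₂ →ₗ[R] R ⊗[S] P₁) (hσ' : (π.baseChange R).comp σ' = LinearMap.id) :
    ∃ σ : P₂ →ₗ[S] P₁, π.comp σ = LinearMap.id ∧ σ.baseChange R = σ' := by
  let i1 : P₁ →ₗ[S] R ⊗[S] P₁ := TensorProduct.mk S R P₁ 1
  let i2 : P₂ →ₗ[S] R ⊗[S] P₂ := TensorProduct.mk S R P₂ 1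
  let F : Submodule S (P₂ × (R ⊗[S] P₁)) := LinearMap.ker ((π.lTensor R).comp (LinearMap.snd S _ _) - i2.comp (LinearMap.fst S _ _))
  let q : P₁ →ₗ[S] F := LinearMap.codRestrict F (π.prod i1) fun x => by simp [F, i1, i2]
  have hq : Function.Surjective q := by
    rintro ⟨⟨p2, y⟩, hy⟩
    have hy' : π.lTensor R y = i2 p2 := sub_eq_zero.1 (LinearMap.mem_ker.1 hy)
    obtain ⟨p1, rfl⟩ := TensorProduct.mk_surjective S P₁ R hSR y
    let K : Submodule S S := LinearMap.ker (Algebra.linearMap S R)
    have hex1 := rTensor_exact P₁ (LinearMap.exact_subtype_ker_map (Algebra.linearMap S R)) hSR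
    have hex2 := rTensor_exact P₂ (LinearMap.exact_subtype_ker_map (Algebra.linearMap S R)) hSR
    have h0 : (Algebra.linearMap S R).rTensor P₂ ((1 : S) ⊗ₜ (π p1 - p2)) = 0 := by
      rw [LinearMap.rTensor_tmul, Algebra.linearMap_apply, map_one, TensorProduct.tmul_sub, sub_eq_zero]
      exact hy'
    obtain ⟨w, hw⟩ := (hex2 _).1 h0
    obtain ⟨w', rfl⟩ := LinearMap.lTensor_surjective K hπ w
    refine ⟨p1 - TensorProduct.lid S P₁ (K.subtype.rTensor P₁ w'), Subtype.ext (Prod.ext ?_ ?_)⟩
    · show π (p1 - _) = p2
      have h3 : ∀ z, π (TensorProduct.lid S P₁ (K.subtype.rTensor P₁ z)) = TensorProduct.lid S P₂ (K.subtype.rTensor P₂ (π.lTensor K z)) := by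
        intro z
        induction z using TensorProduct.induction_on with
        | zero => simp
        | tmul a b => simp
        | add a b ha hb => simp only [map_add, ha, hb]
      rw [map_sub, h3, hw, TensorProduct.lid_tmul, one_smul, sub_sub_cancel]
    · show i1 (p1 - _) = i1 p1
      have h4 : ∀ z, i1 (TensorProduct.lid S P₁ z) = (Algebra.linearMap S R).rTensor P₁ z := by
        intro z
        induction z using TensorProduct.induction_on with
        | zero => simp
        | tmul a b => simp [i1, TensorProduct.smul_tmul', Algebra.algebraMap_eq_smul_one]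
        | add a b ha hb => simp only [map_add, ha, hb]
      rw [map_sub, h4, hex1.apply_apply_eq_zero, sub_zero]
  let t : P₂ →ₗ[S] F := LinearMap.codRestrict F (LinearMap.id.prod ((σ'.restrictScalars S).comp i2)) fun x => by
    have := LinearMap.congr_fun hσ' (i2 x)
    simp only [LinearMap.comp_apply, LinearMap.id_apply] at this
    rw [LinearMap.mem_ker, LinearMap.sub_apply, sub_eq_zero]
    exact this
  obtain ⟨σ, hσ⟩ := Module.projective_lifting_property q t hq
  refine ⟨σ, LinearMap.ext fun x => congrArg (fun z : F => z.1.1) (LinearMap.congr_fun hσ x), ?_⟩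
  refine TensorProduct.AlgebraTensorModule.curry_injective (LinearMap.ext_ring (LinearMap.ext fun x => ?_))
  exact congrArg (fun z : F => z.1.2) (LinearMap.congr_fun hσ x)

end Groth.Agent.S14869
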