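import Groth.Statements.S14871
import Groth.Agent.Lib.PLieExt
import Mathlib.Algebra.Lie.Solvable
import Mathlib.Algebra.Lie.Semisimple.Basic
import Mathlib.Algebra.Lie.Engel
import Mathlib.Algebra.Lie.Abelian
import Mathlib.LinearAlgebra.Basis.Basic
import Mathlib.Tactic.FinCases
import Mathlib.Tactic.LinearCombination
import Mathlib.Tactic.Module

set_option autoImplicit false
universe u v
open PLie

namespace Groth.Agent.S14871

/-- Let `L` be a finite-dimensional Lie algebra over a field of characteristic `p` equipped with a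
`p`-mapping `φ`. Then the solvable radical of `L` is stable under `φ` (it is a `p`-subalgebra). -/
theorem result
    (k : Type u) [Field k] (p : ℕ) [Fact p.Prime] [CharP k p]
    (L : Type v) [LieRing L] [LieAlgebra k L] [Module.Finite k L]
    (φ : PLie.PMap k p L) (x : L) (hx : x ∈ LieAlgebra.radical k L) :
    φ x ∈ LieAlgebra.radical k L := by
  have hbr : ∀ y : L, ⁅y, φ.toFun x⁆ ∈ LieAlgebra.radical k L := by
    intro y
    rw [← lie_skew, neg_mem_iff, show ⁅φ.toFun x, y⁆ = (LieAlgebra.ad k L x ^ p) y by rw [← φ.ad_map]; rfl]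
    obtain ⟨n, hn⟩ : ∃ n, p = n + 1 := ⟨p - 1, by have := (Fact.out : p.Prime).one_lt; omega⟩
    rw [hn, pow_succ', Module.End.mul_apply, LieAlgebra.ad_apply, ← lie_skew, neg_mem_iff]
    exact (LieAlgebra.radical k L).lie_mem hx
  let Z : LieIdeal k L :=
    { carrier := {z | ∀ y : L, ⁅y, z⁆ ∈ LieAlgebra.radical k L}
      add_mem' := fun ha hb y => by rw [lie_add]; exact add_mem (ha y) (hb y)
      zero_mem' := fun y => by rw [lie_zero]; exact zero_mem _
      smul_mem' := fun c z hz y => by rw [lie_smul]; exact Submodule.smul_mem _ c (hz y)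
      lie_mem := fun {a z} hz y => by
        rw [leibniz_lie]
        exact add_mem (hz _) ((LieAlgebra.radical k L).lie_mem (hz y)) }
  have hsol : LieAlgebra.IsSolvable Z := by
    rw [LieAlgebra.isSolvable_iff k]
    have h1 : ∃ n, LieAlgebra.derivedSeriesOfIdeal k L n (LieAlgebra.radical k L) = ⊥ := by
      have hr : LieAlgebra.IsSolvable (LieAlgebra.radical k L) := inferInstance
      rw [LieAlgebra.isSolvable_iff k] at hr
      obtain ⟨n, hn⟩ := hr
      exact ⟨n, (LieIdeal.derivedSeries_eq_bot_iff _ n).1 hn⟩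
    obtain ⟨n, hn⟩ := h1
    refine ⟨n + 1, (LieIdeal.derivedSeries_eq_bot_iff Z (n + 1)).2 ?_⟩
    rw [eq_bot_iff, ← hn, LieAlgebra.derivedSeriesOfIdeal_add]
    refine LieAlgebra.derivedSeriesOfIdeal_mono ?_ n
    rw [LieAlgebra.derivedSeriesOfIdeal_succ, LieAlgebra.derivedSeriesOfIdeal_zero, LieSubmodule.lieIdeal_oper_eq_span,
      LieSubmodule.lieSpan_le]
    rintro _ ⟨a, b, rfl⟩
    exact b.2 a.1
  exact ((LieAlgebra.LieIdeal.solvable_iff_le_radical k L Z).1 hsol) hbr

end Groth.Agent.S14871
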