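import Groth.Statements.S14879
import Mathlib

set_option autoImplicit false
set_option backward.isDefEq.respectTransparency.types false
set_option maxHeartbeats 1000000
set_option linter.all false
universe u
open Finset
open AlgGrp

namespace Groth.Agent.S14879
open Groth.Agent

/-- Let k be a field of characteristic zero, n = p + r with p, r ≥ 1, M an n × n matrix over k, A a set
of p row indices and B a set of r row indices, both listed increasingly. For a permutation π of the
indices, with permutation matrix P_π, let Y_A(M·P_π) be the minor of M·P_π on the rows A and the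
first p columns, and Z_B(M·P_π) the minor on the rows B and the last r columns. Then the sum over
all π of sign(π)·Y_A(M·P_π)·Z_B(M·P_π) equals p!·r!·(−1)^N·det M when B is the complement of A,
where N is the number of pairs (a, b) with a in A, b outside A and b < a, and equals 0 otherwise.
Taking det M = 1 this says that the pairing (f, h) ↦ Σ_π sign(π) f(π) h(π) between the spans of the
left p-minors and of the right r-minors is invariant under left translation by matrices of
determinant one and pairs Y_A with the signed complementary minor to p!·r!. (The published statement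
asserts that the two families of minors are dual bases for this pairing, that is, the value 1 in
place of p!·r!; the p!·r! permutations preserving the two column blocks each contribute the same
signed term, so this row carries that factor, which is 1 only for n = 2.) -/
theorem result (k : Type u) [Field k] [CharZero k]
    (p r : ℕ) (hp : 1 ≤ p) (hr : 1 ≤ r) (M : Matrix (Fin (p + r)) (Fin (p + r)) k)
    (A : Finset (Fin (p + r))) (hA : A.card = p) (B : Finset (Fin (p + r))) (hB : B.card = r) :
    ∑ π : Equiv.Perm (Fin (p + r)), (((Equiv.Perm.sign π : ℤˣ) : ℤ) : k) *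
      ((M * π.permMatrix k).submatrix (A.orderEmbOfFin hA) (Fin.castAdd r)).det *
      ((M * π.permMatrix k).submatrix (B.orderEmbOfFin hB) (Fin.natAdd p)).det =
    if B = Aᶜ then ((p.factorial * r.factorial : ℕ) : k) *
      (-1 : k) ^ ((A ×ˢ Aᶜ).filter (fun ab => ab.2 < ab.1)).card * M.det else 0 := by
    classical
    let a : Fin p → Fin (p + r) := A.orderEmbOfFin hA
    let b : Fin r → Fin (p + r) := B.orderEmbOfFin hB
    let ρ0 : Fin (p + r) → Fin (p + r) := Fin.append a b
    let D : k := (M.submatrix ρ0 id).det
    have hstep : ∀ π : Equiv.Perm (Fin (p + r)), M * π.permMatrix k = M.submatrix id π.symm :=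
      fun π => PEquiv.mul_toMatrix_toPEquiv M π
    have hsum : ∀ (σ : Equiv.Perm (Fin p)) (τ : Equiv.Perm (Fin r)),
        ∑ π : Equiv.Perm (Fin (p + r)), (((Equiv.Perm.sign π : ℤˣ) : ℤ) : k) *
          ((∏ i, M (a (σ i)) (π (Fin.castAdd r i))) * ∏ j, M (b (τ j)) (π (Fin.natAdd p j))) =
        (((Equiv.Perm.sign σ : ℤˣ) : ℤ) : k) * (((Equiv.Perm.sign τ : ℤˣ) : ℤ) : k) * D := by
      intro σ τ
      let e : Equiv.Perm (Fin (p + r)) := finSumFinEquiv.permCongr (Equiv.sumCongr σ τ)
      have h1 : ((M.submatrix ρ0 id).submatrix e id).det =
          (((Equiv.Perm.sign σ : ℤˣ) : ℤ) : k) * (((Equiv.Perm.sign τ : ℤˣ) : ℤ) : k) * D := by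
        rw [Matrix.det_permute]
        simp [e, D, Equiv.Perm.sign_permCongr, Equiv.Perm.sign_sumCongr]
      rw [← h1, ← Matrix.det_transpose, Matrix.det_apply']
      refine Finset.sum_congr rfl fun π _ => ?_
      congr 1
      rw [Fin.prod_univ_add]
      simp [e, ρ0]
    have hmain : ∑ π : Equiv.Perm (Fin (p + r)), (((Equiv.Perm.sign π : ℤˣ) : ℤ) : k) *
        ((M * π.permMatrix k).submatrix a (Fin.castAdd r)).det *
        ((M * π.permMatrix k).submatrix b (Fin.natAdd p)).det = ((p.factorial * r.factorial : ℕ) : k) * D := by
      rw [← Equiv.sum_comp (Equiv.inv (Equiv.Perm (Fin (p + r))))]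
      simp only [hstep, Equiv.inv_apply, Equiv.Perm.sign_inv]
      have hx : ∀ π : Equiv.Perm (Fin (p + r)), (((Equiv.Perm.sign π : ℤˣ) : ℤ) : k) *
        ((M.submatrix id ⇑(π⁻¹).symm).submatrix a (Fin.castAdd r)).det *
        ((M.submatrix id ⇑(π⁻¹).symm).submatrix b (Fin.natAdd p)).det =
        ∑ σ : Equiv.Perm (Fin p), ∑ τ : Equiv.Perm (Fin r),
          (((Equiv.Perm.sign σ : ℤˣ) : ℤ) : k) * (((Equiv.Perm.sign τ : ℤˣ) : ℤ) : k) *
          ((((Equiv.Perm.sign π : ℤˣ) : ℤ) : k) *
            ((∏ i, M (a (σ i)) (π (Fin.castAdd r i))) * ∏ j, M (b (τ j)) (π (Fin.natAdd p j)))) := by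
        intro π
        rw [Matrix.det_apply', Matrix.det_apply', mul_assoc, Finset.sum_mul_sum, Finset.mul_sum]
        refine Finset.sum_congr rfl fun σ _ => ?_
        rw [Finset.mul_sum]
        refine Finset.sum_congr rfl fun τ _ => ?_
        simp only [Matrix.submatrix_apply, id, Equiv.Perm.inv_def, Equiv.symm_symm]
        ring
      rw [Finset.sum_congr rfl (fun π _ => hx π), Finset.sum_comm]
      have hy : ∀ σ : Equiv.Perm (Fin p), ∀ τ : Equiv.Perm (Fin r),
          (((Equiv.Perm.sign σ : ℤˣ) : ℤ) : k) * (((Equiv.Perm.sign τ : ℤˣ) : ℤ) : k) *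
            ((((Equiv.Perm.sign σ : ℤˣ) : ℤ) : k) * (((Equiv.Perm.sign τ : ℤˣ) : ℤ) : k) * D) = D := by
        intro σ τ
        rcases Int.units_eq_one_or (Equiv.Perm.sign σ) with h1 | h1 <;>
          rcases Int.units_eq_one_or (Equiv.Perm.sign τ) with h2 | h2 <;> simp [h1, h2]
      calc _ = ∑ _σ : Equiv.Perm (Fin p), ∑ _τ : Equiv.Perm (Fin r), D := by
            refine Finset.sum_congr rfl fun σ _ => ?_
            rw [Finset.sum_comm]
            refine Finset.sum_congr rfl fun τ _ => ?_
            rw [← Finset.mul_sum, hsum, hy]
        _ = _ := by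
            simp [Fintype.card_perm, mul_assoc]
    refine hmain.trans ?_
    split_ifs with hBA
    · have hinj : Function.Injective ρ0 := by
        rw [Fin.append_injective_iff]
        refine ⟨(A.orderEmbOfFin hA).injective, (B.orderEmbOfFin hB).injective, fun i j h => ?_⟩
        have h1 : b j ∈ Aᶜ := by rw [← hBA]; exact Finset.orderEmbOfFin_mem B hB j
        exact Finset.mem_compl.1 h1 (h ▸ Finset.orderEmbOfFin_mem A hA i)
      let e : Equiv.Perm (Fin (p + r)) := Equiv.ofBijective ρ0 (Finite.injective_iff_bijective.1 hinj)
      have hD : D = (((Equiv.Perm.sign e : ℤˣ) : ℤ) : k) * M.det := Matrix.det_permute e M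
      have hsgn : Equiv.Perm.sign e = (-1) ^ (Finset.univ.filter
          (fun x : Fin (p + r) × Fin (p + r) => x.1 < x.2 ∧ e x.2 < e x.1)).card := by
        rw [Equiv.Perm.sign_eq_prod_prod_Ioi]
        have h1 : ∀ i : Fin (p + r), (∏ j ∈ Finset.Ioi i, (if e i < e j then (1 : ℤˣ) else -1)) =
            ∏ j, (if i < j ∧ e j < e i then (-1 : ℤˣ) else 1) := by
          intro i
          rw [show Finset.Ioi i = Finset.univ.filter (fun j => i < j) by ext; simp, Finset.prod_filter]
          refine Finset.prod_congr rfl fun j _ => ?_
          by_cases hij : i < j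
          · rcases lt_trichotomy (e i) (e j) with h | h | h
            · simp [hij, h, h.not_gt]
            · exact absurd (e.injective h) hij.ne
            · simp [hij, h, h.not_gt]
          · simp [hij]
        rw [Finset.prod_congr rfl (fun i _ => h1 i), ← Finset.prod_product',
          Finset.univ_product_univ, Finset.prod_ite]
        simp
      have hcard : (Finset.univ.filter
          (fun x : Fin (p + r) × Fin (p + r) => x.1 < x.2 ∧ e x.2 < e x.1)).card =
          ((A ×ˢ Aᶜ).filter (fun ab => ab.2 < ab.1)).card := by
        refine Finset.card_bij (fun x _ => (e x.1, e x.2)) ?_ ?_ ?_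
        · rintro ⟨x, y⟩ h
          simp only [Finset.mem_filter, Finset.mem_univ, true_and] at h
          obtain ⟨hxy, hlt⟩ := h
          induction x using Fin.addCases with
          | left i =>
            induction y using Fin.addCases with
            | left j =>
              exfalso
              have h' : i < j := by by_contra hc; exact absurd hxy (by simp only [not_lt, Fin.le_def, Fin.val_castAdd] at hc ⊢; exact hc)
              have := (A.orderEmbOfFin hA).strictMono h'
              simp [e, ρ0, a] at hlt
              omega
            | right j =>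
              have h1 : b j ∈ Aᶜ := by rw [← hBA]; exact Finset.orderEmbOfFin_mem B hB j
              have h2 : a i ∈ A := Finset.orderEmbOfFin_mem A hA i
              simp only [e, ρ0, Equiv.ofBijective_apply, Fin.append_left, Fin.append_right] at hlt ⊢
              simp [h1, h2, hlt, Finset.mem_compl.1 h1]
          | right i =>
            induction y using Fin.addCases with
            | left j =>
              exfalso
              rw [← not_le, Fin.le_def, Fin.val_natAdd, Fin.val_castAdd] at hxy
              omega
            | right j =>
              exfalso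
              have h' : i < j := by by_contra hc; exact absurd hxy (by simp only [not_lt, Fin.le_def, Fin.val_natAdd] at hc ⊢; omega)
              have := (B.orderEmbOfFin hB).strictMono h'
              simp [e, ρ0, b] at hlt
              omega
        · intro x _ y _ h
          simp only [Prod.mk.injEq] at h
          exact Prod.ext (e.injective h.1) (e.injective h.2)
        · rintro ⟨u, v⟩ h
          simp only [Finset.mem_filter, Finset.mem_product, Finset.mem_compl] at h
          obtain ⟨⟨hu, hv⟩, hlt⟩ := h
          obtain ⟨i, rfl⟩ : ∃ i, a i = u := by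
            have : u ∈ Set.range (A.orderEmbOfFin hA) := by rw [Finset.range_orderEmbOfFin]; exact hu
            exact this
          obtain ⟨j, rfl⟩ : ∃ j, b j = v := by
            have : v ∈ Set.range (B.orderEmbOfFin hB) := by
              rw [Finset.range_orderEmbOfFin, hBA]; simpa using hv
            exact this
          refine ⟨(Fin.castAdd r i, Fin.natAdd p j), ?_, ?_⟩
          · have hlt2 : Fin.castAdd r i < Fin.natAdd p j := by
              rw [← not_le, Fin.le_def, Fin.val_natAdd, Fin.val_castAdd]
              omega
            simp only [Finset.mem_filter, Finset.mem_univ, true_and]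
            exact ⟨hlt2, by simpa [e, ρ0] using hlt⟩
          · simp [e, ρ0]
      rw [hD, hsgn, hcard]
      simp [mul_assoc]
    · have hD : D = 0 := by
        have hni : ¬ Function.Injective ρ0 := by
          intro hinj
          apply hBA
          rw [Fin.append_injective_iff] at hinj
          refine Finset.eq_of_subset_of_card_le ?_ ?_
          · intro v hv
            rw [Finset.mem_compl]
            intro hvA
            obtain ⟨j, rfl⟩ : v ∈ Set.range (B.orderEmbOfFin hB) := by
              rw [Finset.range_orderEmbOfFin]; exact hv
            obtain ⟨i, hi⟩ : B.orderEmbOfFin hB j ∈ Set.range (A.orderEmbOfFin hA) := by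
              rw [Finset.range_orderEmbOfFin]; exact hvA
            exact hinj.2.2 i j hi
          · rw [Finset.card_compl, hA, hB, Fintype.card_fin]
            omega
        rw [Function.not_injective_iff] at hni
        obtain ⟨x, y, hxy, hne⟩ := hni
        exact Matrix.det_zero_of_row_eq hne (by funext z; simp [hxy])
      rw [hD, mul_zero]

end Groth.Agent.S14879
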