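import Groth.Statements.S1489
import Mathlib
import Groth.Prelude.Def_MoreMor
import Groth.Agent.Lib.H2FormallyEtale

set_option autoImplicit false
universe u
open FlatMor

namespace Groth.Agent.S1489
open CategoryTheory Limits AlgebraicGeometry

open AlgebraicGeometry CategoryTheory Limits in
/-- A morphism f : X → S is étale if and only if it is locally of finite presentation and formally
étale, i.e. has the unique lifting property against first order thickenings of affine schemes (rings
in the same universe). -/
theorem result {X S : Scheme.{u}} (f : X ⟶ S) :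
    Etale f ↔ LocallyOfFinitePresentation f ∧ MoreMor.IsFormallyEtaleHom f := by
  rw [Groth.Agent.H2FormallyEtale.isFormallyEtaleHom_iff]
  constructor
  · intro h
    refine ⟨inferInstance, fun U V hU hV hUV => ?_⟩
    have := f.etale_appLE hV hU hUV
    algebraize [(f.appLE V U hUV).hom]
    haveI : Algebra.Etale Γ(S, V) Γ(X, U) := this
    show Algebra.FormallyEtale Γ(S, V) Γ(X, U)
    infer_instance
  · rintro ⟨_, h⟩
    refine ⟨fun {V} hV {U} hU e => ?_⟩
    have h1 := h U V hU hV e
    have h2 := HasRingHomProperty.appLE @LocallyOfFinitePresentation f inferInstance ⟨V, hV⟩ ⟨U, hU⟩ e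
    algebraize [(f.appLE V U e).hom]
    show Algebra.Etale Γ(S, V) Γ(X, U)
    exact ⟨h1, h2⟩

end Groth.Agent.S1489
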