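import Mathlib
import Groth.Statements.S14952
import Groth.Agent.Lib.H4FlatSquare
-- import your own Groth.Agent.* helpers here

set_option autoImplicit false
universe u
open TensorProduct
open EtAlg

namespace Groth.Agent.S14952

/-- Let B' = B ×_A A' be a fibre product of commutative rings with A' → A surjective and L' a B'-module.
If B ⊗_{B'} L' is a flat B-module and A' ⊗_{B'} L' is a flat A'-module, then L' is a flat B'-module.
(The converse holds by base change.) -/
theorem result (B' B A' A : Type u) [CommRing B'] [CommRing B] [CommRing A'] [CommRing A]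
    [Algebra B' B] [Algebra B' A'] [Algebra B A] [Algebra A' A] [Algebra B' A] [IsScalarTower B' B A] [IsScalarTower B' A' A]
    (hsq : EtMil.IsFibreSquare B' B A' A)
    (L' : Type u) [AddCommGroup L'] [Module B' L']
    [Module.Flat B (B ⊗[B'] L')] [Module.Flat A' (A' ⊗[B'] L')] : Module.Flat B' L' := by
  obtain ⟨hs, hex⟩ := hsq
  have hsur : Function.Surjective (algebraMap B' B) := fun b => by
    obtain ⟨a', ha'⟩ := hs (algebraMap B A b)
    obtain ⟨b', ⟨h1, -⟩, -⟩ := hex b a' ha'.symm
    exact ⟨b', h1⟩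
  let J : Ideal B' := RingHom.ker (algebraMap B' B)
  let e : (B' ⧸ J) ≃+* B := RingHom.quotientKerEquivOfSurjective hsur
  letI : Algebra B (B' ⧸ J) := e.symm.toRingHom.toAlgebra
  haveI : IsScalarTower B' B (B' ⧸ J) := IsScalarTower.of_algebraMap_eq fun x => by
    show Ideal.Quotient.mk J x = e.symm (algebraMap B' B x)
    rw [RingEquiv.eq_symm_apply]
    exact RingHom.quotientKerEquivOfSurjective_apply_mk hsur x
  haveI : Module.Flat (B' ⧸ J) ((B' ⧸ J) ⊗[B'] L') :=
    Module.Flat.of_linearEquiv (AlgebraTensorModule.cancelBaseChange B' B (B' ⧸ J) (B' ⧸ J) L').symm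
  refine H4FlatSquare.flat L' J (C := A') ?_ ?_
  · intro j hj h0
    have hj' : algebraMap B' B j = 0 := hj
    obtain ⟨b', -, hu⟩ := hex 0 0 (by simp)
    rw [hu j ⟨hj', h0⟩, hu 0 ⟨map_zero _, map_zero _⟩]
  · intro j hj c
    have hj' : algebraMap B' B j = 0 := hj
    obtain ⟨b', ⟨h1, h2⟩, -⟩ := hex 0 (c * algebraMap B' A' j) (by
      rw [map_zero, map_mul, ← IsScalarTower.algebraMap_apply, IsScalarTower.algebraMap_apply B' B A, hj', map_zero, mul_zero])
    exact ⟨b', h1, h2⟩

end Groth.Agent.S14952
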