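import Mathlib
import Groth.Statements.S14955
import Groth.Agent.Lib.H4MilnorFinite
-- import your own Groth.Agent.* helpers here

set_option autoImplicit false
universe u
open TensorProduct
open EtAlg

namespace Groth.Agent.S14955

/-- Let B' = B ×_A A' be a fibre product of commutative rings with A' → A surjective. Then the square is
also a pushout of commutative rings: the canonical map B ⊗_{B'} A' → A is an isomorphism. -/
theorem result (B' B A' A : Type u) [CommRing B'] [CommRing B] [CommRing A'] [CommRing A]
    [Algebra B' B] [Algebra B' A'] [Algebra B A] [Algebra A' A] [Algebra B' A] [IsScalarTower B' B A] [IsScalarTower B' A' A]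
    (hsq : EtMil.IsFibreSquare B' B A' A) : Algebra.IsPushout B' B A' A := by
  let Φ : B ⊗[B'] A' →ₐ[B] A := Algebra.TensorProduct.lift (Algebra.ofId B A) (IsScalarTower.toAlgHom B' A' A) fun _ _ => Commute.all _ _
  have hΦ : Function.Bijective Φ := by
    refine ⟨?_, fun a => ?_⟩
    · rw [injective_iff_map_eq_zero]
      intro z hz
      obtain ⟨a', rfl⟩ := TensorProduct.mk_surjective B' A' B (H4MilnorFinite.surj hsq) z
      have h0 : algebraMap A' A a' = 0 := by
        rw [TensorProduct.mk_apply, Algebra.TensorProduct.lift_tmul, map_one, one_mul] at hz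
        exact hz
      obtain ⟨j, ⟨hj1, hj2⟩, -⟩ := hsq.2 0 a' (by rw [map_zero, h0])
      rw [TensorProduct.mk_apply, ← hj2, Algebra.algebraMap_eq_smul_one, ← TensorProduct.smul_tmul, ← Algebra.algebraMap_eq_smul_one, hj1,
        TensorProduct.zero_tmul]
    · obtain ⟨a', rfl⟩ := hsq.1 a
      exact ⟨1 ⊗ₜ a', by rw [Algebra.TensorProduct.lift_tmul, map_one, one_mul]; rfl⟩
  refine ⟨IsBaseChange.of_equiv (LinearEquiv.ofBijective Φ.toLinearMap hΦ) fun a' => ?_⟩
  show Φ (1 ⊗ₜ a') = _
  rw [Algebra.TensorProduct.lift_tmul, map_one, one_mul]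
  rfl

end Groth.Agent.S14955
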