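import Mathlib
import Groth.Statements.S14956
import Groth.Agent.Lib.H4MilnorBij
import Groth.Agent.Lib.AzumayaBasic
-- import your own Groth.Agent.* helpers here

set_option autoImplicit false
universe u
open TensorProduct
open Brauer

namespace Groth.Agent.S14956

/-- Let B' = B ×_A A' be a fibre product of commutative rings with A' → A surjective and D' a B'-algebra
(associative, unital, not necessarily commutative). Then D' is an Azumaya algebra over B' if and
only if B ⊗_{B'} D' is an Azumaya algebra over B and A' ⊗_{B'} D' is an Azumaya algebra over A'.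
(The published statement is for a quasi-coherent algebra on the pushout scheme Y of a closed
immersion and an affine morphism; this row is the case of an affine Y. Azumaya is taken in the
finite-projective-faithful sense.) -/
theorem result (B' B A' A : Type u) [CommRing B'] [CommRing B] [CommRing A'] [CommRing A]
    [Algebra B' B] [Algebra B' A'] [Algebra B A] [Algebra A' A] [Algebra B' A] [IsScalarTower B' B A] [IsScalarTower B' A' A]
    (hsq : EtMil.IsFibreSquare B' B A' A)
    (D' : Type u) [Ring D'] [Algebra B' D'] :
    IsAzumaya B' D' ↔ IsAzumaya B (B ⊗[B'] D') ∧ IsAzumaya A' (A' ⊗[B'] D') := by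
  refine ⟨fun h => ?_, fun ⟨h1, h2⟩ => ?_⟩
  · haveI := h
    exact ⟨Groth.Agent.Azu.isAzumaya_baseChange B' D' B, Groth.Agent.Azu.isAzumaya_baseChange B' D' A'⟩
  haveI := h1
  haveI := h2
  haveI := Module.finitePresentation_of_projective B (B ⊗[B'] D')
  haveI := Module.finitePresentation_of_projective A' (A' ⊗[B'] D')
  haveI : Module.Flat B' D' := H4MilnorFinite.flat hsq
  haveI : Module.FinitePresentation B' D' := H4MilnorFinite.finitePresentation hsq
  haveI : Module.Projective B' D' := Module.Flat.projective_of_finitePresentation
  haveI : FaithfulSMul B' D' := by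
    refine ⟨fun {r r'} h => ?_⟩
    have hkill : ∀ (S : Type u) [CommRing S] [Algebra B' S] [FaithfulSMul S (S ⊗[B'] D')],
        algebraMap B' S r = algebraMap B' S r' := by
      intro S _ _ _
      refine FaithfulSMul.eq_of_smul_eq_smul (α := S ⊗[B'] D') fun z => ?_
      induction z using TensorProduct.induction_on with
      | zero => simp
      | add u v hu hv => rw [smul_add, smul_add, hu, hv]
      | tmul s d => rw [algebraMap_smul, algebraMap_smul, ← tmul_smul, ← tmul_smul, h d]
    obtain ⟨b', -, hu⟩ := hsq.2 (algebraMap B' B r) (algebraMap B' A' r) (by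
      rw [← IsScalarTower.algebraMap_apply, ← IsScalarTower.algebraMap_apply])
    exact (hu r ⟨rfl, rfl⟩).trans (hu r' ⟨(hkill B).symm, (hkill A').symm⟩).symm
  haveI : Module.Projective B' (Module.End B' D') := Module.Projective.of_equiv (dualTensorHomEquiv B' D' D')
  haveI : Module.Finite B' (Module.End B' D') := Module.Finite.equiv (dualTensorHomEquiv B' D' D')
  refine { bij := ?_ }
  exact H4MilnorBij.bijective hsq (AlgHom.mulLeftRight B' D').toLinearMap
    ((Groth.Agent.Azu.bijective_baseChange_iff B' D' B).1 (IsAzumaya.bij (R := B) (A := B ⊗[B'] D')))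
    ((Groth.Agent.Azu.bijective_baseChange_iff B' D' A').1 (IsAzumaya.bij (R := A') (A := A' ⊗[B'] D')))

end Groth.Agent.S14956
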