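import Mathlib
import Groth.Statements.S14966
-- import your own Groth.Agent.* helpers here

set_option autoImplicit false
universe u
open EtAlg

namespace Groth.Agent.S14966

/-- Let A → A' be an injective homomorphism of commutative rings and let I ⊆ A be the conductor, i.e.
the annihilator of the A-module A'/A. Then the conductor square formed by A → A/I, A → A', A/I →
A'/IA' and A' → A'/IA' is a fibre product square of rings with A' → A'/IA' surjective: A = A/I
×_{A'/IA'} A'. (The published Lemma is for the conductor square of a finite modification of schemes;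
this row is the underlying statement for one injective ring map, which needs no finiteness.) -/
theorem result (A A' : Type u) [CommRing A] [CommRing A'] [Algebra A A']
    (hinj : Function.Injective (algebraMap A A')) :
    EtMil.IsFibreSquare A (A ⧸ Module.annihilator A (A' ⧸ LinearMap.range (Algebra.linearMap A A'))) A'
      (A' ⧸ Ideal.map (algebraMap A A') (Module.annihilator A (A' ⧸ LinearMap.range (Algebra.linearMap A A')))) := by
  let I := Module.annihilator A (A' ⧸ LinearMap.range (Algebra.linearMap A A'))
  have hmem : ∀ (i : A), i ∈ I → ∀ c : A', ∃ a : A, algebraMap A A' a = algebraMap A A' i * c := by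
    intro i hi c
    have h := Module.mem_annihilator.1 hi (Submodule.Quotient.mk c)
    rw [← Submodule.Quotient.mk_smul, Submodule.Quotient.mk_eq_zero] at h
    obtain ⟨a, ha⟩ := h
    exact ⟨a, ha.trans (Algebra.smul_def i c)⟩
  have hst : ∀ x ∈ I.map (algebraMap A A'), ∃ i ∈ I, algebraMap A A' i = x := by
    intro x hx
    induction hx using Submodule.span_induction with
    | zero => exact ⟨0, zero_mem _, map_zero _⟩
    | mem x hx => obtain ⟨i, hi, rfl⟩ := hx; exact ⟨i, hi, rfl⟩
    | add a b _ _ ha hb =>
      obtain ⟨i, hi, rfl⟩ := ha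
      obtain ⟨j, hj, rfl⟩ := hb
      exact ⟨i + j, add_mem hi hj, map_add _ _ _⟩
    | smul c a _ ha =>
      obtain ⟨i, hi, rfl⟩ := ha
      obtain ⟨a, ha⟩ := hmem i hi c
      refine ⟨a, Module.mem_annihilator.2 fun q => ?_, by rw [ha, smul_eq_mul, mul_comm]⟩
      obtain ⟨c₂, rfl⟩ := Submodule.Quotient.mk_surjective _ q
      rw [← Submodule.Quotient.mk_smul, Submodule.Quotient.mk_eq_zero]
      obtain ⟨b, hb⟩ := hmem i hi (c * c₂)
      refine ⟨b, ?_⟩
      show algebraMap A A' b = a • c₂
      rw [hb, Algebra.smul_def, ha, mul_assoc]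
  refine ⟨Ideal.Quotient.mk_surjective, fun b a' h => ?_⟩
  obtain ⟨a₀, rfl⟩ := Ideal.Quotient.mk_surjective b
  have h' : Ideal.Quotient.mk (I.map (algebraMap A A')) (algebraMap A A' a₀) = Ideal.Quotient.mk _ a' := h
  obtain ⟨i, hi, hi'⟩ := hst _ (Ideal.Quotient.eq.1 h'.symm)
  refine ⟨a₀ + i, ⟨Ideal.Quotient.eq.2 (by simpa using hi), by rw [map_add, hi']; ring⟩, fun y hy => hinj ?_⟩
  rw [hy.2, map_add, hi']; ring

end Groth.Agent.S14966
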