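import Groth.Statements.S15004
import Mathlib

set_option autoImplicit false
universe u v
open Harb

namespace Groth.Agent.S15004

/-- Let C be a finite family of d curves, recorded as an incidence relation between a type of points and
a finite index type, such that any two distinct curves of the family meet in exactly h points; for a
point p write r_p for the number of curves of the family through p. Then for every curve C_i of the
family, Σ_{p ∈ C_i} (r_p − 1) = h (d − 1), the sum being finitely supported. (The published
statement is for a transversal arrangement of curves on a geometrically ruled surface with invariant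
e, all numerically equivalent to a C₀ + b f, where any two of the curves meet transversally in h =
2ab − a²e points; only this common pairwise intersection count enters the proof, and this row states
the identity for an abstract incidence relation.) -/
theorem result (P : Type u) (ι : Type v) [Fintype ι]
    (inc : P → ι → Prop) (h : ℕ)
    (hfin : ∀ i j : ι, i ≠ j → {p : P | inc p i ∧ inc p j}.Finite)
    (hcount : ∀ i j : ι, i ≠ j → {p : P | inc p i ∧ inc p j}.ncard = h) (i : ι) :
    ∑ᶠ p ∈ {p : P | inc p i}, (Nat.card {j : ι // inc p j} - 1) = h * (Fintype.card ι - 1) := by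
  classical
  let U : Finset P := (Finset.univ.erase i).biUnion fun j => if hj : j ≠ i then (hfin i j (Ne.symm hj)).toFinset else ∅
  have hU : ∀ p, p ∈ U ↔ ∃ j, j ≠ i ∧ inc p i ∧ inc p j := fun p => by
    constructor
    · intro hp
      obtain ⟨j, hj, hp⟩ := Finset.mem_biUnion.1 hp
      rw [dif_pos (Finset.ne_of_mem_erase hj)] at hp
      exact ⟨j, Finset.ne_of_mem_erase hj, by simpa using hp⟩
    · rintro ⟨j, hj, h1, h2⟩
      exact Finset.mem_biUnion.2 ⟨j, Finset.mem_erase.2 ⟨hj, Finset.mem_univ _⟩, by rw [dif_pos hj, Set.Finite.mem_toFinset]; exact ⟨h1, h2⟩⟩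
  have hcard : ∀ p, inc p i → Nat.card {j : ι // inc p j} - 1 = ∑ j ∈ Finset.univ.erase i, if inc p j then 1 else 0 := fun p hp => by
    rw [Finset.sum_boole, Nat.card_eq_fintype_card, Fintype.card_subtype, Finset.filter_erase, Finset.card_erase_of_mem (Finset.mem_filter.2 ⟨Finset.mem_univ _, hp⟩)]
    rfl
  rw [finsum_mem_eq_sum_of_subset (t := U)]
  · rw [Finset.sum_congr rfl (fun p hp => hcard p ((hU p).1 hp).choose_spec.2.1), Finset.sum_comm, mul_comm h]
    rw [Finset.sum_congr rfl (fun j hj => ?_), Finset.sum_const, smul_eq_mul, Finset.card_erase_of_mem (Finset.mem_univ i), Finset.card_univ]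
    rw [Finset.sum_boole, ← hcount i j (Finset.ne_of_mem_erase hj).symm, Nat.cast_id, ← Set.ncard_coe_finset]
    congr 1
    ext p
    simp only [Finset.coe_filter, Set.mem_setOf_eq, hU]
    exact ⟨fun ⟨⟨_, _, h1, _⟩, h2⟩ => ⟨h1, h2⟩, fun ⟨h1, h2⟩ => ⟨⟨j, Finset.ne_of_mem_erase hj, h1, h2⟩, h2⟩⟩
  · rintro p ⟨hp, hne⟩
    rw [Function.mem_support, hcard p hp] at hne
    obtain ⟨j, hj, h2⟩ := Finset.exists_ne_zero_of_sum_ne_zero hne
    exact (hU p).2 ⟨j, Finset.ne_of_mem_erase hj, hp, by_contra fun c => h2 (if_neg c)⟩
  · exact fun p hp => ((hU p).1 hp).choose_spec.2.1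

end Groth.Agent.S15004
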