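import Groth.Statements.S15005
import Mathlib

set_option autoImplicit false
set_option backward.isDefEq.respectTransparency.types false
set_option maxHeartbeats 1000000
set_option linter.all false
universe u v
open Harb

namespace Groth.Agent.S15005
open Groth.Agent

/-- Let C be a finite family of d curves, recorded as an incidence relation between a type of points and
a finite index type, such that any two distinct curves of the family meet in exactly h points; let
t_k be the number of k-fold points (points lying on exactly k curves of the family). Then f₂ − f₁ =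
Σ_{k ≥ 2} k(k − 1) t_k equals h d(d − 1), where f_i = Σ_{k ≥ 2} k^i t_k. (The published statement is
for a transversal arrangement of curves on a geometrically ruled surface with invariant e, all
numerically equivalent to a C₀ + b f, where any two of the curves meet transversally in h = 2ab −
a²e points; only this common pairwise intersection count enters the proof, and this row states the
identity for an abstract incidence relation.) -/
theorem result (P : Type u) (ι : Type v) [Fintype ι]
    (inc : P → ι → Prop) (h : ℕ)
    (hfin : ∀ i j : ι, i ≠ j → {p : P | inc p i ∧ inc p j}.Finite)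
    (hcount : ∀ i j : ι, i ≠ j → {p : P | inc p i ∧ inc p j}.ncard = h) :
    ∑ k ∈ Finset.Icc 2 (Fintype.card ι), k * (k - 1) * Nat.card {p : P // Nat.card {j : ι // inc p j} = k} =
      h * (Fintype.card ι * (Fintype.card ι - 1)) := by
  classical
  have hp : ∀ i j : ι, i ≠ j → ∀ p, inc p i → inc p j → 2 ≤ Nat.card {j : ι // inc p j} := by
    intro i j hij p hi hj
    rw [Nat.card_eq_fintype_card, Fintype.card_subtype]
    exact Finset.one_lt_card.2 ⟨i, by simp [hi], j, by simp [hj], hij⟩
  let Q : Finset (ι × ι) := Finset.univ.offDiag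
  let Sfin : Finset P := Q.attach.biUnion fun ij => (hfin ij.1.1 ij.1.2 (Finset.mem_offDiag.1 ij.2).2.2).toFinset
  have hS : ∀ p, p ∈ Sfin ↔ 2 ≤ Nat.card {j : ι // inc p j} := by
    intro p
    constructor
    · intro h
      obtain ⟨⟨⟨i, j⟩, hij⟩, -, hp'⟩ := Finset.mem_biUnion.1 h
      rw [Set.Finite.mem_toFinset] at hp'
      exact hp i j (Finset.mem_offDiag.1 hij).2.2 p hp'.1 hp'.2
    · intro h
      rw [Nat.card_eq_fintype_card, Fintype.card_subtype] at h
      obtain ⟨i, hi, j, hj, hij⟩ := Finset.one_lt_card.1 h
      exact Finset.mem_biUnion.2 ⟨⟨(i, j), by simp [Q, hij]⟩, Finset.mem_attach _ _, by simpa using ⟨(Finset.mem_filter.1 hi).2, (Finset.mem_filter.1 hj).2⟩⟩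
  let c : P → ℕ := fun p => Nat.card {j : ι // inc p j}
  have hk : ∀ k ∈ Finset.Icc 2 (Fintype.card ι), Nat.card {p : P // c p = k} = (Sfin.filter fun p => c p = k).card := by
    intro k hk
    rw [← Nat.card_eq_finsetCard]
    refine Nat.card_congr (Equiv.subtypeEquivRight fun p => ?_)
    rw [Finset.mem_filter, hS]
    exact ⟨fun e => ⟨le_of_le_of_eq (Finset.mem_Icc.1 hk).1 e.symm, e⟩, fun e => e.2⟩
  calc _ = ∑ k ∈ Finset.Icc 2 (Fintype.card ι), ∑ p ∈ Sfin.filter (fun p => c p = k), c p * (c p - 1) := by
        refine Finset.sum_congr rfl fun k hk' => ?_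
        rw [show Nat.card {p : P // Nat.card {j : ι // inc p j} = k} = _ from hk k hk', Finset.sum_congr rfl (g := fun _ => k * (k - 1)) (fun p hp' => by rw [(Finset.mem_filter.1 hp').2]), Finset.sum_const, smul_eq_mul, mul_comm]
    _ = ∑ p ∈ Sfin, c p * (c p - 1) := by
        refine Finset.sum_fiberwise_of_maps_to (fun p hp' => Finset.mem_Icc.2 ⟨(hS p).1 hp', ?_⟩) _
        rw [Nat.card_eq_fintype_card]
        exact Fintype.card_subtype_le _
    _ = ∑ p ∈ Sfin, (Q.filter fun ij => inc p ij.1 ∧ inc p ij.2).card := by
        refine Finset.sum_congr rfl fun p _ => ?_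
        rw [show (Q.filter fun ij => inc p ij.1 ∧ inc p ij.2) = (Finset.univ.filter fun j => inc p j).offDiag by ext ⟨i, j⟩; simp [Q]; tauto, Finset.offDiag_card]
        simp only [c, Nat.card_eq_fintype_card, Fintype.card_subtype, Nat.mul_sub, mul_one]
    _ = ∑ ij ∈ Q, (Sfin.filter fun p => inc p ij.1 ∧ inc p ij.2).card := Finset.sum_card_bipartiteAbove_eq_sum_card_bipartiteBelow _
    _ = ∑ ij ∈ Q, h := by
        refine Finset.sum_congr rfl fun ij hij => ?_
        have hne := (Finset.mem_offDiag.1 hij).2.2
        rw [← hcount ij.1 ij.2 hne, Set.ncard_eq_toFinset_card _ (hfin _ _ hne)]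
        congr 1
        ext p
        simp only [Finset.mem_filter, Set.Finite.mem_toFinset, hS]
        exact ⟨fun e => e.2, fun e => ⟨hp _ _ hne p e.1 e.2, e⟩⟩
    _ = _ := by rw [Finset.sum_const, smul_eq_mul, Finset.offDiag_card, Finset.card_univ, mul_comm, Nat.mul_sub (Fintype.card ι), mul_one]

end Groth.Agent.S15005
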