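import Groth.Statements.S15007
import Mathlib
import Groth.Agent.Lib.LHarb

set_option autoImplicit false
universe u v
open Harb

namespace Groth.Agent.S15007

/-- Let C be a finite family of d ≥ 2 curves, recorded as an incidence relation between a type of points
and a finite index type, such that any two distinct curves of the family meet in exactly h ≥ 1
points and no point lies on every curve of the family. Then f₀ ≥ h + 2: the number of multiple
points (points lying on at least two of the curves) is at least h + 2. (The published claim reads f₀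
≥ 2ab − a²e + 2 for a transversal arrangement of d ≥ 4 curves on a geometrically ruled surface with
invariant e ≥ 4, all numerically equivalent to a C₀ + b f with a ≥ 1 and b ≥ ae and with no point
common to all of them, satisfying in addition either a ≥ 2, or a = 1 with some four of the curves
having no point in common, where any two of the curves meet transversally in h = 2ab − a²e ≥ 1
points; only d ≥ 2, h ≥ 1 and the absence of a common point enter the proof, and this row states the
bound for an abstract incidence relation.) -/
theorem result (P : Type u) (ι : Type v) [Fintype ι]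
    (inc : P → ι → Prop) (h : ℕ) (hh : 0 < h) (hd : 2 ≤ Fintype.card ι)
    (hfin : ∀ i j : ι, i ≠ j → {p : P | inc p i ∧ inc p j}.Finite)
    (hcount : ∀ i j : ι, i ≠ j → {p : P | inc p i ∧ inc p j}.ncard = h)
    (hnone : ∀ p : P, ∃ i : ι, ¬ inc p i) :
    h + 2 ≤ Nat.card {p : P // 2 ≤ Nat.card {j : ι // inc p j}} := by
  classical
  rw [LHarb.card_multiple hfin]
  set U := (LHarb.multiple_finite hfin).toFinset with hU
  obtain ⟨i, j, hij⟩ := Fintype.exists_pair_of_one_lt_card hd
  set A := U.filter fun p => inc p i ∧ inc p j with hA
  have hAc : A.card = h := LHarb.pair_card hfin hcount hij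
  obtain ⟨p₀, hp₀⟩ : A.Nonempty := Finset.card_pos.1 (hAc ▸ hh)
  obtain ⟨k, hk⟩ := hnone p₀
  obtain ⟨-, hi, hj⟩ := Finset.mem_filter.1 hp₀
  have hq : ∀ a, inc p₀ a → (a = i ∨ a = j) → ∃ q ∈ U, inc q a ∧ inc q k ∧ q ∉ A := fun a ha hor => by
    have hak : a ≠ k := fun e => hk (e ▸ ha)
    by_contra hno
    push Not at hno
    have hsub : (U.filter fun p => inc p a ∧ inc p k) ⊆ A.erase p₀ := fun q hq => by
      obtain ⟨hqU, h1, h2⟩ := Finset.mem_filter.1 hq
      exact Finset.mem_erase.2 ⟨fun e => hk (e ▸ h2), hno q hqU h1 h2⟩
    have := Finset.card_le_card hsub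
    rw [LHarb.pair_card hfin hcount hak, Finset.card_erase_of_mem hp₀, hAc] at this
    omega
  obtain ⟨q₁, h1U, h1i, -, h1A⟩ := hq i hi (.inl rfl)
  obtain ⟨q₂, h2U, h2j, -, h2A⟩ := hq j hj (.inr rfl)
  have hne : q₁ ≠ q₂ := fun e => h1A (Finset.mem_filter.2 ⟨h1U, h1i, e ▸ h2j⟩)
  have : insert q₁ (insert q₂ A) ⊆ U := by
    simp only [Finset.insert_subset_iff]
    exact ⟨h1U, h2U, Finset.filter_subset _ _⟩
  have hc := Finset.card_le_card this
  rw [Finset.card_insert_of_notMem (by simp [hne, h1A]), Finset.card_insert_of_notMem h2A, hAc] at hc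
  omega

end Groth.Agent.S15007
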