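import Groth.Statements.S15015
import Mathlib
import Groth.Agent.Lib.H6.PSGaps

set_option autoImplicit false
set_option backward.isDefEq.respectTransparency.types false
set_option maxHeartbeats 1000000
set_option linter.all false
universe u
open TFCurv

namespace Groth.Agent.S15015
open Groth.Agent

/-- Let k be an algebraically closed field and A ≠ k[[t]] a k-subalgebra of k[[t]] that is closed in the
t-adic topology, over which k[[t]] is a finite module, and such that every power series is carried
into A by multiplication with some nonzero element of A (so k[[t]] lies in the fraction field of A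
and is its normalisation, as for the complete local ring of a unibranch curve singularity), and let
Γ ⊆ ℕ be the set of t-orders of the nonzero elements of A (its value semigroup). Then ℕ ∖ Γ is
finite and the k-dimension of k[[t]]/A equals the number of gaps of Γ. -/
theorem result (k : Type u) [Field k] [IsAlgClosed k] (A : Subalgebra k (PowerSeries k)) (hA : Module.Finite ↥A (PowerSeries k)) (hcl : ∀ f : PowerSeries k, (∀ n : ℕ, ∃ g ∈ A, (n : ℕ∞) ≤ PowerSeries.order (f - g)) → f ∈ A) (hsing : A ≠ ⊤) (hbir : ∀ f : PowerSeries k, ∃ a ∈ A, a ≠ 0 ∧ a * f ∈ A) (Γ : Set ℕ) (hΓ : ∀ n : ℕ, n ∈ Γ ↔ ∃ f ∈ A, PowerSeries.order f = n) : Γᶜ.Finite ∧ Module.finrank k (PowerSeries k ⧸ Subalgebra.toSubmodule A) = Γᶜ.ncard := by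
    classical
    obtain ⟨a, ha0, ha⟩ := H6.PSGaps.exists_conductor A hA hbir
    obtain ⟨c, hc⟩ := ENat.ne_top_iff_exists.1 (fun h => ha0 (PowerSeries.order_eq_top.1 h))
    have hcΓ : ∀ n, c ≤ n → n ∈ Γ := fun n hn => (hΓ n).2 ⟨_, ha (PowerSeries.X ^ (n - c)), by
      rw [PowerSeries.order_mul, PowerSeries.order_X_pow, ← hc, ← Nat.cast_add, Nat.add_sub_cancel' hn]⟩
    have hfin : Γᶜ.Finite := (Set.finite_lt_nat c).subset fun n hn => not_le.1 fun h => hn (hcΓ n h)
    refine ⟨hfin, ?_⟩
    let v : ↥Γᶜ → PowerSeries k := fun i => (PowerSeries.X : PowerSeries k) ^ (i : ℕ)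
    haveI := hfin.fintype
    have hv : LinearIndependent k v := by
      rw [Fintype.linearIndependent_iff]
      intro g hg i
      have := congrArg (PowerSeries.coeff (i : ℕ)) hg
      rw [map_sum, Finset.sum_eq_single i] at this
      · simpa [v, PowerSeries.coeff_X_pow] using this
      · intro j _ hj
        simp [v, PowerSeries.coeff_X_pow, Subtype.coe_injective.ne hj.symm]
      · simp
    let W := Submodule.span k (Set.range v)
    have hcpl : IsCompl (Subalgebra.toSubmodule A) W := by
      constructor
      · rw [Submodule.disjoint_def]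
        intro f hfA hfW
        by_contra hf0
        obtain ⟨m, hm⟩ := ENat.ne_top_iff_exists.1 (fun h => hf0 (PowerSeries.order_eq_top.1 h))
        have hmΓ : m ∈ Γ := (hΓ m).2 ⟨f, hfA, hm.symm⟩
        refine (PowerSeries.order_eq_nat.1 hm.symm).1 ?_
        have hle : W ≤ LinearMap.ker (PowerSeries.coeff m : PowerSeries k →ₗ[k] k) := by
          rw [Submodule.span_le]
          rintro _ ⟨i, rfl⟩
          show PowerSeries.coeff m (v i) = 0
          have hne : m ≠ (i : ℕ) := fun h => i.2 (h ▸ hmΓ)
          simp [v, PowerSeries.coeff_X_pow, hne]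
        exact hle hfW
      · rw [codisjoint_iff, eq_top_iff]
        intro f _
        have key : ∀ n : ℕ, ∃ w ∈ Subalgebra.toSubmodule A ⊔ W, (n : ℕ∞) ≤ (f - w).order := by
          intro n
          induction n with
          | zero => exact ⟨0, zero_mem _, by simp⟩
          | succ n ih =>
            obtain ⟨w, hw, hn⟩ := ih
            by_cases hnΓ : n ∈ Γ
            · obtain ⟨e, heA, he⟩ := (hΓ n).1 hnΓ
              obtain ⟨t, ht⟩ := H6.PSGaps.exists_sub_smul hn he
              exact ⟨w + t • e, add_mem hw (Submodule.smul_mem _ t (Submodule.mem_sup_left heA)), by rwa [← sub_sub]⟩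
            · obtain ⟨t, ht⟩ := H6.PSGaps.exists_sub_smul hn (g := (PowerSeries.X : PowerSeries k) ^ n) (PowerSeries.order_X_pow n)
              refine ⟨w + t • (PowerSeries.X : PowerSeries k) ^ n, add_mem hw (Submodule.smul_mem _ t (Submodule.mem_sup_right (Submodule.subset_span ⟨⟨n, hnΓ⟩, rfl⟩))), by rwa [← sub_sub]⟩
        obtain ⟨w, hw, hn⟩ := key c
        have : f - w ∈ Subalgebra.toSubmodule A := H6.PSGaps.mem_of_le_order A hcl (fun n hn => (hΓ n).1 hn) hcΓ hn
        simpa using add_mem (Submodule.mem_sup_left (T := W) this) hw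
    rw [(Submodule.quotientEquivOfIsCompl _ _ hcpl).finrank_eq, finrank_span_eq_card hv, Set.ncard_eq_toFinset_card' , Set.toFinset_card]

end Groth.Agent.S15015
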