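import Groth.Statements.S15016
import Mathlib
import Groth.Agent.Lib.H6.PSGaps

set_option autoImplicit false
set_option backward.isDefEq.respectTransparency.types false
set_option maxHeartbeats 1000000
set_option linter.all false
universe u
open TFCurv

namespace Groth.Agent.S15016
open Groth.Agent

/-- Let k be an algebraically closed field and A ≠ k[[t]] a k-subalgebra of k[[t]] that is closed in the
t-adic topology and over which k[[t]] is a finite module (as for the complete local ring of a
unibranch curve singularity inside its normalisation), and let Γ ⊆ ℕ be the set of t-orders of the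
nonzero elements of A (its value semigroup); let c be the conductor of Γ, so that every n ≥ c lies
in Γ and c − 1 does not. Then for a power series f, f · k[[t]] ⊆ A holds exactly when the order of f
is at least c: the conductor of A in k[[t]] is t^c · k[[t]], of codimension c. -/
theorem result (k : Type u) [Field k] [IsAlgClosed k] (A : Subalgebra k (PowerSeries k)) (hA : Module.Finite ↥A (PowerSeries k)) (hcl : ∀ f : PowerSeries k, (∀ n : ℕ, ∃ g ∈ A, (n : ℕ∞) ≤ PowerSeries.order (f - g)) → f ∈ A) (hsing : A ≠ ⊤) (Γ : Set ℕ) (hΓ : ∀ n : ℕ, n ∈ Γ ↔ ∃ f ∈ A, PowerSeries.order f = n) (c : ℕ) (hc : ∀ n : ℕ, c ≤ n → n ∈ Γ) (hc0 : c ≠ 0) (hc1 : c - 1 ∉ Γ) (f : PowerSeries k) : (∀ g : PowerSeries k, g * f ∈ A) ↔ (c : ℕ∞) ≤ PowerSeries.order f := by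
    refine ⟨fun h => ?_, fun h g => H6.PSGaps.mem_of_le_order A hcl (fun n hn => (hΓ n).1 hn) hc ?_⟩
    · by_contra hlt
      rw [not_le] at hlt
      obtain ⟨m, hm⟩ := ENat.ne_top_iff_exists.1 (ne_top_of_lt hlt)
      rw [← hm] at hlt
      have hmc : m < c := by exact_mod_cast hlt
      refine hc1 ((hΓ _).2 ⟨_, h (PowerSeries.X ^ (c - 1 - m)), ?_⟩)
      rw [PowerSeries.order_mul, PowerSeries.order_X_pow, ← hm, ← Nat.cast_add]
      congr 1
      omega
    · rw [PowerSeries.order_mul]
      exact h.trans le_add_self

end Groth.Agent.S15016
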