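import Groth.Statements.S15017
import Mathlib

set_option autoImplicit false
set_option backward.isDefEq.respectTransparency.types false
set_option maxHeartbeats 1000000
set_option linter.all false
open TFCurv

namespace Groth.Agent.S15017
open Groth.Agent

/-- Let Γ be a numerical semigroup (a submonoid of (ℕ, +) with finite complement), Γ ≠ ℕ, with conductor
c (every n ≥ c lies in Γ, c − 1 does not). If Γ is symmetric (for x < c, x is a gap exactly when c −
1 − x ∈ Γ) and has multiplicity greater than 2 (neither 1 nor 2 lies in Γ), then Γ is generated by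
its elements smaller than c: every minimal generator of Γ is less than the conductor. -/
theorem result (Γ : AddSubmonoid ℕ) (c : ℕ) (hc : ∀ n : ℕ, c ≤ n → n ∈ Γ) (hc0 : c ≠ 0) (hc1 : c - 1 ∉ Γ) (hsymm : ∀ x : ℕ, x < c → (x ∉ Γ ↔ c - 1 - x ∈ Γ)) (he : (1 : ℕ) ∉ Γ ∧ (2 : ℕ) ∉ Γ) : AddSubmonoid.closure {γ : ℕ | γ ∈ Γ ∧ γ < c} = Γ := by
    classical
    set S := AddSubmonoid.closure {γ : ℕ | γ ∈ Γ ∧ γ < c} with hS
    refine le_antisymm (AddSubmonoid.closure_le.2 fun x hx => hx.1) fun n hn => ?_
    induction n using Nat.strong_induction_on with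
    | _ n ih =>
      by_cases hnc : n < c
      · exact AddSubmonoid.subset_closure ⟨hn, hnc⟩
      by_cases hex : ∃ x ∈ Γ, 0 < x ∧ x < c ∧ x ≤ n ∧ n - x ∈ Γ
      · obtain ⟨x, hxΓ, hx0, hxc, hxn, hd⟩ := hex
        have h := add_mem (AddSubmonoid.subset_closure (s := {γ : ℕ | γ ∈ Γ ∧ γ < c}) ⟨hxΓ, hxc⟩) (ih (n - x) (by omega) hd)
        rwa [Nat.add_sub_cancel' hxn] at h
      exfalso
      push Not at hex
      have hc3 : 3 ≤ c := by
        by_contra h
        exact he.2 (hc 2 (by omega))
      have key : ∀ x ∈ Γ, 0 < x → x < c → n + 1 - c ≤ x ∧ x - (n + 1 - c) ∈ Γ := by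
        intro x hx hx0 hxc
        have h1 := hex x hx hx0 hxc (by omega)
        have h2 : n - x < c := by
          by_contra h
          exact h1 (hc _ (by omega))
        have h3 := (hsymm _ h2).1 h1
        rw [show c - 1 - (n - x) = x - (n + 1 - c) by omega] at h3
        exact ⟨by omega, h3⟩
      by_cases hs : ∃ x ∈ Γ, 0 < x ∧ x < c
      · let m := Nat.find hs
        obtain ⟨hmΓ, hm0, hmc⟩ := Nat.find_spec hs
        obtain ⟨hle, hk⟩ := key m hmΓ hm0 hmc
        have he' : n + 1 - c = m := by
          by_contra hne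
          exact Nat.find_min hs (show m - (n + 1 - c) < m by omega) ⟨hk, by omega, by omega⟩
        have hmul : ∀ x, x < c → x ∈ Γ → m ∣ x := by
          intro x
          induction x using Nat.strong_induction_on with
          | _ x ihx =>
            intro hxc hx
            rcases Nat.eq_zero_or_pos x with rfl | hx0
            · exact dvd_zero m
            obtain ⟨h1, h2⟩ := key x hx hx0 hxc
            rw [he'] at h1 h2
            have h4 := dvd_add (ihx (x - m) (by omega) (by omega) h2) (dvd_refl m)
            rwa [Nat.sub_add_cancel h1] at h4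
        have d1 := hmul (c - 1 - 1) (by omega) ((hsymm 1 (by omega)).1 he.1)
        have d2 := hmul (c - 1 - 2) (by omega) ((hsymm 2 (by omega)).1 he.2)
        have := Nat.dvd_sub d1 d2
        rw [show c - 1 - 1 - (c - 1 - 2) = 1 by omega, Nat.dvd_one] at this
        exact he.1 (this ▸ hmΓ)
      · push Not at hs
        have := (hsymm 1 (by omega)).1 he.1
        have := hs (c - 1 - 1) this
        omega

end Groth.Agent.S15017
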