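import Groth.Statements.S15018
import Mathlib

set_option autoImplicit false
open TFCurv

namespace Groth.Agent.S15018

/-- Let Γ be a numerical semigroup (a submonoid of (ℕ, +) with finite complement), Γ ≠ ℕ, with conductor
c (every n ≥ c lies in Γ, c − 1 does not). Then Γ is symmetric (for x < c, x is a gap exactly when c
− 1 − x ∈ Γ) if and only if there is exactly one gap n of Γ such that Γ ∪ {n} is again stable under
adding elements of Γ, i.e. n + γ ∈ Γ for every nonzero γ ∈ Γ. -/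
theorem result (Γ : AddSubmonoid ℕ) (c : ℕ) (hc : ∀ n : ℕ, c ≤ n → n ∈ Γ) (hc0 : c ≠ 0) (hc1 : c - 1 ∉ Γ) : (∀ x : ℕ, x < c → (x ∉ Γ ↔ c - 1 - x ∈ Γ)) ↔ ∃! n : ℕ, n ∉ Γ ∧ ∀ γ : ℕ, γ ∈ Γ → γ ≠ 0 → n + γ ∈ Γ := by
  classical
  have htop : c - 1 ∉ Γ ∧ ∀ γ ∈ Γ, γ ≠ 0 → c - 1 + γ ∈ Γ := ⟨hc1, fun γ _ h => hc _ (by omega)⟩
  constructor
  · intro h
    refine ⟨c - 1, htop, fun n ⟨hn, hn'⟩ => ?_⟩
    have hlt : n < c := by by_contra hh; exact hn (hc n (by omega))
    by_contra hne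
    have := hn' _ ((h n hlt).1 hn) (by omega)
    rw [show n + (c - 1 - n) = c - 1 by omega] at this
    exact hc1 this
  · rintro ⟨N, -, huniq⟩ x hx
    constructor
    · intro hxΓ
      have hne : ((Finset.range c).filter fun γ => γ ∈ Γ ∧ x + γ ∉ Γ).Nonempty :=
        ⟨0, Finset.mem_filter.2 ⟨Finset.mem_range.2 (by omega), zero_mem _, by simpa using hxΓ⟩⟩
      obtain ⟨g, hg, hmax⟩ := Finset.exists_max_image _ id hne
      obtain ⟨hgc, hgΓ, hxg⟩ := Finset.mem_filter.1 hg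
      have hq : x + g ∉ Γ ∧ ∀ γ ∈ Γ, γ ≠ 0 → x + g + γ ∈ Γ := by
        refine ⟨hxg, fun γ hγ h0 => by_contra fun hh => ?_⟩
        have hlt : g + γ < c := by by_contra hc'; exact hh (hc _ (by omega))
        have := hmax (g + γ) (Finset.mem_filter.2 ⟨Finset.mem_range.2 hlt, add_mem hgΓ hγ, by rwa [← add_assoc]⟩)
        simp only [id] at this; omega
      have e : x + g = c - 1 := (huniq _ hq).trans (huniq _ htop).symm
      rwa [show c - 1 - x = g by omega]
    · intro h1 h2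
      have := add_mem h2 h1
      rw [show x + (c - 1 - x) = c - 1 by omega] at this
      exact hc1 this

end Groth.Agent.S15018
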