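import Groth.Statements.S15019
import Mathlib

set_option autoImplicit false
open TFCurv

namespace Groth.Agent.S15019

/-- Let Γ be a numerical semigroup (a submonoid of (ℕ, +) with finite complement), Γ ≠ ℕ, with conductor
c (every n ≥ c lies in Γ, c − 1 does not), let e be its multiplicity (the least nonzero element of
Γ), and let S ⊆ ℕ be a Γ-module in normal form: 0 ∈ S and γ + s ∈ S for all γ ∈ Γ, s ∈ S. Then the
set of gaps n of S with S ∪ {n} again a Γ-module (n + γ ∈ S for every nonzero γ ∈ Γ) has at most e −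
1 elements, and so does the set of nonzero s ∈ S with S ∖ {s} again a Γ-module (s − γ ∉ S for every
nonzero γ ∈ Γ with γ ≤ s). -/
theorem result (Γ : AddSubmonoid ℕ) (c : ℕ) (hc : ∀ n : ℕ, c ≤ n → n ∈ Γ) (hc0 : c ≠ 0) (hc1 : c - 1 ∉ Γ) (e : ℕ) (he : e ∈ Γ) (he0 : e ≠ 0) (hemin : ∀ γ : ℕ, γ ∈ Γ → γ ≠ 0 → e ≤ γ) (S : Set ℕ) (hS0 : (0 : ℕ) ∈ S) (hS : ∀ γ : ℕ, γ ∈ Γ → ∀ s : ℕ, s ∈ S → γ + s ∈ S) : {n : ℕ | n ∉ S ∧ ∀ γ : ℕ, γ ∈ Γ → γ ≠ 0 → n + γ ∈ S}.encard ≤ ((e - 1 : ℕ) : ℕ∞) ∧ {s : ℕ | s ∈ S ∧ s ≠ 0 ∧ ∀ γ : ℕ, γ ∈ Γ → γ ≠ 0 → γ ≤ s → s - γ ∉ S}.encard ≤ ((e - 1 : ℕ) : ℕ∞) := by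
  classical
  have hmul : ∀ k : ℕ, k * e ∈ Γ := fun k => by rw [← smul_eq_mul]; exact Γ.nsmul_mem he k
  have key : ∀ T : Set ℕ, (∀ a ∈ T, a % e ≠ 0) → (∀ a ∈ T, ∀ b ∈ T, a % e = b % e → a ≤ b → a = b) →
      T.encard ≤ ((e - 1 : ℕ) : ℕ∞) := by
    intro T h0 h1
    have hcard : ((((Finset.range e).erase 0 : Finset ℕ)) : Set ℕ).encard = ((e - 1 : ℕ) : ℕ∞) := by
      rw [Set.encard_coe_eq_coe_finsetCard, Finset.card_erase_of_mem (by simp; omega), Finset.card_range]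
    rw [← hcard]
    refine Set.encard_le_encard_of_injOn (f := fun a => a % e) (fun a ha => ?_) (fun a ha b hb h => ?_)
    · simp [h0 a ha, Nat.mod_lt a (Nat.pos_of_ne_zero he0)]
    · rcases le_total a b with hle | hle
      · exact h1 a ha b hb h hle
      · exact (h1 b hb a ha h.symm hle).symm
  constructor
  · refine key _ ?_ ?_
    · rintro a ⟨ha, -⟩ h
      obtain ⟨k, rfl⟩ := Nat.dvd_of_mod_eq_zero h
      exact ha (by simpa [mul_comm] using hS _ (hmul k) 0 hS0)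
    · rintro a ⟨-, ha⟩ b ⟨hb, -⟩ h hle
      by_contra hne
      obtain ⟨k, hk⟩ := (Nat.modEq_iff_dvd' hle).1 h
      have hk0 : k * e ≠ 0 := by rw [mul_comm, ← hk]; omega
      have := ha (k * e) (hmul k) hk0
      rw [mul_comm, ← hk, Nat.add_sub_cancel' hle] at this
      exact hb this
  · refine key _ ?_ ?_
    · rintro a ⟨-, ha0, ha⟩ h
      obtain ⟨k, rfl⟩ := Nat.dvd_of_mod_eq_zero h
      exact ha (e * k) (by rw [mul_comm]; exact hmul k) ha0 le_rfl (by simpa using hS0)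
    · rintro a ⟨ha, -, -⟩ b ⟨-, -, hb⟩ h hle
      by_contra hne
      obtain ⟨k, hk⟩ := (Nat.modEq_iff_dvd' hle).1 h
      refine hb (k * e) (hmul k) (by rw [mul_comm, ← hk]; omega) (by rw [mul_comm, ← hk]; omega) ?_
      rw [mul_comm, ← hk, Nat.sub_sub_self hle]
      exact ha

end Groth.Agent.S15019
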