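import Groth.Statements.S15029
import Mathlib

set_option autoImplicit false
open TFCurv

namespace Groth.Agent.S15029

/-- Let Γ be a numerical semigroup (a submonoid of (ℕ, +) with finite complement), Γ ≠ ℕ, with conductor
c (every n ≥ c lies in Γ, c − 1 does not), and let S ⊆ ℕ be a Γ-module in normal form (0 ∈ S and γ +
s ∈ S for γ ∈ Γ, s ∈ S). If S ≠ ℕ then some gap n of S can be added (n + γ ∈ S for every nonzero γ ∈
Γ, so S ∪ {n} is a Γ-module), and if S ≠ Γ then some s ∈ S outside Γ can be removed (s − γ ∉ S for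
every nonzero γ ∈ Γ with γ ≤ s, so S ∖ {s} is a Γ-module containing Γ); iterating, S is joined to ℕ
and to Γ by chains in the diagram of Γ-modules, which is therefore connected. -/
theorem result (Γ : AddSubmonoid ℕ) (c : ℕ) (hc : ∀ n : ℕ, c ≤ n → n ∈ Γ) (hc0 : c ≠ 0) (hc1 : c - 1 ∉ Γ) (S : Set ℕ) (hS0 : (0 : ℕ) ∈ S) (hS : ∀ γ : ℕ, γ ∈ Γ → ∀ s : ℕ, s ∈ S → γ + s ∈ S) : (S ≠ Set.univ → ∃ n : ℕ, n ∉ S ∧ ∀ γ : ℕ, γ ∈ Γ → γ ≠ 0 → n + γ ∈ S) ∧ ((↑Γ : Set ℕ) ≠ S → ∃ s : ℕ, s ∈ S ∧ s ∉ Γ ∧ ∀ γ : ℕ, γ ∈ Γ → γ ≠ 0 → γ ≤ s → s - γ ∉ S) := by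
  classical
  constructor
  · intro hne
    obtain ⟨a, ha⟩ : ∃ a, a ∉ S := by
      by_contra h
      push Not at h
      exact hne (Set.eq_univ_of_forall h)
    have hbd : ∀ b, b ∉ S → b < c := fun b hb => by
      by_contra h
      exact hb (by simpa using hS b (hc b (by omega)) 0 hS0)
    obtain ⟨n, hn, hmax⟩ := ((Finset.range c).filter (fun b => b ∉ S)).exists_max_image id
      ⟨a, by simp [ha, hbd a ha]⟩
    rw [Finset.mem_filter] at hn
    refine ⟨n, hn.2, fun γ _ hγ => ?_⟩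
    by_contra h
    have := hmax (n + γ) (by simp [h, hbd _ h])
    simp at this
    exact hγ this
  · intro hne
    have hsub : ∀ γ ∈ Γ, γ ∈ S := fun γ h => by simpa using hS γ h 0 hS0
    have hex : ∃ s, s ∈ S ∧ s ∉ Γ := by
      by_contra h
      push Not at h
      exact hne (Set.Subset.antisymm hsub h)
    refine ⟨Nat.find hex, (Nat.find_spec hex).1, (Nat.find_spec hex).2, fun γ hγ hγ0 hle hmem => ?_⟩
    by_cases h : Nat.find hex - γ ∈ Γ
    · refine (Nat.find_spec hex).2 ?_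
      have := Γ.add_mem h hγ
      rwa [Nat.sub_add_cancel hle] at this
    · exact Nat.find_min hex (by omega) ⟨hmem, h⟩

end Groth.Agent.S15029
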