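import Groth.Statements.S2066
import Mathlib
import Groth.Prelude.Def_DRing2
import Groth.Prelude.Def_DDual2
import Groth.Agent.Lib.H5DTen
import Groth.Agent.Lib.H5Perf
import Groth.Agent.Lib.H5Amp
import Groth.Agent.Lib.H7StupidGE
import Groth.Agent.Lib.PseudoCoherentRing

set_option autoImplicit false
universe u
open Groth.Agent.PseudoCoherentRing
open CategoryTheory Limits Pretriangulated HomologicalComplex Groth.Agent
open scoped ZeroObject
open CategoryTheory
attribute [local instance] HasDerivedCategory.standard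
open CAlg

namespace Groth.Agent.S2066

/-- An object `K` of `D(A)` is `m`-pseudo-coherent for every integer `m` if and only if some bounded
above complex of finite free modules represents it in `D(A)` ((1) iff (2)), and also if and only if
some bounded above complex of finite projective modules represents it ((2) iff (3)). -/
theorem result {A : Type u} [CommRing A] (K : Dual.D A) :
    ((∀ m : ℤ, DRing.IsPseudoCoherent A m K) ↔ DRing.IsPseudoCoherent' A K) ∧
      ((∀ m : ℤ, DRing.IsPseudoCoherent A m K) ↔ ∃ (E : DRing.Cx A) (b : ℤ), DRing.VanishesAbove E b ∧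
        DRing.TermwiseFiniteProjective E ∧ Nonempty (DRing.toD E ≅ K)) := by
  have h12 : (∀ m : ℤ, DRing.IsPseudoCoherent A m K) → DRing.IsPseudoCoherent' A K := fun h => by
    obtain ⟨E, b, h1, h2, ⟨e⟩⟩ := isPseudo'_of_forall (DerivedCategory.Q.objPreimage K)
      (fun m => isPseudo_of_iso (DerivedCategory.Q.objObjPreimageIso K).symm (h m))
    exact ⟨E, b, h1, h2, ⟨e ≪≫ DerivedCategory.Q.objObjPreimageIso K⟩⟩
  have h31 : (∃ (E : DRing.Cx A) (b : ℤ), DRing.VanishesAbove E b ∧
      DRing.TermwiseFiniteProjective E ∧ Nonempty (DRing.toD E ≅ K)) → ∀ m, DRing.IsPseudoCoherent A m K :=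
    fun ⟨E, b, h1, h2, ⟨e⟩⟩ m => isPseudo_of_iso e (isPseudo_of_termwiseFiniteProjective h1 h2 m)
  have h23 : DRing.IsPseudoCoherent' A K → ∃ (E : DRing.Cx A) (b : ℤ), DRing.VanishesAbove E b ∧
      DRing.TermwiseFiniteProjective E ∧ Nonempty (DRing.toD E ≅ K) := fun ⟨E, b, h1, h2, h3⟩ =>
    ⟨E, b, h1, fun i => ⟨(h2 i).1, have := (h2 i).2; inferInstance⟩, h3⟩
  exact ⟨⟨h12, fun h => h31 (h23 h)⟩, ⟨fun h => h23 (h12 h), h31⟩⟩

end Groth.Agent.S2066
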