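import Groth.Statements.S1503
import Mathlib
import Groth.Prelude.Def_MoreMor
import Groth.Agent.S2066
import Groth.Agent.S6935
import Groth.Agent.S6942

set_option autoImplicit false
universe u
attribute [local instance] HasDerivedCategory.standard
open FlatMor

namespace Groth.Agent.S1503
open AlgebraicGeometry CategoryTheory
set_option backward.isDefEq.respectTransparency.types false

open AlgebraicGeometry CategoryTheory Limits in
/-- Let f : X → S with S locally Noetherian. Then f is pseudo-coherent (affine-locally: pseudo-coherent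
ring maps) if and only if f is locally of finite type. -/
theorem result {X S : Scheme.{u}} (f : X ⟶ S) [IsLocallyNoetherian S] :
    MoreMor.IsPseudoCoherentMor f ↔ LocallyOfFiniteType f := by
  constructor
  · intro h
    rw [HasRingHomProperty.iff_appLE (P := @LocallyOfFiniteType)]
    intro U V e
    letI := (f.appLE U.1 V.1 e).hom.toAlgebra
    obtain ⟨n, φ, hφ, -⟩ := h V.1 U.1 V.2 U.2 e
    exact Algebra.FiniteType.of_surjective φ hφ
  · intro _ U V hU hV e
    haveI : IsNoetherianRing Γ(S, V) := IsLocallyNoetherian.component_noetherian ⟨V, hV⟩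
    letI := (f.appLE V U e).hom.toAlgebra
    haveI : Algebra.FiniteType Γ(S, V) Γ(X, U) := HasRingHomProperty.appLE (P := @LocallyOfFiniteType) f inferInstance ⟨V, hV⟩ ⟨U, hU⟩ e
    obtain ⟨n, φ, hφ⟩ := Algebra.FiniteType.iff_quotient_mvPolynomial''.1 ‹Algebra.FiniteType Γ(S, V) Γ(X, U)›
    refine ⟨n, φ, hφ, ?_⟩
    letI := φ.toRingHom.toAlgebra
    haveI : Module.Finite (MvPolynomial (Fin n) Γ(S, V)) Γ(X, U) := Module.Finite.of_surjective (Algebra.linearMap (MvPolynomial (Fin n) Γ(S, V)) Γ(X, U)) hφ
    exact (Groth.Agent.S6942.result (MvPolynomial (Fin n) Γ(S, V)) 0 (Dual.inD (MvPolynomial (Fin n) Γ(S, V)) Γ(X, U)) Γ(X, U)).2.2 inferInstance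

end Groth.Agent.S1503
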