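import Groth.Statements.S15038
import Mathlib

set_option autoImplicit false
open TFCurv

namespace Groth.Agent.S15038

/-- Let Γ be a numerical semigroup (a submonoid of (ℕ, +) with finite complement), Γ ≠ ℕ, with conductor
c (every n ≥ c lies in Γ, c − 1 does not). If Γ is symmetric (for x < c, x is a gap exactly when c −
1 − x ∈ Γ) and its multiplicity e, the least nonzero element of Γ, is greater than 2, then Γ is
generated as an additive monoid by at most e − 1 elements. -/
theorem result (Γ : AddSubmonoid ℕ) (c : ℕ) (hc : ∀ n : ℕ, c ≤ n → n ∈ Γ) (hc0 : c ≠ 0) (hc1 : c - 1 ∉ Γ) (hsymm : ∀ x : ℕ, x < c → (x ∉ Γ ↔ c - 1 - x ∈ Γ)) (e : ℕ) (he : e ∈ Γ) (he0 : e ≠ 0) (hemin : ∀ γ : ℕ, γ ∈ Γ → γ ≠ 0 → e ≤ γ) (he2 : 2 < e) : ∃ G : Finset ℕ, G.card ≤ e - 1 ∧ AddSubmonoid.closure (↑G : Set ℕ) = Γ := by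
  classical
  have hmul : ∀ k : ℕ, k * e ∈ Γ := fun k => by rw [← smul_eq_mul]; exact Γ.nsmul_mem he k
  have hepos : 0 < e := Nat.pos_of_ne_zero he0
  have hex : ∀ t : ℕ, ∃ w, w ∈ Γ ∧ w % e = t % e := fun t => ⟨t + c * e, hc _ (le_trans (Nat.le_mul_of_pos_right c hepos) (Nat.le_add_left _ _)), Nat.add_mul_mod_self_right t c e⟩
  let w : ℕ → ℕ := fun t => Nat.find (hex t)
  have hw : ∀ t, w t ∈ Γ ∧ w t % e = t % e := fun t => Nat.find_spec (hex t)
  have hstep : ∀ γ ∈ Γ, γ = w (γ % e) ∨ (e ≤ γ ∧ γ - e ∈ Γ) := by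
    intro γ hγ
    have hle : w (γ % e) ≤ γ := Nat.find_min' (hex _) ⟨hγ, (Nat.mod_mod _ _).symm⟩
    rcases hle.eq_or_lt with h | h
    · exact Or.inl h.symm
    · right
      obtain ⟨k, hk⟩ := (Nat.modEq_iff_dvd' hle).1 ((hw _).2.trans (Nat.mod_mod _ _))
      rcases k with _ | k
      · omega
      · rw [Nat.mul_succ, mul_comm] at hk
        refine ⟨by omega, ?_⟩
        rw [show γ - e = w (γ % e) + k * e by omega]
        exact Γ.add_mem (hw _).1 (hmul k)
  set W := c - 1 + e with hW
  have hWmem : W ∈ Γ := hc _ (by omega)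
  have hWw : W = w (W % e) := (hstep W hWmem).resolve_right fun h => hc1 (by have h' := h.2; rwa [hW, Nat.add_sub_cancel] at h')
  have hW0 : W % e ≠ 0 := by
    intro h
    rw [hW, Nat.add_mod_right] at h
    obtain ⟨k, hk⟩ := Nat.dvd_of_mod_eq_zero h
    exact hc1 (by rw [hk, mul_comm]; exact hmul k)
  obtain ⟨t0, ht0, ht00, ht0W⟩ : ∃ t, t < e ∧ t ≠ 0 ∧ t ≠ W % e := by
    by_cases h : W % e = 1
    · exact ⟨2, he2, by omega, by omega⟩
    · exact ⟨1, by omega, one_ne_zero, Ne.symm h⟩
  let T : Finset ℕ := ((Finset.range e).erase 0).erase (W % e)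
  refine ⟨insert e (T.image w), ?_, le_antisymm ?_ ?_⟩
  · refine (Finset.card_insert_le _ _).trans ?_
    have h1 : (T.image w).card ≤ e - 2 := by
      refine Finset.card_image_le.trans_eq ?_
      rw [Finset.card_erase_of_mem (Finset.mem_erase.2 ⟨hW0, Finset.mem_range.2 (Nat.mod_lt _ hepos)⟩),
        Finset.card_erase_of_mem (Finset.mem_range.2 hepos), Finset.card_range]
      omega
    omega
  · rw [AddSubmonoid.closure_le]
    intro x hx
    rcases Finset.mem_insert.1 (Finset.mem_coe.1 hx) with rfl | h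
    · exact he
    · obtain ⟨t, -, rfl⟩ := Finset.mem_image.1 h
      exact (hw t).1
  · intro γ hγ
    induction γ using Nat.strong_induction_on with
    | _ γ ih =>
      rcases hstep γ hγ with h | ⟨h1, h2⟩
      · by_cases h0 : γ % e = 0
        · rw [h0] at h
          have h' : w 0 = 0 := Nat.le_zero.1 (Nat.find_min' (hex 0) ⟨Γ.zero_mem, rfl⟩)
          rw [h, h']
          exact zero_mem _
        by_cases hWt : γ % e = W % e
        · rw [hWt, ← hWw] at h
          subst h
          have ht : w t0 % e = t0 := (hw t0).2.trans (Nat.mod_eq_of_lt ht0)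
          have hge : e ≤ w t0 := hemin _ (hw t0).1 fun hz => ht00 (by rw [← ht, hz, Nat.zero_mod])
          have hnotin : w t0 - e ∉ Γ := fun hin => Nat.find_min (hex t0) (show w t0 - e < w t0 by omega)
            ⟨hin, by rw [← (hw t0).2]; exact ((Nat.mod_eq_sub_mod hge)).symm⟩
          have hlt : w t0 - e < c := by
            by_contra hh
            exact hnotin (hc _ (by omega))
          have hcompl : c - 1 - (w t0 - e) ∈ Γ := (hsymm _ hlt).1 hnotin
          have hne : w t0 ≠ W := fun hh => ht0W (by rw [← ht, hh])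
          have hsum : W = w t0 + (c - 1 - (w t0 - e)) := by omega
          rw [hsum]
          exact add_mem (ih _ (by omega) (hw t0).1) (ih _ (by omega) hcompl)
        · refine AddSubmonoid.subset_closure ?_
          rw [Finset.coe_insert, Set.mem_insert_iff, Finset.mem_coe]
          exact Or.inr (Finset.mem_image.2 ⟨γ % e, Finset.mem_erase.2 ⟨hWt, Finset.mem_erase.2 ⟨h0, Finset.mem_range.2 (Nat.mod_lt _ hepos)⟩⟩, h.symm⟩)
      · rw [← Nat.sub_add_cancel h1]
        exact add_mem (ih _ (by omega) h2) (AddSubmonoid.subset_closure (by simp))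

end Groth.Agent.S15038
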