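import Groth.Statements.S15047
import Mathlib
import Groth.Agent.S1156

set_option autoImplicit false
set_option backward.isDefEq.respectTransparency.types false
set_option maxHeartbeats 1000000
set_option linter.all false
universe u
open TensorProduct
open Desc

namespace Groth.Agent.S15047
open Groth.Agent

/-- Let A → A' be a faithfully flat homomorphism of commutative rings and M, N any A-modules. An
A'-linear map f : A' ⊗_A M → A' ⊗_A N whose two base changes to A' ⊗_A A' (along a ↦ a ⊗ 1 and a ↦ 1
⊗ a) coincide is the base change of a unique A-linear map h : M → N. Since (A' ⊗_A A') ⊗_A M is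
generated over A' ⊗_A A' by the elements 1 ⊗ m, the agreement of the two base changes is stated on
these generators: for every m, the two images of f (1 ⊗ m) in (A' ⊗_A A') ⊗_A N agree. Equivalently,
the sequence Hom_A(M, N) → Hom_{A'}(A' ⊗ M, A' ⊗ N) ⇉ Hom_{A' ⊗ A'}(A' ⊗ A' ⊗ M, A' ⊗ A' ⊗ N) is an
equalizer diagram. -/
theorem result (A A' : Type u) [CommRing A] [CommRing A'] [Algebra A A']
    [Module.FaithfullyFlat A A'] (M N : Type u) [AddCommGroup M] [Module A M] [AddCommGroup N] [Module A N]
    (f : A' ⊗[A] M →ₗ[A'] A' ⊗[A] N)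
    (hf : ∀ m : M,
      LinearMap.rTensor N (Algebra.TensorProduct.includeLeft : A' →ₐ[A] A' ⊗[A] A').toLinearMap (f (1 ⊗ₜ[A] m)) =
        LinearMap.rTensor N (Algebra.TensorProduct.includeRight : A' →ₐ[A] A' ⊗[A] A').toLinearMap (f (1 ⊗ₜ[A] m))) :
    ∃! h : M →ₗ[A] N, h.baseChange A' = f := by
    have hinj := Module.FaithfullyFlat.tensorProduct_mk_injective (A := A) (B := A') N
    have hmem : ∀ m : M, f (1 ⊗ₜ[A] m) ∈ LinearMap.range (TensorProduct.mk A A' N 1) := by
      intro m
      refine Groth.Agent.S1156.result A A' N _ ?_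
      have h := congrArg (TensorProduct.assoc A A' A' N) (hf m)
      have e1 : ∀ z : A' ⊗[A] N, TensorProduct.assoc A A' A' N (LinearMap.rTensor N (Algebra.TensorProduct.includeLeft : A' →ₐ[A] A' ⊗[A] A').toLinearMap z) = LinearMap.lTensor A' (TensorProduct.mk A A' N 1) z := by
        intro z; induction z using TensorProduct.induction_on with
        | zero => simp
        | tmul a n => simp
        | add z w hz hw => simp only [map_add, hz, hw]
      have e2 : ∀ z : A' ⊗[A] N, TensorProduct.assoc A A' A' N (LinearMap.rTensor N (Algebra.TensorProduct.includeRight : A' →ₐ[A] A' ⊗[A] A').toLinearMap z) = TensorProduct.mk A A' (A' ⊗[A] N) 1 z := by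
        intro z; induction z using TensorProduct.induction_on with
        | zero => simp
        | tmul a n => simp
        | add z w hz hw => simp only [map_add, hz, hw]
      rw [e1, e2] at h
      exact h.symm
    let h : M →ₗ[A] N := (LinearEquiv.ofInjective _ hinj).symm.toLinearMap ∘ₗ
      ((f.restrictScalars A ∘ₗ TensorProduct.mk A A' M 1).codRestrict _ hmem)
    have hh : ∀ m, (1 : A') ⊗ₜ[A] h m = f (1 ⊗ₜ[A] m) := fun m => by
      have := congrArg Subtype.val ((LinearEquiv.ofInjective _ hinj).apply_symm_apply ⟨f (1 ⊗ₜ[A] m), hmem m⟩)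
      exact this
    refine ⟨h, ?_, fun k hk => LinearMap.ext fun m => hinj ?_⟩
    · refine LinearMap.ext fun z => ?_
      induction z using TensorProduct.induction_on with
      | zero => simp
      | tmul a m =>
        rw [LinearMap.baseChange_tmul, ← mul_one a, ← smul_eq_mul, ← TensorProduct.smul_tmul', ← TensorProduct.smul_tmul', hh, map_smul]
      | add z w hz hw => simp only [map_add, hz, hw]
    · show (1 : A') ⊗ₜ[A] k m = (1 : A') ⊗ₜ[A] h m
      rw [hh, ← hk, LinearMap.baseChange_tmul]

end Groth.Agent.S15047
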