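import Groth.Statements.S15049
import Mathlib
import Groth.Agent.Lib.H6.LTApi

set_option autoImplicit false
set_option backward.isDefEq.respectTransparency.types false
set_option maxHeartbeats 1000000
set_option linter.all false
universe u
open LubinTate

namespace Groth.Agent.S15049
open Groth.Agent

/-- Let O be a discrete valuation ring with finite residue field of cardinality q, π a uniformizer of O,
and f = πT + T^q ∈ O[[T]]. Then there is a one-dimensional commutative formal group law F(X,Y) over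
O for which f is an endomorphism, f(F(X,Y)) = F(f(X), f(Y)); and F is the unique power series in
O[[X,Y]] with zero constant term and linear part X + Y satisfying this identity. (The published
statement is for the ring of integers of a finite extension of ℚ_p or of 𝔽_q((X)); completeness is
not used and any discrete valuation ring with finite residue field is allowed here.) -/
theorem result (O : Type u) [CommRing O] [IsDomain O] [IsDiscreteValuationRing O]
    [Finite (IsLocalRing.ResidueField O)] (π : O) (hπ : Irreducible π) (f : PowerSeries O)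
    (hf : f = π • PowerSeries.X + PowerSeries.X ^ Nat.card (IsLocalRing.ResidueField O)) :
    ∃ F : FormalGroup O, F.IsComm ∧
      PowerSeries.subst F.toPowerSeries f =
        MvPowerSeries.subst (fun i : Fin 2 => PowerSeries.subst (MvPowerSeries.X i : MvPowerSeries (Fin 2) O) f) F.toPowerSeries ∧
      ∀ G : MvPowerSeries (Fin 2) O, G.constantCoeff = 0 → G.coeff (Finsupp.single 0 1) = 1 →
        G.coeff (Finsupp.single 1 1) = 1 →
        PowerSeries.subst G f =
        MvPowerSeries.subst (fun i : Fin 2 => PowerSeries.subst (MvPowerSeries.X i : MvPowerSeries (Fin 2) O) f) G →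
        G = F.toPowerSeries := by
    classical
    set q := Nat.card (IsLocalRing.ResidueField O) with hqdef
    have hq : 2 ≤ q := H6.LT.two_le_card
    obtain ⟨G, hG, hGc⟩ := H6.LT.exists_cm (σ := Fin 2) hπ (![1, 1] : Fin 2 → O)
    obtain ⟨h0, hX, hY⟩ := (H6.LT.lin_two_iff G).1 hG
    have hX3 : ∀ i : Fin 3, H6.LT.Lin (MvPowerSeries.X i : MvPowerSeries (Fin 3) O) (Pi.single i 1) := H6.LT.lin_X
    have hpair : ∀ {τ : Type} [Fintype τ] (a b : MvPowerSeries τ O) (ca cb : τ → O),
        H6.LT.Lin a ca → H6.LT.Lin b cb → H6.LT.Cm π q a → H6.LT.Cm π q b →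
        H6.LT.Lin (G.subst ![a, b]) (fun j => ca j + cb j) ∧ H6.LT.Cm π q (G.subst ![a, b]) := by
      intro τ _ a b ca cb ha hb hac hbc
      constructor
      · have hl : ∀ i : Fin 2, H6.LT.Lin (![a, b] i) (![ca, cb] i) := fun i => by fin_cases i <;> assumption
        have h2 := H6.LT.lin_comp hG hl
        have e : (fun j => ∑ i : Fin 2, (![1, 1] : Fin 2 → O) i * ![ca, cb] i j) = fun j => ca j + cb j := by
          funext j; simp [Fin.sum_univ_two]
        rwa [e] at h2
      · exact H6.LT.cm_comp (by omega) hGc (fun i => by fin_cases i <;> [exact ha.low; exact hb.low])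
          (fun i => by fin_cases i <;> assumption)
    have hc : ∀ i : Fin 3, H6.LT.Cm π q (MvPowerSeries.X i : MvPowerSeries (Fin 3) O) := H6.LT.cm_X π (by omega)
    have assoc : G.subst ![G.subst ![MvPowerSeries.X 0, MvPowerSeries.X 1], (MvPowerSeries.X 2 : MvPowerSeries (Fin 3) O)] =
        G.subst ![(MvPowerSeries.X 0 : MvPowerSeries (Fin 3) O), G.subst ![MvPowerSeries.X 1, MvPowerSeries.X 2]] := by
      obtain ⟨l01, c01⟩ := hpair _ _ _ _ (hX3 0) (hX3 1) (hc 0) (hc 1)
      obtain ⟨l12, c12⟩ := hpair _ _ _ _ (hX3 1) (hX3 2) (hc 1) (hc 2)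
      obtain ⟨lL, cL⟩ := hpair _ _ _ _ l01 (hX3 2) c01 (hc 2)
      obtain ⟨lR, cR⟩ := hpair _ _ _ _ (hX3 0) l12 (hc 0) c12
      refine H6.LT.cm_unique hπ lR ?_ cR cL
      have e : (fun j => (Pi.single (0 : Fin 3) (1 : O) : Fin 3 → O) j + (Pi.single (1 : Fin 3) (1 : O) : Fin 3 → O) j + (Pi.single (2 : Fin 3) (1 : O) : Fin 3 → O) j) =
          fun j => (Pi.single (0 : Fin 3) (1 : O) : Fin 3 → O) j + ((Pi.single (1 : Fin 3) (1 : O) : Fin 3 → O) j + (Pi.single (2 : Fin 3) (1 : O) : Fin 3 → O) j) := by
        funext j; rw [add_assoc]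
      rwa [e] at lL
    let F : FormalGroup O :=
      { toPowerSeries := G, zero_constantCoeff := h0, lin_coeff_X := hX, lin_coeff_Y := hY, assoc := assoc }
    refine ⟨F, ⟨?_⟩, (H6.LT.cm_two_iff hf hG.low).2 hGc, fun H hH0 hH1 hH2 hH => ?_⟩
    · obtain ⟨l, cc⟩ := hpair _ _ _ _ (H6.LT.lin_X (R := O) (1 : Fin 2)) (H6.LT.lin_X 0) (H6.LT.cm_X π (by omega) 1) (H6.LT.cm_X π (by omega) 0)
      refine (H6.LT.cm_unique hπ hG ?_ hGc cc).symm
      have e : (fun j => (Pi.single (1 : Fin 2) (1 : O) : Fin 2 → O) j + (Pi.single (0 : Fin 2) (1 : O) : Fin 2 → O) j) = ![1, 1] := by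
        funext j; fin_cases j <;> simp
      rwa [e] at l
    · have hHl : H6.LT.Lin H ![1, 1] := (H6.LT.lin_two_iff H).2 ⟨hH0, hH1, hH2⟩
      exact H6.LT.cm_unique hπ hG hHl hGc ((H6.LT.cm_two_iff hf hHl.low).1 hH)

end Groth.Agent.S15049
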