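import Groth.Statements.S15050
import Mathlib
import Groth.Agent.Lib.H6.LTApi

set_option autoImplicit false
set_option backward.isDefEq.respectTransparency.types false
set_option maxHeartbeats 1000000
set_option linter.all false
universe u
open LubinTate

namespace Groth.Agent.S15050
open Groth.Agent

/-- Let O be a discrete valuation ring with finite residue field of cardinality q, π a uniformizer of O,
and f = πT + T^q ∈ O[[T]]. For every α ∈ O there is a unique power series g = [α] ∈ O[[T]] with zero
constant term and linear coefficient α which commutes with f under substitution, g(f(T)) = f(g(T)).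
(The published statement is for the ring of integers of a finite extension of ℚ_p or of 𝔽_q((X));
completeness is not used and any discrete valuation ring with finite residue field is allowed here.) -/
theorem result (O : Type u) [CommRing O] [IsDomain O] [IsDiscreteValuationRing O]
    [Finite (IsLocalRing.ResidueField O)] (π : O) (hπ : Irreducible π) (f : PowerSeries O)
    (hf : f = π • PowerSeries.X + PowerSeries.X ^ Nat.card (IsLocalRing.ResidueField O)) (α : O) :
    ∃! g : PowerSeries O, g.constantCoeff = 0 ∧ g.coeff 1 = α ∧
      PowerSeries.subst g f = PowerSeries.subst f g := by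
    classical
    obtain ⟨g, hg, hgc⟩ := H6.LT.exists_cm (σ := Unit) hπ (fun _ => α)
    obtain ⟨h0, h1⟩ := (H6.LT.lin_unit_iff g α).1 hg
    refine ⟨g, ⟨h0, h1, (H6.LT.cm_unit_iff hf hg.low).2 hgc⟩, ?_⟩
    rintro g' ⟨h0', h1', h'⟩
    have hl := (H6.LT.lin_unit_iff g' α).2 ⟨h0', h1'⟩
    exact H6.LT.cm_unique hπ hg hl hgc ((H6.LT.cm_unit_iff hf hl.low).1 h')

end Groth.Agent.S15050
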