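import Groth.Statements.S15051
import Mathlib
import Groth.Agent.Lib.H6.LTApi

set_option autoImplicit false
set_option backward.isDefEq.respectTransparency.types false
set_option maxHeartbeats 1000000
set_option linter.all false
universe u
open LubinTate

namespace Groth.Agent.S15051
open Groth.Agent

/-- Let O be a discrete valuation ring with finite residue field of cardinality q, π a uniformizer of O,
and f = πT + T^q ∈ O[[T]]; let F be a one-dimensional formal group law over O for which f is an
endomorphism, f(F(X,Y)) = F(f(X), f(Y)), and g ∈ O[[T]] a power series with zero constant term which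
commutes with f, g(f(T)) = f(g(T)). Then g is an endomorphism of F, that is g(F(X,Y)) = F(g(X),
g(Y)); so α ↦ [α] maps O into the endomorphisms of the Lubin–Tate formal group. (The published
statement is for the ring of integers of a finite extension of ℚ_p or of 𝔽_q((X)); completeness is
not used and any discrete valuation ring with finite residue field is allowed here.) -/
theorem result (O : Type u) [CommRing O] [IsDomain O] [IsDiscreteValuationRing O]
    [Finite (IsLocalRing.ResidueField O)] (π : O) (hπ : Irreducible π) (f : PowerSeries O)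
    (hf : f = π • PowerSeries.X + PowerSeries.X ^ Nat.card (IsLocalRing.ResidueField O))
    (F : FormalGroup O)
    (hF : PowerSeries.subst F.toPowerSeries f =
        MvPowerSeries.subst (fun i : Fin 2 => PowerSeries.subst (MvPowerSeries.X i : MvPowerSeries (Fin 2) O) f) F.toPowerSeries)
    (g : PowerSeries O) (hg0 : g.constantCoeff = 0)
    (hgf : PowerSeries.subst g f = PowerSeries.subst f g) :
    PowerSeries.subst F.toPowerSeries g =
      MvPowerSeries.subst (fun i : Fin 2 => PowerSeries.subst (MvPowerSeries.X i : MvPowerSeries (Fin 2) O) g)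
        F.toPowerSeries := by
    classical
    have hq : 2 ≤ Nat.card (IsLocalRing.ResidueField O) := H6.LT.two_le_card
    have hFl : H6.LT.Lin F.toPowerSeries ![1, 1] := (H6.LT.lin_two_iff _).2 ⟨F.zero_constantCoeff, F.lin_coeff_X, F.lin_coeff_Y⟩
    have hFc := (H6.LT.cm_two_iff hf hFl.low).1 hF
    have hgl := (H6.LT.lin_unit_iff g (g.coeff 1)).2 ⟨hg0, rfl⟩
    have hgc := (H6.LT.cm_unit_iff hf hgl.low).1 hgf
    have hgX : ∀ i : Fin 2, H6.LT.Lin (PowerSeries.subst (MvPowerSeries.X i : MvPowerSeries (Fin 2) O) g) (fun j => g.coeff 1 * (Pi.single i (1 : O) : Fin 2 → O) j) := by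
      intro i
      have h := H6.LT.lin_comp hgl (a := fun _ : Unit => (MvPowerSeries.X i : MvPowerSeries (Fin 2) O)) (fun _ => H6.LT.lin_X i)
      simp only [Fintype.sum_unique] at h
      exact h
    have hgXc : ∀ i : Fin 2, H6.LT.Cm π (Nat.card (IsLocalRing.ResidueField O)) (PowerSeries.subst (MvPowerSeries.X i : MvPowerSeries (Fin 2) O) g) :=
      fun i => H6.LT.cm_comp (by omega) hgc (fun _ => H6.LT.low_X i) (fun _ => H6.LT.cm_X π (by omega) i)
    have lR := H6.LT.lin_comp hFl hgX
    have cR := H6.LT.cm_comp (by omega : 1 ≤ Nat.card (IsLocalRing.ResidueField O)) hFc (fun i => (hgX i).low) hgXc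
    have lL := H6.LT.lin_comp hgl (a := fun _ : Unit => F.toPowerSeries) (fun _ => hFl)
    have cL : H6.LT.Cm π (Nat.card (IsLocalRing.ResidueField O)) (PowerSeries.subst F.toPowerSeries g) :=
      H6.LT.cm_comp (by omega) hgc (fun _ => hFl.low) (fun _ => hFc)
    refine H6.LT.cm_unique hπ lR ?_ cR cL
    have e : (fun j => ∑ _i : Unit, g.coeff 1 * (![1, 1] : Fin 2 → O) j) =
        fun j => ∑ i : Fin 2, (![1, 1] : Fin 2 → O) i * (g.coeff 1 * (Pi.single i (1 : O) : Fin 2 → O) j) := by
      funext j; fin_cases j <;> simp [Fin.sum_univ_two]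
    rw [e] at lL
    exact lL

end Groth.Agent.S15051
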