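import Groth.Statements.S15052
import Mathlib
import Groth.Agent.Lib.H6.LTApi

set_option autoImplicit false
set_option backward.isDefEq.respectTransparency.types false
set_option maxHeartbeats 1000000
set_option linter.all false
universe u
open LubinTate

namespace Groth.Agent.S15052
open Groth.Agent

/-- Let O be a discrete valuation ring with finite residue field of cardinality q, π a uniformizer of O,
and f = πT + T^q ∈ O[[T]]; let K be the fraction field of O and F a one-dimensional formal group law
over O for which f is an endomorphism, f(F(X,Y)) = F(f(X), f(Y)). Then there is a unique power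
series ℓ ∈ K[[T]] with zero constant term and linear coefficient 1 such that ℓ(f(T)) = π·ℓ(T); this
logarithm is a homomorphism to the additive formal group, ℓ(F(T,S)) = ℓ(T) + ℓ(S), and it is
O-linear in the sense that ℓ(g(T)) = α·ℓ(T) for every α ∈ O and every series g ∈ O[[T]] with zero
constant term and linear coefficient α commuting with f. (The published statement is for the ring of
integers of a finite extension of ℚ_p; completeness is not used and any discrete valuation ring with
finite residue field is allowed here.) -/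
theorem result (O : Type u) [CommRing O] [IsDomain O] [IsDiscreteValuationRing O]
    [Finite (IsLocalRing.ResidueField O)] (K : Type u) [Field K] [Algebra O K] [IsFractionRing O K]
    (π : O) (hπ : Irreducible π) (f : PowerSeries O)
    (hf : f = π • PowerSeries.X + PowerSeries.X ^ Nat.card (IsLocalRing.ResidueField O))
    (F : FormalGroup O)
    (hF : PowerSeries.subst F.toPowerSeries f =
        MvPowerSeries.subst (fun i : Fin 2 => PowerSeries.subst (MvPowerSeries.X i : MvPowerSeries (Fin 2) O) f) F.toPowerSeries) :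
    ∃ ℓ : PowerSeries K, (ℓ.constantCoeff = 0 ∧ ℓ.coeff 1 = 1 ∧
      PowerSeries.subst (PowerSeries.map (algebraMap O K) f) ℓ = algebraMap O K π • ℓ) ∧
      (∀ ℓ' : PowerSeries K, ℓ'.constantCoeff = 0 → ℓ'.coeff 1 = 1 →
        PowerSeries.subst (PowerSeries.map (algebraMap O K) f) ℓ' = algebraMap O K π • ℓ' → ℓ' = ℓ) ∧
      PowerSeries.subst ((F.toPowerSeries).map (algebraMap O K)) ℓ =
        PowerSeries.subst (MvPowerSeries.X (0 : Fin 2) : MvPowerSeries (Fin 2) K) ℓ +
          PowerSeries.subst (MvPowerSeries.X (1 : Fin 2) : MvPowerSeries (Fin 2) K) ℓ ∧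
      (∀ (α : O) (g : PowerSeries O), g.constantCoeff = 0 → g.coeff 1 = α →
        PowerSeries.subst g f = PowerSeries.subst f g →
        PowerSeries.subst (PowerSeries.map (algebraMap O K) g) ℓ = algebraMap O K α • ℓ) := by
    classical
    set q := Nat.card (IsLocalRing.ResidueField O) with hqdef
    set π' : K := algebraMap O K π with hπ'
    set φ := algebraMap O K
    have hq : 2 ≤ q := H6.LT.two_le_card
    have hinj : Function.Injective φ := IsFractionRing.injective O K
    have hne : ∀ d, 2 ≤ d → π' - π' ^ d ≠ 0 := by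
      intro d hd h
      rw [hπ', ← map_pow, ← map_sub, map_eq_zero_iff _ hinj] at h
      exact one_ne_zero (H6.LT.regular hπ d hd 1 (by rw [h, zero_mul]))
    have hreg : ∀ d, 2 ≤ d → ∀ x : K, (π' - π' ^ d) * x = 0 → x = 0 := fun d hd x h =>
      (mul_eq_zero.1 h).resolve_left (hne d hd)
    obtain ⟨l, -, hl2, hlE⟩ := H6.LT.exists_sol (σ := Unit) (π := π') (q := q) hq H6.LT.nl_zero
      (∑ i : Unit, MvPowerSeries.C (1 : K) * MvPowerSeries.X i) (H6.LT.low_linForm _) (fun p _ e he =>
        ⟨-(MvPowerSeries.coeff e (H6.LT.E π' q (fun _ => 0) p) / (π' - π' ^ Finsupp.degree e)), by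
          rw [mul_neg, mul_div_cancel₀ _ (hne _ he), add_neg_cancel]⟩)
    have hlL : H6.LT.LinEq π' q l := by
      unfold H6.LT.LinEq
      simpa [H6.LT.E, sub_eq_zero] using hlE
    have hll : H6.LT.Lin l (fun _ => (1 : K)) := hl2
    obtain ⟨hl0, hl1⟩ := (H6.LT.lin_unit_iff (l : PowerSeries K) 1).1 hll
    have hfK : PowerSeries.map φ f = π' • PowerSeries.X + PowerSeries.X ^ q := by
      rw [hf, map_add, map_pow, PowerSeries.map_X, PowerSeries.smul_eq_C_mul, PowerSeries.smul_eq_C_mul, map_mul,
        PowerSeries.map_C, PowerSeries.map_X]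
    have hiff : ∀ p : PowerSeries K, PowerSeries.subst (PowerSeries.map φ f) p = π' • p ↔
        H6.LT.LinEq π' q (p : MvPowerSeries Unit K) := by
      intro p
      unfold H6.LT.LinEq
      rw [← H6.LT.fX_unit hfK, eq_comm, MvPowerSeries.smul_eq_C_mul]
      rfl
    refine ⟨l, ⟨hl0, hl1, (hiff l).2 hlL⟩, ?_, ?_, ?_⟩
    · intro l' h0 h1 h
      have hd := ((hiff l').1 h).sub (by omega) hlL
      have h2 := H6.LT.Low.sub ((H6.LT.lin_unit_iff l' 1).2 ⟨h0, h1⟩) hll
      rw [sub_sub_sub_cancel_right] at h2
      exact sub_eq_zero.1 (hd.eq_zero hq hreg h2)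
    · have hFl := H6.LT.lin_map φ ((H6.LT.lin_two_iff _).2 ⟨F.zero_constantCoeff, F.lin_coeff_X, F.lin_coeff_Y⟩)
      have hFc : H6.LT.Cm π' q (MvPowerSeries.map φ F.toPowerSeries) :=
        H6.LT.cm_map φ (by omega) ((H6.LT.cm_two_iff hf ((H6.LT.lin_two_iff _).2 ⟨F.zero_constantCoeff, F.lin_coeff_X, F.lin_coeff_Y⟩).low).1 hF)
      have hcomp : ∀ {a : MvPowerSeries (Fin 2) K}, H6.LT.Low 1 a → H6.LT.Cm π' q a → H6.LT.LinEq π' q (PowerSeries.subst a l) :=
        fun {a} ha hac => hlL.comp (by omega) (fun _ => ha) (fun _ => hac)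
      have hd := (hcomp hFl.low hFc).sub (by omega) (hcomp (H6.LT.low_X 0) (H6.LT.cm_X π' (by omega) 0))
      have hd2 := hd.sub (by omega) (hcomp (H6.LT.low_X 1) (H6.LT.cm_X π' (by omega) 1))
      have l1 := H6.LT.lin_comp hll (a := fun _ : Unit => MvPowerSeries.map φ F.toPowerSeries) (fun _ => hFl)
      have l2 := H6.LT.lin_comp hll (a := fun _ : Unit => (MvPowerSeries.X 0 : MvPowerSeries (Fin 2) K)) (fun _ => H6.LT.lin_X 0)
      have l3 := H6.LT.lin_comp hll (a := fun _ : Unit => (MvPowerSeries.X 1 : MvPowerSeries (Fin 2) K)) (fun _ => H6.LT.lin_X 1)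
      simp only [Fintype.sum_unique, one_mul] at l1 l2 l3
      have hlow : H6.LT.Low 2 (PowerSeries.subst (MvPowerSeries.map φ F.toPowerSeries) l -
          PowerSeries.subst (MvPowerSeries.X 0 : MvPowerSeries (Fin 2) K) l - PowerSeries.subst (MvPowerSeries.X 1 : MvPowerSeries (Fin 2) K) l) := by
        have h := (H6.LT.Low.sub l1 l2).sub l3
        have e : (∑ i : Fin 2, MvPowerSeries.C (φ ((![1, 1] : Fin 2 → O) i)) * MvPowerSeries.X i : MvPowerSeries (Fin 2) K) =
            (∑ i : Fin 2, MvPowerSeries.C ((Pi.single (0 : Fin 2) (1 : K) : Fin 2 → K) i) * MvPowerSeries.X i) +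
              ∑ i : Fin 2, MvPowerSeries.C ((Pi.single (1 : Fin 2) (1 : K) : Fin 2 → K) i) * MvPowerSeries.X i := by
          simp [Fin.sum_univ_two]
        rw [e] at h
        convert h using 1
        simp only [PowerSeries.subst]
        abel
      have := hd2.eq_zero hq hreg hlow
      rw [sub_sub, sub_eq_zero] at this
      exact this
    · intro α g h0 h1 hg
      have hgl := (H6.LT.lin_unit_iff g α).2 ⟨h0, h1⟩
      have hgK := H6.LT.lin_map φ hgl
      have hgc : H6.LT.Cm π' q (MvPowerSeries.map φ (g : MvPowerSeries Unit O)) :=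
        H6.LT.cm_map φ (by omega) ((H6.LT.cm_unit_iff hf hgl.low).1 hg)
      have hL : H6.LT.LinEq π' q ((PowerSeries.subst (PowerSeries.map φ g) l : PowerSeries K) : MvPowerSeries Unit K) :=
        hlL.comp (by omega) (fun _ => hgK.low) (fun _ => hgc)
      have hd := hL.sub (by omega) (hlL.smul (by omega) (φ α))
      have l1 := H6.LT.lin_comp hll (a := fun _ : Unit => MvPowerSeries.map φ (g : MvPowerSeries Unit O)) (fun _ => hgK)
      simp only [Fintype.sum_unique, one_mul] at l1
      have hlow : H6.LT.Low 2 (((PowerSeries.subst (PowerSeries.map φ g) l : PowerSeries K) : MvPowerSeries Unit K) -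
          MvPowerSeries.C (φ α) * l) := by
        intro e he
        have a := l1 e he
        have b := hll e he
        simp only [map_sub, MvPowerSeries.coeff_C_mul, Fintype.sum_unique, map_one, one_mul, sub_eq_zero] at a b ⊢
        rw [b]
        exact a
      have := sub_eq_zero.1 (hd.eq_zero hq hreg hlow)
      rw [MvPowerSeries.smul_eq_C_mul]
      exact this

end Groth.Agent.S15052
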