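import Groth.Statements.S15060
import Mathlib
import Groth.Agent.Lib.H6.LTApi

set_option autoImplicit false
set_option backward.isDefEq.respectTransparency.types false
set_option maxHeartbeats 1000000
set_option linter.all false
universe u
open LubinTate

namespace Groth.Agent.S15060
open Groth.Agent

/-- Let O be a discrete valuation ring with finite residue field of cardinality q, π a uniformizer of O,
f = πT + T^q ∈ O[[T]], and F a one-dimensional formal group law over O for which f is an
endomorphism, f(F(X,Y)) = F(f(X), f(Y)). For α ∈ O write [α] for a power series with zero constant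
term and linear coefficient α commuting with f (it is unique). Then for all α, β ∈ O and all such
series [α], [β], [αβ], [α+β] one has [α]([β](T)) = [αβ](T) and F([α](T), [β](T)) = [α+β](T): the map
α ↦ [α] is a ring homomorphism from O to the endomorphisms of F with their formal-group addition and
composition. (The published statement is for the ring of integers of a finite extension of ℚ_p or of
𝔽_q((X)); completeness is not used and any discrete valuation ring with finite residue field is
allowed here.) -/
theorem result (O : Type u) [CommRing O] [IsDomain O] [IsDiscreteValuationRing O]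
    [Finite (IsLocalRing.ResidueField O)] (π : O) (hπ : Irreducible π) (f : PowerSeries O)
    (hf : f = π • PowerSeries.X + PowerSeries.X ^ Nat.card (IsLocalRing.ResidueField O))
    (F : FormalGroup O)
    (hF : PowerSeries.subst F.toPowerSeries f =
        MvPowerSeries.subst (fun i : Fin 2 => PowerSeries.subst (MvPowerSeries.X i : MvPowerSeries (Fin 2) O) f)
          F.toPowerSeries)
    (α β : O) (gα gβ gαβ gs : PowerSeries O)
    (hα0 : gα.constantCoeff = 0) (hα1 : gα.coeff 1 = α) (hαf : PowerSeries.subst gα f = PowerSeries.subst f gα)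
    (hβ0 : gβ.constantCoeff = 0) (hβ1 : gβ.coeff 1 = β) (hβf : PowerSeries.subst gβ f = PowerSeries.subst f gβ)
    (hαβ0 : gαβ.constantCoeff = 0) (hαβ1 : gαβ.coeff 1 = α * β)
    (hαβf : PowerSeries.subst gαβ f = PowerSeries.subst f gαβ)
    (hs0 : gs.constantCoeff = 0) (hs1 : gs.coeff 1 = α + β) (hsf : PowerSeries.subst gs f = PowerSeries.subst f gs) :
    PowerSeries.subst gβ gα = gαβ ∧ F.toPowerSeries.subst ![gα, gβ] = gs := by
    classical
    have hq : 2 ≤ Nat.card (IsLocalRing.ResidueField O) := H6.LT.two_le_card
    have hFl : H6.LT.Lin F.toPowerSeries ![1, 1] := (H6.LT.lin_two_iff _).2 ⟨F.zero_constantCoeff, F.lin_coeff_X, F.lin_coeff_Y⟩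
    have hFc := (H6.LT.cm_two_iff hf hFl.low).1 hF
    have la := (H6.LT.lin_unit_iff gα α).2 ⟨hα0, hα1⟩
    have ca := (H6.LT.cm_unit_iff hf la.low).1 hαf
    have lb := (H6.LT.lin_unit_iff gβ β).2 ⟨hβ0, hβ1⟩
    have cb := (H6.LT.cm_unit_iff hf lb.low).1 hβf
    have lab := (H6.LT.lin_unit_iff gαβ (α * β)).2 ⟨hαβ0, hαβ1⟩
    have cab := (H6.LT.cm_unit_iff hf lab.low).1 hαβf
    have ls := (H6.LT.lin_unit_iff gs (α + β)).2 ⟨hs0, hs1⟩
    have cs := (H6.LT.cm_unit_iff hf ls.low).1 hsf
    constructor
    · have l := H6.LT.lin_comp la (a := fun _ : Unit => (gβ : MvPowerSeries Unit O)) (fun _ => lb)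
      simp only [Fintype.sum_unique] at l
      exact H6.LT.cm_unique hπ lab l cab (H6.LT.cm_comp (by omega) ca (fun _ => lb.low) (fun _ => cb))
    · have hl : ∀ i : Fin 2, H6.LT.Lin ((![gα, gβ] : Fin 2 → MvPowerSeries Unit O) i) ((![fun _ => α, fun _ => β] : Fin 2 → Unit → O) i) := by
        intro i; fin_cases i
        · exact la
        · exact lb
      have l := H6.LT.lin_comp hFl hl
      simp only [Fin.sum_univ_two, Matrix.cons_val_zero, Matrix.cons_val_one, Matrix.cons_val_fin_one, one_mul] at l
      refine H6.LT.cm_unique hπ ls l cs (H6.LT.cm_comp (by omega) hFc (fun i => (hl i).low) fun i => ?_)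
      fin_cases i
      · exact ca
      · exact cb

end Groth.Agent.S15060
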