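import Groth.Statements.S15064
import Mathlib
import Groth.Agent.Lib.H8FiniteHopf

set_option autoImplicit false
universe u
open scoped TensorProduct
open Hopf

namespace Groth.Agent.S15064
open WithConv TensorProduct in
/-- A Hopf algebra with local dual and more than one dimension has a nonzero primitive element. -/
theorem exists_primitive (k : Type u) [Field k] (A : Type u) [CommRing A] [HopfAlgebra k A]
    [Coalgebra.IsCocomm k A] [FiniteDimensional k A] (hdual : IsLocalRing (WithConv (A →ₗ[k] k)))
    (hA : 1 < Module.finrank k A) :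
    ∃ x : A, x ≠ 0 ∧ CoalgebraStruct.comul (R := k) x = x ⊗ₜ[k] (1 : A) + (1 : A) ⊗ₜ[k] x ∧
      CoalgebraStruct.counit (R := k) x = 0 := by
  classical
  let D := WithConv (A →ₗ[k] k)
  let E := WithConv.linearEquiv k (A →ₗ[k] k)
  haveI : Module.Finite k D := Module.Finite.of_surjective E.symm.toLinearMap E.symm.surjective
  haveI : IsNoetherianRing D := isNoetherian_of_tower k inferInstance
  have hmul : ∀ φ ψ : D, (φ * ψ).ofConv (1 : A) = φ.ofConv 1 * ψ.ofConv 1 := fun φ ψ => by
    rw [LinearMap.convMul_apply, Bialgebra.comul_one, Algebra.TensorProduct.one_def]; simp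
  have hone : ((1 : D)).ofConv (1 : A) = 1 := by simp
  let χ : D →ₐ[k] k := AlgHom.ofLinearMap ((LinearMap.applyₗ (1 : A)).comp E.toLinearMap) hone hmul
  let m := IsLocalRing.maximalIdeal D
  have hχ : ∀ z, z ∈ m ↔ χ z = 0 := by
    have h : RingHom.ker χ.toRingHom = m := IsLocalRing.eq_maximalIdeal (RingHom.ker_isMaximal_of_surjective χ.toRingHom
      (fun c => ⟨algebraMap k D c, χ.commutes c⟩))
    intro z
    rw [← h]
    exact RingHom.mem_ker
  have hm : m ≠ ⊥ := by
    intro hbot
    have hinj : Function.Injective χ := (injective_iff_map_eq_zero χ).mpr fun z hz => by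
      have := (hχ z).mpr hz
      rw [hbot] at this
      exact this
    have h1 : Module.finrank k D ≤ Module.finrank k k := LinearMap.finrank_le_finrank_of_injective (f := χ.toLinearMap) hinj
    rw [E.finrank_eq, Module.finrank_linearMap, Module.finrank_self, mul_one] at h1
    omega
  have hm2 : m * m ≠ m := fun h => hm (Submodule.eq_bot_of_le_smul_of_le_jacobson_bot m m (IsNoetherian.noetherian m)
    (by rw [smul_eq_mul, h]) (IsLocalRing.maximalIdeal_le_jacobson _))
  obtain ⟨z₀, hz₀, hz₀2⟩ := SetLike.exists_of_lt (lt_of_le_of_ne Ideal.mul_le_left hm2)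
  let U : Submodule k D := (m * m).restrictScalars k ⊔ Submodule.span k {1}
  have hz₀U : z₀ ∉ U := by
    intro h
    obtain ⟨u, hu, v, hv, huv⟩ := Submodule.mem_sup.mp h
    obtain ⟨c, rfl⟩ := Submodule.mem_span_singleton.mp hv
    have hu' : χ u = 0 := (hχ u).mp (Ideal.mul_le_left hu)
    have h0 := congrArg χ huv
    rw [map_add, map_smul, map_one, hu', (hχ z₀).mp hz₀, zero_add, smul_eq_mul, mul_one] at h0
    rw [h0, zero_smul, add_zero] at huv
    exact hz₀2 (huv ▸ hu)
  obtain ⟨L₀, hL₀, hLU⟩ := Submodule.exists_le_ker_of_lt_top U (lt_top_iff_ne_top.mpr fun h => hz₀U (h ▸ Submodule.mem_top))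
  let L : Module.Dual k (Module.Dual k A) := L₀ ∘ₗ E.symm.toLinearMap
  let x := (Module.evalEquiv k A).symm L
  have hx : ∀ φ : A →ₗ[k] k, φ x = L₀ (toConv φ) := fun φ => Module.apply_evalEquiv_symm_apply k A φ L
  have hL1 : L₀ 1 = 0 := hLU (Submodule.mem_sup_right (Submodule.mem_span_singleton_self _))
  have hε : CoalgebraStruct.counit (R := k) x = 0 := by
    rw [hx, show (toConv (CoalgebraStruct.counit (R := k) (A := A)) : D) = 1 by
      refine WithConv.ext (LinearMap.ext fun y => ?_); simp, hL1]
  have hbil : ∀ φ ψ : D, L₀ (φ * ψ) = L₀ φ * χ ψ + χ φ * L₀ ψ := by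
    intro φ ψ
    have hA1 : ∀ w : D, w - χ w • 1 ∈ m := fun w => by
      rw [hχ, map_sub, map_smul, map_one, smul_eq_mul, mul_one, sub_self]
    have h0 : L₀ ((φ - χ φ • 1) * (ψ - χ ψ • 1)) = 0 :=
      hLU (Submodule.mem_sup_left (Ideal.mul_mem_mul (hA1 φ) (hA1 ψ)))
    have e : (φ - χ φ • 1) * (ψ - χ ψ • 1) = φ * ψ - χ ψ • φ - χ φ • ψ + (χ φ * χ ψ) • (1 : D) := by
      simp only [Algebra.smul_def, map_mul]
      ring
    rw [e, map_add, map_sub, map_sub, map_smul, map_smul, map_smul, hL1, smul_eq_mul, smul_eq_mul, smul_eq_mul] at h0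
    linear_combination h0
  refine ⟨x, fun h0 => hL₀ (LinearMap.ext fun w => ?_), ?_, hε⟩
  · have := hx w.ofConv
    rw [h0, map_zero, WithConv.toConv_ofConv] at this
    exact this.symm
  · let b := Module.finBasis k A
    refine (b.tensorProduct b).repr.injective (Finsupp.ext fun ij => ?_)
    obtain ⟨i, j⟩ := ij
    have key : ∀ z : A ⊗[k] A, (b.tensorProduct b).repr z (i, j) =
        LinearMap.mul' k k (TensorProduct.map (b.coord i) (b.coord j) z) := by
      intro z
      induction z using TensorProduct.induction_on with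
      | zero => simp
      | tmul x y => simp; ring
      | add x y hx hy => simp only [map_add, Finsupp.add_apply, hx, hy]
    rw [key, key]
    have h2 := hx (toConv (b.coord i) * toConv (b.coord j) : D).ofConv
    rw [WithConv.toConv_ofConv, hbil, LinearMap.convMul_apply] at h2
    rw [← hx, ← hx] at h2
    rw [map_add, map_add, TensorProduct.map_tmul, TensorProduct.map_tmul, LinearMap.mul'_apply, LinearMap.mul'_apply]
    exact h2

open TensorProduct in
/-- A nilpotent primitive element of index at most `p` has index `p`. -/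
theorem linearIndependent_pow_primitive (k : Type u) [Field k] (p : ℕ) [Fact p.Prime] [CharP k p]
    (A : Type u) [CommRing A] [HopfAlgebra k A] (x : A) (hx0 : x ≠ 0)
    (hx : CoalgebraStruct.comul (R := k) x = x ⊗ₜ[k] (1 : A) + (1 : A) ⊗ₜ[k] x) (hxp : x ^ p = 0) :
    LinearIndependent k (fun i : Fin p => x ^ (i : ℕ)) := by
  classical
  haveI := Groth.Agent.H8FiniteHopf.nontrivial_self k A
  have hex : ∃ n, x ^ n = 0 := ⟨p, hxp⟩
  let n := Nat.find hex
  have hn : x ^ n = 0 := Nat.find_spec hex
  have hlt : ∀ i < n, x ^ i ≠ 0 := fun i hi => Nat.find_min hex hi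
  have hn2 : 2 ≤ n := by
    by_contra h
    push Not at h
    interval_cases hn' : n
    · rw [pow_zero] at hn; exact one_ne_zero hn
    · rw [pow_one] at hn; exact hx0 hn
  have hnp : n ≤ p := Nat.find_le hxp
  have hli : LinearIndependent k (fun i : Fin n => x ^ (i : ℕ)) := by
    rw [Fintype.linearIndependent_iff]
    intro c hc
    by_contra hne
    push Not at hne
    obtain ⟨i, hi⟩ := hne
    let S := Finset.univ.filter fun i : Fin n => c i ≠ 0
    have hS : S.Nonempty := ⟨i, by simp [S, hi]⟩
    let a := S.min' hS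
    have ha : c a ≠ 0 := (Finset.mem_filter.mp (S.min'_mem hS)).2
    have hmul := congrArg (fun z => z * x ^ (n - 1 - (a : ℕ))) hc
    simp only [zero_mul, Finset.sum_mul] at hmul
    rw [Finset.sum_eq_single a (fun j _ hj => ?_) (by simp)] at hmul
    · rw [smul_mul_assoc, ← pow_add, show (a : ℕ) + (n - 1 - a) = n - 1 by omega, smul_eq_zero] at hmul
      exact hlt (n - 1) (by omega) (hmul.resolve_left ha)
    · by_cases hcj : c j = 0
      · rw [hcj, zero_smul, zero_mul]
      · have hle : a ≤ j := S.min'_le j (by simp [S, hcj])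
        have hlt' : (a : ℕ) < j := lt_of_le_of_ne hle fun h => hj (Fin.ext h.symm)
        rw [smul_mul_assoc, ← pow_add, pow_eq_zero_of_le (by omega) hn, smul_zero]
  suffices hpn : n = p by
    have h := hli.comp (Fin.cast hpn.symm) (Fin.cast_injective _)
    exact h
  let V := Submodule.span k (Set.range fun i : Fin n => x ^ (i : ℕ))
  let bV := Module.Basis.span hli
  obtain ⟨π, hπ⟩ := V.subtype.exists_leftInverse_of_injective V.ker_subtype
  let co : Fin n → A →ₗ[k] k := fun i => bV.coord i ∘ₗ π
  have hco : ∀ i j : Fin n, co i (x ^ (j : ℕ)) = if i = j then 1 else 0 := by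
    intro i j
    have h1 : π (x ^ (j : ℕ)) = bV j := by
      refine (congrArg π ?_).trans (LinearMap.congr_fun hπ (bV j))
      show x ^ (j : ℕ) = (bV j : A)
      rw [Module.Basis.span_apply]
    show bV.coord i (π (x ^ (j : ℕ))) = _
    rw [h1, Module.Basis.coord_apply, Module.Basis.repr_self, Finsupp.single_apply]
    simp [eq_comm]
  have hcomul : CoalgebraStruct.comul (R := k) (x ^ n) =
      ∑ j ∈ Finset.range (n + 1), (n.choose j : k) • ((x ^ j) ⊗ₜ[k] (x ^ (n - j))) := by
    show Bialgebra.comulAlgHom k A (x ^ n) = _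
    rw [map_pow, show Bialgebra.comulAlgHom k A x = x ⊗ₜ[k] (1 : A) + (1 : A) ⊗ₜ[k] x from hx, add_pow]
    refine Finset.sum_congr rfl fun j _ => ?_
    rw [Algebra.TensorProduct.tmul_pow, Algebra.TensorProduct.tmul_pow, one_pow, one_pow,
      Algebra.TensorProduct.tmul_mul_tmul, mul_one, one_mul, Nat.cast_smul_eq_nsmul, nsmul_eq_mul]
    ring
  have key := congrArg (fun z => LinearMap.mul' k k (TensorProduct.map (co ⟨1, by omega⟩) (co ⟨n - 1, by omega⟩) z)) hcomul
  simp only [hn, map_zero, map_sum] at key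
  rw [Finset.sum_eq_single 1 (fun j hj hj1 => ?_) (by simp; omega)] at key
  · rw [map_smul, map_smul, TensorProduct.map_tmul, LinearMap.mul'_apply, hco _ ⟨1, by omega⟩, if_pos rfl,
      hco _ ⟨n - 1, by omega⟩, if_pos rfl, mul_one, Nat.choose_one_right, smul_eq_mul, mul_one] at key
    exact le_antisymm hnp (Nat.le_of_dvd (by omega) ((CharP.cast_eq_zero_iff k p n).mp key.symm))
  · rw [map_smul, map_smul, TensorProduct.map_tmul, LinearMap.mul'_apply]
    rcases Nat.lt_or_ge j n with h | h
    · rw [hco _ ⟨j, h⟩, if_neg (fun he => hj1 (congrArg Fin.val he).symm), zero_mul, smul_zero]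
    · rw [pow_eq_zero_of_le h hn, map_zero, zero_mul, smul_zero]


/-- Let k be a field of characteristic p > 0 and A a finite-dimensional commutative and cocommutative
Hopf algebra over k (a finite commutative k-group G = Spec A) which is bi-infinitesimal — A is a
local ring and so is the dual algebra Hom_k(A, k) with the convolution product (G and its Cartier
dual are connected) — with dim_k A > 1, and assume G is simple: every Hopf ideal of A is either zero
or the augmentation ideal (G has no closed subgroup schemes other than G and 1). Then G is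
isomorphic to α_p: A has a primitive element x (Δ(x) = x ⊗ 1 + 1 ⊗ x) with x^p = 0 whose powers 1,
x, …, x^(p−1) are linearly independent over k, and dim_k A = p (so A = k[x]/(x^p) with x primitive). -/
theorem result (k : Type u) [Field k] (p : ℕ) [Fact p.Prime] [CharP k p]
    (A : Type u) [CommRing A] [HopfAlgebra k A] [Coalgebra.IsCocomm k A] [FiniteDimensional k A] [IsLocalRing A]
    (hdual : IsLocalRing (WithConv (A →ₗ[k] k))) (hA : 1 < Module.finrank k A)
    (hsimple : ∀ I : Ideal A, I.IsHopfIdeal k → I = ⊥ ∨ I = RingHom.ker (Bialgebra.counitAlgHom k A)) :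
    ∃ x : A, Coalgebra.comul x = x ⊗ₜ[k] (1 : A) + (1 : A) ⊗ₜ[k] x ∧ x ^ p = 0 ∧
      LinearIndependent k (fun i : Fin p => x ^ (i : ℕ)) ∧ Module.finrank k A = p := by
  classical
  obtain ⟨x, hx0, hx, hεx⟩ := exists_primitive k A hdual hA
  haveI : IsArtinianRing A := isArtinian_of_tower k inferInstance
  haveI := Groth.Agent.H8FiniteHopf.charP_self k A p
  haveI := Groth.Agent.H8FiniteHopf.charP_tensor (k := k) (A := A) p
  have hnil : ∀ y : A, CoalgebraStruct.counit (R := k) y = 0 → IsNilpotent y := fun y hy => by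
    refine mem_nilradical.mp ?_
    rw [Ring.KrullDimLE.nilradical_eq_maximalIdeal]
    intro hu
    have h2 := hu.map (Bialgebra.counitAlgHom k A)
    rw [show Bialgebra.counitAlgHom k A y = 0 from hy] at h2
    exact not_isUnit_zero h2
  have hspan : ∀ y : A, CoalgebraStruct.comul (R := k) y = y ⊗ₜ[k] (1 : A) + (1 : A) ⊗ₜ[k] y →
      CoalgebraStruct.counit (R := k) y = 0 → (Ideal.span {y}).IsHopfIdeal k := by
    intro y hy hεy
    let J := Ideal.span {y}
    have hq : Ideal.Quotient.mkₐ k J y = 0 := Ideal.Quotient.eq_zero_iff_mem.mpr (Ideal.mem_span_singleton_self y)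
    refine { toIsCoideal := Groth.Agent.H8FiniteHopf.isCoideal_of_mkₐ J (fun z hz => ?_) (fun z hz => ?_),
             antipode_mem := fun z hz => ?_ }
    · obtain ⟨r, rfl⟩ := Ideal.mem_span_singleton'.mp hz
      show Bialgebra.counitAlgHom k A (r * y) = 0
      rw [map_mul, show Bialgebra.counitAlgHom k A y = 0 from hεy, mul_zero]
    · obtain ⟨r, rfl⟩ := Ideal.mem_span_singleton'.mp hz
      show (Algebra.TensorProduct.map (Ideal.Quotient.mkₐ k J) (Ideal.Quotient.mkₐ k J))
        (Bialgebra.comulAlgHom k A (r * y)) = 0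
      rw [map_mul, map_mul, show Bialgebra.comulAlgHom k A y = _ from hy, map_add, Algebra.TensorProduct.map_tmul,
        Algebra.TensorProduct.map_tmul, hq, TensorProduct.zero_tmul, TensorProduct.tmul_zero, add_zero, mul_zero]
    · obtain ⟨r, rfl⟩ := Ideal.mem_span_singleton'.mp hz
      show HopfAlgebra.antipodeAlgHom k A (r * y) ∈ J
      have h := HopfAlgebra.mul_antipode_rTensor_comul_apply (R := k) y
      rw [hy, hεy, map_zero, map_add, LinearMap.rTensor_tmul, LinearMap.rTensor_tmul, map_add, LinearMap.mul'_apply,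
        LinearMap.mul'_apply, HopfAlgebra.antipode_one, mul_one, one_mul] at h
      rw [map_mul, show HopfAlgebra.antipodeAlgHom k A y = -y from eq_neg_of_add_eq_zero_left h, mul_neg]
      exact neg_mem (Ideal.mul_mem_left _ _ (Ideal.mem_span_singleton_self y))
  have hxp : x ^ p = 0 := by
    have hc1 : CoalgebraStruct.comul (R := k) (x ^ p) = (x ^ p) ⊗ₜ[k] (1 : A) + (1 : A) ⊗ₜ[k] (x ^ p) := by
      show Bialgebra.comulAlgHom k A (x ^ p) = _
      rw [map_pow, show Bialgebra.comulAlgHom k A x = _ from hx, add_pow_char, Algebra.TensorProduct.tmul_pow,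
        Algebra.TensorProduct.tmul_pow, one_pow]
    have hc2 : CoalgebraStruct.counit (R := k) (x ^ p) = 0 := by
      show Bialgebra.counitAlgHom k A (x ^ p) = 0
      rw [map_pow, show Bialgebra.counitAlgHom k A x = 0 from hεx, zero_pow (Fact.out : p.Prime).ne_zero]
    rcases hsimple _ (hspan (x ^ p) hc1 hc2) with h | h
    · exact (Submodule.mem_bot A).mp (h ▸ Ideal.mem_span_singleton_self _)
    · obtain ⟨r, hr⟩ := Ideal.mem_span_singleton'.mp ((SetLike.ext_iff.mp h x).mpr hεx)
      have hu : IsUnit (1 - r * x ^ (p - 1)) :=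
        IsNilpotent.isUnit_one_sub ((Commute.all _ _).isNilpotent_mul_left
          ((hnil x hεx).pow_of_pos (Nat.sub_pos_of_lt (Fact.out : p.Prime).one_lt).ne'))
      have h2 : (1 - r * x ^ (p - 1)) * x = 0 := by
        rw [sub_mul, one_mul, mul_assoc, ← pow_succ, Nat.sub_add_cancel (Fact.out : p.Prime).one_le, hr, sub_self]
      exact absurd (hu.mul_right_eq_zero.mp h2) hx0
  have hli := linearIndependent_pow_primitive k p A x hx0 hx hxp
  refine ⟨x, hx, hxp, hli, ?_⟩
  rcases hsimple _ (hspan x hx hεx) with h | h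
  · exact absurd ((Submodule.mem_bot A).mp (h ▸ Ideal.mem_span_singleton_self x)) hx0
  let V := Submodule.span k (Set.range fun i : Fin p => x ^ (i : ℕ))
  have hVx : ∀ v ∈ V, x * v ∈ V := by
    intro v hv
    induction hv using Submodule.span_induction with
    | mem y hy =>
      obtain ⟨i, rfl⟩ := hy
      show x * x ^ (i : ℕ) ∈ V
      rw [← pow_succ']
      by_cases hi : (i : ℕ) + 1 < p
      · exact Submodule.subset_span ⟨⟨(i : ℕ) + 1, hi⟩, rfl⟩
      · rw [pow_eq_zero_of_le (not_lt.mp hi) hxp]
        exact zero_mem V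
    | zero => rw [mul_zero]; exact zero_mem V
    | add y z _ _ hy hz => rw [mul_add]; exact add_mem hy hz
    | smul c y _ hy => rw [mul_smul_comm]; exact V.smul_mem c hy
  have h1V : (1 : A) ∈ V := Submodule.subset_span ⟨⟨0, (Fact.out : p.Prime).pos⟩, pow_zero x⟩
  have hall : ∀ (j : ℕ) (a : A), ∃ v ∈ V, ∃ b : A, a = v + x ^ j * b := by
    intro j
    induction j with
    | zero => intro a; exact ⟨0, zero_mem V, a, by simp⟩
    | succ j ih =>
      intro a
      obtain ⟨v, hv, b, rfl⟩ := ih a
      have hb : b - algebraMap k A (CoalgebraStruct.counit (R := k) b) ∈ Ideal.span {x} := by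
        rw [h]
        show Bialgebra.counitAlgHom k A _ = 0
        rw [map_sub, AlgHom.commutes]
        show CoalgebraStruct.counit (R := k) b - CoalgebraStruct.counit (R := k) b = 0
        exact sub_self _
      obtain ⟨b', hb'⟩ := Ideal.mem_span_singleton'.mp hb
      refine ⟨v + CoalgebraStruct.counit (R := k) b • x ^ j, add_mem hv (V.smul_mem _ ?_), b', ?_⟩
      · by_cases hj : j < p
        · exact Submodule.subset_span ⟨⟨j, hj⟩, rfl⟩
        · rw [pow_eq_zero_of_le (not_lt.mp hj) hxp]; exact zero_mem V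
      · rw [Algebra.smul_def, pow_succ]
        linear_combination -(x ^ j) * hb'
  have htop : V = ⊤ := by
    refine top_le_iff.mp fun a _ => ?_
    obtain ⟨v, hv, b, rfl⟩ := hall p a
    rw [hxp, zero_mul, add_zero]
    exact hv
  rw [Module.finrank_eq_card_basis (Module.Basis.mk hli htop.ge), Fintype.card_fin]

end Groth.Agent.S15064
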