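import Groth.Statements.S15066
import Mathlib
import Groth.Agent.Lib.H8FiniteHopf

set_option autoImplicit false
universe u
open Hopf

namespace Groth.Agent.S15066
open WithConv TensorProduct in
/-- A finite dimensional cocommutative Hopf algebra with reduced dual is spanned by its group-like elements. -/
theorem span_groupLike_eq_top (k : Type u) [Field k] [IsAlgClosed k] (A : Type u) [CommRing A] [HopfAlgebra k A]
    [Coalgebra.IsCocomm k A] [FiniteDimensional k A] (hdual : IsReduced (WithConv (A →ₗ[k] k))) :
    Submodule.span k (Set.range (GroupLike.val (R := k) (A := A))) = ⊤ := by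
  classical
  let D := WithConv (A →ₗ[k] k)
  haveI : Module.Finite k D := Module.Finite.of_surjective (WithConv.linearEquiv k (A →ₗ[k] k)).symm.toLinearMap
    (WithConv.linearEquiv k (A →ₗ[k] k)).symm.surjective
  by_contra hne
  obtain ⟨f, hf, hf0⟩ : ∃ f : A →ₗ[k] k, f ≠ 0 ∧ ∀ g : GroupLike k A, f g.val = 0 := by
    obtain ⟨f, hf, hle⟩ := Submodule.exists_le_ker_of_lt_top _ (lt_top_iff_ne_top.mpr hne)
    exact ⟨f, hf, fun g => hle (Submodule.subset_span ⟨g, rfl⟩)⟩
  refine hf (WithConv.toConv_injective ?_)
  refine (?_ : IsNilpotent (toConv f : D)).eq_zero.trans rfl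
  refine mem_nilradical.mp ?_
  rw [nilradical_eq_sInf]
  refine Submodule.mem_sInf.mpr fun (Q : Ideal D) (hQ : Q.IsPrime) => ?_
  haveI : Q.IsPrime := hQ
  haveI : Module.Finite k (D ⧸ Q) := Module.Finite.of_surjective (Ideal.Quotient.mkₐ k Q).toLinearMap
    Ideal.Quotient.mk_surjective
  let ν := AlgEquiv.ofBijective (Algebra.ofId k (D ⧸ Q)) (IsAlgClosed.algebraMap_bijective_of_isIntegral (k := k))
  let χ : D →ₐ[k] k := ν.symm.toAlgHom.comp (Ideal.Quotient.mkₐ k Q)
  let L : Module.Dual k (Module.Dual k A) := χ.toLinearMap ∘ₗ (WithConv.linearEquiv k (A →ₗ[k] k)).symm.toLinearMap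
  let a := (Module.evalEquiv k A).symm L
  have ha : ∀ φ : A →ₗ[k] k, φ a = χ (toConv φ) := fun φ => Module.apply_evalEquiv_symm_apply k A φ L
  have hg : IsGroupLikeElem k a := by
    refine ⟨?_, ?_⟩
    · have h1 := ha (CoalgebraStruct.counit (R := k))
      rw [show (toConv (CoalgebraStruct.counit (R := k) (A := A)) : D) = 1 by
        refine WithConv.ext (LinearMap.ext fun x => ?_); simp, map_one] at h1
      exact h1
    · let b := Module.finBasis k A
      refine (b.tensorProduct b).repr.injective (Finsupp.ext fun ij => ?_)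
      obtain ⟨i, j⟩ := ij
      have key : ∀ z : A ⊗[k] A, (b.tensorProduct b).repr z (i, j) =
          LinearMap.mul' k k (TensorProduct.map (b.coord i) (b.coord j) z) := by
        intro z
        induction z using TensorProduct.induction_on with
        | zero => simp
        | tmul x y => simp; ring
        | add x y hx hy => simp only [map_add, Finsupp.add_apply, hx, hy]
      rw [key, key]
      have h2 := ha (toConv (b.coord i) * toConv (b.coord j) : D).ofConv
      rw [WithConv.toConv_ofConv, map_mul, ← ha, ← ha, LinearMap.convMul_apply] at h2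
      simpa using h2
  have h3 : χ (toConv f) = 0 := by rw [← ha]; exact hf0 ⟨a, hg⟩
  exact Ideal.Quotient.eq_zero_iff_mem.mp (ν.symm.injective (h3.trans (map_zero _).symm))


/-- Let k be an algebraically closed field of characteristic p > 0 and A a finite-dimensional
commutative and cocommutative Hopf algebra over k (a finite commutative k-group G = Spec A) which is
a local ring (G connected) and whose dual algebra Hom_k(A, k) with the convolution product is
reduced (the Cartier dual of G is étale, i.e. G is multiplicative), with dim_k A > 1, and assume G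
is simple: every Hopf ideal of A is either zero or the augmentation ideal (no closed subgroup
schemes other than G and 1). Then G is isomorphic to μ_p: A has a group-like element g (Δ(g) = g ⊗
g, ε(g) = 1) with g^p = 1 whose powers 1, g, …, g^(p−1) are linearly independent over k, and dim_k A
= p (so A = k[g]/(g^p − 1)). -/
theorem result (k : Type u) [Field k] [IsAlgClosed k] (p : ℕ) [Fact p.Prime]
    [CharP k p] (A : Type u) [CommRing A] [HopfAlgebra k A] [Coalgebra.IsCocomm k A] [FiniteDimensional k A]
    [IsLocalRing A] (hdual : IsReduced (WithConv (A →ₗ[k] k))) (hA : 1 < Module.finrank k A)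
    (hsimple : ∀ I : Ideal A, I.IsHopfIdeal k → I = ⊥ ∨ I = RingHom.ker (Bialgebra.counitAlgHom k A)) :
    ∃ g : A, IsGroupLikeElem k g ∧ g ^ p = 1 ∧ LinearIndependent k (fun i : Fin p => g ^ (i : ℕ)) ∧
      Module.finrank k A = p := by
  classical
  have htop := span_groupLike_eq_top k A hdual
  haveI hch : CharP A p := Groth.Agent.H8FiniteHopf.charP_self k A p
  have hnil : ∀ h : GroupLike k A, ∃ m : ℕ, h ^ p ^ m = 1 := by
    intro h
    have h1 : IsNilpotent (h.val - 1) := by
      refine mem_nilradical.mp ?_
      haveI : IsArtinianRing A := isArtinian_of_tower k inferInstance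
      rw [Ring.KrullDimLE.nilradical_eq_maximalIdeal]
      intro hu
      have h2 := hu.map (Bialgebra.counitAlgHom k A)
      rw [map_sub, map_one, show Bialgebra.counitAlgHom k A h.val = 1 from h.2.counit_eq_one, sub_self] at h2
      exact not_isUnit_zero h2
    obtain ⟨m, hm⟩ := h1
    refine ⟨m, GroupLike.val_injective ?_⟩
    rw [GroupLike.val_pow, GroupLike.val_one, ← sub_eq_zero]
    have h3 : (h.val - 1) ^ p ^ m = h.val ^ p ^ m - 1 := by rw [sub_pow_char_pow (p := p), one_pow]
    rw [← h3]
    exact pow_eq_zero_of_le (Nat.lt_pow_self (Fact.out : p.Prime).one_lt).le hm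
  obtain ⟨h₀, hh₀⟩ : ∃ h : GroupLike k A, h ≠ 1 := by
    by_contra hcon
    push Not at hcon
    have h1 : (Submodule.span k {(1 : A)}) = ⊤ := by
      refine top_le_iff.mp (htop.ge.trans (Submodule.span_le.mpr ?_))
      rintro _ ⟨h, rfl⟩
      rw [hcon h]
      exact Submodule.mem_span_singleton_self _
    have h2 := finrank_span_singleton (K := k) (one_ne_zero (α := A))
    rw [h1, finrank_top] at h2
    omega
  have hfin : IsOfFinOrder h₀ := by
    obtain ⟨m, hm⟩ := hnil h₀
    exact isOfFinOrder_iff_pow_eq_one.mpr ⟨p ^ m, pow_pos (Fact.out : p.Prime).pos m, hm⟩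
  obtain ⟨g, hg1, hg⟩ : ∃ g : GroupLike k A, g ^ p = 1 ∧ g ≠ 1 := by
    obtain ⟨m, hm⟩ := hnil h₀
    clear hfin
    induction m generalizing h₀ with
    | zero => rw [pow_zero, pow_one] at hm; exact absurd hm hh₀
    | succ m ih =>
      by_cases h : h₀ ^ p = 1
      · exact ⟨h₀, h, hh₀⟩
      · exact ih (h₀ ^ p) h (by rw [← pow_mul, ← pow_succ']; exact hm)
  have hord : orderOf g = p := orderOf_eq_prime hg1 hg
  let J : Ideal A := Ideal.span {g.val - 1}
  let H := Subgroup.zpowers g
  let bb : Module.Basis (GroupLike k A) k A :=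
    Module.Basis.mk linearIndep_groupLikeVal htop.ge
  have hbb : ∀ h : GroupLike k A, bb h = h.val := fun h => Module.Basis.mk_apply _ _ _
  let φ : A →ₗ[k] k := bb.constr k fun h => if h ∈ H then 1 else 0
  have hφ : ∀ h : GroupLike k A, φ h.val = if h ∈ H then 1 else 0 := fun h => by
    rw [← hbb, Module.Basis.constr_basis]
  have hJH : J.IsHopfIdeal k := by
    refine { toIsCoideal := ?_, antipode_mem := ?_ }
    · refine Groth.Agent.H8FiniteHopf.isCoideal_of_mkₐ J (fun x hx => ?_) fun x hx => ?_
      · obtain ⟨r, rfl⟩ := Ideal.mem_span_singleton'.mp hx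
        show Bialgebra.counitAlgHom k A (r * (g.val - 1)) = 0
        rw [map_mul, map_sub, map_one, show Bialgebra.counitAlgHom k A g.val = 1 from g.2.counit_eq_one, sub_self,
          mul_zero]
      · obtain ⟨r, rfl⟩ := Ideal.mem_span_singleton'.mp hx
        show (Algebra.TensorProduct.map (Ideal.Quotient.mkₐ k J) (Ideal.Quotient.mkₐ k J))
          (Bialgebra.comulAlgHom k A (r * (g.val - 1))) = 0
        have hq : Ideal.Quotient.mkₐ k J g.val = 1 := by
          rw [Ideal.Quotient.mkₐ_eq_mk, ← map_one (Ideal.Quotient.mk J), Ideal.Quotient.eq]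
          exact Ideal.mem_span_singleton_self _
        rw [map_mul, map_mul, map_sub, map_one, show Bialgebra.comulAlgHom k A g.val = g.val ⊗ₜ g.val from
          g.2.comul_eq_tmul_self, map_sub, map_one, Algebra.TensorProduct.map_tmul, hq, ← Algebra.TensorProduct.one_def,
          sub_self, mul_zero]
    · intro x hx
      obtain ⟨r, rfl⟩ := Ideal.mem_span_singleton'.mp hx
      show HopfAlgebra.antipodeAlgHom k A (r * (g.val - 1)) ∈ J
      rw [map_mul, map_sub, map_one, show HopfAlgebra.antipodeAlgHom k A g.val = (g⁻¹).val from rfl,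
        show ((g⁻¹).val - 1 : A) = - ((g⁻¹).val * (g.val - 1)) by
          rw [mul_sub, mul_one, ← GroupLike.val_mul, inv_mul_cancel, GroupLike.val_one]; ring]
      exact Ideal.mul_mem_left _ _ (neg_mem (Ideal.mul_mem_left _ _ (Ideal.mem_span_singleton_self _)))
  rcases hsimple J hJH with hbot | haug
  · exact absurd (GroupLike.val_injective (sub_eq_zero.mp ((Submodule.mem_bot A).mp
      (hbot ▸ Ideal.mem_span_singleton_self (g.val - 1)))) : g = 1) hg
  have hφJ : ∀ x ∈ J, φ x = 0 := by
    intro x hx
    obtain ⟨r, rfl⟩ := Ideal.mem_span_singleton'.mp hx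
    have hr : r ∈ Submodule.span k (Set.range (GroupLike.val (R := k) (A := A))) := htop ▸ Submodule.mem_top
    induction hr using Submodule.span_induction with
    | mem y hy =>
      obtain ⟨h, rfl⟩ := hy
      rw [mul_sub, mul_one, ← GroupLike.val_mul, map_sub, hφ, hφ,
        if_congr (Subgroup.mul_mem_cancel_right H (Subgroup.mem_zpowers g)) rfl rfl, sub_self]
    | zero => rw [zero_mul, map_zero]
    | add y z _ _ hy hz => rw [add_mul, map_add, hy (Ideal.mul_mem_left _ _ (Ideal.mem_span_singleton_self _)),
        hz (Ideal.mul_mem_left _ _ (Ideal.mem_span_singleton_self _)), add_zero]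
    | smul c y _ hy => rw [smul_mul_assoc, map_smul, hy (Ideal.mul_mem_left _ _ (Ideal.mem_span_singleton_self _)), smul_zero]
  have hall : ∀ h : GroupLike k A, h ∈ H := by
    intro h
    have h1 : h.val - 1 ∈ J := by
      rw [haug]
      show Bialgebra.counitAlgHom k A (h.val - 1) = 0
      rw [map_sub, map_one, show Bialgebra.counitAlgHom k A h.val = 1 from h.2.counit_eq_one, sub_self]
    have h2 := hφJ _ h1
    rw [map_sub, hφ, show (1 : A) = (1 : GroupLike k A).val from rfl, hφ, if_pos H.one_mem] at h2
    by_contra hh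
    rw [if_neg hh] at h2
    simp at h2
  have hinj : Function.Injective fun i : Fin p => g ^ (i : ℕ) := fun i j hij =>
    Fin.ext (pow_injOn_Iio_orderOf (by rw [hord]; exact i.2) (by rw [hord]; exact j.2) hij)
  have hsurj : Function.Surjective fun i : Fin p => g ^ (i : ℕ) := by
    intro h
    obtain ⟨m, hm⟩ := ((isOfFinOrder_iff_pow_eq_one.mpr ⟨p, (Fact.out : p.Prime).pos, hg1⟩).mem_powers_iff_mem_zpowers).mpr (hall h)
    exact ⟨⟨m % p, Nat.mod_lt _ (Fact.out : p.Prime).pos⟩, by
      show g ^ (m % p) = h
      rw [← hord, pow_mod_orderOf]; exact hm⟩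
  refine ⟨g.val, g.2, by rw [← GroupLike.val_pow, hg1, GroupLike.val_one], ?_, ?_⟩
  · have := (linearIndep_groupLikeVal (R := k) (A := A)).comp _ hinj
    simpa [Function.comp_def] using this
  · rw [Module.finrank_eq_card_basis (bb.reindex (Equiv.ofBijective _ ⟨hinj, hsurj⟩).symm), Fintype.card_fin]

end Groth.Agent.S15066
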