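import Groth.Statements.S15083
import Mathlib

set_option autoImplicit false
set_option backward.isDefEq.respectTransparency.types false
set_option maxHeartbeats 1000000
set_option linter.all false
universe u
open MovLem

namespace Groth.Agent.S15083
open Groth.Agent

/-- Let K be a field and r ≥ 1. For every element A of the special linear group SL_{r+1}(K) there is an
algebraic path in SL_{r+1} from the identity to A defined over K: a matrix M of determinant 1 with
entries in the polynomial ring K[y] such that M(0) is the identity matrix and M(1) = A. (The
published statement takes K to be the function field of SL_{r+1} over the ground field, A its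
generic point viewed as a K-rational point, and the parameter space to be the projective line minus
the point 1, with endpoints 0 and ∞; this row gives the path for an arbitrary K-point A on the
affine line with endpoints 0 and 1, which is what the published construction provides before
composing with the coordinate change y ↦ y/(y − 1).) -/
theorem result
    (K : Type u) [Field K] (r : ℕ) (hr : 1 ≤ r)
    (A : Matrix.SpecialLinearGroup (Fin (r + 1)) K) :
    ∃ M : Matrix.SpecialLinearGroup (Fin (r + 1)) (Polynomial K),
      Matrix.SpecialLinearGroup.map (Polynomial.evalRingHom (0 : K)) M = 1 ∧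
      Matrix.SpecialLinearGroup.map (Polynomial.evalRingHom (1 : K)) M = A := by
    classical
    haveI : Nontrivial (Fin (r + 1)) := Fin.nontrivial_iff_two_le.2 (by omega)
    let P : Matrix.SpecialLinearGroup (Fin (r + 1)) K → Prop := fun B =>
      ∃ M : Matrix.SpecialLinearGroup (Fin (r + 1)) (Polynomial K),
        Matrix.SpecialLinearGroup.map (Polynomial.evalRingHom (0 : K)) M = 1 ∧
        Matrix.SpecialLinearGroup.map (Polynomial.evalRingHom (1 : K)) M = B
    have hmul : ∀ A B, P A → P B → P (A * B) := by
      rintro A B ⟨M, h0, h1⟩ ⟨N, g0, g1⟩
      exact ⟨M * N, by rw [map_mul, h0, g0, one_mul], by rw [map_mul, h1, g1]⟩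
    have htr : ∀ (i j : Fin (r + 1)) (hij : i ≠ j) (a : K), P (Matrix.SpecialLinearGroup.transvection hij a) := by
      intro i j hij a
      refine ⟨Matrix.SpecialLinearGroup.transvection hij (Polynomial.X * Polynomial.C a), ?_, ?_⟩ <;>
      · ext k l
        show Polynomial.eval _ ((1 + Matrix.single i j (Polynomial.X * Polynomial.C a) : Matrix _ _ (Polynomial K)) k l) = _
        simp only [Matrix.SpecialLinearGroup.coe_one, Matrix.SpecialLinearGroup.transvection_coe, Matrix.add_apply, Matrix.one_apply, Matrix.single_apply, Polynomial.eval_add]
        split_ifs <;> simp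
    refine Matrix.SpecialLinearGroup.diagonal_transvection_induction' P A (fun i j hij c hc => ?_) htr hmul
    have hji : j ≠ i := Ne.symm hij
    have key : Matrix.SpecialLinearGroup.diag2n hij c hc =
        Matrix.SpecialLinearGroup.transvection hij c * (Matrix.SpecialLinearGroup.transvection hji (-c⁻¹) *
          (Matrix.SpecialLinearGroup.transvection hij c * (Matrix.SpecialLinearGroup.transvection hij (-1) *
            (Matrix.SpecialLinearGroup.transvection hji 1 * Matrix.SpecialLinearGroup.transvection hij (-1))))) := by
      apply Subtype.ext
      simp only [Matrix.SpecialLinearGroup.coe_mul]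
      show Matrix.diagonal _ = Matrix.transvection i j c * (Matrix.transvection j i (-c⁻¹) * (Matrix.transvection i j c *
        (Matrix.transvection i j (-1) * (Matrix.transvection j i 1 * Matrix.transvection i j (-1)))))
      have r1 : ∀ (x : K) (M : Matrix (Fin (r + 1)) (Fin (r + 1)) K) l, (Matrix.transvection i j x * M) i l = M i l + x * M j l :=
        fun x M l => Matrix.transvection_mul_apply_same i j l x M
      have r2 : ∀ (x : K) (M : Matrix (Fin (r + 1)) (Fin (r + 1)) K) l, (Matrix.transvection i j x * M) j l = M j l :=
        fun x M l => Matrix.transvection_mul_apply_of_ne (ha := hji) (c := x) (M := M) (b := l) ..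
      have r3 : ∀ (x : K) (M : Matrix (Fin (r + 1)) (Fin (r + 1)) K) l, (Matrix.transvection j i x * M) j l = M j l + x * M i l :=
        fun x M l => Matrix.transvection_mul_apply_same j i l x M
      have r4 : ∀ (x : K) (M : Matrix (Fin (r + 1)) (Fin (r + 1)) K) l, (Matrix.transvection j i x * M) i l = M i l :=
        fun x M l => Matrix.transvection_mul_apply_of_ne (ha := hij) (c := x) (M := M) (b := l) ..
      have e1 : ∀ (x : K) l, Matrix.transvection i j x i l = (if i = l then 1 else 0) + (if j = l then x else 0) := fun x l => by
        simp [Matrix.transvection, Matrix.one_apply, Matrix.single_apply]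
      have e2 : ∀ (x : K) l, Matrix.transvection i j x j l = (if j = l then 1 else 0) := fun x l => by
        simp [Matrix.transvection, Matrix.one_apply, Matrix.single_apply, hij]
      ext k l
      by_cases hki : k = i
      · rw [hki]
        simp only [r1, r2, r3, r4, e1, e2, Matrix.diagonal_apply, if_true]
        split_ifs with a b <;> first | (exact absurd (a.trans b.symm) hij) | (field_simp; ring)
      · by_cases hkj : k = j
        · rw [hkj]
          simp only [r1, r2, r3, r4, e1, e2, Matrix.diagonal_apply, if_true, if_neg hji]
          split_ifs with a b <;> first | (exact absurd (b.trans a.symm) hij) | (exact absurd (a.trans b.symm) hij) | (field_simp; ring)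
        · simp [Matrix.transvection_mul_apply_of_ne, hki, hkj]
          simp [Matrix.transvection, Matrix.one_apply, Matrix.diagonal_apply, hki, hkj, Ne.symm hki, Ne.symm hkj]
    rw [key]
    exact hmul _ _ (htr _ _ _ _) (hmul _ _ (htr _ _ _ _) (hmul _ _ (htr _ _ _ _) (hmul _ _ (htr _ _ _ _) (hmul _ _ (htr _ _ _ _) (htr _ _ _ _)))))

end Groth.Agent.S15083
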