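import Groth.Statements.S15084
import Mathlib

set_option autoImplicit false
set_option backward.isDefEq.respectTransparency.types false
set_option maxHeartbeats 1000000
set_option linter.all false
universe u
open MovLem

namespace Groth.Agent.S15084
open Groth.Agent

/-- Let A be a Noetherian integrally closed domain with fraction field K, let B be a domain with
fraction field L, and let A → B be an injective ring homomorphism, with K → L the induced map of
fraction fields, such that Spec B → Spec A is surjective (every prime ideal of A is the contraction
of a prime ideal of B). If a ∈ K is such that its image in L lies in B, then a ∈ A. (The published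
statement: for a surjective morphism f : Y → X of normal integral separated schemes of finite type
over a perfect field and a Cartier divisor D on X, if f^*D is effective then D is effective; a
Cartier divisor is locally the divisor of a nonzero rational function a, effectivity of div(a) on a
normal scheme means that a is a regular function, and this row is that local statement, which is
what the published proof establishes.) -/
theorem result
    (A B K L : Type u) [CommRing A] [IsDomain A] [IsNoetherianRing A] [IsIntegrallyClosed A]
    [CommRing B] [IsDomain B] [Field K] [Field L]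
    [Algebra A B] [Algebra A K] [IsFractionRing A K] [Algebra B L] [IsFractionRing B L]
    [Algebra K L] [Algebra A L] [IsScalarTower A K L] [IsScalarTower A B L]
    (hinj : Function.Injective (algebraMap A B))
    (hsurj : ∀ p : Ideal A, p.IsPrime → ∃ q : Ideal B, q.IsPrime ∧ q.comap (algebraMap A B) = p)
    (a : K) (ha : algebraMap K L a ∈ (algebraMap B L).range) :
    a ∈ (algebraMap A K).range := by
    classical
    have hAK : Function.Injective (algebraMap A K) := IsFractionRing.injective A K
    by_contra hnot
    let den : K → Ideal A := fun b => Submodule.comap (LinearMap.toSpanSingleton A K b) (LinearMap.range (Algebra.linearMap A K))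
    have hden : ∀ b x, x ∈ den b ↔ ∃ y, algebraMap A K y = algebraMap A K x * b := fun b x => by
      show (∃ y, algebraMap A K y = x • b) ↔ _
      rw [Algebra.smul_def]
    let T : Set (Ideal A) := {I | ∃ t : A, I = den (algebraMap A K t * a) ∧ I ≠ ⊤}
    have htop : ∀ b, den b = ⊤ ↔ b ∈ (algebraMap A K).range := fun b => by
      rw [Ideal.eq_top_iff_one, hden, map_one, one_mul]
      rfl
    obtain ⟨p, ⟨t, rfl, hne⟩, hmax⟩ := (wellFounded_gt (α := Ideal A)).has_min T
      ⟨den a, 1, by rw [map_one, one_mul], fun h => hnot ((htop a).1 h)⟩
    set b := algebraMap A K t * a with hb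
    have hprime : (den b).IsPrime := by
      refine Ideal.isPrime_iff.2 ⟨hne, fun {x y} hxy => or_iff_not_imp_right.2 fun hy => ?_⟩
      have hle : den b ≤ den (algebraMap A K y * b) := fun z hz => by
        obtain ⟨w, hw⟩ := (hden _ _).1 hz
        exact (hden _ _).2 ⟨y * w, by rw [map_mul, hw]; ring⟩
      have hne' : den (algebraMap A K y * b) ≠ ⊤ := fun h => hy ((hden _ _).2 ((htop _).1 h))
      have heq : den (algebraMap A K y * b) = den b := by
        by_contra hh
        exact hmax _ ⟨y * t, by rw [hb, map_mul, mul_assoc], hne'⟩ (lt_of_le_of_ne hle (Ne.symm hh))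
      rw [← heq, hden]
      obtain ⟨w, hw⟩ := (hden _ _).1 hxy
      exact ⟨w, by rw [hw, map_mul]; ring⟩
    obtain ⟨q, hq, hqp⟩ := hsurj _ hprime
    obtain ⟨aB, haB⟩ := ha
    by_cases hcase : ∃ x ∈ den b, ∀ y, algebraMap A K y = algebraMap A K x * b → y ∉ den b
    · obtain ⟨x, hx, hxy⟩ := hcase
      obtain ⟨y, hy⟩ := (hden _ _).1 hx
      refine hxy y hy ?_
      rw [← hqp, Ideal.mem_comap]
      have h1 : algebraMap A B y = algebraMap A B x * (algebraMap A B t * aB) := by
        apply IsFractionRing.injective B L
        rw [map_mul, map_mul, haB, ← IsScalarTower.algebraMap_apply A B L, ← IsScalarTower.algebraMap_apply A B L,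
          ← IsScalarTower.algebraMap_apply A B L, IsScalarTower.algebraMap_apply A K L,
          IsScalarTower.algebraMap_apply A K L x, IsScalarTower.algebraMap_apply A K L t, ← map_mul, ← map_mul, hy]
      rw [h1]
      refine q.mul_mem_right _ ?_
      rw [← Ideal.mem_comap, hqp]
      exact hx
    · push Not at hcase
      let N : Submodule A K := Submodule.map (Algebra.linearMap A K) (den b)
      have hN : ∀ n ∈ N, b • n ∈ N := by
        rintro _ ⟨x, hx, rfl⟩
        obtain ⟨y, hy, hy'⟩ := hcase x hx
        exact ⟨y, hy', by rw [smul_eq_mul, Algebra.linearMap_apply, Algebra.linearMap_apply, hy, mul_comm]⟩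
      have hint : IsIntegral A b := by
        refine isIntegral_of_smul_mem_submodule N ?_ ((IsNoetherian.noetherian (den b)).map _) b hN
        rw [Ne, Submodule.eq_bot_iff]
        push Not
        obtain ⟨⟨r, s⟩, hrs⟩ := IsLocalization.surj (nonZeroDivisors A) b
        refine ⟨algebraMap A K s, ⟨s, (hden _ _).2 ⟨r, by rw [← hrs, mul_comm]⟩, rfl⟩, fun h0 => ?_⟩
        exact nonZeroDivisors.coe_ne_zero s (hAK (h0.trans (map_zero _).symm))
      obtain ⟨c, hc⟩ := IsIntegrallyClosed.isIntegral_iff.1 hint
      exact hne ((htop b).2 ⟨c, hc⟩)

end Groth.Agent.S15084
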