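import Groth.Statements.S15115
import Mathlib
import Groth.Agent.Lib.H8Criterion

set_option autoImplicit false
universe u
open HopfRep

namespace Groth.Agent.S15115
open Groth.Agent.H8Comod in

open TensorProduct in
/-- Let k be an algebraically closed field, H a finite-dimensional commutative Hopf algebra over k all
of whose finite-dimensional comodules are semisimple (a finite linearly reductive group scheme G
over k), A a commutative k-algebra, and M an A-module with an H-coaction that is A-linear (G acts on
M by A-module maps, A carrying the trivial action). Let A' be a commutative A-algebra and N = A' ⊗_A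
M its base change, exhibited by an A-linear map φ : M → N, with the induced coaction: A'-linear and
compatible with φ. Then invariants commute with this base change: writing M^G for the A-submodule of
coinvariant elements of M, the natural map A' ⊗_A M^G → N, a' ⊗ m ↦ a' φ(m), is injective and its
image is exactly the set of coinvariant elements of N. (The published statement is the isomorphism
ρ^* π_* F → π'_* σ^* F for a tame Deligne–Mumford stack with coarse moduli space π and any base
change ρ of the coarse space; this row is the statement about invariants to which its proof reduces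
it, for modules that need not be finitely generated.) -/
theorem result (k : Type u) [Field k] [IsAlgClosed k]
    (H : Type u) [CommRing H] [HopfAlgebra k H] [Module.Finite k H] (hred : HopfRep.IsLinearlyReductive k H)
    (A : Type u) [CommRing A] [Algebra k A]
    (M : Type u) [AddCommGroup M] [Module k M] [Module A M] [IsScalarTower k A M] [HopfRep.Comod k H M]
    (hlin : ∀ (a : A) (m : M), HopfRep.Comod.coact (k := k) (A := H) (a • m) = a • HopfRep.Comod.coact (k := k) (A := H) m)
    (A' : Type u) [CommRing A'] [Algebra k A'] [Algebra A A'] [IsScalarTower k A A']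
    (N : Type u) [AddCommGroup N] [Module k N] [Module A N] [Module A' N]
    [IsScalarTower k A N] [IsScalarTower A A' N] [IsScalarTower k A' N] [HopfRep.Comod k H N]
    (φ : M →ₗ[A] N) (hφ : IsBaseChange A' φ)
    (hcomp : ∀ m : M, HopfRep.Comod.coact (k := k) (A := H) (φ m) =
      LinearMap.rTensor H (φ.restrictScalars k) (HopfRep.Comod.coact (k := k) (A := H) m))
    (hlinN : ∀ (a' : A') (n : N), HopfRep.Comod.coact (k := k) (A := H) (a' • n) = a' • HopfRep.Comod.coact (k := k) (A := H) n)
    (P : Submodule A M) (hP : (P : Set M) = (HopfRep.fixedPts k H M : Set M)) :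
    Function.Injective (TensorProduct.lift (((Algebra.lsmul A A N : A' →ₐ[A] Module.End A N).toLinearMap).compl₂ (φ ∘ₗ P.subtype))) ∧
      Set.range (TensorProduct.lift (((Algebra.lsmul A A N : A' →ₐ[A] Module.End A N).toLinearMap).compl₂ (φ ∘ₗ P.subtype))) =
        (HopfRep.fixedPts k H N : Set N) := by
  obtain ⟨α, hα, h1⟩ := H8Reductive.exists_integral_of_lr hred
  let β : H →ₗ[k] k := α ∘ₗ HopfAlgebra.antipode k
  have hβ1 : β 1 = 1 := by simp [β, HopfAlgebra.antipode_one, h1]
  let eM : M →ₗ[k] M := H8Comod.act M (WithConv.toConv β)
  let eN : N →ₗ[k] N := H8Comod.act N (WithConv.toConv β)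
  have hMfix : ∀ m, eM m ∈ P := fun m => by
    rw [← SetLike.mem_coe, hP]; exact H8Criterion.act_fixed hα m
  have hMid : ∀ m ∈ P, eM m = m := fun m hm => H8Criterion.act_fixed_eq β hβ1 (by rw [← SetLike.mem_coe, ← hP]; exact hm)
  have hMA : ∀ (a : A) m, eM (a • m) = a • eM m := by
    intro a m
    simp only [eM, H8Comod.act_apply, WithConv.ofConv_toConv, hlin]
    generalize HopfRep.Comod.coact (k := k) (A := H) m = z
    induction z using TensorProduct.induction_on with
    | zero => simp
    | tmul p q => simp [TensorProduct.smul_tmul', smul_comm a]
    | add p q hp hq => simp only [smul_add, map_add, hp, hq]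
  have hNA : ∀ (a : A') n, eN (a • n) = a • eN n := by
    intro a n
    simp only [eN, H8Comod.act_apply, WithConv.ofConv_toConv, hlinN]
    generalize HopfRep.Comod.coact (k := k) (A := H) n = z
    induction z using TensorProduct.induction_on with
    | zero => simp
    | tmul p q => simp [TensorProduct.smul_tmul', smul_comm a]
    | add p q hp hq => simp only [smul_add, map_add, hp, hq]
  have hφe : ∀ m, eN (φ m) = φ (eM m) := fun m => by
    simp only [eN, eM, H8Comod.act_apply, hcomp, H8Comod.contr_rTensor]; rfl
  let r : M →ₗ[A] P := { toFun := fun m => ⟨eM m, hMfix m⟩, map_add' := fun x y => Subtype.ext (map_add eM x y),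
                         map_smul' := fun a x => Subtype.ext (hMA a x) }
  constructor
  · have hinj : Function.Injective (P.subtype.lTensor A') := by
      refine Function.LeftInverse.injective (g := r.lTensor A') fun x => ?_
      rw [← LinearMap.lTensor_comp_apply, show r ∘ₗ P.subtype = LinearMap.id from LinearMap.ext fun p => Subtype.ext (hMid _ p.2)]
      simp
    have hfac : ∀ x, TensorProduct.lift (((Algebra.lsmul A A N : A' →ₐ[A] Module.End A N).toLinearMap).compl₂ (φ ∘ₗ P.subtype)) x =
        hφ.equiv (P.subtype.lTensor A' x) := by
      intro x
      induction x using TensorProduct.induction_on with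
      | zero => simp
      | tmul a p => simp [IsBaseChange.equiv_tmul]
      | add p q hp hq => simp only [map_add, hp, hq]
    intro x y hxy
    rw [hfac, hfac] at hxy
    exact hinj (hφ.equiv.injective hxy)
  · refine Set.Subset.antisymm ?_ ?_
    · rintro _ ⟨x, rfl⟩
      induction x using TensorProduct.induction_on with
      | zero => simp
      | tmul a p =>
        have hp : (p : M) ∈ HopfRep.fixedPts k H M := by rw [← SetLike.mem_coe, ← hP]; exact p.2
        show HopfRep.Comod.coact (k := k) (A := H) (a • φ p.1) = _
        rw [hlinN, hcomp, show HopfRep.Comod.coact (k := k) (A := H) p.1 = TensorProduct.tmul k p.1 (1 : H) from hp,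
          LinearMap.rTensor_tmul]
        rfl
      | add p q hp hq => rw [map_add]; exact add_mem hp hq
    · intro n hn
      rw [show n = eN n from (H8Criterion.act_fixed_eq β hβ1 hn).symm]
      clear hn
      refine hφ.inductionOn n (fun n => eN n ∈ Set.range _) ⟨0, by simp⟩ (fun m => ?_) (fun a n hn => ?_) (fun x y hx hy => ?_)
      · exact ⟨(1 : A') ⊗ₜ[A] r m, by simp [hφe, r]⟩
      · obtain ⟨x, hx⟩ := hn
        refine ⟨a • x, ?_⟩
        rw [hNA, ← hx]
        clear hx
        induction x using TensorProduct.induction_on with
        | zero => simp
        | tmul c p => simp [TensorProduct.smul_tmul', mul_smul]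
        | add p q hp hq => simp only [smul_add, map_add, hp, hq]
      · obtain ⟨p, hp⟩ := hx
        obtain ⟨q, hq⟩ := hy
        exact ⟨p + q, by rw [map_add, map_add, hp, hq]⟩

end Groth.Agent.S15115
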