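import Groth.Statements.S15125
import Mathlib

set_option autoImplicit false
universe u
open scoped TensorProduct
open Fields

namespace Groth.Agent.S15125


section helpers
open Polynomial

/-- An element of `L ⊗ K(x)` killed by `x ⊗ 1 - 1 ⊗ x` has image zero in `L` when `x` is not separable. -/
theorem mult_eq_zero (K L : Type u) [Field K] [Field L] [Algebra K L] (x : L) (hx : ¬ IsSeparable K x)
    (E : IntermediateField K L) (hE : E = IntermediateField.adjoin K {x}) (xe : E) (hxe : (xe : L) = x)
    (s : L ⊗[K] E) (hs : (x ⊗ₜ[K] (1 : E) - (1 : L) ⊗ₜ[K] xe) * s = 0) :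
    Algebra.TensorProduct.lift (AlgHom.id K L) E.val (fun _ _ => Commute.all _ _) s = 0 := by
  classical
  let φ : L ⊗[K] K[X] →ₐ[K] L ⊗[K] E := Algebra.TensorProduct.map (AlgHom.id K L) (aeval xe)
  let μ : L ⊗[K] E →ₐ[K] L := Algebra.TensorProduct.lift (AlgHom.id K L) E.val (fun _ _ => Commute.all _ _)
  have hclear : ∀ s : L ⊗[K] E, ∃ q : K[X], aeval xe q ≠ 0 ∧
      ∃ Q, ((1 : L) ⊗ₜ[K] aeval xe q) * s = φ Q := by
    intro s
    induction s with
    | tmul l e =>
      obtain ⟨r, q, hrq⟩ := (IntermediateField.mem_adjoin_simple_iff K (e : L)).mp (by rw [← hE]; exact e.2)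
      have h1 : ∀ p : K[X], ((aeval xe p : E) : L) = aeval x p := fun p => by
        rw [← hxe]; exact (Polynomial.aeval_algHom_apply E.val xe p).symm
      by_cases hq : aeval xe q = 0
      · refine ⟨1, by simp, 0, ?_⟩
        have : e = 0 := Subtype.ext (by rw [hrq, ← h1, ← h1, hq]; simp)
        simp [this]
      · refine ⟨q, hq, l ⊗ₜ r, ?_⟩
        rw [Algebra.TensorProduct.tmul_mul_tmul, one_mul, Algebra.TensorProduct.map_tmul]
        congr 1
        have hq' : aeval x q ≠ 0 := fun h => hq (Subtype.ext (by rw [h1, h]; rfl))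
        apply Subtype.ext
        rw [IntermediateField.coe_mul, hrq, h1, h1, mul_div_cancel₀ _ hq']
    | add a b ha hb =>
      obtain ⟨q, hq, Q, hQ⟩ := ha
      obtain ⟨q', hq', Q', hQ'⟩ := hb
      refine ⟨q * q', by rw [map_mul]; exact mul_ne_zero hq hq', ((1 : L) ⊗ₜ q') * Q + ((1 : L) ⊗ₜ q) * Q', ?_⟩
      rw [map_add, map_mul, map_mul, map_mul, ← hQ, ← hQ', Algebra.TensorProduct.map_tmul, Algebra.TensorProduct.map_tmul]
      simp only [AlgHom.id_apply]
      rw [show ∀ u v : E, (1 : L) ⊗ₜ[K] (u * v) = ((1 : L) ⊗ₜ[K] u) * ((1 : L) ⊗ₜ[K] v) from fun u v => by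
        rw [Algebra.TensorProduct.tmul_mul_tmul, one_mul]]
      ring
    | zero => exact ⟨1, by simp, 0, by simp⟩
  obtain ⟨q, hq, Q, hQ⟩ := hclear s
  let P := minpoly K x
  let D : L ⊗[K] K[X] := x ⊗ₜ[K] (1 : K[X]) - (1 : L) ⊗ₜ[K] (X : K[X])
  have hDQ : φ (D * Q) = 0 := by
    rw [map_mul, ← hQ, map_sub, Algebra.TensorProduct.map_tmul, Algebra.TensorProduct.map_tmul, map_one, aeval_X,
      AlgHom.id_apply, AlgHom.id_apply]
    linear_combination ((1:L) ⊗ₜ[K] aeval xe q) * hs
  have hex : Function.Exact (LinearMap.mulLeft K P) (aeval xe : K[X] →ₐ[K] E).toLinearMap := by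
    intro g
    have h2 : aeval xe g = 0 ↔ P ∣ g := by
      rw [show P = minpoly K xe by
        show minpoly K x = _
        rw [← hxe]
        exact minpoly.algHom_eq E.val (RingHom.injective _) xe]
      exact minpoly.dvd_iff.symm
    show aeval xe g = 0 ↔ _
    rw [h2]
    exact ⟨fun ⟨c, hc⟩ => ⟨c, hc.symm⟩, fun ⟨c, hc⟩ => ⟨c, hc.symm⟩⟩
  have hker : ∃ R, D * Q = ((1 : L) ⊗ₜ[K] P) * R := by
    obtain ⟨R, hR⟩ := ((Module.Flat.lTensor_exact L hex) (D * Q)).mp (by
      rw [← hDQ]
      generalize D * Q = z
      induction z with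
      | tmul a b => rfl
      | add a b ha hb => rw [map_add, map_add, ha, hb]
      | zero => simp)
    refine ⟨R, ?_⟩
    rw [← hR]
    clear hR
    induction R with
    | tmul a b => rw [LinearMap.lTensor_tmul, Algebra.TensorProduct.tmul_mul_tmul, one_mul, LinearMap.mulLeft_apply]
    | add a b ha hb => rw [map_add, mul_add, ha, hb]
    | zero => simp
  obtain ⟨R, hR⟩ := hker
  let e := (polyEquivTensor K L).symm
  have he : ∀ (a : L) (p : K[X]), e (a ⊗ₜ p) = a • p.map (algebraMap K L) := fun a p => rfl
  have h3 := congrArg (fun z => (derivative (e z)).eval x) hR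
  have hP0 : Polynomial.eval x ((derivative P).map (algebraMap K L)) = 0 := by
    by_cases hint : IsIntegral K x
    · have : derivative P = 0 := by
        by_contra h
        exact hx ((separable_iff_derivative_ne_zero (minpoly.irreducible hint)).mpr h)
      simp [this]
    · simp [P, minpoly.eq_zero hint]
  have hP1 : (P.map (algebraMap K L)).eval x = 0 := by
    rw [eval_map_algebraMap]; exact minpoly.aeval K x
  simp only [map_mul, D, map_sub, he, Polynomial.map_one, map_X, one_smul, smul_eq_C_mul, derivative_mul, derivative_C,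
    derivative_X, derivative_one, derivative_map, eval_add, eval_sub, eval_mul, eval_C, eval_one, eval_zero, eval_X,
    hP0, hP1] at h3
  have h4 : ∀ z : L ⊗[K] K[X], μ (φ z) = (e z).eval x := by
    intro z
    induction z with
    | tmul a b =>
      rw [Algebra.TensorProduct.map_tmul, AlgHom.id_apply, Algebra.TensorProduct.lift_tmul, he, eval_smul, smul_eq_mul,
        eval_map_algebraMap, AlgHom.id_apply]
      congr 1
      rw [← hxe]; exact (Polynomial.aeval_algHom_apply E.val xe b).symm
    | add a b ha hb => simp only [map_add, eval_add, ha, hb]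
    | zero => simp
  have h5 : μ (φ Q) = 0 := by
    rw [h4]
    linear_combination -h3
  rw [← hQ, map_mul, Algebra.TensorProduct.lift_tmul, map_one, one_mul] at h5
  exact (mul_eq_zero.mp h5).resolve_left fun h => hq (E.val.injective (h.trans (map_zero _).symm))

end helpers

/-- Let L be a finitely generated field extension of K, and I ⊆ L ⊗_K L the kernel of multiplication L
⊗_K L → L. An element x of L has the property that x ⊗ 1 and 1 ⊗ x have the same image in the I-adic
completion of L ⊗_K L if and only if x is separable algebraic over K. Equivalently, the equaliser of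
the two natural maps from L to that completion is the separable algebraic closure of K in L. -/
theorem result
    (K L : Type u) [Field K] [Field L] [Algebra K L]
    (hfg : (⊤ : IntermediateField K L).FG) (x : L) :
    AdicCompletion.of (KaehlerDifferential.ideal K L) (L ⊗[K] L) (x ⊗ₜ[K] (1 : L)) =
        AdicCompletion.of (KaehlerDifferential.ideal K L) (L ⊗[K] L) ((1 : L) ⊗ₜ[K] x) ↔
      x ∈ separableClosure K L := by
  classical
  let I := KaehlerDifferential.ideal K L
  let d : (L ⊗[K] L) := x ⊗ₜ[K] (1 : L) - (1 : L) ⊗ₜ[K] x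
  have hdI : d ∈ I := by
    have := KaehlerDifferential.one_smul_sub_smul_one_mem_ideal K x
    rw [show d = -((1 : L) ⊗ₜ[K] x - x ⊗ₜ[K] (1 : L)) from (neg_sub _ _).symm]
    exact neg_mem this
  have hof : AdicCompletion.of I (L ⊗[K] L) (x ⊗ₜ[K] (1 : L)) = AdicCompletion.of I (L ⊗[K] L) ((1 : L) ⊗ₜ[K] x) ↔ ∀ n, d ∈ I ^ n := by
    constructor
    · intro h n
      have := congrArg (fun z => z.val n) h
      simp only [AdicCompletion.of_apply, Submodule.mkQ_apply, Submodule.Quotient.eq, smul_eq_mul, Ideal.mul_top] at this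
      exact this
    · intro h
      refine AdicCompletion.ext fun n => ?_
      simp only [AdicCompletion.of_apply, Submodule.mkQ_apply, Submodule.Quotient.eq, smul_eq_mul, Ideal.mul_top]
      exact h n
  rw [hof, mem_separableClosure_iff]
  constructor
  · intro h
    by_contra hx
    haveI : Algebra.EssFiniteType K L := by
      haveI : Algebra.EssFiniteType K (⊤ : IntermediateField K L) := IntermediateField.essFiniteType_iff.mpr hfg
      exact Algebra.EssFiniteType.of_surjective (IntermediateField.topEquiv (F := K) (E := L)).toAlgHom (AlgEquiv.surjective _)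
    haveI : IsNoetherianRing (L ⊗[K] L) := Algebra.EssFiniteType.isNoetherianRing L _
    obtain ⟨⟨a, ha⟩, had⟩ := (Ideal.mem_iInf_smul_pow_eq_bot_iff I d).mp (Submodule.mem_iInf _ |>.mpr fun n => by
      rw [smul_eq_mul, Ideal.mul_top]; exact h n)
    have had' : d * (1 - a) = 0 := by
      have : a * d = d := had
      linear_combination -this
    let E := IntermediateField.adjoin K ({x} : Set L)
    let xe : E := ⟨x, IntermediateField.mem_adjoin_simple_self K x⟩
    let ι := Module.Basis.ofVectorSpaceIndex E L
    let b := Module.Basis.ofVectorSpace E L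
    let ρ : (L ⊗[K] L) →ₗ[K] (ι →₀ L ⊗[K] E) :=
      (TensorProduct.finsuppRight K K L E ι).toLinearMap ∘ₗ LinearMap.lTensor L (b.repr.toLinearMap.restrictScalars K)
    have hρ : ∀ (l m : L) (i : ι), ρ (l ⊗ₜ m) i = l ⊗ₜ (b.repr m i) := fun l m i => by
      show TensorProduct.finsuppRight K K L E ι (l ⊗ₜ b.repr m) i = _
      rw [TensorProduct.finsuppRight_apply_tmul_apply]
    have hρd : ∀ (z : (L ⊗[K] L)) (i : ι), ρ (d * z) i = (x ⊗ₜ[K] (1 : E) - (1 : L) ⊗ₜ[K] xe) * ρ z i := by
      intro z i
      induction z with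
      | tmul l m =>
        rw [show d * (l ⊗ₜ[K] m) = (x * l) ⊗ₜ m - l ⊗ₜ (x * m) by
          simp only [d, sub_mul, Algebra.TensorProduct.tmul_mul_tmul, one_mul]]
        rw [map_sub, Finsupp.sub_apply, hρ, hρ, hρ, sub_mul, Algebra.TensorProduct.tmul_mul_tmul,
          Algebra.TensorProduct.tmul_mul_tmul, one_mul, one_mul, show x * m = xe • m from rfl, map_smul,
          Finsupp.smul_apply, smul_eq_mul]
      | add a c ha hc => rw [mul_add, map_add, map_add, Finsupp.add_apply, Finsupp.add_apply, ha, hc, mul_add]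
      | zero => simp
    let μ : L ⊗[K] E →ₐ[K] L := Algebra.TensorProduct.lift (AlgHom.id K L) E.val (fun _ _ => Commute.all _ _)
    have hmul : ∀ z : (L ⊗[K] L), (ρ z).sum (fun i s => μ s * b i) = Algebra.TensorProduct.lmul' (S := L) K z := by
      intro z
      induction z with
      | tmul l m =>
        rw [Algebra.TensorProduct.lmul'_apply_tmul,
          show ρ (l ⊗ₜ m) = (b.repr m).mapRange (fun e => l ⊗ₜ[K] e) (TensorProduct.tmul_zero _ _) from
            Finsupp.ext fun i => by rw [hρ, Finsupp.mapRange_apply],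
          Finsupp.sum_mapRange_index fun i => by simp]
        conv_rhs => rw [← b.linearCombination_repr m, Finsupp.linearCombination_apply, Finsupp.mul_sum]
        refine Finsupp.sum_congr fun i _ => ?_
        rw [Algebra.TensorProduct.lift_tmul, AlgHom.id_apply, mul_assoc]
        rfl
      | add a c ha hc =>
        rw [map_add, map_add, ← ha, ← hc]
        exact Finsupp.sum_add_index' (fun i => by simp) fun i u v => by rw [map_add, add_mul]
      | zero => simp
    have h1 := hmul (1 - a)
    rw [map_sub (Algebra.TensorProduct.lmul' (S := L) K), map_one (Algebra.TensorProduct.lmul' (S := L) K), show Algebra.TensorProduct.lmul' (S := L) K a = 0 from ha, sub_zero] at h1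
    refine one_ne_zero (α := L) (h1 ▸ Finset.sum_eq_zero fun i _ => ?_)
    have h2 := hρd (1 - a) i
    rw [had', map_zero, Finsupp.zero_apply] at h2
    show μ (ρ (1 - a) i) * b i = 0
    rw [show μ (ρ (1 - a) i) = 0 from mult_eq_zero K L x hx E rfl xe rfl _ h2.symm, zero_mul]
  · intro hx
    let f := (minpoly K x).map (algebraMap K (L ⊗[K] L))
    let v : (L ⊗[K] L) := x ⊗ₜ[K] (1 : L)
    let u : (L ⊗[K] L) := (1 : L) ⊗ₜ[K] x
    have hv : f.eval v = 0 := by
      rw [Polynomial.eval_map_algebraMap, show v = (Algebra.TensorProduct.includeLeft : L →ₐ[K] (L ⊗[K] L)) x from rfl,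
        Polynomial.aeval_algHom_apply, minpoly.aeval, map_zero]
    have hu : f.eval u = 0 := by
      rw [Polynomial.eval_map_algebraMap, show u = (Algebra.TensorProduct.includeRight : L →ₐ[K] (L ⊗[K] L)) x from rfl,
        Polynomial.aeval_algHom_apply, minpoly.aeval, map_zero]
    have hunit : IsUnit (f.derivative.eval u) := by
      rw [Polynomial.derivative_map, Polynomial.eval_map_algebraMap,
        show u = (Algebra.TensorProduct.includeRight : L →ₐ[K] (L ⊗[K] L)) x from rfl, Polynomial.aeval_algHom_apply]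
      exact (IsUnit.mk0 _ (Polynomial.Separable.aeval_derivative_ne_zero hx (minpoly.aeval K x))).map _
    obtain ⟨k, hk⟩ := Polynomial.binomExpansion f u d
    rw [show u + d = v from add_sub_cancel _ _, hu, hv] at hk
    obtain ⟨c, hc⟩ := hunit.exists_left_inv
    have hd : d = (-c * k) * d * d := by linear_combination c * (-hk) - d * hc
    intro n
    induction n with
    | zero => simp
    | succ n ih =>
      rw [hd, pow_succ, mul_assoc, mul_comm _ (d * d), mul_assoc]
      exact Ideal.mul_mem_mul ih (Ideal.mul_mem_right _ _ hdI)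

end Groth.Agent.S15125
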