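import Groth.Statements.S15128
import Mathlib

set_option autoImplicit false
universe u v
open CAlg

namespace Groth.Agent.S15128
open scoped TensorProduct
open CategoryTheory
set_option linter.style.haveILetI false

/-- Over an Artinian local ring A with residue field k, a linear map h between flat A-modules (of any
size) is injective, resp. surjective, as soon as its reduction k ⊗_A h is. (The published statement
is for local Artinian algebras over an algebraically closed field of characteristic zero having that
field as residue field; this row allows any Artinian local ring.) -/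
theorem result
    (A : Type u) [CommRing A] [IsLocalRing A] [IsArtinianRing A]
    (P L : Type v) [AddCommGroup P] [Module A P] [AddCommGroup L] [Module A L]
    [Module.Flat A P] [Module.Flat A L] (h : P →ₗ[A] L) :
    (Function.Injective (h.lTensor (IsLocalRing.ResidueField A)) → Function.Injective h) ∧
    (Function.Surjective (h.lTensor (IsLocalRing.ResidueField A)) → Function.Surjective h) := by
  haveI : IsNoetherianRing A := inferInstance
  constructor
  · intro hinj
    have key : ∀ (X : Type u) [AddCommGroup X] [Module A X] [Module.Finite A X], Function.Injective (h.lTensor X) := by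
      intro X _ _ hX
      refine IsNoetherianRing.induction_on_isQuotientEquivQuotientPrime A (M := X) hX ?_ ?_ ?_
      · intro Y _ _ _ _ a b _
        haveI : Subsingleton (Y ⊗[A] P) := inferInstance
        exact Subsingleton.elim a b
      · intro Y _ _ _ p e
        haveI : p.asIdeal.IsMaximal := IsArtinianRing.isMaximal_of_isPrime _
        have hp : p.asIdeal = IsLocalRing.maximalIdeal A := IsLocalRing.eq_maximalIdeal inferInstance
        let e' : Y ≃ₗ[A] IsLocalRing.ResidueField A := e ≪≫ₗ Submodule.quotEquivOfEq _ _ hp
        refine (injective_iff_map_eq_zero _).2 fun z hz => ?_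
        apply (e'.rTensor P).injective
        rw [map_zero]
        refine hinj ?_
        rw [map_zero]
        show (h.lTensor (IsLocalRing.ResidueField A) ∘ₗ (e' : Y →ₗ[A] IsLocalRing.ResidueField A).rTensor P) z = 0
        rw [LinearMap.lTensor_comp_rTensor, ← LinearMap.rTensor_comp_lTensor, LinearMap.comp_apply, hz, map_zero]
      · intro Y₁ _ _ _ Y₂ _ _ _ Y₃ _ _ _ f g hf hg hfg h1 h3
        refine (injective_iff_map_eq_zero _).2 fun z hz => ?_
        have : g.rTensor P z = 0 := h3 (by
          rw [map_zero]
          show (h.lTensor Y₃ ∘ₗ g.rTensor P) z = 0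
          rw [LinearMap.lTensor_comp_rTensor, ← LinearMap.rTensor_comp_lTensor, LinearMap.comp_apply, hz, map_zero])
        obtain ⟨w, rfl⟩ := (rTensor_exact P hfg hg z).1 this
        have h2 : f.rTensor L (h.lTensor Y₁ w) = 0 := by
          rw [← LinearMap.comp_apply, LinearMap.rTensor_comp_lTensor, ← LinearMap.lTensor_comp_rTensor, LinearMap.comp_apply, hz]
        rw [h1 ((Module.Flat.rTensor_preserves_injective_linearMap f hf (h2.trans (map_zero _).symm)).trans (map_zero _).symm), map_zero]
    have := key A
    intro a b hab
    have h2 : h.lTensor A ((1 : A) ⊗ₜ a) = h.lTensor A ((1 : A) ⊗ₜ b) := by rw [LinearMap.lTensor_tmul, LinearMap.lTensor_tmul, hab]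
    simpa using congrArg (TensorProduct.lid A P) (this h2)
  · intro hsurj
    set m := IsLocalRing.maximalIdeal A
    have hm : ∀ l : L, l ∈ LinearMap.range h ⊔ (m • ⊤ : Submodule A L) := by
      intro l
      obtain ⟨z, hz⟩ := hsurj ((1 : IsLocalRing.ResidueField A) ⊗ₜ l)
      obtain ⟨p, rfl⟩ := TensorProduct.mk_surjective A P (IsLocalRing.ResidueField A) IsLocalRing.residue_surjective z
      rw [TensorProduct.mk_apply, LinearMap.lTensor_tmul] at hz
      have h3 : TensorProduct.quotTensorEquivQuotSMul L m ((1 : A ⧸ m) ⊗ₜ (h p)) = TensorProduct.quotTensorEquivQuotSMul L m ((1 : A ⧸ m) ⊗ₜ l) := congrArg _ hz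
      rw [show (1 : A ⧸ m) = Ideal.Quotient.mk m 1 from rfl, TensorProduct.quotTensorEquivQuotSMul_mk_tmul, TensorProduct.quotTensorEquivQuotSMul_mk_tmul, one_smul, one_smul, Submodule.Quotient.eq] at h3
      exact Submodule.mem_sup.2 ⟨h p, ⟨p, rfl⟩, l - h p, by rw [← neg_sub]; exact Submodule.neg_mem _ h3, add_sub_cancel _ _⟩
    obtain ⟨n, hn⟩ : IsNilpotent m := by
      have := IsArtinianRing.isNilpotent_jacobson_bot (R := A)
      rwa [IsLocalRing.jacobson_eq_maximalIdeal ⊥ bot_ne_top] at this
    have : ∀ k, (⊤ : Submodule A L) ≤ LinearMap.range h ⊔ m ^ k • ⊤ := by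
      intro k
      induction k with
      | zero => simp
      | succ k ih =>
        calc (⊤ : Submodule A L) ≤ LinearMap.range h ⊔ m ^ k • ⊤ := ih
          _ ≤ LinearMap.range h ⊔ m ^ k • (LinearMap.range h ⊔ m • ⊤) := sup_le_sup_left (Submodule.smul_mono le_rfl (fun l _ => hm l)) _
          _ ≤ LinearMap.range h ⊔ m ^ (k + 1) • ⊤ := by
            rw [Submodule.smul_sup, ← sup_assoc, pow_succ, Submodule.mul_smul]
            exact sup_le_sup_right (sup_le le_rfl Submodule.smul_le_right) _
    have h4 := this n
    rw [hn, Submodule.zero_eq_bot, Submodule.bot_smul, sup_bot_eq, top_le_iff] at h4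
    exact LinearMap.range_eq_top.1 h4

end Groth.Agent.S15128
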