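import Groth.Statements.S15153
import Mathlib

set_option autoImplicit false
set_option backward.isDefEq.respectTransparency.types false
set_option maxHeartbeats 1000000
set_option linter.all false
universe u
open TensorProduct
open HilbZeta

namespace Groth.Agent.S15153
open Groth.Agent

/-- Let A be a Noetherian commutative ring, S a commutative A-algebra and Q an S-module which is finite
and flat as an A-module. For a prime p of A with residue field κ(p), multiplication by an element of
S induces a κ(p)-linear endomorphism of the fibre κ(p) ⊗_A Q; let φ(p) be the κ(p)-dimension of the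
span of these endomorphisms, which is the colength of the annihilator of the fibre module κ(p) ⊗_A Q
in the fibre algebra κ(p) ⊗_A S (the length of the smallest subscheme of the fibre carrying it).
Then p ↦ φ(p) is a constructible function: for every n the primes with φ(p) = n form a constructible
subset of Spec A. (The published statement is for a coherent sheaf, flat and finite over a
Noetherian base, on a family of reduced curve singularities with a section, and its function of the
base point is this colength; the curve hypotheses play no role and the row is the affine form over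
any Noetherian ring.) -/
theorem result (A : Type u) [CommRing A] [IsNoetherianRing A]
    (S : Type u) [CommRing S] [Algebra A S]
    (Q : Type u) [AddCommGroup Q] [Module A Q] [Module S Q] [IsScalarTower A S Q]
    [Module.Finite A Q] [Module.Flat A Q] (n : ℕ) :
    Topology.IsConstructible {p : PrimeSpectrum A |
      Module.finrank p.asIdeal.ResidueField
        (Submodule.span p.asIdeal.ResidueField
          (Set.range fun s : S =>
            LinearMap.baseChange p.asIdeal.ResidueField (DistribSMul.toLinearMap A Q s))) = n} := by
    classical
    haveI : Module.FinitePresentation A Q := Module.finitePresentation_of_finite A Q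
    haveI : Module.Projective A Q := Module.Flat.projective_of_finitePresentation
    obtain ⟨m, f, g, -, -, hfg⟩ := Module.Finite.exists_comp_eq_id_of_projective A Q
    let φ : S → (Q →ₗ[A] Q) := fun s => DistribSMul.toLinearMap A Q s
    let ψ : (Q →ₗ[A] Q) → Matrix (Fin m) (Fin m) A := fun h =>
      LinearMap.toMatrix (Pi.basisFun A (Fin m)) (Pi.basisFun A (Fin m)) (g ∘ₗ h ∘ₗ f)
    obtain ⟨r, v, hv⟩ : ∃ (r : ℕ) (v : Fin r → Matrix (Fin m) (Fin m) A),
        Submodule.span A (Set.range v) = Submodule.span A (Set.range fun s => ψ (φ s)) :=
      Submodule.fg_iff_exists_fin_generating_family.1 (IsNoetherian.noetherian _)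
    have key : ∀ p : PrimeSpectrum A, Module.finrank p.asIdeal.ResidueField
          (Submodule.span p.asIdeal.ResidueField
            (Set.range fun s : S =>
              LinearMap.baseChange p.asIdeal.ResidueField (DistribSMul.toLinearMap A Q s))) =
        Module.finrank p.asIdeal.ResidueField (Submodule.span p.asIdeal.ResidueField
          (Set.range fun i => fun xy : Fin m × Fin m => algebraMap A p.asIdeal.ResidueField (v i xy.1 xy.2))) := by
      intro p
      set K := p.asIdeal.ResidueField
      let bK := Algebra.TensorProduct.basis K (Pi.basisFun A (Fin m))
      let Ψ : (K ⊗[A] Q →ₗ[K] K ⊗[A] Q) →ₗ[K] (Fin m × Fin m → K) :=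
        { toFun := fun h xy => LinearMap.toMatrix bK bK (g.baseChange K ∘ₗ h ∘ₗ f.baseChange K) xy.1 xy.2
          map_add' := fun a b => by
            funext xy
            simp [LinearMap.add_comp, LinearMap.comp_add]
          map_smul' := fun c a => by
            funext xy
            simp [LinearMap.smul_comp, LinearMap.comp_smul] }
      have hΨinj : Function.Injective Ψ := by
        intro a b hab
        have hm : g.baseChange K ∘ₗ a ∘ₗ f.baseChange K = g.baseChange K ∘ₗ b ∘ₗ f.baseChange K :=
          (LinearMap.toMatrix bK bK).injective (Matrix.ext fun i j => congrFun hab (i, j))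
        have hid : f.baseChange K ∘ₗ g.baseChange K = LinearMap.id := by
          rw [← LinearMap.baseChange_comp, hfg, LinearMap.baseChange_id]
        have := congrArg (fun h => f.baseChange K ∘ₗ h ∘ₗ g.baseChange K) hm
        simpa only [← LinearMap.comp_assoc, hid, LinearMap.id_comp] using
          (by simpa only [LinearMap.comp_assoc, hid, LinearMap.comp_id] using this :
            f.baseChange K ∘ₗ g.baseChange K ∘ₗ a = f.baseChange K ∘ₗ g.baseChange K ∘ₗ b)
      have hΨ : ∀ s, Ψ ((φ s).baseChange K) = fun xy : Fin m × Fin m => algebraMap A K (ψ (φ s) xy.1 xy.2) := by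
        intro s
        funext xy
        show LinearMap.toMatrix bK bK (g.baseChange K ∘ₗ (φ s).baseChange K ∘ₗ f.baseChange K) xy.1 xy.2 = _
        rw [← LinearMap.baseChange_comp, ← LinearMap.baseChange_comp]
        simp only [bK, LinearMap.toMatrix_baseChange]
        rfl
      refine (Submodule.equivMapOfInjective Ψ hΨinj _).finrank_eq.trans ?_
      rw [Submodule.map_span, ← Set.range_comp]
      have hle : ∀ (ι₁ ι₂ : Type u) (a : ι₁ → Matrix (Fin m) (Fin m) A) (b : ι₂ → Matrix (Fin m) (Fin m) A),
          (∀ i, a i ∈ Submodule.span A (Set.range b)) →
          Submodule.span K (Set.range fun i => fun xy : Fin m × Fin m => algebraMap A K (a i xy.1 xy.2)) ≤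
            Submodule.span K (Set.range fun i => fun xy : Fin m × Fin m => algebraMap A K (b i xy.1 xy.2)) := by
        intro ι₁ ι₂ a b hab
        rw [Submodule.span_le]
        rintro _ ⟨i, rfl⟩
        show (fun xy : Fin m × Fin m => algebraMap A K (a i xy.1 xy.2)) ∈ _
        have hi := hab i
        generalize a i = x at hi
        induction hi using Submodule.span_induction with
        | mem y hy => obtain ⟨j, rfl⟩ := hy; exact Submodule.subset_span ⟨j, rfl⟩
        | zero =>
          have : (fun xy : Fin m × Fin m => algebraMap A K ((0 : Matrix (Fin m) (Fin m) A) xy.1 xy.2)) = 0 := by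
            funext xy; simp
          rw [this]; exact zero_mem _
        | add y z _ _ hy hz =>
          have : (fun xy : Fin m × Fin m => algebraMap A K ((y + z) xy.1 xy.2)) =
              (fun xy : Fin m × Fin m => algebraMap A K (y xy.1 xy.2)) +
              (fun xy : Fin m × Fin m => algebraMap A K (z xy.1 xy.2)) := by
            funext xy; simp
          rw [this]; exact add_mem hy hz
        | smul c y _ hy =>
          have : (fun xy : Fin m × Fin m => algebraMap A K ((c • y) xy.1 xy.2)) =
              algebraMap A K c • (fun xy : Fin m × Fin m => algebraMap A K (y xy.1 xy.2)) := by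
            funext xy; simp
          rw [this]; exact Submodule.smul_mem _ _ hy
      have heq : Set.range (Ψ ∘ fun s : S => LinearMap.baseChange K (DistribSMul.toLinearMap A Q s)) =
          Set.range fun s : S => fun xy : Fin m × Fin m => algebraMap A K (ψ (φ s) xy.1 xy.2) :=
        congrArg Set.range (funext hΨ)
      rw [heq]
      have h1 := hle S (ULift.{u} (Fin r)) (fun s => ψ (φ s)) (fun i => v i.down) (fun s => by
        have : Set.range (fun i : ULift.{u} (Fin r) => v i.down) = Set.range v := ULift.down_surjective.range_comp v
        rw [this, hv]; exact Submodule.subset_span ⟨s, rfl⟩)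
      have h2 := hle (ULift.{u} (Fin r)) S (fun i => v i.down) (fun s => ψ (φ s)) (fun i => by
        rw [← hv]; exact Submodule.subset_span ⟨i.down, rfl⟩)
      have h3 : Set.range (fun i : ULift.{u} (Fin r) => fun xy : Fin m × Fin m => algebraMap A K (v i.down xy.1 xy.2)) =
          Set.range fun i => fun xy : Fin m × Fin m => algebraMap A K (v i xy.1 xy.2) :=
        ULift.down_surjective.range_comp (fun i => fun xy : Fin m × Fin m => algebraMap A K (v i xy.1 xy.2))
      rw [le_antisymm h1 h2, h3]
    -- the loci where the rank is at least `k` are open
    have hminor : ∀ (K : Type u) [Field K] (w : Fin r → (Fin m × Fin m → K)) (k : ℕ),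
        k ≤ Module.finrank K (Submodule.span K (Set.range w)) ↔
          ∃ (e : Fin k → Fin r) (d : Fin k → Fin m × Fin m), (Matrix.of fun a b => w (e a) (d b)).det ≠ 0 := by
      intro K _ w k
      constructor
      · intro hk
        obtain ⟨κ, a, ha, hspan, hli⟩ := exists_linearIndependent' K w
        haveI : Finite κ := Finite.of_injective a ha
        haveI := Fintype.ofFinite κ
        have hcard : k ≤ Fintype.card κ := by
          rw [← finrank_span_eq_card hli, hspan]; exact hk
        obtain ⟨emb⟩ : Nonempty (Fin k ↪ κ) := Function.Embedding.nonempty_of_card_le (by simpa using hcard)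
        let M : Matrix (Fin k) (Fin m × Fin m) K := Matrix.of fun i => w (a (emb i))
        have hrank : M.rank = k := by
          rw [LinearIndependent.rank_matrix (show LinearIndependent K M.row from hli.comp _ emb.injective), Fintype.card_fin]
        obtain ⟨κ', a', ha', hspan', hli'⟩ := exists_linearIndependent' K M.col
        haveI : Finite κ' := Finite.of_injective a' ha'
        haveI := Fintype.ofFinite κ'
        have hcard' : Fintype.card κ' = k := by
          rw [← finrank_span_eq_card hli', hspan', ← Matrix.rank_eq_finrank_span_cols, hrank]
        let e' : Fin k ≃ κ' := ((Fintype.equivFinOfCardEq hcard')).symm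
        refine ⟨a ∘ emb, a' ∘ e', ?_⟩
        have hcols : LinearIndependent K (Matrix.of fun i j => w (a (emb i)) (a' (e' j))).col :=
          hli'.comp _ e'.injective
        exact ((Matrix.isUnit_iff_isUnit_det _).1 (Matrix.linearIndependent_cols_iff_isUnit.1 hcols)).ne_zero
      · rintro ⟨e, d, hdet⟩
        have hrows : LinearIndependent K (Matrix.of fun a b => w (e a) (d b)).row :=
          Matrix.linearIndependent_rows_iff_isUnit.2 ((Matrix.isUnit_iff_isUnit_det _).2 (isUnit_iff_ne_zero.2 hdet))
        have hwe : LinearIndependent K (w ∘ e) :=
          LinearIndependent.of_comp (LinearMap.funLeft K K d) hrows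
        calc k = Module.finrank K (Submodule.span K (Set.range (w ∘ e))) := by
              rw [finrank_span_eq_card hwe, Fintype.card_fin]
          _ ≤ _ := Submodule.finrank_mono (Submodule.span_mono (Set.range_comp_subset_range e w))
    let U : ℕ → Set (PrimeSpectrum A) := fun k => ⋃ (e : Fin k → Fin r), ⋃ (d : Fin k → Fin m × Fin m),
      (PrimeSpectrum.basicOpen ((Matrix.of fun a b => v (e a) (d b).1 (d b).2).det) : Set (PrimeSpectrum A))
    have hU : ∀ k p, p ∈ U k ↔ k ≤ Module.finrank p.asIdeal.ResidueField (Submodule.span p.asIdeal.ResidueField
        (Set.range fun i => fun xy : Fin m × Fin m => algebraMap A p.asIdeal.ResidueField (v i xy.1 xy.2))) := by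
      intro k p
      rw [hminor]
      simp only [U, Set.mem_iUnion]
      refine exists_congr fun e => exists_congr fun d => ?_
      rw [SetLike.mem_coe, PrimeSpectrum.mem_basicOpen, ← not_iff_not, not_not, not_not,
        show (Matrix.of fun a b => algebraMap A p.asIdeal.ResidueField (v (e a) (d b).1 (d b).2)) =
          (algebraMap A p.asIdeal.ResidueField).mapMatrix (Matrix.of fun a b => v (e a) (d b).1 (d b).2) from rfl,
        ← RingHom.map_det, Ideal.algebraMap_residueField_eq_zero]
    have hUc : ∀ k, Topology.IsConstructible (U k) := fun k => by
      have hopen : IsOpen (U k) := isOpen_iUnion fun e => isOpen_iUnion fun d => (PrimeSpectrum.basicOpen _).isOpen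
      exact IsRetrocompact.isConstructible hopen (fun V _ _ => TopologicalSpace.NoetherianSpace.isCompact _)
    have hset : {p : PrimeSpectrum A |
        Module.finrank p.asIdeal.ResidueField
          (Submodule.span p.asIdeal.ResidueField
            (Set.range fun s : S =>
              LinearMap.baseChange p.asIdeal.ResidueField (DistribSMul.toLinearMap A Q s))) = n} = U n \ U (n + 1) := by
      ext p
      simp only [Set.mem_ofPred_eq, Set.mem_diff, hU, key]
      omega
    rw [hset]
    exact (hUc n).sdiff (hUc (n + 1))

end Groth.Agent.S15153
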