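import Groth.Statements.S15162
import Mathlib

set_option autoImplicit false
open Matrix
open BddFin

namespace Groth.Agent.S15162

/-- Let Γ be a finite subgroup of GL_2(ℤ) acting on ℤ² by matrix multiplication. If every element of Γ
has a non-zero fixed vector in ℤ², then there is a non-zero vector of ℤ² fixed by all of Γ. -/
theorem result
    (Γ : Subgroup (Matrix.GeneralLinearGroup (Fin 2) ℤ)) [Finite Γ]
    (h : ∀ γ ∈ Γ, ∃ v : Fin 2 → ℤ, v ≠ 0 ∧ (γ : Matrix (Fin 2) (Fin 2) ℤ) *ᵥ v = v) :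
    ∃ v : Fin 2 → ℤ, v ≠ 0 ∧ ∀ γ ∈ Γ, (γ : Matrix (Fin 2) (Fin 2) ℤ) *ᵥ v = v := by
  have key : ∀ γ ∈ Γ, Matrix.GeneralLinearGroup.det γ = 1 → γ = 1 := fun γ hγ hdet => by
    obtain ⟨v, hv, hvv⟩ := h γ hγ
    set M : Matrix (Fin 2) (Fin 2) ℤ := (γ : Matrix (Fin 2) (Fin 2) ℤ) with hMdef
    have hd : M.det = 1 := congrArg Units.val hdet
    have h0 : (M - 1).det = 0 := Matrix.exists_mulVec_eq_zero_iff.1 ⟨v, hv, by rw [Matrix.sub_mulVec, Matrix.one_mulVec, hvv, sub_self]⟩
    rw [Matrix.det_fin_two] at hd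
    rw [Matrix.det_fin_two] at h0
    simp at h0
    have htr : M 1 1 = 2 - M 0 0 := by linear_combination hd - h0
    rw [htr] at hd
    have hN : (M - 1) * (M - 1) = 0 := by
      ext i j
      fin_cases i <;> fin_cases j <;> simp [Matrix.mul_apply, Fin.sum_univ_two, htr] <;>
        first | ring1 | linear_combination hd | linear_combination -hd
    obtain ⟨n, hn, hpow⟩ := isOfFinOrder_iff_pow_eq_one.1 (isOfFinOrder_of_finite (⟨γ, hγ⟩ : Γ))
    have hpow' : M ^ n = 1 := by
      have := congrArg (fun g : Γ => ((g : Matrix.GeneralLinearGroup (Fin 2) ℤ) : Matrix (Fin 2) (Fin 2) ℤ)) hpow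
      simpa using this
    have hexp : ∀ k : ℕ, M ^ k = 1 + k • (M - 1) := fun k => by
      induction k with
      | zero => simp
      | succ k ih =>
        have e : M = 1 + (M - 1) := by abel
        rw [pow_succ, ih]
        conv_lhs => arg 2; rw [e]
        simp only [add_mul, mul_add, one_mul, mul_one, smul_mul_assoc, hN, smul_zero, succ_nsmul]
        abel
    rw [hexp] at hpow'
    have hz : M - 1 = 0 := by
      have := add_eq_left.1 hpow'
      ext i j
      have h2 := congrArg (fun A : Matrix (Fin 2) (Fin 2) ℤ => A i j) this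
      simpa [Matrix.smul_apply, hn.ne'] using h2
    exact Units.ext (sub_eq_zero.1 hz :)
  by_cases hall : ∀ γ ∈ Γ, γ = 1
  · exact ⟨![1, 0], by decide, fun γ hγ => by rw [hall γ hγ]; simp⟩
  push_neg at hall
  obtain ⟨γ, hγ, hne⟩ := hall
  obtain ⟨v, hv, hvv⟩ := h γ hγ
  refine ⟨v, hv, fun δ hδ => ?_⟩
  rcases Int.units_eq_one_or (Matrix.GeneralLinearGroup.det δ) with e | e
  · rw [key δ hδ e]; simp
  · have e' : Matrix.GeneralLinearGroup.det γ = -1 := (Int.units_eq_one_or _).resolve_left fun e' => hne (key γ hγ e')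
    have : δ * γ⁻¹ = 1 := key _ (Γ.mul_mem hδ (Γ.inv_mem hγ)) (by rw [map_mul, map_inv, e, e']; simp)
    rw [mul_inv_eq_one.1 this]; exact hvv

end Groth.Agent.S15162
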