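import Groth.Statements.S15164
import Mathlib

set_option autoImplicit false
universe u v
open BddFin

namespace Groth.Agent.S15164

/-- Let K be a field of characteristic p > 2, V a finite-dimensional K-vector space and q a quadratic
form on V that does not represent zero (q x = 0 only for x = 0). Then the group of K-linear
automorphisms of V preserving q has no element of order p: if g preserves q and g ^ p = 1 then g =
1. (Non-degeneracy of q, also assumed in the published statement, follows from anisotropy since 2 is
invertible, so it is not repeated here.) -/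
theorem result
    (K : Type u) [Field K] (p : ℕ) [Fact p.Prime] [CharP K p] (hp : p ≠ 2)
    (V : Type v) [AddCommGroup V] [Module K V] [FiniteDimensional K V]
    (q : QuadraticForm K V) (hq : q.Anisotropic)
    (g : V ≃ₗ[K] V) (hg : ∀ x : V, q (g x) = q x) (hgp : g ^ p = 1) : g = 1 := by
  have hpr := (Fact.out : p.Prime)
  have h2 : (2 : K) ≠ 0 := by
    intro h
    have := (CharP.cast_eq_zero_iff K p 2).1 (by exact_mod_cast h)
    exact hp ((Nat.prime_dvd_prime_iff_eq hpr Nat.prime_two).1 this)
  haveI : CharP (Module.End K V) p ∨ Subsingleton V := by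
    rcases subsingleton_or_nontrivial V with h | h
    · exact Or.inr h
    · exact Or.inl (charP_of_injective_algebraMap (algebraMap K (Module.End K V)).injective p)
  rcases this with hc | hV
  swap
  · exact LinearEquiv.ext fun x => Subsingleton.elim _ _
  let D : Module.End K V := (g : V →ₗ[K] V) - 1
  have hD : D ^ p = 0 := by
    rw [sub_pow_char_of_commute p (Commute.one_right _), one_pow]
    have : (g : V →ₗ[K] V) ^ p = ((g ^ p : V ≃ₗ[K] V) : V →ₗ[K] V) :=
      (map_pow (LinearEquiv.automorphismGroup.toLinearMapMonoidHom (R := K) (M := V)) g p).symm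
    rw [this, hgp]
    exact sub_eq_zero.2 rfl
  by_contra hne
  obtain ⟨x, hx⟩ : ∃ x, D x ≠ 0 := by
    by_contra h
    push Not at h
    exact hne (LinearEquiv.ext fun x => by simpa [D, sub_eq_zero] using h x)
  classical
  have hex : ∃ k, (D ^ (k + 1)) x = 0 := ⟨p, by rw [pow_succ', hD]; simp⟩
  have hk : (D ^ (Nat.find hex + 1)) x = 0 := Nat.find_spec hex
  obtain ⟨k, hk1⟩ : ∃ k, Nat.find hex = k + 1 := ⟨Nat.find hex - 1, by
    have : Nat.find hex ≠ 0 := fun h => hx (by rw [h] at hk; simpa using hk)
    omega⟩
  have hw : (D ^ (k + 1)) x ≠ 0 := Nat.find_min hex (by omega)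
  rw [hk1] at hk
  set y := (D ^ k) x with hy
  set w := (D ^ (k + 1)) x with hwdef
  have e1 : g y = y + w := by
    rw [hwdef, pow_succ', Module.End.mul_apply, ← hy]
    simp [D]
  have e2 : g w = w := by
    rw [pow_succ', Module.End.mul_apply, ← hwdef] at hk
    simpa [D, sub_eq_zero] using hk
  have key : QuadraticMap.polar q (g y) (g w) = QuadraticMap.polar q y w := by
    simp only [QuadraticMap.polar, ← map_add, hg]
  rw [e1, e2, QuadraticMap.polar_add_left, add_eq_left, QuadraticMap.polar_self, two_smul, ← two_mul] at key
  exact hw (hq w ((mul_eq_zero.1 key).resolve_left h2))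

end Groth.Agent.S15164
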