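import Groth.Statements.S15165
import Mathlib

set_option autoImplicit false
universe u v
open Polynomial
open BddFin

namespace Groth.Agent.S15165

/-- Let K be a field of characteristic different from 2 such that K contains all roots of unity (for
every n ≥ 1 the polynomial X^n − 1 splits into linear factors over K), V a finite-dimensional
K-vector space and q a quadratic form on V that does not represent zero. If a K-linear automorphism
g of V preserves q and has finite order (g ^ d = 1 for some d ≥ 1), then g ^ 2 = 1. (The published
statement also covers perfect fields of characteristic 2; this row is the case of characteristic ≠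
2.) -/
theorem result
    (K : Type u) [Field K] (hK : ∀ n : ℕ, 0 < n → (X ^ n - 1 : K[X]).Splits) (h2 : (2 : K) ≠ 0)
    (V : Type v) [AddCommGroup V] [Module K V] [FiniteDimensional K V]
    (q : QuadraticForm K V) (hq : q.Anisotropic)
    (g : V ≃ₗ[K] V) (hg : ∀ x : V, q (g x) = q x) (d : ℕ) (hd : 0 < d) (hgd : g ^ d = 1) :
    g ^ 2 = 1 := by
  classical
  let G : Module.End K V := (g : V →ₗ[K] V)
  have hdouble : ∀ (l : K) (v : V), (G - algebraMap K _ l) ((G - algebraMap K _ l) v) = 0 →
      (l = 0 ∨ (G - algebraMap K _ l) v = 0) := by
    intro l v hv
    rw [or_iff_not_imp_left]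
    intro hl
    set w := (G - algebraMap K _ l) v with hw
    have e1 : g v = l • v + w := by simp [hw, G, Module.algebraMap_end_apply]
    have e2 : g w = l • w := by simpa [G, Module.algebraMap_end_apply, sub_eq_zero] using hv
    by_contra h
    have hll : l * l = 1 := by
      have := hg w
      rw [e2, q.map_smul, smul_eq_mul] at this
      exact mul_right_cancel₀ (fun h0 => h (hq w h0)) (by rw [one_mul]; exact this)
    have key : QuadraticMap.polar q (g v) (g w) = QuadraticMap.polar q v w := by
      simp only [QuadraticMap.polar, ← map_add, hg]
    rw [e1, e2, QuadraticMap.polar_add_left, QuadraticMap.polar_smul_left, QuadraticMap.polar_smul_right,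
      QuadraticMap.polar_smul_right, QuadraticMap.polar_self, smul_eq_mul, smul_eq_mul, smul_eq_mul, ← mul_assoc,
      hll, one_mul, add_eq_left, two_smul, ← two_mul] at key
    exact h (hq w ((mul_eq_zero.1 ((mul_eq_zero.1 key).resolve_left hl)).resolve_left h2))
  have hGi : Function.Injective G := g.injective
  have hind : ∀ (s : List K) (v : V), (s.map fun l => G - algebraMap K _ l).prod v = 0 → G (G v) = v := by
    intro s
    induction s with
    | nil => intro v hv; simp only [List.map_nil, List.prod_nil, Module.End.one_apply] at hv; simp [hv]
    | cons l s ih =>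
      intro v hv
      have hcomm : Commute (G - algebraMap K _ l) (s.map fun l => G - algebraMap K _ l).prod := by
        refine Commute.list_prod_right _ _ fun x hx => ?_
        obtain ⟨m, -, rfl⟩ := List.mem_map.1 hx
        exact ((Commute.refl G).sub_right (Algebra.commute_algebraMap_right m G)).sub_left ((Algebra.commute_algebraMap_left l G).sub_right (Algebra.commute_algebraMap_left l _))
      rw [List.map_cons, List.prod_cons, hcomm.eq] at hv
      have h1 := ih _ hv
      set y := G (G v) - v with hy
      have hy2 : (G - algebraMap K _ l) y = 0 := by
        simp only [LinearMap.sub_apply, Module.algebraMap_end_apply, map_sub, map_smul] at h1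
        simp only [hy, LinearMap.sub_apply, Module.algebraMap_end_apply, map_sub, smul_sub]
        rw [← h1]
        abel
      by_contra hne
      have hyne : y ≠ 0 := sub_ne_zero.2 hne
      have e : g y = l • y := by simpa [G, Module.algebraMap_end_apply, sub_eq_zero] using hy2
      have hll : l * l = 1 := by
        have := hg y
        rw [e, q.map_smul, smul_eq_mul] at this
        exact mul_right_cancel₀ (fun h0 => hyne (hq y h0)) (by rw [one_mul]; exact this)
      have hfac : ∀ u : V, (G - algebraMap K _ l) (G u + l • u) = G (G u) - u := fun u => by
        simp only [LinearMap.sub_apply, Module.algebraMap_end_apply, map_add, map_smul]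
        rw [smul_sub, smul_smul, hll, one_smul]
        abel
      rcases hdouble l (G v + l • v) (by rw [hfac]; exact hy2) with h | h
      · rw [h, zero_mul] at hll; exact zero_ne_one hll
      · rw [hfac] at h; exact hyne h
  have hsp := hK d hd
  obtain ⟨s, hs⟩ : ∃ s : List K, (X ^ d - 1 : K[X]) = (s.map fun l => X - C l).prod := by
    refine ⟨(X ^ d - 1 : K[X]).roots.toList, ?_⟩
    conv_lhs => rw [hsp.eq_prod_roots_of_monic (monic_X_pow_sub_C (1 : K) hd.ne')]
    rw [← Multiset.prod_coe, ← Multiset.map_coe, Multiset.coe_toList]
  have hG : (s.map fun l => G - algebraMap K _ l).prod = 0 := by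
    have h := congrArg (aeval G) hs
    rw [map_sub, map_pow, aeval_X, map_one, map_list_prod, List.map_map] at h
    have hgd' : G ^ d = 1 := by
      exact (map_pow (LinearEquiv.automorphismGroup.toLinearMapMonoidHom (R := K) (M := V)) g d).symm.trans
        (congrArg (fun e : V ≃ₗ[K] V => (e : V →ₗ[K] V)) hgd)
    rw [hgd', sub_self] at h
    rw [h]
    congr 2
    funext l
    simp
  refine LinearEquiv.ext fun v => ?_
  exact hind s v (by rw [hG]; rfl)

end Groth.Agent.S15165
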