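import Groth.Statements.S15166
import Mathlib
import Groth.Agent.S15165

set_option autoImplicit false
universe u v
open Polynomial
open BddFin

namespace Groth.Agent.S15166

/-- Let K be a field of characteristic different from 2 such that K contains all roots of unity (for
every n ≥ 1 the polynomial X^n − 1 splits into linear factors over K), V a finite-dimensional
K-vector space and q a quadratic form on V that does not represent zero. Then every finite subgroup
of the group of K-linear automorphisms of V preserving q is abelian and has order at most 2 ^ (dim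
V). (The published statement also covers perfect fields of characteristic 2; this row is the case of
characteristic ≠ 2.) -/
theorem result
    (K : Type u) [Field K] (hK : ∀ n : ℕ, 0 < n → (X ^ n - 1 : K[X]).Splits) (h2 : (2 : K) ≠ 0)
    (V : Type v) [AddCommGroup V] [Module K V] [FiniteDimensional K V]
    (q : QuadraticForm K V) (hq : q.Anisotropic)
    (G : Subgroup (V ≃ₗ[K] V)) [Finite G] (hG : ∀ g ∈ G, ∀ x : V, q (g x) = q x) :
    (∀ g ∈ G, ∀ h ∈ G, g * h = h * g) ∧ Nat.card G ≤ 2 ^ Module.finrank K V := by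
  classical
  have hsq : ∀ g ∈ G, ∀ x : V, g (g x) = x := fun g hg x => by
    have h := Groth.Agent.S15165.result K hK h2 V q hq g (hG g hg) (Nat.card G) Nat.card_pos (congrArg Subtype.val (pow_card_eq_one' (x := (⟨g, hg⟩ : G))))
    exact LinearEquiv.congr_fun (show g * g = 1 by rw [← pow_two]; exact h) x
  have hcomm : ∀ g ∈ G, ∀ h ∈ G, g * h = h * g := fun g hg h hh => LinearEquiv.ext fun x => by
    have e := hsq (g * h) (mul_mem hg hh) (h (g x))
    simp only [LinearEquiv.mul_apply] at e ⊢
    rw [hsq h hh, hsq g hg] at e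
    exact e
  refine ⟨hcomm, ?_⟩
  have key : ∀ n, ∀ W : Submodule K V, Module.finrank K W ≤ n → (∀ g ∈ G, ∀ w ∈ W, g w ∈ W) →
      (Set.range fun (g : G) (w : W) => (g : V ≃ₗ[K] V) (w : V)).ncard ≤ 2 ^ Module.finrank K W := by
    intro n
    induction n with
    | zero =>
      intro W hW _
      have : Module.finrank K W = 0 := by omega
      have hs : Subsingleton W := Module.finrank_zero_iff.1 this
      rw [this, pow_zero, Set.ncard_le_one_iff_subsingleton]
      rintro _ ⟨g, rfl⟩ _ ⟨g', rfl⟩
      funext w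
      rw [Subsingleton.elim w 0]
      simp
    | succ n ih =>
      intro W hW hst
      by_cases hsc : ∀ g : G, (∀ w ∈ W, (g : V ≃ₗ[K] V) w = w) ∨ (∀ w ∈ W, (g : V ≃ₗ[K] V) w = -w)
      · rcases Nat.eq_zero_or_pos (Module.finrank K W) with h0 | h0
        · have hs : Subsingleton W := Module.finrank_zero_iff.1 h0
          rw [h0, pow_zero, Set.ncard_le_one_iff_subsingleton]
          rintro _ ⟨g, rfl⟩ _ ⟨g', rfl⟩
          funext w
          rw [Subsingleton.elim w 0]
          simp
        · have hsub : (Set.range fun (g : G) (w : W) => (g : V ≃ₗ[K] V) (w : V)) ⊆ ({fun w : W => (w : V), fun w : W => -(w : V)} : Set (W → V)) := by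
            rintro _ ⟨g, rfl⟩
            rcases hsc g with h | h
            · exact Or.inl (funext fun w => h w w.2)
            · exact Or.inr (funext fun w => h w w.2)
          refine (Set.ncard_le_ncard hsub (Set.toFinite _)).trans ((Set.ncard_insert_le _ _).trans ?_)
          rw [Set.ncard_singleton]
          exact Nat.le_self_pow h0.ne' 2
      · push Not at hsc
        obtain ⟨g, ⟨a, ha, hga⟩, b, hb, hgb⟩ := hsc
        let E : V →ₗ[K] V := ((g : V ≃ₗ[K] V) : V →ₗ[K] V)
        let P : Submodule K V := W ⊓ LinearMap.ker (E - LinearMap.id)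
        let Q : Submodule K V := W ⊓ LinearMap.ker (E + LinearMap.id)
        have hPm : ∀ v, v ∈ P ↔ v ∈ W ∧ (g : V ≃ₗ[K] V) v = v := fun v => by simp [P, E, sub_eq_zero]
        have hQm : ∀ v, v ∈ Q ↔ v ∈ W ∧ (g : V ≃ₗ[K] V) v = -v := fun v => by simp [Q, E, add_eq_zero_iff_eq_neg]
        have hdisj : P ⊓ Q = ⊥ := by
          rw [eq_bot_iff]
          rintro v ⟨h1, h3⟩
          rw [SetLike.mem_coe, hPm] at h1
          rw [SetLike.mem_coe, hQm, h1.2, eq_neg_iff_add_eq_zero, ← two_smul K] at h3
          exact (Submodule.mem_bot K).2 ((smul_eq_zero.1 h3.2).resolve_left h2)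
        have hdec : ∀ w ∈ W, ∃ p ∈ P, ∃ r ∈ Q, p + r = w := fun w hw => by
          have hgw := hst g g.2 w hw
          refine ⟨(2 : K)⁻¹ • (w + (g : V ≃ₗ[K] V) w), ?_, (2 : K)⁻¹ • (w - (g : V ≃ₗ[K] V) w), ?_, ?_⟩
          · rw [hPm]
            exact ⟨Submodule.smul_mem _ _ (add_mem hw hgw), by rw [map_smul, map_add, hsq g g.2, add_comm]⟩
          · rw [hQm]
            exact ⟨Submodule.smul_mem _ _ (sub_mem hw hgw), by rw [map_smul, map_sub, hsq g g.2, ← smul_neg, neg_sub]⟩
          · rw [← smul_add, add_add_sub_cancel, ← two_smul K w, smul_smul, inv_mul_cancel₀ h2, one_smul]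
        have hsup : P ⊔ Q = W := le_antisymm (sup_le inf_le_left inf_le_left) fun w hw => Submodule.mem_sup.2 (hdec w hw)
        have hdim := Submodule.finrank_sup_add_finrank_inf_eq P Q
        rw [hsup, hdisj, finrank_bot, add_zero] at hdim
        have hPlt : P < W := lt_of_le_of_ne inf_le_left fun h => hga ((hPm a).1 (h ▸ ha)).2
        have hQlt : Q < W := lt_of_le_of_ne inf_le_left fun h => hgb ((hQm b).1 (h ▸ hb)).2
        have hP' := Submodule.finrank_lt_finrank_of_lt hPlt
        have hQ' := Submodule.finrank_lt_finrank_of_lt hQlt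
        have stP : ∀ h ∈ G, ∀ v ∈ P, h v ∈ P := fun h hh v hv => by
          rw [hPm] at hv ⊢
          refine ⟨hst h hh v hv.1, ?_⟩
          rw [← LinearEquiv.mul_apply, hcomm g g.2 h hh, LinearEquiv.mul_apply, hv.2]
        have stQ : ∀ h ∈ G, ∀ v ∈ Q, h v ∈ Q := fun h hh v hv => by
          rw [hQm] at hv ⊢
          refine ⟨hst h hh v hv.1, ?_⟩
          rw [← LinearEquiv.mul_apply, hcomm g g.2 h hh, LinearEquiv.mul_apply, hv.2, map_neg]
        have hP := ih P (by omega) stP
        have hQ := ih Q (by omega) stQ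
        refine le_trans ?_ ((Nat.mul_le_mul hP hQ).trans_eq (by rw [← pow_add, hdim]))
        rw [← Set.ncard_prod]
        refine Set.ncard_le_ncard_of_injOn (fun F : W → V => ((fun p : P => F ⟨p, ((hPm _).1 p.2).1⟩), (fun r : Q => F ⟨r, ((hQm _).1 r.2).1⟩))) ?_ ?_
          ((Set.finite_range _).prod (Set.finite_range _))
        · rintro _ ⟨h, rfl⟩
          exact ⟨⟨h, rfl⟩, ⟨h, rfl⟩⟩
        · rintro _ ⟨h, rfl⟩ _ ⟨h', rfl⟩ e
          funext w
          obtain ⟨p, hp, r, hr, hpr⟩ := hdec w w.2
          have e1 := congrFun (congrArg Prod.fst e) ⟨p, hp⟩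
          have e2 := congrFun (congrArg Prod.snd e) ⟨r, hr⟩
          simp only at e1 e2 ⊢
          rw [← hpr, map_add, map_add, e1, e2]
  have := key _ ⊤ le_rfl (fun _ _ _ _ => trivial)
  rw [finrank_top] at this
  rw [← Set.ncard_range_of_injective (f := fun (g : G) (w : (⊤ : Submodule K V)) => (g : V ≃ₗ[K] V) (w : V))
    (fun g g' h => Subtype.ext (LinearEquiv.ext fun v => congrFun h ⟨v, trivial⟩))]
  exact this

end Groth.Agent.S15166
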