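import Groth.Statements.S15167
import Mathlib
import Groth.Agent.Lib.H7CSAModule

set_option autoImplicit false
universe u v
open Polynomial
open BddFin

namespace Groth.Agent.S15167


open scoped TensorProduct in
/-- A finite module over `L ⊗ Aᵐᵒᵖ`, `A` central simple of dimension `n²`, `L` a field of degree `r`,
has dimension divisible by `r n`. -/
theorem dvd_finrank_module {K : Type u} [Field K] {A : Type v} [Ring A] [Algebra K A]
    [Algebra.IsCentral K A] [IsSimpleRing A] [FiniteDimensional K A] {n : ℕ}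
    (hn : Module.finrank K A = n ^ 2) (L : Type u) [Field L] [Algebra K L] [FiniteDimensional K L]
    (M : Type v) [AddCommGroup M] [Module K M] [FiniteDimensional K M]
    [Module (L ⊗[K] Aᵐᵒᵖ) M] [IsScalarTower K (L ⊗[K] Aᵐᵒᵖ) M] :
    Module.finrank K L * n ∣ Module.finrank K M := by
  rcases subsingleton_or_nontrivial M with h | h
  · rw [Module.finrank_zero_of_subsingleton (R := K) (M := M)]; exact dvd_zero _
  haveI : IsSimpleRing (L ⊗[K] Aᵐᵒᵖ) := H7CSA.isSimpleRing_tensor K L Aᵐᵒᵖ
  obtain ⟨-, h2⟩ := H7CSA.isSimpleRing_end_and_finrank K (L ⊗[K] Aᵐᵒᵖ) M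
  have hc : ∀ (l : L) (r : L ⊗[K] Aᵐᵒᵖ), (l ⊗ₜ[K] (1 : Aᵐᵒᵖ)) * r = r * (l ⊗ₜ[K] (1 : Aᵐᵒᵖ)) := by
    intro l r
    induction r using TensorProduct.induction_on with
    | zero => simp
    | add a b ha hb => rw [mul_add, add_mul, ha, hb]
    | tmul a b => simp [Algebra.TensorProduct.tmul_mul_tmul, mul_comm]
  let φ : L →ₐ[K] Module.End (L ⊗[K] Aᵐᵒᵖ) M :=
    { toFun := fun l =>
        { toFun := fun m => (l ⊗ₜ[K] (1 : Aᵐᵒᵖ)) • m
          map_add' := smul_add _
          map_smul' := fun r m => by simp [smul_smul, hc] }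
      map_one' := LinearMap.ext fun m => by
        show ((1 : L) ⊗ₜ[K] (1 : Aᵐᵒᵖ)) • m = m
        rw [← Algebra.TensorProduct.one_def, one_smul]
      map_mul' := fun a b => LinearMap.ext fun m => by
        show ((a * b) ⊗ₜ[K] (1 : Aᵐᵒᵖ)) • m = (a ⊗ₜ[K] (1 : Aᵐᵒᵖ)) • (b ⊗ₜ[K] (1 : Aᵐᵒᵖ)) • m
        rw [smul_smul, Algebra.TensorProduct.tmul_mul_tmul, mul_one]
      map_zero' := LinearMap.ext fun m => by
        show ((0 : L) ⊗ₜ[K] (1 : Aᵐᵒᵖ)) • m = 0
        rw [TensorProduct.zero_tmul]
        exact zero_smul (L ⊗[K] Aᵐᵒᵖ) m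
      map_add' := fun a b => LinearMap.ext fun m => by
        show ((a + b) ⊗ₜ[K] (1 : Aᵐᵒᵖ)) • m = (a ⊗ₜ[K] (1 : Aᵐᵒᵖ)) • m + (b ⊗ₜ[K] (1 : Aᵐᵒᵖ)) • m
        rw [TensorProduct.add_tmul, add_smul]
      commutes' := fun c => LinearMap.ext fun m => by
        show ((algebraMap K L c) ⊗ₜ[K] (1 : Aᵐᵒᵖ)) • m = c • m
        rw [Algebra.algebraMap_eq_smul_one, ← TensorProduct.smul_tmul', ← Algebra.TensorProduct.one_def,
          smul_assoc, one_smul] }
  letI : Algebra L (Module.End (L ⊗[K] Aᵐᵒᵖ) M) := φ.toRingHom.toAlgebra' (fun l f => by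
    refine LinearMap.ext (fun m => ?_)
    exact (f.map_smul _ _).symm)
  haveI : IsScalarTower K L (Module.End (L ⊗[K] Aᵐᵒᵖ) M) :=
    IsScalarTower.of_algebraMap_eq (fun c => (φ.commutes c).symm)
  have h3 := Module.finrank_mul_finrank K L (Module.End (L ⊗[K] Aᵐᵒᵖ) M)
  rw [Module.finrank_tensorProduct, (MulOpposite.opLinearEquiv K (M := A)).symm.finrank_eq, hn, ← h3] at h2
  have h4 : (Module.finrank K L * n) ^ 2 ∣ Module.finrank K M ^ 2 :=
    ⟨Module.finrank L (Module.End (L ⊗[K] Aᵐᵒᵖ) M), by rw [← h2]; ring⟩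
  exact (Nat.pow_dvd_pow_iff two_ne_zero).mp h4

open scoped TensorProduct in
open Polynomial in
/-- A subspace stable under left multiplication by `x` and right multiplication, killed by an
irreducible `f(x)`, has dimension divisible by `deg f · n`. -/
theorem dvd_finrank_killed {K : Type u} [Field K] {A : Type v} [Ring A] [Algebra K A]
    [Algebra.IsCentral K A] [IsSimpleRing A] [FiniteDimensional K A] {n : ℕ}
    (hn : Module.finrank K A = n ^ 2) (x : A) (f : K[X]) (hf : Irreducible f) (W : Submodule K A)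
    (hx : ∀ w ∈ W, x * w ∈ W) (hr : ∀ w ∈ W, ∀ a : A, w * a ∈ W)
    (hk : ∀ w ∈ W, aeval x f * w = 0) :
    f.natDegree * n ∣ Module.finrank K W := by
  haveI : Fact (Irreducible f) := ⟨hf⟩
  haveI : FiniteDimensional K (AdjoinRoot f) := (AdjoinRoot.powerBasis hf.ne_zero).finite
  let T : Module.End K W := (LinearMap.mulLeft K x).restrict hx
  have hT : aeval T f = 0 := by
    ext w
    have key : ∀ p : K[X], ((aeval T p w : W) : A) = aeval x p * (w : A) := by
      intro p
      induction p using Polynomial.induction_on' with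
      | add p q hp hq => simp [hp, hq, add_mul]
      | monomial i c =>
        have hi : ∀ (i : ℕ) (w : W), (((T ^ i) w : W) : A) = x ^ i * (w : A) := by
          intro i
          induction i with
          | zero => intro w; simp
          | succ i ih => intro w; rw [pow_succ, Module.End.mul_apply, ih, pow_succ, mul_assoc]; rfl
        simp [aeval_monomial, hi, Algebra.smul_def, mul_assoc]
    simpa [key] using hk w w.2
  let φ : AdjoinRoot f →ₐ[K] Module.End K W :=
    Ideal.Quotient.liftₐ (Ideal.span {f}) (aeval T) (fun p hp => by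
      obtain ⟨q, rfl⟩ := Ideal.mem_span_singleton'.mp hp
      rw [map_mul, hT, mul_zero])
  let ψ : Aᵐᵒᵖ →ₐ[K] Module.End K W :=
    { toFun := fun a => (LinearMap.mulRight K a.unop).restrict (fun w hw => hr w hw a.unop)
      map_one' := LinearMap.ext fun w => Subtype.ext (by simp)
      map_mul' := fun a b => LinearMap.ext fun w => Subtype.ext (mul_assoc _ _ _).symm
      map_zero' := LinearMap.ext fun w => Subtype.ext (by simp)
      map_add' := fun a b => LinearMap.ext fun w => Subtype.ext (mul_add _ _ _)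
      commutes' := fun c => LinearMap.ext fun w => Subtype.ext (by simp [Algebra.smul_def, Algebra.commutes]) }
  have hcomm : ∀ l a, Commute (φ l) (ψ a) := by
    intro l a
    induction l using AdjoinRoot.induction_on with
    | ih p =>
      have : φ (AdjoinRoot.mk f p) = aeval T p := by
        rfl
      rw [this]
      exact (Algebra.commute_of_mem_adjoin_of_forall_mem_commute (aeval_mem_adjoin_singleton K T)
        (fun y hy => by
          rw [Set.mem_singleton_iff.mp hy]
          exact LinearMap.ext fun w => Subtype.ext (mul_assoc x _ _))).symm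
  let Φ := Algebra.TensorProduct.lift φ ψ hcomm
  letI : Module (AdjoinRoot f ⊗[K] Aᵐᵒᵖ) W := Module.compHom W Φ.toRingHom
  haveI : IsScalarTower K (AdjoinRoot f ⊗[K] Aᵐᵒᵖ) W := ⟨fun c r w => by
    show Φ (c • r) w = c • Φ r w
    rw [map_smul, LinearMap.smul_apply]⟩
  have h := dvd_finrank_module hn (AdjoinRoot f) W
  rwa [(AdjoinRoot.powerBasis hf.ne_zero).finrank, AdjoinRoot.powerBasis_dim] at h

open Polynomial in
theorem dvd_finrank_of_prod {K : Type u} [Field K] {A : Type v} [Ring A] [Algebra K A]
    [Algebra.IsCentral K A] [IsSimpleRing A] [FiniteDimensional K A] {n : ℕ}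
    (hn : Module.finrank K A = n ^ 2) (x : A) (r : ℕ) :
    ∀ (l : List K[X]), (∀ f ∈ l, Irreducible f ∧ f.natDegree = r) → ∀ (W : Submodule K A),
      (∀ w ∈ W, x * w ∈ W) → (∀ w ∈ W, ∀ a : A, w * a ∈ W) →
      (∀ w ∈ W, aeval x l.prod * w = 0) → r * n ∣ Module.finrank K W := by
  intro l
  induction l with
  | nil =>
    intro _ W _ _ hk
    have : W = ⊥ := by
      rw [eq_bot_iff]
      intro w hw
      simpa using hk w hw
    rw [this, finrank_bot]
    exact dvd_zero _
  | cons f l ih =>
    intro hl W hx hr hk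
    have hxf : Commute x (aeval x f) :=
      (Algebra.commute_of_mem_adjoin_self (aeval_mem_adjoin_singleton K x))
    let g : W →ₗ[K] A := (LinearMap.mulLeft K (aeval x f)).comp W.subtype
    let W' : Submodule K A := LinearMap.range g
    have h1 : r * n ∣ Module.finrank K W' := by
      refine ih (fun q hq => hl q (List.mem_cons_of_mem _ hq)) W' ?_ ?_ ?_
      · rintro _ ⟨w, rfl⟩
        exact ⟨⟨x * w, hx w w.2⟩, by simp [g, ← mul_assoc, hxf.eq]⟩
      · rintro _ ⟨w, rfl⟩ a
        exact ⟨⟨w * a, hr w w.2 a⟩, by simp [g, mul_assoc]⟩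
      · rintro _ ⟨w, rfl⟩
        have := hk w w.2
        rw [List.prod_cons, map_mul] at this
        show aeval x l.prod * (aeval x f * (w : A)) = 0
        rw [← mul_assoc, ← map_mul, mul_comm, map_mul]
        exact this
    let U : Submodule K A := W ⊓ LinearMap.ker (LinearMap.mulLeft K (aeval x f))
    have h2 : f.natDegree * n ∣ Module.finrank K U := by
      refine dvd_finrank_killed hn x f (hl f List.mem_cons_self).1 U ?_ ?_ (fun w hw => hw.2)
      · rintro w ⟨hw, hw0⟩
        refine ⟨hx w hw, ?_⟩
        show aeval x f * (x * w) = 0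
        rw [← mul_assoc, ← hxf.eq, mul_assoc, show aeval x f * w = 0 from hw0, mul_zero]
      · rintro w ⟨hw, hw0⟩ a
        refine ⟨hr w hw a, ?_⟩
        show aeval x f * (w * a) = 0
        rw [← mul_assoc, show aeval x f * w = 0 from hw0, zero_mul]
    rw [(hl f List.mem_cons_self).2] at h2
    have hker : Module.finrank K (LinearMap.ker g) = Module.finrank K U := by
      rw [← Submodule.finrank_map_subtype_eq, show (LinearMap.ker g).map W.subtype = U from ?_]
      rw [LinearMap.ker_comp, Submodule.map_comap_subtype]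
    rw [← LinearMap.finrank_range_add_finrank_ker g, hker]
    exact Nat.dvd_add h1 h2


/-- Let K be a field such that K contains all roots of unity (for every n ≥ 1 the polynomial X^n − 1
splits into linear factors over K), A a central simple K-algebra of dimension n ^ 2, and x an
invertible element of A some power x ^ m (m ≥ 1) of which lies in K. Then there are a positive
integer r dividing n and elements a_i of K such that the minimal polynomial of x over K is the
product of the polynomials X ^ r − a_i. -/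
theorem result
    (K : Type u) [Field K] (hK : ∀ n : ℕ, 0 < n → (X ^ n - 1 : K[X]).Splits)
    (A : Type v) [Ring A] [Algebra K A] [Algebra.IsCentral K A] [IsSimpleRing A] [FiniteDimensional K A]
    (n : ℕ) (hn : Module.finrank K A = n ^ 2)
    (x : A) (hx : IsUnit x) (hxm : ∃ m : ℕ, 0 < m ∧ x ^ m ∈ (algebraMap K A).range) :
    ∃ r : ℕ, 0 < r ∧ r ∣ n ∧ ∃ s : Multiset K, minpoly K x = (s.map fun a : K => X ^ r - C a).prod := by
  classical
  obtain ⟨m, hm, c, hc⟩ := hxm
  have hxint : IsIntegral K x := IsIntegral.of_finite K x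
  set μ := minpoly K x with hμ
  have hμ0 : μ ≠ 0 := minpoly.ne_zero hxint
  have hμm : μ.Monic := minpoly.monic hxint
  have hc0 : c ≠ 0 := by
    intro h0
    rw [h0, map_zero] at hc
    exact (hx.pow m).ne_zero hc.symm
  have hdvd : μ ∣ X ^ m - C c := minpoly.dvd K x (by simp [hc])
  let Kb := AlgebraicClosure K
  obtain ⟨α, hα⟩ := IsAlgClosed.exists_pow_nat_eq (algebraMap K Kb c) hm
  have hα0 : α ≠ 0 := by
    intro h0
    rw [h0, zero_pow hm.ne'] at hα
    exact hc0 ((algebraMap K Kb).injective (by rw [← hα, map_zero]))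
  have hroot1 : ∀ ζ : Kb, ζ ^ m = 1 → ζ ∈ (algebraMap K Kb).range := by
    intro ζ hζ
    refine (hK m hm).mem_range_of_isRoot ?_ (by simp [hζ])
    exact X_pow_sub_C_ne_zero hm 1
  have hex : ∃ r, 0 < r ∧ α ^ r ∈ (algebraMap K Kb).range := ⟨m, hm, c, hα.symm⟩
  let r := Nat.find hex
  obtain ⟨hr0, hαr⟩ : 0 < r ∧ α ^ r ∈ (algebraMap K Kb).range := Nat.find_spec hex
  -- every root of `X ^ m - c` has degree `r`
  have hfac : ∀ f : K[X], Irreducible f → f.Monic → f ∣ X ^ m - C c →
      f = X ^ r - C (-(f.coeff 0)) ∧ f.natDegree = r := by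
    intro f hf hfm hfd
    obtain ⟨β, hβ⟩ := IsAlgClosed.exists_root (f.map (algebraMap K Kb)) (by
      rw [degree_map]; exact (degree_pos_of_irreducible hf).ne')
    have hβ' : aeval β f = 0 := by rwa [IsRoot.def, eval_map_algebraMap] at hβ
    have hβm : β ^ m = algebraMap K Kb c := by
      obtain ⟨q, hq⟩ := hfd
      have : aeval β (X ^ m - C c) = 0 := by rw [hq, map_mul, hβ', zero_mul]
      simpa [sub_eq_zero] using this
    obtain ⟨z, hz⟩ := hroot1 (β / α) (by rw [div_pow, hβm, hα, div_self]; simpa using hc0)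
    have hβα : β = algebraMap K Kb z * α := by rw [hz, div_mul_cancel₀ _ hα0]
    have hrange : ∀ d, α ^ d ∈ (algebraMap K Kb).range ↔ β ^ d ∈ (algebraMap K Kb).range := by
      intro d
      have hz0 : z ≠ 0 := by
        intro h0
        rw [h0, map_zero, zero_mul] at hβα
        rw [hβα, zero_pow hm.ne'] at hβm
        exact hc0 ((algebraMap K Kb).injective (by rw [← hβm, map_zero]))
      constructor
      · rintro ⟨a, ha⟩
        exact ⟨z ^ d * a, by rw [map_mul, map_pow, hβα, mul_pow, ha]⟩
      · rintro ⟨a, ha⟩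
        refine ⟨a / z ^ d, ?_⟩
        rw [map_div₀, ha, hβα, mul_pow, map_pow, mul_div_cancel_left₀]
        exact pow_ne_zero _ ((_root_.map_ne_zero _).mpr hz0)
    obtain ⟨b, hb⟩ := (hrange r).mp hαr
    have hfr : f ∣ X ^ r - C b := by
      rw [minpoly.eq_of_irreducible_of_monic hf hβ' hfm]
      exact minpoly.dvd K β (by simp [hb])
    have hdr : f.natDegree ≤ r := by
      have := natDegree_le_of_dvd hfr (X_pow_sub_C_ne_zero hr0 b)
      rwa [natDegree_X_pow_sub_C] at this
    have hrd : r ≤ f.natDegree := by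
      refine Nat.find_min' hex ⟨hf.natDegree_pos, ?_⟩
      rw [hrange]
      -- the product of the roots of `f`
      have hsplit : (f.map (algebraMap K Kb)).Splits := IsAlgClosed.splits _
      have hcard : (f.map (algebraMap K Kb)).roots.card = f.natDegree := by
        rw [← hsplit.natDegree_eq_card_roots, natDegree_map]
      have hprod := hsplit.coeff_zero_eq_prod_roots_of_monic (hfm.map _)
      rw [coeff_map] at hprod
      have hrt : ∀ s ∈ (f.map (algebraMap K Kb)).roots, ∃ u : K, s = algebraMap K Kb u * β := by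
        intro s hs
        have hs' : aeval s f = 0 := by
          have := (mem_roots'.mp hs).2
          rwa [IsRoot.def, eval_map_algebraMap] at this
        have hsm : s ^ m = algebraMap K Kb c := by
          obtain ⟨q, hq⟩ := hfd
          have : aeval s (X ^ m - C c) = 0 := by rw [hq, map_mul, hs', zero_mul]
          simpa [sub_eq_zero] using this
        have hβ0 : β ≠ 0 := by
          intro h0
          rw [h0, zero_pow hm.ne'] at hβm
          exact hc0 ((algebraMap K Kb).injective (by rw [← hβm, map_zero]))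
        obtain ⟨u, hu⟩ := hroot1 (s / β) (by rw [div_pow, hβm, hsm, div_self]; simpa using hc0)
        exact ⟨u, by rw [hu, div_mul_cancel₀ _ hβ0]⟩
      have key : ∀ M : Multiset Kb, (∀ s ∈ M, ∃ u : K, s = algebraMap K Kb u * β) →
          ∃ u : K, M.prod = algebraMap K Kb u * β ^ M.card := by
        intro M hM
        induction M using Multiset.induction_on with
        | empty => exact ⟨1, by simp⟩
        | cons s M ih =>
          obtain ⟨u, hu⟩ := ih (fun t ht => hM t (Multiset.mem_cons_of_mem ht))
          obtain ⟨v, hv⟩ := hM s (Multiset.mem_cons_self s M)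
          exact ⟨v * u, by rw [Multiset.prod_cons, hu, hv, Multiset.card_cons, map_mul, pow_succ']; ring⟩
      obtain ⟨u, hu⟩ := key _ hrt
      rw [hu, hcard, natDegree_map] at hprod
      have hf0 : f.coeff 0 ≠ 0 := by
        intro h0
        have hX : X ∣ X ^ m - C c := (X_dvd_iff.mpr h0).trans hfd
        rw [X_dvd_iff, coeff_sub, coeff_X_pow, if_neg hm.ne, coeff_C_zero, zero_sub, neg_eq_zero] at hX
        exact hc0 hX
      have hu0 : u ≠ 0 := by
        intro h0
        rw [h0, map_zero, zero_mul, mul_zero] at hprod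
        exact hf0 ((algebraMap K Kb).injective (by rw [hprod, map_zero]))
      refine ⟨(-1) ^ f.natDegree * f.coeff 0 / u, ?_⟩
      have h1 : algebraMap K Kb u ≠ 0 := (_root_.map_ne_zero _).mpr hu0
      have hsq : ((-1 : Kb) ^ f.natDegree) * ((-1) ^ f.natDegree) = 1 := by
        rw [← mul_pow]; norm_num
      rw [map_div₀, map_mul, map_pow, map_neg, map_one, hprod, div_eq_iff h1]
      linear_combination (algebraMap K Kb u * β ^ f.natDegree) * hsq
    have hdeg : f.natDegree = r := le_antisymm hdr hrd
    refine ⟨?_, hdeg⟩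
    have heq : f = X ^ r - C b := (eq_of_monic_of_dvd_of_natDegree_le hfm (monic_X_pow_sub_C b hr0.ne') hfr
      (by rw [natDegree_X_pow_sub_C, hdeg])).symm
    rw [heq]
    simp [coeff_X_pow, hr0.ne]
  let fs := UniqueFactorizationMonoid.normalizedFactors μ
  have hfs : ∀ f ∈ fs, Irreducible f ∧ f.Monic ∧ f ∣ X ^ m - C c := by
    intro f hf
    have hirr := UniqueFactorizationMonoid.irreducible_of_normalized_factor f hf
    refine ⟨hirr, ?_, (UniqueFactorizationMonoid.dvd_of_mem_normalizedFactors hf).trans hdvd⟩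
    have := UniqueFactorizationMonoid.normalize_normalized_factor f hf
    rw [← this]
    exact monic_normalize hirr.ne_zero
  have hprod : fs.prod = μ := by
    exact eq_of_monic_of_associated
      (by simpa using monic_multiset_prod_of_monic fs id (fun f hf => (hfs f hf).2.1)) hμm
      (UniqueFactorizationMonoid.prod_normalizedFactors hμ0)
  refine ⟨r, hr0, ?_, fs.map (fun f => -(f.coeff 0)), ?_⟩
  · have htop : r * n ∣ Module.finrank K (⊤ : Submodule K A) := by
      refine dvd_finrank_of_prod hn x r fs.toList (fun f hf => ?_) ⊤ (fun _ _ => trivial) (fun _ _ _ => trivial)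
        (fun w _ => ?_)
      · have := hfs f (Multiset.mem_toList.mp hf)
        exact ⟨this.1, (hfac f this.1 this.2.1 this.2.2).2⟩
      · rw [Multiset.prod_toList, hprod, minpoly.aeval, zero_mul]
    rw [finrank_top, hn, sq] at htop
    have hn0 : 0 < n := by
      rcases Nat.eq_zero_or_pos n with h | h
      · exfalso
        rw [h] at hn
        have : 0 < Module.finrank K A := Module.finrank_pos
        simp [hn] at this
      · exact h
    exact Nat.dvd_of_mul_dvd_mul_right hn0 htop
  · rw [Multiset.map_map]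
    conv_lhs => rw [← hprod, ← Multiset.map_id fs]
    refine congrArg Multiset.prod (Multiset.map_congr rfl (fun f hf => ?_))
    exact (hfac f (hfs f hf).1 (hfs f hf).2.1 (hfs f hf).2.2).1

end Groth.Agent.S15167
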