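import Groth.Statements.S15168
import Groth.Agent.Lib.H7CSAModule
import Mathlib

set_option autoImplicit false
universe u v
open Polynomial
open BddFin

namespace Groth.Agent.S15168

/-- Let K be a field such that K contains all roots of unity (for every n ≥ 1 the polynomial X^n − 1
splits into linear factors over K), A a central division algebra of dimension n ^ 2 over K, and x an
element of A some power x ^ m (m ≥ 1) of which lies in K. Then x ^ n lies in K; that is, the order
of the class of x in the quotient of the unit group of A by that of K divides n. -/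
theorem result
    (K : Type u) [Field K] (hK : ∀ n : ℕ, 0 < n → (X ^ n - 1 : K[X]).Splits)
    (A : Type v) [DivisionRing A] [Algebra K A] [Algebra.IsCentral K A] [FiniteDimensional K A]
    (n : ℕ) (hn : Module.finrank K A = n ^ 2)
    (x : A) (hxm : ∃ m : ℕ, 0 < m ∧ x ^ m ∈ (algebraMap K A).range) :
    x ^ n ∈ (algebraMap K A).range := by
  classical
  obtain ⟨m, hm, a, ha⟩ := hxm
  rcases eq_or_ne x 0 with rfl | hx
  · have hn0 : n ≠ 0 := by
      rintro rfl
      simpa [Module.finrank_pos.ne'] using hn
    exact ⟨0, by simp [zero_pow hn0]⟩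
  let B := Algebra.adjoin K ({x} : Set A)
  letI : CommRing B := { (inferInstance : Ring B) with
    mul_comm := fun b c => Subtype.ext ((Algebra.commute_of_mem_adjoin_of_forall_mem_commute c.2
      fun y hy => by
        obtain rfl := hy
        exact (Algebra.commute_of_mem_adjoin_self b.2).symm) : Commute (b : A) (c : A)) }
  have hdom : IsDomain B := inferInstance
  letI := (isField_of_isIntegral_of_isField' (R := K) (S := B) (Field.toIsField K)).toField
  let xB : B := ⟨x, Algebra.subset_adjoin rfl⟩
  have hx0 : xB ≠ 0 := fun h => hx (congrArg Subtype.val h)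
  obtain ⟨hsimple, hdim⟩ := Groth.Agent.H7CSA.centralizer_subalgebra (k := K) B
  have hle : B ≤ Subalgebra.centralizer K (B : Set A) := fun b hb => by
    intro c hc
    exact congrArg Subtype.val (mul_comm (⟨c, hc⟩ : B) ⟨b, hb⟩)
  letI : Module B (Subalgebra.centralizer K (B : Set A)) := (Subalgebra.inclusion hle).toRingHom.toModule
  haveI : IsScalarTower K B (Subalgebra.centralizer K (B : Set A)) := ⟨fun r b c => smul_mul_assoc r (Subalgebra.inclusion hle b) c⟩
  have hd : Module.finrank K B ∣ n := by
    refine (Nat.pow_dvd_pow_iff two_ne_zero).1 ⟨Module.finrank B (Subalgebra.centralizer K (B : Set A)), ?_⟩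
    rw [← hn, hdim, ← Module.finrank_mul_finrank K B (Subalgebra.centralizer K (B : Set A))]
    ring
  set μ := minpoly K xB with hμ
  have hint : IsIntegral K xB := Algebra.IsIntegral.isIntegral xB
  have hdeg : μ.natDegree = Module.finrank K B := by
    rw [← IntermediateField.adjoin.finrank hint]
    have : IntermediateField.adjoin K {xB} = ⊤ := by
      rw [eq_top_iff]
      rintro ⟨y, hy⟩ -
      induction hy using Algebra.adjoin_induction with
      | mem y hy => obtain rfl := hy; exact IntermediateField.mem_adjoin_simple_self K xB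
      | algebraMap r => exact IntermediateField.algebraMap_mem _ r
      | add y z hy hz ihy ihz => exact add_mem ihy ihz
      | mul y z hy hz ihy ihz => exact mul_mem ihy ihz
    rw [this, IntermediateField.finrank_top']
  have hxBm : xB ^ m = algebraMap K B a := Subtype.ext (by simpa using ha.symm)
  have hsplit : (μ.map (algebraMap K B)).Splits := by
    have h1 : ((Polynomial.X ^ m - 1 : Polynomial K).map (algebraMap K B)).Splits := (hK m hm).map _
    have h2 := (h1.comp_of_natDegree_le_one (g := Polynomial.C xB⁻¹ * Polynomial.X) ((Polynomial.natDegree_C_mul_le _ _).trans Polynomial.natDegree_X_le)).C_mul (xB ^ m)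
    refine h2.of_dvd ?_ ?_
    · intro h
      have := congrArg (Polynomial.eval 0) h
      simp [zero_pow hm.ne', hx0] at this
    · have h3 : Polynomial.C (xB ^ m) * ((Polynomial.X ^ m - 1 : Polynomial K).map (algebraMap K B)).comp (Polynomial.C xB⁻¹ * Polynomial.X)
          = (Polynomial.X ^ m - Polynomial.C a : Polynomial K).map (algebraMap K B) := by
        simp only [Polynomial.map_sub, Polynomial.map_pow, Polynomial.map_X, Polynomial.map_one, Polynomial.sub_comp,
          Polynomial.pow_comp, Polynomial.X_comp, Polynomial.one_comp, mul_pow, Polynomial.map_C, ← Polynomial.C_pow]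
        rw [mul_sub, ← mul_assoc, ← Polynomial.C_mul, ← hxBm, ← mul_pow, mul_inv_cancel₀ hx0, one_pow, Polynomial.C_1, one_mul, mul_one]
      rw [h3]
      exact Polynomial.map_dvd _ (minpoly.dvd K xB (by simp [hxBm]))
  have hroot : ∀ r ∈ (μ.map (algebraMap K B)).roots, r / xB ∈ (algebraMap K B).range := by
    intro r hr
    rw [Polynomial.mem_roots', Polynomial.IsRoot, Polynomial.eval_map_algebraMap] at hr
    have hrm : r ^ m = xB ^ m := by
      have := Polynomial.aeval_eq_zero_of_dvd_aeval_eq_zero (minpoly.dvd K xB (show Polynomial.aeval xB (Polynomial.X ^ m - Polynomial.C a) = 0 by simp [hxBm])) hr.2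
      simpa [sub_eq_zero, hxBm] using this
    refine (hK m hm).mem_range_of_isRoot (sub_ne_zero.2 ?_) ?_
    · intro h
      have := congrArg Polynomial.natDegree h
      simp at this
      omega
    · simp [Polynomial.IsRoot, div_pow, hrm, hx0]
  have hprod : ((μ.map (algebraMap K B)).roots.map (· / xB)).prod ∈ (algebraMap K B).range :=
    multiset_prod_mem _ fun r hr => by
      obtain ⟨q, hq, rfl⟩ := Multiset.mem_map.1 hr
      exact hroot q hq
  have hc := hsplit.coeff_zero_eq_prod_roots_of_monic ((minpoly.monic hint).map _)
  rw [Polynomial.coeff_map] at hc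
  have hcard : Multiset.card (μ.map (algebraMap K B)).roots = Module.finrank K B := by
    rw [← hsplit.natDegree_eq_card_roots, Polynomial.natDegree_map, hdeg]
  have hdiv : ((μ.map (algebraMap K B)).roots.map (· / xB)).prod = (μ.map (algebraMap K B)).roots.prod / xB ^ Module.finrank K B := by
    rw [Multiset.prod_map_div, Multiset.map_id', Multiset.map_const', Multiset.prod_replicate, hcard]
  obtain ⟨c, hc'⟩ := hprod
  rw [hdiv] at hc'
  have hc0 : μ.coeff 0 ≠ 0 := minpoly.coeff_zero_ne_zero hint hx0
  have hne : c ≠ 0 := by
    rintro rfl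
    rw [map_zero, eq_comm, div_eq_zero_iff] at hc'
    rcases hc' with h | h
    · rw [h, mul_zero] at hc
      exact hc0 ((map_eq_zero _).1 hc)
    · exact pow_ne_zero _ hx0 h
  have hxd : xB ^ Module.finrank K B ∈ (algebraMap K B).range := by
    refine ⟨(-1) ^ (μ.map (algebraMap K B)).natDegree * μ.coeff 0 / c, ?_⟩
    rw [map_div₀, map_mul, hc, map_pow, map_neg, map_one, ← mul_assoc, ← mul_pow, neg_one_mul, neg_neg, one_pow, one_mul, hc']
    field_simp [pow_ne_zero _ hx0]
    rw [div_self]
    intro h
    rw [h, mul_zero] at hc
    exact hc0 ((map_eq_zero _).1 hc)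
  obtain ⟨e, he⟩ := hd
  obtain ⟨y, hy⟩ := hxd
  refine ⟨y ^ e, ?_⟩
  rw [map_pow, he, pow_mul]
  congr 1
  exact congrArg Subtype.val hy

end Groth.Agent.S15168
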