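import Groth.Statements.S15169
import Mathlib

set_option autoImplicit false
universe u v
open BddFin

namespace Groth.Agent.S15169

/-- (1) ⇒ (2): let K be a field with char K = p > 0 and A a central division K-algebra with dim_K A = p
^ 2. If some element of A is not separable over K, then there are v, u in A with v ^ p and u ^ p in
K and v * u - u * v = 1 which generate A as a K-algebra. -/
theorem result
    (K : Type u) [Field K] (p : ℕ) [Fact p.Prime] [CharP K p]
    (A : Type v) [DivisionRing A] [Algebra K A] [Algebra.IsCentral K A] [FiniteDimensional K A]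
    (hA : Module.finrank K A = p ^ 2) (h : ∃ v : A, ¬ IsSeparable K v) :
    ∃ v u : A, v ^ p ∈ (algebraMap K A).range ∧ u ^ p ∈ (algebraMap K A).range ∧ v * u - u * v = 1 ∧
      Algebra.adjoin K {v, u} = ⊤ := by
  classical
  have hp : p.Prime := Fact.out
  obtain ⟨v, hv⟩ := h
  have hvint : IsIntegral K v := IsIntegral.of_finite K v
  have hirr : Irreducible (minpoly K v) := minpoly.irreducible hvint
  have hvK : ∀ c : K, v ≠ algebraMap K A c := by
    intro c h0
    apply hv
    show (minpoly K v).Separable
    rw [h0, minpoly.eq_X_sub_C]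
    exact Polynomial.separable_X_sub_C
  let L := Algebra.adjoin K ({v} : Set A)
  letI : CommRing L :=
    { (inferInstance : Ring L) with
      mul_comm := fun a b => Subtype.ext (Algebra.commute_of_mem_adjoin_of_forall_mem_commute b.2
        (fun y hy => (Algebra.commute_of_mem_adjoin_of_forall_mem_commute (a := y) a.2
          (fun z hz => by rw [Set.mem_singleton_iff.mp hy, Set.mem_singleton_iff.mp hz])).symm)).eq }
  have hdeg : Module.finrank K L = (minpoly K v).natDegree := by
    rw [← AdjoinRoot.powerBasis_dim hirr.ne_zero, ← PowerBasis.finrank]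
    exact (AlgEquiv.toLinearEquiv (AlgEquiv.ofBijective
      ((AdjoinRoot.liftAlgHom (minpoly K v) (Algebra.ofId K L) ⟨v, Algebra.self_mem_adjoin_singleton K v⟩ (by
        show Polynomial.aeval (⟨v, Algebra.self_mem_adjoin_singleton K v⟩ : L) (minpoly K v) = 0
        apply Subtype.ext
        rw [← Subalgebra.val_apply L, ← Polynomial.aeval_algHom_apply]
        exact minpoly.aeval K v)))
      (by
        haveI : Fact (Irreducible (minpoly K v)) := ⟨hirr⟩
        refine ⟨RingHom.injective _, fun y => ?_⟩
        obtain ⟨y, hy⟩ := y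
        have hy' : y ∈ Algebra.adjoin K {v} := hy
        rw [Algebra.adjoin_singleton_eq_range_aeval] at hy'
        obtain ⟨q, hq⟩ := hy'
        refine ⟨AdjoinRoot.mk _ q, Subtype.ext ?_⟩
        show L.val (AdjoinRoot.liftAlgHom _ _ _ _ (AdjoinRoot.mk _ q)) = y
        rw [AdjoinRoot.liftAlgHom_mk, ← hq]
        show L.val (Polynomial.eval₂ (algebraMap K L) _ q) = _
        rw [← Polynomial.aeval_def, ← Polynomial.aeval_algHom_apply]
        rfl))).finrank_eq.symm
  have hfield : IsField L := by
    haveI : IsArtinianRing L := IsArtinianRing.of_finite K L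
    exact IsArtinianRing.isField_of_isDomain L
  letI : Field L := hfield.toField
  have hdvd : Module.finrank K L ∣ p ^ 2 := hA ▸ ⟨Module.finrank L A, (Module.finrank_mul_finrank K L A).symm⟩
  have hdp : (minpoly K v).natDegree = p := by
    obtain ⟨i, hi, hi'⟩ := (Nat.dvd_prime_pow hp).mp hdvd
    rw [hdeg] at hi'
    interval_cases i
    · exfalso
      obtain ⟨c, hc⟩ := minpoly.natDegree_eq_one_iff.mp (by simpa using hi')
      exact hvK c hc.symm
    · simpa using hi'
    · exfalso
      have htop : Subalgebra.toSubmodule L = ⊤ := Submodule.eq_top_of_finrank_eq (by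
        show Module.finrank K L = _
        rw [hA, hdeg, hi'])
      have hcomm : ∀ a b : A, a * b = b * a := fun a b => by
        have ha : a ∈ L := by rw [← Subalgebra.mem_toSubmodule, htop]; trivial
        have hb : b ∈ L := by rw [← Subalgebra.mem_toSubmodule, htop]; trivial
        exact congrArg Subtype.val (mul_comm (⟨a, ha⟩ : L) ⟨b, hb⟩)
      have : v ∈ Subalgebra.center K A := Subalgebra.mem_center_iff.mpr (fun b => hcomm b v)
      rw [Algebra.IsCentral.center_eq_bot K A, Algebra.mem_bot] at this
      obtain ⟨c, hc⟩ := this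
      exact hvK c hc.symm
  have hvp : ∃ c : K, v ^ p = algebraMap K A c := by
    have hder : Polynomial.derivative (minpoly K v) = 0 := by
      by_contra hne
      exact hv ((Polynomial.separable_iff_derivative_ne_zero hirr).mpr hne)
    have hexp := Polynomial.expand_contract p hder hp.ne_zero
    have hcdeg : (Polynomial.contract p (minpoly K v)).natDegree = 1 := by
      have := congrArg Polynomial.natDegree hexp
      rw [Polynomial.natDegree_expand, hdp] at this
      exact Nat.eq_of_mul_eq_mul_right hp.pos (by rw [this, one_mul])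
    obtain ⟨a, b, hab⟩ := Polynomial.exists_eq_X_add_C_of_natDegree_le_one hcdeg.le
    have h0 : Polynomial.aeval (v ^ p) (Polynomial.contract p (minpoly K v)) = 0 := by
      rw [← Polynomial.expand_aeval, hexp, minpoly.aeval]
    rw [hab] at h0
    simp only [map_add, map_mul, Polynomial.aeval_C, Polynomial.aeval_X] at h0
    have ha : a ≠ 0 := by
      intro ha
      rw [hab, ha, map_zero, zero_mul, zero_add, Polynomial.natDegree_C] at hcdeg
      exact zero_ne_one hcdeg
    refine ⟨-b / a, ?_⟩
    have hA0 : algebraMap K A a ≠ 0 := (map_ne_zero _).mpr ha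
    apply mul_left_cancel₀ hA0
    rw [← map_mul, mul_div_cancel₀ _ ha, map_neg]
    exact eq_neg_of_add_eq_zero_left h0
  obtain ⟨c, hc⟩ := hvp
  let δ : Module.End K A := LinearMap.mulLeft K v - LinearMap.mulRight K v
  have hδ : ∀ a, δ a = v * a - a * v := fun a => rfl
  haveI : CharP (Module.End K A) p :=
    charP_of_injective_algebraMap (algebraMap K (Module.End K A)).injective p
  have hδp : δ ^ p = 0 := by
    rw [sub_pow_char_of_commute p (LinearMap.commute_mulLeft_right v v), LinearMap.pow_mulLeft,
      LinearMap.pow_mulRight, hc]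
    ext a
    simp [Algebra.commutes]
  have hδ0 : δ ≠ 0 := by
    intro h0
    have : v ∈ Subalgebra.center K A := Subalgebra.mem_center_iff.mpr (fun b => by
      have := LinearMap.congr_fun h0 b
      rw [hδ, LinearMap.zero_apply, sub_eq_zero] at this
      exact this.symm)
    rw [Algebra.IsCentral.center_eq_bot K A, Algebra.mem_bot] at this
    obtain ⟨c', hc'⟩ := this
    exact hvK c' hc'.symm
  obtain ⟨u, hu⟩ : ∃ u, δ u = 1 := by
    have hex : ∃ j, δ ^ (j + 1) = 0 := ⟨p - 1, by rw [Nat.sub_add_cancel hp.pos, hδp]⟩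
    obtain ⟨j, hj, hjmin⟩ : ∃ j, δ ^ (j + 1) = 0 ∧ ∀ i < j, δ ^ (i + 1) ≠ 0 :=
      ⟨Nat.find hex, Nat.find_spec hex, fun i hi => Nat.find_min hex hi⟩
    have hj0 : j ≠ 0 := fun h0 => hδ0 (by simpa [h0] using hj)
    obtain ⟨i, rfl⟩ := Nat.exists_eq_succ_of_ne_zero hj0
    obtain ⟨b, hb⟩ : ∃ b, (δ ^ (i + 1)) b ≠ 0 := by
      by_contra h'
      push Not at h'
      exact hjmin i (Nat.lt_succ_self i) (LinearMap.ext h')
    set a := (δ ^ i) b
    have hz : δ a ≠ 0 := by rw [← Module.End.mul_apply, ← pow_succ']; exact hb
    have hz' : δ (δ a) = 0 := by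
      rw [← Module.End.mul_apply, ← Module.End.mul_apply, mul_assoc, ← pow_succ', ← pow_succ']
      exact LinearMap.congr_fun hj b
    refine ⟨a * (δ a)⁻¹, ?_⟩
    rw [hδ] at hz'
    have hcomm : Commute v (δ a)⁻¹ := Commute.inv_right₀ (sub_eq_zero.mp hz')
    calc v * (a * (δ a)⁻¹) - a * (δ a)⁻¹ * v = (v * a - a * v) * (δ a)⁻¹ := by
          rw [sub_mul, mul_assoc a _ v, ← hcomm.eq, mul_assoc, mul_assoc]
      _ = 1 := mul_inv_cancel₀ hz
  have hvu : v * u = u * v + 1 := by rw [← hu, hδ]; abel
  have hpow : ∀ i : ℕ, δ (u ^ i) = (i : A) * u ^ (i - 1) := by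
    intro i
    induction i with
    | zero => simp [hδ]
    | succ i ih =>
      rw [hδ] at ih ⊢
      have h1 : v * u ^ (i + 1) = (v * u ^ i) * u := by rw [pow_succ, mul_assoc]
      have h2 : v * u ^ i = u ^ i * v + (i : A) * u ^ (i - 1) := by rw [← ih]; abel
      rw [h1, h2, add_mul, mul_assoc (u ^ i), hvu, mul_add, mul_one, ← mul_assoc, ← pow_succ, mul_assoc,
        ← pow_succ, Nat.add_sub_cancel]
      rcases i with _ | i
      · simp
      · rw [Nat.add_sub_cancel]; push_cast; simp only [add_mul, one_mul]; abel
  have hLc : ∀ a ∈ L, v * a = a * v := fun a ha => congrArg Subtype.val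
    (mul_comm (⟨v, Algebra.self_mem_adjoin_singleton K v⟩ : L) ⟨a, ha⟩)
  have hind : ∀ n ≤ p, ∀ f : ℕ → A, (∀ i, f i ∈ L) →
      ∑ i ∈ Finset.range n, f i * u ^ i = 0 → ∀ i < n, f i = 0 := by
    intro n
    induction n with
    | zero => intro _ f _ _ i hi; omega
    | succ n ih =>
      intro hn f hf hsum
      have h1 : ∑ i ∈ Finset.range n, (((i + 1 : ℕ) : A) * f (i + 1)) * u ^ i = 0 := by
        have h2 := congrArg δ hsum
        rw [map_sum, map_zero, Finset.sum_range_succ'] at h2
        have h3 : ∀ i, δ (f i * u ^ i) = f i * δ (u ^ i) := fun i => by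
          rw [hδ, hδ, mul_sub, ← mul_assoc, hLc _ (hf i), mul_assoc, mul_assoc]
        simp only [h3, hpow, Nat.add_sub_cancel, Nat.cast_zero, zero_mul, mul_zero, add_zero] at h2
        rw [← h2]
        refine Finset.sum_congr rfl (fun i _ => ?_)
        rw [(Nat.cast_commute (i + 1) (f (i + 1))).eq, mul_assoc]
      have h4 := ih (by omega) (fun i => ((i + 1 : ℕ) : A) * f (i + 1))
        (fun i => L.mul_mem (natCast_mem L (i + 1)) (hf _)) h1
      haveI : CharP A p := charP_of_injective_algebraMap (algebraMap K A).injective p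
      have hpos : ∀ i, 0 < i → i < n + 1 → f i = 0 := by
        intro i hi0 hi
        obtain ⟨i', rfl⟩ : ∃ i', i = i' + 1 := ⟨i - 1, by omega⟩
        refine (mul_eq_zero.mp (h4 i' (by omega))).resolve_left (fun h => ?_)
        rw [CharP.cast_eq_zero_iff A p] at h
        exact absurd (Nat.le_of_dvd (by omega) h) (by omega)
      intro i hi
      rcases Nat.eq_zero_or_pos i with rfl | hi0
      · rw [Finset.sum_eq_single 0 (fun j hj hj0 => by
          rw [hpos j (Nat.pos_of_ne_zero hj0) (Finset.mem_range.mp hj), zero_mul])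
          (fun h => absurd (Finset.mem_range.mpr (Nat.succ_pos n)) h), pow_zero, mul_one] at hsum
        exact hsum
      · exact hpos i hi0 hi
  have hgen : Algebra.adjoin K {v, u} = ⊤ := by
    apply Subalgebra.toSubmodule_injective
    rw [Algebra.top_toSubmodule]
    refine Submodule.eq_top_of_finrank_eq (le_antisymm (Submodule.finrank_le _) ?_)
    let Φ : (Fin p → L) →ₗ[K] Subalgebra.toSubmodule (Algebra.adjoin K {v, u}) :=
      { toFun := fun f => ⟨∑ i : Fin p, (f i : A) * u ^ (i : ℕ),
          Submodule.sum_mem _ (fun i _ => Subalgebra.mul_mem _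
            (Algebra.adjoin_mono (by simp) (f i).2)
            (Subalgebra.pow_mem _ (Algebra.subset_adjoin (by simp)) _))⟩
        map_add' := fun f g => Subtype.ext (by simp [add_mul, Finset.sum_add_distrib])
        map_smul' := fun r f => Subtype.ext (by simp [Finset.smul_sum, smul_mul_assoc]) }
    have hΦ : Function.Injective Φ := by
      rw [injective_iff_map_eq_zero]
      intro f hf
      let g : ℕ → A := fun i => if hi : i < p then (f ⟨i, hi⟩ : A) else 0
      have hg : ∀ i, g i ∈ L := fun i => by
        simp only [g]; split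
        · exact Subtype.prop _
        · exact zero_mem _
      have hsum : ∑ i ∈ Finset.range p, g i * u ^ i = 0 := by
        rw [← Fin.sum_univ_eq_sum_range (fun i => g i * u ^ i)]
        refine Eq.trans (Finset.sum_congr rfl (fun i _ => ?_)) (congrArg Subtype.val hf)
        simp [g]
      funext i
      have := hind p le_rfl g hg hsum i i.2
      simp only [g, dif_pos i.2] at this
      exact Subtype.ext this
    refine le_trans (le_of_eq ?_) (LinearMap.finrank_le_finrank_of_injective hΦ)
    rw [hA, Module.finrank_pi_fintype, Finset.sum_const, Finset.card_univ, Fintype.card_fin, hdeg, hdp,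
      smul_eq_mul, sq]
  refine ⟨v, u, ⟨c, hc.symm⟩, ?_, by rw [hvu]; abel, hgen⟩
  have hcent : u ^ p ∈ Subalgebra.center K A := by
    rw [Subalgebra.mem_center_iff]
    intro b
    have hb : b ∈ Algebra.adjoin K {v, u} := hgen ▸ Algebra.mem_top
    refine (Commute.eq (Algebra.commute_of_mem_adjoin_of_forall_mem_commute hb (fun y hy => ?_))).symm
    haveI : CharP A p := charP_of_injective_algebraMap (algebraMap K A).injective p
    rcases hy with rfl | rfl
    · have := hpow p
      rw [hδ, CharP.cast_eq_zero A p, zero_mul, sub_eq_zero] at this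
      exact this.symm
    · exact (Commute.pow_self y p)
  rw [Algebra.IsCentral.center_eq_bot K A, Algebra.mem_bot] at hcent
  exact hcent

end Groth.Agent.S15169
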