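import Groth.Statements.S1517
import Mathlib

set_option autoImplicit false
universe u
open Brauer

namespace Groth.Agent.S1517

/-- Let A be a ring with no nontrivial two-sided ideals and M a nonzero right ideal, viewed as a right
A-module with endomorphism ring A'. Then every A'-linear endomorphism of M is right multiplication
by exactly one element of A; that is, the natural map from A to the bicommutant of M is a bijection. -/
theorem result (A : Type u) [Ring A] [IsSimpleRing A]
    (M : Submodule Aᵐᵒᵖ A) (hM : M ≠ ⊥)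
    (g : Module.End (Module.End Aᵐᵒᵖ M) M) :
    ∃! a : A, ∀ m : M, (g m : A) = (m : A) * a := by
  classical
  obtain ⟨v, hv0, hv⟩ : ∃ v : A, v ≠ 0 ∧ v ∈ M := by
    obtain ⟨v, hv, hv0⟩ := Submodule.exists_mem_ne_zero_of_ne_bot hM
    exact ⟨v, hv0, hv⟩
  have hright : ∀ (x : A), x ∈ M → ∀ a : A, x * a ∈ M := fun x hx a => by
    simpa using M.smul_mem (MulOpposite.op a) hx
  let J := TwoSidedIdeal.span (M : Set A)
  have hJ : J = ⊤ := (IsSimpleRing.simple.eq_bot_or_eq_top J).resolve_left fun h => hv0 (by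
    have := TwoSidedIdeal.subset_span (s := (M : Set A)) hv
    rw [show TwoSidedIdeal.span (M : Set A) = ⊥ from h, SetLike.mem_coe, TwoSidedIdeal.mem_bot] at this
    exact this)
  let S : AddSubgroup A := AddSubgroup.closure {z | ∃ (a : A) (m : M), z = a * m}
  have h1 : (1 : A) ∈ S := by
    have hz : (1 : A) ∈ J := by rw [hJ]; trivial
    rw [TwoSidedIdeal.mem_span_iff_mem_addSubgroup_closure] at hz
    refine (AddSubgroup.closure_le S).2 ?_ hz
    rintro _ ⟨_, ⟨a, -, m, hm, rfl⟩, c, -, rfl⟩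
    exact AddSubgroup.subset_closure ⟨a, ⟨m * c, hright m hm c⟩, mul_assoc a m c⟩
  have key : ∀ z ∈ S, (∃ a' : A, ∀ m : M, (g ⟨(m : A) * z, hright _ m.2 z⟩ : A) = (m : A) * a') ∧
      ∀ b : A, (∀ m : M, (m : A) * b = 0) → z * b = 0 := by
    intro z hz
    induction hz using AddSubgroup.closure_induction with
    | mem z hz =>
      obtain ⟨a, m0, rfl⟩ := hz
      refine ⟨⟨a * g m0, fun m => ?_⟩, fun b hb => by rw [mul_assoc, hb, mul_zero]⟩
      let lam : Module.End Aᵐᵒᵖ M :=
        { toFun := fun w => ⟨((m : A) * a) * (w : A), hright _ (hright _ m.2 a) _⟩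
          map_add' := fun x y => Subtype.ext (mul_add _ _ _)
          map_smul' := fun c x => Subtype.ext (mul_smul_comm _ _ _) }
      have := g.map_smul lam m0
      have e : (⟨(m : A) * (a * (m0 : A)), hright _ m.2 _⟩ : M) = lam • m0 := Subtype.ext (mul_assoc _ _ _).symm
      rw [e, this]
      exact mul_assoc _ _ _
    | zero =>
      refine ⟨⟨0, fun m => ?_⟩, fun b _ => zero_mul b⟩
      rw [show (⟨(m : A) * 0, hright _ m.2 _⟩ : M) = 0 from Subtype.ext (mul_zero _), map_zero, mul_zero]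
      rfl
    | add x y _ _ hx hy =>
      obtain ⟨⟨a, ha⟩, hx'⟩ := hx
      obtain ⟨⟨a', ha'⟩, hy'⟩ := hy
      refine ⟨⟨a + a', fun m => ?_⟩, fun b hb => by rw [add_mul, hx' b hb, hy' b hb, add_zero]⟩
      rw [show (⟨(m : A) * (x + y), hright _ m.2 _⟩ : M) = ⟨_, hright _ m.2 x⟩ + ⟨_, hright _ m.2 y⟩ from Subtype.ext (mul_add _ _ _),
        map_add, Submodule.coe_add, ha, ha', mul_add]
    | neg x _ hx =>
      obtain ⟨⟨a, ha⟩, hx'⟩ := hx
      refine ⟨⟨-a, fun m => ?_⟩, fun b hb => by rw [neg_mul, hx' b hb, neg_zero]⟩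
      rw [show (⟨(m : A) * -x, hright _ m.2 _⟩ : M) = -⟨_, hright _ m.2 x⟩ from Subtype.ext (mul_neg _ _),
        map_neg, Submodule.coe_neg, ha, mul_neg]
  obtain ⟨⟨a, ha⟩, huniq⟩ := key 1 h1
  have ha' : ∀ m : M, (g m : A) = (m : A) * a := fun m => by
    rw [← ha m]
    congr 2
    exact Subtype.ext (mul_one _).symm
  refine ⟨a, ha', fun b hb => ?_⟩
  have := huniq (b - a) fun m => by rw [mul_sub, ← hb m, ← ha' m, sub_self]
  rwa [one_mul, sub_eq_zero] at this

end Groth.Agent.S1517
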