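import Groth.Statements.S15172
import Mathlib

set_option autoImplicit false
universe u v
open Polynomial
open BddFin

namespace Groth.Agent.S15172

/-- Let L be a field of characteristic p > 0 and s a finite subset of L containing 0 and closed under
addition (a finite additive subgroup). Then the polynomial f = ∏_{a ∈ s} (X - a) is additive: f (x +
y) = f x + f y for all x, y in any commutative L-algebra (equivalently, as an identity of
polynomials in two variables). -/
theorem result
    (L : Type u) [Field L] (p : ℕ) [Fact p.Prime] [CharP L p] (s : Finset L) (h0 : (0 : L) ∈ s)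
    (hadd : ∀ a ∈ s, ∀ b ∈ s, a + b ∈ s) (R : Type v) [CommRing R] [Algebra L R] (x y : R) :
    aeval (x + y) (∏ a ∈ s, (X - C a)) = aeval x (∏ a ∈ s, (X - C a)) + aeval y (∏ a ∈ s, (X - C a)) := by
  classical
  set P : L[X] := ∏ a ∈ s, (X - C a) with hP
  have htrans : ∀ a ∈ s, P.comp (X + C a) = P := by
    intro a ha
    rw [hP, Polynomial.prod_comp]
    symm
    refine Finset.prod_bij (fun b _ => b + a) (fun b hb => hadd b hb a ha)
      (fun b _ c _ h => add_right_cancel h) (fun b hb => ?_) (fun b _ => ?_)
    · have hn : ∀ n : ℕ, b + (n : L) * a ∈ s := fun n => by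
        induction n with
        | zero => simpa using hb
        | succ n ih => rw [Nat.cast_succ, add_mul, one_mul, ← add_assoc]; exact hadd _ ih a ha
      refine ⟨b + ((p - 1 : ℕ) : L) * a, hn _, ?_⟩
      rw [Nat.cast_sub (Nat.Prime.pos Fact.out), CharP.cast_eq_zero]
      simp
    · simp [sub_eq_add_neg, add_assoc]
  have hroot : ∀ a ∈ s, P.eval a = 0 := fun a ha => by
    rw [hP, eval_prod]
    exact Finset.prod_eq_zero ha (by simp)
  let f : L →+* L[X] := C
  let Q : (L[X])[X] := (P.map f).comp (X + C X)
  let D : (L[X])[X] := Q - P.map f - C P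
  have hdeg : D.degree < (s.card : WithBot ℕ) := by
    have hm : P.Monic := monic_prod_of_monic _ _ fun a _ => monic_X_sub_C a
    have hd : P.natDegree = s.card := by rw [hP, natDegree_finset_prod_X_sub_C_eq_card]
    have hmm : (P.map f).Monic := hm.map f
    have hQ : Q.Monic := hmm.comp (monic_X_add_C _) (by simp)
    have hdQ : Q.natDegree = s.card := by
      simp [Q, natDegree_comp, hm.natDegree_map f, hd]
    have hsub : (Q - P.map f).degree < (s.card : WithBot ℕ) := by
      have := degree_sub_lt (p := Q) (q := P.map f) (by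
        rw [degree_eq_natDegree hQ.ne_zero, degree_eq_natDegree hmm.ne_zero, hdQ,
          hm.natDegree_map f, hd]) hQ.ne_zero (by rw [hQ.leadingCoeff, hmm.leadingCoeff])
      rwa [degree_eq_natDegree hQ.ne_zero, hdQ] at this
    refine (degree_sub_le _ _).trans_lt (max_lt hsub ?_)
    exact degree_C_le.trans_lt (by exact_mod_cast Finset.card_pos.2 ⟨0, h0⟩)
  have hD : D = 0 := by
    refine Polynomial.eq_zero_of_degree_lt_of_eval_finset_eq_zero (s.image C) ?_ ?_
    · rwa [Finset.card_image_of_injective _ C_injective]
    · intro z hz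
      obtain ⟨a, ha, rfl⟩ := Finset.mem_image.1 hz
      simp only [D, Q, eval_sub, eval_comp, eval_add, eval_X, eval_C, eval_map]
      rw [show P.eval₂ f (C a) = C (P.eval a) from (eval₂_at_apply f a), hroot a ha, C_0, sub_zero,
        show P.eval₂ f (C a + X) = P.comp (X + C a) from by rw [add_comm]; rfl, htrans a ha, sub_self]
  have e := congrArg (fun D : (L[X])[X] => eval₂ (aeval y : L[X] →ₐ[L] R).toRingHom x D) hD
  have hc : (aeval y : L[X] →ₐ[L] R).toRingHom.comp f = algebraMap L R := by ext r; simp [f]
  simp only [D, Q, eval₂_sub, eval₂_comp, eval₂_add, eval₂_X, eval₂_C, eval₂_map, hc, eval₂_zero] at e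
  simp only [AlgHom.toRingHom_eq_coe, RingHom.coe_coe, aeval_X, ← aeval_def] at e
  linear_combination e

end Groth.Agent.S15172
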