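import Groth.Statements.S15224
import Mathlib

set_option autoImplicit false
open Finset
open W4c2rk2extmaps

namespace Groth.Agent.S15224

/-- In a commutative ℚ-algebra R let y be an element and put c_k = y^k / k! for every k. Then for k ≥ 2,
Σ_{i=1}^{k-1} (-1)^(i-1) c_i c_(k-i) + (-1)^(k-1) c_k = c_k. (The published statement concerns the
Chern classes of a specific vector bundle on a Jacobian, which are of the form c_k = (4θ)^k / k!;
the printed argument establishes the identity for every sequence of this form in a commutative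
ℚ-algebra, which is the form stated here.) -/
theorem result (R : Type*) [CommRing R] [Algebra ℚ R] (y : R)
    (c : ℕ → R) (hc : ∀ k : ℕ, c k = ((Nat.factorial k : ℚ)⁻¹) • y ^ k)
    (k : ℕ) (hk : 2 ≤ k) :
    (∑ i ∈ Finset.Ico 1 k, (-1 : R) ^ (i - 1) * c i * c (k - i)) + (-1 : R) ^ (k - 1) * c k = c k := by
  set t : ℕ → R := fun i => (-1 : R) ^ i * c i * c (k - i) with ht
  have hzero : ∑ i ∈ Finset.range (k + 1), t i = 0 := by
    have : ∀ i ∈ Finset.range (k + 1), t i =
        ((Nat.factorial k : ℚ)⁻¹) • ((-y) ^ i * y ^ (k - i) * (k.choose i : R)) := by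
      intro i hi
      have hik : i ≤ k := by simp at hi; omega
      have hch := Nat.choose_mul_factorial_mul_factorial hik
      have hch' : (k.choose i : ℚ) * i.factorial * (k - i).factorial = k.factorial := by exact_mod_cast hch
      have hi0 : (i.factorial : ℚ) ≠ 0 := by positivity
      have hj0 : ((k - i).factorial : ℚ) ≠ 0 := by positivity
      have hk0 : (k.factorial : ℚ) ≠ 0 := by positivity
      simp only [ht, hc, mul_smul_comm, smul_mul_assoc, smul_smul]
      rw [neg_pow y i, ← map_natCast (algebraMap ℚ R) (k.choose i), Algebra.smul_def, Algebra.smul_def]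
      have hq : ((k - i).factorial : ℚ)⁻¹ * ((i.factorial : ℚ))⁻¹ = (k.factorial : ℚ)⁻¹ * (k.choose i : ℚ) := by
        field_simp
        linear_combination -hch'
      rw [hq, map_mul]
      ring
    rw [Finset.sum_congr rfl this, ← Finset.smul_sum, ← add_pow, neg_add_cancel,
      zero_pow (by omega), smul_zero]
  rw [Finset.sum_range_succ, Finset.range_eq_Ico, Finset.sum_eq_sum_Ico_succ_bot (by omega)] at hzero
  have h0 : c 0 = 1 := by simp [hc]
  have hs : ∑ i ∈ Finset.Ico 1 k, (-1 : R) ^ (i - 1) * c i * c (k - i) = -∑ i ∈ Finset.Ico 1 k, t i := by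
    rw [← Finset.sum_neg_distrib]
    refine Finset.sum_congr rfl fun i hi => ?_
    obtain ⟨j, rfl⟩ : ∃ j, i = j + 1 := ⟨i - 1, by simp at hi; omega⟩
    simp [ht, pow_succ]
  obtain ⟨j, rfl⟩ : ∃ j, k = j + 1 := ⟨k - 1, by omega⟩
  rw [hs]
  simp only [ht, Nat.zero_add, pow_succ, Nat.sub_zero, Nat.sub_self, h0, Nat.add_sub_cancel] at hzero ⊢
  linear_combination -hzero

end Groth.Agent.S15224
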