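import Groth.Statements.S15298
import Mathlib
import Groth.Agent.Lib.H2PowerSeries

set_option autoImplicit false
universe u
open CAlg

namespace Groth.Agent.S15298
open Groth.Agent.H2PowerSeries
set_option backward.isDefEq.respectTransparency.types false

/-- Let k be a field, A a Noetherian k-algebra and x a non-zero-divisor of A such that A is separated
and complete for the (x)-adic topology, and assume that B = A/xA is formally smooth over k. Then A
is a power series ring over B in the variable x: there is a k-algebra isomorphism e : B[[T]] ≅ A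
with e(T) = x whose reduction modulo x is the constant-coefficient map, i.e. e(f) ≡ f(0) mod x for
every power series f. -/
theorem result (k A : Type u) [Field k]
    [CommRing A] [Algebra k A] [IsNoetherianRing A] (x : A) (hx : x ∈ nonZeroDivisors A)
    [IsAdicComplete (Ideal.span {x}) A] [Algebra.FormallySmooth k (A ⧸ Ideal.span {x})] :
    ∃ e : PowerSeries (A ⧸ Ideal.span {x}) ≃ₐ[k] A,
      e PowerSeries.X = x ∧
      ∀ f : PowerSeries (A ⧸ Ideal.span {x}),
        Ideal.Quotient.mk (Ideal.span {x}) (e f) = PowerSeries.constantCoeff f := by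
  obtain ⟨g, hg⟩ := Algebra.FormallySmooth.exists_mkₐ_comp_eq_of_isAdicComplete (R := k)
    (A := A ⧸ Ideal.span {x}) (AlgHom.id k (A ⧸ Ideal.span {x}))
  letI : Algebra (A ⧸ Ideal.span {x}) A := g.toRingHom.toAlgebra
  haveI : IsScalarTower k (A ⧸ Ideal.span {x}) A := IsScalarTower.of_algebraMap_eq fun r => (g.commutes r).symm
  have hgb : ∀ b, Ideal.Quotient.mk (Ideal.span {x}) (g b) = b := fun b => AlgHom.congr_fun hg b
  obtain ⟨e, he⟩ := exists_powerSeries_equiv (B := A ⧸ Ideal.span {x}) x hx
    ⟨fun a c h => (hgb a).symm.trans (h.trans (hgb c)), fun b => ⟨b, hgb b⟩⟩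
  refine ⟨e.restrictScalars k, he, fun f => ?_⟩
  show Ideal.Quotient.mk (Ideal.span {x}) (e f) = PowerSeries.constantCoeff f
  conv_lhs => rw [PowerSeries.eq_X_mul_shift_add_const f]
  rw [map_add, map_mul, he, map_add, map_mul, Ideal.Quotient.eq_zero_iff_mem.2 (Ideal.mem_span_singleton_self x), zero_mul, zero_add]
  exact (congrArg _ (e.commutes _)).trans (hgb _)

end Groth.Agent.S15298
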