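import Groth.Statements.S15315
import Mathlib

set_option autoImplicit false
universe u
open ArLef

namespace Groth.Agent.S15315

/-- For a Noetherian commutative ring A, elements a, b with a a non-zero-divisor on A/(b), and an ideal
I, one has length(A/(aI + bA)) = length(A/(a, b)) + length(A/(I + bA)) as extended natural numbers;
in particular when two of the three quotients have finite length so does the third. -/
theorem result (A : Type u) [CommRing A] [IsNoetherianRing A] (a b : A) (I : Ideal A)
    (ha : IsSMulRegular (A ⧸ Ideal.span ({b} : Set A)) a) :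
    Module.length A (A ⧸ (Ideal.span {a} * I ⊔ Ideal.span {b})) =
      Module.length A (A ⧸ Ideal.span ({a, b} : Set A)) + Module.length A (A ⧸ (I ⊔ Ideal.span {b})) := by
  set K := Ideal.span {a} * I ⊔ Ideal.span {b} with hK
  have hle : K ≤ Ideal.span ({a, b} : Set A) := by
    rw [Ideal.span_insert]
    exact sup_le_sup_right Ideal.mul_le_left _
  let g : (A ⧸ K) →ₗ[A] A ⧸ Ideal.span ({a, b} : Set A) := Submodule.factor hle
  let f : (A ⧸ (I ⊔ Ideal.span {b})) →ₗ[A] A ⧸ K :=
    Submodule.mapQ (I ⊔ Ideal.span {b}) K (LinearMap.mulLeft A a) (by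
      intro x hx
      obtain ⟨i, hi, y, hy, rfl⟩ := Submodule.mem_sup.1 hx
      show a * (i + y) ∈ K
      rw [mul_add]
      exact add_mem (Ideal.mem_sup_left (Ideal.mul_mem_mul (Ideal.mem_span_singleton_self a) hi)) (Ideal.mem_sup_right (Ideal.mul_mem_left _ _ hy)))
  have hf : Function.Injective f := by
    rw [← LinearMap.ker_eq_bot, eq_bot_iff]
    intro z hz
    obtain ⟨x, rfl⟩ := Submodule.Quotient.mk_surjective _ z
    change Submodule.Quotient.mk (a * x) = 0 at hz
    rw [Submodule.Quotient.mk_eq_zero] at hz
    obtain ⟨w, hw, y, hy, he⟩ := Submodule.mem_sup.1 hz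
    obtain ⟨i, hi, rfl⟩ := Ideal.mem_span_singleton_mul.1 hw
    have h1 : (Submodule.Quotient.mk (x - i) : A ⧸ Ideal.span ({b} : Set A)) = 0 := ha (by
      show a • (Submodule.Quotient.mk (x - i) : A ⧸ Ideal.span ({b} : Set A)) = a • (0 : A ⧸ Ideal.span ({b} : Set A))
      rw [smul_zero, ← Submodule.Quotient.mk_smul, Submodule.Quotient.mk_eq_zero, smul_eq_mul, show a * (x - i) = y by linear_combination -he]
      exact hy)
    rw [Submodule.Quotient.mk_eq_zero] at h1
    rw [Submodule.mem_bot, Submodule.Quotient.mk_eq_zero, show x = i + (x - i) by ring]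
    exact add_mem (Ideal.mem_sup_left hi) (Ideal.mem_sup_right h1)
  have hex : Function.Exact f g := by
    intro z
    obtain ⟨x, rfl⟩ := Submodule.Quotient.mk_surjective _ z
    constructor
    · intro hz
      change Submodule.Quotient.mk x = 0 at hz
      rw [Submodule.Quotient.mk_eq_zero, Ideal.mem_span_pair] at hz
      obtain ⟨u, v, rfl⟩ := hz
      refine ⟨Submodule.Quotient.mk u, (Submodule.Quotient.eq K).2 ?_⟩
      show a * u - (u * a + v * b) ∈ K
      rw [show a * u - (u * a + v * b) = -v * b by ring]
      exact Ideal.mem_sup_right (Ideal.mul_mem_left _ _ (Ideal.mem_span_singleton_self b))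
    · rintro ⟨w, hw⟩
      obtain ⟨u, rfl⟩ := Submodule.Quotient.mk_surjective _ w
      rw [← hw]
      show (Submodule.Quotient.mk (a * u) : A ⧸ Ideal.span ({a, b} : Set A)) = 0
      rw [Submodule.Quotient.mk_eq_zero]
      exact Ideal.mul_mem_right _ _ (Ideal.subset_span (by simp))
  rw [Module.length_eq_add_of_exact f g hf (Submodule.factor_surjective hle) hex]
  exact add_comm _ _

end Groth.Agent.S15315
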