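import Groth.Statements.S15327
import Mathlib

set_option autoImplicit false
open ArLef ArLef.BlowupGraph

namespace Groth.Agent.S15327

open Matrix

noncomputable def C {n : ℕ} (G : ArLef.BlowupGraph n) : Matrix (Fin n) (Fin n) ℚ :=
  fun m p => (if m = p then 1 else 0) - (if p ∈ G.par m then 1 else 0)

theorem tt_rec {n : ℕ} (G : ArLef.BlowupGraph n) (k m : Fin n) :
    (G.tt k m : ℚ) = (if m = k then 1 else 0) + ∑ p ∈ G.par m, (G.tt k p : ℚ) := by
  have hz : ∀ p : Fin n, p < k → G.tt k p = 0 := fun p hp => by
    rw [ArLef.BlowupGraph.tt, ArLef.BlowupGraph.ttN, if_pos (show p.1 < k.1 from hp)]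
  rcases lt_trichotomy m k with h | h | h
  · rw [hz m h, if_neg h.ne, Finset.sum_eq_zero fun p hp => by rw [hz p ((G.par_lt m p hp).trans h), Int.cast_zero]]
    simp
  · subst h
    rw [if_pos rfl, Finset.sum_eq_zero fun p hp => by rw [hz p (G.par_lt m p hp), Int.cast_zero]]
    rw [ArLef.BlowupGraph.tt, ArLef.BlowupGraph.ttN, if_neg (lt_irrefl _), if_pos rfl]
    simp
  · rw [if_neg h.ne', zero_add, ArLef.BlowupGraph.tt, ArLef.BlowupGraph.ttN, if_neg (not_lt.2 (le_of_lt (show k.1 < m.1 from h))),
      if_neg (fun e => h.ne' (Fin.ext e)), Finset.sum_attach (G.parN m.1) (fun p => G.ttN k.1 p),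
      show G.parN m.1 = (G.par m).map Fin.valEmbedding by rw [ArLef.BlowupGraph.parN, dif_pos m.2],
      Finset.sum_map, Int.cast_sum]
    rfl

theorem tt_C {n : ℕ} (G : ArLef.BlowupGraph n) :
    (Matrix.of fun k m => (G.tt k m : ℚ)) * (C G).transpose = 1 := by
  ext k m
  rw [Matrix.mul_apply]
  simp only [Matrix.of_apply, Matrix.transpose_apply, C, mul_sub, Finset.sum_sub_distrib, mul_ite, mul_one, mul_zero,
    Finset.sum_ite_eq, Finset.mem_univ, if_true, Finset.sum_ite_mem, Finset.univ_inter]
  rw [tt_rec G k m, Matrix.one_apply]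
  by_cases h : m = k
  · simp [h]
  · simp [h, Ne.symm h]

theorem mat_eq {n : ℕ} (G : ArLef.BlowupGraph n) : G.mat = -((C G).transpose * C G) := by
  classical
  ext p q
  rw [Matrix.neg_apply, Matrix.mul_apply]
  have e : ∀ m, (C G).transpose p m * C G m q = (if m = p ∧ m = q then 1 else 0) - (if m = p ∧ q ∈ G.par m then 1 else 0)
      - (if p ∈ G.par m ∧ m = q then 1 else 0) + (if p ∈ G.par m ∧ q ∈ G.par m then 1 else 0) := by
    intro m
    simp only [Matrix.transpose_apply, C]
    simp only [sub_mul, mul_sub, ite_zero_mul_ite_zero, mul_one]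
    ring
  rw [Finset.sum_congr rfl fun m _ => e m, Finset.sum_add_distrib, Finset.sum_sub_distrib, Finset.sum_sub_distrib]
  simp only [ite_and, Finset.sum_ite_eq', Finset.mem_univ, if_true]
  have e2 : (∑ m, if p ∈ G.par m then (if m = q then (1 : ℚ) else 0) else 0) = if p ∈ G.par q then 1 else 0 := by
    rw [Finset.sum_eq_single q]
    · simp
    · intro m _ hm; simp [hm]
    · simp
  rw [e2]
  have e3 : (∑ m, if p ∈ G.par m then (if q ∈ G.par m then (1 : ℚ) else 0) else 0) =
      ((Finset.univ.filter fun m => p ∈ G.par m ∧ q ∈ G.par m).card : ℚ) := by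
    simp only [← ite_and, Finset.sum_boole]
  rw [e3]
  have hirr : ∀ m, m ∉ G.par m := fun m hm => lt_irrefl m (G.par_lt m m hm)
  unfold ArLef.BlowupGraph.mat
  by_cases hpq : p = q
  · subst hpq
    rw [if_pos rfl, if_neg (hirr p), ArLef.BlowupGraph.selfInt]
    simp only [and_self, if_true, Int.cast_sub, Int.cast_neg, Int.cast_one, Int.cast_natCast]
    ring
  rw [if_neg hpq]
  have key : ∀ a b : Fin n, a < b →
      (if G.Adj a b then (1 : ℚ) else 0) = (if a ∈ G.par b then 1 else 0) + (if b ∈ G.par a then 1 else 0) -
        ((Finset.univ.filter fun m => a ∈ G.par m ∧ b ∈ G.par m).card : ℚ) := by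
    intro a b hab
    have hba : b ∉ G.par a := fun h => lt_asymm hab (G.par_lt a b h)
    have hset : ∀ m, a ∈ G.par m → b ∈ G.par m → G.par m = {a, b} := fun m ha hb => by
      refine (Finset.eq_of_subset_of_card_le ?_ ?_).symm
      · simp [Finset.insert_subset_iff, ha, hb]
      · rw [Finset.card_pair hab.ne]; exact G.card_le_two m
    by_cases hm : ∃ m, a ∈ G.par m ∧ b ∈ G.par m
    · obtain ⟨m, ha, hb⟩ := hm
      obtain ⟨hab', hun⟩ := G.meet_of_two m a b ha hb hab
      have hnA : ¬ G.Adj a b := by
        rintro (⟨-, h⟩ | ⟨h, -⟩)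
        · exact h m (G.par_lt m b hb) (hset m ha hb)
        · exact hba h
      have hcard : (Finset.univ.filter fun m => a ∈ G.par m ∧ b ∈ G.par m) = {m} := by
        ext m'
        simp only [Finset.mem_filter, Finset.mem_univ, true_and, Finset.mem_singleton]
        refine ⟨fun h => ?_, fun h => h ▸ ⟨ha, hb⟩⟩
        rcases lt_trichotomy m' m with h' | h' | h'
        · exact absurd (hset m' h.1 h.2) (hun m' (G.par_lt m' b h.2) h')
        · exact h'
        · exact absurd (hset m ha hb) ((G.meet_of_two m' a b h.1 h.2 hab).2 m (G.par_lt m b hb) h')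
      rw [if_neg hnA, if_pos hab', if_neg hba, hcard]
      simp
    · push Not at hm
      rw [Finset.card_eq_zero.2 (Finset.filter_eq_empty_iff.2 fun m _ h => hm m h.1 h.2), if_neg hba]
      have : G.Adj a b ↔ a ∈ G.par b := by
        refine ⟨?_, fun h => Or.inl ⟨h, fun m _ e => hm m (e ▸ Finset.mem_insert_self _ _) (e ▸ by simp)⟩⟩
        rintro (⟨h, -⟩ | ⟨h, -⟩)
        · exact h
        · exact absurd h hba
      simp only [this]
      simp
  simp only [hpq, if_false]
  rcases lt_or_gt_of_ne hpq with h | h
  · rw [key p q h]; ring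
  · have hsym : G.Adj p q ↔ G.Adj q p := Or.comm
    simp only [hsym]
    rw [key q p h]
    simp only [and_comm]
    ring

/-- Let Φ be the labelled dual graph of the exceptional curves of n successive blow-ups of closed points
starting from a regular surface with algebraically closed residue fields (vertices = exceptional
curves in order of creation, labels = intersection numbers), I any set of vertices (the curves
contracted to a normal surface) and σ a permutation of the vertices preserving all intersection
numbers and the set I. Let e_{ij} be the multiplicity of E_i × E_j in the fibre square of the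
composite blow-down (the sum over k of c^k_i c^k_j, c^k the total transform of the k-th exceptional
curve) and (E_i · E_j)_I Mumford's rational intersection number of the images after contracting I.
Then the sum over i, j outside I of e_{ij} (σ E_i · E_j)_I equals minus the number of σ-fixed
vertices outside I. (Stated for the dual graphs realized with all residue fields equal to the base
field, which is the case the published argument realizes geometrically.) -/
theorem result (n : ℕ) (G : ArLef.BlowupGraph n) (I : Finset (Fin n))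
    (σ : Equiv.Perm (Fin n)) (hσ : ∀ i j : Fin n, G.mat (σ i) (σ j) = G.mat i j)
    (hσI : ∀ i : Fin n, σ i ∈ I ↔ i ∈ I) :
    G.lNum I σ = ArLef.BlowupGraph.rNum I σ := by
  classical
  set T : Matrix (Fin n) (Fin n) ℚ := Matrix.of fun k m => (G.tt k m : ℚ) with hT
  set N : Matrix (Fin n) (Fin n) ℚ := T.transpose * T with hN
  have hmult : ∀ i j, (G.mult i j : ℚ) = N i j := fun i j => by
    simp [ArLef.BlowupGraph.mult, hN, hT, Matrix.mul_apply]
  have h1 : C G * T.transpose = 1 := by
    have := congrArg Matrix.transpose (tt_C G)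
    rwa [Matrix.transpose_mul, Matrix.transpose_transpose, Matrix.transpose_one] at this
  have hMN : G.mat * N = -1 := by
    rw [mat_eq, hN, Matrix.neg_mul, Matrix.mul_assoc, ← Matrix.mul_assoc (C G), h1, Matrix.one_mul,
      mul_eq_one_comm.1 (tt_C G)]
  have hNs : ∀ i j, N i j = N j i := fun i j => by simp [hN, Matrix.mul_apply, mul_comm]
  have hpd : ((C G).transpose * C G).PosDef := by
    have := Matrix.PosDef.conjTranspose_mul_self (C G) (Matrix.mulVec_injective_iff_isUnit.2 (IsUnit.of_mul_eq_one _ h1))
    rwa [Matrix.conjTranspose_eq_transpose_of_trivial] at this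
  have hW : IsUnit (G.mat.submatrix (fun x : I => x.1) (fun x : I => x.1)).det := by
    rw [← Matrix.isUnit_iff_isUnit_det, mat_eq, Matrix.submatrix_neg]
    exact ((hpd.submatrix Subtype.val_injective).isUnit).neg
  set W := (G.mat.submatrix (fun x : I => x.1) (fun x : I => x.1))⁻¹ with hWdef
  have hcol : ∀ i l, ∑ j ∈ Finset.univ.filter (fun j => j ∉ I), G.mat i j * N j l =
      -(if i = l then 1 else 0) - ∑ c : I, G.mat i c.1 * N c.1 l := by
    intro i l
    have h2 := congrFun (congrFun hMN i) l
    rw [Matrix.mul_apply, Matrix.neg_apply, Matrix.one_apply] at h2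
    rw [← h2, ← Finset.sum_filter_add_sum_filter_not Finset.univ (fun j => j ∉ I) (fun j => G.mat i j * N j l),
      Finset.sum_coe_sort I (fun c => G.mat i c * N c l)]
    simp only [not_not, Finset.filter_univ_mem]
    ring
  have hS : ∀ i l, l ∉ I → ∑ j ∈ Finset.univ.filter (fun j => j ∉ I), G.pairing I i j * N j l =
      -(if i = l then 1 else 0) := by
    intro i l hl
    have hWM : ∀ a c : I, ∑ b : I, W a b * G.mat b.1 c.1 = if a = c then 1 else 0 := fun a c => by
      have := congrFun (congrFun (Matrix.nonsing_inv_mul _ hW) a) c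
      rw [Matrix.mul_apply, Matrix.one_apply] at this
      exact this
    calc ∑ j ∈ Finset.univ.filter (fun j => j ∉ I), G.pairing I i j * N j l
        = ∑ j ∈ Finset.univ.filter (fun j => j ∉ I), G.mat i j * N j l -
          ∑ a : I, ∑ b : I, G.mat i a.1 * W a b * ∑ j ∈ Finset.univ.filter (fun j => j ∉ I), G.mat b.1 j * N j l := by
          simp only [ArLef.BlowupGraph.pairing, ← hWdef, sub_mul, Finset.sum_sub_distrib, Finset.sum_mul, Finset.mul_sum]
          congr 1
          rw [Finset.sum_comm]
          refine Finset.sum_congr rfl fun a _ => ?_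
          rw [Finset.sum_comm]
          exact Finset.sum_congr rfl fun b _ => Finset.sum_congr rfl fun j _ => mul_assoc _ _ _
      _ = -(if i = l then 1 else 0) := by
          have hb : ∀ b : I, ∑ j ∈ Finset.univ.filter (fun j => j ∉ I), G.mat b.1 j * N j l = -∑ c : I, G.mat b.1 c.1 * N c.1 l := fun b => by
            rw [hcol, if_neg (fun e : b.1 = l => hl (e ▸ b.2))]; ring
          have h3 : ∀ a : I, ∑ b : I, G.mat i a.1 * W a b * -∑ c : I, G.mat b.1 c.1 * N c.1 l = -(G.mat i a.1 * N a.1 l) := fun a => by
            simp only [mul_neg, Finset.sum_neg_distrib, neg_inj, Finset.mul_sum]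
            rw [Finset.sum_comm]
            have : ∀ c : I, ∑ b : I, G.mat i a.1 * W a b * (G.mat b.1 c.1 * N c.1 l) = (G.mat i a.1 * N c.1 l) * if a = c then 1 else 0 := fun c => by
              rw [← hWM a c, Finset.mul_sum]
              exact Finset.sum_congr rfl fun b _ => by ring
            rw [Finset.sum_congr rfl fun c _ => this c]
            simp
          simp only [hb, h3, hcol, Finset.sum_neg_distrib]
          ring
  rw [ArLef.BlowupGraph.lNum, ArLef.BlowupGraph.rNum]
  have hi : ∀ i ∈ Finset.univ.filter (fun i => i ∉ I),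
      ∑ j ∈ Finset.univ.filter (fun j => j ∉ I), (G.mult i j : ℚ) * G.pairing I (σ i) j = -(if σ i = i then 1 else 0) := by
    intro i hi
    rw [← hS (σ i) i (Finset.mem_filter.1 hi).2]
    exact Finset.sum_congr rfl fun j _ => by rw [hmult, hNs i j, mul_comm]
  rw [Finset.sum_congr rfl hi, Finset.sum_neg_distrib, Finset.sum_boole, Finset.filter_filter]

end Groth.Agent.S15327
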