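import Groth.Statements.S15344
import Groth.Agent.Lib.H6.MonoVal

set_option autoImplicit false
set_option linter.all false
universe u
open CategoryTheory CategoryTheory.Limits AlgebraicGeometry
open Mor

namespace Groth.Agent.S15344

/-- Let f : Y ⟶ X be a monomorphism of schemes, X quasi-separated. Then the projection Y ×_X X' ⟶ X'
reflects specializations (if the image of y₁ specializes to the image of y₀ then y₁ specializes to
y₀) after every base change X' ⟶ X if and only if, for every valuation ring A with fraction field K
and every commutative square Spec K ⟶ Y, Spec A ⟶ X over f such that, in addition, some morphism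
from the spectrum of the residue field of A to Y lies over Spec A ⟶ X, the square admits a lift Spec
A ⟶ Y. -/
theorem result {X Y : Scheme.{u}} [QuasiSeparatedSpace ↥X]
    (f : Y ⟶ X) [Mono f] :
    (∀ (X' : Scheme.{u}) (g : X' ⟶ X) (y₀ y₁ : ↥(pullback f g)),
        (pullback.snd f g).base y₁ ⤳ (pullback.snd f g).base y₀ → y₁ ⤳ y₀) ↔
      ∀ S : ValuativeCommSq f,
        (∃ l₀ : Spec (CommRingCat.of (IsLocalRing.ResidueField S.R)) ⟶ Y,
            l₀ ≫ f = Spec.map (CommRingCat.ofHom (IsLocalRing.residue S.R)) ≫ S.i₂) →
          S.commSq.HasLift := by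
  refine ⟨fun h S hS => ?_, fun H => H6.MonoVal.reflects_of_lift f (fun S y hy => H S (H6.MonoVal.exists_residue_lift f S.i₂ y hy))⟩
  obtain ⟨l₀, hl₀⟩ := hS
  exact H6.MonoVal.lift_of_reflects f h S (l₀ (IsLocalRing.closedPoint _)) (by
    rw [← Scheme.Hom.comp_apply, hl₀, Scheme.Hom.comp_apply]
    congr 1
    exact (IsLocalRing.PrimeSpectrum.comap_residue _ _).symm)

end Groth.Agent.S15344
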