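import Groth.Statements.S15345
import Groth.Agent.Lib.H6.PullAff

set_option autoImplicit false
set_option linter.all false
universe u
open CategoryTheory CategoryTheory.Limits AlgebraicGeometry
open Mor

namespace Groth.Agent.S15345

/-- Let f : Y ⟶ X be a morphism of schemes, X quasi-separated. If for every morphism X' ⟶ X locally of
finite type the projection Y ×_X X' ⟶ X' reflects specializations (the image of y₁ specializing to
the image of y₀ forces y₁ to specialize to y₀), then the same holds for every morphism X' ⟶ X. (The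
published statement assumes moreover that f is a monomorphism; this row does not.) -/
theorem result {X Y : Scheme.{u}} [QuasiSeparatedSpace ↥X]
    (f : Y ⟶ X)
    (h : ∀ (X' : Scheme.{u}) (g : X' ⟶ X) [LocallyOfFiniteType g] (y₀ y₁ : ↥(pullback f g)),
      (pullback.snd f g).base y₁ ⤳ (pullback.snd f g).base y₀ → y₁ ⤳ y₀) :
    ∀ (X' : Scheme.{u}) (g : X' ⟶ X) (y₀ y₁ : ↥(pullback f g)),
        (pullback.snd f g).base y₁ ⤳ (pullback.snd f g).base y₀ → y₁ ⤳ y₀ := by
  intro X' g p₀ p₁ hp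
  obtain ⟨W, hW, hxW, -⟩ := exists_isAffineOpen_mem_and_subset (X := X) (x := g (pullback.snd f g p₀)) (U := ⊤) trivial
  obtain ⟨V, hV, hxV, hVW⟩ := exists_isAffineOpen_mem_and_subset (X := X') (x := pullback.snd f g p₀) (U := g ⁻¹ᵁ W) hxW
  have hle : V ≤ g ⁻¹ᵁ W := hVW
  letI : Algebra Γ(X, W) Γ(X', V) := (g.appLE W V hle).hom.toAlgebra
  let b := H6.PullAff.base (A := Γ(X, W)) hW.fromSpec Γ(X', V)
  have hb : b = hV.fromSpec ≫ g := hW.SpecMap_appLE_fromSpec g hV hle
  let m : pullback f b ⟶ pullback f g := pullback.lift (pullback.fst _ _) (pullback.snd _ _ ≫ hV.fromSpec)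
    (by rw [pullback.condition, Category.assoc, hb])
  have hm : IsPullback m (pullback.snd f b) (pullback.snd f g) hV.fromSpec := by
    refine IsPullback.of_right ?_ (pullback.lift_snd _ _ _) (IsPullback.of_hasPullback f _)
    rw [pullback.lift_fst, ← hb]
    exact IsPullback.of_hasPullback _ _
  obtain ⟨v₀, hv₀⟩ : pullback.snd f g p₀ ∈ Set.range hV.fromSpec := hV.range_fromSpec ▸ hxV
  obtain ⟨v₁, hv₁⟩ : pullback.snd f g p₁ ∈ Set.range hV.fromSpec := hV.range_fromSpec ▸ hp.mem_open V.isOpen hxV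
  obtain ⟨z₀, rfl, hz₀⟩ := Scheme.exists_preimage_of_isPullback hm p₀ v₀ hv₀.symm
  obtain ⟨z₁, rfl, hz₁⟩ := Scheme.exists_preimage_of_isPullback hm p₁ v₁ hv₁.symm
  suffices hz : z₁ ⤳ z₀ by exact hz.map m.continuous
  have hv : v₁ ⤳ v₀ := hV.fromSpec.isOpenEmbedding.isInducing.specializes_iff.1 (hv₀.symm ▸ hv₁.symm ▸ hp)
  have stage : ∀ C : Subalgebra Γ(X, W) Γ(X', V), C.FG →
      H6.PullAff.trans f hW.fromSpec C.val z₁ ⤳ H6.PullAff.trans f hW.fromSpec C.val z₀ := fun C hC => by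
    haveI : Algebra.FiniteType Γ(X, W) C := C.fg_iff_finiteType.1 hC
    haveI : LocallyOfFiniteType (H6.PullAff.base (A := Γ(X, W)) hW.fromSpec C) := by
      haveI : LocallyOfFiniteType (Spec.map (CommRingCat.ofHom (algebraMap Γ(X, W) C))) :=
        (HasRingHomProperty.Spec_iff (P := @LocallyOfFiniteType)).2 (RingHom.finiteType_algebraMap.2 inferInstance)
      infer_instance
    refine h _ (H6.PullAff.base hW.fromSpec C) _ _ ?_
    show pullback.snd f (H6.PullAff.base hW.fromSpec C) (H6.PullAff.trans f hW.fromSpec C.val z₁) ⤳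
      pullback.snd f (H6.PullAff.base hW.fromSpec C) (H6.PullAff.trans f hW.fromSpec C.val z₀)
    rw [← Scheme.Hom.comp_apply, ← Scheme.Hom.comp_apply, H6.PullAff.trans_snd, Scheme.Hom.comp_apply, Scheme.Hom.comp_apply, hz₀, hz₁]
    exact hv.map (Spec.map (CommRingCat.ofHom C.val.toRingHom)).continuous
  have hfst : pullback.fst f b z₁ ⤳ pullback.fst f b z₀ := by
    have := (stage ⊥ Subalgebra.fg_bot).map (pullback.fst f (H6.PullAff.base hW.fromSpec _)).continuous
    rwa [← Scheme.Hom.comp_apply, ← Scheme.Hom.comp_apply, H6.PullAff.trans_fst] at this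
  have hfW : pullback.fst f b z₀ ∈ f ⁻¹ᵁ W := by
    show f _ ∈ W
    rw [← Scheme.Hom.comp_apply, pullback.condition]
    show (pullback.snd f b ≫ Spec.map (CommRingCat.ofHom (algebraMap Γ(X, W) Γ(X', V))) ≫ hW.fromSpec) z₀ ∈ W
    rw [← Category.assoc, Scheme.Hom.comp_apply]
    exact hW.range_fromSpec.le ⟨_, rfl⟩
  obtain ⟨U, hU, hzU, hUW⟩ := exists_isAffineOpen_mem_and_subset (X := Y) (x := pullback.fst f b z₀) (U := f ⁻¹ᵁ W) hfW
  have hle' : U ≤ f ⁻¹ᵁ W := hUW
  letI : Algebra Γ(X, W) Γ(Y, U) := (f.appLE W U hle').hom.toAlgebra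
  have hc : hU.fromSpec ≫ f = Spec.map (CommRingCat.ofHom (algebraMap Γ(X, W) Γ(Y, U))) ≫ hW.fromSpec :=
    (hW.SpecMap_appLE_fromSpec f hU hle').symm
  obtain ⟨r₀, rfl⟩ := H6.PullAff.exists_mem_piece f hU.fromSpec hW.fromSpec hc _ z₀ (hU.range_fromSpec ▸ hzU)
  obtain ⟨r₁, rfl⟩ := H6.PullAff.exists_mem_piece f hU.fromSpec hW.fromSpec hc _ z₁
    (hU.range_fromSpec ▸ hfst.mem_open U.isOpen hzU)
  refine Specializes.map ?_ (H6.PullAff.piece f hU.fromSpec hW.fromSpec hc _).continuous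
  refine (PrimeSpectrum.le_iff_specializes (r₁ : PrimeSpectrum (TensorProduct Γ(X, W) Γ(Y, U) Γ(X', V))) r₀).1 fun s hs => ?_
  obtain ⟨C, hC, hsC⟩ := H6.PullAff.exists_fg_sections (A := Γ(X, W)) (B := Γ(Y, U)) {s}
  obtain ⟨s₀, hs₀⟩ := hsC s (Finset.mem_singleton_self s)
  subst hs₀
  haveI := H6.PullAff.isOpenImmersion_piece f hU.fromSpec hW.fromSpec hc C
  have h1 := stage C hC
  rw [← Scheme.Hom.comp_apply, ← Scheme.Hom.comp_apply, H6.PullAff.piece_trans, Scheme.Hom.comp_apply, Scheme.Hom.comp_apply] at h1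
  have h2 := (H6.PullAff.piece f hU.fromSpec hW.fromSpec hc C).isOpenEmbedding.isInducing.specializes_iff.1 h1
  exact (PrimeSpectrum.le_iff_specializes
    (_ : PrimeSpectrum (TensorProduct Γ(X, W) Γ(Y, U) C)) _).2 h2 hs

end Groth.Agent.S15345
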