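import Groth.Statements.S15347
import Groth.Agent.Lib.H6.ImmDense

set_option autoImplicit false
set_option linter.all false
universe u
open CategoryTheory CategoryTheory.Limits AlgebraicGeometry
open Mor

namespace Groth.Agent.S15347

/-- Let f : Y ⟶ X be an immersion of schemes. Then: for every valuation ring A with fraction field K and
every commutative square Spec K ⟶ Y, Spec A ⟶ X over f such that some morphism from the spectrum of
the residue field of A to Y lies over Spec A ⟶ X, the square admits a lift; and for every integral
domain A and every morphism s : Spec A ⟶ X such that the points of a dense subset of Spec A lift to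
Y (the residue field of each such point maps to Y over s), there is a nonempty open subscheme U of
Spec A with a morphism U ⟶ Y over s. (The published statement is for a representable, locally
finitely presented morphism of algebraic stacks with locally Noetherian target and a quasi-compact
immersion, and also lists that f is a monomorphism; this row is the case of schemes, for any
immersion and any target.) -/
theorem result {X Y : Scheme.{u}} (f : Y ⟶ X) [IsImmersion f] :
    (∀ S : ValuativeCommSq f,
        (∃ l₀ : Spec (CommRingCat.of (IsLocalRing.ResidueField S.R)) ⟶ Y,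
            l₀ ≫ f = Spec.map (CommRingCat.ofHom (IsLocalRing.residue S.R)) ≫ S.i₂) →
          S.commSq.HasLift) ∧
      ∀ (A : Type u) [CommRing A] [IsDomain A] (s : Spec (CommRingCat.of A) ⟶ X) (D : Set ↥(Spec (CommRingCat.of A))),
        Dense D →
        (∀ p ∈ D, ∃ l : Spec ((Spec (CommRingCat.of A)).residueField p) ⟶ Y,
            l ≫ f = (Spec (CommRingCat.of A)).fromSpecResidueField p ≫ s) →
          ∃ U : (Spec (CommRingCat.of A)).Opens, (U : Set ↥(Spec (CommRingCat.of A))).Nonempty ∧
            ∃ l : (U : Scheme.{u}) ⟶ Y, l ≫ f = U.ι ≫ s := by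
  refine ⟨fun S ⟨l₀, hl₀⟩ => ?_, fun A _ _ s D hD hl => ?_⟩
  · let g := pullback.snd f S.i₂
    let j : Spec (CommRingCat.of S.K) ⟶ pullback f S.i₂ := pullback.lift S.i₁ _ S.commSq.w
    have hd : Dense (Set.range g) := by
      have hmem : (⟨⊥, Ideal.isPrime_bot⟩ : PrimeSpectrum S.R) ∈ Set.range g := by
        refine ⟨j (IsLocalRing.closedPoint S.K), ?_⟩
        rw [← Scheme.Hom.comp_apply, pullback.lift_snd]
        refine PrimeSpectrum.ext ?_
        show (IsLocalRing.closedPoint S.K).asIdeal.comap (algebraMap S.R S.K) = ⊥
        rw [show (IsLocalRing.closedPoint S.K).asIdeal = ⊥ from IsLocalRing.maximalIdeal_eq_bot, ← RingHom.ker_eq_comap_bot]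
        exact (RingHom.injective_iff_ker_eq_bot _).1 (IsFractionRing.injective S.R S.K)
      refine dense_iff_closure_eq.2 (Set.eq_univ_of_univ_subset fun p _ => ?_)
      exact closure_mono (Set.singleton_subset_iff.2 hmem) (specializes_iff_mem_closure.1 ((PrimeSpectrum.le_iff_specializes (⟨⊥, Ideal.isPrime_bot⟩ : PrimeSpectrum S.R) p).1 bot_le))
    obtain ⟨U, hU, l, hl⟩ := H6.ImmDense.exists_section_on_range g hd
    have hc : IsLocalRing.closedPoint S.R ∈ Set.range g := by
      let l' := pullback.lift l₀ (Spec.map (CommRingCat.ofHom (IsLocalRing.residue S.R))) hl₀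
      refine ⟨l' (IsLocalRing.closedPoint _), ?_⟩
      rw [← Scheme.Hom.comp_apply, pullback.lift_snd]
      exact IsLocalRing.PrimeSpectrum.comap_residue _ _
    have hUtop : U = ⊤ := (eq_top_iff).2 fun p _ =>
      (IsLocalRing.specializes_closedPoint (R := S.R) p).mem_open U.isOpen (show IsLocalRing.closedPoint S.R ∈ (U : Set (Spec (CommRingCat.of S.R))) from hU.symm ▸ hc)
    subst hUtop
    have hl' : (Spec (CommRingCat.of S.R)).topIso.inv ≫ l ≫ pullback.snd f S.i₂ = 𝟙 _ :=
      ((congrArg _ hl).trans ((Spec (CommRingCat.of S.R)).topIso.inv_hom_id))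
    refine ⟨⟨⟨(Scheme.topIso _).inv ≫ l ≫ pullback.fst f S.i₂, ?_, ?_⟩⟩⟩
    · rw [← cancel_mono f]
      simp only [Category.assoc, pullback.condition, S.commSq.w, reassoc_of% hl']
    · simp only [Category.assoc, pullback.condition, reassoc_of% hl']
  · let g := pullback.snd f s
    have hd : Dense (Set.range g) := hD.mono fun p hp => by
      obtain ⟨l, hlp⟩ := hl p hp
      let l' := pullback.lift l _ hlp
      refine ⟨l' (IsLocalRing.closedPoint _), ?_⟩
      rw [← Scheme.Hom.comp_apply, pullback.lift_snd]
      exact Scheme.fromSpecResidueField_apply p _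
    obtain ⟨U, hU, l, hlU⟩ := H6.ImmDense.exists_section_on_range g hd
    refine ⟨U, hU.symm ▸ hd.nonempty, l ≫ pullback.fst f s, ?_⟩
    rw [Category.assoc, pullback.condition, reassoc_of% hlU]

end Groth.Agent.S15347
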