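import Groth.Statements.S15352
import Mathlib
import Groth.Agent.Lib.H8IdComp

set_option autoImplicit false
universe u
open CategoryTheory CategoryTheory.Limits MonoidalCategory CartesianMonoidalCategory MonObj GrpObj AlgebraicGeometry
open GrpSch

namespace Groth.Agent.S15352

/-- Let k be an algebraically closed field, G a group scheme locally of finite type over k, G⁰ ⊆ G the
connected component of the unit point, and U a nonempty open subscheme of G contained in G⁰. Then
every point of G⁰ is in the image of the morphism U ×_k U ⟶ G, (g, h) ↦ g·h⁻¹. (The published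
statement writes U as an open of G mapping to G⁰ × G⁰; this row makes the containment U ⊆ G⁰
explicit.) -/
theorem result (k : Type u) [Field k] [IsAlgClosed k]
    (G : Over (Spec (CommRingCat.of k))) [GrpObj G] [LocallyOfFiniteType G.hom] (U : G.left.Opens)
    (hne : (U : Set ↥G.left).Nonempty)
    (hU : (U : Set ↥G.left) ⊆ connectedComponent (η[G].left.base (IsLocalRing.closedPoint k))) :
    connectedComponent (η[G].left.base (IsLocalRing.closedPoint k)) ⊆ Set.range
      ((((Over.homMk U.ι rfl : Over.mk (U.ι ≫ G.hom) ⟶ G) ⊗ₘ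
          ((Over.homMk U.ι rfl : Over.mk (U.ι ≫ G.hom) ⟶ G) ≫ ι[G])) ≫ μ[G]).left.base) := by
  intro g hg
  have hgen : Groth.Agent.H8Component.gen G g = Groth.Agent.H8Component.gen₀ G := by
    rw [Groth.Agent.H8IdComp.connectedComponent_eq] at hg
    exact (Groth.Agent.H8IdComp.mem_closure_gen₀_iff G).mp hg
  obtain ⟨x, hx⟩ := hne
  have hxU : Groth.Agent.H8Component.gen₀ G ∈ U := by
    have := hU hx
    rw [Groth.Agent.H8IdComp.connectedComponent_eq] at this
    exact (specializes_iff_mem_closure.mpr this).mem_open U.2 hx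
  obtain ⟨z, h1, h2, h3⟩ := Groth.Agent.H8Component.exists_mul_eq G g
  rw [hgen] at h2
  let j : G ⊗ G ⟶ G ⊗ G := G ◁ ι[G]
  let i : Over.mk (U.ι ≫ G.hom) ⟶ G := Over.homMk U.ι rfl
  have hU1 : (fst G G).left (j.left z) ∈ U := by
    rw [← Scheme.Hom.comp_apply, ← Over.comp_left, whiskerLeft_fst, h1]
    exact hxU
  have hU2 : (snd G G).left (j.left z) ∈ U := by
    rw [← Scheme.Hom.comp_apply, ← Over.comp_left, whiskerLeft_snd, Over.comp_left,
      Scheme.Hom.comp_apply, h2]
    have hinv := Groth.Agent.H8IdComp.gen_inv G (Groth.Agent.H8Component.gen₀ G)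
      (Groth.Agent.H8Component.gen_eq_self G (Groth.Agent.H8Component.isMaxPt_gen G _))
    have hs := Groth.Agent.H8Component.gen_specializes G (ι[G].left (Groth.Agent.H8Component.gen₀ G))
    rw [hinv] at hs
    haveI : IsIso ι[G].left := ((Over.forget _).mapIso (asIso ι[G])).isIso_hom
    have hm := (Groth.Agent.H8Component.isMaxPt_gen G (Groth.Agent.H8Component.org G)).map ι[G].left
    have e : Groth.Agent.H8Component.gen₀ G = ι[G].left (Groth.Agent.H8Component.gen₀ G) := hm.eq hs
    rw [← e]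
    exact hxU
  obtain ⟨w, hw⟩ : j.left z ∈ Set.range (i ⊗ₘ i).left := by
    rw [Over.tensorHom_left]
    refine (Scheme.Pullback.range_map _ _ _ _ i.left i.left (𝟙 _) _ _).ge ⟨?_, ?_⟩
    · exact ⟨⟨_, hU1⟩, rfl⟩
    · exact ⟨⟨_, hU2⟩, rfl⟩
  refine ⟨w, ?_⟩
  have e : (i ⊗ₘ (i ≫ ι[G])) ≫ μ[G] = (i ⊗ₘ i) ≫ j ≫ μ[G] := by
    rw [← Category.assoc]
    congr 1
    apply CartesianMonoidalCategory.hom_ext <;> simp [j]
  show (((i ⊗ₘ (i ≫ ι[G])) ≫ μ[G]).left) w = g
  rw [e, Over.comp_left, Over.comp_left, Scheme.Hom.comp_apply, Scheme.Hom.comp_apply, hw, ← h3,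
    ← Scheme.Hom.comp_apply j.left j.left, ← Over.comp_left,
    show j ≫ j = 𝟙 _ by simp [j, ← MonoidalCategory.whiskerLeft_comp]]
  rfl

end Groth.Agent.S15352
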