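import Groth.Statements.S15353
import Mathlib
import Groth.Agent.S16707

set_option autoImplicit false
universe u
open CAlg

namespace Groth.Agent.S15353
open AlgebraicGeometry CategoryTheory Limits
set_option backward.isDefEq.respectTransparency.types false
set_option linter.style.haveILetI false

/-- Let f : A' → A be a surjective ring homomorphism whose kernel is a nilpotent ideal. Then the induced
homomorphism of Picard groups Pic(A') → Pic(A), base change of invertible modules along f, is
bijective. -/
theorem result {A' A : Type u} [CommRing A'] [CommRing A]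
    (f : A' →+* A) (hf : Function.Surjective f) (hker : IsNilpotent (RingHom.ker f)) :
    Function.Bijective (CommRing.Pic.mapRingHom f) := by
  open TensorProduct in
  letI := f.toAlgebra
  have free1 : ∀ (P : Type u) [AddCommGroup P] [Module A' P] [Module.Projective A' P],
      Nonempty (A ⊗[A'] P ≃ₗ[A] A) → Nonempty (P ≃ₗ[A'] A') := by
    intro P _ _ _ ⟨e⟩
    obtain ⟨m, hm⟩ := TensorProduct.mk_surjective A' P A hf (e.symm 1)
    let g : A' →ₗ[A'] P := LinearMap.toSpanSingleton A' P m
    have hb : Function.Bijective (g.lTensor A) := by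
      have hh : ∀ x, e (g.lTensor A x) = TensorProduct.rid A' A x := by
        intro x
        induction x using TensorProduct.induction_on with
        | zero => simp
        | tmul a r =>
          rw [LinearMap.lTensor_tmul, TensorProduct.rid_tmul]
          simp only [g, LinearMap.toSpanSingleton_apply]
          rw [← TensorProduct.smul_tmul, show (r • a) ⊗ₜ[A'] m = (r • a) • ((1 : A) ⊗ₜ[A'] m) by
            rw [TensorProduct.smul_tmul', smul_eq_mul, mul_one],
            show (1 : A) ⊗ₜ[A'] m = e.symm 1 from hm, map_smul, e.apply_symm_apply, smul_eq_mul, mul_one]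
        | add x y hx hy => simp [map_add, hx, hy]
      have he : ⇑(g.lTensor A) = e.symm ∘ TensorProduct.rid A' A := funext fun x => by simp [← hh]
      rw [he]; exact e.symm.bijective.comp (TensorProduct.rid A' A).bijective
    let q : (A' ⧸ RingHom.ker f) ≃ₗ[A'] A :=
      (Ideal.quotientKerAlgEquivOfSurjective (f := Algebra.ofId A' A) hf).toLinearEquiv
    have hb2 : Function.Bijective (g.baseChange (A' ⧸ RingHom.ker f)) := by
      have hh : ∀ x, (q.rTensor P) (g.baseChange (A' ⧸ RingHom.ker f) x) = g.lTensor A ((q.rTensor A') x) := by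
        intro x
        induction x using TensorProduct.induction_on with
        | zero => simp
        | tmul a r => simp
        | add x y hx hy => simp only [map_add, hx, hy]
      have he : ⇑(g.baseChange (A' ⧸ RingHom.ker f)) = (q.rTensor P).symm ∘ g.lTensor A ∘ (q.rTensor A') :=
        funext fun x => ((q.rTensor P).symm_apply_apply _).symm.trans (congrArg (q.rTensor P).symm (hh x))
      rw [he]; exact (q.rTensor P).symm.bijective.comp (hb.comp (q.rTensor A').bijective)
    exact ⟨(LinearEquiv.ofBijective g (Groth.Agent.S16707.result A' (RingHom.ker f) hker A' P g hb2)).symm⟩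
  have lift2 : ∀ (M : Type u) [AddCommGroup M] [Module A M] [Module.Finite A M] [Module.Projective A M],
      ∃ (P : Type u) (_ : AddCommGroup P) (_ : Module A' P), Module.Finite A' P ∧ Module.Projective A' P ∧ Nonempty (A ⊗[A'] P ≃ₗ[A] M) := by
    intro M _ _ _ _
    obtain ⟨n, p, i, -, -, hpi⟩ := Module.Finite.exists_comp_eq_id_of_projective A M
    let e : Matrix (Fin n) (Fin n) A := LinearMap.toMatrix' (i ∘ₗ p)
    let F : Matrix (Fin n) (Fin n) A' →+* Matrix (Fin n) (Fin n) A := f.mapMatrix
    have hF : Function.Surjective F := fun x => ⟨x.map (Function.surjInv hf), by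
      ext a b; simp [F, Function.surjInv_eq hf]⟩
    have hk : ∀ x ∈ RingHom.ker F, IsNilpotent x := by
      intro x hx
      obtain ⟨k, hk⟩ := hker
      refine ⟨k, ?_⟩
      have : ∀ j, ∀ a b, (x ^ j) a b ∈ RingHom.ker f ^ j := by
        intro j; induction j with
        | zero => simp
        | succ j ih =>
          intro a b
          rw [pow_succ, pow_succ, Matrix.mul_apply]
          refine Ideal.sum_mem _ fun c _ => Ideal.mul_mem_mul (ih a c) ?_
          have h3 : x.map f = 0 := (RingHom.mem_ker (f := F)).1 hx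
          have h4 : (x.map f) c b = (0 : Matrix (Fin n) (Fin n) A) c b := by rw [h3]
          exact RingHom.mem_ker.2 h4
      ext a b
      simpa [hk] using this k a b
    have hee : IsIdempotentElem e := by
      have h : (i ∘ₗ p) ∘ₗ (i ∘ₗ p) = i ∘ₗ p := by
        rw [show (i ∘ₗ p) ∘ₗ (i ∘ₗ p) = i ∘ₗ (p ∘ₗ i) ∘ₗ p from rfl, hpi, LinearMap.id_comp]
      rw [IsIdempotentElem, ← LinearMap.toMatrix'_comp, h]
    obtain ⟨e', he', hFe⟩ := exists_isIdempotentElem_eq_of_ker_isNilpotent F hk e (hF e) hee
    let E : (Fin n → A') →ₗ[A'] (Fin n → A') := Matrix.toLin' e'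
    have hE : E ∘ₗ E = E := by rw [← Matrix.toLin'_mul, he'.eq]
    let π : (Fin n → A') →ₗ[A'] LinearMap.range E := E.rangeRestrict
    let ι := (LinearMap.range E).subtype
    have hπι : π ∘ₗ ι = LinearMap.id := by
      refine LinearMap.ext fun z => Subtype.ext ?_
      obtain ⟨y, hy⟩ := z.2
      show E (z : Fin n → A') = z
      rw [← hy, ← LinearMap.comp_apply, hE]
    refine ⟨LinearMap.range E, inferInstance, inferInstance, inferInstance, Module.Projective.of_split ι π hπι, ?_⟩
    let c : A ⊗[A'] (Fin n → A') ≃ₗ[A] (Fin n → A) := TensorProduct.piScalarRight A' A A (Fin n)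
    have hc : c.toLinearMap ∘ₗ E.baseChange A = (i ∘ₗ p) ∘ₗ c.toLinearMap := by
      ext j k
      simp only [LinearMap.coe_comp, Function.comp_apply, TensorProduct.AlgebraTensorModule.curry_apply, TensorProduct.curry_apply, LinearMap.coe_restrictScalars, LinearEquiv.coe_coe, LinearMap.baseChange_tmul, c, TensorProduct.piScalarRight_apply, TensorProduct.piScalarRightHom_tmul, LinearMap.coe_single]
      have : (i ∘ₗ p) = Matrix.toLin' e := (Matrix.toLin'_toMatrix' _).symm
      rw [show i (p _) = (i ∘ₗ p) _ from rfl, this, ← hFe]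
      simp [E, F, Algebra.smul_def, RingHom.algebraMap_toAlgebra, Matrix.mulVec, dotProduct, Pi.single_apply]
    refine ⟨LinearEquiv.ofLinear (p ∘ₗ c.toLinearMap ∘ₗ ι.baseChange A) (π.baseChange A ∘ₗ c.symm.toLinearMap ∘ₗ i) ?_ ?_⟩
    · have h1 : ι.baseChange A ∘ₗ π.baseChange A = E.baseChange A := by
        rw [← LinearMap.baseChange_comp]; rfl
      calc _ = p ∘ₗ (c.toLinearMap ∘ₗ (ι.baseChange A ∘ₗ π.baseChange A)) ∘ₗ c.symm.toLinearMap ∘ₗ i := by
            simp only [LinearMap.comp_assoc]
        _ = (p ∘ₗ i) ∘ₗ (p ∘ₗ i) := by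
            rw [h1, hc]; simp [LinearMap.comp_assoc, LinearEquiv.comp_coe]
        _ = _ := by rw [hpi, LinearMap.id_comp]
    · have h1 : ι.baseChange A ∘ₗ π.baseChange A = E.baseChange A := by
        rw [← LinearMap.baseChange_comp]; rfl
      have h2 : π.baseChange A ∘ₗ ι.baseChange A = LinearMap.id := by
        rw [← LinearMap.baseChange_comp, hπι, LinearMap.baseChange_id]
      calc _ = π.baseChange A ∘ₗ c.symm.toLinearMap ∘ₗ ((i ∘ₗ p) ∘ₗ c.toLinearMap) ∘ₗ ι.baseChange A := by
            simp only [LinearMap.comp_assoc]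
        _ = π.baseChange A ∘ₗ (ι.baseChange A ∘ₗ π.baseChange A) ∘ₗ ι.baseChange A := by
            rw [← hc, h1]; simp [← LinearMap.comp_assoc, LinearEquiv.comp_coe]
        _ = _ := by rw [← LinearMap.comp_assoc, ← LinearMap.comp_assoc, h2, LinearMap.id_comp, h2]
  refine ⟨?_, ?_⟩
  · rw [injective_iff_map_eq_one]
    intro M hM
    have := CommRing.Pic.mk_eq_one_iff.1 hM
    rw [← CommRing.Pic.mk_eq_self (M := M), CommRing.Pic.mk_eq_one_iff]
    exact free1 M this
  · intro N
    obtain ⟨P, _, _, hPf, hPp, ⟨eP⟩⟩ := lift2 N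
    obtain ⟨Q, _, _, hQf, hQp, ⟨eQ⟩⟩ := lift2 (Module.Dual A N)
    obtain ⟨e⟩ := free1 (Q ⊗[A'] P) ⟨TensorProduct.AlgebraTensorModule.distribBaseChange A' A Q P ≪≫ₗ
      TensorProduct.congr eQ eP ≪≫ₗ Module.Invertible.linearEquiv A N⟩
    haveI : Module.Invertible A' P := Module.Invertible.right e
    refine ⟨CommRing.Pic.mk A' P, ?_⟩
    show CommRing.Pic.mk A _ = N
    exact CommRing.Pic.mk_eq_iff.2 ⟨TensorProduct.AlgebraTensorModule.congr (.refl A A) (CommRing.Pic.mk.linearEquiv A' P) ≪≫ₗ eP⟩

end Groth.Agent.S15353
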