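import Groth.Statements.S15361
import Mathlib

set_option autoImplicit false
set_option backward.isDefEq.respectTransparency.types false
set_option maxHeartbeats 1000000
set_option linter.all false
open GalCoh

namespace Groth.Agent.S15361
open Groth.Agent

/-- Let p be a prime and H a subgroup of GL₂(𝔽_p). Then H = GL₂(𝔽_p) if and only if (i) some non-split
Cartan subgroup lies in H, i.e. some subgroup C ≤ H such that C ∪ {0} is a subfield of the matrix
algebra M₂(𝔽_p) with p² elements, and (ii) p divides the order of H. -/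
theorem result (p : ℕ) [Fact p.Prime]
    (H : Subgroup (GL (Fin 2) (ZMod p))) :
    H = ⊤ ↔
      (∃ (C : Subgroup (GL (Fin 2) (ZMod p))) (E : Subring (Matrix (Fin 2) (Fin 2) (ZMod p))),
          C ≤ H ∧ IsField E ∧ Nat.card E = p ^ 2 ∧
            (E : Set (Matrix (Fin 2) (Fin 2) (ZMod p))) =
              insert 0 ((fun g : GL (Fin 2) (ZMod p) => (g : Matrix (Fin 2) (Fin 2) (ZMod p))) ''
                (C : Set (GL (Fin 2) (ZMod p))))) ∧
        p ∣ Nat.card H := by
    classical
    constructor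
    · rintro rfl
      let F := GaloisField p 2
      have hfr : Module.finrank (ZMod p) F = 2 := GaloisField.finrank p two_ne_zero
      let b : Module.Basis (Fin 2) (ZMod p) F := Module.finBasisOfFinrankEq _ _ hfr
      let f : F →+* Matrix (Fin 2) (Fin 2) (ZMod p) := (Algebra.leftMulMatrix b).toRingHom
      have hf : Function.Injective f := Algebra.leftMulMatrix_injective b
      refine ⟨⟨(Units.map f.toMonoidHom).range, f.range, le_top, ?_, ?_, ?_⟩, ?_⟩
      · exact (RingEquiv.ofBijective f.rangeRestrict ⟨fun x y h => hf (congrArg Subtype.val h),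
          f.rangeRestrict_surjective⟩).symm.toMulEquiv.isField (Field.toIsField F)
      · rw [← Nat.card_congr (RingEquiv.ofBijective f.rangeRestrict ⟨fun x y h => hf (congrArg Subtype.val h),
          f.rangeRestrict_surjective⟩).toEquiv]
        exact GaloisField.card p 2 two_ne_zero
      · ext M
        constructor
        · rintro ⟨x, rfl⟩
          rcases eq_or_ne x 0 with rfl | hx
          · exact Set.mem_insert_iff.2 (Or.inl (map_zero f))
          · exact Set.mem_insert_iff.2 (Or.inr ⟨Units.map f.toMonoidHom (Units.mk0 x hx), ⟨_, rfl⟩, rfl⟩)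
        · intro hM
          rcases Set.mem_insert_iff.1 hM with rfl | ⟨g, ⟨u, rfl⟩, rfl⟩
          · exact zero_mem f.range
          · exact ⟨(u : F), rfl⟩
      · rw [Subgroup.card_top, Matrix.card_GL_field, Fin.prod_univ_two, ZMod.card]
        refine Dvd.dvd.mul_left ?_ _
        simp only [Fin.val_one, pow_one]
        exact Nat.dvd_sub (dvd_pow_self p two_ne_zero) dvd_rfl
    · rintro ⟨⟨C, E, hCH, hE, hcard, hset⟩, hp⟩
      have hmem : ∀ x : Matrix (Fin 2) (Fin 2) (ZMod p), x ∈ E → x ≠ 0 →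
          ∃ g ∈ C, ((g : GL (Fin 2) (ZMod p)) : Matrix (Fin 2) (Fin 2) (ZMod p)) = x := by
        intro x hx hx0
        have : x ∈ (E : Set (Matrix (Fin 2) (Fin 2) (ZMod p))) := hx
        rw [hset, Set.mem_insert_iff] at this
        rcases this with h | ⟨g, hg, h⟩
        · exact absurd h hx0
        · exact ⟨g, hg, h⟩
      let E' : Subalgebra (ZMod p) (Matrix (Fin 2) (Fin 2) (ZMod p)) :=
        { E with
          algebraMap_mem' := fun r => by
            rw [← ZMod.natCast_zmod_val r, map_natCast]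
            exact natCast_mem E _ }
      letI : Field E' := (show IsField E' from hE).toField
      haveI : Finite E' := Subtype.finite
      have hinj : ∀ (v : Fin 2 → ZMod p), v ≠ 0 → Function.Injective (fun x : E' => (x : Matrix (Fin 2) (Fin 2) (ZMod p)).mulVec v) := by
        intro v hv x y h
        by_contra hne
        obtain ⟨g, -, hg⟩ := hmem ((x : Matrix (Fin 2) (Fin 2) (ZMod p)) - y) (E.sub_mem x.2 y.2)
          (sub_ne_zero.2 fun h' => hne (Subtype.ext h'))
        have h0 : ((x : Matrix (Fin 2) (Fin 2) (ZMod p)) - y).mulVec v = 0 := by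
          rw [Matrix.sub_mulVec]; exact sub_eq_zero.2 h
        rw [← hg] at h0
        have := congrArg (fun w => ((g⁻¹ : GL (Fin 2) (ZMod p)) : Matrix (Fin 2) (Fin 2) (ZMod p)).mulVec w) h0
        simp only [Matrix.mulVec_mulVec, ← Units.val_mul, inv_mul_cancel, Units.val_one, Matrix.one_mulVec,
          Matrix.mulVec_zero] at this
        exact hv this
      have hbij : ∀ (v : Fin 2 → ZMod p), v ≠ 0 → Function.Bijective (fun x : E' => (x : Matrix (Fin 2) (Fin 2) (ZMod p)).mulVec v) := by
        intro v hv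
        refine (Nat.bijective_iff_injective_and_card _).2 ⟨hinj v hv, ?_⟩
        rw [show Nat.card E' = p ^ 2 from hcard]
        simp
      have htrans : ∀ v w : Fin 2 → ZMod p, v ≠ 0 → w ≠ 0 →
          ∃ g ∈ C, ((g : GL (Fin 2) (ZMod p)) : Matrix (Fin 2) (Fin 2) (ZMod p)).mulVec v = w := by
        intro v w hv hw
        obtain ⟨x, hx⟩ := (hbij v hv).2 w
        obtain ⟨g, hgC, hg⟩ := hmem x x.2 (fun h0 => hw (by
          rw [← hx]; simp only [h0, Matrix.zero_mulVec]))
        exact ⟨g, hgC, by rw [hg]; exact hx⟩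
      let e1 : Fin 2 → ZMod p := ![1, 0]
      have he1 : e1 ≠ 0 := fun h => one_ne_zero (α := ZMod p) (congrFun h 0)
      have hdetC : ∀ d : ZMod p, d ≠ 0 → ∃ g ∈ C, ((g : GL (Fin 2) (ZMod p)) : Matrix (Fin 2) (Fin 2) (ZMod p)).det = d := by
        intro d hd
        obtain ⟨x, hx⟩ := FiniteField.norm_surjective (ZMod p) E' d
        obtain ⟨g, hgC, hg⟩ := hmem x x.2 (fun h0 => hd (by
          have : x = 0 := Subtype.ext h0
          rw [← hx, this, Algebra.norm_zero]))
        refine ⟨g, hgC, ?_⟩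
        let φ : E' ≃ₗ[ZMod p] (Fin 2 → ZMod p) := LinearEquiv.ofBijective
          ({ toFun := fun x => (x : Matrix (Fin 2) (Fin 2) (ZMod p)).mulVec e1
             map_add' := fun a b => Matrix.add_mulVec _ _ _
             map_smul' := fun c a => Matrix.smul_mulVec c _ _ } : E' →ₗ[ZMod p] (Fin 2 → ZMod p)) (hbij e1 he1)
        have hconj : (φ : E' →ₗ[ZMod p] (Fin 2 → ZMod p)) ∘ₗ (Algebra.lmul (ZMod p) E' x) ∘ₗ (φ.symm : (Fin 2 → ZMod p) →ₗ[ZMod p] E') =
            Matrix.toLin' (x : Matrix (Fin 2) (Fin 2) (ZMod p)) := by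
          refine LinearMap.ext fun w => ?_
          obtain ⟨y, rfl⟩ := φ.surjective w
          simp only [LinearMap.comp_apply, LinearEquiv.coe_coe, LinearEquiv.symm_apply_apply, Matrix.toLin'_apply]
          show ((x * y : E') : Matrix (Fin 2) (Fin 2) (ZMod p)).mulVec e1 = _
          rw [Subalgebra.coe_mul, ← Matrix.mulVec_mulVec]
          rfl
        rw [hg, ← LinearMap.det_toLin', ← hconj, LinearMap.det_conj]
        exact (Algebra.norm_apply (ZMod p) x).symm.trans hx
      have hHfin : Finite H := inferInstance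
      obtain ⟨⟨u, huH⟩, hu⟩ := exists_prime_orderOf_dvd_card' p hp
      have hu' : orderOf u = p := (Subgroup.orderOf_coe ⟨u, huH⟩).trans hu
      have hu1 : u ≠ 1 := fun h => (Fact.out : p.Prime).ne_one (by rw [← hu', h, orderOf_one])
      have hupG : u ^ p = 1 := orderOf_dvd_iff_pow_eq_one.1 (dvd_of_eq hu')
      have hup : ((u : Matrix (Fin 2) (Fin 2) (ZMod p))) ^ p = 1 := by
        rw [← Units.val_pow_eq_pow_val, hupG, Units.val_one]
      set N : Matrix (Fin 2) (Fin 2) (ZMod p) := (u : Matrix (Fin 2) (Fin 2) (ZMod p)) - 1 with hN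
      have hNnil : IsNilpotent N := ⟨p, by
        rw [hN, sub_pow_char_of_commute p (Commute.one_right _), hup, one_pow, sub_self]⟩
      have hN2 : N ^ 2 = 0 := by
        have := Matrix.isNilpotent_charpoly_sub_pow_of_isNilpotent hNnil
        have h2 : N.charpoly = Polynomial.X ^ Fintype.card (Fin 2) := sub_eq_zero.1 (isNilpotent_iff_eq_zero.1 this)
        have h3 := Matrix.aeval_self_charpoly N
        rw [h2, map_pow, Polynomial.aeval_X, Fintype.card_fin] at h3
        exact h3
      obtain ⟨v, hv⟩ : ∃ v, N.mulVec v ≠ 0 := by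
        by_contra h
        push Not at h
        apply hu1
        have h0 : N = 0 := Matrix.ext_of_mulVec_single fun i => by rw [h, Matrix.zero_mulVec]
        exact Units.ext (sub_eq_zero.1 h0)
      have hfix : (u : Matrix (Fin 2) (Fin 2) (ZMod p)).mulVec (N.mulVec v) = N.mulVec v := by
        rw [Matrix.mulVec_mulVec]
        congr 1
        have : (u : Matrix (Fin 2) (Fin 2) (ZMod p)) = N + 1 := by rw [hN, sub_add_cancel]
        rw [this, add_mul, one_mul, ← pow_two, hN2, zero_add]
      obtain ⟨c, hc, hcw⟩ := htrans _ e1 hv he1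
      set u' := c * u * c⁻¹ with hu'def
      have hu'H : u' ∈ H := H.mul_mem (H.mul_mem (hCH hc) huH) (H.inv_mem (hCH hc))
      have hu'1 : (u' : Matrix (Fin 2) (Fin 2) (ZMod p)).mulVec e1 = e1 := by
        rw [← hcw, hu'def, Units.val_mul, Units.val_mul, Matrix.mulVec_mulVec, mul_assoc, mul_assoc,
          ← Units.val_mul c⁻¹ c, inv_mul_cancel, Units.val_one, mul_one, ← Matrix.mulVec_mulVec, hfix]
      have hcol : ∀ (M : Matrix (Fin 2) (Fin 2) (ZMod p)), M.mulVec e1 = e1 → M = !![1, M 0 1; 0, M 1 1] := by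
        intro M hM
        have h0 := congrFun hM 0
        have h1 := congrFun hM 1
        simp [e1, Matrix.mulVec, dotProduct, Fin.sum_univ_two] at h0 h1
        ext i j
        fin_cases i <;> fin_cases j <;> simp [h0, h1]
      have hu'p : (u' : Matrix (Fin 2) (Fin 2) (ZMod p)) ^ p = 1 := by
        rw [← Units.val_pow_eq_pow_val, hu'def, conj_pow, hupG]
        simp
      have hd1 : (u' : Matrix (Fin 2) (Fin 2) (ZMod p)) 1 1 = 1 := by
        have h := congrArg Matrix.det hu'p
        rw [Matrix.det_pow, hcol _ hu'1, Matrix.det_fin_two_of, ZMod.pow_card, Matrix.det_one] at h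
        simpa using h
      have ht0 : (u' : Matrix (Fin 2) (Fin 2) (ZMod p)) 0 1 ≠ 0 := by
        intro h
        apply hu1
        have : u' = 1 := Units.ext (by rw [hcol _ hu'1, h, hd1, Units.val_one, Matrix.one_fin_two])
        rw [hu'def] at this
        exact conj_eq_one_iff.1 this
      have htransv : ∀ a : ZMod p, ∃ g ∈ H, ((g : GL (Fin 2) (ZMod p)) : Matrix (Fin 2) (Fin 2) (ZMod p)) = !![1, a; 0, 1] := by
        intro a
        refine ⟨u' ^ (a / (u' : Matrix (Fin 2) (Fin 2) (ZMod p)) 0 1).val, H.pow_mem hu'H _, ?_⟩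
        have hpow : ∀ n : ℕ, (!![1, (u' : Matrix (Fin 2) (Fin 2) (ZMod p)) 0 1; 0, 1] : Matrix (Fin 2) (Fin 2) (ZMod p)) ^ n =
            !![1, n * (u' : Matrix (Fin 2) (Fin 2) (ZMod p)) 0 1; 0, 1] := by
          intro n
          induction n with
          | zero => simp [Matrix.one_fin_two]
          | succ n ih =>
            rw [pow_succ, ih, Matrix.mul_fin_two]
            simp [add_mul, add_comm]
        rw [Units.val_pow_eq_pow_val]
        have hshape := hcol _ hu'1
        rw [hd1] at hshape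
        rw [(congrArg (· ^ (a / (u' : Matrix (Fin 2) (Fin 2) (ZMod p)) 0 1).val) hshape).trans (hpow _),
          ZMod.natCast_zmod_val, div_mul_cancel₀ _ ht0]
      rw [eq_top_iff]
      intro g _
      have hg1 : (g : Matrix (Fin 2) (Fin 2) (ZMod p)).mulVec e1 ≠ 0 := by
        intro h
        apply he1
        have := congrArg (fun w => ((g⁻¹ : GL (Fin 2) (ZMod p)) : Matrix (Fin 2) (Fin 2) (ZMod p)).mulVec w) h
        simpa only [Matrix.mulVec_mulVec, ← Units.val_mul, inv_mul_cancel, Units.val_one, Matrix.one_mulVec,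
          Matrix.mulVec_zero] using this
      obtain ⟨c1, hc1, hc1e⟩ := htrans e1 _ he1 hg1
      set h := c1⁻¹ * g with hh
      have hhe : (h : Matrix (Fin 2) (Fin 2) (ZMod p)).mulVec e1 = e1 := by
        rw [hh, Units.val_mul, ← Matrix.mulVec_mulVec, ← hc1e, Matrix.mulVec_mulVec, ← Units.val_mul,
          inv_mul_cancel, Units.val_one, Matrix.one_mulVec]
      have hd0 : (h : Matrix (Fin 2) (Fin 2) (ZMod p)).det ≠ 0 :=
        ((Matrix.isUnit_iff_isUnit_det _).1 h.isUnit).ne_zero
      obtain ⟨c2, hc2, hc2d⟩ := hdetC _ hd0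
      have hlow : ∀ a : ZMod p, ∃ g ∈ H, ((g : GL (Fin 2) (ZMod p)) : Matrix (Fin 2) (Fin 2) (ZMod p)) = !![1, 0; a, 1] := by
        intro a
        obtain ⟨m, hmC, hm⟩ := htrans e1 ![0, 1] he1 (fun h => one_ne_zero (α := ZMod p) (congrFun h 1))
        have hm' : (m : Matrix (Fin 2) (Fin 2) (ZMod p)) = !![0, (m : Matrix (Fin 2) (Fin 2) (ZMod p)) 0 1; 1, (m : Matrix (Fin 2) (Fin 2) (ZMod p)) 1 1] := by
          have h0 := congrFun hm 0
          have h1 := congrFun hm 1
          simp [e1, Matrix.mulVec, dotProduct, Fin.sum_univ_two] at h0 h1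
          ext i j
          fin_cases i <;> fin_cases j <;> simp [h0, h1]
        obtain ⟨T, hTH, hT⟩ := htransv (a * (m : Matrix (Fin 2) (Fin 2) (ZMod p)) 0 1)
        refine ⟨m * T * m⁻¹, H.mul_mem (H.mul_mem (hCH hmC) hTH) (H.inv_mem (hCH hmC)), ?_⟩
        have key : (m : Matrix (Fin 2) (Fin 2) (ZMod p)) * (T : Matrix (Fin 2) (Fin 2) (ZMod p)) = !![1, 0; a, 1] * (m : Matrix (Fin 2) (Fin 2) (ZMod p)) := by
          rw [hT, hm', Matrix.mul_fin_two, Matrix.mul_fin_two]
          simp
        rw [Units.val_mul, Units.val_mul, key, Units.mul_inv_cancel_right]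
      have hmove : ∀ v : Fin 2 → ZMod p, v ≠ 0 →
          ∃ g ∈ H, ((g : GL (Fin 2) (ZMod p)) : Matrix (Fin 2) (Fin 2) (ZMod p)).det = 1 ∧ (g : Matrix (Fin 2) (Fin 2) (ZMod p)).mulVec v = e1 := by
        have step : ∀ v : Fin 2 → ZMod p, v 1 ≠ 0 →
            ∃ g ∈ H, ((g : GL (Fin 2) (ZMod p)) : Matrix (Fin 2) (Fin 2) (ZMod p)).det = 1 ∧ (g : Matrix (Fin 2) (Fin 2) (ZMod p)).mulVec v = e1 := by
          intro v hv1
          obtain ⟨U, hU, hUe⟩ := htransv ((1 - v 0) / v 1)
          obtain ⟨L, hL, hLe⟩ := hlow (-(v 1))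
          refine ⟨L * U, H.mul_mem hL hU, ?_, ?_⟩
          · rw [Units.val_mul, Matrix.det_mul, hUe, hLe, Matrix.det_fin_two_of, Matrix.det_fin_two_of]; ring
          · rw [Units.val_mul, hUe, hLe, ← Matrix.mulVec_mulVec]
            ext i
            fin_cases i <;> simp [e1, Matrix.mulVec, dotProduct, Fin.sum_univ_two, div_mul_cancel₀ _ hv1]
        intro v hv
        by_cases hv1 : v 1 = 0
        · have hv0 : v 0 ≠ 0 := fun h => hv (by ext i; fin_cases i <;> simp [h, hv1])
          obtain ⟨L, hL, hLe⟩ := hlow 1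
          obtain ⟨g, hg, hgd, hge⟩ := step ((L : Matrix (Fin 2) (Fin 2) (ZMod p)).mulVec v) (by
            simp [hLe, Matrix.mulVec, dotProduct, Fin.sum_univ_two, hv1, hv0])
          refine ⟨g * L, H.mul_mem hg hL, ?_, ?_⟩
          · simp [Matrix.det_mul, hgd, hLe, Matrix.det_fin_two_of]
          · rw [Units.val_mul, ← Matrix.mulVec_mulVec, hge]
        · exact step v hv1
      obtain ⟨w0, hw0, hw0d, hw0e⟩ := hmove ((c2 : Matrix (Fin 2) (Fin 2) (ZMod p)).mulVec e1) (by
        intro h'
        apply he1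
        have := congrArg (fun w => ((c2⁻¹ : GL (Fin 2) (ZMod p)) : Matrix (Fin 2) (Fin 2) (ZMod p)).mulVec w) h'
        simpa only [Matrix.mulVec_mulVec, ← Units.val_mul, inv_mul_cancel, Units.val_one, Matrix.one_mulVec,
          Matrix.mulVec_zero] using this)
      obtain ⟨s, hs⟩ : ∃ s ∈ H, ((s : GL (Fin 2) (ZMod p)) : Matrix (Fin 2) (Fin 2) (ZMod p)) = (h : Matrix (Fin 2) (Fin 2) (ZMod p)) := by
        obtain ⟨q, hq, hqe, hqd⟩ : ∃ q ∈ H, ((q : GL (Fin 2) (ZMod p)) : Matrix (Fin 2) (Fin 2) (ZMod p)).mulVec e1 = e1 ∧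
            (q : Matrix (Fin 2) (Fin 2) (ZMod p)).det = (h : Matrix (Fin 2) (Fin 2) (ZMod p)).det := by
          refine ⟨w0 * c2, H.mul_mem hw0 (hCH hc2), ?_, ?_⟩
          · rw [Units.val_mul, ← Matrix.mulVec_mulVec, hw0e]
          · rw [Units.val_mul, Matrix.det_mul, hw0d, one_mul, hc2d]
        have hqs := hcol _ hqe
        have hhs := hcol _ hhe
        rw [hqs, hhs, Matrix.det_fin_two_of, Matrix.det_fin_two_of] at hqd
        have hdd : (q : Matrix (Fin 2) (Fin 2) (ZMod p)) 1 1 = (h : Matrix (Fin 2) (Fin 2) (ZMod p)) 1 1 := by simpa using hqd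
        obtain ⟨w, hw, hwe⟩ := htransv ((h : Matrix (Fin 2) (Fin 2) (ZMod p)) 0 1 - (q : Matrix (Fin 2) (Fin 2) (ZMod p)) 0 1)
        refine ⟨q * w, H.mul_mem hq hw, ?_⟩
        rw [Units.val_mul, hwe]
        conv_lhs => rw [hqs]
        conv_rhs => rw [hhs]
        rw [Matrix.mul_fin_two, hdd]
        simp
      have : g = c1 * s := by
        rw [Units.ext hs.2, hh, mul_inv_cancel_left]
      rw [this]
      exact H.mul_mem (hCH hc1) hs.1

end Groth.Agent.S15361
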