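import Groth.Statements.S15391
import Mathlib

set_option autoImplicit false
universe u
open TensorProduct
open TorFree

namespace Groth.Agent.S15391

/-- Let R be a reduced Noetherian commutative ring, M a finitely generated torsion-free R-module (no
non-zero element of M is annihilated by a non-zero-divisor of R), and t an element of M whose image
1 ⊗ t in the fibre κ(p) ⊗_R M vanishes for every prime ideal p of R, κ(p) being the residue field at
p. Then t = 0. This is the affine form of the claim that a global section of a coherent torsion-free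
module on a reduced Noetherian scheme which vanishes in every fibre is zero. -/
theorem result (R : Type u) [CommRing R] [IsReduced R] [IsNoetherianRing R]
    (M : Type u) [AddCommGroup M] [Module R M] [Module.Finite R M] [Module.IsTorsionFree R M]
    (t : M) (ht : ∀ p : PrimeSpectrum R, (1 : p.asIdeal.ResidueField) ⊗ₜ[R] t = (0 : p.asIdeal.ResidueField ⊗[R] M)) :
    t = 0 := by
  classical
  let N : Ideal R := LinearMap.ker (LinearMap.toSpanSingleton R M t)
  have hN : ∀ p ∈ minimalPrimes R, ¬ N ≤ p := fun p hp hle => by
    haveI : p.IsPrime := hp.1.1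
    haveI hfield : IsField (Localization.AtPrime p) := by
      rw [IsLocalRing.isField_iff_maximalIdeal_eq, eq_bot_iff]
      intro y hy
      have hs := IsLocalization.subsingleton_primeSpectrum_of_mem_minimalPrimes p hp (Localization.AtPrime p)
      have : y ∈ nilradical (Localization.AtPrime p) := by
        rw [nilradical_eq_sInf, Submodule.mem_sInf]
        intro P hP
        have := congrArg PrimeSpectrum.asIdeal (Subsingleton.elim (⟨P, hP⟩ : PrimeSpectrum (Localization.AtPrime p)) ⟨_, (IsLocalRing.maximalIdeal.isMaximal _).isPrime⟩)
        rw [show P = IsLocalRing.maximalIdeal (Localization.AtPrime p) from this]; exact hy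
      exact Ideal.mem_bot.2 (mem_nilradical.1 this).eq_zero
    have hbij : Function.Bijective (Algebra.linearMap (Localization.AtPrime p) p.ResidueField) :=
      ⟨by letI := hfield.toField; exact (algebraMap (Localization.AtPrime p) p.ResidueField).injective, IsLocalRing.residue_surjective⟩
    let g : Localization.AtPrime p ⊗[R] M →ₗ[R] p.ResidueField ⊗[R] M :=
      LinearMap.rTensor M ((Algebra.linearMap (Localization.AtPrime p) p.ResidueField).restrictScalars R)
    have hg : Function.Injective g := by
      exact (LinearEquiv.rTensor M ((LinearEquiv.ofBijective _ hbij).restrictScalars R)).injective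
    have h0 : (1 : Localization.AtPrime p) ⊗ₜ[R] t = 0 := hg (by
      rw [map_zero]; show LinearMap.rTensor M _ _ = 0
      rw [LinearMap.rTensor_tmul]; simp only [LinearMap.coe_restrictScalars, Algebra.linearMap_apply, map_one]
      exact ht ⟨p, ‹_›⟩)
    obtain ⟨s, hs⟩ := (IsLocalizedModule.eq_zero_iff p.primeCompl (TensorProduct.mk R (Localization.AtPrime p) M 1)).1 h0
    exact s.2 (hle hs)
  have hfin := minimalPrimes.finite_of_isNoetherianRing R
  have hnot : ¬ (N : Set R) ⊆ ⋃ p ∈ (↑hfin.toFinset : Set (Ideal R)), (p : Set R) := by
    intro hsub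
    obtain ⟨p, hp, hle⟩ := (Ideal.subset_union_prime ⊥ ⊥ (fun i hi _ _ => (hfin.mem_toFinset.1 hi).1.1)).1 hsub
    exact hN p (hfin.mem_toFinset.1 hp) hle
  obtain ⟨r, hr, hr'⟩ := Set.not_subset.1 hnot
  have hreg : IsRegular r := by
    refine (Commute.isRegular_iff (Commute.all r)).2 (isLeftRegular_iff_right_eq_zero_of_mul.2 fun y hy => ?_)
    have : y ∈ nilradical R := by
      rw [nilradical_eq_sInf, Submodule.mem_sInf]
      intro q (hq : Ideal.IsPrime q)
      haveI := hq
      obtain ⟨p, hp, hpq⟩ := Ideal.exists_minimalPrimes_le (show (⊥ : Ideal R) ≤ q from bot_le)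
      exact hpq ((hp.1.1.mem_or_mem (by rw [hy]; exact p.zero_mem)).resolve_left fun hrp =>
        hr' (Set.mem_biUnion (hfin.mem_toFinset.2 hp) hrp))
    rwa [nilradical_eq_zero, Ideal.zero_eq_bot, Ideal.mem_bot] at this
  exact Module.IsTorsionFree.isSMulRegular hreg (show r • t = r • 0 by rw [smul_zero]; exact hr)

end Groth.Agent.S15391
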