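import Groth.Statements.S15420
import Groth.Agent.Lib.GrStarQuasi
import Groth.Agent.Lib.GrSyzPoly

set_option autoImplicit false
universe u
open GrLC

namespace Groth.Agent.S15420

/-- Let k be a field, S = k[x_0, …, x_r] graded by degree, 𝔪 = (x_0, …, x_r), M a finitely generated
ℤ-graded S-module, x ∈ S_1 a linear form quasi-regular on M (the elements of M killed by x form a
submodule of finite length), and N = M/xM, given as a graded module with a surjective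
degree-preserving S-linear map π : M → N with kernel xM; graded local cohomology is computed from
*injective resolutions in the graded category. Call a module d-regular when H^0_𝔪 of it has no
nonzero piece in degrees above d and H^i_𝔪 of it vanishes in degree d − i + 1 for every i > 0. Then
M is d-regular if and only if N is d-regular and H^0_𝔪(M) has no nonzero piece in degrees above d. -/
theorem result (k : Type u) [Field k] (r : ℕ)
    (M : Type u) [AddCommGroup M] [Module k M] [Module (MvPolynomial (Fin (r + 1)) k) M]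
    [IsScalarTower k (MvPolynomial (Fin (r + 1)) k) M] [Module.Finite (MvPolynomial (Fin (r + 1)) k) M]
    (ℳ : ℤ → Submodule k M) [DirectSum.Decomposition ℳ] [SetLike.GradedSMul (GrSyz.stdGr k (Fin (r + 1))) ℳ]
    (x : MvPolynomial (Fin (r + 1)) k) (hx : x ∈ GrSyz.stdGr k (Fin (r + 1)) 1)
    (hq : IsFiniteLength (MvPolynomial (Fin (r + 1)) k) ↥(Submodule.torsionBy (MvPolynomial (Fin (r + 1)) k) M x))
    (N : Type u) [AddCommGroup N] [Module k N] [Module (MvPolynomial (Fin (r + 1)) k) N]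
    [IsScalarTower k (MvPolynomial (Fin (r + 1)) k) N] [Module.Finite (MvPolynomial (Fin (r + 1)) k) N]
    (𝒩 : ℤ → Submodule k N) [DirectSum.Decomposition 𝒩] [SetLike.GradedSMul (GrSyz.stdGr k (Fin (r + 1))) 𝒩]
    (π : M →ₗ[MvPolynomial (Fin (r + 1)) k] N) (hπ : Function.Surjective π) (hπg : GrLC.IsGrHom ℳ 𝒩 π)
    (hker : LinearMap.ker π = LinearMap.range (x • (LinearMap.id : M →ₗ[MvPolynomial (Fin (r + 1)) k] M)))
    (E : GrLC.StarInjRes (GrSyz.stdGr k (Fin (r + 1))) ℳ) (E' : GrLC.StarInjRes (GrSyz.stdGr k (Fin (r + 1))) 𝒩) (d : ℤ) :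
    (GrLC.endDeg (E.Hgr (GrSyz.irrel (GrSyz.stdGr k (Fin (r + 1)))) 0) ≤ ((d : WithTop ℤ) : WithBot (WithTop ℤ)) ∧ ∀ i : ℕ, 0 < i → E.Hcomp (GrSyz.irrel (GrSyz.stdGr k (Fin (r + 1)))) i (d - (i : ℤ) + 1) = ⊥) ↔
      ((GrLC.endDeg (E'.Hgr (GrSyz.irrel (GrSyz.stdGr k (Fin (r + 1)))) 0) ≤ ((d : WithTop ℤ) : WithBot (WithTop ℤ)) ∧ ∀ i : ℕ, 0 < i → E'.Hcomp (GrSyz.irrel (GrSyz.stdGr k (Fin (r + 1)))) i (d - (i : ℤ) + 1) = ⊥) ∧
        GrLC.endDeg (E.Hgr (GrSyz.irrel (GrSyz.stdGr k (Fin (r + 1)))) 0) ≤ ((d : WithTop ℤ) : WithBot (WithTop ℤ))) := by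
  have hgen := Groth.Agent.GrSyzPoly.irrel_eq k (r + 1)
  have hneg := (Groth.Agent.GrSyzBasic.std_stdGr k (Fin (r + 1))).neg
  have hK := fun z hz => Groth.Agent.GrStarQuasi.ker_smul_torsion
    (X := Groth.Agent.GrStarHull.bundle (GrSyz.stdGr k (Fin (r + 1))) ℳ) hneg hgen hx hq (z := z) hz
  have hex : ∀ m, π m = 0 ↔ ∃ w, x • w = m := fun m => by
    rw [← LinearMap.mem_ker, hker]
    exact ⟨fun ⟨w, hw⟩ => ⟨w, hw⟩, fun ⟨w, hw⟩ => ⟨w, hw⟩⟩
  have hxa := hgen.ge (Ideal.subset_span hx)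
  have key : ∀ {P : Type u} [AddCommGroup P] [Module k P] [Module (MvPolynomial (Fin (r + 1)) k) P]
      {𝒫' : ℤ → Submodule k P} [DirectSum.Decomposition 𝒫'] [SetLike.GradedSMul (GrSyz.stdGr k (Fin (r + 1))) 𝒫']
      (I : GrLC.StarInjRes (GrSyz.stdGr k (Fin (r + 1))) 𝒫'),
      (GrLC.endDeg (I.Hgr (GrSyz.irrel (GrSyz.stdGr k (Fin (r + 1)))) 0) ≤ ((d : WithTop ℤ) : WithBot (WithTop ℤ)) ∧
        ∀ i : ℕ, 0 < i → I.Hcomp (GrSyz.irrel (GrSyz.stdGr k (Fin (r + 1)))) i (d - (i : ℤ) + 1) = ⊥) ↔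
      Groth.Agent.GrStarRegLE.RegLE (GrSyz.irrel (GrSyz.stdGr k (Fin (r + 1))))
        (Groth.Agent.GrStarHull.bundle (GrSyz.stdGr k (Fin (r + 1))) 𝒫') d := by
    intro P _ _ _ 𝒫' _ _ I
    rw [Groth.Agent.GrStarRegLE.regLE_iff_diagonal hgen, Groth.Agent.GrStarRegLE.endDeg_le_iff]
    refine and_congr (forall₂_congr fun g _ => (Groth.Agent.GrStarVan.van_iff' I).symm) ⟨fun h i => ?_, fun h i hi => ?_⟩
    · have := (Groth.Agent.GrStarRegLE.hcomp_iff I _ _ _).mp (h (i + 1) (by omega))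
      rwa [show d - ((i + 1 : ℕ) : ℤ) + 1 = d - i by omega] at this
    · obtain ⟨i, rfl⟩ : ∃ j, i = j + 1 := ⟨i - 1, by omega⟩
      rw [show d - ((i + 1 : ℕ) : ℤ) + 1 = d - i by omega]
      exact (Groth.Agent.GrStarRegLE.hcomp_iff I _ _ _).mpr (h i)
  rw [key E, key E']
  constructor
  · intro h
    exact ⟨Groth.Agent.GrStarQuasi.regLE_quot
      (X := Groth.Agent.GrStarHull.bundle (GrSyz.stdGr k (Fin (r + 1))) ℳ)
      (Y := Groth.Agent.GrStarHull.bundle (GrSyz.stdGr k (Fin (r + 1))) 𝒩) hx (π := π) hπg hπ hex hK h,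
      Groth.Agent.GrStarRegLE.endDeg_le_iff.mpr fun g hg => (Groth.Agent.GrStarVan.van_iff' E).mp (h 0 g (by omega))⟩
  · rintro ⟨h, h0⟩
    exact Groth.Agent.GrStarQuasi.regLE_of_quot
      (X := Groth.Agent.GrStarHull.bundle (GrSyz.stdGr k (Fin (r + 1))) ℳ)
      (Y := Groth.Agent.GrStarHull.bundle (GrSyz.stdGr k (Fin (r + 1))) 𝒩) hx (π := π) hπg hπ hex hK hxa h
      fun g hg => (Groth.Agent.GrStarVan.van_iff' E).mpr (Groth.Agent.GrStarRegLE.endDeg_le_iff.mp h0 g hg)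

end Groth.Agent.S15420
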