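import Groth.Statements.S15421
import Groth.Agent.Lib.GrStarQuasi
import Groth.Agent.Lib.GrSyzPoly

set_option autoImplicit false
universe u
open GrSyz

namespace Groth.Agent.S15421

/-- Let k be a field, S = k[x_0, …, x_r] graded by degree, 𝔪 = (x_0, …, x_r), M a finitely generated
ℤ-graded S-module, x ∈ S_1 a linear form quasi-regular on M (the elements of M killed by x form a
submodule of finite length) and N = M/xM, given as a graded module with a surjective
degree-preserving S-linear map π : M → N with kernel xM. Then reg M = max(end H^0_𝔪(M), reg N),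
where reg is the Castelnuovo–Mumford regularity in the sense of minimal graded free resolutions (as
an extended integer, −∞ for the zero module) and end H^0_𝔪(M) is the largest degree of a nonzero
piece of the graded local cohomology H^0_𝔪(M), computed from any *injective resolution of M in the
graded category. (The published statement takes x quasi-regular without repeating that it is a
linear form; a linear form is meant, as in the proposition it rests on.) -/
theorem result (k : Type u) [Field k] (r : ℕ)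
    (M : Type u) [AddCommGroup M] [Module k M] [Module (MvPolynomial (Fin (r + 1)) k) M]
    [IsScalarTower k (MvPolynomial (Fin (r + 1)) k) M] [Module.Finite (MvPolynomial (Fin (r + 1)) k) M]
    (ℳ : ℤ → Submodule k M) [DirectSum.Decomposition ℳ] [SetLike.GradedSMul (GrSyz.stdGr k (Fin (r + 1))) ℳ]
    (x : MvPolynomial (Fin (r + 1)) k) (hx : x ∈ GrSyz.stdGr k (Fin (r + 1)) 1)
    (hq : IsFiniteLength (MvPolynomial (Fin (r + 1)) k) ↥(Submodule.torsionBy (MvPolynomial (Fin (r + 1)) k) M x))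
    (N : Type u) [AddCommGroup N] [Module k N] [Module (MvPolynomial (Fin (r + 1)) k) N]
    [IsScalarTower k (MvPolynomial (Fin (r + 1)) k) N] [Module.Finite (MvPolynomial (Fin (r + 1)) k) N]
    (𝒩 : ℤ → Submodule k N) [DirectSum.Decomposition 𝒩] [SetLike.GradedSMul (GrSyz.stdGr k (Fin (r + 1))) 𝒩]
    (π : M →ₗ[MvPolynomial (Fin (r + 1)) k] N) (hπ : Function.Surjective π) (hπg : GrLC.IsGrHom ℳ 𝒩 π)
    (hker : LinearMap.ker π = LinearMap.range (x • (LinearMap.id : M →ₗ[MvPolynomial (Fin (r + 1)) k] M)))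
    (E : GrLC.StarInjRes (GrSyz.stdGr k (Fin (r + 1))) ℳ) :
    GrSyz.reg (GrSyz.stdGr k (Fin (r + 1))) ℳ (GrSyz.irrel (GrSyz.stdGr k (Fin (r + 1)))).toIdeal =
      GrLC.endDeg (E.Hgr (GrSyz.irrel (GrSyz.stdGr k (Fin (r + 1)))) 0) ⊔ GrSyz.reg (GrSyz.stdGr k (Fin (r + 1))) 𝒩 (GrSyz.irrel (GrSyz.stdGr k (Fin (r + 1)))).toIdeal := by
  have hgen := Groth.Agent.GrSyzPoly.irrel_eq k (r + 1)
  have hneg := (Groth.Agent.GrSyzBasic.std_stdGr k (Fin (r + 1))).neg
  have hK := fun z hz => Groth.Agent.GrStarQuasi.ker_smul_torsion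
    (X := Groth.Agent.GrStarHull.bundle (GrSyz.stdGr k (Fin (r + 1))) ℳ) hneg hgen hx hq (z := z) hz
  have hex : ∀ m, π m = 0 ↔ ∃ w, x • w = m := fun m => by
    rw [← LinearMap.mem_ker, hker]
    exact ⟨fun ⟨w, hw⟩ => ⟨w, hw⟩, fun ⟨w, hw⟩ => ⟨w, hw⟩⟩
  have hxa := hgen.ge (Ideal.subset_span hx)
  refine Groth.Agent.GrSyzPoly.reg_eq k (r + 1) _ fun s => ?_
  rw [sup_le_iff, Groth.Agent.GrSyzPoly.reg_le_iff k (r + 1), Groth.Agent.GrStarRegLE.endDeg_le_iff]
  constructor
  · rintro ⟨h0, h⟩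
    exact Groth.Agent.GrStarQuasi.regLE_of_quot
      (X := Groth.Agent.GrStarHull.bundle (GrSyz.stdGr k (Fin (r + 1))) ℳ)
      (Y := Groth.Agent.GrStarHull.bundle (GrSyz.stdGr k (Fin (r + 1))) 𝒩) hx (π := π) hπg hπ hex hK hxa h
      fun g hg => (Groth.Agent.GrStarVan.van_iff' E).mpr (h0 g hg)
  · intro h
    exact ⟨fun g hg => (Groth.Agent.GrStarVan.van_iff' E).mp (h 0 g (by omega)),
      Groth.Agent.GrStarQuasi.regLE_quot
      (X := Groth.Agent.GrStarHull.bundle (GrSyz.stdGr k (Fin (r + 1))) ℳ)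
      (Y := Groth.Agent.GrStarHull.bundle (GrSyz.stdGr k (Fin (r + 1))) 𝒩) hx (π := π) hπg hπ hex hK h⟩

end Groth.Agent.S15421
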