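import Groth.Statements.S15422
import Groth.Agent.Lib.GrStarQuasi
import Groth.Agent.Lib.GrSyzPoly

set_option autoImplicit false
universe u
open GrSyz

namespace Groth.Agent.S15422

/-- Let k be a field, S = k[x_0, …, x_r] graded by degree, 𝔪 = (x_0, …, x_r) and M a finitely generated
ℤ-graded S-module of finite length. Then the Castelnuovo–Mumford regularity of M, in the sense of
minimal graded free resolutions (an extended integer, −∞ for the zero module), equals the largest
degree d with M_d ≠ 0. -/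
theorem result (k : Type u) [Field k] (r : ℕ)
    (M : Type u) [AddCommGroup M] [Module k M] [Module (MvPolynomial (Fin (r + 1)) k) M]
    [IsScalarTower k (MvPolynomial (Fin (r + 1)) k) M] [Module.Finite (MvPolynomial (Fin (r + 1)) k) M]
    (ℳ : ℤ → Submodule k M) [DirectSum.Decomposition ℳ] [SetLike.GradedSMul (GrSyz.stdGr k (Fin (r + 1))) ℳ]
    (hM : IsFiniteLength (MvPolynomial (Fin (r + 1)) k) M) :
    GrSyz.reg (GrSyz.stdGr k (Fin (r + 1))) ℳ (GrSyz.irrel (GrSyz.stdGr k (Fin (r + 1)))).toIdeal = GrLC.endDeg (fun n => (ℳ n).toAddSubgroup) := by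
  have hgen := Groth.Agent.GrSyzPoly.irrel_eq k (r + 1)
  have hneg := (Groth.Agent.GrSyzBasic.std_stdGr k (Fin (r + 1))).neg
  have ht := fun z => Groth.Agent.GrStarQuasi.torsion_of_fl
    (X := Groth.Agent.GrStarHull.bundle (GrSyz.stdGr k (Fin (r + 1))) ℳ) hneg hgen hM z
  refine Groth.Agent.GrSyzPoly.reg_eq k (r + 1) _ fun s => ?_
  rw [Groth.Agent.GrStarRegLE.endDeg_le_iff]
  constructor
  · intro h
    exact Groth.Agent.GrStarRegLE.regLE_of_torsion ht fun g hg y hy =>
      (AddSubgroup.eq_bot_iff_forall _).mp (h g hg) y hy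
  · intro h g hg
    exact (AddSubgroup.eq_bot_iff_forall _).mpr fun y hy =>
      Groth.Agent.GrStarRegLE.eq_zero_of_regLE ht h hg hy

end Groth.Agent.S15422
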