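import Groth.Statements.S15423
import Groth.Agent.Lib.GrSyzUnique
-- import your own Groth.Agent.* helpers here

set_option autoImplicit false
universe u
open GrSyz

namespace Groth.Agent.S15423

/-- Let k be a field, S = k[x_0, …, x_r] graded by degree, 𝔪 = (x_0, …, x_r), M a finitely generated
ℤ-graded S-module and F a minimal graded free resolution of M by finite-rank free modules with
homogeneous bases (all matrix entries in 𝔪). Then the Castelnuovo–Mumford regularity of M (an
extended integer) is the supremum over i ≥ 0 of t_i − i, where t_i is the largest degree of a basis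
vector of F_i, that is the largest nonzero degree of Tor_i^S(M, k) (−∞ when F_i = 0). In particular
the value does not depend on the minimal resolution chosen. -/
theorem result (k : Type u) [Field k] (r : ℕ)
    (M : Type u) [AddCommGroup M] [Module k M] [Module (MvPolynomial (Fin (r + 1)) k) M]
    [IsScalarTower k (MvPolynomial (Fin (r + 1)) k) M] [Module.Finite (MvPolynomial (Fin (r + 1)) k) M]
    (ℳ : ℤ → Submodule k M) [DirectSum.Decomposition ℳ] [SetLike.GradedSMul (GrSyz.stdGr k (Fin (r + 1))) ℳ]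
    (F : GrSyz.FreeRes (GrSyz.stdGr k (Fin (r + 1))) ℳ) (hF : F.IsMinimal (GrSyz.irrel (GrSyz.stdGr k (Fin (r + 1)))).toIdeal) :
    GrSyz.reg (GrSyz.stdGr k (Fin (r + 1))) ℳ (GrSyz.irrel (GrSyz.stdGr k (Fin (r + 1)))).toIdeal =
      ⨆ i : ℕ, WithBot.map (fun t : ℤ => ((t - (i : ℤ) : ℤ) : WithTop ℤ)) (F.maxGenDeg i) := by
  classical
  set G : ℕ → WithBot (WithTop ℤ) := fun i =>
    WithBot.map (fun t : ℤ => ((t - (i : ℤ) : ℤ) : WithTop ℤ)) (F.maxGenDeg i) with hG
  have hmono : ∀ i : ℕ, Monotone (WithBot.map (fun t : ℤ => ((t - (i : ℤ) : ℤ) : WithTop ℤ))) := fun i =>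
    Monotone.withBot_map fun a b hab => WithTop.coe_le_coe.mpr (by omega)
  have hle : ∀ (i : ℕ) (b : Fin (F.rk i)), ((((F.deg i b - i : ℤ) : WithTop ℤ)) : WithBot (WithTop ℤ)) ≤ ⨆ i, G i :=
    fun i b => le_trans (hmono i (Finset.le_sup (f := fun b : Fin (F.rk i) => (F.deg i b : WithBot ℤ))
      (Finset.mem_univ b))) (le_iSup G i)
  refine le_antisymm ?_ ?_
  · have hub : ∀ r' : ℤ, (⨆ i, G i) ≤ (((r' : ℤ) : WithTop ℤ) : WithBot (WithTop ℤ)) →
        GrSyz.IsRegLE (GrSyz.stdGr k (Fin (r + 1))) ℳ (GrSyz.irrel (GrSyz.stdGr k (Fin (r + 1)))).toIdeal r' := by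
      refine fun r' hr => ⟨F, hF, fun i b => ?_⟩
      have := WithTop.coe_le_coe.mp (WithBot.coe_le_coe.mp ((hle i b).trans hr))
      omega
    show GrSyz.reg _ ℳ _ ≤ ⨆ i, G i
    unfold GrSyz.reg
    generalize hS : (⨆ i, G i) = x at hub ⊢
    induction x with
    | bot =>
      refine (WithBot.le_bot_iff.mpr ?_)
      have hall : ∀ r' : ℤ, (⨅ (s : ℤ) (_ : GrSyz.IsRegLE (GrSyz.stdGr k (Fin (r + 1))) ℳ (GrSyz.irrel (GrSyz.stdGr k (Fin (r + 1)))).toIdeal s), ((s : WithTop ℤ) : WithBot (WithTop ℤ))) ≤ ((r' : WithTop ℤ) : WithBot (WithTop ℤ)) :=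
        fun r' => iInf₂_le r' (hub r' bot_le)
      generalize (⨅ (s : ℤ) (_ : GrSyz.IsRegLE (GrSyz.stdGr k (Fin (r + 1))) ℳ (GrSyz.irrel (GrSyz.stdGr k (Fin (r + 1)))).toIdeal s), ((s : WithTop ℤ) : WithBot (WithTop ℤ))) = y at hall
      induction y with
      | bot => rfl
      | coe y =>
        induction y with
        | top => exact absurd (WithBot.coe_le_coe.mp (hall 0)) (not_le.mpr (WithTop.coe_lt_top 0))
        | coe w =>
          have := WithTop.coe_le_coe.mp (WithBot.coe_le_coe.mp (hall (w - 1)))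
          omega
    | coe y =>
      induction y with
      | top => exact le_top
      | coe z => exact iInf₂_le z (hub z le_rfl)
  · show (⨆ i, G i) ≤ _
    unfold GrSyz.reg
    refine le_iInf₂ fun r' hr => ?_
    obtain ⟨F', hm, hg⟩ := hr
    refine iSup_le fun i => ?_
    show WithBot.map _ (Finset.univ.sup _) ≤ _
    by_cases hrk : (Finset.univ : Finset (Fin (F.rk i))).Nonempty
    · obtain ⟨b, -, hb⟩ := Finset.exists_mem_eq_sup _ hrk (fun b : Fin (F.rk i) => (F.deg i b : WithBot ℤ))
      rw [hb, WithBot.map_coe, WithBot.coe_le_coe, WithTop.coe_le_coe]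
      have e := Groth.Agent.GrSyzUnique.betti_eq F F' (Groth.Agent.GrSyzBasic.std_stdGr k (Fin (r + 1))) hF hm i (F.deg i b)
      obtain ⟨b', hb'⟩ : (Finset.univ.filter fun b' : Fin (F'.rk i) => F'.deg i b' = F.deg i b).Nonempty := by
        rw [← Finset.card_pos]
        exact lt_of_lt_of_eq (Finset.card_pos.mpr ⟨b, by simp⟩) e
      have := hg i b'
      rw [(Finset.mem_filter.mp hb').2] at this
      omega
    · rw [Finset.not_nonempty_iff_eq_empty.mp hrk, Finset.sup_empty, WithBot.map_bot]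
      exact bot_le

end Groth.Agent.S15423
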