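import Groth.Statements.S15432
import Groth.Agent.Lib.GrSyzPoints

set_option autoImplicit false
universe u
open GrSyz

namespace Groth.Agent.S15432

/-- Let k be a field, Z a nonempty finite set of nonzero vectors of k^3, regarded as points of the
projective plane, I ⊆ S = k[x_0, x_1, x_2] the homogeneous vanishing ideal of Z (a polynomial lies
in I exactly when each of its homogeneous components vanishes at every vector of Z), M = S/I given
as a ℤ-graded S-module with a surjective degree-preserving S-linear map π : S → M with kernel I, and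
F a minimal graded free resolution of M of length at most 2 whose terms F_1 and F_2 have ranks t + 1
and t, with basis degrees a_1 ≥ … ≥ a_{t+1} for F_1 and b_1 ≥ … ≥ b_t for F_2 (non-increasing along
the chosen bases), so that the (i, j) entry of the matrix F_2 → F_1 has degree b_j − a_i. Put e_i =
b_i − a_i and f_i = b_i − a_{i+1}. Then e_i ≥ 1 and f_i ≥ 1 for every i, and Σ_i a_i = Σ_j b_j
(equivalently a_i = Σ_{j < i} e_j + Σ_{j ≥ i} f_j for every i). (The ordering of both bases is the
standing assumption under which the published statement is made; this row carries it as the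
hypotheses on the basis degrees. The further inequalities f_i ≥ e_i and f_i ≥ e_{i+1} follow at once
from the ordering and are not restated.) -/
theorem result (k : Type u) [Field k]
    (Z : Finset (Fin 3 → k)) (hZ : ∀ p ∈ Z, p ≠ 0) (hZne : Z.Nonempty) (I : Ideal (MvPolynomial (Fin 3) k))
    (hI : ∀ f : MvPolynomial (Fin 3) k, f ∈ I ↔
      ∀ p ∈ Z, ∀ j : ℕ, MvPolynomial.eval p (MvPolynomial.homogeneousComponent j f) = 0)
    (M : Type u) [AddCommGroup M] [Module k M] [Module (MvPolynomial (Fin 3) k) M] [IsScalarTower k (MvPolynomial (Fin 3) k) M]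
    (ℳ : ℤ → Submodule k M) [DirectSum.Decomposition ℳ] [SetLike.GradedSMul (GrSyz.stdGr k (Fin 3)) ℳ]
    (π : MvPolynomial (Fin 3) k →ₗ[MvPolynomial (Fin 3) k] M) (hπ : Function.Surjective π)
    (hπg : GrLC.IsGrHom (GrSyz.stdGr k (Fin 3)) ℳ π) (hker : LinearMap.ker π = I)
    (F : GrSyz.FreeRes (GrSyz.stdGr k (Fin 3)) ℳ) (hF : F.IsMinimal (GrSyz.irrel (GrSyz.stdGr k (Fin 3))).toIdeal) (hlen : F.HasLengthLE 2)
    (t : ℕ) (h1 : F.rk 1 = t + 1) (h2 : F.rk 2 = t)
    (ha : ∀ i j : Fin (t + 1), i ≤ j → F.deg 1 (Fin.cast h1.symm j) ≤ F.deg 1 (Fin.cast h1.symm i))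
    (hb : ∀ i j : Fin t, i ≤ j → F.deg 2 (Fin.cast h2.symm j) ≤ F.deg 2 (Fin.cast h2.symm i)) :
    (∀ i : Fin t, 1 ≤ F.deg 2 (Fin.cast h2.symm i) - F.deg 1 (Fin.cast h1.symm i.castSucc) ∧
        1 ≤ F.deg 2 (Fin.cast h2.symm i) - F.deg 1 (Fin.cast h1.symm i.succ)) ∧
      ∑ i : Fin (t + 1), F.deg 1 (Fin.cast h1.symm i) = ∑ j : Fin t, F.deg 2 (Fin.cast h2.symm j) := by
  classical
  have hstd := Groth.Agent.GrSyzBasic.std_stdGr k (Fin 3)
  have h3 : F.rk 3 = 0 := hlen 3 (by omega)
  have hcard : ∀ (m c : ℕ), ((Finset.univ : Finset (Fin m)).filter fun a => c ≤ a.val).card = m - c := by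
    intro m c
    rw [← Finset.card_map Fin.valEmbedding, ← Nat.card_Ico]
    refine congrArg Finset.card (Finset.ext fun x => ?_)
    simp only [Finset.mem_map, Finset.mem_filter, Finset.mem_univ, true_and, Fin.valEmbedding_apply, Finset.mem_Ico]
    exact ⟨by rintro ⟨a, ha, rfl⟩; exact ⟨ha, a.2⟩, fun h => ⟨⟨x, h.2⟩, h.1, rfl⟩⟩
  have hcast2 : ∀ (j : Fin (F.rk 2)) (i : Fin t), i.val ≤ j.val → F.deg 2 j ≤ F.deg 2 (Fin.cast h2.symm i) :=
    fun j i hij => hb i (Fin.cast h2 j) hij
  have hcast1 : ∀ (a : Fin (F.rk 1)) (i : Fin (t + 1)), a.val ≤ i.val → F.deg 1 (Fin.cast h1.symm i) ≤ F.deg 1 a :=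
    fun a i hai => ha (Fin.cast h1 a) i hai
  refine ⟨fun i => ⟨?_, ?_⟩, ?_⟩
  · by_contra hc
    have hblock := Groth.Agent.GrSyzPoints.block F hstd hF h3
      (Finset.univ.filter fun a => i.val + 1 ≤ a.val) (Finset.univ.filter fun j => i.val ≤ j.val) ?_
    · rw [hcard, hcard, h1, h2] at hblock
      have hR := congrArg Finset.card (hblock.2 (by omega))
      rw [hcard, Finset.card_empty] at hR
      have := i.2
      omega
    · intro a haR j hjC
      simp only [Finset.mem_filter, Finset.mem_univ, true_and, not_le] at haR hjC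
      refine Groth.Agent.GrSyzPoints.entry_zero F hstd hF ?_
      have hj' := hcast2 j i hjC
      have ha' := hcast1 a i.castSucc (by simp only [Fin.val_castSucc]; omega)
      show F.deg 2 j ≤ F.deg 1 a
      omega
  · by_contra hc
    have hblock := Groth.Agent.GrSyzPoints.block F hstd hF h3
      (Finset.univ.filter fun a => i.val + 2 ≤ a.val) (Finset.univ.filter fun j => i.val ≤ j.val) ?_
    · rw [hcard, hcard, h1, h2] at hblock
      have := hblock.1
      have := i.2
      omega
    · intro a haR j hjC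
      simp only [Finset.mem_filter, Finset.mem_univ, true_and, not_le] at haR hjC
      refine Groth.Agent.GrSyzPoints.entry_zero F hstd hF ?_
      have hj' := hcast2 j i hjC
      have ha' := hcast1 a i.succ (by simp only [Fin.val_succ]; omega)
      show F.deg 2 j ≤ F.deg 1 a
      omega
  · obtain ⟨hA, hD⟩ := Groth.Agent.GrSyzPoints.sum_deg_eq F hlen
      (Groth.Agent.GrSyzPoints.finrank_le Z I hI hπ hπg hker)
    rw [h1, h2] at hA
    have h0 : F.rk 0 = 1 := by push_cast at hA; omega
    rw [Finset.sum_eq_zero fun b _ => Groth.Agent.GrSyzPoints.deg_zero_eq Z I hI hπ hπg hker hZne F b h0,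
      ← Equiv.sum_comp (finCongr h1.symm) (F.deg 1), ← Equiv.sum_comp (finCongr h2.symm) (F.deg 2)] at hD
    simp only [finCongr_apply] at hD
    omega

end Groth.Agent.S15432
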