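import Groth.Statements.S15433
import Groth.Agent.Lib.GrSyzPoly
import Groth.Agent.Lib.GrStarSeq
import Mathlib

set_option autoImplicit false
universe u
open GrSyz
open Groth.Agent.GrStarBasic Groth.Agent.GrStarHull Groth.Agent.GrStarRegLE

namespace Groth.Agent.S15433

section aux
variable {k : Type u} [Field k] {n : ℕ}

theorem eq_C_of_mem_zero {p : MvPolynomial (Fin n) k} (hp : p ∈ GrSyz.stdGr k (Fin n) 0) : p = MvPolynomial.C (MvPolynomial.coeff 0 p) := by
  classical
  ext d
  rw [MvPolynomial.coeff_C]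
  by_cases hd : 0 = d
  · rw [if_pos hd, hd]
  · rw [if_neg hd]
    by_contra hne
    rw [GrSyz.mem_stdGr_iff] at hp
    have h := hp hne
    rw [Finsupp.weight_apply, Finsupp.sum, Finset.sum_eq_zero_iff_of_nonneg (fun i _ => by simp)] at h
    exact hd (Finsupp.ext fun i => by
      by_cases hi : i ∈ d.support
      · have := h i hi; simp at this; simp [this]
      · simp [Finsupp.notMem_support_iff.mp hi]).symm

variable {N : Type u} [AddCommGroup N] [Module k N] [Module (MvPolynomial (Fin n) k) N]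
  [IsScalarTower k (MvPolynomial (Fin n) k) N]
  (𝒩 : ℤ → Submodule k N) [DirectSum.Decomposition 𝒩] [SetLike.GradedSMul (GrSyz.stdGr k (Fin n)) 𝒩]

open Groth.Agent.GrStarBasic

/-- pieces above `j`, the piece `j` restricted to `W` -/
def flt (j : ℤ) (W : Submodule k N) : Submodule (MvPolynomial (Fin n) k) N where
  carrier := {x | (∀ i < j, pr 𝒩 i x = 0) ∧ pr 𝒩 j x ∈ W}
  add_mem' hx hy := ⟨fun i hi => by rw [map_add, hx.1 i hi, hy.1 i hi, add_zero], by rw [map_add]; exact add_mem hx.2 hy.2⟩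
  zero_mem' := ⟨fun i _ => map_zero _, by rw [map_zero]; exact zero_mem _⟩
  smul_mem' := by
    classical
    intro r x hx
    rw [← DirectSum.sum_support_decompose (GrSyz.stdGr k (Fin n)) r, Finset.sum_smul]
    refine ⟨fun i hi => ?_, ?_⟩
    · rw [map_sum]
      refine Finset.sum_eq_zero fun e _ => ?_
      rw [pr_smul_left (GrSyz.stdGr k (Fin n)) 𝒩 (DirectSum.decompose (GrSyz.stdGr k (Fin n)) r e).2]
      rcases lt_or_ge e 0 with he | he
      · rw [(Groth.Agent.GrSyzBasic.std_stdGr k (Fin n)).neg e he _ (DirectSum.decompose (GrSyz.stdGr k (Fin n)) r e).2, zero_smul]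
      · rw [hx.1 (i - e) (by omega), smul_zero]
    · rw [map_sum]
      refine Submodule.sum_mem _ fun e _ => ?_
      rw [pr_smul_left (GrSyz.stdGr k (Fin n)) 𝒩 (DirectSum.decompose (GrSyz.stdGr k (Fin n)) r e).2]
      rcases lt_trichotomy e 0 with he | he | he
      · rw [(Groth.Agent.GrSyzBasic.std_stdGr k (Fin n)).neg e he _ (DirectSum.decompose (GrSyz.stdGr k (Fin n)) r e).2, zero_smul]
        exact zero_mem _
      · subst he
        rw [eq_C_of_mem_zero (DirectSum.decompose (GrSyz.stdGr k (Fin n)) r 0).2, sub_zero, ← MvPolynomial.algebraMap_eq, algebraMap_smul]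
        exact W.smul_mem _ hx.2
      · rw [hx.1 (j - e) (by omega), smul_zero]; exact zero_mem _

theorem flt_succ_le (j : ℤ) : flt (n := n) 𝒩 (j + 1) ⊤ ≤ flt (n := n) 𝒩 j ⊥ := fun x hx =>
  ⟨fun i hi => hx.1 i (by omega), (Submodule.mem_bot k).mpr (hx.1 j (by omega))⟩

theorem length_flt (j : ℤ) (hfin : Module.length (MvPolynomial (Fin n) k) N ≠ ⊤) :
    ∀ (d : ℕ) (W : Submodule k N), W ≤ 𝒩 j → d ≤ Module.finrank k W →
      Module.length (MvPolynomial (Fin n) k) (flt (n := n) 𝒩 j ⊥) + d ≤ Module.length (MvPolynomial (Fin n) k) (flt (n := n) 𝒩 j W) := by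
  have hfl : IsFiniteLength (MvPolynomial (Fin n) k) N := Module.length_ne_top_iff.mp hfin
  haveI := (isFiniteLength_iff_isNoetherian_isArtinian.mp hfl).1
  haveI := (isFiniteLength_iff_isNoetherian_isArtinian.mp hfl).2
  intro d
  induction d with
  | zero =>
    intro W _ _
    rw [Nat.cast_zero, add_zero]
    exact Module.length_le_of_injective (Submodule.inclusion (fun x hx => ⟨hx.1, (Submodule.mem_bot k).mp hx.2 ▸ zero_mem W⟩))
      (Submodule.inclusion_injective _)
  | succ d ih =>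
    intro W hW hd
    obtain ⟨v, hv, hv0⟩ : ∃ v ∈ W, v ≠ 0 := W.exists_mem_ne_zero_of_ne_bot fun h => by
      rw [h, finrank_bot] at hd; omega
    -- a hyperplane of W
    haveI : FiniteDimensional k W := Module.finite_of_finrank_pos (by omega)
    obtain ⟨U, hU⟩ := Submodule.exists_isCompl (Submodule.span k {(⟨v, hv⟩ : W)})
    have hdim := Submodule.finrank_add_eq_of_isCompl hU
    rw [finrank_span_singleton (fun h => hv0 (congrArg Subtype.val h))] at hdim
    let W' : Submodule k N := U.map W.subtype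
    have hW'W : W' ≤ W := Submodule.map_subtype_le W U
    have hW' : Module.finrank k W' = Module.finrank k U :=
      (Submodule.equivMapOfInjective W.subtype W.injective_subtype U).finrank_eq.symm
    have h1 := ih W' (hW'W.trans hW) (by omega)
    have hlt : flt (n := n) 𝒩 j W' < flt (n := n) 𝒩 j W := by
      refine lt_of_le_of_ne (fun x hx => ⟨hx.1, hW'W hx.2⟩) fun he => ?_
      have hvm : v ∈ flt (n := n) 𝒩 j W := ⟨fun i hi => pr_ne 𝒩 (hW hv) (by omega), by rw [pr_same 𝒩 (hW hv)]; exact hv⟩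
      rw [← he] at hvm
      have := hvm.2
      rw [pr_same 𝒩 (hW hv)] at this
      obtain ⟨⟨w, hw⟩, hwU, hwe⟩ := this
      obtain rfl : w = v := hwe
      have : (⟨w, hv⟩ : W) ∈ Submodule.span k {(⟨w, hv⟩ : W)} ⊓ U := ⟨Submodule.mem_span_singleton_self _, hwU⟩
      rw [hU.inf_eq_bot, Submodule.mem_bot] at this
      exact hv0 (congrArg Subtype.val this)
    have h2 : Module.length (MvPolynomial (Fin n) k) (flt (n := n) 𝒩 j W') + 1 ≤ Module.length (MvPolynomial (Fin n) k) (flt (n := n) 𝒩 j W) :=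
      Order.add_one_le_of_lt (by rw [Module.length_submodule, Module.length_submodule]; exact Submodule.height_strictMono hlt)
    refine le_trans ?_ h2
    rw [Nat.cast_succ, ← add_assoc]
    exact add_le_add h1 le_rfl

end aux


/-- Let k be a field, S = k[x_0, …, x_r] graded by degree, 𝔪 = (x_0, …, x_r), and M = S/I a graded
quotient of S, given with a surjective degree-preserving S-linear map π : S → M whose kernel I
contains no nonzero linear form. Let y_0, …, y_t be linear forms forming a weakly regular sequence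
on M (each a non-zerodivisor modulo the previous ones) and N = M/(y_0, …, y_t)M, given as a graded
module with a surjective degree-preserving S-linear map σ : M → N with kernel (y_0, …, y_t)M, and
suppose N has finite length ℓ. Then reg M + (r − t) ≤ ℓ, reg being the Castelnuovo–Mumford
regularity of M in the sense of minimal graded free resolutions. (The published statement is reg S_X
≤ deg X − codim X for an arithmetically Cohen–Macaulay subvariety X of P^r not contained in a
hyperplane; this row is the algebraic statement its proof establishes, with S_X any graded quotient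
of S by an ideal without linear forms, the maximal regular sequence of linear forms given, deg X
replaced by the length of S_X/(y_0, …, y_t)S_X and codim X by r − t, which agree with the degree and
the codimension in that situation.) -/
theorem result (k : Type u) [Field k] (r : ℕ)
    (M : Type u) [AddCommGroup M] [Module k M] [Module (MvPolynomial (Fin (r + 1)) k) M]
    [IsScalarTower k (MvPolynomial (Fin (r + 1)) k) M] [Module.Finite (MvPolynomial (Fin (r + 1)) k) M]
    (ℳ : ℤ → Submodule k M) [DirectSum.Decomposition ℳ] [SetLike.GradedSMul (GrSyz.stdGr k (Fin (r + 1))) ℳ]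
    (π : MvPolynomial (Fin (r + 1)) k →ₗ[MvPolynomial (Fin (r + 1)) k] M) (hπ : Function.Surjective π)
    (hπg : GrLC.IsGrHom (GrSyz.stdGr k (Fin (r + 1))) ℳ π)
    (hlin : ∀ x : MvPolynomial (Fin (r + 1)) k, x ∈ GrSyz.stdGr k (Fin (r + 1)) 1 → π x = 0 → x = 0)
    (ys : List (MvPolynomial (Fin (r + 1)) k)) (hys : ∀ y ∈ ys, y ∈ GrSyz.stdGr k (Fin (r + 1)) 1)
    (hreg : RingTheory.Sequence.IsWeaklyRegular M ys)
    (N : Type u) [AddCommGroup N] [Module k N] [Module (MvPolynomial (Fin (r + 1)) k) N]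
    [IsScalarTower k (MvPolynomial (Fin (r + 1)) k) N]
    (𝒩 : ℤ → Submodule k N) [DirectSum.Decomposition 𝒩] [SetLike.GradedSMul (GrSyz.stdGr k (Fin (r + 1))) 𝒩]
    (σ : M →ₗ[MvPolynomial (Fin (r + 1)) k] N) (hσ : Function.Surjective σ) (hσg : GrLC.IsGrHom ℳ 𝒩 σ)
    (hker : LinearMap.ker σ = Ideal.ofList ys • (⊤ : Submodule (MvPolynomial (Fin (r + 1)) k) M))
    (ℓ : ℕ) (hℓ : Module.length (MvPolynomial (Fin (r + 1)) k) N = (ℓ : ℕ∞)) :
    GrSyz.reg (GrSyz.stdGr k (Fin (r + 1))) ℳ (GrSyz.irrel (GrSyz.stdGr k (Fin (r + 1)))).toIdeal + ((((r : ℤ) + 1 - (ys.length : ℤ) : ℤ) : WithTop ℤ) : WithBot (WithTop ℤ)) ≤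
      (((ℓ : ℤ) : WithTop ℤ) : WithBot (WithTop ℤ)) := by
  classical
  let S := MvPolynomial (Fin (r + 1)) k
  let 𝒜 := GrSyz.stdGr k (Fin (r + 1))
  let a := GrSyz.irrel 𝒜
  have hneg := (Groth.Agent.GrSyzBasic.std_stdGr k (Fin (r + 1))).neg
  have hgen := Groth.Agent.GrSyzPoly.irrel_eq k (r + 1)
  let φ : S →ₗ[S] N := σ ∘ₗ π
  have hφ : Function.Surjective φ := hσ.comp hπ
  have hφg : ∀ (g : ℤ) (p : S), p ∈ 𝒜 g → φ p ∈ 𝒩 g := fun g p hp => hσg g _ (hπg g p hp)
  -- every element of a piece is the image of a form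
  have hpiece : ∀ (g : ℤ) (x : N), x ∈ 𝒩 g → ∃ p ∈ 𝒜 g, φ p = x := by
    intro g x hx
    obtain ⟨p, rfl⟩ := hφ x
    refine ⟨pr 𝒜 g p, pr_mem 𝒜 g p, ?_⟩
    rw [map_pr (ℳ := 𝒜) (𝒩 := 𝒩) (f := φ) hφg g p, pr_same 𝒩 hx]
  have hlow : ∀ g < 0, ∀ x ∈ 𝒩 g, x = 0 := fun g hg x hx => by
    obtain ⟨p, hp, rfl⟩ := hpiece g x hx
    rw [hneg g hg p hp, map_zero]
  -- vanishing propagates upwards
  have hup : ∀ (j : ℕ) (g : ℤ), (∀ x ∈ 𝒩 (j : ℤ), x = 0) → (j : ℤ) ≤ g → ∀ x ∈ 𝒩 g, x = 0 := by
    intro j g hj hg x hx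
    obtain ⟨p, hp, rfl⟩ := hpiece g x hx
    obtain ⟨G, rfl⟩ : ∃ G : ℕ, g = G := ⟨g.toNat, by omega⟩
    have h1 : p ∈ Ideal.span (𝒜 (j : ℤ) : Set S) :=
      Groth.Agent.GrStarReg.pow_le_span a hgen j (Ideal.pow_le_pow_right (by omega : j ≤ G)
        (Groth.Agent.GrStarReg.mem_pow a hgen (fun m hm y hy => Ideal.subset_span ⟨m, hm, hy⟩) G p hp))
    have h2 : Ideal.span (𝒜 (j : ℤ) : Set S) ≤ LinearMap.ker φ := Ideal.span_le.mpr fun q hq => hj _ (hφg _ q hq)
    exact LinearMap.mem_ker.mp (h2 h1)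
  -- the dimension of the degree one part
  let Φ : (Fin (r + 1) → k) →ₗ[k] S := Fintype.linearCombination k MvPolynomial.X
  have hΦ : Function.Injective Φ := (MvPolynomial.linearIndependent_X (R := k) (σ := Fin (r + 1))).fintypeLinearCombination_injective
  have hΦ1 : ∀ e, Φ e ∈ 𝒜 1 := fun e => Submodule.sum_mem _ fun i _ => Submodule.smul_mem _ _ (Groth.Agent.GrSyzPoly.X_mem k _ i)
  let Λ : (Fin (r + 1) → k) →ₗ[k] N := φ.restrictScalars k ∘ₗ Φ
  let W : Submodule k N := LinearMap.range Λ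
  have hW1 : W ≤ 𝒩 1 := by rintro _ ⟨e, rfl⟩; exact hφg 1 _ (hΦ1 e)
  have hy1 : ∀ z ∈ Ideal.ofList ys, ∀ m : M, pr ℳ 1 (z • m) ∈ (Submodule.span k {y | y ∈ ys}).map (π.restrictScalars k) := by
    intro z hz
    induction hz using Submodule.span_induction with
    | mem y hy =>
      intro m
      rw [pr_smul_left 𝒜 ℳ (hys y hy), sub_self]
      obtain ⟨p, rfl⟩ := hπ m
      rw [← map_pr (ℳ := 𝒜) (𝒩 := ℳ) (f := π) hπg 0 p, ← map_smul]
      refine ⟨_, ?_, rfl⟩
      rw [eq_C_of_mem_zero (pr_mem 𝒜 0 p), smul_eq_mul, mul_comm, ← MvPolynomial.smul_eq_C_mul]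
      exact Submodule.smul_mem _ _ (Submodule.subset_span hy)
    | zero => intro m; rw [zero_smul, map_zero]; exact zero_mem _
    | add p q _ _ hp hq => intro m; rw [add_smul, map_add]; exact add_mem (hp m) (hq m)
    | smul c p _ hp => intro m; rw [smul_eq_mul, mul_comm, mul_smul]; exact hp _
  have hkerΛ : (LinearMap.ker Λ).map Φ ≤ Submodule.span k {y | y ∈ ys} := by
    rintro _ ⟨e, he, rfl⟩
    have h1 : π (Φ e) ∈ Ideal.ofList ys • (⊤ : Submodule S M) := hker ▸ (LinearMap.mem_ker.mpr (LinearMap.mem_ker.mp he : σ (π (Φ e)) = 0))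
    have h2 : pr ℳ 1 (π (Φ e)) ∈ (Submodule.span k {y | y ∈ ys}).map (π.restrictScalars k) :=
      Submodule.smul_induction_on h1 (fun z hz m _ => hy1 z hz m) fun p q hp hq => by rw [map_add]; exact add_mem hp hq
    rw [pr_same ℳ (hπg 1 _ (hΦ1 e))] at h2
    obtain ⟨l, hl, hle⟩ := h2
    have hl1 : l ∈ 𝒜 1 := (Submodule.span_le.mpr hys) hl
    have := hlin (Φ e - l) (Submodule.sub_mem _ (hΦ1 e) hl1) (by rw [map_sub, sub_eq_zero]; exact hle.symm)
    rwa [sub_eq_zero.mp this]
  have hc : r + 1 ≤ Module.finrank k W + ys.length := by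
    have h1 : Module.finrank k W + Module.finrank k (LinearMap.ker Λ) = r + 1 :=
      (LinearMap.finrank_range_add_finrank_ker Λ).trans (Module.finrank_fin_fun k)
    have h2 : Module.finrank k (LinearMap.ker Λ) ≤ ys.length := by
      rw [(Submodule.equivMapOfInjective Φ hΦ (LinearMap.ker Λ)).finrank_eq]
      have hset : ({y | y ∈ ys} : Set S) = (ys.toFinset : Set S) := by ext; simp
      haveI : Module.Finite k ↥(Submodule.span k {y | y ∈ ys}) := by
        rw [hset]; exact Module.Finite.span_of_finite k ys.toFinset.finite_toSet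
      refine (Submodule.finrank_mono hkerΛ).trans ?_
      rw [hset]
      exact (finrank_span_finset_le_card _).trans ys.toFinset_card_le
    omega
  -- the bound on the nonzero degrees
  have hfin : Module.length S N ≠ ⊤ := by rw [hℓ]; exact ENat.coe_ne_top ℓ
  have hfl : IsFiniteLength S N := Module.length_ne_top_iff.mp hfin
  haveI := (isFiniteLength_iff_isNoetherian_isArtinian.mp hfl).1
  haveI := (isFiniteLength_iff_isNoetherian_isArtinian.mp hfl).2
  let L : ℤ → ℕ∞ := fun j => Module.length S (flt (n := r + 1) 𝒩 j ⊤)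
  have hstep : ∀ (j : ℤ) (d : ℕ) (V : Submodule k N), V ≤ 𝒩 j → d ≤ Module.finrank k V → L (j + 1) + d ≤ L j := by
    intro j d V hV hd
    refine le_trans ?_ ((length_flt (n := r + 1) 𝒩 j hfin d V hV hd).trans
      (Module.length_le_of_injective (Submodule.inclusion (fun x hx => ⟨hx.1, Submodule.mem_top⟩ : flt (n := r + 1) 𝒩 j V ≤ flt (n := r + 1) 𝒩 j ⊤))
        (Submodule.inclusion_injective _)))
    exact add_le_add (Module.length_le_of_injective (Submodule.inclusion (flt_succ_le (n := r + 1) 𝒩 j)) (Submodule.inclusion_injective _)) le_rfl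
  have hone : ∀ (j : ℤ) (x : N), x ∈ 𝒩 j → x ≠ 0 → L (j + 1) + 1 ≤ L j := by
    intro j x hx hx0
    have := hstep j 1 (Submodule.span k {x}) ((Submodule.span_singleton_le_iff_mem _ _).mpr hx) (finrank_span_singleton hx0).ge
    exact_mod_cast this
  have hbound : ∀ (g : ℤ) (x : N), x ∈ 𝒩 g → x ≠ 0 → g + ((r : ℤ) + 1 - ys.length) ≤ ℓ := by
    intro g x hx hx0
    obtain ⟨G, rfl⟩ : ∃ G : ℕ, g = G := ⟨g.toNat, by have : ¬ g < 0 := fun h => hx0 (hlow g h x hx); omega⟩
    have hnz : ∀ j : ℕ, j ≤ G → ∃ y ∈ 𝒩 (j : ℤ), y ≠ 0 := fun j hj => by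
      by_contra hcon
      push Not at hcon
      exact hx0 (hup j G hcon (by omega) x hx)
    have htail : ∀ e j : ℕ, j + e = G → ((e + 1 : ℕ) : ℕ∞) ≤ L j := by
      intro e
      induction e with
      | zero =>
        intro j hj
        obtain ⟨y, hy, hy0⟩ := hnz j (by omega)
        exact le_trans (by simp) (hone j y hy hy0)
      | succ e ih =>
        intro j hj
        obtain ⟨y, hy, hy0⟩ := hnz j (by omega)
        refine le_trans ?_ (hone j y hy hy0)
        have := ih (j + 1) (by omega)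
        rw [Nat.cast_succ j] at this
        rw [Nat.cast_succ]
        exact add_le_add this le_rfl
    have h0 : L 0 ≤ (ℓ : ℕ∞) := hℓ ▸ Module.length_le_of_injective _ (Submodule.injective_subtype _)
    obtain ⟨y, hy, hy0⟩ := hnz 0 (Nat.zero_le _)
    have hL0 := hone 0 y (by simpa using hy) hy0
    rw [zero_add] at hL0
    have hL1 := hstep 1 (Module.finrank k W) W hW1 le_rfl
    rcases Nat.lt_or_ge G 2 with hG | hG
    · interval_cases G
      · have hw : ((Module.finrank k W + 1 : ℕ) : ℕ∞) ≤ (ℓ : ℕ∞) := by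
          refine le_trans ?_ ((add_le_add ((le_add_self).trans hL1) le_rfl).trans (hL0.trans h0))
          rw [Nat.cast_succ]
        rw [Nat.cast_le] at hw
        omega
      · have hw : ((Module.finrank k W + 1 : ℕ) : ℕ∞) ≤ (ℓ : ℕ∞) := by
          refine le_trans ?_ ((add_le_add ((le_add_self).trans hL1) le_rfl).trans (hL0.trans h0))
          rw [Nat.cast_succ]
        rw [Nat.cast_le] at hw
        omega
    · have h2 := htail (G - 2) 2 (by omega)
      have hw : (((G - 2 + 1) + Module.finrank k W + 1 : ℕ) : ℕ∞) ≤ (ℓ : ℕ∞) := by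
        refine le_trans ?_ ((add_le_add ((add_le_add h2 le_rfl).trans hL1) le_rfl).trans (hL0.trans h0))
        push_cast
        exact le_rfl
      rw [Nat.cast_le] at hw
      omega
  -- regularity
  rw [Groth.Agent.GrStarRegLE.add_coe_le_iff, Groth.Agent.GrSyzPoly.reg_le_iff]
  refine (Groth.Agent.GrStarSeq.regLE_iff_of_seq (a := a) ys (fun y hy => ⟨hys y hy, hgen ▸ Ideal.subset_span (hys y hy)⟩)
    (bundle 𝒜 ℳ) (bundle 𝒜 𝒩) hreg σ hσg hσ hker _).mpr ?_
  refine regLE_of_torsion (fun (x : N) => ?_) fun g hg (x : N) hx => ?_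
  · refine ⟨((ℓ : ℤ) - ((r : ℤ) + 1 - ys.length)).toNat + 1, fun z hz => ?_⟩
    obtain ⟨p, rfl⟩ := hφ x
    show z • φ p = 0
    rw [← map_smul, smul_eq_mul, mul_comm]
    refine LinearMap.mem_ker.mp (Submodule.smul_mem (LinearMap.ker φ) p ?_)
    refine (Ideal.span_le.mpr fun q hq => ?_) (Groth.Agent.GrStarReg.pow_le_span a hgen _ hz)
    by_contra hq0
    have := hbound _ _ (hφg _ q hq) hq0
    omega
  · by_contra hx0
    have := hbound g x hx hx0
    omega

end Groth.Agent.S15433
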