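import Groth.Statements.S15437
import Groth.Agent.Lib.GrSyzHilbert
-- import your own Groth.Agent.* helpers here

set_option autoImplicit false
universe u
open GrSyz

namespace Groth.Agent.S15437

/-- Let k be a field, S = k[x_0, …, x_r] graded by degree and M a ℤ-graded S-module with a finite graded
free resolution F of length at most m by free modules of finite rank with homogeneous bases; write
β_{i,j} for the number of basis vectors of F_i of degree j (the graded Betti numbers when F is
minimal) and B_j = Σ_{i ≤ m} (−1)^i β_{i,j}. Then for every integer d, dim_k M_d = Σ_j B_j C(r + d −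
j, r), where a binomial with d < j counts as zero and only finitely many j contribute; and the B_j
are recovered from the Hilbert function by B_j = dim_k M_j − Σ_{n < j} B_n C(r + j − n, r). (Stated
for any finite graded free resolution; the published statement takes the minimal one.) -/
theorem result (k : Type u) [Field k] (r : ℕ)
    (M : Type u) [AddCommGroup M] [Module k M] [Module (MvPolynomial (Fin (r + 1)) k) M]
    [IsScalarTower k (MvPolynomial (Fin (r + 1)) k) M] [Module.Finite (MvPolynomial (Fin (r + 1)) k) M]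
    (ℳ : ℤ → Submodule k M) [DirectSum.Decomposition ℳ] [SetLike.GradedSMul (GrSyz.stdGr k (Fin (r + 1))) ℳ]
    (F : GrSyz.FreeRes (GrSyz.stdGr k (Fin (r + 1))) ℳ) (m : ℕ) (hF : F.HasLengthLE m) :
    (∀ d : ℤ, (Module.finrank k ↥(ℳ d) : ℤ) =
        ∑ᶠ j : ℤ, (∑ i ∈ Finset.range (m + 1), (-1 : ℤ) ^ i * (F.betti i j : ℤ)) *
          (if j ≤ d then ((Nat.choose (r + (d - j).toNat) r : ℕ) : ℤ) else 0)) ∧
      ∀ j : ℤ, (∑ i ∈ Finset.range (m + 1), (-1 : ℤ) ^ i * (F.betti i j : ℤ)) =
        (Module.finrank k ↥(ℳ j) : ℤ) -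
          ∑ᶠ n : ℤ, (if n < j then (∑ i ∈ Finset.range (m + 1), (-1 : ℤ) ^ i * (F.betti i n : ℤ)) * ((Nat.choose (r + (j - n).toNat) r : ℕ) : ℤ) else 0) := by
  classical
  obtain ⟨T, hT, hd⟩ := Groth.Agent.GrSyzHilbert.hilbert_betti F m hF
  have hfirst : ∀ d : ℤ, (Module.finrank k ↥(ℳ d) : ℤ) =
      ∑ᶠ j : ℤ, (∑ i ∈ Finset.range (m + 1), (-1 : ℤ) ^ i * (F.betti i j : ℤ)) *
        (if j ≤ d then ((Nat.choose (r + (d - j).toNat) r : ℕ) : ℤ) else 0) := by
    intro d
    rw [hd d, finsum_eq_sum_of_support_subset _ (s := T) fun j hj => by_contra fun hjT =>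
      hj (by rw [hT j hjT, zero_mul])]
    simp only [Groth.Agent.GrSyzHilbert.hb, sub_nonneg]
  refine ⟨hfirst, fun j => ?_⟩
  rw [hd j]
  rw [finsum_eq_sum_of_support_subset _ (s := T) fun n hn => by_contra fun hnT =>
    hn (by rw [hT n hnT]; simp), ← Finset.sum_sub_distrib]
  rw [Finset.sum_eq_single j]
  · rw [if_neg (lt_irrefl j), sub_self, Groth.Agent.GrSyzHilbert.hb, if_pos le_rfl]
    simp
  · intro n _ hn
    rcases lt_or_gt_of_ne hn with h | h
    · rw [if_pos h, Groth.Agent.GrSyzHilbert.hb, if_pos (by omega), sub_self]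
    · rw [if_neg (by omega), Groth.Agent.GrSyzHilbert.hb, if_neg (by omega), mul_zero, sub_zero]
  · intro hj
    rw [hT j hj, if_neg (lt_irrefl j), zero_mul, sub_zero]

end Groth.Agent.S15437
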