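import Groth.Statements.S15468
import Groth.Agent.Lib.H9StClean

set_option autoImplicit false
set_option backward.isDefEq.respectTransparency.types false
universe u
open CategoryTheory AlgebraicGeometry
open IsoNat

namespace Groth.Agent.S15468

/-- Being an algebraic space is detected by the presheaf of isomorphism classes. If 𝒳 and 𝒴 are
algebraic stacks over a quasi-separated scheme S whose presheaves of isomorphism classes are
isomorphic, and 𝒳 is (equivalent to) an algebraic space, then so is 𝒴. Here an algebraic stack over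
a quasi-separated scheme S means a stack in groupoids for the fppf topology with a smooth surjective
atlas from a scheme, whose diagonal is representable by separated quasi-compact morphisms of
algebraic spaces and whose inertia is locally of finite presentation over it. (The published
statement compares within the wider class of quasi-algebraic stacks, which need not have an atlas;
this row compares algebraic stacks only.) -/
theorem result
    (S : Scheme.{u}) [QuasiSeparatedSpace S]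
    (𝒳 𝒴 : AlgSt.Cat S)
    (h𝒳 : AlgSt.IsAlgStack Scheme.fppfPrecoverage 𝒳)
    (h𝒳d : AlgSt.RepByAlgSpWith (AlgSp.IsSeparatedMor ⊓ AlgSp.IsQuasiCompactMor)
      (FibCat.diag (FibCat.toSelf 𝒳)))
    (h𝒳i : AlgSt.RepByAlgSpWith (AlgSp.LocP @LocallyOfFinitePresentation)
      (FibCat.inertiaToBase (FibCat.toSelf 𝒳)))
    (h𝒴 : AlgSt.IsAlgStack Scheme.fppfPrecoverage 𝒴)
    (h𝒴d : AlgSt.RepByAlgSpWith (AlgSp.IsSeparatedMor ⊓ AlgSp.IsQuasiCompactMor)
      (FibCat.diag (FibCat.toSelf 𝒴)))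
    (h𝒴i : AlgSt.RepByAlgSpWith (AlgSp.LocP @LocallyOfFinitePresentation)
      (FibCat.inertiaToBase (FibCat.toSelf 𝒴)))
    (φ : IsoNat.FIso 𝒳 𝒴)
    (hsp : AlgSt.RepByAlgSp 𝒳) :
    AlgSt.RepByAlgSp 𝒴 := by
  haveI hX : FibCat.IsFibGrpd 𝒳.p := h𝒳.isStack.1
  haveI hY : FibCat.IsFibGrpd 𝒴.p := h𝒴.isStack.1
  obtain ⟨F, e, he⟩ := hsp
  have hXc : ∀ (T : Over S) (x : 𝒳.p.Fiber T), H9St.CleanF x := fun T x => H9St.cleanF_of_equiv he x
  have hYc : ∀ (T : Over S) (y : 𝒴.p.Fiber T), H9St.CleanF y := fun T y => by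
    obtain ⟨c, hc⟩ := (φ.toEquiv T).surjective (IsoNat.cls y)
    obtain ⟨x, rfl⟩ := Quotient.exists_rep c
    refine H9St.cleanF_of_locTriv h𝒴.isStack h𝒴d inf_le_left ?_
    rw [← hc]
    refine H9St.locTriv2_map φ ?_
    intro Z g V₁ V₂ a b ha hb hcov d h1 h2
    refine H9St.locTriv_of_cleanF h𝒳.isStack (hXc T x) Z g _ (ASp.mem_of_openCover
      (R := Sieve.generate (Presieve.singleton a) ⊔ Sieve.generate (Presieve.singleton b))
      (W := fun k : ULift.{u} Bool => if k.down then V₁ else V₂)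
      (fun k => match k with | ⟨true⟩ => a | ⟨false⟩ => b) ?_ ?_ ?_) d ?_
    · rintro ⟨_ | _⟩ <;> assumption
    · intro z
      rcases hcov z with h | h
      · exact ⟨⟨true⟩, h⟩
      · exact ⟨⟨false⟩, h⟩
    · rintro ⟨_ | _⟩
      · exact Or.inr ⟨_, 𝟙 _, b, ⟨⟩, Category.id_comp _⟩
      · exact Or.inl ⟨_, 𝟙 _, a, ⟨⟩, Category.id_comp _⟩
    · rintro W f (⟨_, m, _, ⟨⟩, rfl⟩ | ⟨_, m, _, ⟨⟩, rfl⟩)
      · rw [← H9St.rc_comp, h1, H9St.rc_comp]
        rfl
      · rw [← H9St.rc_comp, h2, H9St.rc_comp]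
        rfl
  obtain ⟨G, hG⟩ := H9St.isEquivOver_of_clean φ hXc hYc
  exact ⟨F, _, H9St.isEquivOver_comp he hG⟩

end Groth.Agent.S15468
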