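import Groth.Statements.S15479
import Groth.Agent.Lib.H9StAutEquiv

set_option autoImplicit false
set_option backward.isDefEq.respectTransparency.types false
universe u
open CategoryTheory AlgebraicGeometry
open IsoNat

namespace Groth.Agent.S15479

/-- An abelian automorphism group of an object is recovered from the presheaf of isomorphism classes.
Let 𝒳 and 𝒴 be algebraic stacks over a quasi-separated scheme S with an isomorphism of their
presheaves of isomorphism classes, T a scheme over S, η an object of 𝒳 over T with abelian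
automorphism sheaf (every object with a morphism to η has a commutative group of automorphisms over
the identity of its base), and η' an object of 𝒴 over T whose isomorphism class corresponds to that
of η. Then the groups of automorphisms of η and of η' over the identity of T are isomorphic. (The
published statement recovers a canonical isomorphism of automorphism sheaves from the presheaf; this
row asserts only that the groups of automorphisms over the identity of T are isomorphic.) Here an
algebraic stack over a quasi-separated scheme S means a stack in groupoids for the fppf topology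
with a smooth surjective atlas from a scheme, whose diagonal is representable by separated
quasi-compact morphisms of algebraic spaces and whose inertia is locally of finite presentation over
it. (The published statement compares within the wider class of quasi-algebraic stacks, which need
not have an atlas; this row compares algebraic stacks only.) -/
theorem result
    (S : Scheme.{u}) [QuasiSeparatedSpace S]
    (𝒳 𝒴 : AlgSt.Cat S)
    (h𝒳 : AlgSt.IsAlgStack Scheme.fppfPrecoverage 𝒳)
    (h𝒳d : AlgSt.RepByAlgSpWith (AlgSp.IsSeparatedMor ⊓ AlgSp.IsQuasiCompactMor)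
      (FibCat.diag (FibCat.toSelf 𝒳)))
    (h𝒳i : AlgSt.RepByAlgSpWith (AlgSp.LocP @LocallyOfFinitePresentation)
      (FibCat.inertiaToBase (FibCat.toSelf 𝒳)))
    (h𝒴 : AlgSt.IsAlgStack Scheme.fppfPrecoverage 𝒴)
    (h𝒴d : AlgSt.RepByAlgSpWith (AlgSp.IsSeparatedMor ⊓ AlgSp.IsQuasiCompactMor)
      (FibCat.diag (FibCat.toSelf 𝒴)))
    (h𝒴i : AlgSt.RepByAlgSpWith (AlgSp.LocP @LocallyOfFinitePresentation)
      (FibCat.inertiaToBase (FibCat.toSelf 𝒴)))
    (φ : IsoNat.FIso 𝒳 𝒴)
    (T : Over S) (η : 𝒳.p.Fiber T) (η' : 𝒴.p.Fiber T)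
    (hη : φ.toEquiv T (IsoNat.cls η) = IsoNat.cls η')
    (hab : IsoNat.IsAutAbelian η) :
    Nonempty (Aut η ≃* Aut η') := by
  haveI hX : FibCat.IsFibGrpd 𝒳.p := h𝒳.isStack.1
  haveI hY : FibCat.IsFibGrpd 𝒴.p := h𝒴.isStack.1
  have habX := (H9St.isAutAbelian_iff η).1 hab
  have habY : ∀ (b : Over T) (s t : H9St.VAut (H9St.yFun η') b), s * t = t * s := fun b s t =>
    H9St.comm_of_abCond h𝒴.isStack h𝒴d η'
      (hη ▸ H9St.abCond_map φ (H9St.abCond_of_comm h𝒳.isStack h𝒳d η habX)) b s t
  let E : H9St.VAut (H9St.yFun η) (Over.mk (𝟙 T)) ≃* H9St.VAut (H9St.yFun η') (Over.mk (𝟙 T)) :=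
    { toFun := H9St.psiG h𝒳.isStack h𝒴.isStack h𝒴d φ η η' hη habY
      invFun := H9St.psiG h𝒴.isStack h𝒳.isStack h𝒳d (H9St.fIsoSymm φ) η' η ((φ.toEquiv T).symm_apply_eq.2 hη.symm) habX
      left_inv := H9St.psiG_symm h𝒳.isStack h𝒴.isStack h𝒳d h𝒴d φ η η' hη habX habY
      right_inv := H9St.psiG_symm h𝒴.isStack h𝒳.isStack h𝒴d h𝒳d (H9St.fIsoSymm φ) η' η _ habY habX
      map_mul' := H9St.psiG_mul h𝒳.isStack h𝒴.isStack h𝒴d φ η η' hη habY }
  exact ⟨MulEquiv.op.symm ((H9St.autVIso η).trans (E.trans (H9St.autVIso η').symm))⟩

end Groth.Agent.S15479
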