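import Groth.Statements.S15489
import Groth.Agent.Lib.H9StClean
import Groth.Agent.Lib.AlgSpFppf

set_option autoImplicit false
set_option backward.isDefEq.respectTransparency.types false
universe u
open CategoryTheory AlgebraicGeometry
open IsoNat

namespace Groth.Agent.S15489

/-- The presheaf of isomorphism classes of an algebraic stack 𝒳 over a quasi-separated scheme S is a
sheaf exactly when 𝒳 has no non-trivial automorphisms. Stated as: every object of 𝒳 is clean (every
object mapping to it has only the identity endomorphism over the identity of its base) if and only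
if the presheaf of isomorphism classes is separated for fppf coverings — whenever T' → T is flat,
surjective and locally of finite presentation and two objects over T receive morphisms over it from
isomorphic objects over T', the two objects are isomorphic over T. (The gluing half of the sheaf
property also follows from the triviality of automorphism sheaves; only separation is needed for the
converse, and only it is stated.) Here an algebraic stack over a quasi-separated scheme S means a
stack in groupoids for the fppf topology with a smooth surjective atlas from a scheme, whose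
diagonal is representable by separated quasi-compact morphisms of algebraic spaces and whose inertia
is locally of finite presentation over it. -/
theorem result
    (S : Scheme.{u}) [QuasiSeparatedSpace S]
    (𝒳 : AlgSt.Cat S)
    (h𝒳 : AlgSt.IsAlgStack Scheme.fppfPrecoverage 𝒳)
    (h𝒳d : AlgSt.RepByAlgSpWith (AlgSp.IsSeparatedMor ⊓ AlgSp.IsQuasiCompactMor)
      (FibCat.diag (FibCat.toSelf 𝒳)))
    (h𝒳i : AlgSt.RepByAlgSpWith (AlgSp.LocP @LocallyOfFinitePresentation)
      (FibCat.inertiaToBase (FibCat.toSelf 𝒳))) :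
    (∀ η : 𝒳.obj, IsoNat.IsClean η) ↔
      ∀ (T T' : Over S) (π : T' ⟶ T) [Flat π.left] [Surjective π.left] [LocallyOfFinitePresentation π.left]
        (x₁ x₂ : 𝒳.p.Fiber T) (x₁' x₂' : 𝒳.p.Fiber T') (a₁ : x₁'.1 ⟶ x₁.1) (a₂ : x₂'.1 ⟶ x₂.1),
        𝒳.p.IsHomLift π a₁ → 𝒳.p.IsHomLift π a₂ → Nonempty (x₁' ≅ x₂') → Nonempty (x₁ ≅ x₂) := by
  haveI hfg : FibCat.IsFibGrpd 𝒳.p := h𝒳.isStack.1
  constructor
  · intro hcl T T' π hfl hsu hlf x₁ x₂ x₁' x₂' a₁ a₂ ha₁ ha₂ hne
    obtain ⟨e⟩ := hne
    obtain ⟨e₁⟩ := @H9St.pb_iso_of_map _ _ 𝒳 _ _ _ π x₁ x₁' a₁ ha₁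
    obtain ⟨e₂⟩ := @H9St.pb_iso_of_map _ _ 𝒳 _ _ _ π x₂ x₂' a₂ ha₂
    refine H9St.iso_of_cleanF_of_local (R := Sieve.generate (Presieve.singleton π)) h𝒳.isStack
      ((H9St.isClean_iff x₂).1 (hcl x₂.1)) (ASp.mem_of_single π ⟨_, 𝟙 _, π, ⟨⟩, Category.id_comp _⟩) ?_
    rintro W f ⟨_, m, _, ⟨⟩, rfl⟩
    obtain ⟨c₁⟩ := H9St.pb_comp m π x₁
    obtain ⟨c₂⟩ := H9St.pb_comp m π x₂
    obtain ⟨d⟩ := H9St.pb_congr m (e₁.symm ≪≫ e ≪≫ e₂)
    exact ⟨c₁.symm ≪≫ d ≪≫ c₂⟩
  · intro hsep η
    let x : 𝒳.p.Fiber (𝒳.p.obj η) := ⟨η, rfl⟩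
    refine (H9St.isClean_iff x).2 (H9St.cleanF_of_locTriv h𝒳.isStack h𝒳d inf_le_left ?_)
    intro Z g V₁ V₂ a b ha hb hcov d h1 h2
    obtain ⟨y, rfl⟩ := Quotient.exists_rep d
    haveI : IsOpenImmersion a.left := ha
    haveI : IsOpenImmersion b.left := hb
    let P : Over S := Over.mk (Limits.coprod.desc V₁.hom V₂.hom)
    let ia : V₁ ⟶ P := Over.homMk Limits.coprod.inl (Limits.coprod.inl_desc _ _)
    let ib : V₂ ⟶ P := Over.homMk Limits.coprod.inr (Limits.coprod.inr_desc _ _)
    let π : P ⟶ Z := Over.homMk (Limits.coprod.desc a.left b.left) (by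
      apply Limits.coprod.hom_ext <;> simp [P])
    have fa : ia ≫ π = a := Over.OverMorphism.ext (Limits.coprod.inl_desc _ _)
    have fb : ib ≫ π = b := Over.OverMorphism.ext (Limits.coprod.inr_desc _ _)
    haveI : Flat π.left := by
      rw [IsZariskiLocalAtSource.iff_of_openCover (P := @Flat) (AlgebraicGeometry.coprodOpenCover.{u, u} V₁.left V₂.left)]
      rintro (⟨⟩ | ⟨⟩)
      · show Flat (Limits.coprod.inl ≫ π.left); rw [show Limits.coprod.inl ≫ π.left = a.left from Limits.coprod.inl_desc _ _]; infer_instance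
      · show Flat (Limits.coprod.inr ≫ π.left); rw [show Limits.coprod.inr ≫ π.left = b.left from Limits.coprod.inr_desc _ _]; infer_instance
    haveI : LocallyOfFinitePresentation π.left := by
      rw [IsZariskiLocalAtSource.iff_of_openCover (P := @LocallyOfFinitePresentation) (AlgebraicGeometry.coprodOpenCover.{u, u} V₁.left V₂.left)]
      rintro (⟨⟩ | ⟨⟩)
      · show LocallyOfFinitePresentation (Limits.coprod.inl ≫ π.left); rw [show Limits.coprod.inl ≫ π.left = a.left from Limits.coprod.inl_desc _ _]; infer_instance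
      · show LocallyOfFinitePresentation (Limits.coprod.inr ≫ π.left); rw [show Limits.coprod.inr ≫ π.left = b.left from Limits.coprod.inr_desc _ _]; infer_instance
    haveI : Surjective π.left := ⟨fun z => by
      rcases hcov z with ⟨v, hv⟩ | ⟨v, hv⟩
      · exact ⟨(Limits.coprod.inl : V₁.left ⟶ _) v, by rw [← hv, ← fa]; rfl⟩
      · exact ⟨(Limits.coprod.inr : V₂.left ⟶ _) v, by rw [← hv, ← fb]; rfl⟩⟩
    let x' := H9St.pb g x
    have h1' : H9St.rc a (IsoNat.cls y) = H9St.rc a (IsoNat.cls x') := h1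
    have h2' : H9St.rc b (IsoNat.cls y) = H9St.rc b (IsoNat.cls x') := h2
    rw [H9St.rc_cls, H9St.rc_cls] at h1' h2'
    obtain ⟨ea⟩ := (H9St.cls_eq_iff _ _).1 h1'
    obtain ⟨eb⟩ := (H9St.cls_eq_iff _ _).1 h2'
    obtain ⟨ca⟩ := H9St.pb_comp ia π y
    obtain ⟨ca'⟩ := H9St.pb_comp ia π x'
    obtain ⟨cb⟩ := H9St.pb_comp ib π y
    obtain ⟨cb'⟩ := H9St.pb_comp ib π x'
    rw [fa] at ca ca'
    rw [fb] at cb cb'
    haveI : Mono (Limits.coprod.inl : V₁.left ⟶ (Limits.coprod V₁.left V₂.left)) := inferInstance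
    haveI : Mono (Limits.coprod.inr : V₂.left ⟶ (Limits.coprod V₁.left V₂.left)) := inferInstance
    have hkey : Nonempty (H9St.pb π y ≅ H9St.pb π x') := by
      refine H9St.iso_of_disjoint h𝒳.isStack ia ib ?_ ?_ ?_ ?_ (ca ≪≫ ea ≪≫ ca'.symm) (cb ≪≫ eb ≪≫ cb'.symm)
      · refine ASp.mem_of_openCover (W := fun k : ULift.{u} Bool => if k.down then V₁ else V₂)
          (fun k => match k with | ⟨true⟩ => ia | ⟨false⟩ => ib) ?_ ?_ ?_
        · rintro ⟨_ | _⟩
          · exact inferInstanceAs (IsOpenImmersion (Limits.coprod.inr : V₂.left ⟶ _))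
          · exact inferInstanceAs (IsOpenImmersion (Limits.coprod.inl : V₁.left ⟶ _))
        · intro z
          rcases (AlgebraicGeometry.isCompl_range_inl_inr V₁.left V₂.left).codisjoint.eq_top.ge (Set.mem_univ z) with h | h
          · exact ⟨⟨true⟩, h⟩
          · exact ⟨⟨false⟩, h⟩
        · rintro ⟨_ | _⟩
          · exact Or.inr ⟨_, 𝟙 _, ib, ⟨⟩, Category.id_comp _⟩
          · exact Or.inl ⟨_, 𝟙 _, ia, ⟨⟩, Category.id_comp _⟩
      · exact ⟨fun m m' h => Over.OverMorphism.ext ((cancel_mono (Limits.coprod.inl : V₁.left ⟶ (Limits.coprod V₁.left V₂.left))).1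
          (congrArg CommaMorphism.left h))⟩
      · exact ⟨fun m m' h => Over.OverMorphism.ext ((cancel_mono (Limits.coprod.inr : V₂.left ⟶ (Limits.coprod V₁.left V₂.left))).1
          (congrArg CommaMorphism.left h))⟩
      · intro V m l h
        exact ⟨fun v => AlgebraicGeometry.inl_ne_inr V₁.left V₂.left (m.left v) (l.left v) (congrArg (fun r : V ⟶ P => r.left v) h)⟩
    exact (H9St.cls_eq_iff _ _).2 (hsep Z P π y x' (H9St.pb π y) (H9St.pb π x') (H9St.pbMap π y)
      (H9St.pbMap π x') inferInstance inferInstance hkey)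

end Groth.Agent.S15489
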