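import Groth.Statements.S15495
import Mathlib
import Groth.Agent.Lib.H2MinPrime

set_option autoImplicit false
universe u
open CAlg

namespace Groth.Agent.S15495
set_option linter.style.haveILetI false
open TensorProduct Polynomial Matrix

/-- In an Artinian local ring R whose maximal ideal m contains the prime number p, the multiplicative
group 1 + m is annihilated under some power of p: there is n with (1 + x)^(p^n) = 1 for every x in
m. (The published text makes this assertion inside a proof, for Artinian local algebras over the
Witt ring of a perfect field of characteristic p; only p ∈ m and the nilpotence of m are used.) -/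
theorem result
    (R : Type u) [CommRing R] [IsLocalRing R] [IsArtinianRing R]
    (p : ℕ) (hp : p.Prime) (hpm : (p : R) ∈ IsLocalRing.maximalIdeal R) :
    ∃ n : ℕ, ∀ x ∈ IsLocalRing.maximalIdeal R, (1 + x) ^ (p ^ n) = 1 := by
  obtain ⟨N, hN⟩ := (IsArtinianRing.isNilpotent_jacobson_bot (R := R))
  rw [IsLocalRing.jacobson_eq_maximalIdeal ⊥ bot_ne_top] at hN
  refine ⟨N, fun x hx => ?_⟩
  have : ∀ n, (1 + x) ^ (p ^ n) - 1 ∈ IsLocalRing.maximalIdeal R ^ (n + 1) := by
    intro n; induction n with
    | zero => simpa using hx
    | succ n ih =>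
      rw [pow_succ p, pow_mul, ← sub_add_cancel ((1 + x) ^ (p ^ n)) 1]
      set y := (1 + x) ^ (p ^ n) - 1
      obtain ⟨r, hr⟩ := exists_add_pow_prime_eq hp y 1
      rw [hr, one_pow, mul_one, show y ^ p + 1 + (p : R) * y * r - 1 = y ^ p + (p : R) * y * r by ring]
      refine Ideal.add_mem _ ?_ (Ideal.mul_mem_right _ _ ?_)
      · refine Ideal.pow_le_pow_right ?_ ((pow_mul (IsLocalRing.maximalIdeal R) (n + 1) p).symm ▸ Ideal.pow_mem_pow ih p)
        nlinarith [hp.two_le]
      · rw [pow_succ']; exact Ideal.mul_mem_mul hpm ih
  have h2 := Ideal.pow_le_pow_right (Nat.le_succ N) (this N)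
  rw [hN] at h2
  exact sub_eq_zero.1 (by simpa using h2)

end Groth.Agent.S15495
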