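import Groth.Statements.S15505
import Mathlib

set_option autoImplicit false
universe u v w
open FrobAlg

namespace Groth.Agent.S15505

/-- Let k be an algebraically closed field of characteristic p, V a k-vector space, φ a p⁻¹-linear
endomorphism of V (additive, φ(a·v) = a^{1/p}·φ(v)) and b a finite basis of V consisting of vectors
fixed by φ. Then the vectors fixed by φ are exactly the combinations of the b_i with coefficients in
the prime field: v is fixed if and only if v = Σ c_i·b_i with all c_i in the image of ℤ/p. -/
theorem result (p : ℕ) [Fact p.Prime]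
    (k : Type u) [Field k] [CharP k p] [IsAlgClosed k]
    (V : Type v) [AddCommGroup V] [Module k V]
    (φ : V →ₛₗ[((frobeniusEquiv k p).symm : k →+* k)] V)
    {ι : Type w} [Fintype ι] (b : Module.Basis ι k V) (hb : ∀ i, φ (b i) = b i) (v : V) :
    φ v = v ↔ ∃ c : ι → ZMod p, v = ∑ i, (ZMod.castHom (dvd_refl p) k (c i)) • b i := by
  classical
  haveI : ExpChar k p := .prime Fact.out
  have hfix : ∀ a : k, a ^ p = a → ∃ c : ZMod p, ZMod.castHom (dvd_refl p) k c = a := by
    intro a ha
    have hp := (Fact.out : p.Prime)
    let f : Polynomial k := Polynomial.X ^ p - Polynomial.X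
    have hdeg : f.natDegree = p := FiniteField.X_pow_card_sub_X_natDegree_eq k hp.one_lt
    have hf : f ≠ 0 := FiniteField.X_pow_card_sub_X_ne_zero k hp.one_lt
    by_contra hne
    push Not at hne
    let s : Finset k := insert a (Finset.univ.image (ZMod.castHom (dvd_refl p) k))
    have hs : s.val ⊆ f.roots := by
      intro x hx
      rw [Polynomial.mem_roots hf]
      rcases Finset.mem_insert.1 (Finset.mem_def.2 hx : x ∈ s) with rfl | hx
      · simp [f, ha]
      · obtain ⟨c, -, rfl⟩ := Finset.mem_image.1 hx
        simp only [f, Polynomial.IsRoot, Polynomial.eval_sub, Polynomial.eval_pow, Polynomial.eval_X]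
        rw [← map_pow, ZMod.pow_card, sub_self]
    have hcard := (Multiset.card_le_card ((Multiset.le_iff_subset s.nodup).2 hs)).trans (Polynomial.card_roots' f)
    rw [hdeg] at hcard
    change s.card ≤ p at hcard
    rw [Finset.card_insert_of_notMem (by simpa using hne), Finset.card_image_of_injective _ (RingHom.injective _), Finset.card_univ, ZMod.card] at hcard
    omega
  have hφ : ∀ c : ι → k, φ (∑ i, c i • b i) = ∑ i, (frobeniusEquiv k p).symm (c i) • b i := fun c => by
    simp [map_sum, LinearMap.map_smulₛₗ, hb]
  constructor
  · intro h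
    have he : ∀ i, (b.repr v i) ^ p = b.repr v i := fun i => by
      have h1 := hφ (b.repr v)
      rw [b.sum_repr, h] at h1
      have h2 := congrArg (fun w => b.repr w i) h1
      simp only [b.repr_sum_self] at h2
      conv_lhs => rw [h2]
      exact (frobeniusEquiv k p).apply_symm_apply _
    choose c hc using fun i => hfix _ (he i)
    exact ⟨c, by simp only [hc, b.sum_repr]⟩
  · rintro ⟨c, rfl⟩
    rw [hφ]
    refine Finset.sum_congr rfl fun i _ => ?_
    congr 1
    rw [RingEquiv.symm_apply_eq, frobeniusEquiv_apply, frobenius_def, ← map_pow, ZMod.pow_card]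

end Groth.Agent.S15505
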