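import Groth.Statements.S15506
import Mathlib

set_option autoImplicit false
set_option backward.isDefEq.respectTransparency.types false
universe u
open CategoryTheory AlgebraicGeometry
open EtBase

namespace Groth.Agent.S15506

/-- Let k be a field, K an algebraic closure of k (an algebraically closed field algebraic over k), Ω a
field containing K, and Z a scheme étale over Spec k. Composition with Spec Ω → Spec K is a
bijection from the k-morphisms Spec K → Z onto the k-morphisms Spec Ω → Z: two k-morphisms Spec K →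
Z that agree on Spec Ω are equal, and every k-morphism Spec Ω → Z factors through Spec K. (The
published statement is the case where k has characteristic zero with a chosen embedding of its
algebraic closure into the complex numbers, Ω = ℂ, and Z is the scheme of isomorphisms between two
K3 surfaces over k, known there to be étale over k; this row states the fact about an arbitrary
étale k-scheme that the argument establishes.) -/
theorem result
    (k K Ω : Type u) [Field k] [Field K] [Field Ω] [Algebra k K] [IsAlgClosed K] [Algebra.IsAlgebraic k K]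
    [Algebra K Ω] [Algebra k Ω] [IsScalarTower k K Ω]
    (Z : Scheme.{u}) (f : Z ⟶ Spec (CommRingCat.of k)) [AlgebraicGeometry.Etale f] :
    (∀ g₁ g₂ : Spec (CommRingCat.of K) ⟶ Z,
        g₁ ≫ f = Spec.map (CommRingCat.ofHom (algebraMap k K)) →
        g₂ ≫ f = Spec.map (CommRingCat.ofHom (algebraMap k K)) →
        Spec.map (CommRingCat.ofHom (algebraMap K Ω)) ≫ g₁ = Spec.map (CommRingCat.ofHom (algebraMap K Ω)) ≫ g₂ →
        g₁ = g₂) ∧
    (∀ h : Spec (CommRingCat.of Ω) ⟶ Z, h ≫ f = Spec.map (CommRingCat.ofHom (algebraMap k Ω)) →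
        ∃ g : Spec (CommRingCat.of K) ⟶ Z, g ≫ f = Spec.map (CommRingCat.ofHom (algebraMap k K)) ∧
          Spec.map (CommRingCat.ofHom (algebraMap K Ω)) ≫ g = h) := by
  have hinj : Function.Injective (algebraMap K Ω) := (algebraMap K Ω).injective
  refine ⟨fun g₁ g₂ _ _ h => ?_, fun h hh => ?_⟩
  · obtain ⟨⟨z₁, φ₁⟩, rfl⟩ := (Scheme.SpecToEquivOfField K Z).symm.surjective g₁
    obtain ⟨⟨z₂, φ₂⟩, rfl⟩ := (Scheme.SpecToEquivOfField K Z).symm.surjective g₂
    change Spec.map _ ≫ Spec.map φ₁ ≫ Z.fromSpecResidueField z₁ = Spec.map _ ≫ Spec.map φ₂ ≫ Z.fromSpecResidueField z₂ at h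
    rw [← Spec.map_comp_assoc, ← Spec.map_comp_assoc] at h
    have e := (Scheme.SpecToEquivOfField Ω Z).symm.injective (a₁ := ⟨z₁, φ₁ ≫ CommRingCat.ofHom (algebraMap K Ω)⟩) (a₂ := ⟨z₂, φ₂ ≫ CommRingCat.ofHom (algebraMap K Ω)⟩) h
    obtain ⟨rfl, e2⟩ := Sigma.mk.inj_iff.1 e
    have e3 := eq_of_heq e2
    have : φ₁ = φ₂ := CommRingCat.hom_ext (RingHom.ext fun c => hinj (congrArg (fun q => q.hom c) e3))
    rw [this]
  · obtain ⟨_, ⟨V, hV, rfl⟩, hxV, -⟩ := Z.isBasis_affineOpens.exists_subset_of_mem_open (Set.mem_univ (h (IsLocalRing.closedPoint Ω))) isOpen_univ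
    have hr : Set.range h ⊆ Set.range hV.fromSpec := by
      rintro _ ⟨p, rfl⟩
      rw [hV.range_fromSpec, Subsingleton.elim p (IsLocalRing.closedPoint Ω)]
      exact hxV
    obtain ⟨β, hβ⟩ := Spec.map_surjective (IsOpenImmersion.lift hV.fromSpec h hr)
    obtain ⟨ψ, hψ⟩ := Spec.map_surjective (hV.fromSpec ≫ f)
    have het : ψ.hom.Etale := by
      have : Etale (Spec.map ψ) := by rw [hψ]; infer_instance
      exact (HasRingHomProperty.Spec_iff (P := @Etale)).1 this
    algebraize [ψ.hom]
    haveI : Algebra.Etale k Γ(Z, V) := het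
    haveI : Module.Finite k Γ(Z, V) := Algebra.FormallyUnramified.finite_of_free k Γ(Z, V)
    have hcomp : ψ ≫ β = CommRingCat.ofHom (algebraMap k Ω) := by
      rw [← Spec.map_inj, Spec.map_comp, hψ, hβ, ← Category.assoc, IsOpenImmersion.lift_fac, hh]
    let βa : Γ(Z, V) →ₐ[k] Ω := ⟨β.hom, fun c => congrArg (fun q => q.hom c) hcomp⟩
    have hmem : ∀ b, β.hom b ∈ Set.range (algebraMap K Ω) := fun b => by
      have hint : IsIntegral K (β.hom b) := ((Algebra.IsIntegral.isIntegral (R := k) b).map βa).tower_top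
      exact minpoly.mem_range_of_degree_eq_one K _ (IsAlgClosed.degree_eq_one_of_irreducible K (minpoly.irreducible hint))
    choose γ hγ using hmem
    let γh : Γ(Z, V) →+* K :=
      { toFun := γ
        map_one' := hinj (by rw [hγ, map_one, map_one])
        map_mul' := fun a b => hinj (by rw [hγ, map_mul, map_mul, hγ, hγ])
        map_zero' := hinj (by rw [hγ, map_zero, map_zero])
        map_add' := fun a b => hinj (by rw [hγ, map_add, map_add, hγ, hγ]) }
    refine ⟨Spec.map (CommRingCat.ofHom γh) ≫ hV.fromSpec, ?_, ?_⟩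
    · rw [Category.assoc, ← hψ, ← Spec.map_comp]
      refine congrArg Spec.map (CommRingCat.hom_ext (RingHom.ext fun c => hinj ?_))
      show algebraMap K Ω (γ (ψ.hom c)) = algebraMap K Ω (algebraMap k K c)
      rw [hγ, ← IsScalarTower.algebraMap_apply]
      exact congrArg (fun q => q.hom c) hcomp
    · rw [← Category.assoc, ← Spec.map_comp, show CommRingCat.ofHom γh ≫ CommRingCat.ofHom (algebraMap K Ω) = β from CommRingCat.hom_ext (RingHom.ext hγ), hβ, IsOpenImmersion.lift_fac]

end Groth.Agent.S15506
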