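import Groth.Statements.S15525
import Mathlib

set_option autoImplicit false
universe u
open Zeta

namespace Groth.Agent.S15525

/-- Let L be a field with a ring embedding ι into ℂ and M an r × r matrix over L all of whose
eigenvalues, the complex roots of its characteristic polynomial mapped along ι, have absolute value
1. Then every coefficient of the characteristic polynomial of the block-diagonal matrix with blocks
M and the inverse transpose of M is mapped by ι into ℝ. This is the pointwise content of the
assertion that for a lisse sheaf F pure of weight 0 the sum of F and its dual is real, the Frobenius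
of the dual acting by the inverse transpose. -/
theorem result (L : Type u) [Field L] (ι : L →+* ℂ)
    {r : ℕ} (M : Matrix (Fin r) (Fin r) L)
    (hM : ∀ z ∈ ((Matrix.charpoly M).map ι).roots, ‖z‖ = 1) (n : ℕ) :
    (ι ((Matrix.fromBlocks M 0 0 (M⁻¹).transpose).charpoly.coeff n)).im = 0 := by
  classical
  set N := M.map ι with hN
  have hz : ∀ z ∈ N.charpoly.roots, ‖z‖ = 1 := fun z hz' => by
    rw [hN, Matrix.charpoly_map] at hz'
    exact hM z hz'
  have hsp : N.charpoly.Splits := IsAlgClosed.splits _
  have hdetN : N.det = N.charpoly.roots.prod := Matrix.det_eq_prod_roots_charpoly_of_splits hsp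
  have hne : N.det ≠ 0 := by
    rw [hdetN]
    exact Multiset.prod_ne_zero fun h => by simpa using hz 0 h
  have hunit : IsUnit N := (Matrix.isUnit_iff_isUnit_det N).2 (isUnit_iff_ne_zero.2 hne)
  have hprod : N.charpoly = (N.charpoly.roots.map fun z => Polynomial.X - Polynomial.C z).prod :=
    hsp.eq_prod_roots_of_monic N.charpoly_monic
  have hrevX : ∀ z : ℂ, (Polynomial.X - Polynomial.C z).reverse = 1 - Polynomial.C z * Polynomial.X := fun z => by
    rw [Polynomial.reverse, Polynomial.natDegree_X_sub_C, Polynomial.reflect_sub, Polynomial.reflect_C, pow_one]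
    congr 1
    ext i
    rw [Polynomial.coeff_reflect, Polynomial.coeff_X, Polynomial.coeff_one]
    rcases eq_or_ne i 0 with rfl | h0
    · simp
    · rcases eq_or_ne i 1 with rfl | h1
      · simp
      · have : Polynomial.revAt 1 i = i := by
          show (if i ≤ 1 then 1 - i else i) = i
          rw [if_neg (by omega)]
        rw [this]; simp [h0, Ne.symm h1]
  have key : ∀ s : Multiset ℂ, (∀ z ∈ s, ‖z‖ = 1) →
      (-1 : Polynomial ℂ) ^ Multiset.card s * Polynomial.C s.prod⁻¹ * ((s.map fun z => Polynomial.X - Polynomial.C z).prod).reverse =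
        ((s.map fun z => Polynomial.X - Polynomial.C z).prod).map (starRingEnd ℂ) := by
    intro s
    induction s using Multiset.induction_on with
    | empty => intro _; simp [Polynomial.reverse]
    | cons z s ih =>
      intro hs
      have hz1 : ‖z‖ = 1 := hs z (Multiset.mem_cons_self z s)
      have hz0 : z ≠ 0 := fun h => by simp [h] at hz1
      have hc : z⁻¹ = starRingEnd ℂ z := Complex.inv_eq_conj hz1
      have e : (-1 : Polynomial ℂ) * Polynomial.C z⁻¹ * (1 - Polynomial.C z * Polynomial.X) = Polynomial.X - Polynomial.C z⁻¹ := by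
        have : Polynomial.C z⁻¹ * Polynomial.C z = (1 : Polynomial ℂ) := by rw [← Polynomial.C_mul, inv_mul_cancel₀ hz0, Polynomial.C_1]
        linear_combination Polynomial.X * this
      simp only [Multiset.card_cons, Multiset.prod_cons, Multiset.map_cons, mul_inv, Polynomial.C_mul, Polynomial.reverse_mul_of_domain, hrevX,
        Polynomial.map_mul, Polynomial.map_sub, Polynomial.map_X, Polynomial.map_C]
      rw [← ih (fun w hw => hs w (Multiset.mem_cons_of_mem hw)), ← hc, ← e, pow_succ]
      ring
  have hconj : N⁻¹.charpoly = N.charpoly.map (starRingEnd ℂ) := by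
    have hr : Multiset.card N.charpoly.roots = r := by
      rw [← hsp.natDegree_eq_card_roots, Matrix.charpoly_natDegree_eq_dim, Fintype.card_fin]
    have hk := key _ hz
    rw [← hprod, hr, ← hdetN] at hk
    rw [Matrix.charpoly_inv N hunit, Ring.inverse_eq_inv, Fintype.card_fin, ← Matrix.reverse_charpoly, hk]
  set P := (Matrix.fromBlocks M 0 0 (M⁻¹).transpose).charpoly
  have hP : P.map ι = N.charpoly * N.charpoly.map (starRingEnd ℂ) := by
    have hMd : IsUnit M.det := isUnit_iff_ne_zero.2 fun h => hne (by
      rw [hN, ← RingHom.mapMatrix_apply, ← RingHom.map_det, h, map_zero])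
    have hinv : M⁻¹.map ι = N⁻¹ := by
      refine (Matrix.inv_eq_left_inv ?_).symm
      rw [hN, ← Matrix.map_mul, Matrix.nonsing_inv_mul M hMd, Matrix.map_one _ (map_zero _) (map_one _)]
    rw [← hconj, ← hinv, hN, Matrix.charpoly_map, Matrix.charpoly_map, ← Polynomial.map_mul]
    simp [P, Matrix.charpoly_fromBlocks_zero₁₂, Matrix.charpoly_transpose]
  have hfix : starRingEnd ℂ ((P.map ι).coeff n) = (P.map ι).coeff n := by
    rw [← Polynomial.coeff_map, hP, Polynomial.map_mul, Polynomial.map_map,
      show (starRingEnd ℂ).comp (starRingEnd ℂ) = RingHom.id ℂ from RingHom.ext fun x => Complex.conj_conj x, Polynomial.map_id, mul_comm]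
  rw [Polynomial.coeff_map] at hfix
  exact Complex.conj_eq_iff_im.1 hfix

end Groth.Agent.S15525
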