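import Groth.Statements.S15546
import Mathlib
import Groth.Prelude.Def_W4bk4grassmannianPl

set_option autoImplicit false
open scoped TensorProduct
universe u
open Unram

namespace Groth.Agent.S15546
open W4bk4grassmannian
open scoped TensorProduct

/-- Let E be a finite extension of a field k which is not separable over k, and K an algebraic closure
of k. Then E ⊗_k K has a nonzero nilpotent element. -/
theorem result (k E K : Type u) [Field k] [Field E]
    [Algebra k E] [FiniteDimensional k E] [Field K] [Algebra k K] [IsAlgClosure k K]
    (h : ¬ Algebra.IsSeparable k E) : ∃ x : E ⊗[k] K, x ≠ 0 ∧ IsNilpotent x := by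
  by_contra hc
  push Not at hc
  haveI : IsReduced (E ⊗[k] K) := ⟨fun x hx => by_contra fun hne => hc x hne hx⟩
  haveI : IsReduced (K ⊗[k] E) := isReduced_of_injective (Algebra.TensorProduct.comm k K E) (Algebra.TensorProduct.comm k K E).injective
  haveI : IsAlgClosed K := IsAlgClosure.isAlgClosed k
  haveI : IsArtinianRing (K ⊗[k] E) := IsArtinianRing.of_finite K _
  haveI : Algebra.FormallyUnramified K (K ⊗[k] E) := by
    haveI : Algebra.FormallyUnramified K (∀ m : MaximalSpectrum (K ⊗[k] E), (K ⊗[k] E) ⧸ m.asIdeal) := by
      haveI : ∀ m : MaximalSpectrum (K ⊗[k] E), Algebra.FormallyUnramified K ((K ⊗[k] E) ⧸ m.asIdeal) := fun m => by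
        letI := Ideal.Quotient.field m.asIdeal
        exact Algebra.FormallyUnramified.of_surjective (Algebra.ofId K _) (IsAlgClosed.algebraMap_bijective_of_isIntegral (k := K) (K := (K ⊗[k] E) ⧸ m.asIdeal)).2
      infer_instance
    exact Algebra.FormallyUnramified.of_equiv ((IsArtinianRing.equivPi (K ⊗[k] E)).restrictScalars K).symm
  haveI : Algebra.FormallyUnramified k E := Algebra.FormallyUnramified.of_formallyUnramified_tensorProduct_of_faithfullyFlat K
  exact h (Algebra.FormallyUnramified.isSeparable k E)

end Groth.Agent.S15546
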