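import Groth.Statements.S15560
import Mathlib
import Groth.Agent.Lib.H6.Kron

set_option autoImplicit false
set_option backward.isDefEq.respectTransparency.types false
set_option maxHeartbeats 1000000
set_option linter.all false
universe u v w
open KronMod

namespace Groth.Agent.S15560
open Groth.Agent

/-- Let f be a Kronecker module with n arrows over a field K, from a space V of dimension d₋₁ > 0 to a
space W of dimension d₀ > 0. If n·d₋₁ < d₀ or n·d₀ < d₋₁, then f is not semistable; that is, there
are no semistable Kronecker modules of dimension vector (d₋₁, d₀). (The published statement assumes
K algebraically closed of characteristic zero and n ≥ 2; this row allows any field K and any number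
n of arrows.) -/
theorem result (K : Type u) [Field K] (V : Type v) (W : Type w)
    [AddCommGroup V] [Module K V] [FiniteDimensional K V]
    [AddCommGroup W] [Module K W] [FiniteDimensional K W]
    (n : ℕ) (f : Fin n → (V →ₗ[K] W))
    (hV : 0 < Module.finrank K V) (hW : 0 < Module.finrank K W)
    (h : n * Module.finrank K V < Module.finrank K W ∨ n * Module.finrank K W < Module.finrank K V) :
    ¬ KronMod.IsSemistable f := by
    intro hs
    rcases h with h | h
    · have h1 := LinearMap.finrank_range_of_inj (f := (LinearMap.id : W →ₗ[K] W)) Function.injective_id
      have h2 := LinearMap.finrank_le_finrank_of_surjective (f := H6Kron.sumMap f) (H6Kron.surj f hs hV)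
      rw [H6Kron.finrank_fin_fun] at h2
      omega
    · have h2 := LinearMap.finrank_le_finrank_of_injective (H6Kron.inj f hs hW)
      rw [H6Kron.finrank_fin_fun] at h2
      omega

end Groth.Agent.S15560
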