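import Groth.Statements.S15562
import Mathlib
import Groth.Agent.Lib.H6.Kron

set_option autoImplicit false
set_option backward.isDefEq.respectTransparency.types false
set_option maxHeartbeats 1000000
set_option linter.all false
universe u v w
open KronMod

namespace Groth.Agent.S15562
open Groth.Agent

/-- Over a field K, for V of dimension d₋₁ > 0 and W of dimension n·d₋₁, semistable Kronecker modules
with n arrows from V to W exist, and any two of them are isomorphic as Kronecker modules; in other
words the moduli space K(n; d₋₁, n·d₋₁) of semistable Kronecker modules is a single point. (The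
published statement assumes K algebraically closed of characteristic zero and n ≥ 2; this row allows
any field K and any number n of arrows.) -/
theorem result (K : Type u) [Field K] (V : Type v) (W : Type w)
    [AddCommGroup V] [Module K V] [FiniteDimensional K V]
    [AddCommGroup W] [Module K W] [FiniteDimensional K W]
    (n : ℕ) (hV : 0 < Module.finrank K V) (hW : Module.finrank K W = n * Module.finrank K V) :
    (∃ f : Fin n → (V →ₗ[K] W), KronMod.IsSemistable f) ∧
    ∀ f f' : Fin n → (V →ₗ[K] W), KronMod.IsSemistable f → KronMod.IsSemistable f' →
      KronMod.AreIso f f' := by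
    classical
    let e : (Fin n → V) ≃ₗ[K] W := LinearEquiv.ofFinrankEq _ _ (by rw [H6Kron.finrank_fin_fun, hW])
    refine ⟨⟨fun j => e.toLinearMap.comp (LinearMap.single K (fun _ => V) j), (H6Kron.ss_iff_sum _ hV hW).2 ?_⟩, fun f f' h h' => ?_⟩
    · have : H6Kron.sumMap (fun j => e.toLinearMap.comp (LinearMap.single K (fun _ => V) j)) = e.toLinearMap := by
        refine LinearMap.pi_ext fun i v => ?_
        rw [H6Kron.sumMap_single]
        rfl
      rw [this]
      exact e.bijective
    · let a := LinearEquiv.ofBijective _ ((H6Kron.ss_iff_sum f hV hW).1 h)
      let a' := LinearEquiv.ofBijective _ ((H6Kron.ss_iff_sum f' hV hW).1 h')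
      refine ⟨LinearEquiv.refl K V, a.symm.trans a', fun j => LinearMap.ext fun v => ?_⟩
      show a' (a.symm (f j v)) = f' j v
      rw [show f j v = a (Pi.single j v) from (H6Kron.sumMap_single f j v).symm, LinearEquiv.symm_apply_apply]
      exact H6Kron.sumMap_single f' j v

end Groth.Agent.S15562
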