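import Groth.Statements.S15564
import Mathlib
import Groth.Agent.Lib.H6.Kron

set_option autoImplicit false
set_option backward.isDefEq.respectTransparency.types false
set_option maxHeartbeats 1000000
set_option linter.all false
universe u v w
open KronMod

namespace Groth.Agent.S15564
open Groth.Agent

/-- For a Kronecker module f with n arrows over a field K between one-dimensional spaces V and W,
semistability, stability and f ≠ 0 are equivalent: the semistable locus and the stable locus of
dimension vector (1, 1) are both the complement of the zero module. (The published statement assumes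
K algebraically closed of characteristic zero and n ≥ 2; this row allows any field K and any n.) -/
theorem result (K : Type u) [Field K] (V : Type v) (W : Type w)
    [AddCommGroup V] [Module K V] [FiniteDimensional K V]
    [AddCommGroup W] [Module K W] [FiniteDimensional K W]
    (n : ℕ) (f : Fin n → (V →ₗ[K] W))
    (hV : Module.finrank K V = 1) (hW : Module.finrank K W = 1) :
    (KronMod.IsSemistable f ↔ f ≠ 0) ∧ (KronMod.IsStable f ↔ f ≠ 0) := by
    have h1 : f ≠ 0 → KronMod.IsStable f := by
      intro hne
      refine ⟨by omega, fun V' W' hs hb ht => ?_⟩
      have hv := Submodule.finrank_le V'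
      have hw := Submodule.finrank_le W'
      rw [hV, hW, one_mul, one_mul]
      by_contra hlt
      rcases Nat.lt_or_ge (Module.finrank K W') 1 with h0 | h0
      · have hW0 : W' = ⊥ := Submodule.finrank_eq_zero.1 (by omega)
        rcases Nat.lt_or_ge (Module.finrank K V') 1 with g0 | g0
        · exact hb ⟨Submodule.finrank_eq_zero.1 (by omega), hW0⟩
        · have hVt : V' = ⊤ := Submodule.eq_top_of_finrank_eq (by omega)
          refine hne (funext fun j => LinearMap.ext fun v => ?_)
          have := hs j ⟨v, by rw [hVt]; trivial, rfl⟩
          rw [hW0, Submodule.mem_bot] at this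
          exact this
      · have hWt : W' = ⊤ := Submodule.eq_top_of_finrank_eq (by omega)
        exact ht ⟨Submodule.eq_top_of_finrank_eq (by omega), hWt⟩
    have h2 : KronMod.IsSemistable f → f ≠ 0 := by
      rintro h rfl
      obtain ⟨w, hw⟩ := Module.finrank_pos_iff_exists_ne_zero.1 (show 0 < Module.finrank K W by omega)
      obtain ⟨v, rfl⟩ := H6Kron.surj _ h (by omega) w
      exact hw (by rw [H6Kron.sumMap_apply]; simp)
    exact ⟨⟨h2, fun h => H6Kron.stable_ss f (h1 h)⟩, fun h => h2 (H6Kron.stable_ss f h), h1⟩

end Groth.Agent.S15564
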