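import Groth.Statements.S19551
import Mathlib

set_option autoImplicit false
set_option backward.isDefEq.respectTransparency.types false
set_option maxHeartbeats 1000000
set_option linter.all false
universe u v w
open KronMod

namespace Groth.Agent.S19551
open Groth.Agent Polynomial

/-- Case of two arrows. Over an algebraically closed field K, if a Kronecker module f = (f_0, f_1) with
two arrows between spaces V and W of the same finite dimension k is semistable, then some linear
combination z_0 f_0 + z_1 f_1 of its arrows is a linear isomorphism V → W: for two arrows the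
semistable locus of dimension vector (k, k) lies in the open set of modules whose generic
combination is invertible, for every k. (The published statement, over an algebraically closed field
of characteristic zero, also covers the dimension vectors (1, 1) and (2, 2) for any number of
arrows; this row states the two-arrow case for all k, without the characteristic assumption.) -/
theorem result (K : Type u) [Field K] [IsAlgClosed K]
    (V : Type v) (W : Type w)
    [AddCommGroup V] [Module K V] [FiniteDimensional K V]
    [AddCommGroup W] [Module K W] [FiniteDimensional K W]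
    (f : Fin 2 → (V →ₗ[K] W)) (k : ℕ)
    (hV : Module.finrank K V = k) (hW : Module.finrank K W = k)
    (hf : KronMod.IsSemistable f) :
    ∃ z : Fin 2 → K, Function.Bijective ((∑ j, z j • f j : V →ₗ[K] W) : V → W) := by
    classical
    obtain ⟨hpos, hss⟩ := hf
    let bV := Module.finBasisOfFinrankEq K V hV
    let bW := Module.finBasisOfFinrankEq K W hW
    by_contra hno
    push Not at hno
    let A : Fin 2 → Matrix (Fin k) (Fin k) K := fun j => LinearMap.toMatrix bV bW (f j)
    let P : Matrix (Fin k) (Fin k) K[X] := (A 0).map (⇑(C : K →+* K[X])) + (X : K[X]) • (A 1).map (⇑(C : K →+* K[X]))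
    have hP : P.det = 0 := Polynomial.funext fun t => by
      rw [Polynomial.eval_zero, ← Polynomial.coe_evalRingHom, RingHom.map_det]
      by_contra hne
      refine hno ![1, t] ?_
      have he : (Polynomial.evalRingHom t).mapMatrix P = LinearMap.toMatrix bV bW (∑ j, ![1, t] j • f j) := by
        ext a b
        simp [P, A, Fin.sum_univ_two, RingHom.mapMatrix_apply, Matrix.map_apply]; ring
      rw [he] at hne
      have hinj : Function.Injective (∑ j, ![1, t] j • f j : V →ₗ[K] W) := by
        rw [← LinearMap.ker_eq_bot, LinearMap.ker_eq_bot']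
        intro v hv
        have h1 := LinearMap.toMatrix_mulVec_repr bV bW (∑ j, ![1, t] j • f j) v
        rw [hv, map_zero, Finsupp.coe_zero] at h1
        exact bV.repr.map_eq_zero_iff.1 (Finsupp.coe_eq_zero.1 (Matrix.eq_zero_of_mulVec_eq_zero hne h1))
      exact ⟨hinj, (LinearMap.injective_iff_surjective_of_finrank_eq_finrank (hV.trans hW.symm)).1 hinj⟩
    obtain ⟨c, hc0, hc⟩ := Matrix.exists_mulVec_eq_zero_iff.2 hP
    let v : ℕ → V := fun i => ∑ a, (c a).coeff i • bV a
    have hvrepr : ∀ i, ⇑(bV.repr (v i)) = fun a => (c a).coeff i := fun i => funext fun a => by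
      simp only [v]
      rw [Module.Basis.repr_sum_self]
    have hA : ∀ j i, ⇑(bW.repr (f j (v i))) = (A j).mulVec fun a => (c a).coeff i := fun j i => by
      rw [← LinearMap.toMatrix_mulVec_repr bV bW (f j) (v i), hvrepr]
    have hsum : ∀ a, ∑ b, (C (A 0 a b) * c b + X * (C (A 1 a b) * c b)) = 0 := fun a => by
      refine Eq.trans ?_ (congrFun hc a)
      simp only [P, Matrix.mulVec, dotProduct, Matrix.add_apply, Matrix.smul_apply, Matrix.map_apply, smul_eq_mul, add_mul, mul_assoc]
    have h00 : f 0 (v 0) = 0 := bW.repr.injective <| DFunLike.coe_injective <| by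
      rw [hA, map_zero]
      funext a
      have := congrArg (fun q : K[X] => q.coeff 0) (hsum a)
      simpa [Polynomial.finsetSum_coeff, Matrix.mulVec, dotProduct] using this
    have hrec : ∀ i, f 0 (v (i + 1)) + f 1 (v i) = 0 := fun i => bW.repr.injective <| DFunLike.coe_injective <| by
      rw [map_add, Finsupp.coe_add, hA, hA, map_zero]
      funext a
      have := congrArg (fun q : K[X] => q.coeff (i + 1)) (hsum a)
      simpa [Polynomial.finsetSum_coeff, Matrix.mulVec, dotProduct, Finset.sum_add_distrib] using this
    let d := Finset.univ.sup fun a => (c a).natDegree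
    have hbig : ∀ i, d < i → v i = 0 := fun i hi => Finset.sum_eq_zero fun a _ => by
      rw [Polynomial.coeff_eq_zero_of_natDegree_lt (lt_of_le_of_lt (Finset.le_sup (f := fun a => (c a).natDegree) (Finset.mem_univ a)) hi), zero_smul]
    obtain ⟨i0, hi0, hi1⟩ : ∃ i0, v i0 ≠ 0 ∧ f 1 (v i0) = 0 := by
      obtain ⟨a, ha⟩ := Function.ne_iff.1 hc0
      have hne : ∃ i, i ≤ d ∧ v i ≠ 0 := by
        refine ⟨(c a).natDegree, Finset.le_sup (f := fun a => (c a).natDegree) (Finset.mem_univ a), fun h0 => ?_⟩
        have := congrFun (hvrepr (c a).natDegree) a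
        rw [h0, map_zero] at this
        exact ha (Polynomial.leadingCoeff_eq_zero.1 this.symm)
      have hg := Nat.findGreatest_spec (P := fun i => v i ≠ 0) hne.choose_spec.1 hne.choose_spec.2
      refine ⟨_, hg, ?_⟩
      have hnext : v (Nat.findGreatest (fun i => v i ≠ 0) d + 1) = 0 := by
        by_cases h : Nat.findGreatest (fun i => v i ≠ 0) d + 1 ≤ d
        · simpa using Nat.findGreatest_is_greatest (P := fun i => v i ≠ 0) (Nat.lt_succ_self _) h
        · exact hbig _ (by omega)
      simpa [hnext] using hrec (Nat.findGreatest (fun i => v i ≠ 0) d)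
    let V' := Submodule.span K (Set.range v)
    let W' := V'.map (f 1)
    have hsub : KronMod.IsSubrep f V' W' := fun j => by
      fin_cases j
      · rw [Submodule.map_span, Submodule.span_le]
        rintro _ ⟨_, ⟨i, rfl⟩, rfl⟩
        rcases i with _ | i
        · simp [h00]
        · show f 0 (v (i + 1)) ∈ W'
          rw [eq_neg_of_add_eq_zero_left (hrec i)]
          exact neg_mem ⟨v i, Submodule.subset_span ⟨i, rfl⟩, rfl⟩
      · exact le_rfl
    have hmem : v i0 ∈ V' := Submodule.subset_span ⟨i0, rfl⟩
    have hlt : Module.finrank K W' < Module.finrank K V' := by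
      let g := (f 1).comp V'.subtype
      have hr : LinearMap.range g = W' := by rw [LinearMap.range_comp, Submodule.range_subtype]
      have h1 := LinearMap.finrank_range_add_finrank_ker g
      have h2 : 0 < Module.finrank K (LinearMap.ker g) := by
        refine Module.finrank_pos_iff_exists_ne_zero.2 ⟨⟨⟨v i0, hmem⟩, hi1⟩, fun h => hi0 ?_⟩
        exact congrArg (fun z : LinearMap.ker g => ((z : V') : V)) h
      rw [← hr]
      omega
    have := hss V' W' hsub (fun h => hi0 (by simpa [h.1] using hmem)) (fun h => by
      rw [h.1, h.2, finrank_top, finrank_top, hV, hW] at hlt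
      exact lt_irrefl _ hlt)
    rw [hV, hW] at this
    have hk : 0 < k := by omega
    exact absurd (Nat.le_of_mul_le_mul_left this hk) (not_le.2 hlt)

end Groth.Agent.S19551
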