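import Groth.Statements.S15565
import Mathlib
import Groth.Agent.Lib.H6.Kron
import Groth.Agent.S19551

set_option autoImplicit false
set_option backward.isDefEq.respectTransparency.types false
set_option maxHeartbeats 1000000
set_option linter.all false
universe u v w
open KronMod

namespace Groth.Agent.S15565
open Groth.Agent

/-- Over an algebraically closed field K, a Kronecker module with two arrows between spaces V and W of
the same dimension k ≥ 2 is never stable: the stable locus of dimension vector (k, k) for the
Kronecker quiver with two arrows is empty. (The published statement also assumes characteristic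
zero; this row does not.) -/
theorem result (K : Type u) [Field K] [IsAlgClosed K] (V : Type v) (W : Type w)
    [AddCommGroup V] [Module K V] [FiniteDimensional K V]
    [AddCommGroup W] [Module K W] [FiniteDimensional K W]
    (f : Fin 2 → (V →ₗ[K] W)) (k : ℕ) (hk : 2 ≤ k)
    (hV : Module.finrank K V = k) (hW : Module.finrank K W = k) :
    ¬ KronMod.IsStable f := by
    intro hst
    have hss := H6Kron.stable_ss f hst
    obtain ⟨z, hz⟩ := S19551.result K V W f k hV hW hss
    let g := LinearEquiv.ofBijective _ hz
    obtain ⟨i0, hi0⟩ : ∃ i, z i ≠ 0 := by
      by_contra hall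
      push Not at hall
      obtain ⟨v, hv⟩ := Module.finrank_pos_iff_exists_ne_zero.1 (show 0 < Module.finrank K V by omega)
      exact hv (hz.1 (by simp [hall]))
    obtain ⟨j0, hj0⟩ : ∃ j : Fin 2, j ≠ i0 := ⟨i0 + 1, by fin_cases i0 <;> decide⟩
    haveI : Nontrivial V := Module.nontrivial_of_finrank_pos (show 0 < Module.finrank K V by omega)
    obtain ⟨c, hc⟩ := Module.End.exists_eigenvalue (g.symm.toLinearMap.comp (f j0) : Module.End K V)
    obtain ⟨v, hv⟩ := Module.End.HasEigenvalue.exists_hasEigenvector hc
    have hfj : f j0 v = c • g v := by
      have := congrArg g hv.apply_eq_smul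
      rw [LinearMap.comp_apply, LinearEquiv.coe_coe, g.apply_symm_apply, map_smul] at this
      exact this
    have hg0 : g v ≠ 0 := fun e => hv.2 (g.injective (e.trans (map_zero g).symm))
    have hsub : KronMod.IsSubrep f (K ∙ v) (K ∙ g v) := by
      intro j
      rw [Submodule.map_span, Set.image_singleton, Submodule.span_singleton_le_iff_mem, Submodule.mem_span_singleton]
      by_cases hj : j = i0
      · subst hj
        refine ⟨(1 - z j0 * c) / z j, ?_⟩
        have hgv : g v = z j • f j v + z j0 • f j0 v := by
          show (∑ i, z i • f i : V →ₗ[K] W) v = _
          fin_cases j <;> fin_cases j0 <;> simp_all [Fin.sum_univ_two, add_comm]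
        rw [hfj, smul_smul] at hgv
        have h3 : z j • f j v = (1 - z j0 * c) • g v := by
          rw [sub_smul, one_smul]; exact eq_sub_of_add_eq hgv.symm
        rw [div_eq_inv_mul, ← smul_smul, ← h3, smul_smul, inv_mul_cancel₀ hi0, one_smul]
      · obtain rfl : j = j0 := by fin_cases j <;> fin_cases j0 <;> fin_cases i0 <;> simp_all
        exact ⟨c, hfj.symm⟩
    have := hst.2 _ _ hsub
      (fun h => by
        have := congrArg (fun X : Submodule K V => Module.finrank K X) h.1
        simp only [finrank_span_singleton hv.2, finrank_bot] at this
        omega)
      (fun h => by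
        have := congrArg (fun X : Submodule K V => Module.finrank K X) h.1
        simp only [finrank_span_singleton hv.2, finrank_top] at this
        omega)
    rw [finrank_span_singleton hv.2, finrank_span_singleton hg0, hV, hW] at this
    omega

end Groth.Agent.S15565
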