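import Groth.Statements.S15566
import Mathlib
import Groth.Agent.Lib.H6.Kron

set_option autoImplicit false
set_option backward.isDefEq.respectTransparency.types false
set_option maxHeartbeats 1000000
set_option linter.all false
universe u v w
open KronMod

namespace Groth.Agent.S15566
open Groth.Agent

/-- Case of dimension vector (2, 2). Over an algebraically closed field K, if a Kronecker module f with
n arrows between two-dimensional spaces V and W is semistable, then some linear combination Σ_j z_j
f_j of its arrows is a linear isomorphism V → W (equivalently, the determinant of the generic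
combination is not identically zero): the semistable locus of dimension vector (2, 2) lies in the
open set of modules whose generic combination is invertible. (The published statement, over an
algebraically closed field of characteristic zero, covers dimension vectors (1, 1) and (2, 2) for
every n ≥ 2 and (k, k) for two arrows; this row states the (2, 2) case, for any n and without the
characteristic assumption.) -/
theorem result (K : Type u) [Field K] [IsAlgClosed K] (V : Type v) (W : Type w)
    [AddCommGroup V] [Module K V] [FiniteDimensional K V]
    [AddCommGroup W] [Module K W] [FiniteDimensional K W]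
    (n : ℕ) (f : Fin n → (V →ₗ[K] W))
    (hV : Module.finrank K V = 2) (hW : Module.finrank K W = 2)
    (hf : KronMod.IsSemistable f) :
    ∃ z : Fin n → K, Function.Bijective ((∑ j, z j • f j : V →ₗ[K] W) : V → W) := by
    classical
    by_contra hno
    push Not at hno
    have hcomb : ∀ z : Fin n → K, ¬ Function.Injective ((∑ j, z j • f j : V →ₗ[K] W) : V → W) := fun z h =>
      hno z ⟨h, (LinearMap.injective_iff_surjective_of_finrank_eq_finrank (hV.trans hW.symm)).1 h⟩
    have hone : ∀ i, ((∑ j, (Pi.single i 1 : Fin n → K) j • f j) : V →ₗ[K] W) = f i := fun i => by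
      rw [Finset.sum_eq_single i (fun j _ h => by rw [Pi.single_eq_of_ne h, zero_smul]) (by simp), Pi.single_eq_same, one_smul]
    have hrk : ∀ i, f i ≠ 0 → Module.finrank K (LinearMap.ker (f i)) = 1 ∧ Module.finrank K (LinearMap.range (f i)) = 1 := by
      intro i hi
      have h1 := LinearMap.finrank_range_add_finrank_ker (f i)
      have hk : LinearMap.ker (f i) ≠ ⊥ := fun e => hcomb (Pi.single i 1) (by rw [hone]; exact LinearMap.ker_eq_bot.1 e)
      have hr : LinearMap.range (f i) ≠ ⊥ := fun e => hi (LinearMap.range_eq_bot.1 e)
      have := Submodule.finrank_eq_zero.not.2 hk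
      have := Submodule.finrank_eq_zero.not.2 hr
      omega
    have hlineV : ∀ (A B : Submodule K V) (x : V),
        Module.finrank K A = 1 → Module.finrank K B = 1 → x ∈ A → x ∈ B → x ≠ 0 → A = B := by
      intro A B x hA hB hxA hxB hx
      haveI := Module.finite_of_finrank_eq_succ hA
      haveI := Module.finite_of_finrank_eq_succ hB
      rw [← Submodule.eq_of_le_of_finrank_eq ((Submodule.span_singleton_le_iff_mem x A).2 hxA) (by rw [finrank_span_singleton hx, hA])]
      exact Submodule.eq_of_le_of_finrank_eq ((Submodule.span_singleton_le_iff_mem x B).2 hxB) (by rw [finrank_span_singleton hx, hB])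
    have hlineW : ∀ (A B : Submodule K W) (x : W),
        Module.finrank K A = 1 → Module.finrank K B = 1 → x ∈ A → x ∈ B → x ≠ 0 → A = B := by
      intro A B x hA hB hxA hxB hx
      haveI := Module.finite_of_finrank_eq_succ hA
      haveI := Module.finite_of_finrank_eq_succ hB
      rw [← Submodule.eq_of_le_of_finrank_eq ((Submodule.span_singleton_le_iff_mem x A).2 hxA) (by rw [finrank_span_singleton hx, hA])]
      exact Submodule.eq_of_le_of_finrank_eq ((Submodule.span_singleton_le_iff_mem x B).2 hxB) (by rw [finrank_span_singleton hx, hB])
    have hpair : ∀ i j, f i ≠ 0 → f j ≠ 0 → LinearMap.ker (f i) = LinearMap.ker (f j) ∨ LinearMap.range (f i) = LinearMap.range (f j) := by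
      intro i j hi hj
      by_contra hne
      push Not at hne
      have hij : i ≠ j := fun e => hne.1 (by rw [e])
      refine hcomb (Pi.single i 1 + Pi.single j 1) ?_
      have hsum : (∑ k, ((Pi.single i 1 + Pi.single j 1 : Fin n → K)) k • f k) = f i + f j := by
        simp only [Pi.add_apply, add_smul, Finset.sum_add_distrib, hone]
      rw [hsum, ← LinearMap.ker_eq_bot, LinearMap.ker_eq_bot']
      intro x hx
      rw [LinearMap.add_apply] at hx
      have h0 : f i x = 0 := by
        by_contra hne0
        refine hne.2 (hlineW _ _ (f i x) (hrk i hi).2 (hrk j hj).2 ⟨x, rfl⟩ ⟨-x, ?_⟩ hne0)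
        rw [map_neg, eq_neg_of_add_eq_zero_left hx]
      have h0' : f j x = 0 := by rw [h0, zero_add] at hx; exact hx
      by_contra hx0
      exact hne.1 (hlineV _ _ x (hrk i hi).1 (hrk j hj).1 h0 h0' hx0)
    obtain ⟨i0, hi0⟩ : ∃ i, f i ≠ 0 := by
      by_contra hall
      push Not at hall
      obtain ⟨w, hw⟩ := Module.finrank_pos_iff_exists_ne_zero.1 (show 0 < Module.finrank K W by omega)
      obtain ⟨v, rfl⟩ := H6Kron.surj _ hf (by omega) w
      exact hw (by rw [H6Kron.sumMap_apply]; simp [hall])
    by_cases hcase : ∀ i, f i ≠ 0 → LinearMap.ker (f i) = LinearMap.ker (f i0)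
    · have hinj := H6Kron.inj f hf (by omega)
      obtain ⟨x, hx⟩ := Module.finrank_pos_iff_exists_ne_zero.1 (show 0 < Module.finrank K (LinearMap.ker (f i0)) by rw [(hrk i0 hi0).1]; omega)
      refine hx (Subtype.ext (hinj (Eq.trans ?_ (map_zero _).symm)))
      funext i
      by_cases hi : f i = 0
      · simp [hi]
      · exact show (x : V) ∈ LinearMap.ker (f i) by rw [hcase i hi]; exact x.2
    · push Not at hcase
      obtain ⟨i1, hi1, hk1⟩ := hcase
      have hr1 := (hpair i1 i0 hi1 hi0).resolve_left hk1
      have hall : ∀ i, LinearMap.range (f i) ≤ LinearMap.range (f i0) := by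
        intro i
        by_cases hi : f i = 0
        · simp [hi]
        · rcases hpair i i0 hi hi0 with h | h
          · rcases hpair i i1 hi hi1 with h' | h'
            · exact absurd (h'.symm.trans h) hk1
            · exact (h'.trans hr1).le
          · exact h.le
      have hsurj := H6Kron.surj f hf (by omega)
      have htop : LinearMap.range (f i0) = ⊤ := by
        rw [eq_top_iff]
        intro w _
        obtain ⟨v, rfl⟩ := hsurj w
        rw [H6Kron.sumMap_apply]
        exact sum_mem fun j _ => hall j ⟨v j, rfl⟩
      have := (hrk i0 hi0).2
      rw [htop, finrank_top, hW] at this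
      omega

end Groth.Agent.S15566
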