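import Groth.Statements.S15569
import Mathlib
import Groth.Agent.Lib.H6.Kron

set_option autoImplicit false
set_option backward.isDefEq.respectTransparency.types false
set_option maxHeartbeats 1000000
set_option linter.all false
universe u v w
open KronMod

namespace Groth.Agent.S15569
open Groth.Agent

/-- Over a field K, for W of dimension d₀ > 0 and V of dimension n·d₀, semistable Kronecker modules with
n arrows from V to W exist, and any two of them are isomorphic as Kronecker modules: the moduli
space K(n; n·d₀, d₀) is a single point. This is the case dual to dimension vector (d₋₁, n·d₋₁). (The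
published statement assumes K algebraically closed of characteristic zero and n ≥ 2; this row allows
any field K and any number n of arrows.) -/
theorem result (K : Type u) [Field K] (V : Type v) (W : Type w)
    [AddCommGroup V] [Module K V] [FiniteDimensional K V]
    [AddCommGroup W] [Module K W] [FiniteDimensional K W]
    (n : ℕ) (hW : 0 < Module.finrank K W) (hV : Module.finrank K V = n * Module.finrank K W) :
    (∃ f : Fin n → (V →ₗ[K] W), KronMod.IsSemistable f) ∧
    ∀ f f' : Fin n → (V →ₗ[K] W), KronMod.IsSemistable f → KronMod.IsSemistable f' →
      KronMod.AreIso f f' := by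
    classical
    let e : V ≃ₗ[K] (Fin n → W) := LinearEquiv.ofFinrankEq _ _ (by rw [H6Kron.finrank_fin_fun, hV])
    refine ⟨⟨fun j => (LinearMap.proj j).comp e.toLinearMap, (H6Kron.ss_iff_pi _ hW hV).2 e.bijective⟩, fun f f' h h' => ?_⟩
    let a := LinearEquiv.ofBijective _ ((H6Kron.ss_iff_pi f hW hV).1 h)
    let a' := LinearEquiv.ofBijective _ ((H6Kron.ss_iff_pi f' hW hV).1 h')
    refine ⟨a.trans a'.symm, LinearEquiv.refl K W, fun j => LinearMap.ext fun v => ?_⟩
    show f j v = f' j (a'.symm (a v))
    exact (congrFun (a'.apply_symm_apply (a v)) j).symm

end Groth.Agent.S15569
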