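import Groth.Statements.S15579
import Mathlib
import Groth.Prelude.Def_W4c2azumayainvolQEt

set_option autoImplicit false
universe u v
open RInv

namespace Groth.Agent.S15579
open AlgebraicGeometry CategoryTheory Limits TopologicalSpace

/-- For a local ring `S` with maximal ideal `m` and a quadratic etale `S`-algebra `R`, the Jacobson
radical of `R` is `mR`. -/
theorem result (S : Type u) (R : Type v) [CommRing S]
    [CommRing R] [Algebra S R] [IsLocalRing S] (hq : RInv.IsQuadEtale S R) :
    Ring.jacobson R = (IsLocalRing.maximalIdeal S).map (algebraMap S R) := by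
  obtain ⟨h1, -, h3, -⟩ := hq
  haveI := h1; haveI := h3
  let J := (IsLocalRing.maximalIdeal S).map (algebraMap S R)
  letI := Ideal.Quotient.field (IsLocalRing.maximalIdeal S)
  refine le_antisymm ?_ ?_
  · haveI : Module.Finite (S ⧸ IsLocalRing.maximalIdeal S) (R ⧸ J) := Module.Finite.of_restrictScalars_finite S _ _
    haveI : Algebra.FormallyUnramified S (R ⧸ J) := Algebra.FormallyUnramified.of_surjective (Ideal.Quotient.mkₐ S J) Ideal.Quotient.mk_surjective
    haveI : Algebra.FormallyUnramified (S ⧸ IsLocalRing.maximalIdeal S) (R ⧸ J) := Algebra.FormallyUnramified.of_restrictScalars S _ _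
    haveI : IsReduced (R ⧸ J) := Algebra.FormallyUnramified.isReduced_of_field (S ⧸ IsLocalRing.maximalIdeal S) _
    haveI : IsArtinianRing (R ⧸ J) := IsArtinianRing.of_finite (S ⧸ IsLocalRing.maximalIdeal S) _
    intro x hx
    rw [← Ideal.Quotient.eq_zero_iff_mem]
    have hmem : Ideal.Quotient.mk J x ∈ (⊥ : Ideal (R ⧸ J)).jacobson := by
      simp only [Ideal.jacobson, Ideal.mem_sInf, Set.mem_setOf_eq]
      rintro M ⟨-, hM⟩
      rw [Ring.jacobson_eq_sInf_isMaximal, Ideal.mem_sInf] at hx
      exact hx (Ideal.comap_isMaximal_of_surjective (Ideal.Quotient.mk J) Ideal.Quotient.mk_surjective)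
    rw [IsArtinianRing.jacobson_eq_radical] at hmem
    obtain ⟨k, hk⟩ := hmem
    exact IsReduced.eq_zero _ ⟨k, hk⟩
  · rw [Ring.jacobson_eq_sInf_isMaximal]
    refine le_sInf fun M (hM : M.IsMaximal) => Ideal.map_le_iff_le_comap.2 ?_
    rw [IsLocalRing.eq_maximalIdeal (Ideal.isMaximal_comap_of_isIntegral_of_isMaximal (R := S) M)]

end Groth.Agent.S15579
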