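import Mathlib
import Groth.Statements.S15590
-- import your own Groth.Agent.* helpers here

set_option autoImplicit false
universe u v
open CAlg

namespace Groth.Agent.S15590

/-- Let A → B be an injective homomorphism of commutative rings which makes B a finite flat A-module,
and suppose B is a Dedekind domain (Noetherian, integrally closed, of Krull dimension at most one; a
field is allowed). Then A is a Dedekind domain. -/
theorem result (A : Type u) (B : Type v)
    [CommRing A] [CommRing B] [Algebra A B] [IsDedekindDomain B]
    (hinj : Function.Injective (algebraMap A B)) [Module.Finite A B] [Module.Flat A B] :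
    IsDedekindDomain A := by
  haveI : IsDomain A := hinj.isDomain (algebraMap A B)
  haveI : FaithfulSMul A B := (faithfulSMul_iff_algebraMap_injective A B).2 hinj
  haveI : Module.FaithfullyFlat A B := inferInstance
  rw [isDedekindDomain_iff A (FractionRing A)]
  refine ⟨inferInstance, ?_, ⟨fun {p} hp hprime => ?_⟩, fun {x} hx => ?_⟩
  · have hs : StrictMono (fun I : Ideal A => I.map (algebraMap A B)) :=
      Monotone.strictMono_of_injective (fun I J h => Ideal.map_mono h) Ideal.map_injective_of_faithfullyFlat
    haveI : WellFoundedGT (Ideal A) := hs.wellFoundedGT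
    exact isNoetherian_mk this
  · obtain ⟨P, hP, hPo⟩ := Ideal.exists_isPrime_liesOver_of_faithfullyFlat (B := B) p
    have hne : P ≠ ⊥ := by
      rintro rfl
      apply hp
      rw [hPo.over]
      exact (RingHom.injective_iff_ker_eq_bot _).1 hinj
    haveI := hP.isMaximal hne
    rw [hPo.over]
    exact Ideal.isMaximal_comap_of_isIntegral_of_isMaximal P
  · have hg : Function.Injective ((algebraMap B (FractionRing B)).comp (algebraMap A B)) :=
      (IsFractionRing.injective B (FractionRing B)).comp hinj
    have hy : IsIntegral B (IsFractionRing.lift (K := FractionRing A) hg x) :=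
      hx.map_of_comp_eq (algebraMap A B) _ (by ext a; simp [IsFractionRing.lift_algebraMap])
    obtain ⟨y, hy⟩ := (isIntegrallyClosed_iff (FractionRing B)).1 inferInstance hy
    obtain ⟨a, b, hb, rfl⟩ := IsFractionRing.div_surjective (A := A) x
    have hb0 : b ≠ 0 := nonZeroDivisors.ne_zero hb
    have he : algebraMap A B a = algebraMap A B b * y := by
      apply IsFractionRing.injective B (FractionRing B)
      rw [map_mul, hy, map_div₀, IsFractionRing.lift_algebraMap, IsFractionRing.lift_algebraMap]
      simp only [RingHom.comp_apply]
      rw [mul_div_cancel₀]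
      rw [ne_eq, IsFractionRing.to_map_eq_zero_iff, map_eq_zero_iff _ hinj]
      exact hb0
    have hm : a ∈ ((Ideal.span {b}).map (algebraMap A B)).comap (algebraMap A B) := by
      rw [Ideal.mem_comap, Ideal.map_span, Set.image_singleton, Ideal.mem_span_singleton]
      exact ⟨y, he⟩
    rw [Ideal.comap_map_eq_self_of_faithfullyFlat, Ideal.mem_span_singleton] at hm
    obtain ⟨c, rfl⟩ := hm
    exact ⟨c, by rw [map_mul, mul_div_cancel_left₀ _ (by simpa [IsFractionRing.to_map_eq_zero_iff] using hb0)]⟩

end Groth.Agent.S15590
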