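import Mathlib
import Groth.Statements.S15594
-- import your own Groth.Agent.* helpers here

set_option autoImplicit false
universe u
open TensorProduct
open AGF

namespace Groth.Agent.S15594

/-- Affine form. Let k ⊆ K be a field extension, A a commutative k-algebra and S a set of k-algebra
homomorphisms A → k (rational points of Spec A). The ideal ⋂_{σ ∈ S} ker σ cuts out the Zariski
closure of S with its reduced structure, and its extension to K ⊗_k A equals ⋂_{σ ∈ S} ker σ_K,
where σ_K : K ⊗_k A → K is the K-algebra map induced by σ. In words: the closure of a set of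
rational points is formed compatibly with extension of the ground field. (The published statement is
for schemes locally of finite type; this affine row assumes no finiteness, which the argument does
not use.) -/
theorem result (k K A : Type u) [Field k] [Field K] [Algebra k K]
    [CommRing A] [Algebra k A] (S : Set (A →ₐ[k] k)) :
    Ideal.map (Algebra.TensorProduct.includeRight : A →ₐ[k] K ⊗[k] A) (⨅ σ ∈ S, RingHom.ker σ) =
      ⨅ σ ∈ S, RingHom.ker ((Algebra.TensorProduct.rid k K K).toAlgHom.comp
        (Algebra.TensorProduct.map (AlgHom.id K K) σ)) := by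
  classical
  let b := Module.Free.chooseBasis k K
  let e := TensorProduct.equivFinsuppOfBasisLeft (N := A) b
  have hev : ∀ (σ : A →ₐ[k] k) (m : _ →₀ A), ((Algebra.TensorProduct.rid k K K).toAlgHom.comp
      (Algebra.TensorProduct.map (AlgHom.id K K) σ)) (e.symm m) = m.sum fun j a => σ a • b j := by
    intro σ m
    rw [TensorProduct.equivFinsuppOfBasisLeft_symm_apply, map_finsuppSum]
    refine Finsupp.sum_congr fun j _ => ?_
    simp [Algebra.smul_def, mul_comm]
  apply le_antisymm
  · rw [Ideal.map_le_iff_le_comap]
    intro a ha
    simp only [Ideal.mem_iInf, RingHom.mem_ker] at ha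
    simp only [Ideal.mem_comap, Ideal.mem_iInf, RingHom.mem_ker]
    intro σ hσ
    simp [ha σ hσ]
  · intro z hz
    simp only [Ideal.mem_iInf, RingHom.mem_ker] at hz
    obtain ⟨m, rfl⟩ : ∃ m, e.symm m = z := ⟨e z, e.symm_apply_apply z⟩
    rw [TensorProduct.equivFinsuppOfBasisLeft_symm_apply]
    refine Ideal.sum_mem _ fun j hj => ?_
    have hm : m j ∈ (⨅ σ ∈ S, RingHom.ker σ : Ideal A) := by
      simp only [Ideal.mem_iInf, RingHom.mem_ker]
      intro σ hσ
      have h1 := hz σ hσ
      rw [hev σ m] at h1
      have h2 := congrArg (fun w => b.repr w j) h1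
      by_cases hmj : m j = 0
      · rw [hmj, map_zero]
      · exact (show ¬m j = 0 → σ (m j) = 0 by simpa [Finsupp.sum, Finset.sum_apply', Finsupp.single_apply] using h2) hmj
    show b j ⊗ₜ[k] m j ∈ _
    rw [show b j ⊗ₜ[k] m j = (b j ⊗ₜ[k] (1 : A)) * (Algebra.TensorProduct.includeRight : A →ₐ[k] TensorProduct k K A) (m j) by simp]
    exact Ideal.mul_mem_left _ _ (Ideal.mem_map_of_mem _ hm)

end Groth.Agent.S15594
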