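import Groth.Statements.S1560
import Groth.Agent.S4366
import Groth.Agent.Lib.H9PerfectReduced

set_option autoImplicit false
set_option backward.isDefEq.respectTransparency.types false
universe u
open CategoryTheory CategoryTheory.Limits AlgebraicGeometry
open Variety

namespace Groth.Agent.S1560

/-- Let X be a scheme over a perfect field k and x a point whose local ring is reduced. Then X is
geometrically reduced at x. -/
theorem result (k : Type u) [Field k] (X : Scheme.{u}) [X.Over (Spec (CommRingCat.of k))] [PerfectField k] (x : X)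
    [IsReduced (X.presheaf.stalk x)] : Curv2.IsGeomReducedAt k X x := by
  intro k' _ _ x' hx'
  haveI : IsReduced (Spec (X.presheaf.stalk x)) := by
    haveI : _root_.IsReduced (X.presheaf.stalk x) := ‹_›
    infer_instance
  haveI : IsReduced (pullback (X.fromSpecStalk x ≫ (X ↘ Spec (CommRingCat.of k))) (Spec.map (CommRingCat.ofHom (algebraMap k k')))) :=
    Groth.Agent.H9PerfectReduced.isReduced_pullback (Iso.refl _) _ _
  haveI : IsReduced (pullback (Curv2.bcFst k X k') (X.fromSpecStalk x)) :=
    isReduced_of_isOpenImmersion ((pullbackSymmetry (Curv2.bcFst k X k') (X.fromSpecStalk x)) ≪≫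
      pullbackRightPullbackFstIso (X ↘ Spec (CommRingCat.of k)) (Spec.map (CommRingCat.ofHom (algebraMap k k'))) (X.fromSpecStalk x)).hom
  obtain ⟨t, ht, -⟩ := Scheme.Pullback.exists_preimage_pullback (f := Curv2.bcFst k X k') (g := X.fromSpecStalk x) x'
    (IsLocalRing.closedPoint (X.presheaf.stalk x)) (hx'.trans Scheme.fromSpecStalk_closedPoint.symm)
  haveI := Groth.Agent.S4366.result (Curv2.bcFst k X k') x t
  let e := asIso ((pullback.fst (Curv2.bcFst k X k') (X.fromSpecStalk x)).stalkMap t)
  have hr : _root_.IsReduced ((Curv2.bc k X k').presheaf.stalk (pullback.fst (Curv2.bcFst k X k') (X.fromSpecStalk x) t)) :=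
    isReduced_of_injective e.hom.hom e.commRingCatIsoToRingEquiv.injective
  rwa [ht] at hr

end Groth.Agent.S1560
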