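import Groth.Statements.S1563
import Groth.Agent.Lib.H8Translate
import Groth.Agent.Lib.RegularLocalSerre

set_option autoImplicit false
universe u
open CategoryTheory CategoryTheory.Limits AlgebraicGeometry
open Variety

namespace Groth.Agent.S1563

open IsLocalRing in
theorem regular_of_flat_local {R A : Type u} [CommRing R] [IsLocalRing R] [CommRing A] [IsRegularLocalRing A]
    [Algebra R A] [IsLocalHom (algebraMap R A)] [Module.Flat R A] : IsRegularLocalRing R := by
  haveI : Module.FaithfullyFlat R A := Module.FaithfullyFlat.of_flat_of_isLocalHom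
  haveI : IsNoetherianRing R := by
    have : StrictMono (Ideal.map (algebraMap R A)) :=
      Monotone.strictMono_of_injective (fun _ _ h => Ideal.map_mono h) Ideal.map_injective_of_faithfullyFlat
    exact isNoetherianRing_iff.2 (isNoetherian_iff'.2 this.wellFoundedGT)
  exact RegLocal.regular_of_flat (S := A)

/-- Geometric regularity descends along a morphism f of locally Noetherian k-schemes which is flat at
the point x (the map of local rings at x is flat): if X has it at x then Y has it at f(x). -/
theorem result (k : Type u) [Field k] (X Y : Scheme.{u}) [X.Over (Spec (CommRingCat.of k))] [Y.Over (Spec (CommRingCat.of k))]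
    [IsLocallyNoetherian X] [IsLocallyNoetherian Y] (f : X ⟶ Y) (hf : f ≫ (Y ↘ (Spec (CommRingCat.of k))) = X ↘ (Spec (CommRingCat.of k)))
    (x : X) (hflat : (f.stalkMap x).hom.Flat) (hx : Curv2.IsGeomRegularAt k X x) :
    Curv2.IsGeomRegularAt k Y (f.base x) := by
  intro k' _ _ hfg y' hy'
  let sY := Y ↘ Spec (CommRingCat.of k)
  let sX := X ↘ Spec (CommRingCat.of k)
  let t : Spec (CommRingCat.of k') ⟶ Spec (CommRingCat.of k) := Spec.map (CommRingCat.ofHom (algebraMap k k'))
  let gK : Limits.pullback sX t ⟶ Limits.pullback sY t :=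
    Limits.pullback.map sX t sY t f (𝟙 _) (𝟙 _) (by rw [Category.comp_id, hf]) (by simp)
  have hK1 : gK ≫ Limits.pullback.fst sY t = Limits.pullback.fst sX t ≫ f := Limits.pullback.lift_fst _ _ _
  have hK2 : gK ≫ Limits.pullback.snd sY t = Limits.pullback.snd sX t :=
    (Limits.pullback.lift_snd _ _ _).trans (Category.comp_id _)
  have sqK : IsPullback (Limits.pullback.fst sX t) gK f (Limits.pullback.fst sY t) := by
    refine IsPullback.of_bot ?_ hK1.symm (IsPullback.of_hasPullback sY t)
    rw [hK2, hf]
    exact IsPullback.of_hasPullback _ _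
  obtain ⟨x', h1, h2⟩ := Scheme.exists_preimage_of_isPullback sqK x y' hy'.symm
  haveI := hx k' hfg x' h1
  have hflatK : (gK.stalkMap x').hom.Flat := H8Translate.flat_stalk_of_isPullback sqK x' (by rw [h1]; exact hflat)
  subst h2
  algebraize [(gK.stalkMap x').hom]
  haveI : Module.Flat ((Limits.pullback sY t).presheaf.stalk (gK x')) ((Limits.pullback sX t).presheaf.stalk x') := hflatK
  haveI : IsLocalHom (algebraMap ((Limits.pullback sY t).presheaf.stalk (gK x')) ((Limits.pullback sX t).presheaf.stalk x')) :=
    gK.toLRSHom.prop x'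
  exact regular_of_flat_local (A := (Limits.pullback sX t).presheaf.stalk x')

end Groth.Agent.S1563
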