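import Groth.Statements.S15706
import Mathlib
import Groth.Agent.Lib.H2Decay

set_option autoImplicit false
universe u
open CAlg

namespace Groth.Agent.S15706
open scoped TensorProduct
set_option linter.style.haveILetI false

/-- Let A be a Noetherian ring with Serre's property (S_1), stated here in the equivalent form that
every associated prime of A is a minimal prime of A. Let I be an ideal of A and b an element of A/I
which is regular (a non-zero-divisor) in A/I. Then b is the image of a regular element of A. -/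
theorem result (A : Type u) [CommRing A]
    [IsNoetherianRing A] (hS1 : ∀ p ∈ associatedPrimes A A, p ∈ minimalPrimes A) (I : Ideal A)
    (b : A ⧸ I) (hb : b ∈ nonZeroDivisors (A ⧸ I)) :
    ∃ a : A, a ∈ nonZeroDivisors A ∧ Ideal.Quotient.mk I a = b := by
  classical
  obtain ⟨a, rfl⟩ := Ideal.Quotient.mk_surjective b
  have hfin := minimalPrimes.finite_of_isNoetherianRing A
  let T := hfin.toFinset
  have hI : ∀ P ∈ T, I ≤ P → a ∉ P := by
    intro P hP hIP haP
    have hPmin : P ∈ I.minimalPrimes :=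
      ⟨⟨(hfin.mem_toFinset.1 hP).1.1, hIP⟩, fun Q hQ hQP => (hfin.mem_toFinset.1 hP).2 ⟨hQ.1, bot_le⟩ hQP⟩
    have hmin' : P.map (Ideal.Quotient.mk I) ∈ minimalPrimes (A ⧸ I) := by
      have h1 : P = (P.map (Ideal.Quotient.mk I)).comap (Ideal.Quotient.mk I) := by
        rw [Ideal.comap_map_of_surjective _ Ideal.Quotient.mk_surjective, ← RingHom.ker_eq_comap_bot, Ideal.mk_ker, sup_eq_left.2 hIP]
      haveI := hPmin.1.1
      refine ⟨⟨Ideal.map_isPrime_of_surjective Ideal.Quotient.mk_surjective (by rw [Ideal.mk_ker]; exact hIP), bot_le⟩, fun Q hQ hQP => ?_⟩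
      haveI := hQ.1
      have h2 := hPmin.2 ⟨Ideal.comap_isPrime (Ideal.Quotient.mk I) Q, fun x hx => by
        show Ideal.Quotient.mk I x ∈ Q
        rw [Ideal.Quotient.eq_zero_iff_mem.2 hx]; exact Ideal.zero_mem _⟩ (h1 ▸ Ideal.comap_mono hQP)
      exact Ideal.map_le_iff_le_comap.2 h2
    exact Set.disjoint_left.1 (Ideal.disjoint_nonZeroDivisors_of_mem_minimalPrimes hmin') (Ideal.mem_map_of_mem _ haP) hb
  let T1 := T.filter fun P => a ∈ P
  obtain ⟨T2, hT2⟩ : ∃ T2 : Finset (Ideal A), T2 = T.filter fun P => a ∉ P := ⟨_, rfl⟩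
  obtain ⟨U, hU⟩ : ∃ U : Ideal A, U = ∏ P ∈ T2, P := ⟨_, rfl⟩
  let J : Ideal A := I * U
  obtain ⟨c, hcJ, hc⟩ : ∃ c ∈ J, ∀ P ∈ T1, c ∉ P := by
    by_contra hcon
    push Not at hcon
    have hsub : (J : Set A) ⊆ ⋃ P ∈ (T1 : Set (Ideal A)), (P : Set A) := fun c hc => by
      obtain ⟨P, hP, h⟩ := hcon c hc
      exact Set.mem_iUnion₂.2 ⟨P, hP, h⟩
    obtain ⟨P, hP, hJP⟩ := (Ideal.subset_union_prime (f := id) ⊥ ⊥ fun P hP _ _ => ((hfin.mem_toFinset.1 (Finset.mem_filter.1 hP).1).1.1 : P.IsPrime)).1 hsub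
    obtain ⟨hPT, haP⟩ := Finset.mem_filter.1 hP
    haveI hPp : P.IsPrime := (hfin.mem_toFinset.1 hPT).1.1
    rcases hPp.mul_le.1 hJP with h | h
    · exact hI P hPT h haP
    · rw [hU] at h
      obtain ⟨Q, hQ, hQP⟩ := (Ideal.IsPrime.prod_le hPp).1 h
      rw [hT2] at hQ
      obtain ⟨hQT, haQ⟩ := Finset.mem_filter.1 hQ
      exact haQ ((hfin.mem_toFinset.1 hPT).2 (hfin.mem_toFinset.1 hQT).1 hQP haP)
  refine ⟨a + c, ?_, ?_⟩
  · by_contra hnz
    have h1 : a + c ∈ ⋃ p ∈ associatedPrimes A A, (p : Set A) := by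
      rw [biUnion_associatedPrimes_eq_compl_nonZeroDivisors]; exact hnz
    obtain ⟨P, hP, hac⟩ := Set.mem_iUnion₂.1 h1
    have hPT : P ∈ T := hfin.mem_toFinset.2 (hS1 P hP)
    by_cases haP : a ∈ P
    · exact hc P (Finset.mem_filter.2 ⟨hPT, haP⟩) ((Ideal.add_mem_iff_right P haP).1 hac)
    · haveI hPp : P.IsPrime := hP.isPrime
      have hc2 : c ∈ U := Ideal.mul_le_right (I := I) (J := U) hcJ
      have hle : U ≤ P := by
        rw [hU]
        exact Ideal.le_of_dvd (Finset.dvd_prod_of_mem (fun Q : Ideal A => Q) (by rw [hT2]; exact Finset.mem_filter.2 ⟨hPT, haP⟩))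
      exact haP ((Ideal.add_mem_iff_left P (hle hc2)).1 hac)
  · rw [map_add, Ideal.Quotient.eq_zero_iff_mem.2 (Ideal.mul_le_left (I := I) (J := U) hcJ), add_zero]

end Groth.Agent.S15706
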