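import Groth.Statements.S15717
import Mathlib
import Groth.Agent.Lib.H2DepthMore
import Groth.Prelude.Def_DRing3

set_option autoImplicit false
universe u
open CAlg

namespace Groth.Agent.S15717
set_option linter.style.haveILetI false
open TensorProduct RingTheory.Sequence Groth.Agent.H2Depth Groth.Agent.H2DepthMore
open scoped Pointwise

/-- Let R be a Cohen–Macaulay local ring and I an ideal of R with R/I equidimensional (all minimal
primes p over I have the same dim R/p). Then there is a regular sequence r_1, ..., r_n in I such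
that the closed subscheme V(r_1, ..., r_n) of Spec R, a local complete intersection, contains V(I),
has the same dimension as V(I), and has the irreducible components of V(I) among its irreducible
components: dim R/(r_1, ..., r_n) = dim R/I and every minimal prime over I is a minimal prime over
(r_1, ..., r_n). The sequence is asked to be weakly regular (each r_i a non-zero-divisor modulo the
previous ones), which for I proper is the same as regular and which also covers I = R with the
sequence (1). -/
theorem result (R : Type u) [CommRing R]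
    [LocCoh.IsCohenMacaulayLocalRing R] (I : Ideal R)
    (hI : ∀ p ∈ I.minimalPrimes, ringKrullDim (R ⧸ p) = ringKrullDim (R ⧸ I)) :
    ∃ rs : List R, RingTheory.Sequence.IsWeaklyRegular R rs ∧ Ideal.ofList rs ≤ I ∧
      ringKrullDim (R ⧸ Ideal.ofList rs) = ringKrullDim (R ⧸ I) ∧
      I.minimalPrimes ⊆ (Ideal.ofList rs).minimalPrimes := by
  have hM := LocCoh.IsCohenMacaulayLocalRing.supportDim_eq_depth (R := R)
  have htop : ∀ J : Ideal R, J • (⊤ : Submodule R R) = J := fun J => by rw [Ideal.smul_eq_mul, Ideal.mul_top]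
  obtain ⟨xs, h1, h2, h3, h4⟩ := exists_idealDepth_eq (smul_top_ne_top (M := R) (le_refl (IsLocalRing.maximalIdeal R)))
  have hd : Module.supportDim R R = ((xs.length : ℕ) : WithBot ℕ∞) := by
    rw [hM, LocCoh.depth, h4]; rfl
  by_cases hIt : I = ⊤
  · -- take a full system: `I = ⊤` has no minimal primes, use the unit `1`
    subst hIt
    refine ⟨[1], ?_, le_top, ?_, ?_⟩
    · rw [isWeaklyRegular_singleton_iff]; exact fun a b h => by simpa using h
    · rw [Ideal.ofList_singleton, Ideal.span_singleton_one]
    · simp [Ideal.minimalPrimes_top]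
  obtain ⟨rs, hrs, hmem, hle, -, hq1, hq2⟩ := exists_seq_cm hd ⟨xs, rfl, h1, h2⟩ (IsLocalRing.le_maximalIdeal hIt)
  rw [Module.supportDim_eq_of_equiv (Submodule.quotEquivOfEq _ _ (htop _)), Module.supportDim_quotient_eq_ringKrullDim] at hq1 hq2
  have hsub : Ideal.ofList rs ≤ I := Ideal.span_le.2 hmem
  refine ⟨rs, hrs, hsub, hq1.trans hq2.symm, fun p hp => ?_⟩
  haveI : p.IsPrime := hp.1.1
  obtain ⟨q, hq, hqp⟩ := Ideal.exists_minimalPrimes_le (hsub.trans hp.1.2)
  rcases eq_or_lt_of_le hqp with rfl | hlt
  · exact hq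
  exfalso
  haveI : q.IsPrime := hq.1.1
  obtain ⟨x, hxp, hxq⟩ := SetLike.exists_of_lt hlt
  haveI : Nontrivial (R ⧸ q) := Ideal.Quotient.nontrivial_iff.2 hq.1.1.ne_top
  haveI : IsLocalRing (R ⧸ q) := IsLocalRing.of_surjective' (Ideal.Quotient.mk q) Ideal.Quotient.mk_surjective
  have h5 := ringKrullDim_quotient_span_singleton_succ_eq_ringKrullDim (R := R ⧸ q) (x := Ideal.Quotient.mk q x)
    (IsSMulRegular.of_ne_zero fun h => hxq (Ideal.Quotient.eq_zero_iff_mem.1 h))
    (by rw [← IsLocalRing.map_maximalIdeal_of_surjective (Ideal.Quotient.mk q) Ideal.Quotient.mk_surjective]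
        exact Ideal.mem_map_of_mem _ (IsLocalRing.le_maximalIdeal hp.1.1.ne_top hxp))
  have h6 : ringKrullDim (R ⧸ p) + 1 ≤ ringKrullDim (R ⧸ q) := by
    rw [← h5]
    refine add_le_add (ringKrullDim_le_of_surjective (Ideal.Quotient.lift (Ideal.span {Ideal.Quotient.mk q x}) (Ideal.Quotient.factor hqp) ?_) ?_) le_rfl
    · intro a ha
      obtain ⟨b, rfl⟩ := Ideal.mem_span_singleton.1 ha
      rw [map_mul, Ideal.Quotient.factor_mk, Ideal.Quotient.eq_zero_iff_mem.2 hxp, zero_mul]
    · intro y
      obtain ⟨y, rfl⟩ := Ideal.Quotient.mk_surjective y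
      exact ⟨Ideal.Quotient.mk _ (Ideal.Quotient.mk q y), by simp⟩
  have h7 : ringKrullDim (R ⧸ q) ≤ ringKrullDim (R ⧸ Ideal.ofList rs) :=
    ringKrullDim_le_of_surjective (Ideal.Quotient.factor hq.1.2) (Ideal.Quotient.factor_surjective _)
  have h8 := h6.trans h7
  rw [hI p hp, hq2, hq1, ← Nat.cast_one, ← Nat.cast_add, Nat.cast_le] at h8
  omega

end Groth.Agent.S15717
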