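import Groth.Statements.S15724
import Groth.Agent.Lib.W4c2Mon

set_option autoImplicit false
universe u
open W4c2invhilbsl2

namespace Groth.Agent.S15724

/-- Grade the polynomial ring k[X₀,…,X₄] over a field k by ℤ × ℤ/m, giving X₀ weight (1,0), X₁ and X₂
weight (−p,−1), and X₃ and X₄ weight (q,1), where 0 < p < q are coprime integers and m ≥ 1, and let
P be the principal ideal generated by the weight-zero element X₀^(q−p) − X₁X₄ + X₂X₃ (the equation
of an affine hypersurface). Then every polynomial homogeneous of the weight of X₁ is congruent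
modulo P to some a·X₁ + b·X₂ with a and b homogeneous of weight zero, and every polynomial
homogeneous of the weight of X₃ is congruent modulo P to some a·X₃ + b·X₄ with a and b homogeneous
of weight zero. Equivalently, in the coordinate ring of the hypersurface the weight pieces of the
weights of X₁ and of X₃ are generated over the weight-zero subring (the ring of invariants of the
diagonal action of a one-dimensional torus times the group of m-th roots of unity with these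
weights) by X₁, X₂ and by X₃, X₄ respectively. (For the weight of X₁ the congruence is already an
equality in the polynomial ring; for the weight of X₃ the hypersurface equation is needed, e.g.
X₀^(q+p)X₁ has that weight when m divides 2.) -/
theorem result (k : Type u) [Field k] (p q m : ℕ) (hp : 0 < p) (hpq : p < q) (hcop : Nat.Coprime p q) (hm : 0 < m) (f : MvPolynomial (Fin 5) k) :
    (f ∈ MvPolynomial.weightedHomogeneousSubmodule k (W4c2invhilbsl2.wt5 p q m) (W4c2invhilbsl2.wt5 p q m 1) →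
      ∃ a b : MvPolynomial (Fin 5) k, a ∈ MvPolynomial.weightedHomogeneousSubmodule k (W4c2invhilbsl2.wt5 p q m) 0 ∧ b ∈ MvPolynomial.weightedHomogeneousSubmodule k (W4c2invhilbsl2.wt5 p q m) 0 ∧
        f - (a * MvPolynomial.X (1 : Fin 5) + b * MvPolynomial.X (2 : Fin 5)) ∈ Ideal.span {MvPolynomial.X (0 : Fin 5) ^ (q - p) - MvPolynomial.X 1 * MvPolynomial.X 4 + MvPolynomial.X 2 * MvPolynomial.X 3}) ∧
    (f ∈ MvPolynomial.weightedHomogeneousSubmodule k (W4c2invhilbsl2.wt5 p q m) (W4c2invhilbsl2.wt5 p q m 3) →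
      ∃ a b : MvPolynomial (Fin 5) k, a ∈ MvPolynomial.weightedHomogeneousSubmodule k (W4c2invhilbsl2.wt5 p q m) 0 ∧ b ∈ MvPolynomial.weightedHomogeneousSubmodule k (W4c2invhilbsl2.wt5 p q m) 0 ∧
        f - (a * MvPolynomial.X (3 : Fin 5) + b * MvPolynomial.X (4 : Fin 5)) ∈ Ideal.span {MvPolynomial.X (0 : Fin 5) ^ (q - p) - MvPolynomial.X 1 * MvPolynomial.X 4 + MvPolynomial.X 2 * MvPolynomial.X 3}) := by
  set I := Ideal.span {MvPolynomial.X (0 : Fin 5) ^ (q - p) - MvPolynomial.X 1 * MvPolynomial.X 4 + MvPolynomial.X 2 * MvPolynomial.X (R := k) 3}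
  set W := MvPolynomial.weightedHomogeneousSubmodule k (W4c2invhilbsl2.wt5 p q m) 0
  constructor
  · intro hf
    rw [show W4c2invhilbsl2.wt5 p q m 1 = (-(p : ℤ), (-1 : ZMod m)) from rfl] at hf
    refine W4c2Mon.induction_wh (fun f => ∃ a b : MvPolynomial (Fin 5) k, a ∈ W ∧ b ∈ W ∧
        f - (a * MvPolynomial.X (1 : Fin 5) + b * MvPolynomial.X (2 : Fin 5)) ∈ I) ⟨0, 0, W.zero_mem, W.zero_mem, by simp⟩ ?_ ?_ hf
    · rintro f g ⟨a, b, ha, hb, h⟩ ⟨a', b', ha', hb', h'⟩
      refine ⟨a + a', b + b', add_mem ha ha', add_mem hb hb', ?_⟩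
      convert I.add_mem h h' using 1; ring
    intro d r hw
    rw [W4c2Mon.weight5_iff, show (-1 : ZMod m) = ((-1 : ℤ) : ZMod m) by simp, ZMod.intCast_eq_intCast_iff_dvd_sub] at hw
    obtain ⟨h1, j, hj⟩ := hw
    rw [W4c2Mon.monomial5]
    have hb : 1 ≤ d 1 + d 2 := by
      by_contra h
      rw [show (d 1 : ℤ) + d 2 = 0 by omega, mul_zero] at h1
      have : (0 : ℤ) ≤ (q : ℤ) * ((d 3 : ℤ) + d 4) := by positivity
      omega
    have hz : ∀ b1 b2 : ℕ, b1 + b2 + 1 = d 1 + d 2 →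
        MvPolynomial.C r * (MvPolynomial.X 0 ^ d 0 * MvPolynomial.X 1 ^ b1 * MvPolynomial.X 2 ^ b2 * MvPolynomial.X 3 ^ d 3 * MvPolynomial.X 4 ^ d 4) ∈ W := by
      intro b1 b2 e1
      have e1' : (b1 : ℤ) + b2 = (d 1 : ℤ) + d 2 - 1 := by omega
      refine W4c2Mon.prod5_mem_zero r ?_ ⟨-j, ?_⟩
      · rw [e1']; linarith
      · rw [e1']; linarith
    rcases (show 1 ≤ d 1 ∨ 1 ≤ d 2 by omega) with h | h
    · obtain ⟨x, hx⟩ : ∃ x, d 1 = x + 1 := ⟨d 1 - 1, by omega⟩
      refine ⟨_, 0, hz x (d 2) (by omega), W.zero_mem, ?_⟩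
      convert I.zero_mem using 1; rw [hx]; ring
    · obtain ⟨x, hx⟩ : ∃ x, d 2 = x + 1 := ⟨d 2 - 1, by omega⟩
      refine ⟨0, _, W.zero_mem, hz (d 1) x (by omega), ?_⟩
      convert I.zero_mem using 1; rw [hx]; ring
  · intro hf
    rw [show W4c2invhilbsl2.wt5 p q m 3 = ((q : ℤ), (1 : ZMod m)) from rfl] at hf
    refine W4c2Mon.induction_wh (fun f => ∃ a b : MvPolynomial (Fin 5) k, a ∈ W ∧ b ∈ W ∧
        f - (a * MvPolynomial.X (3 : Fin 5) + b * MvPolynomial.X (4 : Fin 5)) ∈ I) ⟨0, 0, W.zero_mem, W.zero_mem, by simp⟩ ?_ ?_ hf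
    · rintro f g ⟨a, b, ha, hb, h⟩ ⟨a', b', ha', hb', h'⟩
      refine ⟨a + a', b + b', add_mem ha ha', add_mem hb hb', ?_⟩
      convert I.add_mem h h' using 1; ring
    intro d r hw
    rw [W4c2Mon.weight5_iff, show (1 : ZMod m) = ((1 : ℤ) : ZMod m) by simp, ZMod.intCast_eq_intCast_iff_dvd_sub] at hw
    obtain ⟨h1, j, hj⟩ := hw
    rw [W4c2Mon.monomial5]
    by_cases hb : 1 ≤ d 3 + d 4
    · have hz : ∀ b3 b4 : ℕ, b3 + b4 + 1 = d 3 + d 4 →
          MvPolynomial.C r * (MvPolynomial.X 0 ^ d 0 * MvPolynomial.X 1 ^ d 1 * MvPolynomial.X 2 ^ d 2 * MvPolynomial.X 3 ^ b3 * MvPolynomial.X 4 ^ b4) ∈ W := by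
        intro b3 b4 e1
        have e1' : (b3 : ℤ) + b4 = (d 3 : ℤ) + d 4 - 1 := by omega
        refine W4c2Mon.prod5_mem_zero r ?_ ⟨-j, ?_⟩
        · rw [e1']; linarith
        · rw [e1']; linarith
      rcases (show 1 ≤ d 3 ∨ 1 ≤ d 4 by omega) with h | h
      · obtain ⟨x, hx⟩ : ∃ x, d 3 = x + 1 := ⟨d 3 - 1, by omega⟩
        refine ⟨_, 0, hz x (d 4) (by omega), W.zero_mem, ?_⟩
        convert I.zero_mem using 1; rw [hx]; ring
      · obtain ⟨x, hx⟩ : ∃ x, d 4 = x + 1 := ⟨d 4 - 1, by omega⟩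
        refine ⟨0, _, W.zero_mem, hz (d 3) x (by omega), ?_⟩
        convert I.zero_mem using 1; rw [hx]; ring
    · rw [show (d 3 : ℤ) + d 4 = 0 by omega] at h1 hj
      have hp0 : (0 : ℤ) ≤ (p : ℤ) * ((d 1 : ℤ) + d 2) := by positivity
      obtain ⟨a, ha⟩ : ∃ a, d 0 = a + (q - p) := ⟨d 0 - (q - p), by omega⟩
      have ha' : (d 0 : ℤ) = (a : ℤ) + ((q : ℤ) - p) := by omega
      rw [ha'] at h1
      have hA := W4c2Mon.prod5_mem_zero (p := p) (q := q) (m := m) (-r) (a := a) (b := d 1) (c := d 2 + 1) (d := 0) (e := 0)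
        (by push_cast; linarith) ⟨-j, by push_cast; linarith⟩
      have hB := W4c2Mon.prod5_mem_zero (p := p) (q := q) (m := m) r (a := a) (b := d 1 + 1) (c := d 2) (d := 0) (e := 0)
        (by push_cast; linarith) ⟨-j, by push_cast; linarith⟩
      refine ⟨_, _, hA, hB, ?_⟩
      rw [show d 3 = 0 by omega, show d 4 = 0 by omega, ha, pow_add, pow_succ, pow_succ, map_neg]
      exact Ideal.mem_span_singleton.2 ⟨MvPolynomial.C r * (MvPolynomial.X 0 ^ a * MvPolynomial.X 1 ^ d 1 * MvPolynomial.X 2 ^ d 2), by ring⟩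

end Groth.Agent.S15724
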