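import Groth.Statements.S15725
import Groth.Agent.Lib.W4c2Mon

set_option autoImplicit false
universe u
open W4c2invhilbsl2

namespace Groth.Agent.S15725

/-- Grade the polynomial ring k[X₀,X₁,X₂] over a field k by ℤ × ℤ/m, giving X₀ weight (1,0), X₁ weight
(−p,−1) and X₂ weight (q,1), where 0 < p < q are coprime integers and m ≥ 1 (this three-variable
ring stands for the subring k[X₀,X₁,Xⱼ], j = 3 or 4, of the five-variable ring with the same
weights). Then every polynomial homogeneous of weight (q−p, 0) can be written a·X₀^(q−p) + b·X₁X₂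
with a and b homogeneous of weight zero; in other words the weight-(q−p, 0) piece is generated by
X₀^(q−p) and X₁X₂ as a module over the weight-zero subring. -/
theorem result (k : Type u) [Field k] (p q m : ℕ) (hp : 0 < p) (hpq : p < q) (hcop : Nat.Coprime p q) (hm : 0 < m) (f : MvPolynomial (Fin 3) k)
    (hf : f ∈ MvPolynomial.weightedHomogeneousSubmodule k (W4c2invhilbsl2.wt3 p q m) ((q : ℤ) - (p : ℤ), (0 : ZMod m))) :
    ∃ a b : MvPolynomial (Fin 3) k, a ∈ MvPolynomial.weightedHomogeneousSubmodule k (W4c2invhilbsl2.wt3 p q m) 0 ∧ b ∈ MvPolynomial.weightedHomogeneousSubmodule k (W4c2invhilbsl2.wt3 p q m) 0 ∧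
      f = a * MvPolynomial.X (0 : Fin 3) ^ (q - p) + b * (MvPolynomial.X (1 : Fin 3) * MvPolynomial.X (2 : Fin 3)) := by
  have hd : (1 : ℤ) ≤ (q : ℤ) - p := by omega
  refine W4c2Mon.induction_wh (fun f => ∃ a b : MvPolynomial (Fin 3) k, a ∈ MvPolynomial.weightedHomogeneousSubmodule k (W4c2invhilbsl2.wt3 p q m) 0 ∧ b ∈ MvPolynomial.weightedHomogeneousSubmodule k (W4c2invhilbsl2.wt3 p q m) 0 ∧
      f = a * MvPolynomial.X (0 : Fin 3) ^ (q - p) + b * (MvPolynomial.X (1 : Fin 3) * MvPolynomial.X (2 : Fin 3)))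
    ⟨0, 0, Submodule.zero_mem _, Submodule.zero_mem _, by ring⟩ ?_ ?_ hf
  · rintro f g ⟨a, b, ha, hb, rfl⟩ ⟨a', b', ha', hb', rfl⟩
    exact ⟨a + a', b + b', add_mem ha ha', add_mem hb hb', by ring⟩
  intro d r hw
  rw [W4c2Mon.weight3_iff, ZMod.intCast_zmod_eq_zero_iff_dvd] at hw
  obtain ⟨h1, hj⟩ := hw
  rw [W4c2Mon.monomial3]
  by_cases hd0 : q - p ≤ d 0
  · obtain ⟨a, ha⟩ : ∃ a, d 0 = a + (q - p) := ⟨d 0 - (q - p), by omega⟩
    refine ⟨_, 0, W4c2Mon.prod3_mem_zero r (a := a) (b := d 1) (c := d 2) ?_ hj, Submodule.zero_mem _, ?_⟩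
    · rw [ha] at h1; push_cast [Nat.cast_sub hpq.le] at h1; linarith
    · rw [ha, pow_add]; ring
  · have hb : 1 ≤ d 1 ∧ 1 ≤ d 2 := by
      constructor <;> by_contra hz
      · rw [show d 1 = 0 by omega, Nat.cast_zero, mul_zero] at h1
        rcases Nat.eq_zero_or_pos (d 2) with h | h
        · rw [h, Nat.cast_zero, mul_zero] at h1; omega
        · have : (q : ℤ) * 1 ≤ (q : ℤ) * (d 2 : ℤ) := mul_le_mul_of_nonneg_left (by omega) (by omega)
          omega
      · rw [show d 2 = 0 by omega, Nat.cast_zero, mul_zero] at h1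
        have : (0 : ℤ) ≤ (p : ℤ) * (d 1 : ℤ) := by positivity
        omega
    obtain ⟨b, hb1⟩ : ∃ b, d 1 = b + 1 := ⟨d 1 - 1, by omega⟩
    obtain ⟨c, hc1⟩ : ∃ b, d 2 = b + 1 := ⟨d 2 - 1, by omega⟩
    refine ⟨0, _, Submodule.zero_mem _, W4c2Mon.prod3_mem_zero r (a := d 0) (b := b) (c := c) ?_ ?_, ?_⟩
    · rw [hb1, hc1] at h1; push_cast at h1; linarith
    · rw [hb1, hc1] at hj; simpa using hj
    · rw [hb1, hc1, pow_succ, pow_succ]; ring

end Groth.Agent.S15725
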