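import Groth.Statements.S15726
import Groth.Agent.Lib.W4c2Mon

set_option autoImplicit false
universe u
open W4c2invhilbsl2

namespace Groth.Agent.S15726

/-- Grade the polynomial ring k[X₀,…,X₄] over a field k by ℤ × ℤ/m, giving X₀ weight (1,0), X₁ and X₂
weight (−p,−1), and X₃ and X₄ weight (q,1), where 0 < p < q are coprime integers and m ≥ 1. Then
modulo the principal ideal generated by the weight-zero element X₀^(q−p) − X₁X₄ + X₂X₃ (the equation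
of an affine hypersurface), every polynomial homogeneous of weight (q−p, 0) is congruent to a
combination a₁₃X₁X₃ + a₁₄X₁X₄ + a₂₃X₂X₃ + a₂₄X₂X₄ whose four coefficients are homogeneous of weight
zero. Equivalently, in the coordinate ring of the hypersurface the weight-(q−p, 0) piece is
generated over the weight-zero subring (the invariant ring of the diagonal action with these
weights) by the span of the four products XₐX_b with a ∈ {1,2} and b ∈ {3,4}. (The published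
statement is over the complex numbers; this row takes any field.) -/
theorem result (k : Type u) [Field k] (p q m : ℕ) (hp : 0 < p) (hpq : p < q) (hcop : Nat.Coprime p q) (hm : 0 < m) (f : MvPolynomial (Fin 5) k)
    (hf : f ∈ MvPolynomial.weightedHomogeneousSubmodule k (W4c2invhilbsl2.wt5 p q m) ((q : ℤ) - (p : ℤ), (0 : ZMod m))) :
    ∃ a₁₃ a₁₄ a₂₃ a₂₄ : MvPolynomial (Fin 5) k,
      a₁₃ ∈ MvPolynomial.weightedHomogeneousSubmodule k (W4c2invhilbsl2.wt5 p q m) 0 ∧ a₁₄ ∈ MvPolynomial.weightedHomogeneousSubmodule k (W4c2invhilbsl2.wt5 p q m) 0 ∧ a₂₃ ∈ MvPolynomial.weightedHomogeneousSubmodule k (W4c2invhilbsl2.wt5 p q m) 0 ∧ a₂₄ ∈ MvPolynomial.weightedHomogeneousSubmodule k (W4c2invhilbsl2.wt5 p q m) 0 ∧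
      f - (a₁₃ * (MvPolynomial.X (1 : Fin 5) * MvPolynomial.X 3) + a₁₄ * (MvPolynomial.X (1 : Fin 5) * MvPolynomial.X 4) +
          a₂₃ * (MvPolynomial.X (2 : Fin 5) * MvPolynomial.X 3) + a₂₄ * (MvPolynomial.X (2 : Fin 5) * MvPolynomial.X 4)) ∈
        Ideal.span {MvPolynomial.X (0 : Fin 5) ^ (q - p) - MvPolynomial.X 1 * MvPolynomial.X 4 + MvPolynomial.X 2 * MvPolynomial.X 3} := by
  set I := Ideal.span {MvPolynomial.X (0 : Fin 5) ^ (q - p) - MvPolynomial.X 1 * MvPolynomial.X 4 + MvPolynomial.X 2 * MvPolynomial.X (R := k) 3}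
  set W := MvPolynomial.weightedHomogeneousSubmodule k (W4c2invhilbsl2.wt5 p q m) 0
  refine W4c2Mon.induction_wh (fun f => ∃ a b c e : MvPolynomial (Fin 5) k, a ∈ W ∧ b ∈ W ∧ c ∈ W ∧ e ∈ W ∧
      f - (a * (MvPolynomial.X (1 : Fin 5) * MvPolynomial.X 3) + b * (MvPolynomial.X (1 : Fin 5) * MvPolynomial.X 4) +
        c * (MvPolynomial.X (2 : Fin 5) * MvPolynomial.X 3) + e * (MvPolynomial.X (2 : Fin 5) * MvPolynomial.X 4)) ∈ I)
    ⟨0, 0, 0, 0, W.zero_mem, W.zero_mem, W.zero_mem, W.zero_mem, by simp⟩ ?_ ?_ hf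
  · rintro f g ⟨a, b, c, e, ha, hb, hc, he, h⟩ ⟨a', b', c', e', ha', hb', hc', he', h'⟩
    refine ⟨a + a', b + b', c + c', e + e', add_mem ha ha', add_mem hb hb', add_mem hc hc', add_mem he he', ?_⟩
    convert I.add_mem h h' using 1; ring
  intro d r hw
  rw [W4c2Mon.weight5_iff, ZMod.intCast_zmod_eq_zero_iff_dvd] at hw
  obtain ⟨h1, hj⟩ := hw
  rw [W4c2Mon.monomial5]
  by_cases hb : (1 ≤ d 1 ∨ 1 ≤ d 2) ∧ (1 ≤ d 3 ∨ 1 ≤ d 4)
  · have hz : ∀ b1 b2 b3 b4 : ℕ, b1 + b2 + 1 = d 1 + d 2 → b3 + b4 + 1 = d 3 + d 4 →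
        MvPolynomial.C r * (MvPolynomial.X 0 ^ d 0 * MvPolynomial.X 1 ^ b1 * MvPolynomial.X 2 ^ b2 * MvPolynomial.X 3 ^ b3 * MvPolynomial.X 4 ^ b4) ∈ W := by
      intro b1 b2 b3 b4 e1 e2
      have e1' : (b1 : ℤ) + b2 = (d 1 : ℤ) + d 2 - 1 := by omega
      have e2' : (b3 : ℤ) + b4 = (d 3 : ℤ) + d 4 - 1 := by omega
      refine W4c2Mon.prod5_mem_zero r ?_ ?_
      · rw [e1', e2']; linarith
      · rw [e1', e2']; convert hj using 1; ring
    obtain ⟨hb1 | hb1, hb2 | hb2⟩ := hb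
    · obtain ⟨x, hx⟩ : ∃ x, d 1 = x + 1 := ⟨d 1 - 1, by omega⟩
      obtain ⟨y, hy⟩ : ∃ x, d 3 = x + 1 := ⟨d 3 - 1, by omega⟩
      refine ⟨_, 0, 0, 0, hz x (d 2) y (d 4) (by omega) (by omega), W.zero_mem, W.zero_mem, W.zero_mem, ?_⟩
      convert I.zero_mem using 1; rw [hx, hy]; ring
    · obtain ⟨x, hx⟩ : ∃ x, d 1 = x + 1 := ⟨d 1 - 1, by omega⟩
      obtain ⟨y, hy⟩ : ∃ x, d 4 = x + 1 := ⟨d 4 - 1, by omega⟩
      refine ⟨0, _, 0, 0, W.zero_mem, hz x (d 2) (d 3) y (by omega) (by omega), W.zero_mem, W.zero_mem, ?_⟩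
      convert I.zero_mem using 1; rw [hx, hy]; ring
    · obtain ⟨x, hx⟩ : ∃ x, d 2 = x + 1 := ⟨d 2 - 1, by omega⟩
      obtain ⟨y, hy⟩ : ∃ x, d 3 = x + 1 := ⟨d 3 - 1, by omega⟩
      refine ⟨0, 0, _, 0, W.zero_mem, W.zero_mem, hz (d 1) x y (d 4) (by omega) (by omega), W.zero_mem, ?_⟩
      convert I.zero_mem using 1; rw [hx, hy]; ring
    · obtain ⟨x, hx⟩ : ∃ x, d 2 = x + 1 := ⟨d 2 - 1, by omega⟩
      obtain ⟨y, hy⟩ : ∃ x, d 4 = x + 1 := ⟨d 4 - 1, by omega⟩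
      refine ⟨0, 0, 0, _, W.zero_mem, W.zero_mem, W.zero_mem, hz (d 1) x (d 3) y (by omega) (by omega), ?_⟩
      convert I.zero_mem using 1; rw [hx, hy]; ring
  · have hd0 : q - p ≤ d 0 := by
      have hp0 : (0 : ℤ) ≤ (p : ℤ) * ((d 1 : ℤ) + d 2) := by positivity
      rcases (show (d 3 : ℤ) + d 4 = 0 ∨ ((d 1 : ℤ) + d 2 = 0 ∧ 1 ≤ (d 3 : ℤ) + d 4) by omega) with h | ⟨h, h'⟩
      · rw [h, mul_zero] at h1; omega
      · rw [h, mul_zero] at h1
        have : (q : ℤ) * 1 ≤ (q : ℤ) * ((d 3 : ℤ) + d 4) := mul_le_mul_of_nonneg_left h' (by omega)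
        omega
    obtain ⟨a, ha⟩ : ∃ a, d 0 = a + (q - p) := ⟨d 0 - (q - p), by omega⟩
    have hR := W4c2Mon.prod5_mem_zero (p := p) (q := q) (m := m) r (a := a) (b := d 1) (c := d 2) (d := d 3) (e := d 4)
      (by rw [ha] at h1; push_cast [Nat.cast_sub hpq.le] at h1; linarith) hj
    refine ⟨0, _, _, 0, W.zero_mem, hR, W.neg_mem hR, W.zero_mem, ?_⟩
    rw [ha, pow_add]
    exact Ideal.mem_span_singleton.2 ⟨MvPolynomial.C r * (MvPolynomial.X 0 ^ a * MvPolynomial.X 1 ^ d 1 * MvPolynomial.X 2 ^ d 2 * MvPolynomial.X 3 ^ d 3 * MvPolynomial.X 4 ^ d 4), by ring⟩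

end Groth.Agent.S15726
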