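import Groth.Statements.S15727
import Groth.Agent.Lib.W4c2Mon

set_option autoImplicit false
universe u
open W4c2invhilbsl2

namespace Groth.Agent.S15727

/-- Let k be an algebraically closed field, 0 < p < q coprime integers and m ≥ 1, and grade k[X₀,…,X₄]
by ℤ × ℤ/m, giving X₀ weight (1,0), X₁ and X₂ weight (−p,−1), and X₃ and X₄ weight (q,1). For s ∈ k
let I_s be the ideal (X₀^(q−p) − X₁X₄, X₂, X₃, s − X₀^(mp)X₁^m), whose generators are homogeneous
(the last one of weight zero). Then for every weight ν the image in k[X₀,…,X₄]/I_s of the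
homogeneous polynomials of weight ν is a k-vector space of dimension at most 1. (The published
statement asserts that this dimension equals 1 for every ν and every s, namely that the quotient has
the Hilbert function of the regular representation of the grading group; this row states the upper
bound, the half obtained from the monomial analysis of the weight pieces, while the lower bound
there is drawn from the moduli interpretation of these ideals. The published statement is over the
complex numbers; this row takes any algebraically closed field, which is what the reduction to s =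
0, 1 by rescaling the variables uses.) -/
theorem result (k : Type u) [Field k] [IsAlgClosed k] (p q m : ℕ) (hp : 0 < p) (hpq : p < q) (hcop : Nat.Coprime p q) (hm : 0 < m) (s : k) (ν : ℤ × ZMod m) :
    Module.rank k (W4c2invhilbsl2.piece k (W4c2invhilbsl2.wt5 p q m) (W4c2invhilbsl2.idealI k p q m s) ν) ≤ 1 := by
  obtain ⟨n, z0⟩ := ν
  set I := W4c2invhilbsl2.idealI k p q m s with hI
  let φ := Ideal.Quotient.mk I
  let x : Fin 5 → MvPolynomial (Fin 5) k ⧸ I := fun i => φ (MvPolynomial.X i)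
  have hgen : ∀ g ∈ ({MvPolynomial.X 0 ^ (q - p) - MvPolynomial.X 1 * MvPolynomial.X 4, MvPolynomial.X 2, MvPolynomial.X 3,
      MvPolynomial.C s - MvPolynomial.X 0 ^ (m * p) * MvPolynomial.X 1 ^ m} : Set (MvPolynomial (Fin 5) k)), φ g = 0 :=
    fun g hg => Ideal.Quotient.eq_zero_iff_mem.2 (Ideal.subset_span hg)
  have hrel : x 0 ^ (q - p) = x 1 * x 4 := by
    have := hgen _ (Set.mem_insert _ _)
    rw [map_sub, map_pow, map_mul, sub_eq_zero] at this
    exact this
  have h2 : x 2 = 0 := hgen _ (by simp)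
  have h3 : x 3 = 0 := hgen _ (by simp)
  have hs : algebraMap k (MvPolynomial (Fin 5) k ⧸ I) s = x 0 ^ (m * p) * x 1 ^ m := by
    have := hgen (MvPolynomial.C s - MvPolynomial.X 0 ^ (m * p) * MvPolynomial.X 1 ^ m) (by simp)
    rw [map_sub, map_mul, map_pow, map_pow, sub_eq_zero] at this
    exact this
  let S : ℤ → Prop := fun c => ∃ a b e : ℕ, (e : ℤ) - b = c ∧ (a : ℤ) - (p : ℤ) * b + (q : ℤ) * e = n ∧ (((e : ℤ) - b : ℤ) : ZMod m) = z0
  have himg : ∀ d : Fin 5 →₀ ℕ, φ (MvPolynomial.monomial d 1) = x 0 ^ d 0 * x 1 ^ d 1 * x 2 ^ d 2 * x 3 ^ d 3 * x 4 ^ d 4 := by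
    intro d
    rw [W4c2Mon.monomial5, map_one, one_mul]
    simp only [map_mul, map_pow, x]
  by_cases hS : ∃ c, S c
  rotate_left
  · refine W4c2Mon.rank_piece_le_one 0 fun d hd => ?_
    show φ _ ∈ _
    rw [W4c2Mon.weight5_iff] at hd
    rw [himg, h2, h3]
    by_cases h0 : d 2 = 0 ∧ d 3 = 0
    · refine absurd ⟨(d 4 : ℤ) - d 1, d 0, d 1, d 4, rfl, ?_, ?_⟩ hS
      · simpa [h0.1, h0.2] using hd.1
      · simpa [h0.1, h0.2] using hd.2
    · rcases (show d 2 ≠ 0 ∨ d 3 ≠ 0 by omega) with h | h <;> simp [zero_pow h]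
  obtain ⟨cm, ⟨a, b, e, hce, hn1, hz1⟩, hmax⟩ := Int.exists_greatest_of_bdd (P := S) (by
    refine ⟨max n 0, fun c ⟨a, b, e, hce, hn, _⟩ => ?_⟩
    rcases le_total c 0 with h | h
    · exact h.trans (le_max_right _ _)
    · refine le_trans ?_ (le_max_left _ _)
      have h1 : (1 : ℤ) * c ≤ (q : ℤ) * c := mul_le_mul_of_nonneg_right (by omega) h
      have h2 : (0 : ℤ) ≤ ((q : ℤ) - p) * b := mul_nonneg (by omega) (by omega)
      rw [← hce] at h1 h ⊢
      linarith) hS
  refine W4c2Mon.rank_piece_le_one (x 0 ^ a * x 1 ^ b * x 4 ^ e) fun d hd => ?_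
  show φ _ ∈ _
  rw [W4c2Mon.weight5_iff] at hd
  rw [himg, h2, h3]
  by_cases h0 : d 2 = 0 ∧ d 3 = 0
  rotate_left
  · rcases (show d 2 ≠ 0 ∨ d 3 ≠ 0 by omega) with h | h <;> simp [zero_pow h]
  obtain ⟨h1, h4⟩ := hd
  simp only [h0.1, h0.2, Nat.cast_zero, add_zero, zero_add] at h1 h4
  have hle := hmax ((d 4 : ℤ) - d 1) ⟨d 0, d 1, d 4, rfl, h1, h4⟩
  obtain ⟨t, ht⟩ : (m : ℤ) ∣ cm - ((d 4 : ℤ) - d 1) := by
    rw [← ZMod.intCast_eq_intCast_iff_dvd_sub, h4, ← hce, hz1]
  have ht0 : 0 ≤ t := by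
    by_contra h
    have : (m : ℤ) * t < 0 := mul_neg_of_pos_of_neg (by exact_mod_cast hm) (by omega)
    omega
  simp only [h0.1, h0.2, pow_zero, mul_one]
  rw [
    W4c2Mon.shift_class hrel (by omega) t.toNat h1 hn1 (a' := a) (b' := b) (c' := e) (m := m) (by
      rw [Int.toNat_of_nonneg ht0]; omega), ← hs, ← map_pow (algebraMap k (MvPolynomial (Fin 5) k ⧸ I)), ← Algebra.smul_def]
  exact Submodule.smul_mem _ _ (Submodule.mem_span_singleton_self _)

end Groth.Agent.S15727
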