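import Groth.Statements.S15728
import Groth.Agent.Lib.W4c2Mon

set_option autoImplicit false
universe u
open W4c2invhilbsl2

namespace Groth.Agent.S15728

/-- Let k be an algebraically closed field, 0 < p < q coprime integers and m ≥ 1; put g = gcd(m, q−p)
and a = m/g, and grade k[X₀,…,X₄] by ℤ × ℤ/m, giving X₀ weight (1,0), X₁ and X₂ weight (−p,−1), and
X₃ and X₄ weight (q,1). For s ∈ k let J_s be the ideal (X₀^g, X₂, X₄, s − X₁^(aq)X₃^(ap)), whose
generators are homogeneous (the last one of weight zero). Then for every weight ν the image in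
k[X₀,…,X₄]/J_s of the homogeneous polynomials of weight ν is a k-vector space of dimension at most
1. (The published statement asserts that this dimension equals 1 for every ν and every s; this row
states the upper bound, the half obtained from the monomial analysis of the weight pieces, while the
lower bound there is drawn from the moduli interpretation of these ideals. The published statement
is over the complex numbers; this row takes any algebraically closed field, which is what the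
reduction to s = 0, 1 by rescaling the variables uses.) -/
theorem result (k : Type u) [Field k] [IsAlgClosed k] (p q m : ℕ) (hp : 0 < p) (hpq : p < q) (hcop : Nat.Coprime p q) (hm : 0 < m) (s : k) (ν : ℤ × ZMod m) :
    Module.rank k (W4c2invhilbsl2.piece k (W4c2invhilbsl2.wt5 p q m) (W4c2invhilbsl2.idealJ k p q m s) ν) ≤ 1 := by
  classical
  obtain ⟨n, z0⟩ := ν
  set I := W4c2invhilbsl2.idealJ k p q m s with hI
  let φ := Ideal.Quotient.mk I
  let x : Fin 5 → MvPolynomial (Fin 5) k ⧸ I := fun i => φ (MvPolynomial.X i)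
  set g := Nat.gcd m (q - p) with hg
  have hgen : ∀ f ∈ ({MvPolynomial.X 0 ^ g, MvPolynomial.X 2, MvPolynomial.X 4,
      MvPolynomial.C s - MvPolynomial.X 1 ^ (m / g * q) * MvPolynomial.X 3 ^ (m / g * p)} : Set (MvPolynomial (Fin 5) k)), φ f = 0 :=
    fun f hf => Ideal.Quotient.eq_zero_iff_mem.2 (Ideal.subset_span hf)
  have h00 : x 0 ^ g = 0 := by
    have := hgen _ (Set.mem_insert _ _)
    rwa [map_pow] at this
  have h2 : x 2 = 0 := hgen _ (by simp)
  have h4 : x 4 = 0 := hgen _ (by simp)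
  have hs : algebraMap k (MvPolynomial (Fin 5) k ⧸ I) s = x 1 ^ (m / g * q) * x 3 ^ (m / g * p) := by
    have := hgen (MvPolynomial.C s - MvPolynomial.X 1 ^ (m / g * q) * MvPolynomial.X 3 ^ (m / g * p)) (by simp)
    rw [map_sub, map_mul, map_pow, map_pow, sub_eq_zero] at this
    exact this
  let S : ℕ → Prop := fun b => ∃ a e : ℕ, a < g ∧ (a : ℤ) - (p : ℤ) * b + (q : ℤ) * e = n ∧ (((e : ℤ) - b : ℤ) : ZMod m) = z0
  have himg : ∀ d : Fin 5 →₀ ℕ, φ (MvPolynomial.monomial d 1) = x 0 ^ d 0 * x 1 ^ d 1 * x 2 ^ d 2 * x 3 ^ d 3 * x 4 ^ d 4 := by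
    intro d
    rw [W4c2Mon.monomial5, map_one, one_mul]
    simp only [map_mul, map_pow, x]
  have hkill : ∀ d : Fin 5 →₀ ℕ, ¬ (d 0 < g ∧ d 2 = 0 ∧ d 4 = 0) → φ (MvPolynomial.monomial d 1) = 0 := by
    intro d h
    rw [himg, h2, h4]
    rcases (show g ≤ d 0 ∨ d 2 ≠ 0 ∨ d 4 ≠ 0 by omega) with h | h | h
    · simp [pow_eq_zero_of_le h h00]
    · simp [zero_pow h]
    · simp [zero_pow h]
  by_cases hS : ∃ b, S b
  rotate_left
  · refine W4c2Mon.rank_piece_le_one 0 fun d hd => ?_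
    show φ _ ∈ _
    rw [W4c2Mon.weight5_iff] at hd
    by_cases h0 : d 0 < g ∧ d 2 = 0 ∧ d 4 = 0
    · refine absurd ⟨d 1, d 0, d 3, h0.1, ?_, ?_⟩ hS
      · simpa [h0.2.1, h0.2.2] using hd.1
      · simpa [h0.2.1, h0.2.2] using hd.2
    · rw [hkill d h0]; exact Submodule.zero_mem _
  obtain ⟨a, e, hag, hn1, hz1⟩ := Nat.find_spec hS
  refine W4c2Mon.rank_piece_le_one (x 0 ^ a * x 1 ^ Nat.find hS * x 3 ^ e) fun d hd => ?_
  show φ _ ∈ _
  rw [W4c2Mon.weight5_iff] at hd
  by_cases h0 : d 0 < g ∧ d 2 = 0 ∧ d 4 = 0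
  rotate_left
  · rw [hkill d h0]; exact Submodule.zero_mem _
  obtain ⟨h1, h4'⟩ := hd
  simp only [h0.2.1, h0.2.2, Nat.cast_zero, add_zero] at h1 h4'
  have hle : Nat.find hS ≤ d 1 := Nat.find_le ⟨d 0, d 3, h0.1, h1, h4'⟩
  obtain ⟨hde, u, hu1, hu3⟩ := W4c2Mon.orbit_J (δ := q - p) (m := m) hg (by omega) hp hm hcop
    (d0 := a) (d1 := Nat.find hS) (d2 := e) (e0 := d 0) (e1 := d 1) (e2 := d 3) (h1.trans hn1.symm)
    (by rw [← ZMod.intCast_eq_intCast_iff_dvd_sub, hz1, h4']) hag h0.1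
  have hpos : 0 < m / g * q := Nat.mul_pos (Nat.div_pos (Nat.gcd_le_left _ hm) (Nat.gcd_pos_of_pos_left _ hm)) (by omega)
  have hu0 : 0 ≤ u := by
    by_contra h
    have : u * ((m / g * q : ℕ) : ℤ) < 0 := mul_neg_of_neg_of_pos (by omega) (by exact_mod_cast hpos)
    omega
  obtain ⟨v, rfl⟩ := Int.eq_ofNat_of_zero_le hu0
  have e1 : d 1 = Nat.find hS + m / g * q * v := by
    have : (d 1 : ℤ) = ((Nat.find hS + m / g * q * v : ℕ) : ℤ) := by push_cast at hu1 ⊢; linarith
    exact_mod_cast this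
  have e3 : d 3 = e + m / g * p * v := by
    have : (d 3 : ℤ) = ((e + m / g * p * v : ℕ) : ℤ) := by push_cast at hu3 ⊢; linarith
    exact_mod_cast this
  simp only [himg, h0.2.1, h0.2.2, ← hde, e1, e3, pow_zero, mul_one]
  rw [pow_add, pow_add, pow_mul (x 1) (m / g * q) v, pow_mul (x 3) (m / g * p) v,
    show x 0 ^ a * (x 1 ^ Nat.find hS * (x 1 ^ (m / g * q)) ^ v) * (x 3 ^ e * (x 3 ^ (m / g * p)) ^ v) =
      (x 1 ^ (m / g * q) * x 3 ^ (m / g * p)) ^ v * (x 0 ^ a * x 1 ^ Nat.find hS * x 3 ^ e) by ring,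
    ← hs, ← map_pow (algebraMap k (MvPolynomial (Fin 5) k ⧸ I)), ← Algebra.smul_def]
  exact Submodule.smul_mem _ _ (Submodule.mem_span_singleton_self _)

end Groth.Agent.S15728
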