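import Groth.Statements.S15729
import Groth.Agent.Lib.W4c2HJ
import Groth.Agent.Lib.W4c2Mon

set_option autoImplicit false
universe u
open W4c2invhilbsl2

namespace Groth.Agent.S15729

/-- Let 0 < p < q be coprime integers and m ≥ 1 such that q − p does not divide m; put g = gcd(m, q−p),
b = (q−p)/g, α = ⌊mp/(q−p)⌋, β = the remainder of mp modulo q−p and t = (q−p−β)/g, so that 1 ≤ t <
b, and let b/t = c₁ − 1/(c₂ − 1/(⋯ − 1/c_r)) be the negative-regular (Hirzebruch–Jung) continued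
fraction expansion with every cᵢ ≥ 2; set P₀ = 0, P₁ = 1, Q₀ = −1, Q₁ = 0, Pᵢ = cᵢ₋₁Pᵢ₋₁ − Pᵢ₋₂, Qᵢ
= cᵢ₋₁Qᵢ₋₁ − Qᵢ₋₂ for 2 ≤ i ≤ r+1, and eᵢ = (α+1+m)Pᵢ − Qᵢ, lᵢ = (α+1)Pᵢ − Qᵢ, nᵢ = q·lᵢ − p·eᵢ,
which are non-negative integers for 0 ≤ i ≤ r+1. Grade the polynomial ring k[X₀,X₁,X₂] over a field
k by ℤ × ℤ/m with weights (1,0), (−p,−1), (q,1) (it stands for k[X₀,X₁,Xⱼ], j = 3 or 4, inside the
five-variable ring). Then for every 1 ≤ i ≤ r, every polynomial homogeneous of weight (nᵢ, 0) can be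
written a·X₀^(nᵢ) + b·X₁^(eᵢ)X₂^(lᵢ) with a and b homogeneous of weight zero; that is, the
weight-(nᵢ,0) piece is generated over the weight-zero subring by X₀^(nᵢ) and X₁^(eᵢ)X₂^(lᵢ). -/
theorem result (k : Type u) [Field k] (p q m : ℕ) (hp : 0 < p) (hpq : p < q) (hcop : Nat.Coprime p q) (hm : 0 < m) (hnt : ¬ (q - p ∣ m)) (c : List ℤ) (hc : W4c2invhilbsl2.IsHJDigits p q m c) (i : ℕ) (hi : 1 ≤ i) (hir : i ≤ c.length)
    (f : MvPolynomial (Fin 3) k) (hf : f ∈ MvPolynomial.weightedHomogeneousSubmodule k (W4c2invhilbsl2.wt3 p q m) (W4c2invhilbsl2.nN p q m c i, (0 : ZMod m))) :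
    ∃ a b : MvPolynomial (Fin 3) k, a ∈ MvPolynomial.weightedHomogeneousSubmodule k (W4c2invhilbsl2.wt3 p q m) 0 ∧ b ∈ MvPolynomial.weightedHomogeneousSubmodule k (W4c2invhilbsl2.wt3 p q m) 0 ∧
      f = a * MvPolynomial.X (0 : Fin 3) ^ (W4c2invhilbsl2.nN p q m c i).toNat +
        b * (MvPolynomial.X (1 : Fin 3) ^ (W4c2invhilbsl2.eE p q m c i).toNat * MvPolynomial.X (2 : Fin 3) ^ (W4c2invhilbsl2.lL p q m c i).toNat) := by
  obtain ⟨hl0, he0⟩ := W4c2HJ.lL_nonneg hpq hcop hnt hc (i := i) (by omega)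
  have hn0 := W4c2HJ.nN_nonneg hpq hcop hnt hc (i := i) (by omega)
  have hnd := W4c2HJ.nN_lt_delta hpq hcop hnt hc hi (show i ≤ c.length + 1 by omega)
  have hEL := W4c2HJ.lL_sub (p := p) (q := q) (m := m) (c := c) i
  have hdec := (W4c2HJ.T_spec hpq hcop hnt hc).1 (i - 1) (by omega)
  rw [show i - 1 + 1 = i by omega] at hdec
  have hn' : W4c2invhilbsl2.nN p q m c i < W4c2invhilbsl2.nN p q m c (i - 1) := by
    rw [W4c2HJ.nN_eq hpq, W4c2HJ.nN_eq hpq]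
    exact mul_lt_mul_of_pos_left hdec (by exact_mod_cast W4c2HJ.gcdK_pos hpq)
  refine W4c2Mon.induction_wh (fun f => ∃ a b : MvPolynomial (Fin 3) k, a ∈ MvPolynomial.weightedHomogeneousSubmodule k (W4c2invhilbsl2.wt3 p q m) 0 ∧ b ∈ MvPolynomial.weightedHomogeneousSubmodule k (W4c2invhilbsl2.wt3 p q m) 0 ∧
      f = a * MvPolynomial.X (0 : Fin 3) ^ (W4c2invhilbsl2.nN p q m c i).toNat +
        b * (MvPolynomial.X (1 : Fin 3) ^ (W4c2invhilbsl2.eE p q m c i).toNat * MvPolynomial.X (2 : Fin 3) ^ (W4c2invhilbsl2.lL p q m c i).toNat))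
    ⟨0, 0, Submodule.zero_mem _, Submodule.zero_mem _, by ring⟩ ?_ ?_ hf
  · rintro f g ⟨a, b, ha, hb, rfl⟩ ⟨a', b', ha', hb', rfl⟩
    exact ⟨a + a', b + b', add_mem ha ha', add_mem hb hb', by ring⟩
  intro d r hd
  rw [W4c2Mon.weight3_iff, ZMod.intCast_zmod_eq_zero_iff_dvd] at hd
  obtain ⟨h1, j, hj⟩ := hd
  set n := W4c2invhilbsl2.nN p q m c i with hn
  set E := W4c2invhilbsl2.eE p q m c i
  set L := W4c2invhilbsl2.lL p q m c i
  rw [W4c2Mon.monomial3]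
  by_cases hd0 : n ≤ (d 0 : ℤ)
  · obtain ⟨a, ha⟩ : ∃ a, d 0 = a + n.toNat := ⟨d 0 - n.toNat, by omega⟩
    refine ⟨_, 0, W4c2Mon.prod3_mem_zero r (a := a) (b := d 1) (c := d 2) ?_ ⟨j, hj⟩, Submodule.zero_mem _, ?_⟩
    · have : (d 0 : ℤ) = (a : ℤ) + n := by omega
      linarith
    · rw [ha, pow_add]; ring
  · set D := n - (d 0 : ℤ) with hD
    have hu : ((q : ℤ) - p) * (d 2 : ℤ) = D + (p : ℤ) * m * (-j) := by
      rw [show (p : ℤ) * m * (-j) = -(p : ℤ) * ((d 2 : ℤ) - d 1) by rw [hj]; ring]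
      linarith
    have hj1 : 1 ≤ -j := by
      by_contra hh
      have hj0 : (0 : ℤ) ≤ j := by omega
      rcases hj0.eq_or_lt with h | h
      · rw [← h] at hj hu
        simp only [neg_zero, mul_zero, add_zero] at hu
        rcases Nat.eq_zero_or_pos (d 2) with hz | hz
        · rw [hz] at hu; simp only [Nat.cast_zero, mul_zero] at hu; omega
        · have : ((q : ℤ) - p) * 1 ≤ ((q : ℤ) - p) * (d 2 : ℤ) := mul_le_mul_of_nonneg_left (by omega) (by omega)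
          omega
      · have h2 : (1 : ℤ) ≤ (m : ℤ) * j := Int.add_one_le_iff.2 (mul_pos (by exact_mod_cast hm) h)
        have h3 : (q : ℤ) * 1 ≤ (q : ℤ) * ((m : ℤ) * j) := mul_le_mul_of_nonneg_left h2 (by omega)
        have h4 : (0 : ℤ) ≤ ((q : ℤ) - p) * (d 1 : ℤ) := mul_nonneg (by omega) (by omega)
        have h5 : ((q : ℤ) - p) * (d 1 : ℤ) + (q : ℤ) * ((m : ℤ) * j) = D := by rw [← hj]; linarith
        omega
    obtain ⟨g1, g2⟩ := W4c2HJ.ge_of_small hpq hcop hnt hc hi hir hj1 (show 0 < D by omega) (show D < W4c2invhilbsl2.nN p q m c (i - 1) by omega) hu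
    obtain ⟨b, hb⟩ : ∃ b, d 1 = b + E.toNat := ⟨d 1 - E.toNat, by
      have : (d 1 : ℤ) = (d 2 : ℤ) + (m : ℤ) * (-j) := by linarith
      omega⟩
    obtain ⟨c2, hc2⟩ : ∃ b, d 2 = b + L.toNat := ⟨d 2 - L.toNat, by omega⟩
    have hE : (d 1 : ℤ) = (b : ℤ) + E := by omega
    have hL : (d 2 : ℤ) = (c2 : ℤ) + L := by omega
    have hnEL : n = -(p : ℤ) * E + (q : ℤ) * L := rfl
    refine ⟨0, _, Submodule.zero_mem _, W4c2Mon.prod3_mem_zero r (a := d 0) (b := b) (c := c2) ?_ ⟨j + W4c2invhilbsl2.hjP c i, ?_⟩, ?_⟩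
    · rw [hE, hL] at h1; linarith
    · rw [mul_add, ← hj]; linarith
    · rw [hb, hc2, pow_add, pow_add]; ring

end Groth.Agent.S15729
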