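import Groth.Statements.S15732
import Groth.Agent.Lib.W4c2HJ
import Groth.Agent.Lib.W4c2Mon

set_option autoImplicit false
universe u
open W4c2invhilbsl2

namespace Groth.Agent.S15732

/-- Let 0 < p < q be coprime integers and m ≥ 1 such that q − p does not divide m; put g = gcd(m, q−p),
b = (q−p)/g, α = ⌊mp/(q−p)⌋, β = the remainder of mp modulo q−p and t = (q−p−β)/g, so that 1 ≤ t <
b, and let b/t = c₁ − 1/(c₂ − 1/(⋯ − 1/c_r)) be the negative-regular (Hirzebruch–Jung) continued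
fraction expansion with every cᵢ ≥ 2; set P₀ = 0, P₁ = 1, Q₀ = −1, Q₁ = 0, Pᵢ = cᵢ₋₁Pᵢ₋₁ − Pᵢ₋₂, Qᵢ
= cᵢ₋₁Qᵢ₋₁ − Qᵢ₋₂ for 2 ≤ i ≤ r+1, and eᵢ = (α+1+m)Pᵢ − Qᵢ, lᵢ = (α+1)Pᵢ − Qᵢ, nᵢ = q·lᵢ − p·eᵢ,
which are non-negative integers for 0 ≤ i ≤ r+1. Grade the polynomial ring k[X₀,…,X₄] over a field k
by ℤ × ℤ/m, giving X₀ weight (1,0), X₁ and X₂ weight (−p,−1), and X₃ and X₄ weight (q,1). Then for
every 1 ≤ i ≤ r, modulo the principal ideal generated by the weight-zero element X₀^(q−p) − X₁X₄ +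
X₂X₃, every polynomial homogeneous of weight (nᵢ, 0) is congruent to a combination a₀·X₀^(nᵢ) + Σ
a_{e,l}·X₁^(eᵢ−e)X₂^e X₃^(lᵢ−l)X₄^l (sum over 0 ≤ e ≤ eᵢ, 0 ≤ l ≤ lᵢ) whose coefficients a₀, a_{e,l}
are homogeneous of weight zero. Equivalently, in the coordinate ring of the hypersurface the
weight-(nᵢ,0) piece is generated over the weight-zero subring (the invariant ring) by X₀^(nᵢ)
together with the products of a degree-eᵢ monomial in X₁, X₂ and a degree-lᵢ monomial in X₃, X₄.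
(The published statement is over the complex numbers; this row takes any field.) -/
theorem result (k : Type u) [Field k] (p q m : ℕ) (hp : 0 < p) (hpq : p < q) (hcop : Nat.Coprime p q) (hm : 0 < m) (hnt : ¬ (q - p ∣ m)) (c : List ℤ) (hc : W4c2invhilbsl2.IsHJDigits p q m c) (i : ℕ) (hi : 1 ≤ i) (hir : i ≤ c.length)
    (f : MvPolynomial (Fin 5) k) (hf : f ∈ MvPolynomial.weightedHomogeneousSubmodule k (W4c2invhilbsl2.wt5 p q m) (W4c2invhilbsl2.nN p q m c i, (0 : ZMod m))) :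
    ∃ (a₀ : MvPolynomial (Fin 5) k) (a : ℕ → ℕ → MvPolynomial (Fin 5) k),
      a₀ ∈ MvPolynomial.weightedHomogeneousSubmodule k (W4c2invhilbsl2.wt5 p q m) 0 ∧ (∀ e l : ℕ, a e l ∈ MvPolynomial.weightedHomogeneousSubmodule k (W4c2invhilbsl2.wt5 p q m) 0) ∧
      f - (a₀ * MvPolynomial.X (0 : Fin 5) ^ (W4c2invhilbsl2.nN p q m c i).toNat +
          ∑ e ∈ Finset.range ((W4c2invhilbsl2.eE p q m c i).toNat + 1), ∑ l ∈ Finset.range ((W4c2invhilbsl2.lL p q m c i).toNat + 1),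
            a e l * (MvPolynomial.X (1 : Fin 5) ^ ((W4c2invhilbsl2.eE p q m c i).toNat - e) * MvPolynomial.X (2 : Fin 5) ^ e *
              MvPolynomial.X (3 : Fin 5) ^ ((W4c2invhilbsl2.lL p q m c i).toNat - l) * MvPolynomial.X (4 : Fin 5) ^ l)) ∈
        Ideal.span {MvPolynomial.X (0 : Fin 5) ^ (q - p) - MvPolynomial.X 1 * MvPolynomial.X 4 + MvPolynomial.X 2 * MvPolynomial.X 3} := by
  obtain ⟨hl0, he0⟩ := W4c2HJ.lL_nonneg hpq hcop hnt hc (i := i) (by omega)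
  have hn0 := W4c2HJ.nN_nonneg hpq hcop hnt hc (i := i) (by omega)
  have hnd := W4c2HJ.nN_lt_delta hpq hcop hnt hc hi (show i ≤ c.length + 1 by omega)
  have hEL := W4c2HJ.lL_sub (p := p) (q := q) (m := m) (c := c) i
  have hdec := (W4c2HJ.T_spec hpq hcop hnt hc).1 (i - 1) (by omega)
  rw [show i - 1 + 1 = i by omega] at hdec
  have hn' : W4c2invhilbsl2.nN p q m c i < W4c2invhilbsl2.nN p q m c (i - 1) := by
    rw [W4c2HJ.nN_eq hpq, W4c2HJ.nN_eq hpq]
    exact mul_lt_mul_of_pos_left hdec (by exact_mod_cast W4c2HJ.gcdK_pos hpq)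
  set n := W4c2invhilbsl2.nN p q m c i with hn
  set E := W4c2invhilbsl2.eE p q m c i
  set L := W4c2invhilbsl2.lL p q m c i
  have hnEL : n = -(p : ℤ) * E + (q : ℤ) * L := rfl
  suffices H : ∃ (a₀ : MvPolynomial (Fin 5) k) (a : ℕ → ℕ → MvPolynomial (Fin 5) k),
      a₀ ∈ MvPolynomial.weightedHomogeneousSubmodule k (W4c2invhilbsl2.wt5 p q m) 0 ∧ (∀ e l : ℕ, a e l ∈ MvPolynomial.weightedHomogeneousSubmodule k (W4c2invhilbsl2.wt5 p q m) 0) ∧
      f = a₀ * MvPolynomial.X (0 : Fin 5) ^ n.toNat +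
          ∑ e ∈ Finset.range (E.toNat + 1), ∑ l ∈ Finset.range (L.toNat + 1),
            a e l * (MvPolynomial.X (1 : Fin 5) ^ (E.toNat - e) * MvPolynomial.X (2 : Fin 5) ^ e *
              MvPolynomial.X (3 : Fin 5) ^ (L.toNat - l) * MvPolynomial.X (4 : Fin 5) ^ l) by
    obtain ⟨a₀, a, h1, h2, h3⟩ := H
    exact ⟨a₀, a, h1, h2, by rw [← h3, sub_self]; exact Ideal.zero_mem _⟩
  refine W4c2Mon.induction_wh (fun f => ∃ (a₀ : MvPolynomial (Fin 5) k) (a : ℕ → ℕ → MvPolynomial (Fin 5) k),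
      a₀ ∈ MvPolynomial.weightedHomogeneousSubmodule k (W4c2invhilbsl2.wt5 p q m) 0 ∧ (∀ e l : ℕ, a e l ∈ MvPolynomial.weightedHomogeneousSubmodule k (W4c2invhilbsl2.wt5 p q m) 0) ∧
      f = a₀ * MvPolynomial.X (0 : Fin 5) ^ n.toNat +
          ∑ e ∈ Finset.range (E.toNat + 1), ∑ l ∈ Finset.range (L.toNat + 1),
            a e l * (MvPolynomial.X (1 : Fin 5) ^ (E.toNat - e) * MvPolynomial.X (2 : Fin 5) ^ e *
              MvPolynomial.X (3 : Fin 5) ^ (L.toNat - l) * MvPolynomial.X (4 : Fin 5) ^ l))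
    ⟨0, fun _ _ => 0, Submodule.zero_mem _, fun _ _ => Submodule.zero_mem _, by simp⟩ ?_ ?_ hf
  · rintro f g ⟨a₀, a, ha₀, ha, rfl⟩ ⟨b₀, b, hb₀, hb, rfl⟩
    refine ⟨a₀ + b₀, fun e l => a e l + b e l, add_mem ha₀ hb₀, fun e l => add_mem (ha e l) (hb e l), ?_⟩
    simp only [add_mul, Finset.sum_add_distrib]
    ring
  intro d r hd
  rw [W4c2Mon.weight5_iff, ZMod.intCast_zmod_eq_zero_iff_dvd] at hd
  obtain ⟨h1, j, hj⟩ := hd
  rw [W4c2Mon.monomial5]
  by_cases hd0 : n ≤ (d 0 : ℤ)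
  · obtain ⟨a, ha⟩ : ∃ a, d 0 = a + n.toNat := ⟨d 0 - n.toNat, by omega⟩
    refine ⟨_, fun _ _ => 0, W4c2Mon.prod5_mem_zero r (a := a) (b := d 1) (c := d 2) (d := d 3) (e := d 4) ?_ ⟨j, hj⟩,
      fun _ _ => Submodule.zero_mem _, ?_⟩
    · have : (d 0 : ℤ) = (a : ℤ) + n := by omega
      linarith
    · simp only [zero_mul, Finset.sum_const_zero, add_zero]
      rw [ha, pow_add]; ring
  · set D := n - (d 0 : ℤ) with hD
    set u := (d 3 : ℤ) + d 4 with hudef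
    set v := (d 1 : ℤ) + d 2 with hvdef
    have hu : ((q : ℤ) - p) * u = D + (p : ℤ) * m * (-j) := by
      rw [show (p : ℤ) * m * (-j) = -(p : ℤ) * (u - v) by rw [hj]; ring]
      linarith
    have hj1 : 1 ≤ -j := by
      by_contra hh
      have hj0 : (0 : ℤ) ≤ j := by omega
      rcases hj0.eq_or_lt with h | h
      · rw [← h] at hj hu
        simp only [neg_zero, mul_zero, add_zero] at hu
        rcases (show u = 0 ∨ 1 ≤ u by omega) with hz | hz
        · rw [hz, mul_zero] at hu; omega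
        · have : ((q : ℤ) - p) * 1 ≤ ((q : ℤ) - p) * u := mul_le_mul_of_nonneg_left hz (by omega)
          omega
      · have h2 : (1 : ℤ) ≤ (m : ℤ) * j := Int.add_one_le_iff.2 (mul_pos (by exact_mod_cast hm) h)
        have h3 : (q : ℤ) * 1 ≤ (q : ℤ) * ((m : ℤ) * j) := mul_le_mul_of_nonneg_left h2 (by omega)
        have h4 : (0 : ℤ) ≤ ((q : ℤ) - p) * v := mul_nonneg (by omega) (by omega)
        have h5 : ((q : ℤ) - p) * v + (q : ℤ) * ((m : ℤ) * j) = D := by rw [← hj]; linarith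
        omega
    obtain ⟨g1, g2⟩ := W4c2HJ.ge_of_small hpq hcop hnt hc hi hir hj1 (show 0 < D by omega) (show D < W4c2invhilbsl2.nN p q m c (i - 1) by omega) hu
    have hv : E ≤ v := by
      have : v = u + (m : ℤ) * (-j) := by linarith
      omega
    obtain ⟨b1, b2, e, he, hb1, hb2⟩ : ∃ b1 b2 e, e ≤ E.toNat ∧ d 1 = b1 + (E.toNat - e) ∧ d 2 = b2 + e :=
      ⟨d 1 - (E.toNat - min (d 2) E.toNat), d 2 - min (d 2) E.toNat, min (d 2) E.toNat, by omega, by omega, by omega⟩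
    obtain ⟨b3, b4, l, hl, hb3, hb4⟩ : ∃ b3 b4 l, l ≤ L.toNat ∧ d 3 = b3 + (L.toNat - l) ∧ d 4 = b4 + l :=
      ⟨d 3 - (L.toNat - min (d 4) L.toNat), d 4 - min (d 4) L.toNat, min (d 4) L.toNat, by omega, by omega, by omega⟩
    have hz := W4c2Mon.prod5_mem_zero (p := p) (q := q) (m := m) r (a := d 0) (b := b1) (c := b2) (d := b3) (e := b4) (by
        have e1 : (b1 : ℤ) + b2 = v - E := by omega
        have e2 : (b3 : ℤ) + b4 = u - L := by omega
        rw [e1, e2]; linarith) ⟨j + W4c2invhilbsl2.hjP c i, by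
        have e1 : (b1 : ℤ) + b2 = v - E := by omega
        have e2 : (b3 : ℤ) + b4 = u - L := by omega
        rw [e1, e2, mul_add, ← hj]; linarith⟩
    refine ⟨0, fun e' l' => if e' = e ∧ l' = l then MvPolynomial.C r * (MvPolynomial.X 0 ^ d 0 * MvPolynomial.X 1 ^ b1 * MvPolynomial.X 2 ^ b2 * MvPolynomial.X 3 ^ b3 * MvPolynomial.X 4 ^ b4) else 0, Submodule.zero_mem _, fun e' l' => ?_, ?_⟩
    rotate_left
    · rw [zero_mul, zero_add, Finset.sum_eq_single e, Finset.sum_eq_single l]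
      · dsimp only
        rw [if_pos ⟨rfl, rfl⟩, hb1, hb2, hb3, hb4, pow_add, pow_add, pow_add, pow_add]
        ring
      · intro l' _ hne; dsimp only; rw [if_neg (fun h => hne h.2), zero_mul]
      · exact fun h => absurd (Finset.mem_range.2 (by omega)) h
      · intro e' _ hne; exact Finset.sum_eq_zero fun l' _ => by dsimp only; rw [if_neg (fun h => hne h.1), zero_mul]
      · exact fun h => absurd (Finset.mem_range.2 (by omega)) h
    · dsimp only
      split_ifs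
      · exact hz
      · exact Submodule.zero_mem _

end Groth.Agent.S15732
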