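import Groth.Statements.S15733
import Groth.Agent.Lib.W4c2HJ

set_option autoImplicit false
open W4c2invhilbsl2

namespace Groth.Agent.S15733

/-- Let 0 < p < q be coprime integers and m ≥ 1 such that q − p does not divide m; put g = gcd(m, q−p),
b = (q−p)/g, α = ⌊mp/(q−p)⌋, β = the remainder of mp modulo q−p and t = (q−p−β)/g, so that 1 ≤ t <
b, and let b/t = c₁ − 1/(c₂ − 1/(⋯ − 1/c_r)) be the negative-regular (Hirzebruch–Jung) continued
fraction expansion with every cᵢ ≥ 2; set P₀ = 0, P₁ = 1, Q₀ = −1, Q₁ = 0, Pᵢ = cᵢ₋₁Pᵢ₋₁ − Pᵢ₋₂, Qᵢ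
= cᵢ₋₁Qᵢ₋₁ − Qᵢ₋₂ for 2 ≤ i ≤ r+1, and eᵢ = (α+1+m)Pᵢ − Qᵢ, lᵢ = (α+1)Pᵢ − Qᵢ, nᵢ = q·lᵢ − p·eᵢ,
which are non-negative integers for 0 ≤ i ≤ r+1. Then for every 1 < i ≤ r and every integer x with 0
< x < Pᵢ, the remainder of pmx + nᵢ on division by q − p equals nᵢ plus the remainder of pmx on
division by q − p (in particular nᵢ + (pmx mod (q−p)) < q − p). -/
theorem result (p q m : ℕ) (hp : 0 < p) (hpq : p < q) (hcop : Nat.Coprime p q) (hm : 0 < m) (hnt : ¬ (q - p ∣ m)) (c : List ℤ) (hc : W4c2invhilbsl2.IsHJDigits p q m c) (i : ℕ) (hi : 1 < i) (hir : i ≤ c.length)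
    (x : ℤ) (hx0 : 0 < x) (hx : x < W4c2invhilbsl2.hjP c i) :
    Int.emod ((p : ℤ) * m * x + W4c2invhilbsl2.nN p q m c i) ((q : ℤ) - p) = W4c2invhilbsl2.nN p q m c i + Int.emod ((p : ℤ) * m * x) ((q : ℤ) - p) := by
  obtain ⟨i, rfl⟩ : ∃ j, i = j + 1 := ⟨i - 1, by omega⟩
  set b := (W4c2invhilbsl2.bB p q m : ℤ) with hbdef
  set t := (W4c2invhilbsl2.tT p q m : ℤ) with htdef
  set g := (W4c2invhilbsl2.gcdK p q m : ℤ) with hgdef
  have hg : 0 < g := by rw [hgdef]; exact_mod_cast W4c2HJ.gcdK_pos hpq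
  have hb : 0 < b := by
    have := W4c2HJ.t_lt_b hcop hpq hnt
    omega
  have e1 := Int.mul_ediv_add_emod (t * x) b
  have hge : W4c2HJ.T p q m c i ≤ t * x % b :=
    W4c2HJ.res_ge hpq hcop hnt hc hir (K := -(t * x / b)) hx0 hx (Int.emod_nonneg _ hb.ne') (by rw [← hbdef, ← htdef]; linarith)
  have hlt := (W4c2HJ.T_spec hpq hcop hnt hc).1 i (by omega)
  have hpos := W4c2HJ.T_nonneg hpq hcop hnt hc (i := i + 1) (by omega)
  have l1 := Int.emod_lt_of_pos (t * x) hb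
  have hd : (q : ℤ) - p = g * b := W4c2HJ.delta_eq hpq
  have hmp : (m : ℤ) * p = ((q : ℤ) - p) * ((W4c2invhilbsl2.alpha p q m : ℤ) + 1) - g * t := W4c2HJ.mp_eq hpq
  have hn : W4c2invhilbsl2.nN p q m c (i + 1) = g * W4c2HJ.T p q m c (i + 1) := W4c2HJ.nN_eq hpq _
  set r := t * x % b
  set T2 := W4c2HJ.T p q m c (i + 1)
  have hrepr : (p : ℤ) * m * x = g * (b - r) + (((W4c2invhilbsl2.alpha p q m : ℤ) + 1) * x - t * x / b - 1) * ((q : ℤ) - p) := by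
    linear_combination x * hmp + g * e1 + (t * x / b + 1) * hd
  show ((p : ℤ) * m * x + _) % ((q : ℤ) - p) = _ + ((p : ℤ) * m * x) % ((q : ℤ) - p)
  rw [hn, hrepr, show g * (b - r) + (((W4c2invhilbsl2.alpha p q m : ℤ) + 1) * x - t * x / b - 1) * ((q : ℤ) - p) + g * T2 =
    g * (b - r + T2) + (((W4c2invhilbsl2.alpha p q m : ℤ) + 1) * x - t * x / b - 1) * ((q : ℤ) - p) by ring,
    Int.add_mul_emod_self_right, Int.add_mul_emod_self_right, Int.emod_eq_of_lt, Int.emod_eq_of_lt]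
  · ring
  · exact mul_nonneg hg.le (by linarith)
  · rw [hd]; exact mul_lt_mul_of_pos_left (by linarith) hg
  · exact mul_nonneg hg.le (by linarith)
  · rw [hd]; exact mul_lt_mul_of_pos_left (by linarith) hg

end Groth.Agent.S15733
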