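import Groth.Statements.S15734
import Groth.Agent.Lib.W4c2HJ

set_option autoImplicit false
open W4c2invhilbsl2

namespace Groth.Agent.S15734

/-- Let 0 < p < q be coprime integers and m ≥ 1 such that q − p does not divide m; put g = gcd(m, q−p),
b = (q−p)/g, α = ⌊mp/(q−p)⌋, β = the remainder of mp modulo q−p and t = (q−p−β)/g, so that 1 ≤ t <
b, and let b/t = c₁ − 1/(c₂ − 1/(⋯ − 1/c_r)) be the negative-regular (Hirzebruch–Jung) continued
fraction expansion with every cᵢ ≥ 2; set P₀ = 0, P₁ = 1, Q₀ = −1, Q₁ = 0, Pᵢ = cᵢ₋₁Pᵢ₋₁ − Pᵢ₋₂, Qᵢ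
= cᵢ₋₁Qᵢ₋₁ − Qᵢ₋₂ for 2 ≤ i ≤ r+1, and eᵢ = (α+1+m)Pᵢ − Qᵢ, lᵢ = (α+1)Pᵢ − Qᵢ, nᵢ = q·lᵢ − p·eᵢ,
which are non-negative integers for 0 ≤ i ≤ r+1; moreover g divides every nᵢ, and write tᵢ = nᵢ/g
(so t₁ = t). Then (a) for every 1 ≤ i ≤ r the remainder of t·Pᵢ on division by b equals tᵢ, and (b)
for every 1 < i ≤ r and every integer x with 0 < x < Pᵢ the remainder ρ of t·x on division by b
satisfies tᵢ₋₁ ≤ ρ ≤ b + tᵢ − tᵢ₋₁. -/
theorem result (p q m : ℕ) (hp : 0 < p) (hpq : p < q) (hcop : Nat.Coprime p q) (hm : 0 < m) (hnt : ¬ (q - p ∣ m)) (c : List ℤ) (hc : W4c2invhilbsl2.IsHJDigits p q m c) :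
    (∀ i : ℕ, 1 ≤ i → i ≤ c.length →
      Int.emod ((W4c2invhilbsl2.tT p q m : ℤ) * W4c2invhilbsl2.hjP c i) (W4c2invhilbsl2.bB p q m : ℤ) = W4c2invhilbsl2.nN p q m c i / (W4c2invhilbsl2.gcdK p q m : ℤ)) ∧
    (∀ i : ℕ, 1 < i → i ≤ c.length → ∀ x : ℤ, 0 < x → x < W4c2invhilbsl2.hjP c i →
      W4c2invhilbsl2.nN p q m c (i - 1) / (W4c2invhilbsl2.gcdK p q m : ℤ) ≤ Int.emod ((W4c2invhilbsl2.tT p q m : ℤ) * x) (W4c2invhilbsl2.bB p q m : ℤ) ∧
      Int.emod ((W4c2invhilbsl2.tT p q m : ℤ) * x) (W4c2invhilbsl2.bB p q m : ℤ) ≤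
        (W4c2invhilbsl2.bB p q m : ℤ) + W4c2invhilbsl2.nN p q m c i / (W4c2invhilbsl2.gcdK p q m : ℤ) - W4c2invhilbsl2.nN p q m c (i - 1) / (W4c2invhilbsl2.gcdK p q m : ℤ)) := by
  have hg : (W4c2invhilbsl2.gcdK p q m : ℤ) ≠ 0 := by exact_mod_cast (W4c2HJ.gcdK_pos hpq).ne'
  have hdiv : ∀ i, W4c2invhilbsl2.nN p q m c i / (W4c2invhilbsl2.gcdK p q m : ℤ) = W4c2HJ.T p q m c i := fun i => by
    rw [W4c2HJ.nN_eq hpq, Int.mul_ediv_cancel_left _ hg]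
  have hb : (0 : ℤ) < (W4c2invhilbsl2.bB p q m : ℤ) := by
    have := W4c2HJ.t_lt_b hcop hpq hnt
    omega
  refine ⟨fun i h1 hi => ?_, fun i h1 hi x hx0 hx => ?_⟩
  · rw [hdiv]
    show ((W4c2invhilbsl2.tT p q m : ℤ) * W4c2invhilbsl2.hjP c i) % (W4c2invhilbsl2.bB p q m : ℤ) = _
    rw [show (W4c2invhilbsl2.tT p q m : ℤ) * W4c2invhilbsl2.hjP c i =
      W4c2HJ.T p q m c i + W4c2invhilbsl2.hjQ c i * (W4c2invhilbsl2.bB p q m : ℤ) by unfold W4c2HJ.T; ring,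
      Int.add_mul_emod_self_right,
      Int.emod_eq_of_lt (W4c2HJ.T_nonneg hpq hcop hnt hc (by omega)) (W4c2HJ.T_lt_b hpq hcop hnt hc h1 (by omega))]
  · obtain ⟨i, rfl⟩ : ∃ j, i = j + 1 := ⟨i - 1, by omega⟩
    rw [hdiv, hdiv, Nat.add_sub_cancel]
    set b := (W4c2invhilbsl2.bB p q m : ℤ) with hbdef
    set t := (W4c2invhilbsl2.tT p q m : ℤ) with htdef
    show W4c2HJ.T p q m c i ≤ t * x % b ∧ t * x % b ≤ _
    have key : ∀ y, 0 < y → y < W4c2invhilbsl2.hjP c (i + 1) → W4c2HJ.T p q m c i ≤ t * y % b := fun y hy0 hy =>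
      W4c2HJ.res_ge hpq hcop hnt hc hi (K := -(t * y / b)) hy0 hy (Int.emod_nonneg _ hb.ne') (by
        have := Int.mul_ediv_add_emod (t * y) b
        rw [← hbdef, ← htdef]
        linarith)
    refine ⟨key x hx0 hx, ?_⟩
    have h' := key (W4c2invhilbsl2.hjP c (i + 1) - x) (by omega) (by omega)
    have h'' := key x hx0 hx
    have e1 := Int.mul_ediv_add_emod (t * x) b
    have e2 := Int.mul_ediv_add_emod (t * (W4c2invhilbsl2.hjP c (i + 1) - x)) b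
    have hT : t * W4c2invhilbsl2.hjP c (i + 1) = W4c2HJ.T p q m c (i + 1) + b * W4c2invhilbsl2.hjQ c (i + 1) := by
      unfold W4c2HJ.T; ring
    have hlt := (W4c2HJ.T_spec hpq hcop hnt hc).1 i (by omega)
    have hpos := W4c2HJ.T_pos hpq hcop hnt hc (i := i + 1) hi
    have l1 := Int.emod_lt_of_pos (t * x) hb
    have l2 := Int.emod_lt_of_pos (t * (W4c2invhilbsl2.hjP c (i + 1) - x)) hb
    set r1 := t * x % b
    set r2 := t * (W4c2invhilbsl2.hjP c (i + 1) - x) % b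
    set K := W4c2invhilbsl2.hjQ c (i + 1) - t * x / b - t * (W4c2invhilbsl2.hjP c (i + 1) - x) / b with hK
    have hsum : r1 + r2 = W4c2HJ.T p q m c (i + 1) + b * K := by rw [hK]; linarith
    have hK1 : K = 1 := by
      have a1 : 0 < K := by
        by_contra hh
        have : b * K ≤ 0 := mul_nonpos_of_nonneg_of_nonpos hb.le (by omega)
        linarith
      have a2 : K < 2 := by
        by_contra hh
        have : b * 2 ≤ b * K := mul_le_mul_of_nonneg_left (by omega) hb.le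
        linarith
      omega
    rw [hK1, mul_one] at hsum
    linarith

end Groth.Agent.S15734
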