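import Groth.Statements.S15737
import Groth.Agent.Lib.W4c2Mon

set_option autoImplicit false
open W4c2invhilbsl2

namespace Groth.Agent.S15737

/-- For a monomial X₀^d₀X₁^d₁X₂^d₂ of the polynomial ring in X₀, X₁, X₂ (X₂ standing for Xⱼ, j = 3 or 4,
of the five-variable ring) put n = d₀ − p·d₁ + q·d₂ (its weight for the torus diag(t, t^(−p), t^q)),
c = d₁ − d₂ and ω = p·d₁ − q·d₂, so that d₀ = n + ω; here 0 < p < q are coprime integers. Then n + ω
< q − p, that is d₀ < q − p, holds if and only if ω is the least value of ω among all monomials with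
the same pair (n, c). -/
theorem result (p q : ℕ) (hp : 0 < p) (hpq : p < q) (hcop : Nat.Coprime p q) (d0 d1 d2 : ℕ) :
    d0 < q - p ↔
      ∀ e0 e1 e2 : ℕ, (e0 : ℤ) - (p : ℤ) * e1 + (q : ℤ) * e2 = (d0 : ℤ) - (p : ℤ) * d1 + (q : ℤ) * d2 → (e1 : ℤ) - e2 = (d1 : ℤ) - d2 →
        (p : ℤ) * d1 - (q : ℤ) * d2 ≤ (p : ℤ) * e1 - (q : ℤ) * e2 := by
  constructor
  · intro h e0 e1 e2 h1 h2
    by_contra hlt
    rw [not_le] at hlt
    have key : (d0 : ℤ) - e0 = ((q : ℤ) - p) * ((e1 : ℤ) - d1) := by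
      linear_combination -h1 - (q : ℤ) * h2
    rcases lt_trichotomy ((e1 : ℤ) - d1) 0 with hk | hk | hk
    · have := mul_neg_of_pos_of_neg (show (0 : ℤ) < (q : ℤ) - p by omega) hk
      linarith
    · rw [hk, mul_zero] at key; linarith
    · have : ((q : ℤ) - p) * 1 ≤ ((q : ℤ) - p) * ((e1 : ℤ) - d1) := mul_le_mul_of_nonneg_left hk (by omega)
      omega
  · intro h
    by_contra hle
    rw [not_lt] at hle
    have h' := h (d0 - (q - p)) (d1 + 1) (d2 + 1) (by push_cast [Nat.cast_sub hle, Nat.cast_sub hpq.le]; ring) (by push_cast; ring)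
    push_cast at h'
    linarith

end Groth.Agent.S15737
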