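import Groth.Statements.S15738
import Groth.Agent.Lib.W4c2Mon

set_option autoImplicit false
universe u
open W4c2invhilbsl2

namespace Groth.Agent.S15738

/-- Let k be a field and m ≥ 1; for a monomial X₀^d₀X₁^d₁X₂^d₂ of the polynomial ring in X₀, X₁, X₂ (X₂
standing for Xⱼ, j = 3 or 4, of the five-variable ring) put n = d₀ − p·d₁ + q·d₂ (its weight for the
torus diag(t, t^(−p), t^q)), c = d₁ − d₂ and ω = p·d₁ − q·d₂, so that d₀ = n + ω; here 0 < p < q are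
coprime integers. Take two monomials X₀^d₀X₁^d₁X₂^d₂ and X₀^e₀X₁^e₁X₂^e₂ with the same n and with
values c, c' of c congruent modulo m (so both lie in the same ℤ × ℤ/m-weight piece for the weights
(1,0), (−p,−1), (q,1)). Then: (i) if c = c', the difference of the two monomials lies in the
principal ideal (X₀^(q−p) − X₁X₂); (ii) if c' < c, the monomial X₀^d₀X₁^d₁X₂^d₂ lies in the ideal
(X₀^(q−p) − X₁X₂, X₀^(mp)X₁^m); (iii) in all cases the difference lies in the ideal (X₀^(q−p) −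
X₁X₂, 1 − X₀^(mp)X₁^m). -/
theorem result (k : Type u) [Field k] (p q m : ℕ) (hp : 0 < p) (hpq : p < q) (hcop : Nat.Coprime p q) (hm : 0 < m)
    (d0 d1 d2 e0 e1 e2 : ℕ) (hn : (e0 : ℤ) - (p : ℤ) * e1 + (q : ℤ) * e2 = (d0 : ℤ) - (p : ℤ) * d1 + (q : ℤ) * d2)
    (hc : (m : ℤ) ∣ ((d1 : ℤ) - d2) - ((e1 : ℤ) - e2)) :
    ((d1 : ℤ) - d2 = (e1 : ℤ) - e2 →
      (MvPolynomial.X (0 : Fin 3) ^ d0 * MvPolynomial.X (1 : Fin 3) ^ d1 * MvPolynomial.X (2 : Fin 3) ^ d2 - MvPolynomial.X (0 : Fin 3) ^ e0 * MvPolynomial.X (1 : Fin 3) ^ e1 * MvPolynomial.X (2 : Fin 3) ^ e2 : MvPolynomial (Fin 3) k) ∈ Ideal.span {MvPolynomial.X (0 : Fin 3) ^ (q - p) - MvPolynomial.X (1 : Fin 3) * MvPolynomial.X (2 : Fin 3)}) ∧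
    ((e1 : ℤ) - e2 < (d1 : ℤ) - d2 →
      (MvPolynomial.X (0 : Fin 3) ^ d0 * MvPolynomial.X (1 : Fin 3) ^ d1 * MvPolynomial.X (2 : Fin 3) ^ d2 : MvPolynomial (Fin 3) k) ∈ Ideal.span {MvPolynomial.X (0 : Fin 3) ^ (q - p) - MvPolynomial.X (1 : Fin 3) * MvPolynomial.X (2 : Fin 3), MvPolynomial.X (0 : Fin 3) ^ (m * p) * MvPolynomial.X (1 : Fin 3) ^ m}) ∧
    ((MvPolynomial.X (0 : Fin 3) ^ d0 * MvPolynomial.X (1 : Fin 3) ^ d1 * MvPolynomial.X (2 : Fin 3) ^ d2 - MvPolynomial.X (0 : Fin 3) ^ e0 * MvPolynomial.X (1 : Fin 3) ^ e1 * MvPolynomial.X (2 : Fin 3) ^ e2 : MvPolynomial (Fin 3) k) ∈ Ideal.span {MvPolynomial.X (0 : Fin 3) ^ (q - p) - MvPolynomial.X (1 : Fin 3) * MvPolynomial.X (2 : Fin 3), 1 - MvPolynomial.X (0 : Fin 3) ^ (m * p) * MvPolynomial.X (1 : Fin 3) ^ m}) := by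
  open MvPolynomial in
  have key : ∀ {A : Type u} [CommRing A] (φ : MvPolynomial (Fin 3) k →+* A), φ (X 0) ^ (q - p) = φ (X 1) * φ (X 2) →
      ∀ (j : ℕ), ((d1 : ℤ) - d2) = ((e1 : ℤ) - e2) + (m : ℤ) * j →
      φ (X 0 ^ d0 * X 1 ^ d1 * X 2 ^ d2) = (φ (X 0) ^ (m * p) * φ (X 1) ^ m) ^ j * φ (X 0 ^ e0 * X 1 ^ e1 * X 2 ^ e2) := by
    intro A _ φ hrel j hj
    simp only [map_mul, map_pow]
    exact W4c2Mon.shift_class hrel (by omega) j rfl hn hj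
  open MvPolynomial in
  have key' : ∀ {A : Type u} [CommRing A] (φ : MvPolynomial (Fin 3) k →+* A), φ (X 0) ^ (q - p) = φ (X 1) * φ (X 2) →
      ∀ (j : ℕ), ((e1 : ℤ) - e2) = ((d1 : ℤ) - d2) + (m : ℤ) * j →
      φ (X 0 ^ e0 * X 1 ^ e1 * X 2 ^ e2) = (φ (X 0) ^ (m * p) * φ (X 1) ^ m) ^ j * φ (X 0 ^ d0 * X 1 ^ d1 * X 2 ^ d2) := by
    intro A _ φ hrel j hj
    simp only [map_mul, map_pow]
    exact W4c2Mon.shift_class hrel (by omega) j hn rfl hj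
  obtain ⟨t, ht⟩ := hc
  have hrel : ∀ (S : Set (MvPolynomial (Fin 3) k)), (MvPolynomial.X 0 ^ (q - p) - MvPolynomial.X 1 * MvPolynomial.X 2) ∈ S →
      Ideal.Quotient.mk (Ideal.span S) (MvPolynomial.X 0) ^ (q - p) =
        Ideal.Quotient.mk (Ideal.span S) (MvPolynomial.X 1) * Ideal.Quotient.mk (Ideal.span S) (MvPolynomial.X 2) := by
    intro S hS
    rw [← map_pow, ← map_mul, Ideal.Quotient.mk_eq_mk_iff_sub_mem]
    exact Ideal.subset_span hS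
  refine ⟨fun h => ?_, fun h => ?_, ?_⟩
  · rw [← Ideal.Quotient.mk_eq_mk_iff_sub_mem, key _ (hrel _ (Set.mem_singleton _)) 0 (by rw [h]; simp), pow_zero, one_mul]
  · have ht1 : 1 ≤ t := by
      by_contra hh
      have : (m : ℤ) * t ≤ 0 := mul_nonpos_of_nonneg_of_nonpos (by omega) (by omega)
      omega
    rw [← Ideal.Quotient.eq_zero_iff_mem, key _ (hrel _ (Set.mem_insert _ _)) t.toNat (by rw [Int.toNat_of_nonneg (by omega)]; linarith),
      ← map_pow, ← map_pow, ← map_mul, Ideal.Quotient.eq_zero_iff_mem.2 (Ideal.subset_span (Set.mem_insert_of_mem _ (Set.mem_singleton _))),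
      zero_pow (by omega), zero_mul]
  · rw [← Ideal.Quotient.mk_eq_mk_iff_sub_mem]
    set φ := Ideal.Quotient.mk (Ideal.span {(MvPolynomial.X 0 ^ (q - p) - MvPolynomial.X 1 * MvPolynomial.X 2 : MvPolynomial (Fin 3) k), 1 - MvPolynomial.X 0 ^ (m * p) * MvPolynomial.X 1 ^ m}) with hφ
    have hone : φ (MvPolynomial.X 0) ^ (m * p) * φ (MvPolynomial.X 1) ^ m = 1 := by
      rw [← map_pow, ← map_pow, ← map_mul, ← map_one φ, eq_comm, hφ, Ideal.Quotient.mk_eq_mk_iff_sub_mem]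
      exact Ideal.subset_span (Set.mem_insert_of_mem _ rfl)
    rcases le_total 0 t with h | h
    · rw [key φ (hrel _ (Set.mem_insert _ _)) t.toNat (by rw [Int.toNat_of_nonneg h]; linarith), hone, one_pow, one_mul]
    · rw [key' φ (hrel _ (Set.mem_insert _ _)) (-t).toNat (by rw [Int.toNat_of_nonneg (by omega)]; linarith), hone, one_pow, one_mul]

end Groth.Agent.S15738
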