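import Groth.Statements.S15739
import Groth.Agent.Lib.W4c2Mon

set_option autoImplicit false
universe u
open W4c2invhilbsl2

namespace Groth.Agent.S15739

/-- Let k be a field and m ≥ 1, put g = gcd(m, q−p), a = m/g and b = (q−p)/g; for a monomial
X₀^d₀X₁^d₁X₂^d₂ of the polynomial ring in X₀, X₁, X₂ (X₂ standing for Xⱼ, j = 3 or 4, of the
five-variable ring) put n = d₀ − p·d₁ + q·d₂ (its weight for the torus diag(t, t^(−p), t^q)), c = d₁
− d₂ and ω = p·d₁ − q·d₂, so that d₀ = n + ω; here 0 < p < q are coprime integers. Take two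
monomials X₀^d₀X₁^d₁X₂^d₂ and X₀^e₀X₁^e₁X₂^e₂ with the same n, where 0 ≤ n < q − p, whose values c
and c' of c are both divisible by m, and with d₀ < g and e₀ < g (so each has the least ω for its
pair (n, c), as g ≤ q − p). Then: (i) d₀ = e₀, i.e. the two values of ω agree, and m·b divides c −
c'; (ii) if c < c', then X₀^e₀X₁^e₁X₂^e₂ is a multiple of X₀^d₀X₁^d₁X₂^d₂ · X₁^(aq)X₂^(ap); (iii)
the difference of the two monomials lies in the principal ideal (1 − X₁^(aq)X₂^(ap)). -/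
theorem result (k : Type u) [Field k] (p q m : ℕ) (hp : 0 < p) (hpq : p < q) (hcop : Nat.Coprime p q) (hm : 0 < m)
    (d0 d1 d2 e0 e1 e2 : ℕ) (hn : (e0 : ℤ) - (p : ℤ) * e1 + (q : ℤ) * e2 = (d0 : ℤ) - (p : ℤ) * d1 + (q : ℤ) * d2)
    (hn0 : 0 ≤ (d0 : ℤ) - (p : ℤ) * d1 + (q : ℤ) * d2) (hnq : (d0 : ℤ) - (p : ℤ) * d1 + (q : ℤ) * d2 < (q : ℤ) - p)
    (hcd : (m : ℤ) ∣ (d1 : ℤ) - d2) (hce : (m : ℤ) ∣ (e1 : ℤ) - e2)
    (hd0 : d0 < Nat.gcd m (q - p)) (he0 : e0 < Nat.gcd m (q - p)) :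
    (d0 = e0 ∧ ((m : ℤ) * ((q - p) / Nat.gcd m (q - p) : ℕ)) ∣ ((d1 : ℤ) - d2) - ((e1 : ℤ) - e2)) ∧
    ((d1 : ℤ) - d2 < (e1 : ℤ) - e2 →
      (MvPolynomial.X (0 : Fin 3) ^ d0 * MvPolynomial.X (1 : Fin 3) ^ d1 * MvPolynomial.X (2 : Fin 3) ^ d2 * (MvPolynomial.X (1 : Fin 3) ^ (m / Nat.gcd m (q - p) * q) * MvPolynomial.X (2 : Fin 3) ^ (m / Nat.gcd m (q - p) * p)) : MvPolynomial (Fin 3) k) ∣ MvPolynomial.X (0 : Fin 3) ^ e0 * MvPolynomial.X (1 : Fin 3) ^ e1 * MvPolynomial.X (2 : Fin 3) ^ e2) ∧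
    ((MvPolynomial.X (0 : Fin 3) ^ e0 * MvPolynomial.X (1 : Fin 3) ^ e1 * MvPolynomial.X (2 : Fin 3) ^ e2 - MvPolynomial.X (0 : Fin 3) ^ d0 * MvPolynomial.X (1 : Fin 3) ^ d1 * MvPolynomial.X (2 : Fin 3) ^ d2 : MvPolynomial (Fin 3) k) ∈
      Ideal.span {(1 : MvPolynomial (Fin 3) k) - MvPolynomial.X (1 : Fin 3) ^ (m / Nat.gcd m (q - p) * q) * MvPolynomial.X (2 : Fin 3) ^ (m / Nat.gcd m (q - p) * p)}) := by
  set g := Nat.gcd m (q - p) with hg
  set a := m / g * q with ha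
  set b := m / g * p with hb
  obtain ⟨hde, u, hu1, hu2⟩ := W4c2Mon.orbit_J (δ := q - p) (m := m) hg (by omega) hp hm hcop
    (d0 := d0) (d1 := d1) (d2 := d2) (e0 := e0) (e1 := e1) (e2 := e2) hn (by
      obtain ⟨x, hx⟩ := hcd
      obtain ⟨y, hy⟩ := hce
      exact ⟨y - x, by linarith⟩) hd0 he0
  rw [← ha] at hu1
  rw [← hb] at hu2
  have hgdvd : g ∣ q - p := Nat.gcd_dvd_right _ _
  have hgm : g ∣ m := Nat.gcd_dvd_left _ _
  have hpos : 0 < m / g := Nat.div_pos (Nat.gcd_le_left _ hm) (Nat.gcd_pos_of_pos_left _ hm)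
  have hab : (a : ℤ) - b = (m : ℤ) * (((q - p) / g : ℕ) : ℤ) := by
    have h1 : m / g * (q - p) = m * ((q - p) / g) := by
      conv_lhs => rw [← Nat.mul_div_cancel' hgdvd, ← mul_assoc, Nat.div_mul_cancel hgm]
    have h2 : ((m / g * (q - p) : ℕ) : ℤ) = ((m * ((q - p) / g) : ℕ) : ℤ) := by rw [h1]
    rw [ha, hb]
    push_cast [Nat.cast_sub hpq.le] at h2 ⊢
    linarith
  have habpos : (0 : ℤ) < (a : ℤ) - b := by
    have : b < a := Nat.mul_lt_mul_of_pos_left hpq hpos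
    omega
  refine ⟨⟨hde, ⟨-u, ?_⟩⟩, fun h => ?_, ?_⟩
  · rw [← hab]; linarith
  · have hu : 1 ≤ u := by
      by_contra hh
      have : u * ((a : ℤ) - b) ≤ 0 := mul_nonpos_of_nonpos_of_nonneg (by omega) habpos.le
      linarith
    obtain ⟨v, hv⟩ := Int.eq_ofNat_of_zero_le (show (0 : ℤ) ≤ u - 1 by omega)
    obtain rfl : u = (v : ℤ) + 1 := by omega
    have h1 : e1 = d1 + a + v * a := by
      have : (e1 : ℤ) = ((d1 + a + v * a : ℕ) : ℤ) := by push_cast; linarith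
      exact_mod_cast this
    have h2 : e2 = d2 + b + v * b := by
      have : (e2 : ℤ) = ((d2 + b + v * b : ℕ) : ℤ) := by push_cast; linarith
      exact_mod_cast this
    refine ⟨MvPolynomial.X 1 ^ (v * a) * MvPolynomial.X 2 ^ (v * b), ?_⟩
    rw [h1, h2, ← hde, pow_add, pow_add, pow_add, pow_add]
    ring
  · rw [← Ideal.Quotient.mk_eq_mk_iff_sub_mem]
    set φ := Ideal.Quotient.mk (Ideal.span {(1 : MvPolynomial (Fin 3) k) - MvPolynomial.X 1 ^ a * MvPolynomial.X 2 ^ b}) with hφ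
    have hone : φ (MvPolynomial.X 1) ^ a * φ (MvPolynomial.X 2) ^ b = 1 := by
      rw [← map_pow, ← map_pow, ← map_mul, ← map_one φ, eq_comm, hφ, Ideal.Quotient.mk_eq_mk_iff_sub_mem]
      exact Ideal.subset_span rfl
    simp only [map_mul, map_pow, ← hde]
    rcases le_total 0 u with h | h
    · obtain ⟨v, rfl⟩ := Int.eq_ofNat_of_zero_le h
      rw [show e1 = d1 + a * v by
            have : (e1 : ℤ) = ((d1 + a * v : ℕ) : ℤ) := by push_cast; linarith
            exact_mod_cast this,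
        show e2 = d2 + b * v by
            have : (e2 : ℤ) = ((d2 + b * v : ℕ) : ℤ) := by push_cast; linarith
            exact_mod_cast this, pow_add, pow_add, pow_mul (φ (MvPolynomial.X 1)) a v, pow_mul (φ (MvPolynomial.X 2)) b v]
      linear_combination (φ (MvPolynomial.X 0) ^ d0 * φ (MvPolynomial.X 1) ^ d1 * φ (MvPolynomial.X 2) ^ d2) *
        ((mul_pow (φ (MvPolynomial.X 1) ^ a) (φ (MvPolynomial.X 2) ^ b) v).symm.trans (by rw [hone, one_pow]))
    · obtain ⟨v, hv⟩ := Int.eq_ofNat_of_zero_le (show (0 : ℤ) ≤ -u by omega)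
      obtain rfl : u = -(v : ℤ) := by omega
      rw [show d1 = e1 + a * v by
            have : (d1 : ℤ) = ((e1 + a * v : ℕ) : ℤ) := by push_cast; linarith
            exact_mod_cast this,
        show d2 = e2 + b * v by
            have : (d2 : ℤ) = ((e2 + b * v : ℕ) : ℤ) := by push_cast; linarith
            exact_mod_cast this, pow_add, pow_add, pow_mul (φ (MvPolynomial.X 1)) a v, pow_mul (φ (MvPolynomial.X 2)) b v]
      linear_combination -(φ (MvPolynomial.X 0) ^ d0 * φ (MvPolynomial.X 1) ^ e1 * φ (MvPolynomial.X 2) ^ e2) *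
        ((mul_pow (φ (MvPolynomial.X 1) ^ a) (φ (MvPolynomial.X 2) ^ b) v).symm.trans (by rw [hone, one_pow]))

end Groth.Agent.S15739
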