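import Groth.Statements.S1574
import Groth.Agent.Lib.H6.PuncturedDim

set_option autoImplicit false
set_option linter.all false
set_option backward.isDefEq.respectTransparency.types false
universe u
open CategoryTheory CategoryTheory.Limits AlgebraicGeometry
open Divisors

namespace Groth.Agent.S1574

/-- For a Noetherian local ring A, the punctured spectrum (Spec A minus the closed point, as an open
subscheme) is affine if and only if dim A ≤ 1. -/
theorem result (A : Type u) [CommRing A] [IsLocalRing A] [IsNoetherianRing A] :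
    IsAffine (FEt.puncturedSpec A : Scheme.{u}) ↔ ringKrullDim A ≤ 1 := by
  have key : (FEt.puncturedSpec A) = LocCoh.puncturedOpen A (IsLocalRing.maximalIdeal A) :=
    TopologicalSpace.Opens.ext (H6.PuncturedDim.puncturedOpen_carrier A).symm
  constructor
  · intro h
    exact H6.PuncturedDim.dim_le_one_of_isAffineOpen A (key ▸ (h : IsAffineOpen (FEt.puncturedSpec A)))
  · intro hd
    haveI : Ring.KrullDimLE 1 A := Ring.krullDimLE_iff.2 hd
    have hfin : (minimalPrimes A).Finite := minimalPrimes.finite_of_isNoetherianRing A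
    obtain ⟨a, ha, hne⟩ : ∃ a ∈ IsLocalRing.maximalIdeal A, ∀ q ∈ minimalPrimes A, q ≠ IsLocalRing.maximalIdeal A → a ∉ q := by
      by_contra hn
      push Not at hn
      classical
      have hsub : (IsLocalRing.maximalIdeal A : Set A) ⊆ ⋃ q ∈ ((hfin.toFinset.filter fun q => q ≠ IsLocalRing.maximalIdeal A : Finset (Ideal A)) : Set (Ideal A)), ((id q : Ideal A) : Set A) := by
        intro a ha
        obtain ⟨q, hq, hqm, haq⟩ := hn a ha
        exact Set.mem_iUnion₂.2 ⟨q, Finset.mem_coe.2 (Finset.mem_filter.2 ⟨hfin.mem_toFinset.2 hq, hqm⟩), haq⟩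
      obtain ⟨q, hq, hle⟩ := (Ideal.subset_union_prime ⊥ ⊥ (fun q hq _ _ => ((hfin.mem_toFinset).1 (Finset.mem_filter.1 hq).1).1.1)).1 hsub
      obtain ⟨hq1, hqne⟩ := Finset.mem_filter.1 hq
      exact hqne ((IsLocalRing.maximalIdeal.isMaximal A).eq_of_le ((hfin.mem_toFinset).1 hq1).1.1.ne_top hle).symm
    have : FEt.puncturedSpec A = PrimeSpectrum.basicOpen a := by
      ext p
      show p ≠ IsLocalRing.closedPoint A ↔ a ∉ p.asIdeal
      refine ⟨fun hp => ?_, fun h hp => h (by rw [hp]; exact ha)⟩
      have hp' : p.asIdeal ≠ IsLocalRing.maximalIdeal A := fun h => hp (PrimeSpectrum.ext h)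
      rcases (Ring.krullDimLE_one_iff (R := A)).1 inferInstance p.asIdeal p.2 with h | h
      · exact hne _ h hp'
      · exact absurd (IsLocalRing.eq_maximalIdeal h) hp'
    show IsAffineOpen (FEt.puncturedSpec A)
    rw [this]
    exact IsAffineOpen.Spec_basicOpen (R := CommRingCat.of A) a

end Groth.Agent.S1574
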