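import Groth.Statements.S15740
import Groth.Agent.Lib.W4c2Mon

set_option autoImplicit false
open W4c2invhilbsl2

namespace Groth.Agent.S15740

/-- For a monomial X₀^d₀X₁^d₁X₂^d₂ of the polynomial ring in X₀, X₁, X₂ (X₂ standing for Xⱼ, j = 3 or 4,
of the five-variable ring) put n = d₀ − p·d₁ + q·d₂ (its weight for the torus diag(t, t^(−p), t^q)),
c = d₁ − d₂ and ω = p·d₁ − q·d₂, so that d₀ = n + ω; here 0 < p < q are coprime integers. Suppose n
≥ 0, c > 0 and d₀ < q − p (the last condition says that ω is the least value of ω for the pair (n,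
c)). Then ω ≥ 0 if and only if the remainder of p·c on division by q − p, plus n, is less than q −
p. -/
theorem result (p q : ℕ) (hp : 0 < p) (hpq : p < q) (hcop : Nat.Coprime p q) (d0 d1 d2 : ℕ)
    (hn : 0 ≤ (d0 : ℤ) - (p : ℤ) * d1 + (q : ℤ) * d2) (hc : (d2 : ℤ) < d1) (hd0 : d0 < q - p) :
    0 ≤ (p : ℤ) * d1 - (q : ℤ) * d2 ↔
      Int.emod ((p : ℤ) * ((d1 : ℤ) - d2)) ((q : ℤ) - p) + ((d0 : ℤ) - (p : ℤ) * d1 + (q : ℤ) * d2) < (q : ℤ) - p := by
  set δ := (q : ℤ) - p with hδ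
  set n := (d0 : ℤ) - (p : ℤ) * d1 + (q : ℤ) * d2 with hndef
  set w := (p : ℤ) * d1 - (q : ℤ) * d2 with hw
  have hpc : (p : ℤ) * ((d1 : ℤ) - d2) = w + (d2 : ℤ) * δ := by rw [hw, hδ]; ring
  have hd : (d0 : ℤ) = n + w := by rw [hw, hndef]; ring
  have hδ0 : 0 < δ := by omega
  show 0 ≤ w ↔ ((p : ℤ) * ((d1 : ℤ) - d2)) % δ + n < δ
  rw [hpc, Int.add_mul_emod_self_right]
  constructor
  · intro h
    rw [Int.emod_eq_of_lt h (by omega)]
    omega
  · intro h
    have e := Int.mul_ediv_add_emod w δ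
    have h2 := Int.emod_nonneg w hδ0.ne'
    by_contra hneg
    have hk : w / δ ≤ -1 := by
      have := Int.ediv_neg_of_neg_of_pos (show w < 0 by omega) hδ0
      omega
    have : δ * (w / δ) ≤ δ * (-1) := mul_le_mul_of_nonneg_left hk hδ0.le
    omega

end Groth.Agent.S15740
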