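import Groth.Statements.S15749
import Mathlib
import Groth.Agent.Lib.H2FiniteAlgClosed

set_option autoImplicit false
universe u
open CAlg

namespace Groth.Agent.S15749
open scoped TensorProduct
open Polynomial
set_option linter.style.haveILetI false

/-- For an arbitrary commutative ring R, every idempotent of the ring of formal Laurent series R((t)) is
the constant series attached to a unique idempotent of R. Equivalently, the structure map R → R((t))
induces a bijection on idempotents, so that the spectrum of R((t)) is connected if and only if the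
spectrum of R is. No reducedness is assumed. -/
theorem result (R : Type u) [CommRing R]
    (e : LaurentSeries R) (he : IsIdempotentElem e) :
    ∃! r : R, IsIdempotentElem r ∧ HahnSeries.C r = e := by
  have hmap : ∀ (T : Type u) [CommRing T] (f : R →+* T), ∃ φ : LaurentSeries R →+* LaurentSeries T, ∀ x n, (φ x).coeff n = f (x.coeff n) := fun T _ f =>
    ⟨{ toFun := fun x => x.map f.toAddMonoidHom.toZeroHom
       map_one' := HahnSeries.map_one f.toMonoidWithZeroHom
       map_mul' := fun x y => HahnSeries.map_mul (f : R →ₙ+* T)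
       map_zero' := HahnSeries.map_zero _
       map_add' := fun x y => HahnSeries.map_add f.toAddMonoidHom }, fun x n => rfl⟩
  have hred : ∀ n : ℤ, n ≠ 0 → IsNilpotent (e.coeff n) := by
    intro n hn
    rw [← mem_nilradical, nilradical_eq_sInf, Ideal.mem_sInf]
    intro P hP
    haveI : P.IsPrime := hP
    obtain ⟨φ, hφ⟩ := hmap (R ⧸ P) (Ideal.Quotient.mk P)
    rcases IsIdempotentElem.iff_eq_zero_or_one.1 (he.map φ) with h | h
    · have := congrArg (fun x : LaurentSeries (R ⧸ P) => x.coeff n) h
      simpa [hφ, Ideal.Quotient.eq_zero_iff_mem] using this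
    · have := congrArg (fun x : LaurentSeries (R ⧸ P) => x.coeff n) h
      simpa [hφ, hn, Ideal.Quotient.eq_zero_iff_mem] using this
  have h0 : IsNilpotent (e.coeff 0 * e.coeff 0 - e.coeff 0) := by
    rw [← mem_nilradical, nilradical_eq_sInf, Ideal.mem_sInf]
    intro P hP
    haveI : P.IsPrime := hP
    obtain ⟨φ, hφ⟩ := hmap (R ⧸ P) (Ideal.Quotient.mk P)
    rw [← Ideal.Quotient.eq_zero_iff_mem, map_sub, map_mul]
    rcases IsIdempotentElem.iff_eq_zero_or_one.1 (he.map φ) with h | h <;>
    · have := congrArg (fun x : LaurentSeries (R ⧸ P) => x.coeff 0) h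
      simp [hφ] at this
      simp [this]
  have hk : ∀ x ∈ RingHom.ker (Ideal.Quotient.mk (nilradical R)), IsNilpotent x := fun x hx => by
    rw [Ideal.mk_ker] at hx; exact mem_nilradical.1 hx
  obtain ⟨r, hr, hre⟩ := exists_isIdempotentElem_eq_of_ker_isNilpotent (Ideal.Quotient.mk (nilradical R)) hk (Ideal.Quotient.mk _ (e.coeff 0))
    ⟨_, rfl⟩ (by show _ * _ = _; rw [← map_mul, Ideal.Quotient.eq]; exact mem_nilradical.2 h0)
  have hd : e - HahnSeries.C r = 0 := by
      set d := e - HahnSeries.C r with hd
      have hrC : IsIdempotentElem (HahnSeries.C r : LaurentSeries R) := hr.map _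
      have hcube : d * d * d = d := by
        rw [hd]
        linear_combination (e + 1 - 3 * HahnSeries.C r) * he.eq + (3 * e - 1 - HahnSeries.C r) * hrC.eq
      have hdn : ∀ n, IsNilpotent (d.coeff n) := fun n => by
        rcases eq_or_ne n 0 with rfl | hn
        · have h := mem_nilradical.1 (Ideal.Quotient.eq.1 hre.symm)
          simpa [hd] using h
        · simpa [hd, hn] using hred n hn
      -- the coefficients in degree at most zero generate a nilpotent ideal
      obtain ⟨b, hb⟩ : ∃ b : ℤ, ∀ n < b, d.coeff n = 0 := ⟨d.order, fun n hn => HahnSeries.coeff_eq_zero_of_lt_order hn⟩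
      let J : Ideal R := Ideal.span (d.coeff '' Set.Icc b 0)
      obtain ⟨k, hk⟩ : IsNilpotent J := (Ideal.FG.isNilpotent_iff_le_nilradical (Submodule.fg_span ((Set.finite_Icc b 0).image _))).2
        (Ideal.span_le.2 (by rintro _ ⟨n, -, rfl⟩; exact mem_nilradical.2 (hdn n)))
      obtain ⟨φ, hφ⟩ := hmap (R ⧸ J) (Ideal.Quotient.mk J)
      have hbar : φ d = 0 := by
        have hle : ∀ n ≤ 0, (φ d).coeff n = 0 := fun n hn => by
          rcases lt_or_ge n b with h | h
          · simp [hφ, hb n h]
          · simpa [hφ, Ideal.Quotient.eq_zero_iff_mem] using (Ideal.subset_span ⟨n, ⟨h, hn⟩, rfl⟩ : d.coeff n ∈ J)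
        have hstep : ∀ (m : ℕ), ∀ n < (m : ℤ) + 1, (φ d).coeff n = 0 := by
          intro m
          induction m with
          | zero => intro n hn; exact hle n (by omega)
          | succ m ih =>
            intro n hn
            rw [← hcube, map_mul, map_mul, HahnSeries.coeff_mul]
            refine Finset.sum_eq_zero fun ij hij => ?_
            obtain ⟨h1, h2, h3⟩ := Finset.mem_addAntidiagonal.1 hij
            have a2 : (m : ℤ) + 1 ≤ ij.2 := not_lt.1 fun h => h2 (ih _ h)
            refine absurd h1 (not_ne_iff.2 ?_)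
            rw [HahnSeries.coeff_mul]
            refine Finset.sum_eq_zero fun kl hkl => ?_
            obtain ⟨g1, g2, g3⟩ := Finset.mem_addAntidiagonal.1 hkl
            have b1 : (m : ℤ) + 1 ≤ kl.1 := not_lt.1 fun h => g1 (ih _ h)
            have b2 : (m : ℤ) + 1 ≤ kl.2 := not_lt.1 fun h => g2 (ih _ h)
            omega
        ext n
        exact hstep n.toNat n (by omega)
      have hcoeff : ∀ j : ℕ, ∀ n, d.coeff n ∈ J ^ (3 ^ j) := by
        intro j
        induction j with
        | zero => intro n; rw [pow_zero, pow_one, ← Ideal.Quotient.eq_zero_iff_mem]; simpa [hφ] using congrArg (fun x : LaurentSeries (R ⧸ J) => x.coeff n) hbar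
        | succ j ih =>
          intro n
          rw [← hcube, HahnSeries.coeff_mul]
          refine Ideal.sum_mem _ fun ij _ => ?_
          rw [show 3 ^ (j + 1) = (3 ^ j + 3 ^ j) + 3 ^ j by ring, pow_add _ (3 ^ j + 3 ^ j)]
          refine Ideal.mul_mem_mul ?_ (ih _)
          rw [HahnSeries.coeff_mul, pow_add]
          exact Ideal.sum_mem _ fun kl _ => Ideal.mul_mem_mul (ih _) (ih _)
      ext n
      have := Ideal.pow_le_pow_right (Nat.lt_pow_self (n := k) (a := 3) (by norm_num)).le (hcoeff k n)
      rw [hk] at this
      simpa using this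
  exact ⟨r, ⟨hr, (sub_eq_zero.1 hd).symm⟩, fun r' h' => HahnSeries.C_injective (h'.2.trans (sub_eq_zero.1 hd))⟩

end Groth.Agent.S15749
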