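import Groth.Statements.S15768
import Mathlib
import Groth.Prelude.Def_Hens2
import Groth.Agent.Lib.H2PairHenz

set_option autoImplicit false
universe u
open Polynomial
open CAlg

namespace Groth.Agent.S15768
open Polynomial
set_option maxHeartbeats 1000000
set_option synthInstance.maxHeartbeats 400000
set_option backward.isDefEq.respectTransparency.types false

/-- For any ring R and a henselization B of R[t] along (t), every idempotent of B[1/t] comes from a
unique idempotent of R under R → R[t] → B → B[1/t]. -/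
theorem result (R : Type u) [CommRing R]
    (B : Type u) [CommRing B] [Algebra R[X] B] (hB : Hens2.IsPairHenselization R[X] (Ideal.span {(X : R[X])}) B)
    (e : Localization.Away (algebraMap R[X] B X)) (he : IsIdempotentElem e) :
    ∃! r : R, IsIdempotentElem r ∧
      algebraMap B (Localization.Away (algebraMap R[X] B X)) (algebraMap R[X] B (Polynomial.C r)) = e := by
  let L := Localization.Away (algebraMap R[X] B X)
  let x := algebraMap R[X] B X
  haveI hflat : Module.Flat R[X] B := Groth.Agent.H2PairHenz.flat_of_isPH hB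
  haveI := hB.1
  have hx : ∀ z : B, x * z = 0 → z = 0 := fun z hz => by
    refine (Module.Flat.isSMulRegular_of_isRegular (M := B) (r := (X : R[X])) Polynomial.monic_X.isRegular).right_eq_zero_of_smul ?_
    rw [Algebra.smul_def]; exact hz
  have hxn : ∀ (n : ℕ) (z : B), x ^ n * z = 0 → z = 0 := fun n => by
    induction n with
    | zero => intro z hz; simpa using hz
    | succ n ih => exact fun z hz => hx z (ih _ (by rw [← mul_assoc, ← pow_succ]; exact hz))
  have hinj : Function.Injective (algebraMap B L) := by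
    rw [injective_iff_map_eq_zero]
    intro z hz
    obtain ⟨⟨_, n, rfl⟩, hn⟩ := (IsLocalization.map_eq_zero_iff (Submonoid.powers x) L z).1 hz
    exact hxn n z hn
  have hnil : ∀ z : B, x * z ∈ nilradical B → z ∈ nilradical B := fun z ⟨k, hk⟩ => ⟨k, hxn k _ (by rw [← mul_pow]; exact hk)⟩
  have hq := Groth.Agent.H2PairHenz.quotient_bijective hB
  let I := Ideal.span {(X : R[X])}
  have hIB : I.map (algebraMap R[X] B) = Ideal.span {x} := by rw [Ideal.map_span, Set.image_singleton]
  -- decompose modulo `x`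
  have hdec : ∀ b : B, ∃ (a : R) (b1 : B), b = algebraMap R[X] B (C a) + x * b1 := fun b => by
    obtain ⟨q, hq'⟩ := hq.2 (Ideal.Quotient.mk _ b)
    obtain ⟨p, rfl⟩ := Ideal.Quotient.mk_surjective q
    rw [Ideal.quotientMap_mk, Ideal.Quotient.eq, hIB, Ideal.mem_span_singleton] at hq'
    obtain ⟨c, hc⟩ := hq'
    refine ⟨p.coeff 0, algebraMap R[X] B p.divX - c, ?_⟩
    have hp := congrArg (algebraMap R[X] B) (X_mul_divX_add p)
    rw [map_add, map_mul] at hp
    linear_combination -hc - hp
  have hC : ∀ a : R, algebraMap R[X] B (C a) ∈ Ideal.span {x} → a = 0 := fun a ha => by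
    have h0 : Ideal.Quotient.mk I (C a) = 0 := hq.1 (by
      rw [Ideal.quotientMap_mk, map_zero, Ideal.Quotient.eq_zero_iff_mem, hIB]; exact ha)
    rw [Ideal.Quotient.eq_zero_iff_mem, Ideal.mem_span_singleton, X_dvd_iff, coeff_C_zero] at h0
    exact h0
  have key : ∀ (n : ℕ) (b : B), b * b - x ^ n * b ∈ nilradical B → ∃ c, b - x ^ n * c ∈ nilradical B ∧ c * c - c ∈ nilradical B := by
    intro n
    induction n with
    | zero => exact fun b hb => ⟨b, by simp, by simpa using hb⟩
    | succ n ih =>
      intro b hb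
      obtain ⟨a, b1, rfl⟩ := hdec b
      have ha : IsNilpotent a := by
        obtain ⟨k, hk⟩ := hb
        refine ⟨2 * k, hC _ ?_⟩
        have h1 : Ideal.Quotient.mk (Ideal.span {x}) x = 0 := Ideal.Quotient.eq_zero_iff_mem.2 (Ideal.mem_span_singleton_self x)
        rw [← Ideal.Quotient.eq_zero_iff_mem, map_pow, map_pow, map_pow]
        have := congrArg (Ideal.Quotient.mk (Ideal.span {x})) hk
        simp only [map_pow, map_sub, map_mul, map_add, map_zero, h1, zero_mul, add_zero, zero_pow (Nat.succ_ne_zero n), sub_zero] at this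
        rw [pow_mul, sq]
        exact this
      have hCa : algebraMap R[X] B (C a) ∈ nilradical B := (ha.map C).map _
      have h2 : x * (b1 * b1 - x ^ n * b1) ∈ nilradical B := by
        refine hnil _ ?_
        have : x * (x * (b1 * b1 - x ^ n * b1)) = (algebraMap R[X] B (C a) + x * b1) * (algebraMap R[X] B (C a) + x * b1) - x ^ (n + 1) * (algebraMap R[X] B (C a) + x * b1)
            - algebraMap R[X] B (C a) * (algebraMap R[X] B (C a) + 2 * (x * b1) - x ^ (n + 1)) := by ring
        rw [this]
        exact sub_mem hb (Ideal.mul_mem_right _ _ hCa)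
      obtain ⟨c, hc, hcc⟩ := ih b1 (hnil _ h2)
      refine ⟨c, ?_, hcc⟩
      have : algebraMap R[X] B (C a) + x * b1 - x ^ (n + 1) * c = algebraMap R[X] B (C a) + x * (b1 - x ^ n * c) := by ring
      rw [this]
      exact add_mem hCa (Ideal.mul_mem_left _ _ hc)
  obtain ⟨⟨b, ⟨_, n, rfl⟩⟩, rfl⟩ := IsLocalization.mk'_surjective (Submonoid.powers x) e
  have hbn : b * b = x ^ n * b := by
    have h := he.eq
    rw [← IsLocalization.mk'_mul, IsLocalization.mk'_eq_iff_eq] at h
    have h' := hinj h
    simp only [Submonoid.coe_mul] at h'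
    have : x ^ n * (b * b - x ^ n * b) = 0 := by linear_combination h'
    exact sub_eq_zero.1 (hxn n _ this)
  obtain ⟨c, hc, hcc⟩ := key n b (by rw [hbn, sub_self]; exact zero_mem _)
  obtain ⟨c0, hc0, hc0'⟩ := (existsUnique_isIdempotentElem_eq_of_ker_isNilpotent (Ideal.Quotient.mk (nilradical B))
    (fun z hz => by rwa [Ideal.mk_ker] at hz) (Ideal.Quotient.mk _ c) ⟨c, rfl⟩
    (by rw [IsIdempotentElem, ← map_mul, Ideal.Quotient.eq]; exact hcc)).exists
  obtain ⟨r, b1, hrb⟩ := hdec c0
  have hr : IsIdempotentElem r := by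
    refine sub_eq_zero.1 (hC _ ?_)
    rw [map_sub, map_sub, map_mul, map_mul, Ideal.mem_span_singleton]
    refine ⟨b1 - 2 * algebraMap R[X] B (C r) * b1 - x * (b1 * b1), ?_⟩
    have h := hc0.eq
    rw [hrb] at h
    linear_combination h
  have heq : c0 = algebraMap R[X] B (C r) := by
    have hid : IsIdempotentElem (algebraMap R[X] B (C r)) := (hr.map C).map _
    have hmem : c0 - algebraMap R[X] B (C r) ∈ I.map (algebraMap R[X] B) := by
      rw [hIB, hrb, add_sub_cancel_left]; exact Ideal.mem_span_singleton'.2 ⟨b1, mul_comm _ _⟩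
    have hd := Ideal.mem_jacobson_bot.mp (HenselianRing.jac hmem) (-(c0 - algebraMap R[X] B (C r)))
    have h3 : ((c0 - algebraMap R[X] B (C r)) * (-(c0 - algebraMap R[X] B (C r))) + 1) * (c0 - algebraMap R[X] B (C r)) = 0 := by
      have a := hc0.eq
      have b := hid.eq
      linear_combination (-(c0 + 1) + 3 * algebraMap R[X] B (C r)) * a + (algebraMap R[X] B (C r) + 1 - 3 * c0) * b
    exact sub_eq_zero.mp (hd.mul_right_eq_zero.mp h3)
  have hmain : algebraMap B L (algebraMap R[X] B (C r)) = IsLocalization.mk' L b (⟨x ^ n, n, rfl⟩ : Submonoid.powers x) := by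
    rw [← heq]
    refine eq_of_isNilpotent_sub_of_isIdempotentElem (hc0.map _) he ?_
    have h1 : IsNilpotent (algebraMap B L (c0 * x ^ n - b)) := by
      refine IsNilpotent.map ?_ _
      have : c0 * x ^ n - b = x ^ n * (c0 - c) - (b - x ^ n * c) := by ring
      rw [this]
      exact sub_mem (Ideal.mul_mem_left _ _ (Ideal.Quotient.eq.1 hc0')) hc
    have hu : IsUnit (algebraMap B L (x ^ n)) := IsLocalization.map_units L (⟨x ^ n, n, rfl⟩ : Submonoid.powers x)
    have h2 : algebraMap B L c0 - IsLocalization.mk' L b (⟨x ^ n, n, rfl⟩ : Submonoid.powers x) = algebraMap B L (c0 * x ^ n - b) * ↑hu.unit⁻¹ := by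
      rw [Units.eq_mul_inv_iff_mul_eq, IsUnit.unit_spec, sub_mul, IsLocalization.mk'_spec, map_sub, map_mul]
    rw [h2]
    exact (Commute.all _ _).isNilpotent_mul_right h1
  refine ⟨r, ⟨hr, hmain⟩, fun r' ⟨_, hr'⟩ => ?_⟩
  refine sub_eq_zero.1 (hC _ ?_)
  rw [map_sub, map_sub, hinj (hr'.trans hmain.symm), sub_self]
  exact zero_mem _

end Groth.Agent.S15768
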