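import Groth.Statements.S15770
import Mathlib

set_option autoImplicit false
universe u
open CAlg

namespace Groth.Agent.S15770


/-- Let B be a topological ring with Bˣ ⊂ B open and M, M' finitely generated projective B-modules, and
endow Hom_B(M, M') with the module topology (the canonical topology of a finite module). Then the
set of surjective B-linear maps M → M' is open. -/
theorem result (B : Type u) [CommRing B] [TopologicalSpace B]
    [IsTopologicalRing B] (hB : IsOpen {b : B | IsUnit b})
    (M M' : Type u) [AddCommGroup M] [Module B M] [Module.Finite B M] [Module.Projective B M]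
    [AddCommGroup M'] [Module B M'] [Module.Finite B M'] [Module.Projective B M']
    [TopologicalSpace (M →ₗ[B] M')] [IsModuleTopology B (M →ₗ[B] M')] :
    IsOpen {f : M →ₗ[B] M' | Function.Surjective f} := by
  classical
  rw [isOpen_iff_forall_mem_open]
  intro f₀ hf₀
  obtain ⟨s, hs⟩ := Module.projective_lifting_property f₀ LinearMap.id hf₀
  obtain ⟨n, p, hp⟩ := Module.Finite.exists_fin' B M'
  obtain ⟨j, hj⟩ := Module.projective_lifting_property p LinearMap.id hp
  let N : (M →ₗ[B] M') → ((Fin n → B) →ₗ[B] (Fin n → B)) := fun f => j ∘ₗ (f ∘ₗ s) ∘ₗ p + (LinearMap.id - j ∘ₗ p)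
  let lin : (M →ₗ[B] M') →ₗ[B] (Fin n → Fin n → B) :=
    { toFun := fun f a b => j ((f ∘ₗ s) (p (Pi.single b 1))) a
      map_add' := fun f g => by ext a b; simp
      map_smul' := fun c f => by ext a b; simp }
  have hc : Continuous fun f => (LinearMap.toMatrix' (N f)).det := by
    refine Continuous.matrix_det ?_
    refine continuous_pi fun a => continuous_pi fun b => ?_
    have hlin : Continuous fun f => lin f a b :=
      (continuous_apply_apply a b).comp (IsModuleTopology.continuous_of_linearMap lin)
    have : (fun f => LinearMap.toMatrix' (N f) a b) = fun f => lin f a b + (LinearMap.toMatrix' (LinearMap.id - j ∘ₗ p)) a b := by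
      funext f
      simp [N, lin, LinearMap.toMatrix'_apply, Pi.single_apply]
    rw [this]
    exact hlin.add continuous_const
  refine ⟨(fun f => (LinearMap.toMatrix' (N f)).det) ⁻¹' {b : B | IsUnit b}, fun f hf => ?_, hB.preimage hc, ?_⟩
  · have hb : Function.Bijective (N f) := by
      exact (Module.End.isUnit_iff _).1 ((LinearMap.isUnit_iff_isUnit_det (N f)).2 (by rw [← LinearMap.det_toMatrix']; exact hf))
    intro y
    obtain ⟨v, hv⟩ := hb.2 (j y)
    refine ⟨s (p v), ?_⟩
    have h1 : ∀ z, p (j z) = z := fun z => LinearMap.congr_fun hj z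
    have := congrArg p hv
    simpa [N, h1] using this
  · show IsUnit (LinearMap.toMatrix' (N f₀)).det
    have : N f₀ = LinearMap.id := by
      simp only [N, hs]
      rw [LinearMap.id_comp]
      abel
    rw [this, LinearMap.toMatrix'_id, Matrix.det_one]
    exact isUnit_one

end Groth.Agent.S15770
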