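import Groth.Statements.S15774
import Mathlib
import Groth.Agent.Lib.H2AdicComplFS

set_option autoImplicit false
universe u
open CAlg

namespace Groth.Agent.S15774
open Polynomial
set_option maxHeartbeats 1000000
set_option synthInstance.maxHeartbeats 400000
set_option backward.isDefEq.respectTransparency.types false

/-- The instance A[1/t] → Â[1/t]: if (A, tA) is a Henselian pair and the t-power torsion of A is
bounded, then every idempotent of Â[1/t] (Â the t-adic completion) comes from a unique idempotent of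
A[1/t]. -/
theorem result (A : Type u) [CommRing A] (t : A) [HenselianRing A (Ideal.span {t})]
    (hbd : ∃ N : ℕ, ∀ a : A, (∃ m : ℕ, t ^ m * a = 0) → t ^ N * a = 0)
    (e : Localization.Away (algebraMap A (AdicCompletion (Ideal.span {t}) A) t)) (he : IsIdempotentElem e) :
    ∃! e₀ : Localization.Away t, IsIdempotentElem e₀ ∧ Localization.awayMap (algebraMap A (AdicCompletion (Ideal.span {t}) A)) t e₀ = e := by
  let I := Ideal.span {t}
  let Ah := AdicCompletion I A
  let j := algebraMap A Ah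
  let τ := j t
  let L := Localization.Away τ
  let μ : Localization.Away t →+* L := Localization.awayMap j t
  have hIfg : I.FG := ⟨{t}, by simp [I]⟩
  have hμ : ∀ a : A, μ (algebraMap A (Localization.Away t) a) = algebraMap Ah L (j a) := fun a =>
    IsLocalization.map_eq (S := Localization.Away t) _ a
  -- small differences of idempotents vanish
  have small : ∀ {S T : Type u} [CommRing S] [CommRing T] (f : S →+* T) (J : Ideal S), J ≤ Ideal.jacobson ⊥ →
      ∀ (p q : T), IsIdempotentElem p → IsIdempotentElem q → (∃ w ∈ J, p - q = f w) → p = q := fun {S T} _ _ f J hJ p q hp hq ⟨w, hw, hpq⟩ => by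
    have hd := (Ideal.mem_jacobson_bot.mp (hJ hw) (-w)).map f
    have h3 : ((p - q) * (-(p - q)) + 1) * (p - q) = 0 := by
      have a := hp.eq
      have b := hq.eq
      linear_combination (-(p + 1) + 3 * q) * a + (q + 1 - 3 * p) * b
    rw [map_add, map_mul, map_neg, ← hpq, map_one] at hd
    exact sub_eq_zero.mp (hd.mul_right_eq_zero.mp h3)
  haveI hcpl : IsAdicComplete (I.map j) Ah := AdicCompletion.isAdicComplete_self I hIfg
  have hjacA : I ≤ Ideal.jacobson ⊥ := HenselianRing.jac
  have hjacH : I.map j ≤ Ideal.jacobson ⊥ := IsAdicComplete.le_jacobson_bot _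
  -- an element of `t^(k+n+1)` divided by `t^n` is small
  have hdiv : ∀ {S T : Type u} [CommRing S] [CommRing T] (f : S →+* T) (J : Ideal S) (s : S), IsUnit (f s) → s ∈ J →
      ∀ (p : T) (n : ℕ) (a : S), p * f (s ^ n) = f a → (∃ c, a = s ^ (n + 1) * c) → ∃ w ∈ J, p = f w :=
    fun {S T} _ _ f J s hs hsJ p n a hp ⟨c, hc⟩ => ⟨s * c, J.mul_mem_right _ hsJ, (hs.pow n).mul_right_cancel (by
      rw [← map_pow, hp, hc, ← map_mul]; exact congrArg f (by ring))⟩
  have hsurj : ∀ (k : ℕ) (x : Ah), ∃ a : A, ∃ c : Ah, x - j a = τ ^ k * c := fun k x => by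
    obtain ⟨a, ha⟩ := Groth.Agent.H2AdicComplFS.exists_sub_mem hIfg k x
    rw [← Ideal.map_pow, Ideal.span_singleton_pow, Ideal.map_span, Set.image_singleton, map_pow, Ideal.mem_span_singleton] at ha
    exact ⟨a, ha⟩
  have hker : ∀ (k : ℕ) (a : A), (∃ c, j a = τ ^ k * c) → ∃ d, a = t ^ k * d := fun k a ⟨c, hc⟩ => by
    have h1 : AdicCompletion.evalₐ I k (j a) = 0 := by
      rw [hc, map_mul, map_pow, show τ = algebraMap A Ah t from rfl, AlgHom.commutes, Ideal.Quotient.algebraMap_eq, ← map_pow,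
        Ideal.Quotient.eq_zero_iff_mem.2 (Ideal.pow_mem_pow (Ideal.mem_span_singleton_self t) k), zero_mul]
    rw [AlgHom.commutes, Ideal.Quotient.algebraMap_eq, Ideal.Quotient.eq_zero_iff_mem, Ideal.span_singleton_pow, Ideal.mem_span_singleton] at h1
    exact h1
  -- existence
  obtain ⟨⟨b0, ⟨_, n0, rfl⟩⟩, rfl⟩ := IsLocalization.mk'_surjective (Submonoid.powers τ) e
  obtain ⟨⟨_, m, rfl⟩, hm⟩ : ∃ c : Submonoid.powers τ, (c : Ah) * (τ ^ n0 * (b0 * b0)) = c * (τ ^ n0 * τ ^ n0 * b0) := by
    have h := he.eq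
    rw [← IsLocalization.mk'_mul, IsLocalization.mk'_eq_iff_eq] at h
    exact (IsLocalization.eq_iff_exists (Submonoid.powers τ) L).1 h
  let n := n0 + m + n0
  let b := b0 * τ ^ (m + n0)
  have hb : b * b = τ ^ n * b := by
    have hm' : τ ^ m * (τ ^ n0 * (b0 * b0)) = τ ^ m * (τ ^ n0 * τ ^ n0 * b0) := hm
    show b0 * τ ^ (m + n0) * (b0 * τ ^ (m + n0)) = τ ^ (n0 + m + n0) * (b0 * τ ^ (m + n0))
    simp only [pow_add]
    linear_combination (τ ^ m * τ ^ n0) * hm'
  let K := 3 * n + 1
  obtain ⟨a, c1, hc1⟩ := hsurj K b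
  obtain ⟨c, hc⟩ := hker K (a * a - t ^ n * a) ⟨-2 * b * c1 + τ ^ K * c1 ^ 2 + τ ^ n * c1, by
    have hja : j a = b - τ ^ K * c1 := by linear_combination -hc1
    rw [map_sub, map_mul, map_mul, map_pow, hja, show j t = τ from rfl]
    linear_combination hb⟩
  let δ := 2 * a - t ^ n
  let u := 1 + 4 * t ^ (n + 1) * c
  have hu : IsUnit u := by
    have := Ideal.mem_jacobson_bot.mp (hjacA (Ideal.mem_span_singleton_self t)) (4 * t ^ n * c)
    rwa [show t * (4 * t ^ n * c) + 1 = u by simp only [u]; ring] at this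
  let d := t ^ (n + 1) * c * (↑hu.unit⁻¹ : A)
  have hd : d * u = t ^ (n + 1) * c := by
    simp only [d]; rw [mul_assoc, IsUnit.val_inv_mul, mul_one]
  have hδ : δ * δ = t ^ (2 * n) * u := by
    simp only [δ, u, K] at *
    linear_combination 4 * hc
  obtain ⟨z, hz, hzI⟩ := HenselianRing.is_henselian (I := I) (X ^ 2 + X + C d) (by monicity!) 0
    (by simpa using I.mul_mem_right _ (I.mul_mem_right _ (Ideal.mem_span_singleton'.2 ⟨t ^ n, by ring⟩ : t ^ (n + 1) ∈ I)))
    (by simp)
  rw [IsRoot, eval_add, eval_add, eval_pow, eval_X, eval_C] at hz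
  rw [sub_zero] at hzI
  let y := a + δ * z
  have hy : y * y = t ^ n * y := by
    simp only [y, K] at *
    linear_combination hc + (z * z + z) * hδ + t ^ (2 * n) * u * hz - t ^ (2 * n) * hd
  have hy' : ∃ w, y - a = t ^ (n + 1) * w := by
    have hz1 : IsUnit (1 + z) := by
      have := Ideal.mem_jacobson_bot.mp (hjacA hzI) 1
      rwa [mul_one, add_comm] at this
    exact ⟨δ * (-(c * ↑hu.unit⁻¹) * ↑hz1.unit⁻¹), by
      have : z = -d * ↑hz1.unit⁻¹ := by
        rw [Units.eq_mul_inv_iff_mul_eq, IsUnit.unit_spec]; linear_combination hz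
      simp only [y]
      rw [add_sub_cancel_left]
      conv_lhs => rw [this]
      simp only [d]; ring⟩
  let e0 : Localization.Away t := IsLocalization.mk' (Localization.Away t) y (⟨t ^ n, n, rfl⟩ : Submonoid.powers t)
  have he0 : IsIdempotentElem e0 := by
    rw [IsIdempotentElem, ← IsLocalization.mk'_mul, IsLocalization.mk'_eq_iff_eq]
    refine congrArg (algebraMap A _) ?_
    show t ^ n * (y * y) = t ^ n * t ^ n * y
    rw [hy]; ring
  have hτu : IsUnit (algebraMap Ah L τ) := IsLocalization.Away.algebraMap_isUnit τ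
  have hτJ : τ ∈ I.map j := Ideal.mem_map_of_mem j (Ideal.mem_span_singleton_self t)
  have hmap : μ e0 = IsLocalization.mk' L b0 (⟨τ ^ n0, n0, rfl⟩ : Submonoid.powers τ) := by
    refine small (algebraMap Ah L) (I.map j) hjacH _ _ (he0.map μ) he ?_
    refine hdiv (algebraMap Ah L) (I.map j) τ hτu hτJ _ n (j y - b) ?_ ?_
    · rw [sub_mul, map_sub]
      congr 1
      · rw [← map_pow, ← hμ, ← map_mul, IsLocalization.mk'_spec, hμ]
      · have h1 := IsLocalization.mk'_spec L b0 (⟨τ ^ n0, n0, rfl⟩ : Submonoid.powers τ)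
        show _ = algebraMap Ah L (b0 * τ ^ (m + n0))
        rw [show τ ^ n = τ ^ n0 * τ ^ (m + n0) by simp only [n]; ring, map_mul, ← mul_assoc, map_mul]
        exact congrArg (· * _) h1
    · obtain ⟨w, hw⟩ := hy'
      refine ⟨j w - τ ^ (2 * n) * c1, ?_⟩
      have h1 := congrArg j hw
      rw [map_sub, map_mul, map_pow, show j t = τ from rfl] at h1
      simp only [K] at hc1
      linear_combination h1 - hc1
  refine ⟨e0, ⟨he0, hmap⟩, fun e1 ⟨he1, he1'⟩ => ?_⟩
  refine small (algebraMap A (Localization.Away t)) I hjacA e1 e0 he1 he0 ?_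
  obtain ⟨⟨a', ⟨_, k, rfl⟩⟩, hk⟩ := IsLocalization.mk'_surjective (Submonoid.powers t) (e1 - e0)
  have hk' : (e1 - e0) * algebraMap A _ (t ^ k) = algebraMap A _ a' := by rw [← hk]; exact IsLocalization.mk'_spec _ _ _
  have h0 : algebraMap Ah L (j a') = 0 := by
    rw [← hμ, ← hk', map_mul, map_sub, show μ e1 = μ e0 from he1'.trans hmap.symm, sub_self, zero_mul]
  obtain ⟨⟨_, l, rfl⟩, hl⟩ := (IsLocalization.map_eq_zero_iff (Submonoid.powers τ) L _).1 h0
  obtain ⟨w, hw⟩ := hker (k + l + 1) (t ^ l * a') ⟨0, by rw [map_mul, map_pow, mul_zero]; exact hl⟩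
  exact hdiv (algebraMap A (Localization.Away t)) I t (IsLocalization.Away.algebraMap_isUnit t) (Ideal.mem_span_singleton_self t)
    _ (k + l) (t ^ l * a') (by rw [pow_add, map_mul, ← mul_assoc, hk', map_mul, mul_comm]) ⟨w, hw⟩

end Groth.Agent.S15774
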