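import Groth.Statements.S15795
import Mathlib

set_option autoImplicit false
universe u v
open WildQuot

namespace Groth.Agent.S15795

/-- Let `A` be a regular local ring of Krull dimension `n` with maximal ideal `m`, let a finite group
`G` act on `A` by ring automorphisms inducing the identity on the residue field, and let `u_1, …,
u_n` generate `m`. Suppose that for every `σ ∈ G` and every `i`, `σ u_i ∈ (u_1, …, u_i) + m ^ 2`,
i.e. the induced linear maps of `m / m ^ 2` are upper triangular in the basis given by the `u_i`.
Then the system `u` is admissible: for every choice `σ_1, …, σ_n ∈ G` the elements `σ_1 u_1, …, σ_n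
u_n` generate `m`. (The published statement is for a complete regular local ring containing a
`G`-fixed field of representatives; this row drops completeness and asks only that `G` act trivially
on the residue field.) -/
theorem result
    (A : Type u) [CommRing A] [IsRegularLocalRing A]
    (G : Type v) [Group G] [Finite G] [MulSemiringAction G A]
    (hres : ∀ (σ : G) (a : A), σ • a - a ∈ IsLocalRing.maximalIdeal A)
    (n : ℕ) (hn : ringKrullDim A = n) (u : Fin n → A)
    (hu : Ideal.span (Set.range u) = IsLocalRing.maximalIdeal A)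
    (htri : ∀ (σ : G) (i : Fin n),
      σ • u i ∈ Ideal.span (u '' {j | j ≤ i}) ⊔ IsLocalRing.maximalIdeal A ^ 2) :
    ∀ τ : Fin n → G,
      Ideal.span (Set.range fun i => τ i • u i) = IsLocalRing.maximalIdeal A := by
  intro τ
  set J := Ideal.span (Set.range fun i => τ i • u i)
  set m := IsLocalRing.maximalIdeal A
  have hmle : ∀ (σ : G), ∀ x ∈ m, σ • x ∈ m := fun σ x hx => by
    simpa using m.add_mem (hres σ x) hx
  have key : ∀ i, u i ∈ J ⊔ m ^ 2 := by
    intro i
    induction i using WellFoundedLT.induction with
    | _ i ih =>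
      have h1 : ∀ x ∈ Ideal.span (u '' {j | j ≤ i}) ⊔ m ^ 2, τ i • x ∈ J ⊔ m ^ 2 := by
        intro x hx
        obtain ⟨y, hy, z, hz, rfl⟩ := Submodule.mem_sup.1 hx
        clear hx
        rw [smul_add]
        refine add_mem ?_ (Ideal.mem_sup_right ?_)
        · induction hy using Submodule.span_induction with
          | mem y hy =>
            obtain ⟨j, hj, rfl⟩ := hy
            rcases eq_or_lt_of_le (show j ≤ i from hj) with rfl | hlt
            · exact Ideal.mem_sup_left (Ideal.subset_span ⟨j, rfl⟩)
            · refine (sup_le (Ideal.span_le.2 ?_) le_sup_right : Ideal.span (u '' {l | l ≤ j}) ⊔ m ^ 2 ≤ J ⊔ m ^ 2) (htri (τ i) j)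
              rintro _ ⟨l, hl, rfl⟩
              exact ih l (lt_of_le_of_lt (show l ≤ j from hl) hlt)
          | zero => rw [smul_zero]; exact zero_mem _
          | add a b _ _ ha hb => rw [smul_add]; exact add_mem ha hb
          | smul a b _ hb => rw [smul_eq_mul, smul_mul']; exact Ideal.mul_mem_left _ _ hb
        · rw [pow_two] at hz ⊢
          induction hz using Submodule.mul_induction_on' with
          | mem_mul_mem a ha b hb => rw [smul_mul']; exact Ideal.mul_mem_mul (hmle _ _ ha) (hmle _ _ hb)
          | add a _ b _ ha hb => rw [smul_add]; exact add_mem ha hb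
      have h2 := h1 ((τ i)⁻¹ • u i) (htri (τ i)⁻¹ i)
      rwa [smul_inv_smul] at h2
  refine le_antisymm (Ideal.span_le.2 ?_) ?_
  · rintro _ ⟨i, rfl⟩
    exact hmle _ _ (by rw [show m = Ideal.span (Set.range u) from hu.symm]; exact Ideal.subset_span ⟨i, rfl⟩)
  · refine Submodule.le_of_le_smul_of_le_jacobson_bot (IsNoetherian.noetherian m) (IsLocalRing.maximalIdeal_le_jacobson _) ?_
    rw [smul_eq_mul, ← pow_two]
    rw [show m ≤ J ⊔ m ^ 2 ↔ Ideal.span (Set.range u) ≤ J ⊔ m ^ 2 by rw [hu]]
    exact Ideal.span_le.2 (Set.range_subset_iff.2 key)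

end Groth.Agent.S15795
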