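import Groth.Statements.S15811
import Mathlib

set_option autoImplicit false
universe u
open WildQuot

namespace Groth.Agent.S15811

/-- Let `R` be an integrally closed domain of prime characteristic `p` with fraction field `K`, and `α ∈
R`. Then `α ≠ 0` and the polynomial `T ^ p - α T` splits into linear factors over `K` — which says
that the finite flat group scheme `Spec R[T]/(T ^ p - α T)` of order `p` has constant generic fibre
(its `p` roots are then distinct) — if and only if `α = a ^ (p-1)` for some nonzero `a ∈ R`. (The
published statement is that the generic fibre of the finite flat group scheme of order `p` with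
parameters `α, β` satisfying `α β = 0`, whose underlying scheme is `Spec R[T]/(T ^ p - α T)`, is
constant if and only if `β = 0` and `α` is the `(p-1)`-th power of a nonzero element of `R`; this
row states the polynomial condition, in which `α ≠ 0` already forces `β = 0` over a domain.) -/
theorem result
    (p : ℕ) [Fact p.Prime] (R : Type u) [CommRing R] [IsDomain R] [IsIntegrallyClosed R]
    [CharP R p] (α : R) :
    (α ≠ 0 ∧ (Polynomial.map (algebraMap R (FractionRing R))
        (Polynomial.X ^ p - Polynomial.C α * Polynomial.X)).Splits) ↔
      ∃ a : R, a ≠ 0 ∧ α = a ^ (p - 1) := by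
  classical
  set K := FractionRing R
  have hp := (Fact.out : p.Prime)
  haveI : CharP K p := charP_of_injective_algebraMap (IsFractionRing.injective R K) p
  set f : Polynomial K := Polynomial.map (algebraMap R K) (Polynomial.X ^ p - Polynomial.C α * Polynomial.X) with hf
  have hfe : f = Polynomial.X ^ p - Polynomial.C (algebraMap R K α) * Polynomial.X := by simp [f]
  have hdeg : f.natDegree = p := by
    rw [hfe, Polynomial.natDegree_sub_eq_left_of_natDegree_lt]
    · simp
    · refine lt_of_le_of_lt (Polynomial.natDegree_C_mul_le _ _) ?_
      simp [hp.one_lt]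
  have hev : ∀ z : K, f.eval z = z ^ p - algebraMap R K α * z := fun z => by simp [hfe]
  have hp1 : p - 1 + 1 = p := Nat.sub_add_cancel hp.one_le
  constructor
  · rintro ⟨hα, hs⟩
    obtain ⟨z, hz, hz0⟩ : ∃ z ∈ f.roots, z ≠ 0 := by
      by_contra h
      push Not at h
      have h1 := hs.eq_prod_roots
      rw [Multiset.eq_replicate_card.2 h, Multiset.map_replicate, Multiset.prod_replicate, Polynomial.C_0, sub_zero, ← hs.natDegree_eq_card_roots, hdeg] at h1
      have h2 := congrArg (fun q => Polynomial.coeff q 1) h1
      simp only [Polynomial.coeff_C_mul, Polynomial.coeff_X_pow, if_neg hp.one_lt.ne, mul_zero] at h2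
      rw [hfe] at h2
      simp [Polynomial.coeff_X_pow, hp.one_lt.ne] at h2
      exact hα h2
    rw [Polynomial.mem_roots', Polynomial.IsRoot, hev, ← hp1, pow_succ, ← sub_mul, mul_eq_zero, or_iff_left hz0, sub_eq_zero] at hz
    have hint : IsIntegral R z := IsIntegral.of_pow (show 0 < p - 1 by have := hp.two_le; omega) (hz.2 ▸ isIntegral_algebraMap)
    obtain ⟨a, rfl⟩ := IsIntegrallyClosed.algebraMap_eq_of_integral hint
    refine ⟨a, fun h => hz0 (by rw [h, map_zero]), IsFractionRing.injective R K ?_⟩
    rw [map_pow, hz.2]
  · rintro ⟨a, ha, rfl⟩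
    refine ⟨pow_ne_zero _ ha, ?_⟩
    rw [Polynomial.splits_iff_card_roots]
    refine le_antisymm (Polynomial.card_roots' _) ?_
    rw [hdeg]
    have ha' : algebraMap R K a ≠ 0 := fun h => ha (IsFractionRing.injective R K (h.trans (map_zero _).symm))
    let s : Finset K := Finset.univ.image fun c : ZMod p => ZMod.castHom (dvd_refl p) K c * algebraMap R K a
    have hs : s.card = p := by
      rw [Finset.card_image_of_injective _ (fun c d h => (ZMod.castHom (dvd_refl p) K).injective (mul_right_cancel₀ ha' h)), Finset.card_univ, ZMod.card]
    refine hs.symm.le.trans (Multiset.card_le_card (s := s.1) ?_)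
    rw [Multiset.le_iff_subset s.nodup]
    intro x hx
    obtain ⟨c, -, rfl⟩ := Finset.mem_image.1 (Finset.mem_def.2 hx : x ∈ s)
    rw [Polynomial.mem_roots (fun h => hp.ne_zero (by rw [← hdeg, h, Polynomial.natDegree_zero])), Polynomial.IsRoot, hev, mul_pow, ← map_pow, ZMod.pow_card, map_pow,
      mul_comm (algebraMap R K a ^ (p - 1)), mul_assoc, ← pow_succ', hp1, sub_self]

end Groth.Agent.S15811
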