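import Groth.Statements.S15817
import Mathlib

set_option autoImplicit false
universe u v
open CategoryTheory
open CAlg

namespace Groth.Agent.S15817
open scoped TensorProduct
open CategoryTheory
set_option linter.style.haveILetI false

/-- Let A be a commutative ring, M an A-module and P, Q submodules of M. Then the commuting square of
quotient projections with corners M/(P ∩ Q), M/P, M/Q and M/(P + Q) is cartesian in the category of
A-modules: M/(P ∩ Q) is the fibre product of M/P and M/Q over M/(P + Q). -/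
theorem result (A : Type u) [CommRing A] (M : Type v) [AddCommGroup M] [Module A M]
    (P Q : Submodule A M) :
    IsPullback (ModuleCat.ofHom (Submodule.factor (inf_le_left : P ⊓ Q ≤ P)))
      (ModuleCat.ofHom (Submodule.factor (inf_le_right : P ⊓ Q ≤ Q)))
      (ModuleCat.ofHom (Submodule.factor (le_sup_left : P ≤ P ⊔ Q)))
      (ModuleCat.ofHom (Submodule.factor (le_sup_right : Q ≤ P ⊔ Q))) := by
  have hsurj : Function.Surjective (Submodule.factor (inf_le_left : P ⊓ Q ≤ P)) := Submodule.factor_surjective _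
  have hjoint : ∀ x : M ⧸ (P ⊓ Q), Submodule.factor (inf_le_left : P ⊓ Q ≤ P) x = 0 → Submodule.factor (inf_le_right : P ⊓ Q ≤ Q) x = 0 → x = 0 := by
    intro x h1 h2
    obtain ⟨m, rfl⟩ := Submodule.Quotient.mk_surjective _ x
    change Submodule.Quotient.mk m = 0 at h1
    change Submodule.Quotient.mk m = 0 at h2
    rw [Submodule.Quotient.mk_eq_zero] at h1 h2 ⊢
    exact ⟨h1, h2⟩
  have hex : ∀ (y : M ⧸ P) (z : M ⧸ Q), Submodule.factor (le_sup_left : P ≤ P ⊔ Q) y = Submodule.factor (le_sup_right : Q ≤ P ⊔ Q) z →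
      ∃! x : M ⧸ (P ⊓ Q), Submodule.factor (inf_le_left : P ⊓ Q ≤ P) x = y ∧ Submodule.factor (inf_le_right : P ⊓ Q ≤ Q) x = z := by
    intro y z h
    obtain ⟨a, rfl⟩ := Submodule.Quotient.mk_surjective _ y
    obtain ⟨b, rfl⟩ := Submodule.Quotient.mk_surjective _ z
    obtain ⟨p, hp, q, hq, hpq⟩ := Submodule.mem_sup.1 ((Submodule.Quotient.eq (P ⊔ Q)).1 h)
    have hp' : Submodule.factor (inf_le_left : P ⊓ Q ≤ P) (Submodule.Quotient.mk (a - p)) = Submodule.Quotient.mk a := by
      refine (Submodule.Quotient.eq P).2 ?_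
      show a - p - a ∈ P
      simpa using hp
    have hq' : Submodule.factor (inf_le_right : P ⊓ Q ≤ Q) (Submodule.Quotient.mk (a - p)) = Submodule.Quotient.mk b := by
      refine (Submodule.Quotient.eq Q).2 ?_
      show a - p - b ∈ Q
      have : a - p - b = q := by
        change p + q = a - b at hpq
        rw [sub_right_comm, ← hpq, add_sub_cancel_left]
      rw [this]; exact hq
    refine ⟨Submodule.Quotient.mk (a - p), ⟨hp', hq'⟩, fun x hx => sub_eq_zero.1 (hjoint _ ?_ ?_)⟩
    · rw [map_sub, hx.1, hp', sub_self]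
    · rw [map_sub, hx.2, hq', sub_self]
  choose lift hlift huniq using hex
  refine ⟨⟨by ext x; rfl⟩, ⟨Limits.PullbackCone.IsLimit.mk _ (fun s => ModuleCat.ofHom
    { toFun := fun t => lift (s.fst.hom t) (s.snd.hom t) (LinearMap.congr_fun (congrArg ModuleCat.Hom.hom s.condition) t)
      map_add' := fun t t' => (huniq _ _ _ _ ⟨by rw [map_add, map_add, (hlift _ _ _).1, (hlift _ _ _).1], by rw [map_add, map_add, (hlift _ _ _).2, (hlift _ _ _).2]⟩).symm
      map_smul' := fun c t => (huniq _ _ _ _ ⟨by rw [map_smul, map_smul, RingHom.id_apply, (hlift _ _ _).1], by rw [map_smul, map_smul, RingHom.id_apply, (hlift _ _ _).2]⟩).symm })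
    (fun s => by ext t; exact (hlift _ _ _).1) (fun s => by ext t; exact (hlift _ _ _).2)
    (fun s m h1 h2 => by ext t; exact huniq _ _ _ _ ⟨LinearMap.congr_fun (congrArg ModuleCat.Hom.hom h1) t, LinearMap.congr_fun (congrArg ModuleCat.Hom.hom h2) t⟩)⟩⟩

end Groth.Agent.S15817
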