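import Groth.Statements.S15832
import Mathlib

set_option autoImplicit false
set_option backward.isDefEq.respectTransparency.types false
set_option maxHeartbeats 1000000
set_option linter.all false
universe u
open TopGrp

namespace Groth.Agent.S15832
open Groth.Agent

/-- For a group T with a topology, let B be the family of two-sided translates x Γ y, where Γ runs over
the subgroups of T open in the given topology and x, y over T; the topology generated by B makes T a
topological group in which every neighbourhood of the identity contains a subgroup open for that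
topology. (The published statement is for the free topological product of two Noohi groups whose
open subgroups form a basis of neighbourhoods of the identity; the argument uses only the group
structure and the chosen family of subgroups, so the row is stated for an arbitrary group with a
topology. The published conventions include Hausdorffness in the word topological group; this row
does not assert it, and the published argument does not prove it.) -/
theorem result (T : Type u) [Group T]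
    [TopologicalSpace T] :
    @NonarchimedeanGroup T _ (TopologicalSpace.generateFrom
      {S : Set T | ∃ (Γ : OpenSubgroup T) (x y : T), S = (fun g : T => x * g * y) '' (Γ : Set T)}) := by
  set 𝒮 : Set (Set T) := {S : Set T | ∃ (Γ : OpenSubgroup T) (x y : T), S = (fun g : T => x * g * y) '' (Γ : Set T)} with h𝒮
  have hcoset : ∀ S ∈ 𝒮, ∀ g ∈ S, ∃ H : Subgroup T, (∀ a : T, (fun h => a * h) '' (H : Set T) ∈ 𝒮 ∧ (fun h => h * a) '' (H : Set T) ∈ 𝒮 ∧ (fun h => a⁻¹ * h * a) '' (H : Set T) ∈ 𝒮 ∧ ∀ b, (fun h => a⁻¹ * h * a * b) '' (H : Set T) ∈ 𝒮) ∧ (H : Set T) ∈ 𝒮 ∧ ∀ h ∈ H, h * g ∈ S := by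
    rintro _ ⟨Γ, x, y, rfl⟩ _ ⟨γ₀, hγ₀, rfl⟩
    refine ⟨Γ.1.map (MulAut.conj x).toMonoidHom, fun a => ⟨⟨Γ, a * x, x⁻¹, ?_⟩, ⟨Γ, x, x⁻¹ * a, ?_⟩, ⟨Γ, a⁻¹ * x, x⁻¹ * a, ?_⟩, fun b => ⟨Γ, a⁻¹ * x, x⁻¹ * a * b, ?_⟩⟩, ⟨Γ, x, x⁻¹, ?_⟩, ?_⟩
    iterate 4 (rw [Subgroup.coe_map, Set.image_image]; congr 1; funext g; simp [mul_assoc])
    · rw [Subgroup.coe_map]; rfl
    · rintro _ ⟨γ, hγ, rfl⟩
      exact ⟨γ * γ₀, Γ.1.mul_mem hγ hγ₀, by simp [mul_assoc]⟩
  have hinvS : ∀ S ∈ 𝒮, (fun g => g⁻¹) ⁻¹' S ∈ 𝒮 := by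
    rintro _ ⟨Γ, x, y, rfl⟩
    refine ⟨Γ, y⁻¹, x⁻¹, ?_⟩
    ext g
    constructor
    · rintro ⟨γ, hγ, hg⟩
      exact ⟨γ⁻¹, Γ.1.inv_mem hγ, by dsimp only at hg ⊢; rw [← inv_inv g, ← hg]; group⟩
    · rintro ⟨γ, hγ, rfl⟩
      exact ⟨γ⁻¹, Γ.1.inv_mem hγ, by group⟩
  letI τ : TopologicalSpace T := TopologicalSpace.generateFrom 𝒮
  have hmem : ∀ (S : Set T), S ∈ 𝒮 → @IsOpen T (TopologicalSpace.generateFrom 𝒮) S := fun S hS => TopologicalSpace.GenerateOpen.basic _ hS
  haveI : IsTopologicalGroup T :=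
    { continuous_mul := by
        rw [continuous_generateFrom_iff]
        intro S hS
        rw [isOpen_prod_iff]
        intro a b hab
        obtain ⟨H, hH, -, hHS⟩ := hcoset S hS (a * b) hab
        refine ⟨_, _, hmem _ (hH a).2.1, hmem _ ((hH a).2.2.2 b), ⟨1, H.one_mem, one_mul a⟩, ⟨1, H.one_mem, by simp⟩, ?_⟩
        rintro ⟨_, _⟩ ⟨⟨h, hh, rfl⟩, ⟨h', hh', rfl⟩⟩
        have := hHS (h * h') (H.mul_mem hh hh')
        show h * a * (a⁻¹ * h' * a * b) ∈ S
        convert this using 1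
        group
      continuous_inv := by
        rw [continuous_generateFrom_iff]
        intro S hS
        exact hmem _ (hinvS S hS) }
  refine ⟨fun U hU => ?_⟩
  rw [TopologicalSpace.nhds_generateFrom] at hU
  have hgen : ∀ V : Set T, TopologicalSpace.GenerateOpen 𝒮 V → (1 : T) ∈ V → ∃ K : OpenSubgroup T, (K : Set T) ⊆ V := by
    intro V hV
    induction hV with
    | basic S hS =>
      intro h1
      obtain ⟨H, -, hH, hHS⟩ := hcoset S hS 1 h1
      exact ⟨⟨H, hmem _ hH⟩, fun z hz => by simpa using hHS z hz⟩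
    | univ => exact fun _ => ⟨⊤, Set.subset_univ _⟩
    | inter s t _ _ hs ht =>
      intro h1
      obtain ⟨K, hK⟩ := hs h1.1
      obtain ⟨L, hL⟩ := ht h1.2
      exact ⟨K ⊓ L, fun z hz => ⟨hK hz.1, hL hz.2⟩⟩
    | sUnion s _ ih =>
      rintro ⟨t, ht, h1⟩
      obtain ⟨K, hK⟩ := ih t ht h1
      exact ⟨K, hK.trans (Set.subset_sUnion_of_mem ht)⟩
  rw [← TopologicalSpace.nhds_generateFrom] at hU
  obtain ⟨V, hVU, hV, h1⟩ := mem_nhds_iff.1 hU
  obtain ⟨K, hK⟩ := hgen V hV h1
  exact ⟨K, hK.trans hVU⟩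

end Groth.Agent.S15832
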