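import Groth.Statements.S15833
import Mathlib

set_option autoImplicit false
set_option backward.isDefEq.respectTransparency.types false
universe u
open EtBase

namespace Groth.Agent.S15833

open CategoryTheory CategoryTheory.Limits AlgebraicGeometry in
/-- Let i : X₀ ⟶ X be a surjective closed immersion of schemes and f : Y ⟶ X a morphism. Then f
satisfies the valuative criterion (existence and uniqueness of a lift in every valuative square,
over arbitrary valuation rings) if and only if its base change Y ×_X X₀ ⟶ X₀ does. (The published
statement takes X locally Noetherian and connected, X₀ the reduced closed subscheme with the same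
underlying space and f étale, and combines this step with the equivalence between étale schemes over
X and over X₀ to identify the geometric coverings, i.e. the étale morphisms satisfying the valuative
criterion, of X and of X₀; the argument for this step uses only that X₀ ⟶ X is a surjective closed
immersion and that valuation rings are reduced.) -/
theorem result {X X₀ Y : Scheme.{u}} (i : X₀ ⟶ X)
    [IsClosedImmersion i] [Surjective i] (f : Y ⟶ X) :
    ValuativeCriterion f ↔ ValuativeCriterion (pullback.snd f i) := by
  constructor
  · intro h Sq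
    have w : (Sq.i₁ ≫ pullback.fst f i) ≫ f = Spec.map (CommRingCat.ofHom (algebraMap Sq.R Sq.K)) ≫ (Sq.i₂ ≫ i) := by
      rw [Category.assoc, pullback.condition, ← Category.assoc, Sq.commSq.w, Category.assoc]
    obtain ⟨hu⟩ := h { R := Sq.R, K := Sq.K, i₁ := Sq.i₁ ≫ pullback.fst f i, i₂ := Sq.i₂ ≫ i, commSq := ⟨w⟩ }
    have hr := hu.default
    refine ⟨{ default := ⟨pullback.lift hr.l Sq.i₂ hr.fac_right, ?_, pullback.lift_snd _ _ _⟩, uniq := fun a => ?_ }⟩
    · apply pullback.hom_ext
      · rw [Category.assoc, pullback.lift_fst]; exact hr.fac_left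
      · rw [Category.assoc, pullback.lift_snd]; exact Sq.commSq.w.symm
    · ext1
      apply pullback.hom_ext
      · rw [pullback.lift_fst]
        exact congrArg CommSq.LiftStruct.l ((hu.uniq ⟨a.l ≫ pullback.fst f i, by rw [← Category.assoc, a.fac_left], by rw [Category.assoc, pullback.condition, ← Category.assoc, a.fac_right]⟩).trans (hu.uniq hr).symm)
      · rw [pullback.lift_snd]; exact a.fac_right
  · intro h Sq
    haveI : IsReduced (Spec (CommRingCat.of Sq.R)) := inferInstance
    haveI : IsClosedImmersion (pullback.snd i Sq.i₂) := MorphismProperty.pullback_snd _ _ inferInstance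
    haveI : Surjective (pullback.snd i Sq.i₂) := MorphismProperty.pullback_snd _ _ inferInstance
    haveI : IsIso (pullback.snd i Sq.i₂) := isIso_of_isClosedImmersion_of_surjective _
    let j : Spec (CommRingCat.of Sq.R) ⟶ X₀ := inv (pullback.snd i Sq.i₂) ≫ pullback.fst i Sq.i₂
    have hj : j ≫ i = Sq.i₂ := by rw [Category.assoc, pullback.condition, IsIso.inv_hom_id_assoc]
    let q := Spec.map (CommRingCat.ofHom (algebraMap Sq.R Sq.K))
    have w1 : Sq.i₁ ≫ f = (q ≫ j) ≫ i := by rw [Category.assoc, hj]; exact Sq.commSq.w
    obtain ⟨hu⟩ := h { R := Sq.R, K := Sq.K, i₁ := pullback.lift Sq.i₁ (q ≫ j) w1, i₂ := j, commSq := ⟨pullback.lift_snd _ _ _⟩ }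
    have hr := hu.default
    refine ⟨{ default := ⟨hr.l ≫ pullback.fst f i, ?_, ?_⟩, uniq := fun a => ?_ }⟩
    · rw [← Category.assoc, hr.fac_left, pullback.lift_fst]
    · rw [Category.assoc, pullback.condition, ← Category.assoc, hr.fac_right, hj]
    · have w2 : a.l ≫ f = j ≫ i := a.fac_right.trans hj.symm
      have e := congrArg CommSq.LiftStruct.l ((hu.uniq ⟨pullback.lift a.l j w2, by
        apply pullback.hom_ext
        · rw [Category.assoc, pullback.lift_fst, pullback.lift_fst]; exact a.fac_left
        · rw [Category.assoc, pullback.lift_snd, pullback.lift_snd], pullback.lift_snd _ _ _⟩).trans (hu.uniq hr).symm)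
      ext1
      show a.l = hr.l ≫ pullback.fst f i
      rw [← e, pullback.lift_fst]

end Groth.Agent.S15833
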