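import Groth.Statements.S15835
import Mathlib

set_option autoImplicit false
universe u
open SprIso

namespace Groth.Agent.S15835

/-- Over a commutative ring R of prime characteristic p, let n ≥ 1 and let p^m be the largest power of p
dividing n. The locus of n × n matrices with characteristic polynomial t^n is stable under adding a
scalar matrix a·1 with n·a = 0 exactly when a^(p^m) = 0: for X with characteristic polynomial t^n
and such an a, the matrix X + a·1 has characteristic polynomial t^n if and only if a^(p^m) = 0.
(Stated on points with values in an arbitrary ring of characteristic p; the scheme-theoretic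
assertion about the nilpotent scheme of SL_n is this statement for all such rings.) -/
theorem result (p : ℕ) [Fact p.Prime] (R : Type u) [CommRing R]
    [CharP R p] (n : ℕ) (hn : 0 < n) (X : Matrix (Fin n) (Fin n) R) (hX : X.charpoly = Polynomial.X ^ n)
    (a : R) (ha : (n : R) * a = 0) :
    (X + Matrix.scalar (Fin n) a).charpoly = Polynomial.X ^ n ↔ a ^ (p ^ padicValNat p n) = 0 := by
  have hp : p.Prime := Fact.out
  obtain ⟨m, hm⟩ : p ^ padicValNat p n ∣ n := pow_padicValNat_dvd
  set q := p ^ padicValNat p n with hq
  have e : (X + Matrix.scalar (Fin n) a).charpoly = (Polynomial.X ^ q - Polynomial.C (a ^ q)) ^ m := by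
    have h2 := Matrix.charpoly_sub_scalar X (-a)
    rw [map_neg, sub_neg_eq_add, hX] at h2
    rw [h2, hm, Polynomial.pow_comp, Polynomial.X_comp, pow_mul, Polynomial.C_neg, ← sub_eq_add_neg]
    congr 1
    haveI : CharP (Polynomial R) p := inferInstance
    haveI := ExpChar.prime (R := Polynomial R) hp
    rw [hq, sub_pow_char_pow, Polynomial.C_pow]
  have hqpos : 0 < q := pow_pos hp.pos _
  have hm0 : 0 < m := Nat.pos_of_ne_zero fun h => by rw [h, mul_zero] at hm; omega
  have hmp : ¬ p ∣ m := by
    intro hd
    have : p ^ (padicValNat p n + 1) ∣ n := by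
      rw [pow_succ, ← hq]; exact (mul_dvd_mul_left q hd).trans hm.symm.dvd
    exact (pow_succ_padicValNat_not_dvd (by omega)) this
  rw [e]
  constructor
  · intro h
    have hu : IsUnit (m : R) :=
      (CharP.isUnit_natCast_iff hp).mpr hmp
    have hcm : (Polynomial.X - Polynomial.C (a^q) : Polynomial R) ^ m = Polynomial.X ^ m := by
      apply Polynomial.expand_injective hqpos
      rw [map_pow, map_sub, Polynomial.expand_X, Polynomial.expand_C, h, map_pow, Polynomial.expand_X, ← pow_mul, ← hm]
    have h3 := congrArg (fun f => Polynomial.coeff f (m-1)) hcm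
    simp only [sub_eq_add_neg, ← Polynomial.C_neg, Polynomial.coeff_X_add_C_pow, Polynomial.coeff_X_pow] at h3
    rw [if_neg (by omega), show m - (m-1) = 1 by omega, pow_one, Nat.choose_symm (by omega), Nat.choose_one_right] at h3
    rw [hu.mul_left_eq_zero] at h3
    simpa using h3
  · intro h
    rw [h, map_zero, sub_zero, ← pow_mul, ← hm]

end Groth.Agent.S15835
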