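import Groth.Statements.S15839
import Mathlib
import Groth.Agent.Lib.H8Transporter

set_option autoImplicit false
universe u
open CategoryTheory MonoidalCategory CartesianMonoidalCategory MonObj GrpObj AlgebraicGeometry
open SprIso

namespace Groth.Agent.S15839

/-- Let S be a scheme, G an S-group scheme which is affine and of finite presentation over S, and g a
section of G over S. Then the centralizer of g — the subfunctor of G whose points with values in an
S-scheme T are the points x of G with x g_T = g_T x — is represented by a closed subscheme of G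
whose inclusion is of finite presentation. -/
theorem result (S : Scheme.{u}) (G : Over S) [GrpObj G]
    [IsAffineHom G.hom] [LocallyOfFinitePresentation G.hom] (g : 𝟙_ (Over S) ⟶ G) :
    ∃ (Z : Over S) (j : Z ⟶ G), IsClosedImmersion j.left ∧ LocallyOfFinitePresentation j.left ∧
      ∀ (T : Over S) (x : T ⟶ G), (∃ z : T ⟶ Z, z ≫ j = x) ↔
        x * (toUnit T ≫ g) = (toUnit T ≫ g) * x := by
  let D : G ⟶ G ⊗ G := lift (𝟙 G) (𝟙 G)
  let c : G ⟶ G ⊗ G := lift (𝟙 G * (toUnit G ≫ g)) ((toUnit G ≫ g) * 𝟙 G)
  have : IsClosedImmersion D.left := Groth.Agent.H8Transporter.isClosedImmersion_diag G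
  have : LocallyOfFinitePresentation D.left := Groth.Agent.H8Transporter.lfp_diag G
  refine ⟨Over.mk (Limits.pullback.fst c.left D.left ≫ G.hom), Over.homMk (Limits.pullback.fst c.left D.left) rfl,
    inferInstanceAs (IsClosedImmersion (Limits.pullback.fst c.left D.left)),
    inferInstanceAs (LocallyOfFinitePresentation (Limits.pullback.fst c.left D.left)), fun T x => ?_⟩
  rw [Groth.Agent.H8Transporter.eq_iff_diag]
  have hc : x ≫ c = lift (x * (toUnit T ≫ g)) ((toUnit T ≫ g) * x) := by
    simp only [c, comp_lift, comp_mul, Category.comp_id, comp_toUnit_assoc]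
  rw [← hc]
  constructor
  · rintro ⟨z, hz⟩
    have h1 : z.left ≫ Limits.pullback.fst c.left D.left = x.left := congrArg Over.Hom.left hz
    refine ⟨Over.homMk (z.left ≫ Limits.pullback.snd c.left D.left) ?_, Over.OverMorphism.ext ?_⟩
    · have e : z.left ≫ Limits.pullback.snd c.left D.left ≫ D.left = x.left ≫ c.left := by
        rw [← Limits.pullback.condition, reassoc_of% h1]
      have e' := congrArg (fun r => r ≫ (G ⊗ G).hom) e
      simp only [Category.assoc, Over.w] at e'
      exact (Category.assoc _ _ _).trans e'
    · show x.left ≫ c.left = (z.left ≫ Limits.pullback.snd c.left D.left) ≫ D.left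
      rw [Category.assoc, ← Limits.pullback.condition, reassoc_of% h1]
  · rintro ⟨w, hw⟩
    refine ⟨Over.homMk (Limits.pullback.lift x.left w.left (congrArg Over.Hom.left hw)) ?_, ?_⟩
    · show _ ≫ Limits.pullback.fst c.left D.left ≫ G.hom = _
      rw [Limits.pullback.lift_fst_assoc, Over.w x]
    · exact Over.OverMorphism.ext (Limits.pullback.lift_fst _ _ _)

end Groth.Agent.S15839
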