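import Groth.Statements.S15841
import Mathlib.Tactic.Abel

set_option autoImplicit false
set_option backward.isDefEq.respectTransparency.types false
set_option maxHeartbeats 1000000
set_option linter.all false
universe u
open scoped TensorProduct
open SprIso

namespace Groth.Agent.S15841
open Groth.Agent

/-- For a connected reductive group G with maximal torus T whose derived group is simply connected, and
a Coxeter element w (the product of the simple reflections, each once, in any order), an element of
Lie T = k ⊗ X_*(T) fixed by Ad(w) is killed by the differential of every simple root, i.e. lies in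
the centre of Lie G. In root-datum form: let P be a root pairing over ℤ with character lattice M and
cocharacter lattice N, b a base, and suppose each simple coroot has a dual character ω_i in M with
⟨ω_i, α_i^∨⟩ = 1 and ⟨ω_i, α_j^∨⟩ = 0 for every other simple j (the simply connected derived group
hypothesis). If l lists the simple roots without repetition, w^∨ is the composite of the
coreflections along l acting on N, k is a field and H in k ⊗ N satisfies w^∨_k H = H, then (α_i)_k H
= 0 for every simple root α_i, where (α_i)_k is the base change to k of the functional ⟨α_i, −⟩ on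
N. (Stated for an arbitrary field k; the published setting is an algebraically closed field, and the
argument does not depend on k.) -/
theorem result {ι M N : Type u} [AddCommGroup M] [AddCommGroup N]
    (P : RootPairing ι ℤ M N) (b : P.Base)
    (hsc : ∀ i ∈ b.support, ∃ ω : M, P.coroot' i ω = 1 ∧ ∀ j ∈ b.support, j ≠ i → P.coroot' j ω = 0)
    (l : List ι) (hl : l.Nodup) (hlb : ∀ i : ι, i ∈ l ↔ i ∈ b.support)
    (k : Type u) [Field k] (H : k ⊗[ℤ] N)
    (hH : ((l.map (fun i => ((P.coreflection i : N ≃ₗ[ℤ] N) : N →ₗ[ℤ] N))).prod).baseChange k H = H) :
    ∀ i ∈ b.support, (P.root' i).baseChange k H = 0 := by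
    classical
    have key : ∀ (j : ι) (v : k ⊗[ℤ] N),
        ((P.coreflection j : N ≃ₗ[ℤ] N) : N →ₗ[ℤ] N).baseChange k v =
          v - (LinearMap.toSpanSingleton ℤ N (P.coroot j)).baseChange k (LinearMap.baseChange k (P.root' j) v) := by
      intro j v
      induction v using TensorProduct.induction_on with
      | zero => simp
      | tmul a n =>
        rw [LinearMap.baseChange_tmul, LinearMap.baseChange_tmul, LinearMap.baseChange_tmul,
          ← TensorProduct.tmul_sub]
        rfl
      | add x y hx hy => simp only [map_add, hx, hy]; abel
    have hw : ∀ (ω : M) (j : ι) (x : k ⊗[ℤ] ℤ),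
        LinearMap.baseChange k (P.toLinearMap ω) ((LinearMap.toSpanSingleton ℤ N (P.coroot j)).baseChange k x) =
          (P.coroot' j ω) • x := by
      intro ω j x
      induction x using TensorProduct.induction_on with
      | zero => simp
      | tmul a n =>
        rw [LinearMap.baseChange_tmul, LinearMap.baseChange_tmul, ← TensorProduct.tmul_smul]
        congr 1
        rw [LinearMap.toSpanSingleton_apply, map_smul, smul_eq_mul, smul_eq_mul, mul_comm]
        rfl
      | add x y hx hy => simp only [map_add, hx, hy, smul_add]
    have inv : ∀ (ω : M) (l : List ι), (∀ j ∈ l, P.coroot' j ω = 0) →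
        LinearMap.baseChange k (P.toLinearMap ω) (((l.map (fun i => ((P.coreflection i : N ≃ₗ[ℤ] N) : N →ₗ[ℤ] N))).prod).baseChange k H) =
        LinearMap.baseChange k (P.toLinearMap ω) H := by
      intro ω l
      induction l with
      | nil => intro _; simp
      | cons a t ih =>
        intro h
        rw [List.map_cons, List.prod_cons, Module.End.mul_eq_comp, LinearMap.baseChange_comp, LinearMap.comp_apply,
          key, map_sub, hw, h a (List.mem_cons_self), zero_smul, sub_zero,
          ih fun j hj => h j (List.mem_cons_of_mem _ hj)]
    have main : ∀ l : List ι, l.Nodup → (∀ i ∈ l, i ∈ b.support) →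
        ((l.map (fun i => ((P.coreflection i : N ≃ₗ[ℤ] N) : N →ₗ[ℤ] N))).prod).baseChange k H = H →
        ∀ i ∈ l, LinearMap.baseChange k (P.root' i) H = 0 := by
      intro l
      induction l with
      | nil => intro _ _ _ i hi; simp at hi
      | cons a t ih =>
        intro hnd hsub hfix i hi
        obtain ⟨hat, hnd'⟩ := List.nodup_cons.1 hnd
        obtain ⟨ω, h1, h0⟩ := hsc a (hsub a List.mem_cons_self)
        have hi' := inv ω t fun j hj => h0 j (hsub j (List.mem_cons_of_mem _ hj)) (fun h => hat (h ▸ hj))
        rw [List.map_cons, List.prod_cons, Module.End.mul_eq_comp, LinearMap.baseChange_comp, LinearMap.comp_apply,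
          key] at hfix
        have := congrArg (LinearMap.baseChange k (P.toLinearMap ω)) hfix
        rw [map_sub, hw, h1, one_smul, hi', sub_eq_self] at this
        rw [this, map_zero, sub_zero] at hfix
        rw [hfix] at this
        rcases List.mem_cons.1 hi with rfl | hit
        · exact this
        · exact ih hnd' (fun j hj => hsub j (List.mem_cons_of_mem _ hj)) hfix i hit
    exact fun i hi => main l hl (fun i h => (hlb i).1 h) hH i ((hlb i).2 hi)

end Groth.Agent.S15841
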