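import Groth.Statements.S15845
import Mathlib

set_option autoImplicit false
universe u
open SprIso

namespace Groth.Agent.S15845

/-- General linear group case: this is the case G = GL_n with its upper-triangular Borel subgroup B
(derived group SL_n simply connected, all primes good, so the hypotheses on the characteristic
hold), together with the companion statement for a regular nilpotent element of Lie B. Let k be a
field and u an n × n upper-triangular matrix over k whose diagonal entries are all equal and whose
superdiagonal entries u_{i,i+1} are all non-zero — for diagonal 1 this is a regular unipotent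
element of B(k), for diagonal 0 a regular nilpotent element of Lie B. Then the centralizer of u in
GL_n is contained in B and is the product of the centre with the centralizer in the unipotent
radical: for every commutative k-algebra R and every invertible x ∈ M_n(R) commuting with u_R, x is
upper triangular and its diagonal entries are all equal. (The smoothness of the centralizer in the
unipotent radical, also part of the published statement, is not stated here.) -/
theorem result (k : Type u) [Field k] (n : ℕ)
    (u : Matrix (Fin n) (Fin n) k) (htri : ∀ i j : Fin n, j < i → u i j = 0) (hdiag : ∀ i j : Fin n, u i i = u j j)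
    (hreg : ∀ (i j : Fin n), j.val = i.val + 1 → u i j ≠ 0)
    (R : Type u) [CommRing R] [Algebra k R] (x : Matrix (Fin n) (Fin n) R) (hx : IsUnit x)
    (hxu : x * u.map (algebraMap k R) = u.map (algebraMap k R) * x) :
    (∀ i j : Fin n, j < i → x i j = 0) ∧ (∀ i j : Fin n, x i i = x j j) := by
  have key : ∀ (c : R), x * (u.map (algebraMap k R) - Matrix.scalar (Fin n) c) = (u.map (algebraMap k R) - Matrix.scalar (Fin n) c) * x := by
    intro c
    rw [Matrix.mul_sub, Matrix.sub_mul, hxu, (Matrix.scalar_commute c (fun r => Commute.all c r) x).eq]
  rcases Nat.eq_zero_or_pos n with hn | hn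
  · subst hn; exact ⟨fun i => i.elim0, fun i => i.elim0⟩
  set c0 := algebraMap k R (u ⟨0, hn⟩ ⟨0, hn⟩)
  set N := u.map (algebraMap k R) - Matrix.scalar (Fin n) c0 with hN
  have hN0 : ∀ i j : Fin n, (j : ℕ) ≤ i → N i j = 0 := by
    intro i j hji
    rcases eq_or_lt_of_le hji with h | h
    · have : j = i := Fin.ext h
      subst this; simp [hN, c0, hdiag j ⟨0, hn⟩]
    · have : i ≠ j := fun e => by subst e; omega
      simp [hN, htri i j h, this]
  have hN1 : ∀ i j : Fin n, (j : ℕ) = i + 1 → IsUnit (N i j) := by
    intro i j h
    have : i ≠ j := fun e => by subst e; omega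
    simp [hN, this]
    exact (hreg i j h).isUnit.map _
  have hcomm : ∀ i j, ∑ l, x i l * N l j = ∑ l, N i l * x l j := fun i j => by
    have := congrFun (congrFun (key c0) i) j
    simpa only [Matrix.mul_apply] using this
  have hlow : ∀ (j : ℕ) (jj i : Fin n), (jj : ℕ) = j → jj < i → x i jj = 0 := by
    intro j
    induction j using Nat.strong_induction_on with
    | _ j ihj =>
      intro jj
      suffices h : ∀ (d : ℕ) (i : Fin n), n - (i : ℕ) = d → (jj : ℕ) = j → jj < i → x i jj = 0 from fun i => h _ i rfl
      intro d
      induction d using Nat.strong_induction_on with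
      | _ d ihd =>
        intro i hd hj hlt
        have hltn : (jj : ℕ) < i := hlt
        let i' : Fin n := ⟨(i : ℕ) - 1, by omega⟩
        have h1 : ∑ l, x i' l * N l jj = 0 := Finset.sum_eq_zero fun l _ => by
          by_cases hl : (jj : ℕ) ≤ l
          · rw [hN0 l jj hl, mul_zero]
          · rw [ihj l (by omega) l i' rfl (by show (l : ℕ) < (i:ℕ) - 1; omega), zero_mul]
        have h2 : ∑ l, N i' l * x l jj = N i' i * x i jj := by
          refine Finset.sum_eq_single i (fun l _ hl => ?_) (by simp)
          by_cases hl' : (l : ℕ) ≤ i'
          · rw [hN0 i' l hl', zero_mul]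
          · have hlg : (i : ℕ) < l := by
              have : (l : ℕ) ≠ i := fun e => hl (Fin.ext e)
              simp only [i'] at hl'; omega
            rw [ihd (n - l) (by omega) l rfl hj (lt_trans hlt hlg), mul_zero]
        have h3 := hcomm i' jj
        rw [h1, h2] at h3
        exact (hN1 i' i (by simp [i']; omega)).mul_right_eq_zero.mp h3.symm
  refine ⟨fun i j h => hlow _ j i rfl h, ?_⟩
  have hstep : ∀ i j : Fin n, (j : ℕ) = i + 1 → x i i = x j j := by
    intro i j h
    have h1 : ∑ l, x i l * N l j = x i i * N i j := by
      refine Finset.sum_eq_single i (fun l _ hl => ?_) (by simp)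
      rcases lt_trichotomy (l : ℕ) i with h' | h' | h'
      · rw [hlow _ l i rfl h', zero_mul]
      · exact absurd (Fin.ext h') hl
      · rw [hN0 l j (by omega), mul_zero]
    have h2 : ∑ l, N i l * x l j = N i j * x j j := by
      refine Finset.sum_eq_single j (fun l _ hl => ?_) (by simp)
      rcases lt_trichotomy (l : ℕ) j with h' | h' | h'
      · rw [hN0 i l (by omega), zero_mul]
      · exact absurd (Fin.ext h') hl
      · rw [hlow _ j l rfl h', mul_zero]
    have h3 := hcomm i j
    rw [h1, h2, mul_comm (N i j)] at h3
    exact (hN1 i j h).mul_left_injective h3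
  have h0 : ∀ (a : ℕ) (ha : a < n), x ⟨a, ha⟩ ⟨a, ha⟩ = x ⟨0, hn⟩ ⟨0, hn⟩ := by
    intro a
    induction a with
    | zero => intro; rfl
    | succ a ih => intro ha; rw [← ih (by omega), hstep ⟨a, by omega⟩ ⟨a+1, ha⟩ rfl]
  intro i j
  rw [h0 i i.2, h0 j j.2]

end Groth.Agent.S15845
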