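import Groth.Statements.S15897
import Mathlib
import Groth.Agent.Lib.H8Pairing

set_option autoImplicit false
universe u v
open CartDual

namespace Groth.Agent.S15897

/-- Let R be a commutative ring and A a commutative Hopf algebra over R which is finitely generated and
projective as an R-module (a finite locally free R-group scheme G = Spec A, not assumed
commutative). If the convolution product on the dual Hopf algebra Hom_R(A, R) is commutative, then A
is cocommutative, i.e. G is a commutative group scheme. (The dual Hopf algebra is commutative
exactly when A is cocommutative; the other implication is immediate and not stated. The published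
notes work over a Noetherian base ring; the row allows any commutative base ring.) -/
theorem result (R : Type u) [CommRing R] (A : Type v) [CommRing A] [HopfAlgebra R A]
    [Module.Finite R A] [Module.Projective R A] (h : ∀ x y : CartDual.D R A, x * y = y * x) :
    Coalgebra.IsCocomm R A := by
  refine ⟨LinearMap.ext fun a => H8Pairing.ext_pair fun φ ψ => ?_⟩
  have h1 : ((WithConv.toConv φ : CartDual.D R A) * WithConv.toConv ψ) a =
      ((WithConv.toConv ψ : CartDual.D R A) * WithConv.toConv φ) a := by rw [h]
  simp only [LinearMap.convMul_apply] at h1
  have key : ∀ (α β : A →ₗ[R] R) (z : TensorProduct R A A),
      TensorProduct.lid R R (TensorProduct.map α β z) = LinearMap.mul' R R (TensorProduct.map α β z) := by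
    intro α β z
    induction z using TensorProduct.induction_on with
    | zero => simp
    | tmul x y => simp
    | add x y hx hy => simp only [map_add, hx, hy]
  have key2 : ∀ z : TensorProduct R A A, LinearMap.mul' R R (TensorProduct.map φ ψ (TensorProduct.comm R A A z)) =
      LinearMap.mul' R R (TensorProduct.map ψ φ z) := by
    intro z
    induction z using TensorProduct.induction_on with
    | zero => simp
    | tmul x y => simp [mul_comm]
    | add x y hx hy => simp only [map_add, hx, hy]
  simp only [LinearMap.comp_apply, LinearEquiv.coe_coe, key, key2]
  exact h1.symm

end Groth.Agent.S15897
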