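import Groth.Statements.S15941
import Groth.Agent.Lib.H6.AWN2
import Mathlib.RingTheory.IntegralClosure.IntegrallyClosed
import Mathlib.RingTheory.Localization.FractionRing

set_option autoImplicit false
set_option linter.all false
universe u
open HTop

namespace Groth.Agent.S15941

/-- An integrally closed integral domain is a seminormal ring, that is, whenever x^3 = y^2 there is
exactly one element a with x = a^2 and y = a^3. (The published statement is for a normal Noetherian
scheme and reduces at once to this affine integral case; the Noetherian hypothesis plays no role.) -/
theorem result (A : Type u) [CommRing A] [IsDomain A]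
    [IsIntegrallyClosed A] : HTop.IsSeminormalRing A := by
  refine Groth.Agent.H6.AWN.seminormal_of fun x y h => ?_
  obtain ⟨a, ha, ha'⟩ := Groth.Agent.H6.AWN.exists_field_sq (algebraMap A (FractionRing A) x)
    (algebraMap A (FractionRing A) y) (by rw [← map_pow, ← map_pow, h])
  have hi : IsIntegral A a := IsIntegral.of_pow two_pos (ha ▸ isIntegral_algebraMap)
  obtain ⟨b, hb⟩ := IsIntegrallyClosed.isIntegral_iff.1 hi
  exact ⟨b, IsFractionRing.injective A (FractionRing A) (by rw [ha, map_pow, hb]),
    IsFractionRing.injective A (FractionRing A) (by rw [ha', map_pow, hb])⟩

end Groth.Agent.S15941
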