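import Groth.Statements.S16014
import Mathlib

set_option autoImplicit false
universe u
open W4c3ghconstell

namespace Groth.Agent.S16014

/-- Let B = ⊕_{n ∈ ℤ} ⊕_τ B^n_τ be a bigraded finite-dimensional vector space, τ running over a finite
index set, with B^n = 0 for n < −N and for n > M (N, M integers); put d(n, τ) = dim B^n_τ. For
rational numbers φ_τ write φ(C) = Σ_τ φ_τ dim C_τ for a τ-graded piece C, and let B^{≥n} = ⊕_{m ≥ n}
B^m, so that dim B^{≥n}_τ = Σ_{n ≤ m ≤ M} d(m, τ). Then Σ_{−N ≤ n ≤ M} n · φ(B^n) = Σ_{−N+1 ≤ n ≤ M}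
φ(B^{≥n}) − N · φ(B). (Stated directly on the dimension function d.) -/
theorem result {τ : Type u} [Fintype τ] (d : ℤ → τ → ℕ) (φ : τ → ℚ) (N M : ℤ)
    (hN : ∀ n, n < -N → d n = 0) (hM : ∀ n, M < n → d n = 0) :
    ∑ n ∈ Finset.Icc (-N) M, (n : ℚ) * (∑ t, φ t * (d n t : ℚ)) =
      ∑ n ∈ Finset.Icc (-N + 1) M, (∑ t, φ t * (∑ m ∈ Finset.Icc n M, (d m t : ℚ))) -
        (N : ℚ) * (∑ t, φ t * (∑ m ∈ Finset.Icc (-N) M, (d m t : ℚ))) := by
  have key : ∀ (f : ℤ → ℚ) (M : ℤ), -N - 1 ≤ M → ∑ n ∈ Finset.Icc (-N) M, (n : ℚ) * f n =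
      ∑ n ∈ Finset.Icc (-N + 1) M, (∑ m ∈ Finset.Icc n M, f m) - (N : ℚ) * ∑ m ∈ Finset.Icc (-N) M, f m := by
    intro f M hM
    induction M, hM using Int.le_induction with
    | base => simp
    | succ M hM ih =>
      have e : ∀ a : ℤ, a ≤ M + 1 → Finset.Icc a (M + 1) = insert (M + 1) (Finset.Icc a M) := fun a ha => by
        ext x; simp; omega
      have hnot : ∀ a : ℤ, M + 1 ∉ Finset.Icc a M := fun a => by simp
      rw [e (-N) (by omega), Finset.sum_insert (hnot _), Finset.sum_insert (hnot _)]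
      rcases eq_or_lt_of_le hM with h | h
      · subst h
        simp
      · have hstep : ∀ n ∈ Finset.Icc (-N + 1) M, ∑ m ∈ Finset.Icc n (M + 1), f m = f (M + 1) + ∑ m ∈ Finset.Icc n M, f m := fun n hn => by
          rw [e n (by simp at hn; omega), Finset.sum_insert (hnot _)]
        rw [e (-N + 1) (by omega), Finset.sum_insert (hnot _), Finset.Icc_self, Finset.sum_singleton,
          Finset.sum_congr rfl hstep,
          Finset.sum_add_distrib, Finset.sum_const, Int.card_Icc, nsmul_eq_mul]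
        have hc : ((M + 1 - (-N + 1)).toNat : ℚ) = ((M + 1 : ℤ) : ℚ) + N - 1 := by
          have : (((M + 1 - (-N + 1)).toNat : ℤ) : ℚ) = ((M + 1 - (-N + 1) : ℤ) : ℚ) := by rw [Int.toNat_of_nonneg (by omega)]
          push_cast at this ⊢; linarith
        rw [ih, hc]; push_cast; ring
  rcases Int.lt_or_le M (-N) with h | h
  · rw [Finset.Icc_eq_empty_of_lt h, Finset.Icc_eq_empty_of_lt (show M < -N + 1 by omega)]; simp
  simp_rw [Finset.mul_sum]
  rw [Finset.sum_comm (s := Finset.Icc (-N) M), Finset.sum_comm (s := Finset.Icc (-N + 1) M), ← Finset.sum_sub_distrib]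
  refine Finset.sum_congr rfl fun t _ => ?_
  have := congrArg (φ t * ·) (key (fun n => (d n t : ℚ)) M (by omega))
  simp only [mul_sub, Finset.mul_sum] at this
  simp_rw [mul_left_comm] at this ⊢
  exact this

end Groth.Agent.S16014
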