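import Groth.Statements.S16029
import Mathlib
import Groth.Agent.Lib.H8GrpImage

set_option autoImplicit false
universe u
open CategoryTheory CategoryTheory.Limits AlgebraicGeometry MonoidalCategory MonObj
open GrpSch

namespace Groth.Agent.S16029
open Groth.Agent CategoryTheory.Limits

/-- Over a field k, let G be a group scheme of finite type, G' an affine group scheme and u : G ⟶ G' a
homomorphism which is schematically dominant (its kernel ideal sheaf vanishes). Then u is faithfully
flat and G' is of finite type over k. -/
theorem result
    (k : Type u) [Field k] (G G' : Over (Spec (CommRingCat.of k))) [GrpObj G] [GrpObj G']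
    [LocallyOfFiniteType G.hom] [QuasiCompact G.hom] [IsAffine G'.left]
    (u : G ⟶ G') [IsMonHom u] (hdom : u.left.ker = ⊥) :
    Flat u.left ∧ Surjective u.left ∧ LocallyOfFiniteType G'.hom := by
  refine H8GrpImage.main G G' u ((RingHom.injective_iff_ker_eq_bot _).mpr ?_)
  have h := Scheme.ker_of_isAffine u.left
  rw [hdom] at h
  have h2 := congrArg (fun I => I.ideal ⟨⊤, isAffineOpen_top G'.left⟩) h
  simpa [Scheme.IdealSheafData.ofIdealTop_ideal] using h2.symm

end Groth.Agent.S16029
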