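import Groth.Statements.S16030
import Mathlib
import Groth.Agent.Lib.H2MinPrime

set_option autoImplicit false
universe u
open CAlg

namespace Groth.Agent.S16030
set_option linter.style.haveILetI false
open TensorProduct Polynomial Matrix

/-- For a finite set F of points of the spectrum of a commutative ring A and an open subset U containing
F, some basic open D(a) contains F and is contained in U. -/
theorem result
    (A : Type u) [CommRing A] (F : Set (PrimeSpectrum A)) (hF : F.Finite)
    (U : TopologicalSpace.Opens (PrimeSpectrum A)) (hFU : F ⊆ (U : Set (PrimeSpectrum A))) :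
    ∃ a : A, F ⊆ (PrimeSpectrum.basicOpen a : Set (PrimeSpectrum A)) ∧ PrimeSpectrum.basicOpen a ≤ U := by
  obtain ⟨s, hs⟩ := (PrimeSpectrum.isOpen_iff _).1 U.isOpen
  rcases F.eq_empty_or_nonempty with rfl | ⟨p₀, hp₀⟩
  · exact ⟨0, Set.empty_subset _, by simp⟩
  have : ¬ (Ideal.span s : Set A) ⊆ ⋃ p ∈ F, (p.asIdeal : Set A) := by
    rw [show (⋃ p ∈ F, (p.asIdeal : Set A)) = ⋃ p ∈ (hF.toFinset : Set (PrimeSpectrum A)), (p.asIdeal : Set A) by simp]
    intro hc
    obtain ⟨p, hp, hsp⟩ := (Ideal.subset_union_prime (f := fun p : PrimeSpectrum A => p.asIdeal) p₀ p₀ (fun p _ _ _ => p.isPrime)).1 hc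
    have hp' : p ∈ F := by simpa using hp
    have : p ∈ (U : Set (PrimeSpectrum A))ᶜ := hs ▸ (PrimeSpectrum.mem_zeroLocus _ _).2 (Ideal.subset_span.trans hsp)
    exact this (hFU hp')
  obtain ⟨a, ha, hna⟩ := Set.not_subset.1 this
  simp only [Set.mem_iUnion, SetLike.mem_coe, exists_prop, not_exists, not_and] at hna
  refine ⟨a, fun p hp => hna p hp, fun p hp => ?_⟩
  by_contra h
  have : p ∈ PrimeSpectrum.zeroLocus s := hs ▸ h
  exact hp (Ideal.span_le.2 ((PrimeSpectrum.mem_zeroLocus _ _).1 this) ha)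

end Groth.Agent.S16030
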