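import Groth.Statements.S16048
import Groth.Agent.Lib.H9ArtVersalPS

set_option autoImplicit false
set_option backward.isDefEq.respectTransparency.types false
universe u v
open CategoryTheory
open ArtFun

namespace Groth.Agent.S16048

/-- Let Λ be a complete local Noetherian ring with residue field k and F a functor on Artinian local
Λ-algebras with residue field k which admits a hull. A family ξ of F over a complete local
Noetherian Λ-algebra R with residue field k such that R is isomorphic over Λ to a power series ring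
Λ[[t_1, …, t_n]] and the induced map on tangent spaces h_R(k[ε]) → F(k[ε]) is bijective is
miniversal. (The source states this for the deformation functor of a rational double point over the
Witt vectors of an algebraically closed field, with the Kodaira–Spencer map as the tangent map and
the existence of a hull taken from Schlessinger's criteria; the argument uses only the existence of
a hull, so the hull is carried as a hypothesis and Λ is any complete local Noetherian ring with
residue field k.) -/
theorem result {Λ : Type u} {k : Type u}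
    [CommRing Λ] [Field k] [Algebra Λ k] [IsNoetherianRing Λ] [Module.Finite Λ k]
    [IsLocalRing Λ] [IsAdicComplete (IsLocalRing.maximalIdeal Λ) Λ]
    (hk : Function.Surjective (algebraMap Λ k))
    {F : ArtFun.Art Λ k ⥤ Type v} (hF : ArtFun.HasHull F)
    (R : ArtFun.CRing Λ k) (n : ℕ) (e : R.carrier ≃ₐ[Λ] MvPowerSeries (Fin n) Λ)
    (ξ : ArtFun.Family R.carrier R.res F)
    (hξ : Function.Bijective (ArtFun.TangentSpace.ofFamily ξ)) :
    ArtFun.IsMiniversal ξ := by
  obtain ⟨H⟩ := hF
  let η := H.family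
  have h0 : ArtFun.H0 F := H9Art.h0_of_miniversal η H.miniversal
  haveI := h0.2
  -- smoothness
  have hR : ArtFun.IsSmoothFunctor (ArtFun.hR R.carrier R.res) := by
    let L : ArtFun.CRing Λ k :=
      { carrier := Λ, res := Algebra.ofId Λ k, res_surjective := hk, isAdicComplete := ‹_› }
    let ι : L.carrier →ₐ[Λ] R.carrier := Algebra.ofId Λ R.carrier
    have hι : R.res.comp ι = L.res := AlgHom.ext fun r => R.res.commutes r
    intro B A μ hμ φ
    have hv := H9Art.isVersal_of_powerSeries (R := L) ι hι n e fun r => e.commutes r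
    let y : ArtFun.HomSet L.carrier L.res B := ⟨Algebra.ofId Λ B, AlgHom.ext fun r => B.res.commutes r⟩
    obtain ⟨ψ, hψ, -⟩ := hv μ hμ φ y (Subtype.ext (AlgHom.ext fun r =>
      (AlgHom.commutes _ r).trans (AlgHom.commutes _ r).symm))
    exact ⟨ψ, hψ⟩
  -- compare with the hull
  have step : ∀ m (θ : ArtFun.HomSet H.ring.carrier H.ring.res (R.trunc m)), η.app _ θ = ξ.app _ (R.truncHom m) →
      ∃ θ' : ArtFun.HomSet H.ring.carrier H.ring.res (R.trunc (m + 1)),
        η.app _ θ' = ξ.app _ (R.truncHom (m + 1)) ∧ ArtFun.HomSet.map (R.truncMap m) θ' = θ := by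
    intro m θ hθ
    obtain ⟨θ', h₁, h₂⟩ := H.miniversal.1 (R.truncMap m) (H9Art.truncMap_surjective R m) θ
      (ξ.app _ (R.truncHom (m + 1))) (by rw [← ξ.natural, R.truncMap_truncHom]; exact hθ.symm)
    exact ⟨θ', h₂, h₁⟩
  choose next hn₁ hn₂ using step
  obtain ⟨θ₀, hθ₀⟩ := H9Art.versal_surjective η H.miniversal.1 h0 (R.trunc 0) (ξ.app _ (R.truncHom 0))
  let u : ∀ m, {θ : ArtFun.HomSet H.ring.carrier H.ring.res (R.trunc m) // η.app _ θ = ξ.app _ (R.truncHom m)} :=
    fun m => Nat.rec ⟨θ₀, hθ₀⟩ (fun m a => ⟨next m a.1 a.2, hn₁ m a.1 a.2⟩) m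
  obtain ⟨g, hg, hgm⟩ := H9Art.exists_lim R (fun m => (u m).1) (fun m => hn₂ m (u m).1 (u m).2)
  have hfam : ∀ A φ, ξ.app A φ = (η.along g hg).app A φ := fun A φ => H9Art.family_ext R (ξ := ξ) (η := η.along g hg) (ArtFun.FormalElt.ext' fun m =>
    ((congrArg (η.app _) (Subtype.ext (hgm m) : (⟨(R.truncHom m).1.comp g, by rw [← AlgHom.comp_assoc, (R.truncHom m).2, hg]⟩ : ArtFun.HomSet H.ring.carrier H.ring.res (R.trunc m)) = (u m).1)).trans (u m).2).symm) A φ
  let res : ∀ A, ArtFun.HomSet R.carrier R.res A → ArtFun.HomSet H.ring.carrier H.ring.res A :=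
    fun A φ => ⟨φ.1.comp g, by rw [← AlgHom.comp_assoc, φ.2, hg]⟩
  have hbij : Function.Bijective (res (ArtFun.Art.dual Λ k)) := by
    refine ⟨fun a b hab => hξ.1 ?_, fun c => ?_⟩
    · change ξ.app _ a = ξ.app _ b
      rw [hfam, hfam]
      exact congrArg (η.app _) hab
    · obtain ⟨a, ha⟩ := hξ.2 (η.app _ c)
      exact ⟨a, H.miniversal.2.1 ((hfam _ a).symm.trans ha)⟩
  have hgs : Function.Surjective g := H9Art.surjective_of_cotangent_cring H.ring R g hg
    (H9Art.cotangent_of_injective_dual H.ring R g hg fun φ hφ => by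
      have e0 : φ = H9Art.zeroVec := hbij.1 (Subtype.ext (AlgHom.ext fun r => TrivSqZeroExt.ext
        ((congrArg (fun t : R.carrier →ₐ[Λ] k => t (g r)) φ.2).trans
          (congrArg (fun t : R.carrier →ₐ[Λ] k => t (g r)) H9Art.zeroVec.2).symm) (hφ r)))
      intro a
      rw [e0]; rfl)
  obtain ⟨s, hs, hgs'⟩ := H9Art.exists_section hR g hg hgs
  have hss : Function.Surjective s := H9Art.surjective_of_cotangent_cring R H.ring s hs
    (H9Art.cotangent_of_injective_dual R H.ring s hs fun φ hφ => by
      obtain ⟨a, rfl⟩ := hbij.2 φ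
      intro x
      have h1 := hφ (g x)
      change (a.1 (g (s (g x)))).snd = 0 at h1
      rw [show g (s (g x)) = g x from congrArg (fun t : R.carrier →ₐ[Λ] R.carrier => t (g x)) hgs'] at h1
      exact h1)
  have hsg : ∀ x, s (g x) = x := fun x => by
    obtain ⟨r, rfl⟩ := hss x
    exact congrArg s (congrArg (fun t : R.carrier →ₐ[Λ] R.carrier => t r) hgs')
  refine ⟨fun B A μ hμ φ y hy => ?_, hξ⟩
  obtain ⟨ψ, hψ, hψy⟩ := H.miniversal.1 μ hμ (res A φ) y (hy.trans (hfam A φ))
  refine ⟨⟨ψ.1.comp s, by rw [← AlgHom.comp_assoc, ψ.2, hs]⟩, Subtype.ext (AlgHom.ext fun r => ?_), ?_⟩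
  · refine (congrArg (fun t : ArtFun.HomSet H.ring.carrier H.ring.res A => t.1 (s r)) hψ).trans ?_
    exact congrArg φ.1 (congrArg (fun t : R.carrier →ₐ[Λ] R.carrier => t r) hgs')
  · rw [hfam, ← hψy]
    exact congrArg (η.app B) (Subtype.ext (AlgHom.ext fun x => congrArg ψ.1 (hsg x)))

end Groth.Agent.S16048
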