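import Groth.Statements.S16073
import Mathlib

set_option autoImplicit false
universe u
open Hopf

namespace Groth.Agent.S16073
theorem false_of_algEquiv {R : Type*} [CommRing R] [Nontrivial R] {G : Type*} {B : Type*} [CommRing B] [Algebra R B]
    (e : ConstGrp.F R G ≃ₐ[R] B) [Fintype G] [DecidableEq G] (y : B) (n : ℕ) (hy : y ^ n = 0) (φ : B →ₗ[R] R) (hφ : φ y = 1) :
    False := by
  obtain ⟨f, rfl⟩ := e.surjective y
  have hf : f ^ n = 0 := e.injective (by rw [map_pow, hy, map_zero])
  have hnil : ∀ g, IsNilpotent (f g) := fun g => ⟨n, by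
    rw [← ConstGrp.ev_apply (R := R) g f, ← map_pow, hf, map_zero]⟩
  have h1 : φ (e f) = ∑ g, f g * φ (e (ConstGrp.e R g)) := by
    conv_lhs => rw [ConstGrp.eq_sum_smul_e f]
    simp [map_sum]
  have : φ (e f) ∈ nilradical R := by
    rw [h1]
    exact Submodule.sum_mem _ fun g _ => Ideal.mul_mem_right _ _ (hnil g)
  rw [hφ] at this
  exact not_isNilpotent_one this

/-- Let p be a prime and R a commutative ring of characteristic p (p = 0 in R, R nonzero). Then the
constant group scheme ℤ/p and α_p over Spec R are not isomorphic: there is no R-bialgebra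
isomorphism between the Hopf algebra Maps(ℤ/p, R) of functions on the cyclic group of order p and
the Hopf algebra R[X]/(X^p) of α_p (X primitive). (Any nonzero commutative base ring of
characteristic p is allowed. The published statement allows any ring R with p·R = 0; over the zero
ring both Hopf algebras are the zero ring and hence isomorphic, so R is assumed nonzero here.) -/
theorem result (p : ℕ) [Fact p.Prime] (R : Type u) [CommRing R] [CharP R p] :
    IsEmpty (ConstGrp.F R (Multiplicative (ZMod p)) ≃ₐc[R] AlphaP.A p R) := by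
  haveI : Nontrivial R := CharP.nontrivial_of_char_ne_one (R := R) (v := p) (Fact.out : p.Prime).ne_one
  refine ⟨fun e => ?_⟩
  exact false_of_algEquiv (e : ConstGrp.F R (Multiplicative (ZMod p)) ≃ₐ[R] AlphaP.A p R) (AlphaP.x p R) p
    (AlphaP.x_pow p R) ((AlphaP.basis p R).coord ⟨1, (Fact.out : p.Prime).one_lt⟩) (by
      rw [show AlphaP.x p R = AlphaP.basis p R ⟨1, (Fact.out : p.Prime).one_lt⟩ by simp, Module.Basis.coord_apply,
        Module.Basis.repr_self, Finsupp.single_eq_same])

end Groth.Agent.S16073
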