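import Groth.Statements.S16072
import Mathlib
import Groth.Agent.S16073

set_option autoImplicit false
universe u
open Hopf

namespace Groth.Agent.S16072

/-- Let p be a prime and R a commutative ring of characteristic p (p = 0 in R, R nonzero). Then the
constant group scheme ℤ/p and the group scheme μ_p of p-th roots of unity over Spec R are not
isomorphic: there is no R-bialgebra isomorphism between the Hopf algebra Maps(ℤ/p, R) of functions
on the cyclic group of order p and the group algebra R[ℤ/p]. (Any nonzero commutative base ring of
characteristic p is allowed. The published statement allows any ring R with p·R = 0; over the zero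
ring both Hopf algebras are the zero ring and hence isomorphic, so R is assumed nonzero here.) -/
theorem result (p : ℕ) [Fact p.Prime] (R : Type u) [CommRing R]
    [CharP R p] :
    IsEmpty (ConstGrp.F R (Multiplicative (ZMod p)) ≃ₐc[R] MonoidAlgebra R (Multiplicative (ZMod p))) := by
  classical
  haveI : Nontrivial R := CharP.nontrivial_of_char_ne_one (R := R) (v := p) (Fact.out : p.Prime).ne_one
  refine ⟨fun e => ?_⟩
  haveI : CharP (MonoidAlgebra R (Multiplicative (ZMod p))) p :=
    charP_of_injective_algebraMap (R := R) (A := MonoidAlgebra R (Multiplicative (ZMod p))) (fun a b h => by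
      simpa [MonoidAlgebra.coe_algebraMap] using congrArg (fun z => MonoidAlgebra.coeff z 1) h) p
  let g : Multiplicative (ZMod p) := Multiplicative.ofAdd 1
  have hg : g ≠ 1 := by simp [g]
  let c : MonoidAlgebra R (Multiplicative (ZMod p)) →ₗ[R] R :=
    Finsupp.lapply g ∘ₗ (MonoidAlgebra.coeffLinearEquiv R).toLinearMap
  have hc : ∀ (m : Multiplicative (ZMod p)) (r : R), c (MonoidAlgebra.single m r) = if m = g then r else 0 := fun m r => by
    simp [c, Finsupp.single_apply]
  have hgp : g ^ p = 1 := by
    simp [g, ← ofAdd_nsmul]
  exact Groth.Agent.S16073.false_of_algEquiv (e : ConstGrp.F R (Multiplicative (ZMod p)) ≃ₐ[R] MonoidAlgebra R (Multiplicative (ZMod p)))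
    (MonoidAlgebra.single g (1 : R) - 1) p
    (by rw [sub_pow_char, MonoidAlgebra.single_pow, hgp, one_pow, one_pow, ← MonoidAlgebra.one_def, sub_self])
    c (by rw [map_sub, MonoidAlgebra.one_def, hc, hc, if_pos rfl, if_neg hg.symm, sub_zero])

end Groth.Agent.S16072
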