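import Groth.Statements.S16074
import Mathlib

set_option autoImplicit false
universe u
open Hopf

namespace Groth.Agent.S16074

/-- Let p be a prime and R a commutative ring of characteristic p (p = 0 in R, R nonzero). Then μ_p and
α_p over Spec R are not isomorphic: there is no R-bialgebra isomorphism between the group algebra
R[ℤ/p] of the cyclic group of order p (group elements group-like) and the Hopf algebra R[X]/(X^p) of
α_p (X primitive), although the underlying R-algebras R[ℤ/p] = R[Y]/(Y^p) and R[X]/(X^p) are
isomorphic. (Any nonzero commutative base ring of characteristic p is allowed. The published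
statement allows any ring R with p·R = 0; over the zero ring both Hopf algebras are the zero ring
and hence isomorphic, so R is assumed nonzero here.) -/
theorem result (p : ℕ) [Fact p.Prime] (R : Type u) [CommRing R] [CharP R p] :
    IsEmpty (MonoidAlgebra R (Multiplicative (ZMod p)) ≃ₐc[R] AlphaP.A p R) := by
  classical
  haveI : Nontrivial R := CharP.nontrivial_of_char_ne_one (R := R) (v := p) (Fact.out : p.Prime).ne_one
  refine ⟨fun e => ?_⟩
  let M := Multiplicative (ZMod p)
  let y : MonoidAlgebra R (Multiplicative (ZMod p)) := e.symm (AlphaP.x p R)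
  have hy : CoalgebraStruct.comul (R := R) y = TensorProduct.tmul R y 1 + TensorProduct.tmul R 1 y := by
    rw [← CoalgHomClass.map_comp_comul_apply e.symm (AlphaP.x p R), show CoalgebraStruct.comul (R := R) (AlphaP.x p R) = _ from AlphaP.comul_x p R]
    simp [y]
  let c : Multiplicative (ZMod p) → MonoidAlgebra R (Multiplicative (ZMod p)) →ₗ[R] R := fun g =>
    Finsupp.lapply g ∘ₗ (MonoidAlgebra.coeffLinearEquiv R).toLinearMap
  have hc : ∀ (g m : Multiplicative (ZMod p)) (r : R), c g (MonoidAlgebra.single m r) = if m = g then r else 0 := fun g m r => by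
    simp [c, Finsupp.single_apply]
  let P : Multiplicative (ZMod p) → TensorProduct R (MonoidAlgebra R (Multiplicative (ZMod p))) (MonoidAlgebra R (Multiplicative (ZMod p))) →ₗ[R] R :=
    fun g => (TensorProduct.lid R R).toLinearMap ∘ₗ TensorProduct.map (c g) (c g)
  have hP : ∀ (g : Multiplicative (ZMod p)) (z : MonoidAlgebra R (Multiplicative (ZMod p))), P g (CoalgebraStruct.comul (R := R) z) = c g z := by
    intro g z
    induction z using MonoidAlgebra.induction_linear with
    | zero => simp
    | add a b ha hb => simp only [map_add, ha, hb]
    | single m r =>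
      simp [P, hc]
      try (intro h1 h2; exact absurd h2 h1)
  have hzero : ∀ g, c g y = 0 := by
    intro g
    have h := hP g y
    rw [hy] at h
    simp only [P, map_add, LinearMap.comp_apply, LinearEquiv.coe_coe, TensorProduct.map_tmul, TensorProduct.lid_tmul,
      MonoidAlgebra.one_def, hc, smul_eq_mul] at h
    by_cases hg : g = 1
    · subst hg; simpa using h
    · simpa [if_neg (Ne.symm hg)] using h.symm
  have : y = 0 := by
    apply (MonoidAlgebra.coeffLinearEquiv R).injective
    rw [map_zero]
    exact Finsupp.ext hzero
  have h0 : AlphaP.x p R = 0 := by rw [← e.apply_symm_apply (AlphaP.x p R), show e.symm (AlphaP.x p R) = 0 from this, map_zero]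
  have h1 := congrArg ((AlphaP.basis p R).coord ⟨1, (Fact.out : p.Prime).one_lt⟩) h0
  rw [show AlphaP.x p R = AlphaP.basis p R ⟨1, (Fact.out : p.Prime).one_lt⟩ by simp, Module.Basis.coord_apply,
    Module.Basis.repr_self, Finsupp.single_eq_same, map_zero] at h1
  exact one_ne_zero h1

end Groth.Agent.S16074
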