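import Groth.Statements.S16077
import Mathlib
import Groth.Agent.Lib.H2TruncFrob

set_option autoImplicit false
universe u
open CAlg

namespace Groth.Agent.S16077


/-- Let k be a perfect field of characteristic p > 0 and let e_1, …, e_r ≥ 1 and f_1, …, f_s ≥ 1 be
natural numbers. If the k-algebras k[X_1, …, X_r]/(X_i^{p^{e_i}} : 1 ≤ i ≤ r) and k[X_1, …,
X_s]/(X_j^{p^{f_j}} : 1 ≤ j ≤ s) are isomorphic, then r = s and (f_j) is a permutation of (e_i):
there is a bijection σ between the index sets with f_{σ(i)} = e_i. Such truncated polynomial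
algebras are the coordinate rings of the connected finite k-group schemes, and the row says that the
number of variables and the exponents are invariants of the group, indeed of its algebra. (Only this
invariance is stated here; the existence of such a presentation for every connected finite k-group
is a separate statement.) -/
theorem result (p : ℕ) [Fact p.Prime] (k : Type u) [Field k]
    [CharP k p] [PerfectField k] (r s : ℕ) (e : Fin r → ℕ) (f : Fin s → ℕ) (he : ∀ i, 1 ≤ e i) (hf : ∀ j, 1 ≤ f j)
    (φ : (MvPolynomial (Fin r) k ⧸ Ideal.span (Set.range fun i : Fin r => (MvPolynomial.X i : MvPolynomial (Fin r) k) ^ p ^ e i)) ≃ₐ[k]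
      (MvPolynomial (Fin s) k ⧸ Ideal.span (Set.range fun j : Fin s => (MvPolynomial.X j : MvPolynomial (Fin s) k) ^ p ^ f j))) :
    ∃ σ : Fin r ≃ Fin s, ∀ i : Fin r, f (σ i) = e i := by
  classical
  have hp : p.Prime := Fact.out
  have hsum : ∀ n, ∑ i, (e i - n) = ∑ j, (f j - n) := by
    intro n
    apply Nat.pow_right_injective hp.two_le
    show p ^ _ = p ^ _
    rw [← Groth.Agent.H2TruncFrob.aux_finrank p k r e n, ← Groth.Agent.H2TruncFrob.aux_finrank p k s f n, ← LinearEquiv.finrank_map_eq φ.toLinearEquiv, Submodule.map_span, ← Set.range_comp]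
    have : (⇑(φ.toLinearEquiv : _ →ₗ[k] _) ∘ fun a => a ^ p ^ n) = (fun a => a ^ p ^ n) ∘ φ := by funext a; simp
    rw [this, φ.surjective.range_comp]
  have hgt : ∀ n, (Finset.univ.filter fun i => n < e i).card = (Finset.univ.filter fun j => n < f j).card := by
    intro n
    have key : ∀ {m : ℕ} (g : Fin m → ℕ), ∑ i, (g i - n) = ∑ i, (g i - (n+1)) + (Finset.univ.filter fun i => n < g i).card := by
      intro m g; rw [Finset.card_filter, ← Finset.sum_add_distrib]
      refine Finset.sum_congr rfl fun i _ => ?_
      split_ifs <;> omega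
    have h1 := key e; have h2 := key f; have := hsum n; have := hsum (n+1); omega
  have heq : ∀ a, Fintype.card {i // e i = a} = Fintype.card {j // f j = a} := by
    intro a
    rw [Fintype.card_subtype, Fintype.card_subtype]
    rcases Nat.eq_zero_or_pos a with rfl | ha
    · rw [Finset.filter_eq_empty_iff.mpr (fun i _ => by have := he i; omega), Finset.filter_eq_empty_iff.mpr (fun i _ => by have := hf i; omega)]
      rfl
    · have key : ∀ {m : ℕ} (g : Fin m → ℕ), (Finset.univ.filter fun i => a - 1 < g i).card = (Finset.univ.filter fun i => g i = a).card + (Finset.univ.filter fun i => a < g i).card := by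
        intro m g; rw [Finset.card_filter, Finset.card_filter, Finset.card_filter, ← Finset.sum_add_distrib]
        refine Finset.sum_congr rfl fun i _ => ?_
        split_ifs <;> omega
      have h1 := key e; have h2 := key f; have := hgt (a-1); have := hgt a; omega
  let σ : Fin r ≃ Fin s := (Equiv.sigmaFiberEquiv e).symm.trans ((Equiv.sigmaCongrRight fun a => Fintype.equivOfCardEq (heq a)).trans (Equiv.sigmaFiberEquiv f))
  refine ⟨σ, fun i => ?_⟩
  exact ((Fintype.equivOfCardEq (heq (e i))) ⟨i, rfl⟩).2

end Groth.Agent.S16077
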