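import Groth.Statements.S4664
import Mathlib

set_option autoImplicit false
open CategoryTheory AlgebraicGeometry
universe u
open FBase

namespace Groth.Agent.S4664
open CategoryTheory CategoryTheory.Limits AlgebraicGeometry TopologicalSpace Opposite

open CategoryTheory.Limits in
/-- Let f : X → Y and g : Y' → Y be morphisms of schemes with g surjective, and let f' : X ×_Y Y' → Y'
be the base change of f. If every fibre of f' is geometrically irreducible, then every fibre of f is
geometrically irreducible. -/
theorem result {X Y Y' : Scheme.{u}} (f : X ⟶ Y)
    (g : Y' ⟶ Y) [Surjective g] [GeometricallyIrreducible (pullback.snd f g)] : GeometricallyIrreducible f := by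
  refine ⟨fun K _ y Z fst snd h => ?_⟩
  haveI : Surjective (pullback.fst y g) := inferInstance
  obtain ⟨w, -⟩ := (pullback.fst y g).surjective (Classical.arbitrary (Spec (CommRingCat.of K) : Scheme.{u}))
  let l := (pullback y g).fromSpecResidueField w ≫ pullback.fst y g
  let t := (pullback y g).fromSpecResidueField w ≫ pullback.snd y g
  have hlt : l ≫ y = t ≫ g := by simp [l, t, pullback.condition]
  haveI : Surjective l := ⟨fun a => ⟨Classical.arbitrary _, Subsingleton.elim _ _⟩⟩
  have hbig : IsPullback (pullback.fst snd l ≫ fst) (pullback.snd snd l) f (t ≫ g) := by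
    rw [← hlt]
    exact (IsPullback.of_hasPullback snd l).paste_horiz h
  let m : pullback snd l ⟶ pullback f g := pullback.lift (pullback.fst snd l ≫ fst) (pullback.snd snd l ≫ t)
    (hbig.w.trans (Category.assoc _ _ _).symm)
  have hm : IsPullback m (pullback.snd snd l) (pullback.snd f g) t := by
    refine IsPullback.of_right ?_ (pullback.lift_snd _ _ _) (IsPullback.of_hasPullback f g)
    rw [pullback.lift_fst]; exact hbig
  haveI := GeometricallyIrreducible.geometrically_irreducibleSpace (f := pullback.snd f g) t m _ hm
  haveI : Surjective (pullback.fst snd l) := inferInstance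
  exact (pullback.fst snd l).surjective.irreducibleSpace (pullback.fst snd l).continuous

end Groth.Agent.S4664
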