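import Groth.Statements.S16158
import Mathlib

set_option autoImplicit false
set_option backward.isDefEq.respectTransparency.types false
set_option maxHeartbeats 1000000
set_option linter.all false
universe u v w
open MadRed

namespace Groth.Agent.S16158
open Groth.Agent
open scoped TensorProduct

/-- Let R be a commutative Noetherian ring and M a finitely generated R-module. Then there is a natural
number n such that in every decomposition of M as an internal direct sum of a family of submodules,
at most n of the summands are nonzero (the nonzero summands are indexed by a finite set of size at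
most n). -/
theorem result (R : Type u) [CommRing R] [IsNoetherianRing R]
    (M : Type v) [AddCommGroup M] [Module R M] [Module.Finite R M] :
    ∃ n : ℕ, ∀ (ι : Type w) [DecidableEq ι] (N : ι → Submodule R M), DirectSum.IsInternal N →
      ∃ s : Finset ι, s.card ≤ n ∧ ∀ i, N i ≠ ⊥ → i ∈ s := by
  classical
  have hfin := associatedPrimes.finite R M
  haveI := hfin.fintype
  refine ⟨∑ P : associatedPrimes R M, Module.finrank P.1.ResidueField (P.1.ResidueField ⊗[R] M), fun ι _ N hN => ?_⟩
  let e := LinearEquiv.ofBijective (DirectSum.coeLinearMap N) hN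
  let π : ∀ i, M →ₗ[R] N i := fun i => (DirectSum.component R ι (fun i => ↥(N i)) i) ∘ₗ e.symm.toLinearMap
  have hπ : ∀ i j (y : N j), π i (y : M) = if h : j = i then h ▸ y else 0 := by
    intro i j y
    have : e.symm (y : M) = DirectSum.lof R ι (fun i => ↥(N i)) j y := by
      rw [LinearEquiv.symm_apply_eq]
      simp [e, DirectSum.lof_eq_of]
    simp only [π, LinearMap.comp_apply, LinearEquiv.coe_coe, this, DirectSum.component.of]
  have hP : ∀ i, N i ≠ ⊥ → ∃ P : associatedPrimes R M, Nontrivial (P.1.ResidueField ⊗[R] N i) := by
    intro i hi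
    haveI : Nontrivial (N i) := Submodule.nontrivial_iff_ne_bot.2 hi
    obtain ⟨Q, hQ⟩ := associatedPrimes.nonempty R (N i)
    have hQM : Q ∈ associatedPrimes R M := associatedPrimes.subset_of_injective (N i).injective_subtype hQ
    haveI hQp : Q.IsPrime := IsAssociatedPrime.isPrime hQ
    refine ⟨⟨Q, hQM⟩, (Module.mem_support_iff_nontrivial_residueField_tensorProduct (p := ⟨Q, hQp⟩)).1 ?_⟩
    rw [Module.mem_support_iff_of_finite]
    exact le_of_eq_of_le Submodule.annihilator_top.symm (IsAssociatedPrime.annihilator_le hQ)
  choose P hP using fun i : {i // N i ≠ ⊥} => hP i.1 i.2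
  have key : ∀ t : Finset {i // N i ≠ ⊥}, t.card ≤ ∑ P : associatedPrimes R M, Module.finrank P.1.ResidueField (P.1.ResidueField ⊗[R] M) := by
    intro t
    rw [Finset.card_eq_sum_card_fiberwise (f := P) (t := Finset.univ) (fun _ _ => Finset.mem_univ _)]
    refine Finset.sum_le_sum fun Q _ => ?_
    set u := t.filter (fun i => P i = Q)
    have hu : ∀ i : u, Nontrivial (Q.1.ResidueField ⊗[R] N i.1.1) := fun i => by
      obtain ⟨h1, h2⟩ := Finset.mem_filter.1 i.2
      exact h2 ▸ hP i.1
    choose y hy using fun i : u => (@exists_ne _ (hu i) 0)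
    let v : u → Q.1.ResidueField ⊗[R] M := fun i => (N i.1.1).subtype.baseChange _ (y i)
    have hv : ∀ i j : u, (π i.1.1).baseChange Q.1.ResidueField (v j) = if h : j = i then h ▸ y j else 0 := by
      intro i j
      have hc : (π i.1.1).baseChange Q.1.ResidueField (v j) = ((π i.1.1) ∘ₗ (N j.1.1).subtype).baseChange _ (y j) := by
        simp only [v, LinearMap.baseChange_comp, LinearMap.comp_apply]
      rw [hc]
      by_cases h : j = i
      · subst h
        rw [dif_pos rfl, show (π j.1.1) ∘ₗ (N j.1.1).subtype = LinearMap.id by ext z; simp [hπ]]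
        simp
      · rw [dif_neg h, show (π i.1.1) ∘ₗ (N j.1.1).subtype = 0 by
          refine LinearMap.ext fun z => ?_
          simp [hπ, show j.1.1 ≠ i.1.1 from fun hh => h (Subtype.ext (Subtype.ext hh))]]
        simp
    have hli : LinearIndependent Q.1.ResidueField v := by
      rw [Fintype.linearIndependent_iff]
      intro c hc i
      have h2 := congrArg ((π i.1.1).baseChange Q.1.ResidueField) hc
      rw [map_sum, Finset.sum_eq_single i (fun j _ hj => by rw [map_smul, hv, dif_neg hj, smul_zero]) (by simp), map_smul, hv, dif_pos rfl, map_zero] at h2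
      exact (smul_eq_zero.1 h2).resolve_right (hy i)
    simpa using hli.fintype_card_le_finrank
  haveI : Finite {i // N i ≠ ⊥} := by
    by_contra hinf
    haveI := not_finite_iff_infinite.1 hinf
    obtain ⟨t, htc⟩ := Infinite.exists_subset_card_eq {i // N i ≠ ⊥} ((∑ P : associatedPrimes R M, Module.finrank P.1.ResidueField (P.1.ResidueField ⊗[R] M)) + 1)
    have := key t
    omega
  haveI := Fintype.ofFinite {i // N i ≠ ⊥}
  exact ⟨Finset.univ.map (Function.Embedding.subtype _), by rw [Finset.card_map]; exact key _, fun i hi => Finset.mem_map.2 ⟨⟨i, hi⟩, Finset.mem_univ _, rfl⟩⟩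

end Groth.Agent.S16158
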