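import Groth.Statements.S16164
import Mathlib

set_option autoImplicit false
set_option backward.isDefEq.respectTransparency.types false
set_option maxHeartbeats 1000000
set_option linter.all false
open Neron

namespace Groth.Agent.S16164
open Groth.Agent

/-- Let X, Y₁, Y₂ be finitely generated free abelian groups with chosen bases, so that homomorphisms are
integer matrices acting on column vectors and each group is identified with its dual; let P : X → Y₁
and Q : X → Y₂ be surjective with A = (P over Q) : X → Y₁ ⊕ Y₂ injective, and let Ψ₁, Ψ₂ be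
symmetric positive-definite integer matrices on Y₁ and Y₂, Ψ their block-diagonal sum. If the image
of Aᵀ Ψ : Y₁ ⊕ Y₂ → X coincides with the image of Aᵀ Ψ A : X → X (the reverse inclusion always
holds), then A is bijective. (In the source X, Y₁, Y₂ are character groups of maximal tori, P and Q
specialization maps, Ψ₁ and Ψ₂ monodromy pairings, and the hypothesis expresses that two groups of
components coincide.) -/
theorem result
    {ι κ₁ κ₂ : Type} [Fintype ι] [Fintype κ₁] [Fintype κ₂]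
    (P : Matrix κ₁ ι ℤ) (Q : Matrix κ₂ ι ℤ)
    (hP : Function.Surjective P.mulVec) (hQ : Function.Surjective Q.mulVec)
    (hA : Function.Injective (Matrix.fromRows P Q).mulVec)
    (Ψ₁ : Matrix κ₁ κ₁ ℤ) (Ψ₂ : Matrix κ₂ κ₂ ℤ) (hΨ₁ : Ψ₁.IsSymm) (hΨ₂ : Ψ₂.IsSymm)
    (hΨ₁pos : ∀ y : κ₁ → ℤ, y ≠ 0 → 0 < y ⬝ᵥ Ψ₁.mulVec y)
    (hΨ₂pos : ∀ y : κ₂ → ℤ, y ≠ 0 → 0 < y ⬝ᵥ Ψ₂.mulVec y)
    (himage : LinearMap.range ((Matrix.fromRows P Q).transpose * Matrix.fromBlocks Ψ₁ 0 0 Ψ₂).mulVecLin =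
      LinearMap.range ((Matrix.fromRows P Q).transpose * Matrix.fromBlocks Ψ₁ 0 0 Ψ₂ * Matrix.fromRows P Q).mulVecLin) :
    Function.Bijective (Matrix.fromRows P Q).mulVec := by
    classical
    set A := Matrix.fromRows P Q with hAdef
    set Ψ := Matrix.fromBlocks Ψ₁ 0 0 Ψ₂ with hΨdef
    let B : (κ₁ ⊕ κ₂ → ℤ) → (κ₁ ⊕ κ₂ → ℤ) → ℤ := fun v w => v ⬝ᵥ Ψ.mulVec w
    have hsymm : ∀ v w, B v w = B w v := fun v w => by
      have hT : Ψ.transpose = Ψ := by rw [hΨdef, Matrix.fromBlocks_transpose, hΨ₁.eq, hΨ₂.eq, Matrix.transpose_zero, Matrix.transpose_zero]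
      show v ⬝ᵥ Ψ.mulVec w = w ⬝ᵥ Ψ.mulVec v
      rw [Matrix.dotProduct_mulVec, dotProduct_comm, ← Matrix.mulVec_transpose, hT]
    have hblk : ∀ (a : κ₁ → ℤ) (b : κ₂ → ℤ), B (Sum.elim a b) (Sum.elim a b) = a ⬝ᵥ Ψ₁.mulVec a + b ⬝ᵥ Ψ₂.mulVec b := fun a b => by
      show Sum.elim a b ⬝ᵥ Ψ.mulVec (Sum.elim a b) = _
      rw [hΨdef, Matrix.fromBlocks_mulVec, sumElim_dotProduct_sumElim]
      simp
    have hpos : ∀ v, v ≠ 0 → 0 < B v v := fun v hv => by
      obtain ⟨a, b, rfl⟩ : ∃ a b, v = Sum.elim a b := ⟨v ∘ Sum.inl, v ∘ Sum.inr, (Sum.elim_comp_inl_inr v).symm⟩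
      rw [hblk]
      have h1 : 0 ≤ a ⬝ᵥ Ψ₁.mulVec a := by
        by_cases h : a = 0
        · simp [h]
        · exact (hΨ₁pos a h).le
      have h2 : 0 ≤ b ⬝ᵥ Ψ₂.mulVec b := by
        by_cases h : b = 0
        · simp [h]
        · exact (hΨ₂pos b h).le
      by_cases h : a = 0
      · have hb : b ≠ 0 := fun hb => hv (by rw [h, hb]; ext (i | i) <;> rfl)
        linarith [hΨ₂pos b hb]
      · linarith [hΨ₁pos a h]
    have hproj : ∀ v : κ₁ ⊕ κ₂ → ℤ, ∃ x : ι → ℤ, ∀ w : ι → ℤ, B (v - A.mulVec x) (A.mulVec w) = 0 := fun v => by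
      have hm : (A.transpose * Ψ).mulVecLin v ∈ LinearMap.range (A.transpose * Ψ * A).mulVecLin := himage ▸ LinearMap.mem_range_self _ v
      obtain ⟨x, hx⟩ := hm
      refine ⟨x, fun w => ?_⟩
      rw [hsymm]
      show A.mulVec w ⬝ᵥ Ψ.mulVec (v - A.mulVec x) = 0
      rw [dotProduct_comm, Matrix.dotProduct_mulVec, dotProduct_comm, ← Matrix.mulVec_transpose, Matrix.mulVec_mulVec, Matrix.mulVec_sub, Matrix.mulVec_mulVec]
      rw [Matrix.mulVecLin_apply, Matrix.mulVecLin_apply] at hx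
      rw [hx, sub_self, dotProduct_zero]
    have hP' : ∀ v w, B v v = B w w + B (v - w) (v - w) + 2 * B (v - w) w := fun v w => by
      simp only [B, Matrix.mulVec_sub, sub_dotProduct, dotProduct_sub]
      have := hsymm v w
      simp only [B] at this
      linarith
    have key : ∀ (N : ℕ) (v : κ₁ ⊕ κ₂ → ℤ), B v v ≤ N → (v ∘ Sum.inl = 0 ∨ v ∘ Sum.inr = 0) → v ∈ Set.range A.mulVec := by
      intro N
      induction N using Nat.strong_induction_on with
      | _ N ih =>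
        intro v hN hv
        by_cases hv0 : v = 0
        · exact ⟨0, by rw [Matrix.mulVec_zero, hv0]⟩
        obtain ⟨x, hx⟩ := hproj v
        by_cases hz : v - A.mulVec x = 0
        · exact ⟨x, (sub_eq_zero.1 hz).symm⟩
        have hsplit : B v v = B (A.mulVec x) (A.mulVec x) + B (v - A.mulVec x) (v - A.mulVec x) := by
          rw [hP' v (A.mulVec x), hx x, mul_zero, add_zero]
        have hAx : A.mulVec x ≠ 0 := by
          intro h
          rw [h, sub_zero] at hx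
          obtain ⟨w, hw⟩ := hP (v ∘ Sum.inl)
          obtain ⟨w', hw'⟩ := hQ (v ∘ Sum.inr)
          have e : ∀ u, A.mulVec u = Sum.elim (P.mulVec u) (Q.mulVec u) := fun u => Matrix.fromRows_mulVec _ _ u
          have hp := hpos v hv0
          rcases hv with hl | hr
          · have h' := hx w'
            rw [e, hw', ← Sum.elim_comp_inl_inr v, hl] at h'; simp only [Sum.elim_comp_inl, Sum.elim_comp_inr] at h'
            rw [← Sum.elim_comp_inl_inr v, hl, hblk] at hp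
            rw [show B (Sum.elim 0 (v ∘ Sum.inr)) (Sum.elim (P.mulVec w') (v ∘ Sum.inr)) = (v ∘ Sum.inr) ⬝ᵥ Ψ₂.mulVec (v ∘ Sum.inr) by
              simp [B, hΨdef, Matrix.fromBlocks_mulVec, sumElim_dotProduct_sumElim]] at h'
            simp [h'] at hp
          · have h' := hx w
            rw [e, hw, ← Sum.elim_comp_inl_inr v, hr] at h'; simp only [Sum.elim_comp_inl, Sum.elim_comp_inr] at h'
            rw [← Sum.elim_comp_inl_inr v, hr, hblk] at hp
            rw [show B (Sum.elim (v ∘ Sum.inl) 0) (Sum.elim (v ∘ Sum.inl) (Q.mulVec w)) = (v ∘ Sum.inl) ⬝ᵥ Ψ₁.mulVec (v ∘ Sum.inl) by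
              simp [B, hΨdef, Matrix.fromBlocks_mulVec, sumElim_dotProduct_sumElim]] at h'
            simp [h'] at hp
        have hlt1 : B (v - A.mulVec x) (v - A.mulVec x) < B v v := by linarith [hpos _ hAx]
        have hlt2 : B (A.mulVec x) (A.mulVec x) < B v v := by linarith [hpos _ hz]
        have sub : ∀ u : κ₁ ⊕ κ₂ → ℤ, B u u < B v v → u ∈ Set.range A.mulVec := by
          intro u hu
          have hnn : ∀ (a : κ₁ → ℤ) (b : κ₂ → ℤ), B (Sum.elim a 0) (Sum.elim a 0) ≤ B (Sum.elim a b) (Sum.elim a b) ∧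
              B (Sum.elim 0 b) (Sum.elim 0 b) ≤ B (Sum.elim a b) (Sum.elim a b) ∧ 0 ≤ B (Sum.elim a 0) (Sum.elim a 0) ∧ 0 ≤ B (Sum.elim 0 b) (Sum.elim 0 b) := by
            intro a b
            have h3 : ∀ z, 0 ≤ B z z := fun z => by
              by_cases h : z = 0
              · simp [h, B]
              · exact (hpos z h).le
            have h4 := h3 (Sum.elim a 0)
            have h5 := h3 (Sum.elim 0 b)
            rw [hblk] at h4 h5
            simp only [hblk, dotProduct_zero, zero_dotProduct, Matrix.mulVec_zero, add_zero, zero_add] at *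
            exact ⟨by linarith, by linarith, h4, h5⟩
          obtain ⟨h6, h7, h8, h9⟩ := hnn (u ∘ Sum.inl) (u ∘ Sum.inr)
          rw [Sum.elim_comp_inl_inr] at h6 h7
          obtain ⟨x1, hx1⟩ := ih (B (Sum.elim (u ∘ Sum.inl) 0) (Sum.elim (u ∘ Sum.inl) 0)).toNat (by omega) (Sum.elim (u ∘ Sum.inl) 0) (by omega) (Or.inr (Sum.elim_comp_inr _ _))
          obtain ⟨x2, hx2⟩ := ih (B (Sum.elim 0 (u ∘ Sum.inr)) (Sum.elim 0 (u ∘ Sum.inr))).toNat (by omega) (Sum.elim 0 (u ∘ Sum.inr)) (by omega) (Or.inl (Sum.elim_comp_inl _ _))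
          exact ⟨x1 + x2, by rw [Matrix.mulVec_add, hx1, hx2]; ext (i | i) <;> simp⟩
        obtain ⟨x1, hx1⟩ := sub _ hlt1
        obtain ⟨x2, hx2⟩ := sub _ hlt2
        exact ⟨x1 + x2, by rw [Matrix.mulVec_add, hx1, hx2, sub_add_cancel]⟩
    refine ⟨hA, fun v => ?_⟩
    have h10 : ∀ u : κ₁ ⊕ κ₂ → ℤ, (u ∘ Sum.inl = 0 ∨ u ∘ Sum.inr = 0) → u ∈ Set.range A.mulVec :=
      fun u hu => key (B u u).toNat u (Int.self_le_toNat _) hu
    obtain ⟨x1, hx1⟩ := h10 (Sum.elim (v ∘ Sum.inl) 0) (Or.inr (Sum.elim_comp_inr _ _))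
    obtain ⟨x2, hx2⟩ := h10 (Sum.elim 0 (v ∘ Sum.inr)) (Or.inl (Sum.elim_comp_inl _ _))
    exact ⟨x1 + x2, by rw [Matrix.mulVec_add, hx1, hx2]; ext (i | i) <;> simp⟩

end Groth.Agent.S16164
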