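import Groth.Statements.S16170
import Mathlib

set_option autoImplicit false
open Neron

namespace Groth.Agent.S16170

/-- Let M and N be symmetric positive-semidefinite integer matrices on the same finite index set whose
sum M + N is positive definite, and let χ₁, χ₂ be integer matrices with χ₁ + χ₂ = 1 and M χ₂ = N χ₁.
Then χ₁ and χ₂ are idempotent. (In the intended application M = Pᵀ Ψ₁ P and N = Qᵀ Ψ₂ Q for
surjective integer matrices P, Q and positive-definite Ψ₁, Ψ₂.) -/
theorem result
    {ι : Type} [Fintype ι] [DecidableEq ι]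
    (M N χ₁ χ₂ : Matrix ι ι ℤ) (hM : M.IsSymm) (hN : N.IsSymm)
    (hMpos : ∀ v : ι → ℤ, 0 ≤ v ⬝ᵥ M.mulVec v) (hNpos : ∀ v : ι → ℤ, 0 ≤ v ⬝ᵥ N.mulVec v)
    (hpos : ∀ v : ι → ℤ, v ≠ 0 → 0 < v ⬝ᵥ (M + N).mulVec v)
    (hsum : χ₁ + χ₂ = 1) (hrel : M * χ₂ = N * χ₁) :
    χ₁ * χ₁ = χ₁ ∧ χ₂ * χ₂ = χ₂ := by
  set S := M + N with hSdef
  set A := χ₁ * χ₂ with hAdef
  have hS : S.IsSymm := hM.add hN
  have hMe : M = S * χ₁ := by
    have : M * χ₁ + M * χ₂ = M := by rw [← Matrix.mul_add, hsum, Matrix.mul_one]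
    rw [hSdef, Matrix.add_mul, ← hrel]; exact this.symm
  have hNe : N = S * χ₂ := by
    have : N * χ₁ + N * χ₂ = N := by rw [← Matrix.mul_add, hsum, Matrix.mul_one]
    rw [hSdef, Matrix.add_mul, hrel]; exact this.symm
  have hc2 : χ₂ = 1 - χ₁ := eq_sub_of_add_eq' hsum
  have hT : S * A = M * χ₂ := by rw [hAdef, ← Matrix.mul_assoc, ← hMe]
  obtain ⟨T, hTdef⟩ : ∃ T, T = M * χ₂ := ⟨_, rfl⟩
  rw [← hTdef] at hT
  have e1 : χ₁.transpose * S = M := by
    conv_rhs => rw [← hM.eq, hMe, Matrix.transpose_mul, hS.eq]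
  have e2 : χ₂.transpose * S = N := by
    conv_rhs => rw [← hN.eq, hNe, Matrix.transpose_mul, hS.eq]
  have hTt : T.transpose = T := by
    have h5 : (M * χ₁).transpose = M * χ₁ := by
      rw [Matrix.transpose_mul, hM.eq]
      conv_lhs => rw [hMe, ← Matrix.mul_assoc, e1]
    rw [hTdef, hc2, Matrix.mul_sub, Matrix.mul_one, Matrix.transpose_sub, hM.eq, h5]
  let q : Matrix ι ι ℤ → (ι → ℤ) → ℤ := fun X v => v ⬝ᵥ X.mulVec v
  have hTpos : ∀ v, 0 ≤ q T v := by
    intro v
    have h1 : χ₂.transpose * M * χ₂ + χ₁.transpose * N * χ₁ = T := by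
      rw [hTdef, Matrix.mul_assoc, Matrix.mul_assoc, ← hrel, ← Matrix.add_mul, ← Matrix.transpose_add, add_comm, hsum, Matrix.transpose_one, Matrix.one_mul]
    have h2 : ∀ (C X : Matrix ι ι ℤ), q (C.transpose * X * C) v = q X (C.mulVec v) := by
      intro C X
      simp only [q, ← Matrix.mulVec_mulVec]
      rw [Matrix.dotProduct_mulVec, Matrix.vecMul_transpose]
    have := add_nonneg (hMpos (χ₂.mulVec v)) (hNpos (χ₁.mulVec v))
    have h3 : q T v = q M (χ₂.mulVec v) + q N (χ₁.mulVec v) := by
      rw [← h2, ← h2, ← h1]; simp [q, Matrix.add_mulVec, dotProduct_add]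
    rw [h3]; exact this
  have hS0 : ∀ v, q S v = 0 → v = 0 := fun v hv => by
    by_contra hne; exact absurd hv (ne_of_gt (hpos v hne))
  have hSnn : ∀ v, 0 ≤ q S v := fun v => by
    rcases eq_or_ne v 0 with rfl | h
    · simp [q]
    · exact (hpos v h).le
  have h4 : ∀ v, 4 * q T v ≤ q S v := by
    intro v
    have := hSnn ((χ₁ - χ₂).mulVec v)
    have e : q S ((χ₁ - χ₂).mulVec v) = q S v - 4 * q T v := by
      have hS' : ∀ C : Matrix ι ι ℤ, q S (C.mulVec v) = q (C.transpose * S * C) v := fun C : Matrix ι ι ℤ => by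
        simp only [q, ← Matrix.mulVec_mulVec]
        rw [Matrix.dotProduct_mulVec v C.transpose, Matrix.vecMul_transpose]
      have hm : (χ₁ - χ₂).transpose * S * (χ₁ - χ₂) = S - (T + T + T + T) := by
        rw [Matrix.transpose_sub, Matrix.sub_mul, e1, e2]
        have e3 : M * χ₁ = M - T := by
          rw [eq_sub_iff_add_eq, hTdef, ← Matrix.mul_add, hsum, Matrix.mul_one]
        have e4 : N * χ₂ = N - T := by
          rw [eq_sub_iff_add_eq, hTdef, hrel, ← Matrix.mul_add, add_comm, hsum, Matrix.mul_one]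
        rw [Matrix.sub_mul, Matrix.mul_sub, Matrix.mul_sub, e3, e4, ← hrel, ← hTdef, hSdef]
        abel
      rw [hS', hm]
      simp [q, Matrix.sub_mulVec, dotProduct_sub, Matrix.add_mulVec, dotProduct_add]
      ring
    linarith
  have hA0 : ∀ v, A.mulVec v = 0 := by
    suffices h : ∀ (n : ℕ) v, (q S v).toNat = n → A.mulVec v = 0 from fun v => h _ v rfl
    intro n
    induction n using Nat.strong_induction_on with
    | _ n ih =>
      intro v hv
      set w := A.mulVec v with hw
      have hb : q S w = v ⬝ᵥ T.mulVec w := by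
        show w ⬝ᵥ S.mulVec w = _
        conv_lhs => arg 2; rw [hw]
        rw [Matrix.mulVec_mulVec, hT, dotProduct_comm]
        conv_lhs => rw [← hTt, Matrix.mulVec_transpose, ← Matrix.dotProduct_mulVec]
      have hcs : (v ⬝ᵥ T.mulVec w) ^ 2 ≤ q T v * q T w := by
        have hsy : w ⬝ᵥ T.mulVec v = v ⬝ᵥ T.mulVec w := by
          conv_lhs => rw [← hTt, Matrix.mulVec_transpose, dotProduct_comm, ← Matrix.dotProduct_mulVec]
        have key : ∀ a b : ℤ, 0 ≤ a * a * q T v + 2 * a * b * (v ⬝ᵥ T.mulVec w) + b * b * q T w := by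
          intro a b
          have := hTpos (a • v + b • w)
          simp only [q, Matrix.mulVec_add, Matrix.mulVec_smul, dotProduct_add, add_dotProduct, smul_dotProduct, dotProduct_smul, smul_eq_mul, hsy] at this
          simp only [q]; linarith
        set α := q T v
        set β := v ⬝ᵥ T.mulVec w
        set γ := q T w
        have hα : 0 ≤ α := hTpos v
        rcases hα.lt_or_eq with h | h
        · have := key (-β) α
          nlinarith
        · have h' : ∀ a, 0 ≤ 2 * a * β + γ := fun a => by have := key a 1; rw [← h] at this; linarith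
          have hβ : β = 0 := by
            by_contra hne
            have h1 := h' (-(γ + 1) * β)
            have h2 : 1 ≤ β * β := by rcases Int.lt_or_gt_of_ne hne with h | h <;> nlinarith
            have h3 : (γ + 1) * 1 ≤ (γ + 1) * (β * β) := mul_le_mul_of_nonneg_left h2 (by linarith [hTpos w])
            have hγ : 0 ≤ γ := hTpos w
            linarith
          rw [hβ, ← h]; simp
      have h16 : 16 * q S w ≤ q S v := by
        rcases (hSnn w).lt_or_eq with h | h
        · have h1 := h4 v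
          have h2 := h4 w
          rw [← hb] at hcs
          have h3 : 16 * (q T v * q T w) ≤ q S v * q S w := by
            have := mul_le_mul h1 h2 (by linarith [hTpos w]) (hSnn v)
            linarith
          nlinarith
        · rw [← h]; linarith [hSnn v]
      rcases eq_or_ne v 0 with rfl | hv0
      · simp [hw]
      have hAw : A.mulVec w = 0 := ih _ (by have h1 : 0 < q S v := hpos v hv0; have h2 := hSnn w; rw [← hv]; omega) w rfl
      apply hS0
      rw [hb, ← hT, ← Matrix.mulVec_mulVec, hAw]; simp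
  have hA : A = 0 := by
    ext i j
    have := congrFun (hA0 (Pi.single j 1)) i
    simpa using this
  rw [hAdef, hc2, Matrix.mul_sub, Matrix.mul_one, sub_eq_zero] at hA
  refine ⟨hA.symm, ?_⟩
  rw [hc2, Matrix.mul_sub, Matrix.mul_one, Matrix.sub_mul, Matrix.one_mul, ← hA]
  simp

end Groth.Agent.S16170
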