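import Groth.Statements.S16174
import Mathlib
import Groth.Agent.Lib.H4HenselSections


set_option autoImplicit false
universe u
open Hensel

namespace Groth.Agent.S16174

/-- Let V be a Henselian valuation ring and p a prime ideal of V. Then the local rings V_p (localisation
at p) and V/p are Henselian. (Both are again valuation rings, which is elementary and not restated.) -/
theorem result (V : Type u) [CommRing V]
    [IsDomain V] [ValuationRing V] [HenselianLocalRing V] (p : Ideal V) [p.IsPrime] :
    HenselianLocalRing (Localization.AtPrime p) ∧ HenselianLocalRing (V ⧸ p) := by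
  let L := Localization.AtPrime p
  have hp : p ≤ IsLocalRing.maximalIdeal V := IsLocalRing.le_maximalIdeal (Ideal.IsPrime.ne_top inferInstance)
  constructor
  · refine H4HenselPair.henselianLocalRing_of_henselianRing (H4Hensel.of_gabber
      (IsLocalRing.jacobson_eq_maximalIdeal ⊥ bot_ne_top).ge fun n hn P hd hP => ?_)
    have key : ∀ z ∈ IsLocalRing.maximalIdeal L, ∃ t ∈ p, algebraMap V L t = z := by
      intro z hz
      obtain ⟨x, s, rfl⟩ := IsLocalization.exists_mk'_eq p.primeCompl z
      have hx : x ∈ p := (IsLocalization.AtPrime.mk'_mem_maximal_iff L p x s).mp hz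
      rcases ValuationRing.dvd_total (s : V) x with ⟨t, ht⟩ | ⟨c, hc⟩
      · refine ⟨t, ?_, ?_⟩
        · exact ((Ideal.IsPrime.mem_or_mem inferInstance (ht ▸ hx)).resolve_left s.2)
        · rw [eq_comm, IsLocalization.mk'_eq_iff_eq_mul, ← map_mul, mul_comm, ← ht]
      · exact absurd (hc ▸ p.mul_mem_right c hx) s.2
    choose t ht htz using fun i => key _ (hP i)
    let q : Polynomial V := ∑ i ∈ Finset.range (n + 1), Polynomial.C (t i) * Polynomial.X ^ i
    have hq : q.map (algebraMap V L) = P := by
      simp only [q, Polynomial.map_sum, Polynomial.map_mul, Polynomial.map_C, Polynomial.map_pow,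
        Polynomial.map_X, htz]
      exact (Polynomial.as_sum_range_C_mul_X_pow' (p := P) (Nat.lt_succ_of_le hd)).symm
    have hqc : ∀ i, q.coeff i ∈ p := fun i => by
      simp only [q, Polynomial.finsetSum_coeff]
      exact p.sum_mem fun j _ => by rw [Polynomial.coeff_C_mul]; exact p.mul_mem_right _ (ht j)
    obtain ⟨α, hα1, hα⟩ := H4Hensel.hasGabberRoots (IsLocalRing.maximalIdeal V) n hn q
      (Polynomial.natDegree_sum_le_of_forall_le _ _ fun j hj =>
        (Polynomial.natDegree_C_mul_X_pow_le _ _).trans (Nat.lt_succ_iff.mp (Finset.mem_range.mp hj)))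
      (fun i => hp (hqc i))
    have hαp : α - 1 ∈ p := by
      have hu : α ∉ p := fun h => by
        have := (IsLocalRing.maximalIdeal V).sub_mem (hp h) hα1
        rw [sub_sub_cancel] at this
        exact (IsLocalRing.maximalIdeal.isMaximal V).ne_top ((Ideal.eq_top_iff_one _).mpr this)
      have he : α ^ n * (α - 1) ∈ p := by
        have h0 : α ^ n * (α - 1) = - q.eval α := by
          have := hα.eq_zero
          simp at this
          linear_combination this
        rw [h0]; exact p.neg_mem (H4Hensel.eval_mem_of_coeff_mem hqc α)
      exact ((Ideal.IsPrime.mem_or_mem inferInstance he).resolve_left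
        fun h => hu (Ideal.IsPrime.mem_of_pow_mem inferInstance n h))
    refine ⟨algebraMap V L α, ?_, ?_⟩
    · rw [← map_one (algebraMap V L), ← map_sub]
      exact (IsLocalization.AtPrime.to_map_mem_maximal_iff L p _).mpr hαp
    · have := hα.map (f := algebraMap V L)
      simpa [hq] using this
  · have : Nontrivial (V ⧸ p) := Ideal.Quotient.nontrivial_iff.mpr (Ideal.IsPrime.ne_top inferInstance)
    have : IsLocalRing (V ⧸ p) := IsLocalRing.of_surjective' _ Ideal.Quotient.mk_surjective
    refine H4HenselPair.henselianLocalRing_of_henselianRing ?_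
    have h := H4Hensel.of_surjective (Ideal.Quotient.mk p) Ideal.Quotient.mk_surjective (IsLocalRing.maximalIdeal V)
    have hm : ((IsLocalRing.maximalIdeal V).map (Ideal.Quotient.mk p)).IsMaximal :=
      Ideal.IsMaximal.map_of_surjective_of_ker_le Ideal.Quotient.mk_surjective (by simpa using hp)
    rwa [IsLocalRing.eq_maximalIdeal hm] at h

end Groth.Agent.S16174
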