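import Groth.Statements.S16188
import Groth.Agent.Lib.H6.RedClosed

set_option autoImplicit false
set_option linter.all false
universe u
open CategoryTheory AlgebraicGeometry TopologicalSpace
open SchMor

namespace Groth.Agent.S16188

/-- Let f : X → Y be a morphism of schemes with X reduced and irreducible. Then f factors through an
irreducible component of Y carrying its reduced closed-subscheme structure: there are an irreducible
component Z of Y and a morphism g from X to the closed subscheme of Y cut out by the vanishing ideal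
sheaf of Z with g followed by the inclusion equal to f; that closed subscheme is integral. -/
theorem result
    {X Y : Scheme.{u}} (f : X ⟶ Y) [IsReduced X] [IrreducibleSpace X] :
    ∃ (Z : Closeds Y) (_ : (Z : Set Y) ∈ irreducibleComponents Y)
      (_ : IsIntegral (Scheme.IdealSheafData.vanishingIdeal Z).subscheme)
      (g : X ⟶ (Scheme.IdealSheafData.vanishingIdeal Z).subscheme),
      g ≫ (Scheme.IdealSheafData.vanishingIdeal Z).subschemeι = f := by
  obtain ⟨Z, hZ, hsub⟩ := exists_mem_irreducibleComponents_subset_of_isIrreducible (Set.range f)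
    (Set.image_univ ▸ (IrreducibleSpace.isIrreducible_univ X).image f f.continuous.continuousOn)
  let C : Closeds Y := ⟨Z, isClosed_of_mem_irreducibleComponents _ hZ⟩
  let S := (Scheme.IdealSheafData.vanishingIdeal C).subscheme
  let i := (Scheme.IdealSheafData.vanishingIdeal C).subschemeι
  have hi : Set.range i = (Z : Set Y) := H6.RedClosed.range_subschemeι_vanishing C
  haveI : AlgebraicGeometry.IsReduced S := H6.RedClosed.isReduced_vanishing C
  haveI : IrreducibleSpace S := by
    have h1 : IsIrreducible (Set.range i) := hi ▸ hZ.1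
    have h2 : IsIrreducible (Set.univ : Set S) := by
      refine ⟨?_, fun u v hu hv hu' hv' => ?_⟩
      · obtain ⟨_, ⟨y, rfl⟩⟩ := h1.1
        exact ⟨y, trivial⟩
      · obtain ⟨u', hu0, rfl⟩ := i.isClosedEmbedding.isInducing.isOpen_iff.1 hu
        obtain ⟨v', hv0, rfl⟩ := i.isClosedEmbedding.isInducing.isOpen_iff.1 hv
        obtain ⟨a, -, ha⟩ := hu'
        obtain ⟨b, -, hb⟩ := hv'
        obtain ⟨_, ⟨c, rfl⟩, hc⟩ := h1.2 u' v' hu0 hv0 ⟨i a, ⟨a, rfl⟩, ha⟩ ⟨i b, ⟨b, rfl⟩, hb⟩
        exact ⟨c, trivial, hc⟩
    exact (irreducibleSpace_def _).2 h2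
  obtain ⟨g, hg⟩ := H6.RedClosed.exists_lift f i (hi.symm ▸ hsub)
  exact ⟨C, hZ, isIntegral_of_irreducibleSpace_of_isReduced S, g, hg⟩

end Groth.Agent.S16188
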