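import Groth.Statements.S16194
import Mathlib


set_option autoImplicit false
universe u
open DivAlg

namespace Groth.Agent.S16194

/-- In an associative unital ring R, not necessarily commutative, every element r of the Jacobson
radical (the set of elements lying in every maximal left ideal) is quasiregular, i.e. 1 - r is a
two-sided unit. -/
theorem result {R : Type u} [Ring R] (r : R)
    (hr : r ∈ Ring.jacobson R) : IsUnit (1 - r) := by
  rw [← Ideal.jacobson_bot] at hr
  have key : ∀ y ∈ (⊥ : Ideal R).jacobson, ∃ z, z * (1 - y) = 1 := fun y hy => by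
    obtain ⟨z, hz⟩ := Ideal.mem_jacobson_iff.mp hy (-1)
    refine ⟨z, ?_⟩
    rw [Submodule.mem_bot, sub_eq_zero] at hz
    refine Eq.trans ?_ hz
    simp [mul_sub]; abel
  obtain ⟨z, hz⟩ := key r hr
  obtain ⟨w, hw⟩ := key (-(z * r)) (neg_mem (Ideal.mul_mem_left _ z hr))
  have hz' : (1 : R) - -(z * r) = z := by
    rw [mul_sub, mul_one, sub_eq_iff_eq_add] at hz
    rw [sub_neg_eq_add]; exact hz.symm
  rw [hz'] at hw
  have : w = 1 - r := left_inv_eq_right_inv hw hz
  exact ⟨⟨1 - r, z, this ▸ hw, hz⟩, rfl⟩

end Groth.Agent.S16194
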