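import Groth.Statements.S16195
import Mathlib

set_option autoImplicit false
universe u v w
open DivAlg

namespace Groth.Agent.S16195

/-- Let R be a ring (associative, unital, not necessarily commutative) and M, N left R-modules. For an
R-module P write BiEnd_R(P) for the ring of endomorphisms of P that are linear over the ring
End_R(P), which acts on P through evaluation. Then every T in BiEnd_R(M × N) preserves the two
summands and is induced by a pair (T₁, T₂) with T₁ in BiEnd_R(M) and T₂ in BiEnd_R(N). -/
theorem result {R : Type u} [Ring R] (M : Type v) (N : Type w)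
    [AddCommGroup M] [Module R M] [AddCommGroup N] [Module R N]
    (T : Module.End (Module.End R (M × N)) (M × N)) :
    ∃ (T₁ : Module.End (Module.End R M) M) (T₂ : Module.End (Module.End R N) N),
      ∀ (m : M) (n : N), T (m, n) = (T₁ m, T₂ n) := by
  have hcomm : ∀ (φ : Module.End R (M × N)) (x : M × N), T (φ x) = φ (T x) := fun φ x => T.map_smul φ x
  let p₁ : Module.End R (M × N) := (LinearMap.inl R M N).comp (LinearMap.fst R M N)
  let p₂ : Module.End R (M × N) := (LinearMap.inr R M N).comp (LinearMap.snd R M N)
  have h1 : ∀ m, T (m, 0) = ((T (m, 0)).1, 0) := fun m => by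
    conv_lhs => rw [show ((m, 0) : M × N) = p₁ (m, 0) by simp [p₁]]
    rw [hcomm]; simp [p₁]
  have h2 : ∀ n, T (0, n) = (0, (T (0, n)).2) := fun n => by
    conv_lhs => rw [show ((0, n) : M × N) = p₂ (0, n) by simp [p₂]]
    rw [hcomm]; simp [p₂]
  let T₁ : Module.End (Module.End R M) M :=
    { toFun := fun m => (T (m, 0)).1
      map_add' := fun a b => by rw [← Prod.fst_add, ← map_add, Prod.mk_add_mk, add_zero]
      map_smul' := fun f m => by
        have := congrArg Prod.fst (hcomm ((LinearMap.inl R M N).comp (f.comp (LinearMap.fst R M N))) (m, 0))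
        simpa using this }
  let T₂ : Module.End (Module.End R N) N :=
    { toFun := fun n => (T (0, n)).2
      map_add' := fun a b => by rw [← Prod.snd_add, ← map_add, Prod.mk_add_mk, add_zero]
      map_smul' := fun f n => by
        have := congrArg Prod.snd (hcomm ((LinearMap.inr R M N).comp (f.comp (LinearMap.snd R M N))) (0, n))
        simpa using this }
  refine ⟨T₁, T₂, fun m n => ?_⟩
  rw [show ((m, n) : M × N) = (m, 0) + (0, n) by simp, map_add, h1, h2, Prod.mk_add_mk, add_zero, zero_add]
  rfl

end Groth.Agent.S16195
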