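import Groth.Statements.S16196
import Mathlib

set_option autoImplicit false
universe u v
open DivAlg

namespace Groth.Agent.S16196

/-- Let R be a ring (associative, unital, not necessarily commutative) and M a left R-module which is a
generator, in the form: for some n there is an R-linear surjection from M^n onto R. Then the natural
ring homomorphism from R to the double endomorphism ring BiEnd_R(M) = End_{End_R(M)}(M)
(endomorphisms of M commuting with every R-linear endomorphism), r ↦ multiplication by r, is
bijective. (The printed form takes R an algebra over a commutative ring k, embeds R in E = End_k(M)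
and asserts R = C_E(C_E(R)); the double centralizer there is BiEnd_R(M).) -/
theorem result {R : Type u} [Ring R] (M : Type v)
    [AddCommGroup M] [Module R M]
    (hgen : ∃ (n : ℕ) (f : (Fin n → M) →ₗ[R] R), Function.Surjective f) :
    Function.Bijective (Module.toModuleEnd (Module.End R M) (S := R) M) := by
  classical
  obtain ⟨n, f, hf⟩ := hgen
  obtain ⟨e, he⟩ := hf 1
  constructor
  · intro r s hrs
    have h1 : ∀ x : M, r • x = s • x := fun x => LinearMap.congr_fun hrs x
    have h2 : r • e = s • e := funext fun i => h1 (e i)
    simpa [map_smul, he] using congrArg f h2
  · intro φ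
    let g : Fin n → M → Module.End R M := fun i x => (LinearMap.toSpanSingleton R M x).comp (f.comp (LinearMap.single R (fun _ => M) i))
    have hg : ∀ i x m, g i x m = f (Pi.single i m) • x := fun i x m => rfl
    have hsum : ∀ y : Fin n → M, f y = ∑ i, f (Pi.single i (y i)) := fun y => by
      conv_lhs => rw [← Finset.univ_sum_single y]
      rw [map_sum]
    refine ⟨f fun i => φ (e i), LinearMap.ext fun x => ?_⟩
    show (f fun i => φ (e i)) • x = φ x
    have hx : x = ∑ i, g i x (e i) := by
      simp only [hg, ← Finset.sum_smul, ← hsum, he, one_smul]
    conv_rhs => rw [hx]
    rw [map_sum, hsum, Finset.sum_smul]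
    exact Finset.sum_congr rfl fun i _ => (φ.map_smul (g i x) (e i)).symm

end Groth.Agent.S16196
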