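import Groth.Statements.S16197
import Mathlib


set_option autoImplicit false
universe u v w
open DivAlg

namespace Groth.Agent.S16197

/-- Let R be a ring (associative, unital, not necessarily commutative) and M a left R-module which is a
generator, used here only through the existence of an R-linear surjection from a direct sum of
copies of M, indexed by an arbitrary type, onto R. Then some finite power M^n decomposes as R × Q
for a submodule Q of M^n. (The published statement is an equivalence; this row states only the
implication from the existence of such a surjection to the splitting.) -/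
theorem result {R : Type u} [Ring R] (M : Type v)
    [AddCommGroup M] [Module R M]
    (hgen : ∃ (ι : Type w) (f : (ι →₀ M) →ₗ[R] R), Function.Surjective f) :
    ∃ (n : ℕ) (Q : Submodule R (Fin n → M)), Nonempty ((Fin n → M) ≃ₗ[R] (R × Q)) := by
  classical
  obtain ⟨ι, f, hf⟩ := hgen
  obtain ⟨x, hx⟩ := hf 1
  let e := x.support.equivFin.symm
  let g : (Fin x.support.card → M) →ₗ[R] R :=
    ∑ i, f.comp ((Finsupp.lsingle (e i : ι)).comp (LinearMap.proj i))
  let v : Fin x.support.card → M := fun i => x (e i)
  have hv : g v = 1 := by
    simp only [g, v, LinearMap.sum_apply, LinearMap.comp_apply, LinearMap.proj_apply, Finsupp.lsingle_apply, ← map_sum]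
    rw [← hx]; congr 1
    rw [e.sum_comp (fun a : x.support => Finsupp.single (a : ι) (x a)), Finset.sum_coe_sort x.support (fun a => Finsupp.single a (x a))]
    exact Finsupp.sum_single x
  refine ⟨_, LinearMap.ker g, ⟨
    { toFun := fun m => (g m, ⟨m - g m • v, by simp [hv]⟩)
      invFun := fun p => p.1 • v + p.2.1
      map_add' := fun a b => by
        refine Prod.ext (map_add g a b) (Subtype.ext ?_)
        simp [add_smul]; abel
      map_smul' := fun c a => by
        refine Prod.ext (map_smul g c a) (Subtype.ext ?_)
        simp [smul_sub, mul_smul]
      left_inv := fun m => by simp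
      right_inv := fun p => by
        have h0 : g p.2.1 = 0 := p.2.2
        refine Prod.ext (by simp [h0, hv]) (Subtype.ext ?_)
        simp [h0, hv] }⟩⟩

end Groth.Agent.S16197
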