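import Groth.Statements.S16200
import Mathlib

set_option autoImplicit false
universe u v
open DivAlg

namespace Groth.Agent.S16200

open scoped TensorProduct

theorem steinitz {R : Type u} [CommRing R] [IsDedekindDomain R] (I J : Ideal R) (hI : I ≠ ⊥) (hJ : J ≠ ⊥) :
    Nonempty ((I × J) ≃ₗ[R] (R × (I * J : Ideal R))) := by
  obtain ⟨c, hcJ, hc0⟩ := Submodule.exists_mem_ne_zero_of_ne_bot hJ
  obtain ⟨K, hK⟩ := Ideal.dvd_iff_le.2 ((Ideal.span_singleton_le_iff_mem J).2 hcJ)
  have hK0 : K ≠ 0 := fun h => hc0 (by rw [h, mul_zero] at hK; simpa using hK)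
  obtain ⟨a, ha⟩ := IsDedekindDomain.exists_sup_span_eq (I := I * K) (J := K) Ideal.mul_le_right (mul_ne_zero hI hK0)
  have haK : a ∈ K := ha ▸ Ideal.mem_sup_right (Ideal.mem_span_singleton_self a)
  obtain ⟨J', hJ'⟩ := Ideal.dvd_iff_le.2 ((Ideal.span_singleton_le_iff_mem K).2 haK)
  have hcop : I ⊔ J' = ⊤ := by
    refine mul_left_cancel₀ hK0 ?_
    rw [Ideal.mul_sup, ← hJ', mul_comm K I, Ideal.mul_top, ha]
  have hca : Ideal.span {c} * J' = Ideal.span {a} * J := by
    rw [hK, mul_assoc, ← hJ', mul_comm]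
  by_cases ha0 : a = 0
  · -- then `J' = 0`, so `I = ⊤`
    subst ha0
    have hJ0 : J' = ⊥ := by
      have : K * J' = 0 := by rw [← hJ']; simp
      exact (mul_eq_zero.1 this).resolve_left hK0
    rw [hJ0, sup_bot_eq] at hcop
    subst hcop
    exact ⟨(Submodule.topEquiv).prodCongr (LinearEquiv.ofEq _ _ (Ideal.top_mul J).symm)⟩
  have eJ : Nonempty (J ≃ₗ[R] J') := by
    let f : ∀ (x : R), R →ₗ[R] R := fun x => LinearMap.mulLeft R x
    have h1 : ∀ (x : R) (M : Ideal R), Submodule.map (f x) M = Ideal.span {x} * M := fun x M => by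
      ext y
      simp [f, Ideal.mem_span_singleton_mul]
    exact ⟨(Submodule.equivMapOfInjective (f a) (mul_right_injective₀ ha0) J).trans
      ((LinearEquiv.ofEq _ _ ((h1 a J).trans (hca.symm.trans (h1 c J').symm))).trans
        (Submodule.equivMapOfInjective (f c) (mul_right_injective₀ hc0) J').symm)⟩
  obtain ⟨e⟩ := eJ
  obtain ⟨x, hx, y, hy, hxy⟩ := Submodule.mem_sup.1 (hcop.symm ▸ Submodule.mem_top : (1 : R) ∈ I ⊔ J')
  let g : (I × J') ≃ₗ[R] (R × ↥(I ⊓ J' : Ideal R)) :=
    LinearEquiv.ofLinear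
      ((LinearMap.coprod I.subtype J'.subtype).prod (LinearMap.codRestrict _
        (y • (I.subtype.comp (LinearMap.fst R I J')) - x • (J'.subtype.comp (LinearMap.snd R I J'))) fun z =>
        ⟨sub_mem (I.smul_mem y z.1.2) (I.mul_mem_right _ hx), sub_mem (J'.mul_mem_right _ hy) (J'.smul_mem x z.2.2)⟩))
      (LinearMap.prod
        (LinearMap.codRestrict I (x • LinearMap.fst R R _ + (Submodule.subtype _).comp (LinearMap.snd R R ↥(I ⊓ J' : Ideal R))) fun z =>
          add_mem (I.mul_mem_right _ hx) z.2.2.1)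
        (LinearMap.codRestrict J' (y • LinearMap.fst R R _ - (Submodule.subtype _).comp (LinearMap.snd R R ↥(I ⊓ J' : Ideal R))) fun z =>
          sub_mem (J'.mul_mem_right _ hy) z.2.2.2))
      (LinearMap.ext fun ⟨r, s⟩ => Prod.ext
        (by show x * r + (s : R) + (y * r - (s : R)) = r; linear_combination r * hxy)
        (Subtype.ext (by show y * (x * r + (s : R)) - x * (y * r - (s : R)) = (s : R); linear_combination (s : R) * hxy)))
      (LinearMap.ext fun ⟨u, v⟩ => Prod.ext
        (Subtype.ext (by show x * ((u : R) + (v : R)) + (y * (u : R) - x * (v : R)) = (u : R); linear_combination (u : R) * hxy))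
        (Subtype.ext (by show y * ((u : R) + (v : R)) - (y * (u : R) - x * (v : R)) = (v : R); linear_combination (v : R) * hxy)))
  have hinf : I ⊓ J' = I * J' := (Ideal.mul_eq_inf_of_coprime hcop).symm
  have eIJ : Nonempty (↥(I * J' : Ideal R) ≃ₗ[R] ↥(I * J : Ideal R)) := by
    let f : ∀ (x : R), R →ₗ[R] R := fun x => LinearMap.mulLeft R x
    have h1 : ∀ (x : R) (M : Ideal R), Submodule.map (f x) M = Ideal.span {x} * M := fun x M => by
      ext y
      simp [f, Ideal.mem_span_singleton_mul]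
    exact ⟨(Submodule.equivMapOfInjective (f c) (mul_right_injective₀ hc0) _).trans
      ((LinearEquiv.ofEq _ _ (by rw [h1, h1, mul_left_comm, hca, mul_left_comm])).trans
        (Submodule.equivMapOfInjective (f a) (mul_right_injective₀ ha0) _).symm)⟩
  obtain ⟨e'⟩ := eIJ
  exact ⟨((LinearEquiv.refl R I).prodCongr e).trans (g.trans ((LinearEquiv.refl R R).prodCongr ((LinearEquiv.ofEq _ _ hinf).trans e')))⟩


/-- Let R be a Dedekind domain, N an invertible R-module and n a natural number with [N]^n = 1 in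
Pic(R). Then the direct sum N^n is isomorphic to R^n; thus over a Dedekind domain the invertible
modules N with N^n ≅ R^n are exactly the n-torsion classes of Pic(R), the other inclusion holding
over any commutative ring. -/
theorem result {R : Type u} [CommRing R]
    [IsDedekindDomain R] (N : Type v) [AddCommGroup N] [Module R N] [Module.Invertible R N]
    (n : ℕ) (h : CommRing.Pic.mk R N ^ n = 1) :
    Nonempty ((Fin n → N) ≃ₗ[R] (Fin n → R)) := by
  obtain ⟨I, ⟨e⟩⟩ := Module.Invertible.exists_linearEquiv_ideal R N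
  haveI : Module.Invertible R I := Module.Invertible.congr e
  have hI : I ≠ ⊥ := by
    intro h
    haveI : Subsingleton I := by rw [h]; infer_instance
    haveI : Module.Free R I := inferInstance
    obtain ⟨e'⟩ := Module.Invertible.free_iff_linearEquiv.1 ‹Module.Free R I›
    exact one_ne_zero (α := R) (e'.symm.injective (Subsingleton.elim _ _))
  have hpow : ∀ j : ℕ, ∃ _ : Module.Invertible R ↥(I ^ j : Ideal R), CommRing.Pic.mk R ↥(I ^ j : Ideal R) = CommRing.Pic.mk R N ^ j := by
    intro j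
    induction j with
    | zero =>
      have e0 : R ≃ₗ[R] ↥(I ^ 0 : Ideal R) := Submodule.topEquiv.symm.trans (LinearEquiv.ofEq _ _ (by rw [pow_zero, Ideal.one_eq_top]))
      haveI := Module.Invertible.congr e0
      exact ⟨inferInstance, (CommRing.Pic.mk_eq_one_iff.2 ⟨e0.symm⟩).trans (pow_zero (CommRing.Pic.mk R N)).symm⟩
    | succ j ih =>
      obtain ⟨hj, hjk⟩ := ih
      have e1 : (↥(I ^ j : Ideal R) ⊗[R] I) ≃ₗ[R] ↥(I ^ (j + 1) : Ideal R) :=
        (Submodule.LinearDisjoint.mulMap (Submodule.LinearDisjoint.of_left_le_one_of_flat (I ^ j) I (by simp))).trans (LinearEquiv.ofEq _ _ (pow_succ I j).symm)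
      haveI := Module.Invertible.congr e1
      refine ⟨inferInstance, ?_⟩
      refine (CommRing.Pic.mk_eq_mk_iff.2 ⟨e1.symm⟩).trans ?_
      rw [CommRing.Pic.mk_tensor, hjk, ← CommRing.Pic.mk_eq_mk_iff.2 ⟨e⟩]
      exact (pow_succ (CommRing.Pic.mk R N) j).symm
  rcases n with _ | n
  · exact ⟨{ toFun := fun _ i => i.elim0, invFun := fun _ i => i.elim0, left_inv := fun _ => funext fun i => i.elim0,
             right_inv := fun _ => funext fun i => i.elim0, map_add' := fun _ _ => funext fun i => i.elim0,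
             map_smul' := fun _ _ => funext fun i => i.elim0 }⟩
  have hk : ∀ j : ℕ, Nonempty ((Fin (j + 1) → I) ≃ₗ[R] ((Fin j → R) × ↥(I ^ (j + 1) : Ideal R))) := by
    intro j
    induction j with
    | zero =>
      exact ⟨(LinearEquiv.funUnique (Fin 1) R I).trans (((LinearEquiv.ofEq _ _ (pow_one I).symm).trans
        (LinearEquiv.uniqueProd).symm))⟩
    | succ j ih =>
      obtain ⟨f⟩ := ih
      obtain ⟨s⟩ := steinitz I (I ^ (j + 1)) hI (pow_ne_zero _ hI)
      exact ⟨(Fin.consLinearEquiv R fun _ : Fin (j + 2) => I).symm.trans (((LinearEquiv.refl R I).prodCongr f).trans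
        ((LinearEquiv.prodAssoc R _ _ _).symm.trans ((((LinearEquiv.prodComm R I (Fin j → R))).prodCongr (LinearEquiv.refl R _)).trans
          ((LinearEquiv.prodAssoc R _ _ _).trans (((LinearEquiv.refl R (Fin j → R)).prodCongr s).trans
            ((LinearEquiv.prodAssoc R _ _ _).symm.trans (((LinearEquiv.prodComm R (Fin j → R) R).trans (Fin.consLinearEquiv R fun _ : Fin (j + 1) => R)).prodCongr
              (LinearEquiv.ofEq _ _ (pow_succ' I (j + 1)).symm))))))))⟩
  obtain ⟨f⟩ := hk n
  obtain ⟨hinv, hmk⟩ := hpow (n + 1)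
  rw [h] at hmk
  obtain ⟨e2⟩ := CommRing.Pic.mk_eq_one_iff.1 hmk
  exact ⟨(LinearEquiv.piCongrRight fun _ => e).trans (f.trans (((LinearEquiv.refl R _).prodCongr e2).trans
    ((LinearEquiv.prodComm R _ _).trans (Fin.consLinearEquiv R fun _ : Fin (n + 1) => R))))⟩

end Groth.Agent.S16200
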