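import Groth.Statements.S16234
import Mathlib
import Groth.Agent.Lib.H2Decay

set_option autoImplicit false
universe u v
open CAlg

namespace Groth.Agent.S16234
open scoped TensorProduct
set_option linter.style.haveILetI false

/-- For a finitely generated module M over a Noetherian commutative ring A, every prime ideal in the
support of M is a maximal ideal if and only if M has finite length. -/
theorem result (A : Type u) [CommRing A] [IsNoetherianRing A]
    (M : Type v) [AddCommGroup M] [Module A M] [Module.Finite A M] :
    (∀ p ∈ Module.support A M, p.asIdeal.IsMaximal) ↔ IsFiniteLength A M := by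
  constructor
  · intro h
    rw [isFiniteLength_iff_isNoetherian_isArtinian]
    refine ⟨inferInstance, ?_⟩
    haveI : Ring.KrullDimLE 0 (A ⧸ Module.annihilator A M) := by
      rw [Ring.krullDimLE_zero_iff]
      intro P hP
      haveI := hP
      have hmax := h ⟨P.comap (Ideal.Quotient.mk _), inferInstance⟩ (Module.mem_support_iff_of_finite.2 fun r hr => by
        show Ideal.Quotient.mk _ r ∈ P
        rw [Ideal.Quotient.eq_zero_iff_mem.2 hr]; exact Ideal.zero_mem _)
      rcases Ideal.map_eq_top_or_isMaximal_of_surjective (Ideal.Quotient.mk (Module.annihilator A M)) Ideal.Quotient.mk_surjective hmax with h' | h'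
      · rw [Ideal.map_comap_of_surjective _ Ideal.Quotient.mk_surjective] at h'; exact absurd h' hP.ne_top
      · rwa [Ideal.map_comap_of_surjective _ Ideal.Quotient.mk_surjective] at h'
    haveI : IsArtinianRing (A ⧸ Module.annihilator A M) := IsNoetherianRing.isArtinianRing_of_krullDimLE_zero
    letI := Module.IsTorsionBySet.module (R := A) (M := M) (I := Module.annihilator A M) fun m a => Module.mem_annihilator.1 a.2 m
    haveI : IsScalarTower A (A ⧸ Module.annihilator A M) M := Module.IsTorsionBySet.isScalarTower _
    haveI : Module.Finite (A ⧸ Module.annihilator A M) M := Module.Finite.of_restrictScalars_finite A _ _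
    exact isArtinian_of_surjective_algebraMap (R := A ⧸ Module.annihilator A M) (S := A) (M := M) Ideal.Quotient.mk_surjective
  · intro h p hp
    rw [isFiniteLength_iff_isNoetherian_isArtinian] at h
    haveI := h.2
    obtain ⟨m, hm⟩ := Module.mem_support_iff'.1 hp
    let φ := LinearMap.toSpanSingleton A M m
    have hker : LinearMap.ker φ ≤ p.asIdeal := fun r hr => by_contra fun hn => hm r hn hr
    haveI : IsArtinian A (A ⧸ LinearMap.ker φ) :=
      isArtinian_of_injective ((LinearMap.ker φ).liftQ φ le_rfl) (LinearMap.ker_eq_bot.1 (Submodule.ker_liftQ_eq_bot _ _ _ le_rfl))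
    haveI : IsArtinian A (A ⧸ p.asIdeal) :=
      isArtinian_of_surjective _ (Submodule.factor hker) (Submodule.factor_surjective hker)
    haveI : IsArtinianRing (A ⧸ p.asIdeal) := isArtinian_of_tower A inferInstance
    exact Ideal.Quotient.maximal_of_isField _ (IsArtinianRing.isField_of_isDomain _)

end Groth.Agent.S16234
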