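import Groth.Statements.S16235
import Mathlib
import Groth.Agent.Lib.H2DepthMore
import Groth.Prelude.Def_DRing3

set_option autoImplicit false
universe u
open CAlg

namespace Groth.Agent.S16235
set_option linter.style.haveILetI false
open TensorProduct RingTheory.Sequence Groth.Agent.H2Depth Groth.Agent.H2DepthMore
open scoped Pointwise

/-- Let A be a Noetherian commutative ring and x_1, …, x_r a regular sequence on A (each x_i a
non-zero-divisor on A/(x_1, …, x_{i-1})) generating an ideal I ≠ A. Then the height of I, the
infimum of the heights of the minimal primes over I, equals r. -/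
theorem result (A : Type u) [CommRing A] [IsNoetherianRing A]
    (r : ℕ) (x : Fin r → A) (hx : RingTheory.Sequence.IsWeaklyRegular A (List.ofFn x))
    (hI : Ideal.span (Set.range x) ≠ ⊤) :
    (Ideal.span (Set.range x)).height = r := by
  refine le_antisymm ((Ideal.height_le_spanFinrank _ hI).trans (Nat.cast_le.2 ?_)) (le_of_le_of_eq (le_iInf₂ fun p hp => ?_) (Ideal.height_eq_inf_minimalPrimes (I := _)).symm)
  · exact (Submodule.spanFinrank_span_le_ncard_of_finite (Set.finite_range x)).trans
      ((Nat.card_coe_set_eq _).symm.le.trans ((Finite.card_range_le x).trans (by simp)))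
  · haveI : p.IsPrime := hp.1.1
    have h : HasReg (Ideal.span (Set.range x)) A r := ⟨_, by simp, hx, fun a ha => by
      obtain ⟨i, rfl⟩ := List.mem_ofFn.1 ha; exact Ideal.subset_span (Set.mem_range_self i)⟩
    have h2 := hasReg_localization hp.1.2 h
    obtain ⟨q, hq⟩ := associatedPrimes.nonempty (Localization.AtPrime p) (LocalizedModule p.primeCompl A)
    have h3 := (hasReg_le_dim_quotient h2 q hq).trans (ringKrullDim_quotient_le q)
    rw [IsLocalization.AtPrime.ringKrullDim_eq_height p (Localization.AtPrime p)] at h3
    exact_mod_cast h3

end Groth.Agent.S16235
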