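import Groth.Statements.S16238
import Groth.Agent.Lib.H1TorBal
import Groth.Agent.Lib.FiniteFreeResolution
import Mathlib

set_option autoImplicit false
universe u
open CategoryTheory
open CAlg

namespace Groth.Agent.S16238

open Groth.Agent.H1TorRes Groth.Agent.H1TorBal
open scoped TensorProduct

section aux

variable {A : Type u} [CommRing A] [IsNoetherianRing A] {F : ℕ → Type u} [∀ i, AddCommGroup (F i)]
  [∀ i, Module A (F i)] [∀ i, Module.Flat A (F i)] [∀ i, Module.Finite A (F i)]

theorem ex_nakayama (d : ∀ i, F (i + 1) →ₗ[A] F i) (hdd : ∀ i, (d i).comp (d (i + 1)) = 0) (a : A)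
    (ha : a ∈ Ideal.jacobson (⊥ : Ideal A)) {N : Type u} [AddCommGroup N] [Module A N]
    {K : Type u} [AddCommGroup K] [Module A K] [Module.Finite A K] (g : K →ₗ[A] N)
    (hf : Function.Injective (LinearMap.lsmul A K a)) (hg : Function.Surjective g)
    (hfg : Function.Exact (LinearMap.lsmul A K a) g) (i : ℕ) (hN : Ex d N i) : Ex d K i := by
  haveI : IsNoetherian A (K ⊗[A] F i) := isNoetherian_of_isNoetherianRing_of_finite A _
  have hle : Z d K i ≤ LinearMap.range ((d i).lTensor K) := by
    refine Submodule.le_of_le_smul_of_le_jacobson_bot (I := Ideal.span {a}) (IsNoetherian.noetherian _)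
      ((Ideal.span_singleton_le_iff_mem _).mpr ha) fun x hx => ?_
    obtain ⟨w, hw⟩ := hN _ (z_map d g i hx)
    obtain ⟨w', rfl⟩ := LinearMap.rTensor_surjective (F (i + 1)) hg w
    obtain ⟨v, hv⟩ := (rTensor_exact (F i) hfg hg (x - (d i).lTensor K w')).mp (by rw [map_sub, natural, hw, sub_self])
    have hvZ : v ∈ Z d K i := z_reflect d _ hf i (by rw [hv]; exact Submodule.sub_mem _ hx (range_le_z d hdd i w'))
    have e : (LinearMap.lsmul A K a).rTensor (F i) v = a • v := by
      clear hvZ hv
      induction v using TensorProduct.induction_on with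
      | zero => simp
      | tmul p q => rfl
      | add p q hp hq => rw [map_add, hp, hq, smul_add]
    rw [show x = (d i).lTensor K w' + a • v by rw [← e, hv]; abel]
    exact add_mem (Submodule.mem_sup_left ⟨w', rfl⟩)
      (Submodule.mem_sup_right (Submodule.smul_mem_smul (Ideal.mem_span_singleton_self a) hvZ))
  exact fun x hx => hle hx

end aux

/-- Let A be a Noetherian local ring, x_1, …, x_n a regular sequence on A (each x_i a non-zero-divisor
on A/(x_1, …, x_{i-1})) generating the ideal I, and J an ideal with I + J ≠ A. Then the images of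
x_1, …, x_n form a regular sequence on A/J if and only if Tor_i^A(A/I, A/J) = 0 for all i ≥ 1 (in
degree 0 the Tor is A/(I + J) in any case). (The published statement does not ask the x_i to form a
regular sequence on A itself; without this the equivalence fails, for instance for A = k[e]/(e²), n
= 1, x_1 = e and J = 0, where every higher Tor of A/(e) against the free module A vanishes although
e is a zero-divisor.) -/
theorem result (A : Type u) [CommRing A] [IsNoetherianRing A] [IsLocalRing A]
    (n : ℕ) (x : Fin n → A) (hx : RingTheory.Sequence.IsWeaklyRegular A (List.ofFn x))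
    (J : Ideal A) (hIJ : Ideal.span (Set.range x) ⊔ J ≠ ⊤) :
    RingTheory.Sequence.IsWeaklyRegular (A ⧸ J) (List.ofFn (fun i : Fin n => Ideal.Quotient.mk J (x i))) ↔
      ∀ i : ℕ, 1 ≤ i → Limits.IsZero (((Tor (ModuleCat.{u} A) i).obj
        (ModuleCat.of A (A ⧸ Ideal.span (Set.range x)))).obj (ModuleCat.of A (A ⧸ J))) := by
  obtain ⟨P, hP⟩ := Groth.Agent.FiniteFreeResolution.exists_res (R := A) ⟨ModuleCat.of A (A ⧸ J), inferInstance⟩
  haveI := flat_resolution P
  haveI : ∀ j, Module.Finite A (cF P.complex j) := fun j => (hP j).1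
  let L := List.ofFn x
  have hlen : L.length = n := List.length_ofFn
  have hL : Ideal.ofList L = Ideal.span (Set.range x) := congrArg Ideal.span (Set.ext fun a => List.mem_ofFn' x a)
  let aug := augm P
  have hdd := cd_comp P.complex
  have hlist : List.ofFn (fun i : Fin n => Ideal.Quotient.mk J (x i)) = L.map (algebraMap A (A ⧸ J)) := by
    rw [List.map_ofFn]; rfl
  rw [hlist, RingTheory.Sequence.isWeaklyRegular_map_algebraMap_iff, RingTheory.Sequence.isWeaklyRegular_iff]
  -- the multiplication maps
  have hμ : ∀ k (hk : k < L.length), Function.Injective (LinearMap.lsmul A (A ⧸ Ideal.ofList (L.take k)) L[k]) := by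
    intro k hk
    exact ((Submodule.quotEquivOfEq _ _ (by rw [smul_eq_mul, Ideal.mul_top])).isSMulRegular_congr L[k]).mp
      (hx.regular_mod_prev k hk)
  have hreg : ∀ k (hk : k < L.length),
      (IsSMulRegular ((A ⧸ J) ⧸ (Ideal.ofList (L.take k) • ⊤ : Submodule A (A ⧸ J))) L[k] ↔
        Function.Injective ((LinearMap.lsmul A (A ⧸ Ideal.ofList (L.take k)) L[k]).rTensor (A ⧸ J))) := by
    intro k hk
    rw [← (TensorProduct.quotTensorEquivQuotSMul (A ⧸ J) (Ideal.ofList (L.take k))).isSMulRegular_congr L[k]]
    have : ⇑((LinearMap.lsmul A (A ⧸ Ideal.ofList (L.take k)) L[k]).rTensor (A ⧸ J)) = (L[k] • ·) := by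
      funext z
      induction z using TensorProduct.induction_on with
      | zero => simp
      | tmul a b => rfl
      | add a b ha hb => rw [map_add, ha, hb]; exact (smul_add L[k] a b).symm
    rw [this]
    rfl
  have hle : ∀ k, Ideal.ofList (L.take k) ≤ Ideal.ofList (L.take (k + 1)) := fun k =>
    Ideal.span_mono fun a ha => (List.take_subset_take_left L (Nat.le_succ k)) ha
  have hexact : ∀ k (hk : k < L.length), Function.Exact (LinearMap.lsmul A (A ⧸ Ideal.ofList (L.take k)) L[k])
      (Submodule.factor (hle k)) := fun k hk z => by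
    obtain ⟨z, rfl⟩ := Submodule.mkQ_surjective _ z
    have e : Ideal.ofList (L.take (k + 1)) = Ideal.ofList (L.take k) ⊔ Ideal.span {L[k]} := by
      rw [List.take_succ_eq_append_getElem hk, Ideal.ofList_append, Ideal.ofList_singleton]
    rw [show Submodule.factor (hle k) (Submodule.mkQ _ z) = Submodule.mkQ _ z from rfl, Submodule.mkQ_apply,
      Submodule.Quotient.mk_eq_zero, e]
    constructor
    · intro hz
      obtain ⟨a, ha, b, hb, rfl⟩ := Submodule.mem_sup.mp hz
      obtain ⟨c, rfl⟩ := Ideal.mem_span_singleton'.mp hb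
      refine ⟨Submodule.mkQ _ c, ?_⟩
      rw [LinearMap.lsmul_apply, ← map_smul, Submodule.mkQ_apply, Submodule.mkQ_apply, Submodule.Quotient.eq,
        smul_eq_mul]
      have : L[k] * c - (a + c * L[k]) = -a := by ring
      rw [this]
      exact neg_mem ha
    · rintro ⟨w, hw⟩
      obtain ⟨c, rfl⟩ := Submodule.mkQ_surjective _ w
      rw [LinearMap.lsmul_apply, ← map_smul, Submodule.mkQ_apply, Submodule.mkQ_apply, Submodule.Quotient.eq,
        smul_eq_mul] at hw
      exact Submodule.mem_sup.mpr ⟨-(L[k] * c - z), neg_mem hw, L[k] * c,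
        Ideal.mul_mem_right c _ (Ideal.mem_span_singleton_self _), by ring⟩
  have hsurj : ∀ k, Function.Surjective (Submodule.factor (hle k)) := fun k => Submodule.factor_surjective (hle k)
  have htot : (∀ i, 1 ≤ i → Limits.IsZero (((Tor (ModuleCat.{u} A) i).obj
      (ModuleCat.of A (A ⧸ Ideal.span (Set.range x)))).obj (ModuleCat.of A (A ⧸ J)))) ↔
      ∀ i, 1 ≤ i → Ex (cd P.complex) (A ⧸ Ideal.ofList (L.take L.length)) i := by
    rw [List.take_length, hL]
    exact forall₂_congr fun i _ => isZero_tor_iff _ _ P i
  rw [htot]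
  constructor
  · intro h
    suffices ∀ k, k ≤ L.length → ∀ i, 1 ≤ i → Ex (cd P.complex) (A ⧸ Ideal.ofList (L.take k)) i from this _ le_rfl
    intro k
    induction k with
    | zero =>
      intro _ i hi
      obtain ⟨j, rfl⟩ := Nat.exists_eq_add_of_le' hi
      let e : A ≃ₗ[A] A ⧸ Ideal.ofList (L.take 0) := (Submodule.quotEquivOfEqBot _ (by simp)).symm
      haveI : Module.Flat A (A ⧸ Ideal.ofList (L.take 0)) := Module.Flat.of_linearEquiv e.symm
      exact ex_flat P _ j
    | succ k ih =>
      intro hk i hi
      have ih' := ih (by omega)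
      obtain ⟨j, rfl⟩ := Nat.exists_eq_add_of_le' hi
      rcases j with _ | j
      · exact ex_one (cd P.complex) _ _ (hμ k hk) (hsurj k) (hexact k hk) aug (aug_surjective P) (aug_exact P)
          (ih' 1 le_rfl) ((hreg k hk).mp (h k hk))
      · exact ex_right (cd P.complex) _ _ (hμ k hk) (hsurj k) (hexact k hk) hdd (j + 1) (ih' _ (by omega))
          (ih' _ (by omega))
  · intro h k hk
    have hdown : ∀ m, k + 1 + m ≤ L.length → ∀ i, 1 ≤ i →
        Ex (cd P.complex) (A ⧸ Ideal.ofList (L.take (L.length - m))) i := by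
      intro m
      induction m with
      | zero => intro _ i hi; exact h i hi
      | succ m ih =>
        intro hm i hi
        obtain ⟨q, hq⟩ : ∃ q, q = L.length - (m + 1) := ⟨_, rfl⟩
        have hq1 : L.length - m = q + 1 := by omega
        have ih' := ih (by omega) i hi
        rw [hq1] at ih'
        rw [← hq]
        have hqL : q < L.length := by omega
        have hxm : L[q] ∈ Ideal.jacobson (⊥ : Ideal A) := by
          rw [IsLocalRing.jacobson_eq_maximalIdeal ⊥ bot_ne_top]
          refine IsLocalRing.le_maximalIdeal hIJ (Ideal.mem_sup_left ?_)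
          rw [← hL]
          exact Ideal.subset_span (List.getElem_mem hqL)
        exact ex_nakayama (cd P.complex) hdd _ hxm _ (hμ q hqL) (hsurj q) (hexact q hqL) i ih'
    obtain ⟨m, hm⟩ : ∃ m, k + 1 + m = L.length := ⟨L.length - (k + 1), by omega⟩
    have h1 := hdown m hm.le 1 le_rfl
    rw [show L.length - m = k + 1 by omega] at h1
    exact (hreg k hk).mpr (injective_of_ex_one (cd P.complex) _ _ (hμ k hk) (hsurj k) (hexact k hk) hdd aug
      (aug_surjective P) (aug_exact P) h1)

end Groth.Agent.S16238
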