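import Groth.Statements.S16259
import Mathlib

set_option autoImplicit false
open W4c3wronskmg

namespace Groth.Agent.S16259

open Polynomial in
/-- Over a field of characteristic zero, for positive integers `i, j` and a natural number `n`, the
polynomial `h(W) = ∑_{l=0}^{n} (i choose l) (j choose (n-l)) W^(n-l)`, the coefficient of
`X^(i+j-n)` in `(X+1)^i (X+W)^j`, has no multiple root other than possibly `0` and `1`: every `c ≠
0, 1` has root multiplicity at most one. -/
theorem result
    (k : Type*) [Field k] [CharZero k] (i j n : ℕ) (hi : 0 < i) (hj : 0 < j) (c : k) (hc0 : c ≠ 0) (hc1 : c ≠ 1) :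
    Polynomial.rootMultiplicity c
      (∑ l ∈ Finset.range (n + 1),
        Polynomial.C (((i.choose l) * (j.choose (n - l)) : ℕ) : k) * Polynomial.X ^ (n - l)) ≤ 1 := by
  classical
  set h : Polynomial k := ∑ l ∈ Finset.range (n + 1),
    Polynomial.C (((i.choose l) * (j.choose (n - l)) : ℕ) : k) * Polynomial.X ^ (n - l) with hdef
  let a : ℕ → k := fun m => if m ≤ n then ((i.choose (n - m) : k) * (j.choose m : k)) else 0
  have hcoeff : ∀ m, h.coeff m = a m := by
    intro m
    simp only [hdef, Polynomial.finset_sum_coeff, Polynomial.coeff_C_mul_X_pow, a]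
    split_ifs with hm
    · rw [Finset.sum_eq_single (n - m) (fun l hl hne => if_neg (by simp at hl; omega)) (fun hh => absurd (Finset.mem_range.2 (by omega)) hh),
        show n - (n - m) = m by omega, if_pos rfl, Nat.cast_mul]
    · exact Finset.sum_eq_zero fun l hl => if_neg (by omega)
  have hch : ∀ N m : ℕ, ((N.choose (m + 1) : k)) * ((m : k) + 1) = (N.choose m : k) * ((N : k) - m) := by
    intro N m
    rcases le_or_gt m N with hle | hgt
    · have := congrArg (Nat.cast : ℕ → k) (Nat.choose_succ_right_eq N m)
      push_cast [Nat.cast_sub hle] at this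
      exact this
    · rw [Nat.choose_eq_zero_of_lt hgt, Nat.choose_eq_zero_of_lt (by omega)]; simp
  have hrec : ∀ m : ℕ, a (m + 1) * ((m : k) + 1) * ((m : k) + 1 + i - n) = ((m : k) - j) * ((m : k) - n) * a m := by
    intro m
    simp only [a]
    by_cases h1 : m + 1 ≤ n
    · obtain ⟨d, rfl⟩ : ∃ d, n = m + 1 + d := ⟨n - (m + 1), by omega⟩
      rw [if_pos h1, if_pos (by omega), show m + 1 + d - (m + 1) = d by omega, show m + 1 + d - m = d + 1 by omega]
      have e1 := hch i d
      have e2 := hch j m
      push_cast
      linear_combination ((i.choose d : k) * ((i : k) - d)) * e2 - ((j : k) - m) * (j.choose m : k) * e1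
    · rw [if_neg h1, zero_mul, zero_mul]
      by_cases h2 : m ≤ n
      · rw [if_pos h2, show m = n by omega]; ring
      · rw [if_neg h2, mul_zero]
  have hode : (Polynomial.X - Polynomial.X ^ 2) * Polynomial.derivative (Polynomial.derivative h)
      = (Polynomial.C ((1 : k) - j - n) * Polynomial.X - Polynomial.C ((i : k) - n + 1)) * Polynomial.derivative h + Polynomial.C ((j : k) * n) * h := by
    obtain ⟨u, hu⟩ : ∃ u : k, u = (1 : k) - j - n := ⟨_, rfl⟩
    obtain ⟨v, hv⟩ : ∃ v : k, v = (i : k) - n + 1 := ⟨_, rfl⟩
    obtain ⟨w, hw⟩ : ∃ w : k, w = (j : k) * n := ⟨_, rfl⟩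
    rw [← hu, ← hv, ← hw]
    ext m
    rcases m with _ | _ | m
    · simp [sub_mul, pow_two, mul_assoc, Polynomial.coeff_derivative, hcoeff]
      subst hu hv hw
      linear_combination hrec 0
    · simp [sub_mul, pow_two, mul_assoc, Polynomial.coeff_derivative, hcoeff, one_add_one_eq_two]
      have := hrec 1
      norm_num at this
      subst hu hv hw
      linear_combination this
    · simp [sub_mul, pow_two, mul_assoc, Polynomial.coeff_derivative, hcoeff]
      have := hrec (m + 2)
      push_cast at this
      subst hu hv hw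
      linear_combination this
  by_contra hr
  push Not at hr
  have hh0 : h ≠ 0 := fun e => by rw [e] at hr; simp at hr
  have hroot : h.IsRoot c := by rw [← Polynomial.rootMultiplicity_pos hh0]; omega
  set h1 := Polynomial.derivative h
  have r1 : h1.rootMultiplicity c = h.rootMultiplicity c - 1 := Polynomial.derivative_rootMultiplicity_of_root hroot
  have h10 : h1 ≠ 0 := fun e => by rw [e, Polynomial.rootMultiplicity_zero] at r1; omega
  have hroot1 : h1.IsRoot c := by rw [← Polynomial.rootMultiplicity_pos h10]; omega
  set h2 := Polynomial.derivative h1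
  have r2 : h2.rootMultiplicity c = h1.rootMultiplicity c - 1 := Polynomial.derivative_rootMultiplicity_of_root hroot1
  have h20 : h2 ≠ 0 := fun e => by
    have hdeg := Polynomial.natDegree_eq_zero_of_derivative_eq_zero (show Polynomial.derivative h1 = 0 from e)
    rw [Polynomial.eq_C_of_natDegree_eq_zero hdeg, Polynomial.IsRoot, Polynomial.eval_C] at hroot1
    exact h10 (by rw [Polynomial.eq_C_of_natDegree_eq_zero hdeg, hroot1, Polynomial.C_0])
  have hdvd : (Polynomial.X - Polynomial.C c) ^ (h1.rootMultiplicity c) ∣ (Polynomial.X - Polynomial.X ^ 2) * h2 := by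
    rw [hode]
    refine dvd_add ((Polynomial.pow_rootMultiplicity_dvd h1 c).mul_left _) (Dvd.dvd.mul_left ?_ _)
    exact dvd_trans (pow_dvd_pow _ (by omega)) (Polynomial.pow_rootMultiplicity_dvd h c)
  have hne : ¬ (Polynomial.X - Polynomial.X ^ 2 : Polynomial k).IsRoot c := by
    simp only [Polynomial.IsRoot, Polynomial.eval_sub, Polynomial.eval_X, Polynomial.eval_pow]
    intro e
    exact mul_ne_zero hc0 (sub_ne_zero.2 hc1.symm) (by linear_combination e)
  have hq : (Polynomial.X - Polynomial.X ^ 2 : Polynomial k) ≠ 0 := fun e => hne (by rw [e]; simp)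
  have h5 := (Polynomial.le_rootMultiplicity_iff (mul_ne_zero hq h20)).2 hdvd
  rw [Polynomial.rootMultiplicity_mul (mul_ne_zero hq h20), Polynomial.rootMultiplicity_eq_zero hne, r2] at h5
  omega

end Groth.Agent.S16259
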