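import Groth.Statements.S16333
import Groth.Agent.Lib.H7Ci
import Mathlib

set_option autoImplicit false
universe u
open GalCoh

namespace Groth.Agent.S16333


section helpers
open MvPolynomial in
/-- Over a C₁ field every norm is surjective. -/
theorem norm_surjective {M : Type u} [Field M] (hC : Curves.IsCi M 1) (L : Type u) [Field L] [Algebra M L]
    [FiniteDimensional M L] : Function.Surjective (Algebra.norm M : L → M) := by
  classical
  intro a
  let n := Module.finrank M L
  let b := Module.finBasis M L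
  let Mt : Matrix (Fin n) (Fin n) (MvPolynomial (Fin n ⊕ Unit) M) :=
    Matrix.of fun p q => ∑ l, C (Algebra.leftMulMatrix b (b l) p q) * X (Sum.inl l)
  have hM : Mt.det.IsHomogeneous n := by
    rw [Matrix.det_apply]
    refine IsHomogeneous.sum _ _ _ fun σ _ => ?_
    have hp : (∏ i, Mt (σ i) i).IsHomogeneous n := by
      have := IsHomogeneous.prod Finset.univ (fun i => Mt (σ i) i) (fun _ => 1) fun i _ =>
        show (∑ l, C (Algebra.leftMulMatrix b (b l) (σ i) i) * X (Sum.inl l)).IsHomogeneous 1 from
          IsHomogeneous.sum _ _ 1 fun l _ => (isHomogeneous_X _ _).C_mul _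
      simpa using this
    rw [Units.smul_def, zsmul_eq_mul, ← map_intCast (C : M →+* _)]
    exact hp.C_mul _
  have hf : (Mt.det - C a * X (Sum.inr ()) ^ n).IsHomogeneous n := by
    refine hM.sub ?_
    simpa using ((isHomogeneous_X M (Sum.inr () : Fin n ⊕ Unit)).pow n).C_mul a
  obtain ⟨y, hy, hz⟩ := H7Ci.isCi_fintype hC (ι := Unit) (σ := Fin n ⊕ Unit)
    (fun _ => Mt.det - C a * X (Sum.inr ()) ^ n) (fun _ => n) (fun _ => hf) (fun _ => Module.finrank_pos)
    (by simp [n])
  have h1 := hz ()
  rw [map_sub, sub_eq_zero, map_mul, map_pow, eval_C, eval_X, RingHom.map_det] at h1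
  let w := ∑ l, y (Sum.inl l) • b l
  have hmat : (eval y).mapMatrix Mt = Algebra.leftMulMatrix b w := by
    ext p q
    simp [Mt, w, map_sum, Matrix.sum_apply, mul_comm]
    rfl
  rw [hmat, ← Algebra.norm_eq_matrix_det b] at h1
  have hz0 : y (Sum.inr ()) ≠ 0 := by
    intro h0
    rw [h0, zero_pow Module.finrank_pos.ne', mul_zero, Algebra.norm_eq_zero_iff] at h1
    apply hy
    funext i
    rcases i with i | i
    · exact Fintype.linearIndependent_iff.mp b.linearIndependent (fun l => y (Sum.inl l)) h1 i
    · exact h0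
  refine ⟨w * algebraMap M L (y (Sum.inr ()))⁻¹, ?_⟩
  rw [map_mul, Algebra.norm_algebraMap, h1, inv_pow, mul_assoc, mul_inv_cancel₀ (pow_ne_zero _ hz0), mul_one]

variable {K L : Type u} [Field K] [Field L] [Algebra K L]

/-- The action of an automorphism on units. -/
noncomputable def act (g : L ≃ₐ[K] L) : Lˣ →* Lˣ := Units.map (g.toAlgHom : L →* L)

theorem coe_act (g : L ≃ₐ[K] L) (u : Lˣ) : ((act g u : Lˣ) : L) = g u := rfl

theorem act_mul (g h : L ≃ₐ[K] L) (u : Lˣ) : act (g * h) u = act g (act h u) := Units.ext rfl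

theorem act_one (u : Lˣ) : act (1 : L ≃ₐ[K] L) u = u := Units.ext rfl

variable (K L) in
/-- The subgroup generated by `w / g w`. -/
def II : Subgroup Lˣ := Subgroup.closure {v : Lˣ | ∃ (w : Lˣ) (g : L ≃ₐ[K] L), (v : L) = (w : L) / g (w : L)}

theorem div_act_mem (g : L ≃ₐ[K] L) (u : Lˣ) : u / act g u ∈ II K L :=
  Subgroup.subset_closure ⟨u, g, by rw [Units.val_div_eq_div_val, coe_act]⟩

variable [FiniteDimensional K L] [IsGalois K L]

/-- The case of a subgroup of prime power order. -/
theorem pgroup_case (hC : Curves.IsCi K 1) (p : ℕ) [Fact p.Prime] :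
    ∀ (n : ℕ) (H : Subgroup (L ≃ₐ[K] L)) [Fintype H], Nat.card H = p ^ n →
      ∀ u : Lˣ, ∏ h : H, act (h : L ≃ₐ[K] L) u = 1 → u ∈ II K L := by
  classical
  intro n
  induction n with
  | zero =>
    intro H _ hH u hu
    rw [pow_zero, Subgroup.card_eq_one] at hH
    have hall : ∀ h : H, (h : L ≃ₐ[K] L) = 1 := fun h => by
      have := h.2
      simpa [hH] using this
    rw [Fintype.prod_eq_single (1 : H) fun h hne => absurd (Subtype.ext (hall h)) hne, Subgroup.coe_one, act_one] at hu
    rw [hu]
    exact one_mem _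
  | succ n ih =>
    intro H _ hH u hu
    obtain ⟨N0, hN0⟩ := Sylow.exists_subgroup_card_pow_prime (G := H) p (n := n) (hH ▸ Dvd.intro p rfl)
    have hidx : N0.index = p := by
      have := N0.card_mul_index
      rw [hN0, hH, pow_succ] at this
      exact Nat.eq_of_mul_eq_mul_left (pow_pos (Fact.out : p.Prime).pos n) this
    haveI : N0.Normal := Subgroup.normal_of_index_eq_minFac_card (by
      rw [hidx, hH, Nat.Prime.pow_minFac Fact.out (Nat.succ_ne_zero n)])
    let N : Subgroup (L ≃ₐ[K] L) := N0.map H.subtype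
    haveI : Fintype N := Fintype.ofFinite _
    have hNH : N ≤ H := Subgroup.map_subtype_le N0
    have hNcard : Nat.card N = p ^ n := by
      rw [← hN0]
      exact (Nat.card_congr (N0.equivMapOfInjective _ H.subtype_injective).toEquiv).symm
    have hmemN : ∀ h : H, (h : L ≃ₐ[K] L) ∈ N ↔ h ∈ N0 := fun h => by
      simp [N]
    have hconj : ∀ g ∈ H, ∀ h ∈ N, g⁻¹ * h * g ∈ N := by
      intro g hg h hh
      have := (inferInstance : N0.Normal).conj_mem ⟨h, hNH hh⟩ ((hmemN _).mp hh) ⟨g, hg⟩⁻¹
      rw [← hmemN] at this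
      simpa using this
    have hp2 : Nat.card (H ⧸ N0) = p := hidx
    obtain ⟨s, hs⟩ : ∃ s : H, s ∉ N0 := by
      by_contra hcon
      push Not at hcon
      have : N0 = ⊤ := eq_top_iff.mpr fun x _ => hcon x
      rw [← Subgroup.index_eq_one, hidx] at this
      exact (Fact.out : p.Prime).one_lt.ne' this
    have hord : orderOf (s : H ⧸ N0) = p := by
      refine orderOf_eq_prime ?_ ?_
      · rw [← hp2]; exact pow_card_eq_one'
      · exact fun h => hs ((QuotientGroup.eq_one_iff _).mp h)
    have hsp : ((s : L ≃ₐ[K] L)) ^ p ∈ N := by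
      rw [← Subgroup.coe_pow, hmemN, ← QuotientGroup.eq_one_iff, QuotientGroup.mk_pow, ← hord]
      exact pow_orderOf_eq_one _
    let σ : L ≃ₐ[K] L := s
    let M : IntermediateField K L := IntermediateField.fixedField N
    have hfix : M.fixingSubgroup = N := IntermediateField.fixingSubgroup_fixedField N
    let v : Lˣ := ∏ h : N, act (h : L ≃ₐ[K] L) u
    have hNinv : ∀ g ∈ N, ∀ x : Lˣ, act g (∏ h : N, act (h : L ≃ₐ[K] L) x) = ∏ h : N, act (h : L ≃ₐ[K] L) x := by
      intro g hg x
      rw [map_prod]
      exact Fintype.prod_equiv (Equiv.mulLeft ⟨g, hg⟩) _ _ fun h => by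
        rw [← act_mul]; rfl
    have hfixpow : ∀ x : Lˣ, (∀ g ∈ N, act g x = x) → ∀ (i : ℕ), ∀ g ∈ N, act g (act (σ ^ i) x) = act (σ ^ i) x := by
      intro x hx i g hg
      have h1 := hconj (σ ^ i) (pow_mem s.2 i) g hg
      conv_rhs => rw [← hx _ h1]
      rw [← act_mul, ← act_mul]
      congr 2
      simp [mul_assoc]
    have hnorm : ∏ j ∈ Finset.range p, act (σ ^ j) v = 1 := by
      let f : Fin p × N → H := fun z => ⟨σ ^ (z.1 : ℕ) * (z.2 : L ≃ₐ[K] L), mul_mem (pow_mem s.2 _) (hNH z.2.2)⟩
      have hf : Function.Bijective f := by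
        rw [Fintype.bijective_iff_injective_and_card]
        refine ⟨fun a b hab => ?_, ?_⟩
        · have hab' : s ^ (a.1 : ℕ) * (⟨a.2, hNH a.2.2⟩ : H) = s ^ (b.1 : ℕ) * (⟨b.2, hNH b.2.2⟩ : H) :=
            Subtype.ext (congrArg (Subtype.val) hab)
          have h1 := congrArg (fun h : H => (h : H ⧸ N0)) hab'
          simp only [QuotientGroup.mk_mul, QuotientGroup.mk_pow] at h1
          rw [(QuotientGroup.eq_one_iff _).mpr ((hmemN ⟨a.2, hNH a.2.2⟩).mp a.2.2),
            (QuotientGroup.eq_one_iff _).mpr ((hmemN ⟨b.2, hNH b.2.2⟩).mp b.2.2), mul_one, mul_one] at h1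
          have h2 : a.1 = b.1 := Fin.ext (pow_injOn_Iio_orderOf (by rw [hord]; exact a.1.2) (by rw [hord]; exact b.1.2) h1)
          refine Prod.ext h2 (Subtype.ext ?_)
          have := congrArg Subtype.val hab
          simpa [f, h2] using this
        · rw [Fintype.card_prod, Fintype.card_fin, ← Nat.card_eq_fintype_card, ← Nat.card_eq_fintype_card, hH, hNcard, pow_succ, mul_comm]
      rw [← Fin.prod_univ_eq_prod_range (fun j => act (σ ^ j) v), ← hu, ← hf.prod_comp (fun h : H => act (h : L ≃ₐ[K] L) u),
        Fintype.prod_prod_type]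
      refine Finset.prod_congr rfl fun j _ => ?_
      rw [map_prod]
      exact Finset.prod_congr rfl fun h _ => (act_mul _ _ _).symm
    -- Hilbert 90 for the cyclic quotient
    let c : ℕ → Lˣ := fun j => ∏ i ∈ Finset.range j, act (σ ^ i) v
    have hc : ∀ j, c (j + 1) = v * act σ (c j) := fun j => by
      simp only [c]
      rw [Finset.prod_range_succ', pow_zero, act_one, map_prod, mul_comm]
      congr 1
      exact Finset.prod_congr rfl fun i _ => by rw [← act_mul, pow_succ']
    let χ : Fin p → (M →* L) := fun j => ((σ ^ (j : ℕ)).toAlgHom : L →* L).comp (M.val : M →* L)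
    have hχ : Function.Injective χ := by
      intro a b hab
      have h1 : (σ ^ (a : ℕ))⁻¹ * σ ^ (b : ℕ) ∈ N := by
        rw [← hfix]
        intro x
        show ((σ ^ (a : ℕ))⁻¹ * σ ^ (b : ℕ)) (x : L) = x
        have h2 : (σ ^ (a : ℕ)) (x : L) = (σ ^ (b : ℕ)) (x : L) := DFunLike.congr_fun hab x
        rw [AlgEquiv.mul_apply, ← h2, AlgEquiv.aut_inv, AlgEquiv.symm_apply_apply]
      rw [← Subgroup.coe_pow, ← Subgroup.coe_pow, ← Subgroup.coe_inv, ← Subgroup.coe_mul, hmemN, ← QuotientGroup.eq_one_iff,
        QuotientGroup.mk_mul, QuotientGroup.mk_inv, QuotientGroup.mk_pow, QuotientGroup.mk_pow, inv_mul_eq_one] at h1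
      exact Fin.ext (pow_injOn_Iio_orderOf (by rw [hord]; exact a.2) (by rw [hord]; exact b.2) h1)
    obtain ⟨θ, hθ⟩ : ∃ θ : M, ∑ j : Fin p, (c j : L) * χ j θ ≠ 0 := by
      by_contra hcon
      push Not at hcon
      have hli := (linearIndependent_monoidHom M L).comp χ hχ
      have := Fintype.linearIndependent_iff.mp hli (fun j => (c j : L)) (funext fun x => by
        simpa [Finset.sum_apply] using hcon x) ⟨0, (Fact.out : p.Prime).pos⟩
      exact (c 0).ne_zero this
    let w0 : L := ∑ j : Fin p, (c j : L) * χ j θ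
    let w : Lˣ := Units.mk0 w0 hθ
    have hθfix : ∀ g ∈ N, g (θ : L) = θ := fun g hg => (hfix ▸ hg : g ∈ M.fixingSubgroup) θ
    have hwM : ∀ g ∈ N, act g w = w := by
      intro g hg
      refine Units.ext ?_
      show g w0 = w0
      rw [map_sum]
      refine Finset.sum_congr rfl fun j _ => ?_
      rw [map_mul]
      congr 1
      · rw [← coe_act]
        congr 1
        simp only [c, map_prod]
        exact Finset.prod_congr rfl fun i _ => hfixpow v (fun g hg => hNinv g hg u) i g hg
      · show g ((σ ^ (j : ℕ)) (θ : L)) = (σ ^ (j : ℕ)) (θ : L)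
        have := hθfix _ (hconj (σ ^ (j : ℕ)) (pow_mem s.2 _) g hg)
        rw [AlgEquiv.mul_apply, AlgEquiv.mul_apply, AlgEquiv.aut_inv, AlgEquiv.symm_apply_eq] at this
        exact this
    have hcoc : v * act σ w = w := by
      refine Units.ext ?_
      rw [Units.val_mul, coe_act]
      show (v : L) * σ w0 = w0
      let F : ℕ → L := fun j => (c j : L) * (σ ^ j) (θ : L)
      have hw0 : w0 = ∑ j ∈ Finset.range p, F j := by
        rw [← Fin.sum_univ_eq_sum_range F]
        rfl
      rw [hw0, map_sum, Finset.mul_sum]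
      have hstep : ∀ j, (v : L) * σ (F j) = F (j + 1) := fun j => by
        simp only [F]
        rw [map_mul, hc, Units.val_mul, coe_act, pow_succ', AlgEquiv.mul_apply, mul_assoc]
      rw [Finset.sum_congr rfl fun j _ => hstep j]
      have h1 := (Finset.sum_range_succ' F p).symm.trans (Finset.sum_range_succ F p)
      have hFp : F p = F 0 := by
        simp only [F, c, hnorm, Finset.range_zero, Finset.prod_empty, pow_zero, Units.val_one]
        rw [hθfix _ hsp]
        rfl
      rw [hFp] at h1
      exact add_right_cancel h1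
    -- lift `w` through the norm
    have hwmem : (w : L) ∈ M := by
      intro g
      exact congrArg Units.val (hwM g g.2)
    haveI hCM : Curves.IsCi M 1 := H7Ci.isCi_of_finite hC
    obtain ⟨x, hx⟩ := norm_surjective hCM L ⟨(w : L), hwmem⟩
    have hx0 : x ≠ 0 := fun h => w.ne_zero (by
      rw [h, Algebra.norm_zero] at hx
      exact (congrArg Subtype.val hx).symm)
    let w' : Lˣ := Units.mk0 x hx0
    have hw' : ∏ h : N, act (h : L ≃ₐ[K] L) w' = w := by
      refine Units.ext ?_
      rw [Units.coe_prod, show (w : L) = algebraMap M L (Algebra.norm M x) by rw [hx]; rfl, Algebra.norm_eq_prod_automorphisms]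
      exact Fintype.prod_equiv ((MulEquiv.subgroupCongr hfix.symm).trans (IntermediateField.fixingSubgroupEquiv M)).toEquiv _ _ fun h => rfl
    let u1 : Lˣ := u * act σ w' / w'
    have hu1 : ∏ h : N, act (h : L ≃ₐ[K] L) u1 = 1 := by
      have h3 : ∏ h : N, act (h : L ≃ₐ[K] L) (act σ w') = act σ w := by
        rw [← hw', map_prod]
        refine Fintype.prod_bijective (fun h : N => (⟨σ⁻¹ * h * σ, hconj σ s.2 h h.2⟩ : N)) ?_ _ _ fun h => ?_
        · rw [Finite.injective_iff_bijective.symm]
          intro a b hab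
          exact Subtype.ext (mul_left_cancel (mul_right_cancel (congrArg Subtype.val hab)))
        · rw [← act_mul, ← act_mul]
          congr 2
          simp [mul_assoc]
      simp only [u1, map_div, map_mul, Finset.prod_div_distrib, Finset.prod_mul_distrib, hw', h3]
      exact div_eq_one.mpr hcoc
    have h4 := ih N hNcard u1 hu1
    have h5 : u = u1 * (w' / act σ w') := by
      simp only [u1]
      rw [div_mul_div_cancel, mul_div_cancel_right]
    rw [h5]
    exact mul_mem h4 (div_act_mem σ w')

/-- Norm one elements are products of `w / g w`. -/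
theorem norm_one_mem (hC : Curves.IsCi K 1) (u : Lˣ) (hu : Algebra.norm K (u : L) = 1) : u ∈ II K L := by
  classical
  have hprod : ∏ g : L ≃ₐ[K] L, act g u = 1 := by
    refine Units.ext ?_
    rw [Units.coe_prod, Units.val_one, ← map_one (algebraMap K L), ← hu, Algebra.norm_eq_prod_automorphisms]
    rfl
  let π := QuotientGroup.mk' (II K L)
  have hπ : ∀ g, π (act g u) = π u := fun g =>
    ((QuotientGroup.eq_iff_div_mem).mpr (div_act_mem g u)).symm
  have key : ∀ (p : ℕ) [Fact p.Prime] (P : Sylow p (L ≃ₐ[K] L)), (π u) ^ (P : Subgroup (L ≃ₐ[K] L)).index = 1 := by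
    intro p _ P
    let H : Subgroup (L ≃ₐ[K] L) := P
    haveI : Fintype H := Fintype.ofFinite _
    haveI : Fintype ((L ≃ₐ[K] L) ⧸ H) := Fintype.ofFinite _
    let v : Lˣ := ∏ q : (L ≃ₐ[K] L) ⧸ H, act (q.out)⁻¹ u
    have hv : v ∈ II K L := by
      obtain ⟨n, hn⟩ := IsPGroup.iff_card.mp P.2
      refine pgroup_case hC p n H hn v ?_
      simp only [v, map_prod]
      rw [← Fintype.prod_prod_type' (fun (h : H) (q : (L ≃ₐ[K] L) ⧸ H) => act (h : L ≃ₐ[K] L) (act (q.out)⁻¹ u)), ← hprod]
      refine Fintype.prod_bijective (fun z : H × ((L ≃ₐ[K] L) ⧸ H) => (z.1 : L ≃ₐ[K] L) * (z.2.out)⁻¹) ?_ _ _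
        fun z => (act_mul _ _ _).symm
      rw [Fintype.bijective_iff_injective_and_card]
      refine ⟨fun a b hab => ?_, ?_⟩
      · have h1 : a.2.out * (a.1 : L ≃ₐ[K] L)⁻¹ = b.2.out * (b.1 : L ≃ₐ[K] L)⁻¹ := by
          have := congrArg (·⁻¹) hab
          simpa using this
        have h2 : a.2 = b.2 := by
          rw [← QuotientGroup.out_eq' a.2, ← QuotientGroup.out_eq' b.2]
          have := congrArg (fun g : L ≃ₐ[K] L => (g : (L ≃ₐ[K] L) ⧸ H)) h1
          rwa [QuotientGroup.mk_mul_of_mem _ (inv_mem a.1.2), QuotientGroup.mk_mul_of_mem _ (inv_mem b.1.2)] at this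
        refine Prod.ext (Subtype.ext ?_) h2
        rw [h2] at h1
        exact inv_injective (mul_left_cancel h1)
      · rw [Fintype.card_prod, ← Nat.card_eq_fintype_card, ← Nat.card_eq_fintype_card, ← Nat.card_eq_fintype_card, mul_comm,
          ← Subgroup.card_eq_card_quotient_mul_card_subgroup]
    have := (QuotientGroup.eq_one_iff (N := II K L) v).mpr hv
    rw [show ((v : Lˣ) : Lˣ ⧸ II K L) = π v from rfl, map_prod, Finset.prod_congr rfl fun q _ => hπ _, Finset.prod_const] at this
    rwa [Subgroup.index, Nat.card_eq_fintype_card]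
  have h1 : orderOf (π u) = 1 := by
    by_contra hne
    obtain ⟨p, hp, hdvd⟩ := Nat.exists_prime_and_dvd hne
    haveI := Fact.mk hp
    obtain ⟨P⟩ : Nonempty (Sylow p (L ≃ₐ[K] L)) := inferInstance
    exact P.not_dvd_index (hdvd.trans (orderOf_dvd_of_pow_eq_one (key p P)))
  exact (QuotientGroup.eq_one_iff u).mp (orderOf_eq_one_iff.mp h1)

end helpers

/-- Let k be an algebraically closed field, K an extension field of k which is finitely generated of
transcendence degree 1 (the function field of an irreducible curve over k), and L a finite Galois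
extension of K. Then (1) the norm map from L to K is surjective, and (2) a nonzero element of L has
norm 1 if and only if it lies in the subgroup of units generated by the elements w / g(w), w a unit
of L and g an automorphism of L over K. (The published statement is for the function fields of an
irreducible curve and of a component of its preimage under a finite abelian étale cover of the
ambient variety; this row takes any finite Galois extension of a function field of transcendence
degree 1 over an algebraically closed field.) -/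
theorem result
    (k : Type u) [Field k] [IsAlgClosed k] (K L : Type u) [Field K] [Field L]
    [Algebra k K] [Algebra K L] [FiniteDimensional K L] [IsGalois K L]
    (hfg : (⊤ : IntermediateField k K).FG) (htr : Algebra.trdeg k K = 1) :
    Function.Surjective (Algebra.norm K : L → K) ∧
      ∀ u : Lˣ, Algebra.norm K (u : L) = 1 ↔
        u ∈ Subgroup.closure {v : Lˣ | ∃ (w : Lˣ) (g : L ≃ₐ[K] L), (v : L) = (w : L) / g (w : L)} := by
  haveI : FiniteDimensional K L := inferInstance
  have hC : Curves.IsCi K 1 := by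
    obtain ⟨s, hs⟩ := exists_isTranscendenceBasis k K
    have hc : Cardinal.mk s = (1 : ℕ) := by rw [hs.cardinalMk_eq_trdeg, htr, Nat.cast_one]
    have : Finite s := Cardinal.lt_aleph0_iff_finite.mp (hc ▸ Cardinal.natCast_lt_aleph0)
    have : Fintype s := Fintype.ofFinite s
    rw [Cardinal.mk_fintype, Nat.cast_inj] at hc
    have h := H7Ci.isCi_of_isTranscendenceBasis (H7Ci.isCi_zero_of_isAlgClosed (K := k)) hs
    rwa [hc, Nat.zero_add] at h
  refine ⟨norm_surjective hC L, fun u => ⟨norm_one_mem hC u, fun hu => ?_⟩⟩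
  induction hu using Subgroup.closure_induction with
  | mem v hv =>
    obtain ⟨w, g, hwg⟩ := hv
    have h1 : (v : L) * g (w : L) = w := by
      rw [hwg, div_mul_cancel₀]
      simp [w.ne_zero]
    have h2 := congrArg (Algebra.norm K) h1
    rw [map_mul, Algebra.norm_eq_of_algEquiv] at h2
    exact (mul_eq_right₀ (Algebra.norm_ne_zero_iff.mpr w.ne_zero)).mp h2
  | one => simp
  | mul a b _ _ ha hb => rw [Units.val_mul, map_mul, ha, hb, one_mul]
  | inv a _ ha =>
    have : Algebra.norm K (a : L) * Algebra.norm K ((a⁻¹ : Lˣ) : L) = 1 := by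
      rw [← map_mul, ← Units.val_mul, mul_inv_cancel, Units.val_one, map_one]
    rwa [ha, one_mul] at this

end Groth.Agent.S16333
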