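import Groth.Statements.S16337
import Mathlib

set_option autoImplicit false
universe u v w
open InvTh

namespace Groth.Agent.S16337

/-- Let `A` be a commutative ring, `Γ` a finite group whose order is invertible in `A`, `M` an
`A`-module with an `A`-linear action of `Γ`, and `I` an ideal of `A`. Then reduction modulo `I`
induces a bijection `M^Γ / I·M^Γ ≅ (M / IM)^Γ`: (a) an element of `M` fixed by `Γ` modulo `IM` is
congruent modulo `IM` to a `Γ`-fixed element, and (b) a `Γ`-fixed element lying in `IM` lies in
`I·M^Γ`, where `M^Γ` is the submodule of `Γ`-fixed elements. (The published lemma says that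
push-forward to the coarse space of a tame stack over a complete local base commutes with reduction
modulo powers of the maximal ideal; this row is the module statement its proof establishes, for an
arbitrary ideal.) -/
theorem result
    (A : Type u) [CommRing A] (Γ : Type v) [Group Γ] [Finite Γ] (hΓ : IsUnit (Nat.card Γ : A))
    (M : Type w) [AddCommGroup M] [Module A M] [DistribMulAction Γ M] [SMulCommClass Γ A M]
    (I : Ideal A) :
    (∀ x : M, (∀ γ : Γ, γ • x - x ∈ I • (⊤ : Submodule A M)) →
        ∃ y : M, (∀ γ : Γ, γ • y = y) ∧ x - y ∈ I • (⊤ : Submodule A M)) ∧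
      ∀ y : M, (∀ γ : Γ, γ • y = y) → y ∈ I • (⊤ : Submodule A M) →
        y ∈ I • Submodule.span A {m : M | ∀ γ : Γ, γ • m = m} := by
  classical
  have := Fintype.ofFinite Γ
  obtain ⟨c, hc⟩ := hΓ.exists_left_inv
  let R : M →ₗ[A] M := c • ∑ γ : Γ, DistribSMul.toLinearMap A M γ
  have hR : ∀ x, R x = c • ∑ γ : Γ, γ • x := fun x => by simp [R]
  have hfix : ∀ (x : M) (δ : Γ), δ • R x = R x := fun x δ => by
    rw [hR, smul_comm δ c, Finset.smul_sum]
    congr 1
    exact Fintype.sum_equiv (Equiv.mulLeft δ) _ _ fun γ => (mul_smul δ γ x).symm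
  have hone : ∀ x : M, x = c • ∑ _γ : Γ, x := fun x => by
    rw [Finset.sum_const, Finset.card_univ, ← Nat.card_eq_fintype_card, ← Nat.cast_smul_eq_nsmul A, smul_smul, hc, one_smul]
  refine ⟨fun x hx => ⟨R x, hfix x, ?_⟩, fun y hy hmem => ?_⟩
  · rw [hR, show x - c • ∑ γ : Γ, γ • x = c • ∑ γ : Γ, (x - γ • x) by rw [Finset.sum_sub_distrib, smul_sub, ← hone]]
    refine Submodule.smul_mem _ _ (Submodule.sum_mem _ fun γ _ => ?_)
    rw [← neg_sub]
    exact Submodule.neg_mem _ (hx γ)
  · have h1 : R y = y := by
      rw [hR]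
      simp only [hy]
      exact (hone y).symm
    rw [← h1]
    have h2 : Submodule.map R (I • ⊤) ≤ I • Submodule.span A {m : M | ∀ γ : Γ, γ • m = m} := by
      rw [Submodule.map_smul'']
      refine smul_mono_right _ ?_
      rintro _ ⟨x, -, rfl⟩
      exact Submodule.subset_span (hfix x)
    exact h2 (Submodule.mem_map_of_mem hmem)

end Groth.Agent.S16337
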