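import Groth.Statements.S16356
import Mathlib

set_option autoImplicit false
universe u
open OrdAV

namespace Groth.Agent.S16356

/-- For an odd prime p and a perfect field k of characteristic p, a root of unity in the ring of Witt
vectors W(k) whose residue in k is 1 is itself 1: if x ^ n = 1 with n ≥ 1 and the zeroth Witt
component of x is 1, then x = 1. (For p = 2 this fails: -1 in W(F_2).) -/
theorem result (p : ℕ) [Fact p.Prime] (hp : p ≠ 2)
    (k : Type u) [Field k] [CharP k p] [PerfectRing k p]
    (x : WittVector p k) (n : ℕ) (hn : 0 < n) (hx : x ^ n = 1) (h0 : x.coeff 0 = 1) : x = 1 := by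
  have hodd : Odd p := (Fact.out : p.Prime).odd_of_ne_two hp
  have cc : ∀ w : WittVector p k, WittVector.constantCoeff w = w.coeff 0 := fun w => rfl
  have hp0 : (p : k) = 0 := CharP.cast_eq_zero k p
  induction n using Nat.strong_induction_on generalizing x with
  | _ n ih =>
    rcases Nat.eq_or_lt_of_le hn with e | e
    · subst e; simpa using hx
    obtain ⟨q, hq, hqn⟩ := Nat.exists_prime_and_dvd (show n ≠ 1 by omega)
    obtain ⟨m, rfl⟩ := hqn
    have hm : 0 < m := Nat.pos_of_mul_pos_left hn
    have key : ∀ y : WittVector p k, y ^ q = 1 → y.coeff 0 = 1 → y = 1 := by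
      intro y hy hy0
      have hsum : (∑ i ∈ Finset.range q, y ^ i) * (y - 1) = 0 := by rw [geom_sum_mul, hy, sub_self]
      rcases mul_eq_zero.1 hsum with h | h
      · exfalso
        by_cases hqp : q = p
        · subst hqp
          obtain ⟨z, hz⟩ : ∃ z, y = 1 + (q : WittVector q k) * z := by
            have hV := WittVector.eq_iterate_verschiebung (n := 1) (x := y - 1) (by
              intro i hi; obtain rfl : i = 0 := by omega
              rw [← cc, map_sub, map_one, cc, hy0, sub_self])
            rw [Function.iterate_one] at hV
            obtain ⟨w, hw⟩ := (WittVector.frobenius_bijective q k).2 ((y - 1).shift 1)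
            rw [← hw, WittVector.verschiebung_frobenius] at hV
            exact ⟨w, by rw [mul_comm, ← hV]; ring⟩
          obtain ⟨w, hw⟩ := odd_sq_dvd_geom_sum₂_sub (R := WittVector q k) 1 z hodd
          simp only [one_pow, mul_one, ← hz, h, zero_sub] at hw
          have h1 : (q : WittVector q k) * (1 + (q : WittVector q k) * w) = 0 := by linear_combination -hw
          rcases mul_eq_zero.1 h1 with h2 | h2
          · exact WittVector.p_nonzero q k h2
          · have := congrArg WittVector.constantCoeff h2
            rw [map_add, map_one, map_mul, map_natCast, hp0, zero_mul, add_zero, map_zero] at this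
            exact one_ne_zero this
        · have := congrArg WittVector.constantCoeff h
          rw [map_sum, map_zero] at this
          rw [Finset.sum_congr rfl (fun i _ => show WittVector.constantCoeff (y ^ i) = (1 : k) by rw [map_pow, cc, hy0, one_pow])] at this
          simp only [Finset.sum_const, Finset.card_range, nsmul_one] at this
          exact hqp ((Nat.prime_dvd_prime_iff_eq (Fact.out : p.Prime) hq).1 ((CharP.cast_eq_zero_iff k p q).1 this)).symm
      · exact sub_eq_zero.1 h
    refine ih m ?_ x hm (key _ ?_ ?_) h0
    · exact lt_mul_of_one_lt_left hm hq.one_lt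
    · rw [← pow_mul, mul_comm]; exact hx
    · rw [← cc, map_pow, cc, h0, one_pow]

end Groth.Agent.S16356
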