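import Groth.Statements.S16357
import Mathlib

set_option autoImplicit false
universe u
open OrdAV

namespace Groth.Agent.S16357

/-- Over a field L of characteristic zero, a monic polynomial h whose square has rational coefficients
has rational coefficients itself. -/
theorem result (L : Type u) [Field L] [CharZero L]
    (h : Polynomial L) (hm : h.Monic) (f : Polynomial ℚ)
    (hf : h ^ 2 = Polynomial.map (algebraMap ℚ L) f) :
    ∃ g : Polynomial ℚ, Polynomial.map (algebraMap ℚ L) g = h := by
  let d := h.natDegree
  have key : ∀ k i, d ≤ i + k → h.coeff i ∈ (algebraMap ℚ L).range := by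
    intro k
    induction k with
    | zero =>
      intro i hi
      rcases hi.eq_or_lt with e | e
      · simp only [add_zero] at e
        rw [← e, hm.coeff_natDegree]; exact one_mem _
      · rw [Polynomial.coeff_eq_zero_of_natDegree_lt (by simpa using e)]; exact zero_mem _
    | succ k ih =>
      intro i hi
      by_cases hik : d ≤ i + k
      · exact ih i hik
      have hlt : i < d := by omega
      have e : (h ^ 2).coeff (i + d) ∈ (algebraMap ℚ L).range := by rw [hf, Polynomial.coeff_map]; exact ⟨_, rfl⟩
      rw [pow_two, Polynomial.coeff_mul, ← Finset.add_sum_erase _ _ (a := (i, d)) (by simp),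
        ← Finset.add_sum_erase _ _ (a := (d, i)) (by simp [hlt.ne', add_comm])] at e
      simp only [d, hm.coeff_natDegree, mul_one, one_mul] at e
      have hrest : ∀ z ∈ (((Finset.HasAntidiagonal.antidiagonal (i + d)).erase (i, d)).erase (d, i)), h.coeff z.1 * h.coeff z.2 ∈ (algebraMap ℚ L).range := by
        rintro ⟨a, b⟩ hz
        simp only [Finset.mem_erase, Finset.HasAntidiagonal.mem_antidiagonal, ne_eq, Prod.mk.injEq] at hz
        obtain ⟨hz1, hz2, hz3⟩ := hz
        by_cases ha : d < a
        · rw [Polynomial.coeff_eq_zero_of_natDegree_lt ha, zero_mul]; exact zero_mem _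
        by_cases hb : d < b
        · rw [Polynomial.coeff_eq_zero_of_natDegree_lt hb, mul_zero]; exact zero_mem _
        have hdd : d = h.natDegree := rfl
        exact mul_mem (ih a (by omega)) (ih b (by omega))
      have h2 := sub_mem e (sum_mem hrest)
      obtain ⟨q, hq⟩ := h2
      refine ⟨q / 2, ?_⟩
      rw [map_div₀, hq, map_ofNat]
      field_simp
      ring
  obtain ⟨g, hg⟩ := Polynomial.mem_lifts h |>.1 ((Polynomial.lifts_iff_coeff_lifts h).2 fun n => by
    obtain ⟨q, hq⟩ := key d n (by omega)
    exact ⟨q, hq⟩)
  exact ⟨g, hg⟩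

end Groth.Agent.S16357
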