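import Groth.Statements.S16358
import Mathlib

set_option autoImplicit false
universe u v w
open OrdAV

namespace Groth.Agent.S16358

/-- Let k be a perfect field of characteristic p > 0 and W = W(k); let M be a finitely generated free
W-module on which a finite group G acts W-linearly, with invariant submodule M^G. Then the map
(W/pW) ⊗ M^G → (W/pW) ⊗ M induced by the inclusion is injective. Since M^G is free, this implies
rank_W M^G ≤ dim_k (M/pM)^G; the published statement is that inequality, and this row states the
stronger injectivity. -/
theorem result (p : ℕ) [Fact p.Prime]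
    (k : Type u) [Field k] [CharP k p] [PerfectRing k p]
    (M : Type v) [AddCommGroup M] [Module (WittVector p k) M]
    [Module.Free (WittVector p k) M] [Module.Finite (WittVector p k) M]
    (G : Type w) [Group G] [Finite G] (ρ : Representation (WittVector p k) G M) :
    Function.Injective
      (LinearMap.lTensor (WittVector p k ⧸ Ideal.span {(p : WittVector p k)}) ρ.invariants.subtype) := by
  classical
  rw [injective_iff_map_eq_zero]
  intro x hx
  have hp0 : (p : WittVector p k) ≠ 0 := WittVector.p_nonzero p k
  obtain ⟨m, hm⟩ := Submodule.Quotient.mk_surjective _ (TensorProduct.quotTensorEquivQuotSMul ρ.invariants (Ideal.span {(p : WittVector p k)}) x)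
  have hx' : x = (1 : WittVector p k ⧸ Ideal.span {(p : WittVector p k)}) ⊗ₜ[WittVector p k] m := by
    apply (TensorProduct.quotTensorEquivQuotSMul ρ.invariants (Ideal.span {(p : WittVector p k)})).injective
    rw [← hm, ← map_one (Ideal.Quotient.mk _), TensorProduct.quotTensorEquivQuotSMul_mk_tmul, one_smul]
  rw [hx', LinearMap.lTensor_tmul] at hx
  have h2 := congrArg (TensorProduct.quotTensorEquivQuotSMul M (Ideal.span {(p : WittVector p k)})) hx
  rw [map_zero, ← map_one (Ideal.Quotient.mk (Ideal.span {(p : WittVector p k)})), TensorProduct.quotTensorEquivQuotSMul_mk_tmul, one_smul,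
    Submodule.Quotient.mk_eq_zero, Submodule.ideal_span_singleton_smul, Submodule.mem_smul_pointwise_iff_exists] at h2
  obtain ⟨m', -, hm'⟩ := h2
  have hmem : m' ∈ ρ.invariants := fun g => by
    refine smul_right_injective M hp0 ?_
    show (p : WittVector p k) • ρ g m' = (p : WittVector p k) • m'
    rw [← map_smul, hm']
    exact m.2 g
  rw [hx', show m = (p : WittVector p k) • (⟨m', hmem⟩ : ρ.invariants) from Subtype.ext hm'.symm, TensorProduct.tmul_smul, TensorProduct.smul_tmul',
    Algebra.smul_def, mul_one]
  rw [show algebraMap (WittVector p k) (WittVector p k ⧸ Ideal.span {(p : WittVector p k)}) (p : WittVector p k) = 0 from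
    Ideal.Quotient.eq_zero_iff_mem.2 (Ideal.mem_span_singleton_self _), TensorProduct.zero_tmul]

end Groth.Agent.S16358
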