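import Groth.Statements.S16361
import Groth.Agent.Lib.LFibCat2
import Groth.Agent.S6416

set_option autoImplicit false
set_option backward.isDefEq.respectTransparency false
set_option backward.isDefEq.respectTransparency.types false
set_option linter.style.haveILetI false
universe v u
open CategoryTheory CategoryTheory.Limits
open FibCat

namespace Groth.Agent.S16361

/-- Let S be a category, π_X : X ⥤ S and π_Y : Y ⥤ S be fibred in groupoids, and F : Y ⥤ X a functor
with F ⋙ π_X = π_Y. Consider the category of triples (y, x, φ) with φ : F y ≅ x an arbitrary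
isomorphism of X and morphisms the compatible pairs of morphisms (the categorical pullback of F and
the identity of X; the isomorphism φ is not required to lie over an identity of S). Its projection
to X is fibred in groupoids over X, and the composite of that projection with π_X is fibred in
groupoids over S. (The published statement also asserts that y ↦ (y, F y, id) and (y, x, φ) ↦ y form
an equivalence over S; that is not asserted here.) -/
theorem result {S : Type u} [Category.{v} S] {X : Type u} [Category.{v} X]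
    {Y : Type u} [Category.{v} Y] (πX : X ⥤ S) (πY : Y ⥤ S) (hX : FibCat.IsFibGrpd πX) (hY : FibCat.IsFibGrpd πY)
    (F : Y ⥤ X) (hF : F ⋙ πX = πY) :
    FibCat.IsFibGrpd (CategoricalPullback.π₂ F (𝟭 X)) ∧
      FibCat.IsFibGrpd (CategoricalPullback.π₂ F (𝟭 X) ⋙ πX) := by
  have hFo : ∀ y, πX.obj (F.obj y) = πY.obj y := fun y => congrArg (fun G : Y ⥤ S => G.obj y) hF
  have hFl : ∀ {U V : S} (u : U ⟶ V) {a b : Y} (α : a ⟶ b), πY.IsHomLift u α → πX.IsHomLift u (F.map α) := fun u a b α h => by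
    subst hF
    exact IsHomLift.of_fac' _ _ _ (@IsHomLift.domain_eq _ _ _ _ (F ⋙ πX) _ _ _ _ u α h) (@IsHomLift.codomain_eq _ _ _ _ (F ⋙ πX) _ _ _ _ u α h)
      (@IsHomLift.fac' _ _ _ _ (F ⋙ πX) _ _ _ _ u α h)
  have h1 : FibCat.IsFibGrpd (CategoricalPullback.π₂ F (𝟭 X)) := by
    refine { exists_lift := fun {w V} k => ?_, isStronglyCartesian := fun {y x} φ => ?_ }
    · obtain ⟨a, b, i⟩ := w
      change V ⟶ b at k
      change F.obj a ≅ b at i
      obtain ⟨a', α, hα⟩ := hY.exists_lift (x := a) (V := πX.obj V) (πX.map (k ≫ i.inv) ≫ eqToHom (hFo a))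
      haveI := hFl _ α hα
      haveI : πX.IsHomLift (πX.map (k ≫ i.inv) ≫ eqToHom (hFo a)) (k ≫ i.inv) := inferInstance
      haveI := LFib.sc hX (πX.map (k ≫ i.inv) ≫ eqToHom (hFo a)) (k ≫ i.inv)
      let χ : F.obj a' ⟶ V := CategoryTheory.Functor.IsStronglyCartesian.map πX (πX.map (k ≫ i.inv) ≫ eqToHom (hFo a)) (k ≫ i.inv) (g := 𝟙 (πX.obj V)) (Category.id_comp _).symm (F.map α)
      haveI : πX.IsHomLift (𝟙 (πX.obj V)) χ := CategoryTheory.Functor.IsStronglyCartesian.map_isHomLift πX (πX.map (k ≫ i.inv) ≫ eqToHom (hFo a)) (k ≫ i.inv) (g := 𝟙 (πX.obj V)) (Category.id_comp _).symm (F.map α)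
      haveI : IsIso χ := LFib.isIso_vertical hX (U := πX.obj V) χ
      have hfac : χ ≫ k ≫ i.inv = F.map α := CategoryTheory.Functor.IsStronglyCartesian.fac πX (πX.map (k ≫ i.inv) ≫ eqToHom (hFo a)) (k ≫ i.inv) _ (F.map α)
      refine ⟨{ fst := a', snd := V, iso := asIso χ }, { fst := α, snd := k, w := ?_ }, ?_⟩
      · show F.map α ≫ i.hom = χ ≫ k
        rw [← hfac]; simp
      · exact IsHomLift.of_fac' _ _ _ rfl rfl (by simp)
    · refine { universal_property' := fun {z} g ψ hψ => ?_ }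
      haveI := hY.isStronglyCartesian φ.fst
      have eψ : ψ.snd = g ≫ φ.snd :=
        (@IsHomLift.eq_of_isHomLift _ _ _ _ (CategoricalPullback.π₂ F (𝟭 X)) _ _ (g ≫ φ.snd) ψ hψ).symm
      have wφ : F.map φ.fst ≫ x.iso.hom = y.iso.hom ≫ φ.snd := φ.w
      have wψ : F.map ψ.fst ≫ x.iso.hom = z.iso.hom ≫ ψ.snd := ψ.w
      let m : F.obj z.fst ⟶ F.obj y.fst := z.iso.hom ≫ g ≫ y.iso.inv
      have hm : m ≫ F.map φ.fst = F.map ψ.fst := by
        rw [← cancel_mono x.iso.hom, wψ, Category.assoc, wφ, eψ]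
        simp [m]
      let u : πY.obj z.fst ⟶ πY.obj y.fst := eqToHom (hFo _).symm ≫ πX.map m ≫ eqToHom (hFo _)
      haveI lm : πX.IsHomLift u m := IsHomLift.of_fac _ _ _ (hFo _) (hFo _) rfl
      haveI := hFl (πY.map φ.fst) φ.fst inferInstance
      have hdown : ∀ {a b : Y} (w : πY.obj a ⟶ πY.obj b) (α : a ⟶ b), πX.IsHomLift w (F.map α) → πY.IsHomLift w α := fun w α h => by
        have e := hFl (πY.map α) α inferInstance
        have e1 := @IsHomLift.fac _ _ _ _ πX _ _ _ _ w (F.map α) h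
        have e2 := @IsHomLift.fac _ _ _ _ πX _ _ _ _ (πY.map α) (F.map α) e
        rw [e1.trans e2.symm]; infer_instance
      haveI : πX.IsHomLift (u ≫ πY.map φ.fst) (F.map ψ.fst) := by rw [← hm]; infer_instance
      haveI : πY.IsHomLift (u ≫ πY.map φ.fst) ψ.fst := hdown _ _ inferInstance
      obtain ⟨χ, ⟨h1, h2⟩, hu⟩ := CategoryTheory.Functor.IsStronglyCartesian.universal_property πY (πY.map φ.fst) φ.fst u _ rfl ψ.fst
      haveI := hFl u χ h1
      have hFχ : F.map χ = m := by
        haveI := LFib.sc hX (πY.map φ.fst) (F.map φ.fst)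
        refine CategoryTheory.Functor.IsStronglyCartesian.ext πX (πY.map φ.fst) (F.map φ.fst) (g := u) ?_
        rw [hm, ← h2, F.map_comp]
      refine ⟨{ fst := χ, snd := g, w := ?_ }, ⟨?_, ?_⟩, ?_⟩
      · show F.map χ ≫ y.iso.hom = z.iso.hom ≫ g
        rw [hFχ]; simp [m]
      · exact IsHomLift.of_fac' _ _ _ rfl rfl (by simp)
      · exact CategoricalPullback.hom_ext h2 eψ.symm
      · rintro κ ⟨k1, k2⟩
        have es : κ.snd = g := (@IsHomLift.eq_of_isHomLift _ _ _ _ (CategoricalPullback.π₂ F (𝟭 X)) _ _ g κ k1).symm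
        refine CategoricalPullback.hom_ext ?_ es
        have wκ : F.map κ.fst ≫ y.iso.hom = z.iso.hom ≫ κ.snd := κ.w
        have hmκ : F.map κ.fst = m := by rw [← cancel_mono y.iso.hom, wκ, es]; simp [m]
        exact hu _ ⟨hdown u _ (hmκ ▸ lm), congrArg CategoricalPullback.Hom.fst k2⟩
  exact ⟨h1, S6416.result _ _ h1 hX⟩

end Groth.Agent.S16361
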