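import Groth.Statements.S16362
import Mathlib

set_option autoImplicit false
universe u
open MovLem

namespace Groth.Agent.S16362

/-- Let A be a commutative ring, p a prime ideal of A, and ζ, u elements of A with u not in p. Then the
quotient of the classes of ζ and u in the fraction field of the domain A ⧸ p is integral over A ⧸ p
if and only if there exist a natural number N and elements a_1, …, a_N of A such that ζ^N + a_1
ζ^(N-1) u + ⋯ + a_N u^N lies in p; equivalently, some binary form of degree N with coefficients in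
A, monic in the first variable, evaluated at (ζ, u), lies in p. -/
theorem result
    {A : Type u} [CommRing A] (p : Ideal A) [p.IsPrime] (ζ u : A) (hu : u ∉ p) :
    IsIntegral (A ⧸ p)
        (algebraMap (A ⧸ p) (FractionRing (A ⧸ p)) (Ideal.Quotient.mk p ζ) /
          algebraMap (A ⧸ p) (FractionRing (A ⧸ p)) (Ideal.Quotient.mk p u)) ↔
      ∃ (N : ℕ) (a : ℕ → A),
        ζ ^ N + ∑ i ∈ Finset.Icc 1 N, a i * ζ ^ (N - i) * u ^ i ∈ p := by
  classical
  set K := FractionRing (A ⧸ p)
  set f : A →+* K := (algebraMap (A ⧸ p) K).comp (Ideal.Quotient.mk p) with hf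
  show IsIntegral (A ⧸ p) (f ζ / f u) ↔ _
  have hker : ∀ x, f x = 0 ↔ x ∈ p := fun x => by
    rw [hf, RingHom.comp_apply, map_eq_zero_iff _ (IsFractionRing.injective (A ⧸ p) K), Ideal.Quotient.eq_zero_iff_mem]
  have hu' : f u ≠ 0 := fun h => hu ((hker u).1 h)
  have hterm : ∀ N i, i ≤ N → ∀ x : K, x * (f ζ / f u) ^ (N - i) * f u ^ N = x * f ζ ^ (N - i) * f u ^ i := fun N i hi x => by
    rw [show f u ^ N = f u ^ (N - i) * f u ^ i by rw [← pow_add]; congr 1; omega, div_pow, mul_assoc,
      ← mul_assoc (_ / _), div_mul_cancel₀ _ (pow_ne_zero _ hu'), ← mul_assoc]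
  constructor
  · rintro ⟨q, hq, hev⟩
    choose lift hlift using fun i : ℕ => Ideal.Quotient.mk_surjective (q.coeff i)
    refine ⟨q.natDegree, fun i => lift (q.natDegree - i), (hker _).1 ?_⟩
    set N := q.natDegree
    have h2 : (∑ i ∈ Finset.range (N + 1), algebraMap (A ⧸ p) K (q.coeff i) * (f ζ / f u) ^ i) * f u ^ N = 0 := by
      rw [← Polynomial.eval₂_eq_sum_range, hev, zero_mul]
    rw [← Finset.sum_range_reflect, Finset.sum_range_succ', add_mul, Finset.sum_mul] at h2
    simp only [Nat.add_sub_cancel, Nat.sub_zero] at h2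
    rw [hq.coeff_natDegree, map_one, one_mul, div_pow, div_mul_cancel₀ _ (pow_ne_zero _ hu'), add_comm] at h2
    rw [map_add, map_pow, map_sum, ← h2]
    congr 1
    rw [show Finset.Icc 1 N = (Finset.range N).map ⟨(· + 1), add_left_injective 1⟩ from by
      ext x; simp; exact ⟨fun h => ⟨x - 1, by omega, by omega⟩, fun ⟨a, ha, e⟩ => by omega⟩, Finset.sum_map]
    refine Finset.sum_congr rfl fun i hi => ?_
    have := Finset.mem_range.1 hi
    simp only [Function.Embedding.coeFn_mk, map_mul, map_pow]
    rw [hterm N (i + 1) (by omega), show f (lift (N - (i + 1))) = algebraMap (A ⧸ p) K (q.coeff (N - (i + 1))) by rw [hf, RingHom.comp_apply, hlift]]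
  · rintro ⟨N, a, h⟩
    rcases Nat.eq_zero_or_pos N with rfl | hN
    · exact absurd h (by simpa using (Ideal.ne_top_iff_one p).1 (Ideal.IsPrime.ne_top inferInstance))
    refine ⟨Polynomial.X ^ N + ∑ i ∈ Finset.Icc 1 N, Polynomial.C (Ideal.Quotient.mk p (a i)) * Polynomial.X ^ (N - i), Polynomial.monic_X_pow_add ?_, ?_⟩
    · refine (Polynomial.degree_sum_le _ _).trans_lt ?_
      rw [Finset.sup_lt_iff (WithBot.bot_lt_coe _)]
      intro i hi
      exact (Polynomial.degree_C_mul_X_pow_le _ _).trans_lt (Nat.cast_lt.2 (show N - i < N by have := (Finset.mem_Icc.1 hi).1; omega))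
    · apply mul_right_cancel₀ (pow_ne_zero N hu')
      rw [zero_mul, ← (hker _).2 h]
      simp only [Polynomial.eval₂_add, Polynomial.eval₂_X_pow, Polynomial.eval₂_finsetSum, Polynomial.eval₂_mul, Polynomial.eval₂_C, map_add, map_pow, map_sum, map_mul, add_mul, Finset.sum_mul]
      congr 1
      · rw [div_pow, div_mul_cancel₀ _ (pow_ne_zero N hu')]
      · rw [Finset.sum_mul]
        refine Finset.sum_congr rfl fun i hi => ?_
        rw [hterm N i (Finset.mem_Icc.1 hi).2]; rfl

end Groth.Agent.S16362
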