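import Groth.Statements.S16374
import Mathlib

set_option autoImplicit false
universe u v w
open FrobAlg

namespace Groth.Agent.S16374

/-- Let p be a prime, A a commutative ring, B and C commutative A-algebras with p² = 0 in B, and g : C →
B an A-algebra map such that every g(c) is congruent modulo p to an element of the A-subalgebra of B
generated by the p-th powers (g lifts a relative Frobenius). Then d(g(x)) = 0 in the module of
Kähler differentials of B over A for every x ∈ C that is congruent modulo p to an element of the
A-subalgebra of C generated by the p-th powers. (The source works with a lifting of the relative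
Frobenius of a smooth scheme over a ℤ/p²-thickening and the subsheaf of functions whose reduction
comes from the Frobenius twist; smoothness is not needed for this vanishing.) -/
theorem result
    (p : ℕ) [Fact p.Prime] (A : Type u) [CommRing A] (B : Type v) [CommRing B] [Algebra A B]
    (C : Type w) [CommRing C] [Algebra A C] (hp : (p : B) ^ 2 = 0)
    (g : C →ₐ[A] B)
    (hg : ∀ c : C, ∃ u ∈ Algebra.adjoin A (Set.range fun b : B => b ^ p),
      g c - u ∈ Ideal.span ({(p : B)} : Set B))
    (x y : C) (hy : y ∈ Algebra.adjoin A (Set.range fun c : C => c ^ p))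
    (hxy : x - y ∈ Ideal.span ({(p : C)} : Set C)) :
    KaehlerDifferential.D A B (g x) = 0 := by
  set Ω := Ω[B⁄A]
  set D := KaehlerDifferential.D A B
  have hpow : ∀ b : B, D (b ^ p) = (p : B) • (b ^ (p - 1) • D b) := fun b => by
    rw [D.leibniz_pow, ← Nat.cast_smul_eq_nsmul B]
  let P : Submodule B Ω := LinearMap.range ((p : B) • (LinearMap.id : Ω →ₗ[B] Ω))
  have hu : ∀ u ∈ Algebra.adjoin A (Set.range fun b : B => b ^ p), D u ∈ P := by
    intro u hu
    induction hu using Algebra.adjoin_induction with
    | mem u hu => obtain ⟨b, rfl⟩ := hu; exact ⟨b ^ (p - 1) • D b, by rw [hpow]; rfl⟩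
    | algebraMap a => rw [D.map_algebraMap]; exact zero_mem _
    | add a b _ _ ha hb => rw [map_add]; exact add_mem ha hb
    | mul a b _ _ ha hb => rw [D.leibniz]; exact add_mem (P.smul_mem _ hb) (P.smul_mem _ ha)
  have hDg : ∀ c : C, D (g c) ∈ P := fun c => by
    obtain ⟨u, hu', hsub⟩ := hg c
    obtain ⟨b, hb⟩ := Ideal.mem_span_singleton'.1 hsub
    rw [show g c = u + b * (p : B) by rw [hb]; ring, map_add, D.leibniz, D.map_natCast, smul_zero, zero_add]
    exact add_mem (hu u hu') ⟨D b, rfl⟩
  have hzero : ∀ w ∈ P, (p : B) • w = 0 := by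
    rintro _ ⟨w, rfl⟩
    show (p : B) • ((p : B) • w) = 0
    rw [smul_smul, ← pow_two, hp, zero_smul]
  have hy0 : ∀ y ∈ Algebra.adjoin A (Set.range fun c : C => c ^ p), D (g y) = 0 := by
    intro y hy
    induction hy using Algebra.adjoin_induction with
    | mem y hy => obtain ⟨c, rfl⟩ := hy; rw [map_pow, hpow]; exact hzero _ (P.smul_mem _ (hDg c))
    | algebraMap a => rw [AlgHom.commutes, D.map_algebraMap]
    | add a b _ _ ha hb => rw [map_add, map_add, ha, hb, add_zero]
    | mul a b _ _ ha hb => rw [map_mul, D.leibniz, ha, hb, smul_zero, smul_zero, add_zero]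
  obtain ⟨c, hc⟩ := Ideal.mem_span_singleton'.1 hxy
  rw [show x = y + c * (p : C) by rw [hc]; ring, map_add, map_add, hy0 y hy, map_mul, map_natCast, D.leibniz, D.map_natCast,
    smul_zero, zero_add, zero_add]
  exact hzero _ (hDg c)

end Groth.Agent.S16374
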