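import Groth.Statements.S1638
import Groth.Agent.Lib.H7CSATensor

set_option autoImplicit false
universe u
open Brauer

open scoped TensorProduct

namespace Groth.Agent.S1638

/-- Let A and A' be algebras over a field k with subalgebras B ⊆ A and B' ⊆ A' having centralizers C and
C'. Then the centralizer of the image of B ⊗ B' in A ⊗_k A' is the image of C ⊗_k C'. -/
theorem result (k : Type u) [Field k] (A A' : Type u) [Ring A] [Ring A'] [Algebra k A] [Algebra k A']
    (B : Subalgebra k A) (B' : Subalgebra k A') :
    Subalgebra.centralizer k ((Algebra.TensorProduct.map B.val B'.val).range : Set (TensorProduct k A A')) =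
      (Algebra.TensorProduct.map (Subalgebra.centralizer k (B : Set A)).val (Subalgebra.centralizer k (B' : Set A')).val).range := by
  classical
  set C := Subalgebra.centralizer k (B : Set A) with hC
  set C' := Subalgebra.centralizer k (B' : Set A') with hC'
  apply le_antisymm
  · intro z hz
    rw [Subalgebra.mem_centralizer_iff] at hz
    have hl : ∀ b ∈ B, (b ⊗ₜ[k] (1 : A')) * z = z * (b ⊗ₜ[k] (1 : A')) := fun b hb =>
      hz _ ⟨(⟨b, hb⟩ : B) ⊗ₜ[k] (1 : B'), rfl⟩
    have hr : ∀ b ∈ B', ((1 : A) ⊗ₜ[k] b) * z = z * ((1 : A) ⊗ₜ[k] b) := fun b hb =>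
      hz _ ⟨(1 : B) ⊗ₜ[k] (⟨b, hb⟩ : B'), rfl⟩
    let e := Module.Basis.ofVectorSpace k A'
    set c := TensorProduct.equivFinsuppOfBasisRight (M := A) e z with hc
    have hzsum : (c.sum fun i y => y ⊗ₜ[k] e i) = z := by
      have := TensorProduct.equivFinsuppOfBasisRight_symm_apply (M := A) e c
      rw [← this, hc, LinearEquiv.symm_apply_apply]
    have key : ∀ i, c i ∈ C := fun i => by
      rw [hC, Subalgebra.mem_centralizer_iff]
      intro b hb
      have h1 := hl b hb
      rw [← hzsum, Finsupp.sum, Finset.mul_sum, Finset.sum_mul] at h1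
      simp only [Algebra.TensorProduct.tmul_mul_tmul, one_mul, mul_one] at h1
      have h3 := DFunLike.congr_fun (congrArg (TensorProduct.equivFinsuppOfBasisRight (M := A) e) h1) i
      simp only [map_sum, Finsupp.finsetSum_apply, TensorProduct.equivFinsuppOfBasisRight_apply_tmul_apply,
        Module.Basis.repr_self, Finsupp.single_apply, ite_smul, one_smul, zero_smul, Finset.sum_ite_eq'] at h3
      by_cases hi : i ∈ c.support
      · simpa [hi] using h3
      · rw [Finsupp.notMem_support_iff.mp hi]; simp
    set w : C ⊗[k] A' := c.support.sum fun i => (⟨c i, key i⟩ : C) ⊗ₜ[k] e i with hw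
    let ι : C ⊗[k] A' →ₐ[k] A ⊗[k] A' := Algebra.TensorProduct.map C.val (AlgHom.id k A')
    have hwz : ι w = z := by
      rw [hw, map_sum, ← hzsum, Finsupp.sum]
      rfl
    have hι : Function.Injective ι :=
      Module.Flat.rTensor_preserves_injective_linearMap (M := A') C.val.toLinearMap Subtype.val_injective
    let f := Module.Basis.ofVectorSpace k C
    set d := TensorProduct.equivFinsuppOfBasisLeft (N := A') f w with hd
    have hwsum : (d.sum fun i y => f i ⊗ₜ[k] y) = w := by
      have := TensorProduct.equivFinsuppOfBasisLeft_symm_apply (N := A') f d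
      rw [← this, hd, LinearEquiv.symm_apply_apply]
    have key' : ∀ i, d i ∈ C' := fun i => by
      rw [hC', Subalgebra.mem_centralizer_iff]
      intro b hb
      have h0 : ((1 : C) ⊗ₜ[k] b) * w = w * ((1 : C) ⊗ₜ[k] b) := hι (by
        rw [map_mul, map_mul, hwz]
        exact hr b hb)
      rw [← hwsum, Finsupp.sum, Finset.mul_sum, Finset.sum_mul] at h0
      simp only [Algebra.TensorProduct.tmul_mul_tmul, one_mul, mul_one] at h0
      have h3 := DFunLike.congr_fun (congrArg (TensorProduct.equivFinsuppOfBasisLeft (N := A') f) h0) i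
      simp only [map_sum, Finsupp.finsetSum_apply, TensorProduct.equivFinsuppOfBasisLeft_apply_tmul_apply,
        Module.Basis.repr_self, Finsupp.single_apply, ite_smul, one_smul, zero_smul, Finset.sum_ite_eq'] at h3
      by_cases hi : i ∈ d.support
      · simpa [hi] using h3
      · rw [Finsupp.notMem_support_iff.mp hi]; simp
    refine ⟨d.support.sum fun i => f i ⊗ₜ[k] (⟨d i, key' i⟩ : C'), ?_⟩
    rw [← hwz, ← hwsum, Finsupp.sum]
    change Algebra.TensorProduct.map C.val C'.val _ = _
    rw [map_sum, map_sum]
    rfl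
  · rintro _ ⟨w, rfl⟩
    rw [Subalgebra.mem_centralizer_iff]
    rintro _ ⟨x, rfl⟩
    induction x with
    | zero => simp
    | add a b ha hb => simp only [map_add, add_mul, mul_add, ha, hb]
    | tmul a b =>
      induction w with
      | zero => simp
      | add p q hp hq => simp only [map_add, add_mul, mul_add, hp, hq]
      | tmul p q =>
        show ((a : A) ⊗ₜ[k] (b : A')) * ((p : A) ⊗ₜ[k] (q : A')) = ((p : A) ⊗ₜ[k] (q : A')) * ((a : A) ⊗ₜ[k] (b : A'))
        rw [Algebra.TensorProduct.tmul_mul_tmul, Algebra.TensorProduct.tmul_mul_tmul,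
          (Subalgebra.mem_centralizer_iff k).1 p.2 a a.2, (Subalgebra.mem_centralizer_iff k).1 q.2 b b.2]

end Groth.Agent.S1638
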