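import Groth.Statements.S16396
import Mathlib
import Groth.Agent.Lib.H2FiniteAlgClosed

set_option autoImplicit false
universe u
open CAlg

namespace Groth.Agent.S16396
open scoped TensorProduct
open Polynomial
set_option linter.style.haveILetI false

open Polynomial in
/-- For a commutative ℚ-algebra A, a ℚ-subalgebra B of the polynomial algebra A[X] that contains X and
is closed under d/dX consists exactly of the polynomials each of whose coefficients is the value at
0 of some element of B; in other words B = ev(B)[X], with ev the evaluation at 0. -/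
theorem result
    (A : Type u) [CommRing A] [Algebra ℚ A] (B : Subalgebra ℚ A[X])
    (hX : (X : A[X]) ∈ B) (hD : ∀ P ∈ B, Polynomial.derivative P ∈ B) (P : A[X]) :
    P ∈ B ↔ ∀ i : ℕ, ∃ Q ∈ B, Polynomial.eval 0 Q = P.coeff i := by
  have hC : ∀ (n : ℕ) (Q : A[X]), Q.natDegree < n → Q ∈ B → C (Q.coeff 0) ∈ B ∧ ∀ i, C (Q.coeff i) ∈ B := by
    intro n
    induction n with
    | zero => intro Q h; omega
    | succ n ih =>
      intro Q hQ hQB
      have hall : ∀ i, 0 < i → C (Q.coeff i) ∈ B := by
        intro i hi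
        obtain ⟨j, rfl⟩ : ∃ j, i = j + 1 := ⟨i - 1, by omega⟩
        rcases Nat.eq_zero_or_pos Q.natDegree with h | h
        · rw [Polynomial.coeff_eq_zero_of_natDegree_lt (by omega), C_0]; exact B.zero_mem
        · have := (ih (derivative Q) (lt_of_lt_of_le (Polynomial.natDegree_derivative_lt (by omega)) (by omega)) (hD Q hQB)).2 j
          rw [Polynomial.coeff_derivative] at this
          have h2 := B.smul_mem this (((j : ℚ) + 1)⁻¹)
          rwa [Polynomial.smul_C, show (((j : ℚ) + 1)⁻¹) • (Q.coeff (j + 1) * ((j : A) + 1)) = Q.coeff (j + 1) by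
            rw [show ((j : A) + 1) = algebraMap ℚ A ((j : ℚ) + 1) by simp, Algebra.smul_def, mul_left_comm, ← map_mul,
              inv_mul_cancel₀ (by positivity), map_one, mul_one]] at h2
      have h0 : C (Q.coeff 0) ∈ B := by
        have hsum : Q - ∑ i ∈ Finset.Icc 1 Q.natDegree, C (Q.coeff i) * X ^ i = C (Q.coeff 0) := by
          rw [sub_eq_iff_eq_add]
          conv_lhs => rw [Q.as_sum_range_C_mul_X_pow, Finset.range_eq_Ico, Finset.sum_eq_sum_Ico_succ_bot (by omega)]
          rw [pow_zero, mul_one]; rfl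
        rw [← hsum]
        exact B.sub_mem hQB (B.sum_mem fun i hi => B.mul_mem (hall i (by simp at hi; omega)) (B.pow_mem hX i))
      exact ⟨h0, fun i => (Nat.eq_zero_or_pos i).elim (fun h => h ▸ h0) (hall i)⟩
  constructor
  · intro hP i
    exact ⟨C (P.coeff i), (hC _ P (Nat.lt_succ_self _) hP).2 i, eval_C⟩
  · intro h
    rw [P.as_sum_range_C_mul_X_pow]
    refine B.sum_mem fun i _ => B.mul_mem ?_ (B.pow_mem hX i)
    obtain ⟨Q, hQ, hQe⟩ := h i
    rw [← hQe, ← Polynomial.coeff_zero_eq_eval_zero]
    exact (hC _ Q (Nat.lt_succ_self _) hQ).1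

end Groth.Agent.S16396
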