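import Groth.Statements.S16401
import Mathlib

set_option autoImplicit false
universe u v
open CAlgX

namespace Groth.Agent.S16401

/-- Let R be a commutative ring and (E_a), a ∈ ι, a family of additive subgroups of R indexed by an
additive commutative group ι, with E_0 = R and E_a · E_b ⊆ E_{a+b}. Let β, γ : Fin r → ι be weight
vectors with Σ_j β_j = Σ_i γ_i, and let ϑ be an r × r matrix over R with ϑ_{ij} ∈ E_{γ_i − β_j} for
all i, j and with unit determinant. Then a column vector u satisfies u_j ∈ E_{β_j} for every j if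
and only if (ϑ u)_i ∈ E_{γ_i} for every i; since ϑ is invertible this says that ϑ maps the box Π_j
E_{β_j} bijectively onto the box Π_i E_{γ_i}. -/
theorem result
    {R : Type u} [CommRing R] {ι : Type v} [AddCommGroup ι]
    (E : ι → AddSubgroup R) (h0 : E 0 = ⊤)
    (hmul : ∀ a b : ι, ∀ x ∈ E a, ∀ y ∈ E b, x * y ∈ E (a + b))
    {r : ℕ} (wβ wγ : Fin r → ι) (hsum : ∑ j, wβ j = ∑ i, wγ i)
    (ϑ : Matrix (Fin r) (Fin r) R) (hϑ : ∀ i j, ϑ i j ∈ E (wγ i - wβ j))
    (hdet : IsUnit ϑ.det) (u : Fin r → R) :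
    (∀ j, u j ∈ E (wβ j)) ↔ ∀ i, ϑ.mulVec u i ∈ E (wγ i) := by
  classical
  have one_mem : (1 : R) ∈ E 0 := h0 ▸ AddSubgroup.mem_top _
  have prod_mem : ∀ (s : Finset (Fin r)) (a : Fin r → ι) (x : Fin r → R), (∀ k ∈ s, x k ∈ E (a k)) →
      ∏ k ∈ s, x k ∈ E (∑ k ∈ s, a k) := by
    intro s a x
    induction s using Finset.induction_on with
    | empty => intro _; simpa using one_mem
    | insert k s hk ih =>
      intro hx
      rw [Finset.prod_insert hk, Finset.sum_insert hk]
      exact hmul _ _ _ (hx k (Finset.mem_insert_self k s)) _ (ih fun l hl => hx l (Finset.mem_insert_of_mem hl))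
  have det_mem : ∀ (g b : Fin r → ι) (A : Matrix (Fin r) (Fin r) R), (∀ i j, A i j ∈ E (g i - b j)) →
      A.det ∈ E (∑ i, g i - ∑ j, b j) := by
    intro g b A hA
    rw [Matrix.det_apply']
    refine AddSubgroup.sum_mem _ fun σ _ => ?_
    rw [← zero_add (∑ i, g i - ∑ j, b j)]
    refine hmul _ _ _ (h0 ▸ AddSubgroup.mem_top _) _ ?_
    have := prod_mem Finset.univ (fun k => g (σ k) - b k) (fun k => A (σ k) k) fun k _ => hA _ _
    rwa [Finset.sum_sub_distrib, Equiv.sum_comp σ g] at this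
  have mulVec_mem : ∀ (g b : Fin r → ι) (A : Matrix (Fin r) (Fin r) R) (v : Fin r → R),
      (∀ i j, A i j ∈ E (g i - b j)) → (∀ j, v j ∈ E (b j)) → ∀ i, A.mulVec v i ∈ E (g i) := by
    intro g b A v hA hv i
    rw [Matrix.mulVec, dotProduct]
    refine AddSubgroup.sum_mem _ fun j _ => ?_
    simpa using hmul _ _ _ (hA i j) _ (hv j)
  refine ⟨fun hu => mulVec_mem wγ wβ ϑ u hϑ hu, fun hu => ?_⟩
  have hadj : ∀ j i, ϑ.adjugate j i ∈ E (wβ j - wγ i) := by
    intro j i
    rw [Matrix.adjugate_apply]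
    have := det_mem (Function.update wγ i (wβ j)) wβ (ϑ.updateRow i (Pi.single j 1)) fun k l => by
      rcases eq_or_ne k i with rfl | hk
      · rw [Matrix.updateRow_self, Function.update_self]
        rcases eq_or_ne l j with rfl | hl
        · rw [Pi.single_eq_same, sub_self]; exact one_mem
        · rw [Pi.single_eq_of_ne hl]; exact zero_mem _
      · rw [Matrix.updateRow_ne hk, Function.update_of_ne hk]; exact hϑ k l
    rw [hsum, Finset.sum_update_of_mem (Finset.mem_univ i)] at this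
    have h2 := Finset.add_sum_erase Finset.univ wγ (Finset.mem_univ i)
    rw [Finset.sdiff_singleton_eq_erase, ← h2] at this
    convert this using 2
    abel
  intro j
  obtain ⟨c, hc⟩ := hdet.exists_left_inv
  have hu2 : u = c • ϑ.adjugate.mulVec (ϑ.mulVec u) := by
    rw [Matrix.mulVec_mulVec, Matrix.adjugate_mul, Matrix.smul_mulVec, Matrix.one_mulVec, smul_smul, hc, one_smul]
  rw [hu2, Pi.smul_apply, smul_eq_mul, ← zero_add (wβ j)]
  exact hmul _ _ _ (h0 ▸ AddSubgroup.mem_top _) _ (mulVec_mem wβ wγ _ _ hadj hu j)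

end Groth.Agent.S16401
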