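import Groth.Statements.S16414
import Mathlib


set_option autoImplicit false
open Dieud

namespace Groth.Agent.S16414

/-- Let μ be a rational number with 0 < μ ≤ 1 and i an integer, and put f(i,j) = max(−i−j, −j, 0) for
integers j. Then min over all integers j of f(i,j) + jμ exists and equals max(−iμ, 0). -/
theorem result (μ : ℚ) (hμ0 : 0 < μ) (hμ1 : μ ≤ 1) (i : ℤ) :
    IsLeast (Set.range fun j : ℤ => ((max (max (-i - j) (-j)) 0 : ℤ) : ℚ) + (j : ℚ) * μ)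
      (max (-(i : ℚ) * μ) 0) := by
  have key : ∀ j : ℤ, max (-(i : ℚ) * μ) 0 ≤ ((max (max (-i - j) (-j)) 0 : ℤ) : ℚ) + (j : ℚ) * μ := by
    intro j
    push_cast
    rcases le_total 0 (-(i:ℚ)) with hi | hi
    · rw [max_eq_left (mul_nonneg hi hμ0.le)]
      rcases le_total (j : ℚ) (-(i : ℚ)) with hj | hj
      · have h1 : (-(i:ℚ) - j) ≤ max (max (-(i:ℚ) - j) (-(j:ℚ))) 0 := le_max_of_le_left (le_max_left _ _)
        nlinarith [hμ0, hμ1, h1]
      · have h1 : (0:ℚ) ≤ max (max (-(i:ℚ) - j) (-(j:ℚ))) 0 := le_max_right _ _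
        nlinarith [hμ0, hμ1, h1]
    · rw [max_eq_right (mul_nonpos_of_nonpos_of_nonneg hi hμ0.le)]
      rcases le_total (j : ℚ) 0 with hj | hj
      · have h1 : -(j:ℚ) ≤ max (max (-(i:ℚ) - j) (-(j:ℚ))) 0 := le_max_of_le_left (le_max_right _ _)
        nlinarith [hμ0, hμ1, h1]
      · have h1 : (0:ℚ) ≤ max (max (-(i:ℚ) - j) (-(j:ℚ))) 0 := le_max_right _ _
        nlinarith [hμ0, hμ1, h1]
  refine ⟨⟨max (-i) 0, ?_⟩, fun x ⟨j, hj⟩ => hj ▸ key j⟩
  show ((max (max (-i - max (-i) 0) (-max (-i) 0)) 0 : ℤ) : ℚ) + ((max (-i) 0 : ℤ) : ℚ) * μ = _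
  rw [show max (max (-i - max (-i) 0) (-max (-i) 0)) 0 = 0 by omega]
  rcases le_total 0 (-i) with hi | hi
  · rw [max_eq_left hi, max_eq_left (mul_nonneg (by exact_mod_cast hi) hμ0.le)]; push_cast; ring
  · rw [max_eq_right hi, max_eq_right (mul_nonpos_of_nonpos_of_nonneg (by exact_mod_cast hi) hμ0.le)]; simp

end Groth.Agent.S16414
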