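import Groth.Statements.S16420
import Mathlib

set_option autoImplicit false
set_option backward.isDefEq.respectTransparency.types false
set_option maxHeartbeats 1000000
set_option linter.all false
universe u v
open CAlg

namespace Groth.Agent.S16420
open Groth.Agent

open TensorProduct in
/-- For a commutative local Artinian ring R and an exact sequence 0 → H₁ → H → H₂ → 0 of finite free
R-modules, let F₁ ⊆ H₁ and F₂ ⊆ H₂ be submodules with free quotients, 𝔫 an ideal of R of square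
zero, R̄ = R/𝔫, and F̄ ⊆ H̄ = R̄ ⊗ H an R̄-submodule with free quotient meeting the image of R̄ ⊗ H₁
in the image of R̄ ⊗ F₁ and mapping onto the image of R̄ ⊗ F₂; let L be the set of direct summands F
of H with F ∩ H₁ = F₁, with image F̄ in H̄ and with image F₂ in H₂. Then L is a torsor under
Hom_R(F₂, 𝔫(H₁/F₁)), acting as follows: an R-linear u : H₂ → H₁ with u(H₂) ⊆ 𝔫H₁ moves F ∈ L to the
image of F under x ↦ x + f(u(g(x))). Precisely, for F ∈ L: (1) that image again lies in L; (2) it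
equals F if and only if u(F₂) ⊆ 𝔫F₁; (3) every F' ∈ L is obtained from F in this way for some such
u. (The published statement phrases the torsor under the R̄-linear maps from F̄₂ to 𝔫 ⊗ (H̄₁/F̄₁), a
group identified with the maps u as above modulo those with u(F₂) ⊆ 𝔫F₁, and describes the action
through a lift F₂ → 𝔫 ⊗ H₁ composed with F → F/F₁ ≅ F₂; restricted to F this is x ↦ f(u(g(x))).) -/
theorem result
    (R : Type u) [CommRing R] [IsArtinianRing R] [IsLocalRing R]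
    (H₁ : Type v) (H : Type v) (H₂ : Type v)
    [AddCommGroup H₁] [Module R H₁] [AddCommGroup H] [Module R H] [AddCommGroup H₂] [Module R H₂]
    [Module.Free R H₁] [Module.Finite R H₁] [Module.Free R H] [Module.Finite R H]
    [Module.Free R H₂] [Module.Finite R H₂]
    (f : H₁ →ₗ[R] H) (g : H →ₗ[R] H₂) (hf : Function.Injective f) (hg : Function.Surjective g)
    (hfg : Function.Exact f g)
    (F₁ : Submodule R H₁) (F₂ : Submodule R H₂) [Module.Free R (H₁ ⧸ F₁)] [Module.Free R (H₂ ⧸ F₂)]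
    (𝔫 : Ideal R) (hn : 𝔫 * 𝔫 = ⊥)
    (Fb : Submodule (R ⧸ 𝔫) ((R ⧸ 𝔫) ⊗[R] H))
    [Module.Free (R ⧸ 𝔫) (((R ⧸ 𝔫) ⊗[R] H) ⧸ Fb)]
    (h1 : Fb ⊓ LinearMap.range (f.baseChange (R ⧸ 𝔫)) =
      Submodule.map (f.baseChange (R ⧸ 𝔫)) (F₁.baseChange (R ⧸ 𝔫)))
    (h2 : Submodule.map (g.baseChange (R ⧸ 𝔫)) Fb = F₂.baseChange (R ⧸ 𝔫))
    (F F' : Submodule R H)
    (hF : (∃ C : Submodule R H, IsCompl (F) C) ∧
      (F) ⊓ LinearMap.range f = Submodule.map f F₁ ∧
      Submodule.baseChange (R ⧸ 𝔫) (F) = Fb ∧ Submodule.map g (F) = F₂)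
    (hF' : (∃ C : Submodule R H, IsCompl (F') C) ∧
      (F') ⊓ LinearMap.range f = Submodule.map f F₁ ∧
      Submodule.baseChange (R ⧸ 𝔫) (F') = Fb ∧ Submodule.map g (F') = F₂) :
    (∀ u : H₂ →ₗ[R] H₁, (∀ y : H₂, u y ∈ 𝔫 • (⊤ : Submodule R H₁)) →
      (∃ C : Submodule R H, IsCompl (Submodule.map (LinearMap.id + f ∘ₗ u ∘ₗ g) F) C) ∧
      (Submodule.map (LinearMap.id + f ∘ₗ u ∘ₗ g) F) ⊓ LinearMap.range f = Submodule.map f F₁ ∧
      Submodule.baseChange (R ⧸ 𝔫) (Submodule.map (LinearMap.id + f ∘ₗ u ∘ₗ g) F) = Fb ∧ Submodule.map g (Submodule.map (LinearMap.id + f ∘ₗ u ∘ₗ g) F) = F₂) ∧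
    (∀ u : H₂ →ₗ[R] H₁, (∀ y : H₂, u y ∈ 𝔫 • (⊤ : Submodule R H₁)) →
      (Submodule.map (LinearMap.id + f ∘ₗ u ∘ₗ g) F = F ↔ ∀ y ∈ F₂, u y ∈ 𝔫 • F₁)) ∧
    (∃ u : H₂ →ₗ[R] H₁, (∀ y : H₂, u y ∈ 𝔫 • (⊤ : Submodule R H₁)) ∧
      F' = Submodule.map (LinearMap.id + f ∘ₗ u ∘ₗ g) F) := by
    classical
    have gf : ∀ a, g (f a) = 0 := fun a => hfg.apply_apply_eq_zero a
    obtain ⟨τ, hτ⟩ := g.exists_rightInverse_of_surjective (LinearMap.range_eq_top.2 hg)
    have hτ' : ∀ y, g (τ y) = y := fun y => LinearMap.congr_fun hτ y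
    have hρ : ∀ x, ∃ a, f a = x - τ (g x) := fun x => (hfg _).1 (by rw [map_sub, hτ', sub_self])
    choose ρ₀ hρ₀ using hρ
    let ρ : H →ₗ[R] H₁ :=
      { toFun := ρ₀
        map_add' := fun x y => hf (by rw [map_add f, hρ₀, hρ₀, hρ₀, map_add g, map_add τ]; abel)
        map_smul' := fun c x => hf (by rw [hρ₀, map_smul f, RingHom.id_apply, hρ₀, map_smul, map_smul, smul_sub]) }
    have ρf : ∀ a, ρ (f a) = a := fun a => hf (by show f (ρ₀ (f a)) = _; rw [hρ₀, gf, map_zero, sub_zero])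
    have ρker : ∀ x, g x = 0 → f (ρ x) = x := fun x hx => by show f (ρ₀ x) = x; rw [hρ₀, hx, map_zero, sub_zero]
    obtain ⟨sec₁, hsec₁⟩ := F₁.mkQ.exists_rightInverse_of_surjective (Submodule.range_mkQ F₁)
    let π : H₁ →ₗ[R] H₁ := LinearMap.id - sec₁ ∘ₗ F₁.mkQ
    have π_mem : ∀ a, π a ∈ F₁ := fun a => (Submodule.Quotient.mk_eq_zero F₁).1 (by
      show F₁.mkQ (a - sec₁ (F₁.mkQ a)) = 0
      rw [map_sub, show F₁.mkQ (sec₁ (F₁.mkQ a)) = F₁.mkQ a from LinearMap.congr_fun hsec₁ _, sub_self])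
    have π_fix : ∀ a ∈ F₁, π a = a := fun a ha => by
      show a - sec₁ (F₁.mkQ a) = a
      rw [show F₁.mkQ a = 0 from (Submodule.Quotient.mk_eq_zero F₁).2 ha, map_zero, sub_zero]
    obtain ⟨sec₂, hsec₂⟩ := F₂.mkQ.exists_rightInverse_of_surjective (Submodule.range_mkQ F₂)
    let p : H₂ →ₗ[R] F₂ := LinearMap.codRestrict F₂ (LinearMap.id - sec₂ ∘ₗ F₂.mkQ) fun a =>
      (Submodule.Quotient.mk_eq_zero F₂).1 (by
        show F₂.mkQ (a - sec₂ (F₂.mkQ a)) = 0
        rw [map_sub, show F₂.mkQ (sec₂ (F₂.mkQ a)) = F₂.mkQ a from LinearMap.congr_fun hsec₂ _, sub_self])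
    have p_fix : ∀ y : F₂, p y.1 = y := fun y => Subtype.ext (by
      show y.1 - sec₂ (F₂.mkQ y.1) = y.1
      rw [show F₂.mkQ y.1 = 0 from (Submodule.Quotient.mk_eq_zero F₂).2 y.2, map_zero, sub_zero])
    have mapn : ∀ {M N : Type v} [AddCommGroup M] [AddCommGroup N] [Module R M] [Module R N] (l : M →ₗ[R] N) {x},
        x ∈ 𝔫 • (⊤ : Submodule R M) → l x ∈ 𝔫 • (⊤ : Submodule R N) := by
      intro M N _ _ _ _ l x hx
      have h := Submodule.mem_map_of_mem (f := l) hx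
      rw [Submodule.map_smul''] at h
      exact Submodule.smul_mono le_rfl le_top h
    have nF₁ : ∀ a ∈ 𝔫 • (⊤ : Submodule R H₁), a ∈ F₁ → a ∈ 𝔫 • F₁ := fun a ha ha' => by
      have h := Submodule.mem_map_of_mem (f := π) ha
      rw [Submodule.map_smul'', π_fix a ha'] at h
      exact Submodule.smul_mono le_rfl (by rintro _ ⟨b, -, rfl⟩; exact π_mem b) h
    have tz : ∀ (r : R ⧸ 𝔫) (x : H), x ∈ 𝔫 • (⊤ : Submodule R H) → r ⊗ₜ[R] x = 0 := fun r x hx => by
      refine Submodule.smul_induction_on hx (fun c hc y _ => ?_) fun a b ha hb => by rw [TensorProduct.tmul_add, ha, hb, add_zero]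
      rw [← TensorProduct.smul_tmul]
      have : c • r = 0 := by
        rw [Algebra.smul_def, Ideal.Quotient.algebraMap_eq, Ideal.Quotient.eq_zero_iff_mem.2 hc, zero_mul]
      rw [this, TensorProduct.zero_tmul]
    have preim : ∀ (G : Submodule R H) (x : H), (1 : R ⧸ 𝔫) ⊗ₜ[R] x ∈ G.baseChange (R ⧸ 𝔫) →
        ∃ y ∈ G, x - y ∈ 𝔫 • (⊤ : Submodule R H) := by
      intro G x hx
      let e := TensorProduct.quotTensorEquivQuotSMul H 𝔫
      obtain ⟨z, hz⟩ := hx
      have : ∀ z, ∃ y ∈ G, e (G.subtype.baseChange (R ⧸ 𝔫) z) = Submodule.Quotient.mk y := by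
        intro z
        induction z using TensorProduct.induction_on with
        | zero => exact ⟨0, G.zero_mem, by simp⟩
        | tmul r m =>
          obtain ⟨r, rfl⟩ := Ideal.Quotient.mk_surjective r
          refine ⟨r • m.1, G.smul_mem r m.2, ?_⟩
          rw [LinearMap.baseChange_tmul]
          exact TensorProduct.quotTensorEquivQuotSMul_mk_tmul 𝔫 r _
        | add u v hu hv =>
          obtain ⟨y, hy, ey⟩ := hu
          obtain ⟨y', hy', ey'⟩ := hv
          exact ⟨y + y', G.add_mem hy hy', by rw [map_add, map_add, ey, ey', Submodule.Quotient.mk_add]⟩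
      obtain ⟨y, hy, e1⟩ := this z
      rw [hz, ← map_one (Ideal.Quotient.mk 𝔫), TensorProduct.quotTensorEquivQuotSMul_mk_tmul, one_smul] at e1
      exact ⟨y, hy, (Submodule.Quotient.eq _).1 e1⟩
    have hfF : ∀ (G : Submodule R H), G ⊓ LinearMap.range f = Submodule.map f F₁ →
        (∀ a ∈ F₁, f a ∈ G) ∧ ∀ a, f a ∈ G → a ∈ F₁ := fun G hG => by
      refine ⟨fun a ha => ((hG ▸ ⟨a, ha, rfl⟩ : f a ∈ G ⊓ LinearMap.range f)).1, fun a ha => ?_⟩
      have h : f a ∈ Submodule.map f F₁ := hG ▸ ⟨ha, a, rfl⟩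
      obtain ⟨b, hb, e⟩ := h
      rwa [← hf e]
    obtain ⟨⟨C, hC⟩, hF1, hF2, hF3⟩ := hF
    obtain ⟨-, hF1', hF2', hF3'⟩ := hF'
    obtain ⟨fF, fF'⟩ := hfF F hF1
    obtain ⟨gF, gF'⟩ := hfF F' hF1'
    have φ0 : ∀ (u : H₂ →ₗ[R] H₁) x, ((LinearMap.id : H →ₗ[R] H) + f ∘ₗ u ∘ₗ g) x = x + f (u (g x)) := fun u x => rfl
    refine ⟨fun u hu => ⟨?_, ?_, ?_, ?_⟩, fun u hu => ⟨fun h y hy => ?_, fun h => ?_⟩, ?_⟩
    · let φ : H ≃ₗ[R] H := LinearEquiv.ofLinear (LinearMap.id + f ∘ₗ u ∘ₗ g) (LinearMap.id - f ∘ₗ u ∘ₗ g)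
        (by ext x; simp [gf]) (by ext x; simp [gf])
      exact ⟨Submodule.map (φ : H →ₗ[R] H) C, hC.map (Submodule.orderIsoMapComap φ)⟩
    · refine le_antisymm ?_ ?_
      · rintro _ ⟨⟨x, hx, rfl⟩, a, ha⟩
        have hgx : g x = 0 := by
          have := congrArg g ha
          rw [gf, φ0, map_add, gf, add_zero] at this
          exact this.symm
        rw [← hF1, φ0, hgx, map_zero, map_zero, add_zero]
        exact ⟨hx, ρ x, ρker x hgx⟩
      · rintro _ ⟨a, ha, rfl⟩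
        exact ⟨⟨f a, fF a ha, by rw [φ0, gf, map_zero, map_zero, add_zero]⟩, a, rfl⟩
    · rw [← hF2, Submodule.baseChange_eq_span, Submodule.baseChange_eq_span]
      congr 2
      refine le_antisymm ?_ ?_
      · rintro _ ⟨_, ⟨x, hx, rfl⟩, rfl⟩
        refine ⟨x, hx, ?_⟩
        simp only [TensorProduct.mk_apply, φ0, TensorProduct.tmul_add]
        rw [tz 1 _ (mapn f (hu (g x))), add_zero]
      · rintro _ ⟨x, hx, rfl⟩
        refine ⟨_, ⟨x, hx, rfl⟩, ?_⟩
        simp only [TensorProduct.mk_apply, φ0, TensorProduct.tmul_add]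
        rw [tz 1 _ (mapn f (hu (g x))), add_zero]
    · rw [← hF3, ← Submodule.map_comp]
      congr 1
      ext x
      simp [gf]
    · rw [← hF3] at hy
      obtain ⟨x, hx, rfl⟩ := hy
      have h1 : x + f (u (g x)) ∈ F := h.le ⟨x, hx, rfl⟩
      exact nF₁ _ (hu _) (fF' _ (by simpa using F.sub_mem h1 hx))
    · refine le_antisymm ?_ ?_
      · rintro _ ⟨x, hx, rfl⟩
        exact F.add_mem hx (fF _ (Submodule.smul_le_right (h _ (hF3 ▸ ⟨x, hx, rfl⟩))))
      · intro x hx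
        refine ⟨x - f (u (g x)), F.sub_mem hx (fF _ (Submodule.smul_le_right (h _ (hF3 ▸ ⟨x, hx, rfl⟩)))), ?_⟩
        simp [gf]
    · have hpr : Module.Projective R F₂ := Module.Projective.of_split F₂.subtype p (LinearMap.ext fun y => p_fix y)
      have mk : ∀ (G : Submodule R H), Submodule.map g G = F₂ → ∃ σ : F₂ →ₗ[R] H, (∀ y, σ y ∈ G) ∧ ∀ y, g (σ y) = y.1 := by
        intro G hG
        let gG : G →ₗ[R] F₂ := (g ∘ₗ G.subtype).codRestrict F₂ fun x => hG ▸ ⟨x.1, x.2, rfl⟩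
        obtain ⟨s, hs⟩ := Module.projective_lifting_property gG LinearMap.id fun y => by
          obtain ⟨x, hx, e⟩ := (hG.ge y.2 : y.1 ∈ Submodule.map g G)
          exact ⟨⟨x, hx⟩, Subtype.ext e⟩
        exact ⟨G.subtype ∘ₗ s, fun y => (s y).2, fun y => congrArg Subtype.val (LinearMap.congr_fun hs y)⟩
      obtain ⟨σ, hσ, gσ⟩ := mk F hF3
      obtain ⟨σ', hσ', gσ'⟩ := mk F' hF3'
      let w : F₂ →ₗ[R] H₁ := ρ ∘ₗ (σ' - σ)
      have hw : ∀ y, f (w y) = σ' y - σ y := fun y => ρker _ (by simp [gσ, gσ'])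
      let u : H₂ →ₗ[R] H₁ := (LinearMap.id - π) ∘ₗ w ∘ₗ p
      have hun : ∀ y, u y ∈ 𝔫 • (⊤ : Submodule R H₁) := by
        intro y
        set y' := p y
        have hb : (1 : R ⧸ 𝔫) ⊗ₜ[R] σ' y' ∈ F.baseChange (R ⧸ 𝔫) := by
          rw [hF2, ← hF2']; exact Submodule.tmul_mem_baseChange_of_mem _ (hσ' y')
        obtain ⟨x, hx, hn'⟩ := preim F _ hb
        set nn := σ' y' - x with hnn
        have hgn : g nn ∈ F₂ := by
          rw [hnn, map_sub, gσ']
          exact F₂.sub_mem y'.2 (hF3 ▸ ⟨x, hx, rfl⟩)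
        have hpn : p (g nn) ∈ 𝔫 • (⊤ : Submodule R F₂) := by
          have h := Submodule.mem_map_of_mem (f := p ∘ₗ g) hn'
          rw [Submodule.map_smul''] at h
          exact Submodule.smul_mono le_rfl le_top h
        have hsn : σ (p (g nn)) ∈ 𝔫 • (⊤ : Submodule R H) := by
          have h := Submodule.mem_map_of_mem (f := σ) hpn
          rw [Submodule.map_smul''] at h
          exact Submodule.smul_mono le_rfl le_top h
        have hpv : (p (g nn)).1 = g nn := congrArg Subtype.val (p_fix ⟨g nn, hgn⟩)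
        let x' := x - σ y' + σ (p (g nn))
        have hx' : x' ∈ F := F.add_mem (F.sub_mem hx (hσ _)) (hσ _)
        have hgx' : g x' = 0 := by
          show g (x - σ y' + σ (p (g nn))) = 0
          rw [map_add, map_sub, gσ, gσ, hpv, hnn, map_sub, gσ']; abel
        have e : w y' = ρ x' + ρ (nn - σ (p (g nn))) := by
          rw [← map_add]
          show ρ ((σ' - σ) y') = _
          congr 1
          simp only [x', hnn, LinearMap.sub_apply]; abel
        show w y' - π (w y') ∈ _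
        have e2 : π (ρ x') = ρ x' := π_fix (ρ x') (fF' _ (by rw [ρker x' hgx']; exact hx'))
        rw [e, map_add π, e2, add_sub_add_left_eq_sub]
        have hρn := mapn ρ (Submodule.sub_mem _ hn' hsn)
        exact Submodule.sub_mem _ hρn (mapn π hρn)
      refine ⟨u, hun, le_antisymm (fun x hx => ?_) ?_⟩
      · have hy : g x ∈ F₂ := hF3' ▸ ⟨x, hx, rfl⟩
        let y : F₂ := ⟨g x, hy⟩
        have hker : g (x - σ' y) = 0 := by rw [map_sub, gσ']; exact sub_self _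
        have ha : ρ (x - σ' y) ∈ F₁ := gF' _ (by rw [ρker _ hker]; exact F'.sub_mem hx (hσ' _))
        refine ⟨σ y + f (π (w y) + ρ (x - σ' y)), F.add_mem (hσ _) (fF _ (F₁.add_mem (π_mem _) ha)), ?_⟩
        rw [φ0, map_add g, gσ, gf, add_zero, show u y.1 = w y - π (w y) by
          show ((LinearMap.id : H₁ →ₗ[R] H₁) - π) (w (p y.1)) = _
          rw [p_fix]; rfl]
        rw [map_add f, map_sub f (w y), hw, ρker _ hker]
        abel
      · rintro _ ⟨x, hx, rfl⟩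
        have hy : g x ∈ F₂ := hF3 ▸ ⟨x, hx, rfl⟩
        let y : F₂ := ⟨g x, hy⟩
        have hker : g (x - σ y) = 0 := by rw [map_sub, gσ]; exact sub_self _
        have ha : ρ (x - σ y) ∈ F₁ := fF' _ (by rw [ρker _ hker]; exact F.sub_mem hx (hσ _))
        rw [φ0, show u (g x) = w y - π (w y) by
          show ((LinearMap.id : H₁ →ₗ[R] H₁) - π) (w (p y.1)) = _
          rw [p_fix]; rfl]
        rw [map_sub f, hw, show x + (σ' y - σ y - f (π (w y))) = σ' y + f (ρ (x - σ y) - π (w y)) by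
          rw [map_sub f, ρker _ hker]; abel]
        exact F'.add_mem (hσ' _) (gF _ (F₁.sub_mem ha (π_mem _)))

end Groth.Agent.S16420
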