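import Groth.Statements.S16421
import Mathlib
import Groth.Agent.Lib.LFlatBasis

set_option autoImplicit false
universe u
open FrobAlg

namespace Groth.Agent.S16421

/-- Let p be a prime and R a commutative ring of characteristic p with a p-basis (x_i), meaning that the
monomials ∏ x_i^(e i) with every exponent e i < p form a basis of R as a module over itself through
the Frobenius, i.e. the map sending a finitely supported family of coefficients c to ∑_e (c e)^p · ∏
x_i^(e i) is a bijection onto R. Then the canonical ring map from R to its perfect closure is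
faithfully flat. -/
theorem result (p : ℕ) [Fact p.Prime]
    (R : Type u) [CommRing R] [CharP R p] (ι : Type u) (x : ι → R)
    (hx : Function.Bijective
      (fun c : {e : ι →₀ ℕ // ∀ i, e i < p} →₀ R =>
        c.sum (fun e r => r ^ p * e.1.prod (fun i n => x i ^ n)))) :
    (PerfectClosure.of R p).FaithfullyFlat := by
  classical
  have hinj : Function.Injective (frobenius R p) := by
    intro a b hab
    have h0 : ∀ i : ι, (0 : ι →₀ ℕ) i < p := fun i => (Fact.out : p.Prime).pos
    have := hx.1 (a₁ := Finsupp.single (⟨0, h0⟩ : {e : ι →₀ ℕ // ∀ i, e i < p}) a)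
      (a₂ := Finsupp.single ⟨0, h0⟩ b) (by
        simp only
        rw [Finsupp.sum_single_index (by simp [(Fact.out : p.Prime).ne_zero]),
          Finsupp.sum_single_index (by simp [(Fact.out : p.Prime).ne_zero])]
        simpa [frobenius_def] using hab)
    exact Finsupp.single_injective _ this
  have hflat : (frobenius R p).Flat :=
    Groth.Agent.LFlatBasis.flat_of_bijective (frobenius R p)
      (fun e : {e : ι →₀ ℕ // ∀ i, e i < p} => e.1.prod (fun i n => x i ^ n)) hx
  have hflatn : ∀ n, (iterateFrobenius R p n).Flat := by
    intro n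
    induction n with
    | zero =>
      rw [iterateFrobenius_zero]
      exact RingHom.Flat.id R
    | succ n ih =>
      have e : iterateFrobenius R p (n + 1) = (frobenius R p).comp (iterateFrobenius R p n) := by
        ext z
        simp [iterateFrobenius_def, frobenius_def, pow_succ, pow_mul]
      rw [e]
      exact ih.comp hflat
  have hiinj : ∀ n, Function.Injective ((frobenius R p)^[n]) := fun n => hinj.iterate n
  let φ : ℕ → R →+* PerfectClosure R p := fun n =>
    { toFun := fun z => PerfectClosure.mk R p (n, z)
      map_one' := by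
        rw [PerfectClosure.one_def, PerfectClosure.mk_eq_iff]
        exact ⟨0, by simp [← coe_iterateFrobenius]⟩
      map_mul' := fun a b => by
        rw [PerfectClosure.mk_mul_mk, PerfectClosure.mk_eq_iff]
        exact ⟨0, by simp [← coe_iterateFrobenius, ← map_mul, ← iterateFrobenius_add_apply]⟩
      map_zero' := PerfectClosure.mk_zero_right R p n
      map_add' := fun a b => by
        rw [PerfectClosure.mk_add_mk, PerfectClosure.mk_eq_iff]
        exact ⟨0, by simp [← coe_iterateFrobenius, ← map_add, ← iterateFrobenius_add_apply]⟩ }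
  have hshift : ∀ n m z, φ (n + m) ((frobenius R p)^[m] z) = φ n z := fun n m z => by
    change PerfectClosure.mk R p (n + m, _) = PerfectClosure.mk R p (n, z)
    rw [PerfectClosure.mk_eq_iff]
    exact ⟨0, by simp [← Function.iterate_add_apply]⟩
  have hof : ∀ n r, φ n ((frobenius R p)^[n] r) = PerfectClosure.of R p r := fun n r => by
    have := hshift 0 n r
    rw [zero_add] at this
    exact this
  have hφinj : ∀ n z, φ n z = 0 → z = 0 := by
    intro n z hz
    rw [← map_zero (φ n)] at hz
    obtain ⟨w, hw⟩ := (PerfectClosure.mk_eq_iff R p _ _).1 hz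
    exact hiinj _ hw
  rw [RingHom.FaithfullyFlat.iff_flat_and_comap_surjective]
  refine ⟨?_, ?_⟩
  · letI := (PerfectClosure.of R p).toAlgebra
    refine Module.Flat.iff_forall_isTrivialRelation.2 fun {l} {f} {y} h => ?_
    have hsurj : ∀ i, ∃ n z, y i = φ n z := fun i => by
      obtain ⟨⟨n, z⟩, e⟩ := PerfectClosure.mk_surjective R p (y i)
      exact ⟨n, z, e.symm⟩
    choose n z hz using hsurj
    let N := Finset.univ.sup n
    let w : Fin l → R := fun i => (frobenius R p)^[N - n i] (z i)
    have hw : ∀ i, y i = φ N (w i) := fun i => by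
      rw [hz i, ← hshift (n i) (N - n i) (z i), Nat.add_sub_cancel' (Finset.le_sup (Finset.mem_univ i))]
    have h2 : ∑ i, iterateFrobenius R p N (f i) * w i = 0 := by
      apply hφinj N
      rw [map_sum, ← h]
      refine Finset.sum_congr rfl fun i _ => ?_
      rw [map_mul, ← hw i, coe_iterateFrobenius, hof]
      rfl
    obtain ⟨k, a, v, h3, h4⟩ := Groth.Agent.LFlatBasis.exists_trivial _ (hflatn N) f w h2
    refine ⟨k, a, fun j => φ N (v j), fun i => ?_, h4⟩
    have h3' : w i = ∑ j, iterateFrobenius R p N (a i j) * v j := h3 i
    rw [hw i, h3', map_sum]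
    refine Finset.sum_congr rfl fun j _ => ?_
    rw [map_mul, coe_iterateFrobenius, hof]
    rfl
  · have hint : (PerfectClosure.of R p).IsIntegral := by
      intro y
      obtain ⟨⟨n, z⟩, rfl⟩ := PerfectClosure.mk_surjective R p y
      refine ⟨Polynomial.X ^ (p ^ n) - Polynomial.C z, Polynomial.monic_X_pow_sub_C z (pow_ne_zero n (Fact.out : p.Prime).ne_zero), ?_⟩
      rw [Polynomial.eval₂_sub, Polynomial.eval₂_X_pow, Polynomial.eval₂_C, sub_eq_zero,
        ← hof n z]
      change φ n z ^ p ^ n = _
      rw [← map_pow, iterate_frobenius]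
    exact hint.comap_surjective fun a b hab => by
      obtain ⟨w, hw⟩ := (PerfectClosure.mk_eq_iff R p _ _).1 hab
      exact hiinj _ hw

end Groth.Agent.S16421
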