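import Groth.Statements.S16422
import Mathlib

set_option autoImplicit false
set_option backward.isDefEq.respectTransparency.types false
set_option maxHeartbeats 1000000
set_option linter.all false
universe u
open GrMod

namespace Groth.Agent.S16422
open Groth.Agent

/-- Let S be a commutative ring graded by ℤ with pieces 𝒜 n, and V a decreasing sequence of homogeneous
ideals for which S is graded-complete, i.e. for each degree n the map from 𝒜 n to the inverse limit
of the quotients 𝒜 n / (𝒜 n ∩ V m) is bijective (stated as: a degree-n element in every V m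
vanishes, and every sequence in 𝒜 n whose consecutive differences lie in the V m has a limit in 𝒜
n). Then every graded S-module M which is finitely generated and projective as an S-module is
graded-complete in the same sense for the submodules V m · M: for each n the map from ℳ n to the
inverse limit of ℳ n / (ℳ n ∩ V m · M) is bijective. -/
theorem result
    (S : Type u) [CommRing S] (𝒜 : ℤ → AddSubgroup S) [GradedRing 𝒜]
    (V : ℕ → HomogeneousIdeal 𝒜) (hV : ∀ m, (V (m + 1)).toIdeal ≤ (V m).toIdeal)
    (hsep : ∀ (n : ℤ) (s : S), s ∈ 𝒜 n → (∀ m, s ∈ (V m).toIdeal) → s = 0)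
    (hcpl : ∀ (n : ℤ) (f : ℕ → S), (∀ m, f m ∈ 𝒜 n) →
      (∀ m, f (m + 1) - f m ∈ (V m).toIdeal) → ∃ s ∈ 𝒜 n, ∀ m, s - f m ∈ (V m).toIdeal)
    (M : Type u) [AddCommGroup M] [Module S M] (ℳ : ℤ → AddSubgroup M)
    [DirectSum.Decomposition ℳ] [SetLike.GradedSMul 𝒜 ℳ]
    [Module.Finite S M] [Module.Projective S M] :
    (∀ (n : ℤ) (x : M), x ∈ ℳ n → (∀ m, x ∈ (V m).toIdeal • (⊤ : Submodule S M)) → x = 0) ∧
    (∀ (n : ℤ) (g : ℕ → M), (∀ m, g m ∈ ℳ n) →
      (∀ m, g (m + 1) - g m ∈ (V m).toIdeal • (⊤ : Submodule S M)) →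
      ∃ x ∈ ℳ n, ∀ m, x - g m ∈ (V m).toIdeal • (⊤ : Submodule S M)) := by
    classical
    obtain ⟨G, hG⟩ := Module.Finite.fg_top (R := S) (M := M)
    let T : Finset (ℤ × M) := G.biUnion fun g => (DirectSum.decompose ℳ g).support.image fun i => (i, (DirectSum.decompose ℳ g i : M))
    have hT : ∀ j : T, j.1.2 ∈ ℳ j.1.1 := by
      rintro ⟨⟨i, m⟩, hj⟩
      simp only [T, Finset.mem_biUnion, Finset.mem_image, Prod.mk.injEq] at hj
      obtain ⟨g, -, a, -, rfl, rfl⟩ := hj
      exact (DirectSum.decompose ℳ g a).2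
    let π := Fintype.linearCombination S (fun j : T => j.1.2)
    have hπ : Function.Surjective π := by
      rw [← LinearMap.range_eq_top, eq_top_iff, ← hG, Submodule.span_le]
      intro g hg
      rw [SetLike.mem_coe, ← DirectSum.sum_support_decompose ℳ g, Fintype.range_linearCombination]
      refine sum_mem fun i hi => Submodule.subset_span ?_
      exact ⟨⟨(i, (DirectSum.decompose ℳ g i : M)), Finset.mem_biUnion.2 ⟨g, hg, Finset.mem_image_of_mem _ hi⟩⟩, rfl⟩
    obtain ⟨σ, hσ⟩ := Module.projective_lifting_property π LinearMap.id hπ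
    let cf : M → ℤ → T → S := fun x n j => (DirectSum.decompose 𝒜 (σ x j) (n - j.1.1) : S)
    have hcomp : ∀ (s : S) (j : T) (n : ℤ), (DirectSum.decompose ℳ (s • j.1.2) n : M) = (DirectSum.decompose 𝒜 s (n - j.1.1) : S) • j.1.2 := by
      intro s j n
      induction s using DirectSum.Decomposition.inductionOn 𝒜 with
      | zero => simp
      | @homogeneous i s =>
        have hm : (s : S) • j.1.2 ∈ ℳ (i + j.1.1) := SetLike.GradedSMul.smul_mem s.2 (hT j)
        by_cases h : i + j.1.1 = n
        · subst h
          rw [DirectSum.decompose_of_mem_same ℳ hm, add_sub_cancel_right, DirectSum.decompose_of_mem_same 𝒜 s.2]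
        · rw [DirectSum.decompose_of_mem_ne ℳ hm h, DirectSum.decompose_of_mem_ne 𝒜 s.2 (by omega), zero_smul]
      | add a b ha hb => simp only [add_smul, DirectSum.decompose_add, DirectSum.add_apply, AddMemClass.coe_add, ha, hb]
    have hrec : ∀ (n : ℤ) (x : M), x ∈ ℳ n → x = ∑ j : T, cf x n j • j.1.2 := by
      intro n x hx
      have h1 : π (σ x) = x := congr($hσ x)
      conv_lhs => rw [← DirectSum.decompose_of_mem_same ℳ hx]; rw [← h1]
      rw [Fintype.linearCombination_apply, DirectSum.decompose_sum, DFinsupp.finsetSum_apply, AddSubmonoidClass.coe_finsetSum]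
      exact Finset.sum_congr rfl fun j _ => hcomp _ j n
    have hV' : ∀ (m : ℕ) (x : M), x ∈ (V m).toIdeal • (⊤ : Submodule S M) → ∀ (n : ℤ) (j : T), cf x n j ∈ (V m).toIdeal := by
      intro m x hx n j
      refine (V m).isHomogeneous (n - j.1.1) ?_
      refine Submodule.smul_induction_on (p := fun x => σ x j ∈ (V m).toIdeal) hx (fun r hr y _ => ?_) fun a b ha hb => ?_
      · rw [map_smul, Pi.smul_apply, smul_eq_mul]; exact Ideal.mul_mem_right _ _ hr
      · rw [map_add, Pi.add_apply]; exact add_mem ha hb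
    refine ⟨fun n x hx h => ?_, fun n g hg h => ?_⟩
    · rw [hrec n x hx]
      refine Finset.sum_eq_zero fun j _ => ?_
      rw [hsep (n - j.1.1) (cf x n j) (DirectSum.decompose 𝒜 _ _).2 (fun m => hV' m x (h m) n j), zero_smul]
    · choose s hs hs' using fun j : T => hcpl (n - j.1.1) (fun m => cf (g m) n j) (fun m => (DirectSum.decompose 𝒜 _ _).2) (fun m => by
        have h1 := hV' m _ (h m) n j
        simpa [cf, map_sub, DirectSum.decompose_sub] using h1)
      refine ⟨∑ j : T, s j • j.1.2, sum_mem fun j _ => ?_, fun m => ?_⟩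
      · have := SetLike.GradedSMul.smul_mem (A := 𝒜) (B := ℳ) (hs j) (hT j)
        rwa [vadd_eq_add, sub_add_cancel] at this
      · rw [hrec n (g m) (hg m), ← Finset.sum_sub_distrib]
        refine sum_mem fun j _ => ?_
        rw [← sub_smul]
        exact Submodule.smul_mem_smul (hs' j m) Submodule.mem_top

end Groth.Agent.S16422
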