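import Groth.Statements.S16453
import Mathlib

set_option autoImplicit false
universe u
open AdicGr

namespace Groth.Agent.S16453
open AssocGr Polynomial

/-- Let A be a commutative ring, I an ideal and Â the I-adic completion, filtered by the kernels Âₙ of
the projections Â → A/Iⁿ. Then the homomorphism of associated graded rings ⊕ₙ Iⁿ/Iⁿ⁺¹ → ⊕ₙ Âₙ/Âₙ₊₁
induced by the canonical map A → Â is bijective. No hypothesis on A or I is needed. (The published
statement is for an arbitrary filtered ring and also asserts the analogous isomorphism for a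
compatibly filtered module; this row is the ring assertion for the filtration by the powers of one
ideal.) -/
theorem result (A : Type u) [CommRing A] (I : Ideal A) :
    Function.Bijective (AssocGr.map (AssocGr.isFiltHom_kerFilt I)) := by
  have hmem : ∀ (n : ℕ) (a : A), algebraMap A (AdicCompletion I A) a ∈ (kerFilt I).F n ↔ a ∈ I ^ n := fun n a => by
    rw [mem_kerFilt_iff, AlgHom.commutes, Ideal.Quotient.algebraMap_eq, Ideal.Quotient.eq_zero_iff_mem]
  refine ⟨(injective_iff_map_eq_zero _).2 fun x hx => ?_, fun y => ?_⟩
  · obtain ⟨f, rfl⟩ := mkG_surjective _ x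
    rw [map_mkG, mkG_eq_zero_iff] at hx
    refine (mkG_eq_zero_iff _ f).2 fun n => ?_
    have h := hx n
    rw [coe_reesMap, Polynomial.coeff_map] at h
    exact (hmem _ _).1 h
  · obtain ⟨g, rfl⟩ := mkG_surjective _ y
    have key : ∀ n, ∃ a : A, a ∈ I ^ n ∧
        (g : (AdicCompletion I A)[X]).coeff n - algebraMap A _ a ∈ (kerFilt I).F (n + 1) := fun n => by
      obtain ⟨a, ha⟩ := Ideal.Quotient.mk_surjective (AdicCompletion.evalₐ I (n + 1) ((g : (AdicCompletion I A)[X]).coeff n))
      have h1 : (g : (AdicCompletion I A)[X]).coeff n - algebraMap A _ a ∈ (kerFilt I).F (n + 1) := by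
        rw [mem_kerFilt_iff, map_sub, AlgHom.commutes, Ideal.Quotient.algebraMap_eq, ha, sub_self]
      refine ⟨a, (hmem n a).1 ?_, h1⟩
      have := sub_mem (g.2 n) ((kerFilt I).antitone (Nat.le_succ n) h1)
      rwa [sub_sub_cancel] at this
    choose a ha ha' using key
    classical
    let b : ℕ → A := fun n => if n ∈ (g : (AdicCompletion I A)[X]).support then a n else 0
    let p : A[X] := ∑ n ∈ (g : (AdicCompletion I A)[X]).support, monomial n (b n)
    have hp : ∀ n, p.coeff n = b n := fun n => by
      simp only [p, finsetSum_coeff, coeff_monomial, Finset.sum_ite_eq']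
      split_ifs with h
      · rfl
      · exact (if_neg h).symm
    have hpm : p ∈ (FiltBl.IdealFiltration.adic I).rees := fun n => by
      rw [hp]
      by_cases h : n ∈ (g : (AdicCompletion I A)[X]).support
      · simp only [b, if_pos h]; exact ha n
      · simp only [b, if_neg h]; exact zero_mem _
    refine ⟨mkG _ ⟨p, hpm⟩, ?_⟩
    rw [map_mkG, ← sub_eq_zero, ← map_sub, mkG_eq_zero_iff]
    intro n
    show ((reesMap _ ⟨p, hpm⟩ : (kerFilt I).rees) - g : (AdicCompletion I A)[X]).coeff n ∈ _
    rw [coeff_sub, coe_reesMap, Polynomial.coeff_map, hp]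
    by_cases h : n ∈ (g : (AdicCompletion I A)[X]).support
    · simp only [b, if_pos h]
      rw [← neg_sub]; exact neg_mem (ha' n)
    · simp [b, h, Polynomial.notMem_support_iff.1 h]

end Groth.Agent.S16453
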