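import Groth.Statements.S16460
import Mathlib
import Groth.Prelude.Def_AssocGr

set_option autoImplicit false
universe u
open AdicGr

namespace Groth.Agent.S16460


/-- Let A be a commutative ring with a decreasing filtration by ideals A = F₀ ⊇ F₁ ⊇ F₂ ⊇ … satisfying
F_m·F_n ⊆ F_{m+n}, and assume the filtration is separated, ⋂ₙ Fₙ = 0. If the associated graded ring
⊕ₙ Fₙ/Fₙ₊₁ is an integral domain, then A is an integral domain. -/
theorem result (A : Type u) [CommRing A]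
    (𝓕 : FiltBl.IdealFiltration A) (hsep : ⨅ n, 𝓕.F n = ⊥) [IsDomain (AssocGr.GrRing 𝓕)] :
    IsDomain A := by
  classical
  have hdeg : ∀ a : A, a ≠ 0 → ∃ n, a ∈ 𝓕.F n ∧ a ∉ 𝓕.F (n + 1) := by
    intro a ha
    have h : ∃ n, a ∉ 𝓕.F n := by
      by_contra hc
      push Not at hc
      exact ha (by rw [← Submodule.mem_bot A, ← hsep, Submodule.mem_iInf]; exact hc)
    obtain ⟨m, hm⟩ : ∃ m, Nat.find h = m + 1 := by
      refine Nat.exists_eq_succ_of_ne_zero fun h0 => Nat.find_spec h ?_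
      rw [h0, 𝓕.zero_eq]; trivial
    exact ⟨m, not_not.1 (Nat.find_min h (by omega)), hm ▸ Nat.find_spec h⟩
  haveI : Nontrivial A := by
    by_contra hn
    rw [not_nontrivial_iff_subsingleton] at hn
    haveI : Subsingleton A := hn
    haveI : Subsingleton (AssocGr.GrRing 𝓕) := (algebraMap A (AssocGr.GrRing 𝓕)).codomain_trivial
    exact not_subsingleton _ ‹_›
  haveI : NoZeroDivisors A := ⟨fun {a b} hab => by
    by_contra hc
    push Not at hc
    obtain ⟨m, ha, ha'⟩ := hdeg a hc.1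
    obtain ⟨n, hb, hb'⟩ := hdeg b hc.2
    have h := AssocGr.coe_inDeg_mul 𝓕 m n ⟨a, ha⟩ ⟨b, hb⟩
    have h0 : AssocGr.inDeg 𝓕 (m + n) ⟨a * b, 𝓕.mul_le m n (Ideal.mul_mem_mul ha hb)⟩ = 0 :=
      (AssocGr.inDeg_eq_zero_iff 𝓕 _ _).2 (by show a * b ∈ _; rw [hab]; exact Ideal.zero_mem _)
    rw [h0, ZeroMemClass.coe_zero, mul_eq_zero] at h
    rcases h with h | h
    · exact ha' ((AssocGr.inDeg_eq_zero_iff 𝓕 m ⟨a, ha⟩).1 (Submodule.coe_eq_zero.1 h))
    · exact hb' ((AssocGr.inDeg_eq_zero_iff 𝓕 n ⟨b, hb⟩).1 (Submodule.coe_eq_zero.1 h))⟩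
  exact NoZeroDivisors.to_isDomain A

end Groth.Agent.S16460
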