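import Groth.Statements.S16478
import Mathlib
import Groth.Agent.Lib.H8TruncExp

set_option autoImplicit false
universe u
open GaDual

namespace Groth.Agent.S16478

open scoped TensorProduct

/-- Let A be a commutative ring of prime characteristic p and n ≥ 1, and let φ be the comorphism of the
closed immersion α_{p^n} → G_a over A: the bialgebra map from the Hopf algebra of the additive group
(generator t primitive) to A[x]/(x^(p^n)) (x primitive) sending t to x. Then the restriction map on
characters, from those of the additive group over A to those of α_{p^n} over A, is surjective: every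
group-like element of A[x]/(x^(p^n)) is the image under φ of a group-like element of the Hopf
algebra of the additive group. -/
theorem result (p : ℕ) [Fact p.Prime] (A : Type u) [CommRing A] [CharP A p]
    (n : ℕ) (hn : 1 ≤ n) (φ : SekSuwa.A A 0 →ₐc[A] AlphaPn.A p n A) (hφ : φ SekSuwa.A.t = AlphaPn.x p n A)
    (u : AlphaPn.A p n A) (hu : IsGroupLikeElem A u) :
    ∃ g : SekSuwa.A A 0, IsGroupLikeElem A g ∧ φ g = u := by
  classical
  letI := ZMod.algebra A p
  rcases subsingleton_or_nontrivial A with hs | hs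
  · haveI := Module.subsingleton A (AlphaPn.A p n A)
    haveI := Module.subsingleton A (SekSuwa.A A 0)
    haveI := Module.subsingleton A (SekSuwa.A A 0 ⊗[A] SekSuwa.A A 0)
    exact ⟨1, ⟨Subsingleton.elim _ _, Subsingleton.elim _ _⟩, Subsingleton.elim _ _⟩
  obtain ⟨P, rfl⟩ := AlphaPn.mk_surjective p n A u
  set q : Polynomial A := Polynomial.X ^ p ^ n with hq
  set f := P %ₘ q with hf
  have hqm : q.Monic := Polynomial.monic_X_pow _
  have hfu : AlphaPn.mk p n A f = AlphaPn.mk p n A P := by
    have : AlphaPn.mk p n A q = 0 := by rw [hq, map_pow, AlphaPn.mk_X, AlphaPn.x_pow]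
    conv_rhs => rw [← Polynomial.modByMonic_add_div P q]
    rw [map_add, map_mul, this, zero_mul, add_zero]
  rw [← hfu] at hu ⊢
  have hdeg : f.natDegree < p ^ n := by
    have h := Polynomial.natDegree_modByMonic_lt P hqm (fun h1 => by
      have := congrArg Polynomial.natDegree h1
      simp [hq, (Fact.out : p.Prime).ne_zero] at this)
    simpa [hq] using h
  set I := Ideal.span {(MvPolynomial.X 0 ^ p ^ n : MvPolynomial (Fin 2) A), MvPolynomial.X 1 ^ p ^ n}
  let ℓ : Fin 2 → AlphaPn.A p n A →ₐ[A] MvPolynomial (Fin 2) A ⧸ I := fun i =>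
    AlphaPn.lift p n A (Ideal.Quotient.mk I (MvPolynomial.X i)) (by
      rw [← map_pow, Ideal.Quotient.eq_zero_iff_mem]
      fin_cases i
      · exact Ideal.subset_span (Or.inl rfl)
      · exact Ideal.subset_span (Or.inr rfl))
  let Λ := Algebra.TensorProduct.lift (ℓ 0) (ℓ 1) (fun _ _ => Commute.all _ _)
  have hev : ∀ (i : Fin 2), ℓ i (AlphaPn.mk p n A f) =
      Ideal.Quotient.mk I (Polynomial.aeval (MvPolynomial.X i : MvPolynomial (Fin 2) A) f) := by
    intro i
    rw [← AlphaPn.aeval_x, ← Polynomial.aeval_algHom_apply]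
    simp only [ℓ, AlphaPn.lift_x]
    exact (Polynomial.aeval_algHom_apply (Ideal.Quotient.mkₐ A I) _ f)
  have h0 : f.coeff 0 = 1 := by
    have h := hu.counit_eq_one
    rw [← AlphaPn.aeval_x] at h
    have e : CoalgebraStruct.counit (R := A) (Polynomial.aeval (AlphaPn.x p n A) f) =
        Polynomial.aeval ((Bialgebra.counitAlgHom A (AlphaPn.A p n A)) (AlphaPn.x p n A)) f :=
      (Polynomial.aeval_algHom_apply (Bialgebra.counitAlgHom A (AlphaPn.A p n A)) _ f).symm
    rw [e, show (Bialgebra.counitAlgHom A (AlphaPn.A p n A)) (AlphaPn.x p n A) = 0 from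
      AlphaPn.counit_x p n A, ← Polynomial.coeff_zero_eq_aeval_zero'] at h
    exact h
  have hmul : Polynomial.aeval (MvPolynomial.X 0 + MvPolynomial.X 1 : MvPolynomial (Fin 2) A) f -
      Polynomial.aeval (MvPolynomial.X 0 : MvPolynomial (Fin 2) A) f *
        Polynomial.aeval (MvPolynomial.X 1 : MvPolynomial (Fin 2) A) f ∈ I := by
    have h := congrArg Λ hu.comul_eq_tmul_self
    rw [show Λ (AlphaPn.mk p n A f ⊗ₜ[A] AlphaPn.mk p n A f) =
      ℓ 0 (AlphaPn.mk p n A f) * ℓ 1 (AlphaPn.mk p n A f) from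
        Algebra.TensorProduct.lift_tmul _ _ _ _ _, hev, hev, ← map_mul] at h
    have e : Λ (CoalgebraStruct.comul (R := A) (AlphaPn.mk p n A f)) =
        Ideal.Quotient.mk I
          (Polynomial.aeval (MvPolynomial.X 0 + MvPolynomial.X 1 : MvPolynomial (Fin 2) A) f) := by
      rw [← AlphaPn.aeval_x]
      refine (Polynomial.aeval_algHom_apply
        (Λ.comp (Bialgebra.comulAlgHom A (AlphaPn.A p n A))) _ f).symm.trans ?_
      refine Eq.trans ?_ (Polynomial.aeval_algHom_apply (Ideal.Quotient.mkₐ A I) _ f)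
      congr 2
      rw [AlgHom.comp_apply, Bialgebra.comulAlgHom_apply, AlphaPn.comul_x, map_add]
      simp [Λ, ℓ]
    rw [e] at h
    exact Ideal.Quotient.eq.mp h
  obtain ⟨hz, hprod⟩ := H8TruncExp.char_eq_prod p n f hdeg h0 hmul
  let a : ℕ → A := fun i => if i < n then f.coeff (p ^ i) else 0
  have ha : ∀ i, a i ^ p = 0 := by
    intro i
    by_cases hi : i < n
    · simp only [a, hi, if_true]; exact hz i hi
    · simp only [a, hi, if_false, zero_pow (Fact.out : p.Prime).ne_zero]
  have hfa : f = ∏ i ∈ Finset.range n, Polynomial.expand A (p ^ i) (H8TruncExp.expP p (a i)) :=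
    hprod.trans (Finset.prod_congr rfl fun i hi => by simp only [a, Finset.mem_range.mp hi, if_true])
  obtain ⟨-, hchar⟩ := H8TruncExp.prod_isChar p n a ha
  rw [← hfa] at hchar
  refine ⟨Polynomial.aeval SekSuwa.A.t f, ⟨?_, ?_⟩, ?_⟩
  · refine (Polynomial.aeval_algHom_apply (Bialgebra.counitAlgHom A (SekSuwa.A A 0)) _ f).symm.trans ?_
    rw [show (Bialgebra.counitAlgHom A (SekSuwa.A A 0)) SekSuwa.A.t = 0 from SekSuwa.A.counit_t,
      ← Polynomial.coeff_zero_eq_aeval_zero', h0, map_one]
  · refine (Polynomial.aeval_algHom_apply (Bialgebra.comulAlgHom A (SekSuwa.A A 0)) _ f).symm.trans ?_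
    rw [Bialgebra.comulAlgHom_apply, SekSuwa.A.comul_t, zero_smul, add_zero,
      H8TruncExp.general_add hchar]
    rw [show (SekSuwa.A.t : SekSuwa.A A 0) ⊗ₜ[A] (1 : SekSuwa.A A 0) =
        Algebra.TensorProduct.includeLeft (R := A) (S := A) SekSuwa.A.t from rfl,
      show (1 : SekSuwa.A A 0) ⊗ₜ[A] (SekSuwa.A.t : SekSuwa.A A 0) =
        Algebra.TensorProduct.includeRight (R := A) SekSuwa.A.t from rfl,
      Polynomial.aeval_algHom_apply, Polynomial.aeval_algHom_apply]
    simp [Algebra.TensorProduct.tmul_mul_tmul]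
  · rw [← AlphaPn.aeval_x, ← hφ]
    exact (Polynomial.aeval_algHom_apply (φ : SekSuwa.A A 0 →ₐ[A] AlphaPn.A p n A) _ f).symm

end Groth.Agent.S16478
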