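import Groth.Statements.S16498
import Mathlib

set_option autoImplicit false
set_option backward.isDefEq.respectTransparency.types false
set_option maxHeartbeats 1000000
set_option linter.all false
universe u
open Curves

namespace Groth.Agent.S16498
open Groth.Agent

/-- Let k be a field of odd characteristic p, g ≤ p a natural number, f ∈ k[x] of degree at most 2g + 2,
and α ∈ k. Write f^((p-1)/2) = Σ_l c_l x^l and f(x + α)^((p-1)/2) = Σ_l d_l x^l, and form the g × g
Cartier–Manin matrices (c_{ip-j}) and (d_{ip-j}), indices i, j = 1, …, g (below written with i, j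
ranging over Fin g, so that the entry at (i, j) is the coefficient of x^((i+1)p-(j+1))). Then
(d_{ip-j}) = L · (c_{ip-j}) · U with L_{i,I} = binom(I-1, i-1) α^((I-i)p) and U_{J,j} = binom(p-J,
p-j) α^(j-J); both L and U are unitriangular since a binomial coefficient vanishes when its lower
index exceeds its upper index. (The source works over a perfect field, with f separable of degree 2g
+ 2 and α ∈ k^* a root of f, hypotheses this identity does not use.) -/
theorem result (k : Type u) [Field k] (p : ℕ) [Fact p.Prime] (hp : p ≠ 2) [CharP k p]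
    (g : ℕ) (hg : g ≤ p) (f : Polynomial k) (hf : f.natDegree ≤ 2 * g + 2) (α : k) :
    (Matrix.of fun i j : Fin g =>
        ((f.comp (Polynomial.X + Polynomial.C α)) ^ ((p - 1) / 2)).coeff (((i : ℕ) + 1) * p - ((j : ℕ) + 1))) =
      (Matrix.of fun i I : Fin g => (((I : ℕ).choose (i : ℕ) : ℕ) : k) * α ^ (((I : ℕ) - (i : ℕ)) * p)) *
        (Matrix.of fun i j : Fin g => (f ^ ((p - 1) / 2)).coeff (((i : ℕ) + 1) * p - ((j : ℕ) + 1))) *
        (Matrix.of fun J j : Fin g => (((p - ((J : ℕ) + 1)).choose (p - ((j : ℕ) + 1)) : ℕ) : k) * α ^ ((j : ℕ) - (J : ℕ))) := by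
    classical
    have hp' : p.Prime := Fact.out
    set m := (p - 1) / 2 with hm
    set h : Polynomial k := f ^ m with hh
    have hdeg : h.natDegree ≤ (g + 1) * (p - 1) := by
      have h1 := Polynomial.natDegree_pow_le (p := f) (n := m)
      have h2 : 2 * m ≤ p - 1 := by omega
      calc h.natDegree ≤ m * f.natDegree := h1
        _ ≤ m * (2 * g + 2) := Nat.mul_le_mul_left _ hf
        _ = (g + 1) * (2 * m) := by ring
        _ ≤ (g + 1) * (p - 1) := Nat.mul_le_mul_left _ h2
    have hcomp : (f.comp (Polynomial.X + Polynomial.C α)) ^ m = h.comp (Polynomial.X + Polynomial.C α) :=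
      (Polynomial.pow_comp _ _ _).symm
    let A : Matrix (Fin g) (Fin g) k := Matrix.of fun i l => ((l : ℕ).choose i : k) * α ^ (p * ((l : ℕ) - i))
    let B : Matrix (Fin g) (Fin g) k := Matrix.of fun t j => ((j : ℕ).choose t : k) * (-α) ^ ((j : ℕ) - t)
    let M : Matrix (Fin g) (Fin g) k := Matrix.of fun i j : Fin g => h.coeff (((i : ℕ) + 1) * p - ((j : ℕ) + 1))
    have key : ∀ (q : Polynomial k) (i : Fin g), q.natDegree + 1 < (g + 1) * p →
        (q.comp (Polynomial.X + Polynomial.C α)).coeff (((i : ℕ) + 1) * p - 1) =
          ∑ l : Fin g, A i l * q.coeff (((l : ℕ) + 1) * p - 1) := by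
      intro q i hq
      have hqr : q.natDegree < (g + 1) * p - 1 := by omega
      rw [Polynomial.comp, Polynomial.eval₂_eq_sum_range' _ hqr, Polynomial.finsetSum_coeff]
      simp only [Polynomial.coeff_C_mul, Polynomial.coeff_X_add_C_pow]
      have hp1 : 1 ≤ p := hp'.one_le
      rw [← Finset.sum_subset (s₁ := (Finset.univ : Finset (Fin g)).image fun l : Fin g => ((l : ℕ) + 1) * p - 1)]
      · rw [Finset.sum_image]
        · refine Finset.sum_congr rfl fun l _ => ?_
          have e1 : ((l : ℕ) + 1) * p - 1 - (((i : ℕ) + 1) * p - 1) = p * ((l : ℕ) - i) := by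
            rw [Nat.sub_sub_sub_cancel_right (Nat.one_le_iff_ne_zero.2 (by positivity)),
              ← Nat.sub_mul, Nat.add_sub_add_right, mul_comm]
          have e2 : ((((l : ℕ) + 1) * p - 1).choose (((i : ℕ) + 1) * p - 1) : k) = ((l : ℕ).choose i : k) := by
            rw [CharP.natCast_eq_natCast k p]
            have hdiv : ∀ n : ℕ, ((n + 1) * p - 1) % p = p - 1 ∧ ((n + 1) * p - 1) / p = n := by
              intro n
              have : (n + 1) * p - 1 = (p - 1) + p * n := by rw [add_mul, one_mul, mul_comm]; omega
              rw [this, Nat.add_mul_mod_self_left, Nat.add_mul_div_left _ _ hp'.pos, Nat.mod_eq_of_lt (by omega), Nat.div_eq_of_lt (by omega), zero_add]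
              exact ⟨rfl, rfl⟩
            refine (Choose.choose_modEq_choose_mod_mul_choose_div_nat).trans ?_
            rw [(hdiv _).1, (hdiv _).1, (hdiv _).2, (hdiv _).2, Nat.choose_self, one_mul]
          rw [e1, e2]
          simp only [A, Matrix.of_apply]
          ring
        · intro a _ b _ hab
          simp only at hab
          have : ((a : ℕ) + 1) * p = ((b : ℕ) + 1) * p := by
            have h1 : 1 ≤ ((a : ℕ) + 1) * p := Nat.one_le_iff_ne_zero.2 (by positivity)
            have h2 : 1 ≤ ((b : ℕ) + 1) * p := Nat.one_le_iff_ne_zero.2 (by positivity)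
            omega
          exact Fin.ext (Nat.succ_injective (Nat.eq_of_mul_eq_mul_right hp'.pos this))
      · intro n hn
        obtain ⟨l, -, rfl⟩ := Finset.mem_image.1 hn
        rw [Finset.mem_range]
        have : ((l : ℕ) + 1) * p < (g + 1) * p := Nat.mul_lt_mul_of_pos_right (by omega) hp'.pos
        have h1 : 1 ≤ ((l : ℕ) + 1) * p := Nat.one_le_iff_ne_zero.2 (by positivity)
        omega
      · intro n hn hn'
        rw [Finset.mem_range] at hn
        have hnp : n % p ≠ p - 1 := by
          intro he
          have hd := Nat.mod_add_div n p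
          have hmul : (n / p + 1) * p = p * (n / p) + p := by ring
          have hlt : n / p < g := by
            by_contra hc
            have : (g + 1) * p ≤ (n / p + 1) * p := Nat.mul_le_mul_right _ (by omega)
            omega
          exact hn' (Finset.mem_image.2 ⟨⟨n / p, hlt⟩, Finset.mem_univ _, by simp only; omega⟩)
        have : ((n.choose (((i : ℕ) + 1) * p - 1) : ℕ) : k) = 0 := by
          rw [← Nat.cast_zero, CharP.natCast_eq_natCast k p]
          refine (Choose.choose_modEq_choose_mod_mul_choose_div_nat).trans ?_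
          have : ((i : ℕ) + 1) * p - 1 = (p - 1) + p * i := by rw [add_mul, one_mul, mul_comm]; omega
          rw [this, Nat.add_mul_mod_self_left, Nat.mod_eq_of_lt (show p - 1 < p by omega),
            Nat.choose_eq_zero_of_lt (by have := Nat.mod_lt n hp'.pos; omega), zero_mul]
        rw [this, mul_zero, mul_zero]
    have hmain : (Matrix.of fun i j : Fin g =>
        ((f.comp (Polynomial.X + Polynomial.C α)) ^ m).coeff (((i : ℕ) + 1) * p - ((j : ℕ) + 1))) = A * M * B := by
      ext i j
      have hXj : (Polynomial.X : Polynomial k) ^ (j : ℕ) * h.comp (Polynomial.X + Polynomial.C α) =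
          ((Polynomial.X + Polynomial.C (-α)) ^ (j : ℕ) * h).comp (Polynomial.X + Polynomial.C α) := by
        rw [Polynomial.mul_comp, Polynomial.pow_comp (Polynomial.X + Polynomial.C (-α)), Polynomial.add_comp, Polynomial.X_comp, Polynomial.C_comp, map_neg,
          add_neg_cancel_right]
      have hle : ∀ (a b : Fin g), (b : ℕ) + 1 ≤ ((a : ℕ) + 1) * p := fun a b =>
        le_trans (le_trans b.2 hg) (Nat.le_mul_of_pos_left _ (Nat.succ_pos _))
      have hsh : ∀ (q : Polynomial k) (a b : Fin g), q.coeff (((a : ℕ) + 1) * p - ((b : ℕ) + 1)) =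
          (Polynomial.X ^ (b : ℕ) * q).coeff (((a : ℕ) + 1) * p - 1) := by
        intro q a b
        rw [Polynomial.coeff_X_pow_mul', if_pos (by have := hle a b; omega)]
        congr 1
        omega
      rw [Matrix.of_apply, hcomp, hsh, hXj, key _ i]
      · rw [Matrix.mul_assoc, Matrix.mul_apply]
        refine Finset.sum_congr rfl fun l _ => ?_
        congr 1
        rw [Matrix.mul_apply, Polynomial.coeff_mul]
        have hexp : (Polynomial.X + Polynomial.C (-α)) ^ (j : ℕ) * h =
            ∑ t : Fin g, Polynomial.C (B t j) * (Polynomial.X ^ (t : ℕ) * h) := by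
          simp_rw [← mul_assoc, ← Finset.sum_mul]
          congr 1
          ext c
          rw [Polynomial.coeff_X_add_C_pow, Polynomial.finsetSum_coeff]
          simp only [Polynomial.coeff_C_mul, Polynomial.coeff_X_pow]
          by_cases hc : c < g
          · rw [Finset.sum_eq_single (⟨c, hc⟩ : Fin g)]
            · simp only [B, Matrix.of_apply, if_true, mul_one]; ring
            · intro b _ hb
              rw [if_neg (fun e => hb (Fin.ext e.symm)), mul_zero]
            · intro hb; exact absurd (Finset.mem_univ _) hb
          · rw [Nat.choose_eq_zero_of_lt (by omega : (j : ℕ) < c), Nat.cast_zero, mul_zero]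
            refine (Finset.sum_eq_zero fun b _ => ?_).symm
            rw [if_neg (by omega), mul_zero]
        rw [← Polynomial.coeff_mul, hexp, Polynomial.finsetSum_coeff]
        refine Finset.sum_congr rfl fun t _ => ?_
        rw [Polynomial.coeff_C_mul, mul_comm, ← hsh]
        rfl
      · refine lt_of_le_of_lt (Nat.add_le_add_right (Polynomial.natDegree_mul_le.trans
          (add_le_add (Polynomial.natDegree_pow_le.trans (Nat.mul_le_mul_left _ (Polynomial.natDegree_X_add_C (-α)).le)) hdeg)) 1) ?_
        have : (g + 1) * p = (g + 1) * (p - 1) + (g + 1) := by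
          rw [← Nat.mul_succ, Nat.succ_eq_add_one, Nat.sub_add_cancel hp'.one_le]
        omega
    rw [hmain]
    congr 1
    · congr 1
      ext i l
      simp only [A, Matrix.of_apply, mul_comm p]
    · ext J j
      simp only [B, Matrix.of_apply]
      by_cases hJj : (J : ℕ) ≤ j
      · obtain ⟨d, hd⟩ := Nat.exists_eq_add_of_le hJj
        have hjp : (j : ℕ) + 1 ≤ p := le_trans j.2 hg
        have hdp : d < p := by omega
        have hfac : ((d.factorial : ℕ) : k) ≠ 0 := by
          rw [Ne, CharP.cast_eq_zero_iff k p, hp'.dvd_factorial]; omega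
        have hc : (((p - ((J : ℕ) + 1)).choose (p - ((j : ℕ) + 1)) : ℕ) : k) = (-1) ^ d * (((j : ℕ).choose J : ℕ) : k) := by
          have e1 : (p - ((J : ℕ) + 1)).choose (p - ((j : ℕ) + 1)) = (p - ((J : ℕ) + 1)).choose d :=
            Nat.choose_symm_of_eq_add (by omega)
          have e2 : (j : ℕ).choose J = ((J : ℕ) + d).choose d := by
            rw [hd]; exact Nat.choose_symm_add
          apply mul_left_cancel₀ hfac
          rw [e1, e2, ← Nat.cast_mul, ← Nat.descFactorial_eq_factorial_mul_choose, mul_left_comm, ← Nat.cast_mul,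
            ← Nat.descFactorial_eq_factorial_mul_choose, Nat.descFactorial_eq_prod_range, Nat.descFactorial_eq_prod_range,
            Nat.cast_prod, Nat.cast_prod]
          have e3 : (-1 : k) ^ d = ∏ _t ∈ Finset.range d, (-1 : k) := by rw [Finset.prod_const, Finset.card_range]
          rw [e3, ← Finset.prod_range_reflect (fun t => ((((J : ℕ) + d - t : ℕ)) : k)) d, ← Finset.prod_mul_distrib]
          refine Finset.prod_congr rfl fun t ht => ?_
          rw [Finset.mem_range] at ht
          have h0 : (((p - ((J : ℕ) + 1) - t) + ((J : ℕ) + d - (d - 1 - t)) : ℕ) : k) = 0 := by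
            rw [show (p - ((J : ℕ) + 1) - t) + ((J : ℕ) + d - (d - 1 - t)) = p by omega, CharP.cast_eq_zero]
          rw [Nat.cast_add] at h0
          linear_combination h0
        rw [hc, hd, Nat.add_sub_cancel_left]
        rw [neg_pow α d]
        ring
      · rw [Nat.choose_eq_zero_of_lt (by omega : (j : ℕ) < J), Nat.choose_eq_zero_of_lt
          (by have := le_trans J.2 hg; omega : p - ((J : ℕ) + 1) < p - ((j : ℕ) + 1))]
        simp

end Groth.Agent.S16498
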