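import Groth.Statements.S16499
import Mathlib

set_option autoImplicit false
set_option backward.isDefEq.respectTransparency.types false
set_option maxHeartbeats 1000000
set_option linter.all false
universe u
open Curves

namespace Groth.Agent.S16499
open Groth.Agent

/-- Let k be a field of odd characteristic p, g ≤ p a natural number, f ∈ k[x] of degree at most 2g + 2,
and α ∈ k. Write f^((p-1)/2) = Σ_l c_l x^l and f(x + α)^((p-1)/2) = Σ_l d_l x^l. Then the g × g
Cartier–Manin matrices (c_{ip-j}) and (d_{ip-j}), indices i, j = 1, …, g (below indexed by Fin g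
with entry at (i, j) the coefficient of x^((i+1)p-(j+1))), have equal determinants: whether the
Cartier–Manin determinant of y^2 = f(x) vanishes does not depend on translating x. (The source works
over a perfect field, with f separable of degree 2g + 2 and α ∈ k^* a root of f, hypotheses this
identity does not use.) -/
theorem result (k : Type u) [Field k] (p : ℕ) [Fact p.Prime] (hp : p ≠ 2) [CharP k p]
    (g : ℕ) (hg : g ≤ p) (f : Polynomial k) (hf : f.natDegree ≤ 2 * g + 2) (α : k) :
    (Matrix.of fun i j : Fin g =>
        ((f.comp (Polynomial.X + Polynomial.C α)) ^ ((p - 1) / 2)).coeff (((i : ℕ) + 1) * p - ((j : ℕ) + 1))).det =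
      (Matrix.of fun i j : Fin g => (f ^ ((p - 1) / 2)).coeff (((i : ℕ) + 1) * p - ((j : ℕ) + 1))).det := by
    classical
    have hp' : p.Prime := Fact.out
    set m := (p - 1) / 2 with hm
    set h : Polynomial k := f ^ m with hh
    have hdeg : h.natDegree ≤ (g + 1) * (p - 1) := by
      have h1 := Polynomial.natDegree_pow_le (p := f) (n := m)
      have h2 : 2 * m ≤ p - 1 := by omega
      calc h.natDegree ≤ m * f.natDegree := h1
        _ ≤ m * (2 * g + 2) := Nat.mul_le_mul_left _ hf
        _ = (g + 1) * (2 * m) := by ring
        _ ≤ (g + 1) * (p - 1) := Nat.mul_le_mul_left _ h2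
    have hcomp : (f.comp (Polynomial.X + Polynomial.C α)) ^ m = h.comp (Polynomial.X + Polynomial.C α) :=
      (Polynomial.pow_comp _ _ _).symm
    let A : Matrix (Fin g) (Fin g) k := Matrix.of fun i l => ((l : ℕ).choose i : k) * α ^ (p * ((l : ℕ) - i))
    let B : Matrix (Fin g) (Fin g) k := Matrix.of fun t j => ((j : ℕ).choose t : k) * (-α) ^ ((j : ℕ) - t)
    let M : Matrix (Fin g) (Fin g) k := Matrix.of fun i j : Fin g => h.coeff (((i : ℕ) + 1) * p - ((j : ℕ) + 1))
    have key : ∀ (q : Polynomial k) (i : Fin g), q.natDegree + 1 < (g + 1) * p →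
        (q.comp (Polynomial.X + Polynomial.C α)).coeff (((i : ℕ) + 1) * p - 1) =
          ∑ l : Fin g, A i l * q.coeff (((l : ℕ) + 1) * p - 1) := by
      intro q i hq
      have hqr : q.natDegree < (g + 1) * p - 1 := by omega
      rw [Polynomial.comp, Polynomial.eval₂_eq_sum_range' _ hqr, Polynomial.finsetSum_coeff]
      simp only [Polynomial.coeff_C_mul, Polynomial.coeff_X_add_C_pow]
      have hp1 : 1 ≤ p := hp'.one_le
      rw [← Finset.sum_subset (s₁ := (Finset.univ : Finset (Fin g)).image fun l : Fin g => ((l : ℕ) + 1) * p - 1)]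
      · rw [Finset.sum_image]
        · refine Finset.sum_congr rfl fun l _ => ?_
          have e1 : ((l : ℕ) + 1) * p - 1 - (((i : ℕ) + 1) * p - 1) = p * ((l : ℕ) - i) := by
            rw [Nat.sub_sub_sub_cancel_right (Nat.one_le_iff_ne_zero.2 (by positivity)),
              ← Nat.sub_mul, Nat.add_sub_add_right, mul_comm]
          have e2 : ((((l : ℕ) + 1) * p - 1).choose (((i : ℕ) + 1) * p - 1) : k) = ((l : ℕ).choose i : k) := by
            rw [CharP.natCast_eq_natCast k p]
            have hdiv : ∀ n : ℕ, ((n + 1) * p - 1) % p = p - 1 ∧ ((n + 1) * p - 1) / p = n := by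
              intro n
              have : (n + 1) * p - 1 = (p - 1) + p * n := by rw [add_mul, one_mul, mul_comm]; omega
              rw [this, Nat.add_mul_mod_self_left, Nat.add_mul_div_left _ _ hp'.pos, Nat.mod_eq_of_lt (by omega), Nat.div_eq_of_lt (by omega), zero_add]
              exact ⟨rfl, rfl⟩
            refine (Choose.choose_modEq_choose_mod_mul_choose_div_nat).trans ?_
            rw [(hdiv _).1, (hdiv _).1, (hdiv _).2, (hdiv _).2, Nat.choose_self, one_mul]
          rw [e1, e2]
          simp only [A, Matrix.of_apply]
          ring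
        · intro a _ b _ hab
          simp only at hab
          have : ((a : ℕ) + 1) * p = ((b : ℕ) + 1) * p := by
            have h1 : 1 ≤ ((a : ℕ) + 1) * p := Nat.one_le_iff_ne_zero.2 (by positivity)
            have h2 : 1 ≤ ((b : ℕ) + 1) * p := Nat.one_le_iff_ne_zero.2 (by positivity)
            omega
          exact Fin.ext (Nat.succ_injective (Nat.eq_of_mul_eq_mul_right hp'.pos this))
      · intro n hn
        obtain ⟨l, -, rfl⟩ := Finset.mem_image.1 hn
        rw [Finset.mem_range]
        have : ((l : ℕ) + 1) * p < (g + 1) * p := Nat.mul_lt_mul_of_pos_right (by omega) hp'.pos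
        have h1 : 1 ≤ ((l : ℕ) + 1) * p := Nat.one_le_iff_ne_zero.2 (by positivity)
        omega
      · intro n hn hn'
        rw [Finset.mem_range] at hn
        have hnp : n % p ≠ p - 1 := by
          intro he
          have hd := Nat.mod_add_div n p
          have hmul : (n / p + 1) * p = p * (n / p) + p := by ring
          have hlt : n / p < g := by
            by_contra hc
            have : (g + 1) * p ≤ (n / p + 1) * p := Nat.mul_le_mul_right _ (by omega)
            omega
          exact hn' (Finset.mem_image.2 ⟨⟨n / p, hlt⟩, Finset.mem_univ _, by simp only; omega⟩)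
        have : ((n.choose (((i : ℕ) + 1) * p - 1) : ℕ) : k) = 0 := by
          rw [← Nat.cast_zero, CharP.natCast_eq_natCast k p]
          refine (Choose.choose_modEq_choose_mod_mul_choose_div_nat).trans ?_
          have : ((i : ℕ) + 1) * p - 1 = (p - 1) + p * i := by rw [add_mul, one_mul, mul_comm]; omega
          rw [this, Nat.add_mul_mod_self_left, Nat.mod_eq_of_lt (show p - 1 < p by omega),
            Nat.choose_eq_zero_of_lt (by have := Nat.mod_lt n hp'.pos; omega), zero_mul]
        rw [this, mul_zero, mul_zero]
    have hmain : (Matrix.of fun i j : Fin g =>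
        ((f.comp (Polynomial.X + Polynomial.C α)) ^ m).coeff (((i : ℕ) + 1) * p - ((j : ℕ) + 1))) = A * M * B := by
      ext i j
      have hXj : (Polynomial.X : Polynomial k) ^ (j : ℕ) * h.comp (Polynomial.X + Polynomial.C α) =
          ((Polynomial.X + Polynomial.C (-α)) ^ (j : ℕ) * h).comp (Polynomial.X + Polynomial.C α) := by
        rw [Polynomial.mul_comp, Polynomial.pow_comp (Polynomial.X + Polynomial.C (-α)), Polynomial.add_comp, Polynomial.X_comp, Polynomial.C_comp, map_neg,
          add_neg_cancel_right]
      have hle : ∀ (a b : Fin g), (b : ℕ) + 1 ≤ ((a : ℕ) + 1) * p := fun a b =>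
        le_trans (le_trans b.2 hg) (Nat.le_mul_of_pos_left _ (Nat.succ_pos _))
      have hsh : ∀ (q : Polynomial k) (a b : Fin g), q.coeff (((a : ℕ) + 1) * p - ((b : ℕ) + 1)) =
          (Polynomial.X ^ (b : ℕ) * q).coeff (((a : ℕ) + 1) * p - 1) := by
        intro q a b
        rw [Polynomial.coeff_X_pow_mul', if_pos (by have := hle a b; omega)]
        congr 1
        omega
      rw [Matrix.of_apply, hcomp, hsh, hXj, key _ i]
      · rw [Matrix.mul_assoc, Matrix.mul_apply]
        refine Finset.sum_congr rfl fun l _ => ?_
        congr 1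
        rw [Matrix.mul_apply, Polynomial.coeff_mul]
        have hexp : (Polynomial.X + Polynomial.C (-α)) ^ (j : ℕ) * h =
            ∑ t : Fin g, Polynomial.C (B t j) * (Polynomial.X ^ (t : ℕ) * h) := by
          simp_rw [← mul_assoc, ← Finset.sum_mul]
          congr 1
          ext c
          rw [Polynomial.coeff_X_add_C_pow, Polynomial.finsetSum_coeff]
          simp only [Polynomial.coeff_C_mul, Polynomial.coeff_X_pow]
          by_cases hc : c < g
          · rw [Finset.sum_eq_single (⟨c, hc⟩ : Fin g)]
            · simp only [B, Matrix.of_apply, if_true, mul_one]; ring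
            · intro b _ hb
              rw [if_neg (fun e => hb (Fin.ext e.symm)), mul_zero]
            · intro hb; exact absurd (Finset.mem_univ _) hb
          · rw [Nat.choose_eq_zero_of_lt (by omega : (j : ℕ) < c), Nat.cast_zero, mul_zero]
            refine (Finset.sum_eq_zero fun b _ => ?_).symm
            rw [if_neg (by omega), mul_zero]
        rw [← Polynomial.coeff_mul, hexp, Polynomial.finsetSum_coeff]
        refine Finset.sum_congr rfl fun t _ => ?_
        rw [Polynomial.coeff_C_mul, mul_comm, ← hsh]
        rfl
      · refine lt_of_le_of_lt (Nat.add_le_add_right (Polynomial.natDegree_mul_le.trans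
          (add_le_add (Polynomial.natDegree_pow_le.trans (Nat.mul_le_mul_left _ (Polynomial.natDegree_X_add_C (-α)).le)) hdeg)) 1) ?_
        have : (g + 1) * p = (g + 1) * (p - 1) + (g + 1) := by
          rw [← Nat.mul_succ, Nat.succ_eq_add_one, Nat.sub_add_cancel hp'.one_le]
        omega
    rw [hmain, Matrix.det_mul, Matrix.det_mul]
    have hA : A.det = 1 := by
      rw [Matrix.det_of_upperTriangular]
      · simp [A]
      · intro i l hil
        have hil' : (l : ℕ) < i := hil
        simp [A, Nat.choose_eq_zero_of_lt hil']
    have hB : B.det = 1 := by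
      rw [Matrix.det_of_upperTriangular]
      · simp [B]
      · intro i l hil
        have hil' : (l : ℕ) < i := hil
        simp [B, Nat.choose_eq_zero_of_lt hil']
    rw [hA, hB, one_mul, mul_one]

end Groth.Agent.S16499
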