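import Groth.Statements.S16519
import Mathlib

set_option autoImplicit false
open CubicSurf

namespace Groth.Agent.S16519

/-- Bounded vectors with prescribed sum and sum of squares. -/
def cand : (k : ℕ) → ℤ → ℕ → Finset (Fin k → ℤ)
  | 0, s, q => if s = 0 ∧ q = 0 then {fun i => i.elim0} else ∅
  | k + 1, s, q => (({-4, -3, -2, -1, 0, 1, 2, 3, 4} : Finset ℤ).filter fun b => b.natAbs ^ 2 ≤ q).biUnion
      fun b => (cand k (s - b) (q - b.natAbs ^ 2)).image (Fin.cons b)

theorem mem_cand : ∀ (k : ℕ) (s : ℤ) (q : ℕ), q ≤ 24 → ∀ v : Fin k → ℤ,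
    v ∈ cand k s q ↔ (∑ i, v i = s ∧ ∑ i, v i ^ 2 = (q : ℤ))
  | 0, s, q, _, v => by
    have hv : v = fun i => i.elim0 := funext fun i => i.elim0
    subst hv
    simp only [cand, Finset.univ_eq_empty, Finset.sum_empty]
    split_ifs with h
    · simp [h.1, h.2]
    · simp only [Finset.notMem_empty, false_iff]
      exact fun h' => h ⟨h'.1.symm, by exact_mod_cast h'.2.symm⟩
  | k + 1, s, q, hq, v => by
    simp only [cand, Finset.mem_biUnion, Finset.mem_filter, Finset.mem_image, Fin.sum_univ_succ]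
    constructor
    · rintro ⟨b, ⟨-, hb⟩, w, hw, rfl⟩
      obtain ⟨h1, h2⟩ := (mem_cand k _ _ (by omega) w).1 hw
      simp only [Fin.cons_zero, Fin.cons_succ, h1, h2]
      refine ⟨by ring, ?_⟩
      rw [Nat.cast_sub hb, Nat.cast_pow, Int.natAbs_sq]; ring
    · rintro ⟨h1, h2⟩
      have hpos : (0 : ℤ) ≤ ∑ i : Fin k, v i.succ ^ 2 := Finset.sum_nonneg fun i _ => sq_nonneg _
      have hb : (v 0).natAbs ^ 2 ≤ q := by
        zify; rw [sq_abs]; linarith
      have hb4 : -4 ≤ v 0 ∧ v 0 ≤ 4 := by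
        have : (v 0) ^ 2 ≤ 24 := by
          have : (q : ℤ) ≤ 24 := by exact_mod_cast hq
          linarith
        constructor <;> nlinarith
      refine ⟨v 0, ⟨?_, hb⟩, fun i => v i.succ, (mem_cand k _ _ (by omega) _).2 ⟨by linarith, ?_⟩, Fin.cons_self_tail v⟩
      · obtain ⟨l, u⟩ := hb4
        interval_cases (v 0) <;> decide
      · rw [Nat.cast_sub hb, Nat.cast_pow, Int.natAbs_sq]; linarith

/-- On a smooth cubic surface there are exactly 72 divisor classes L with L² = 1 and L · K = −3. Stated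
in the lattice ℤ^{1,6} with basis l, e_1, …, e_6 (l² = 1, e_i² = −1, K = −3l + Σ e_i): the integer
vectors (a, b) ∈ ℤ × ℤ^6, standing for a·l − Σ b_i e_i, with 3a − Σ b_i = 3 and a² − Σ b_i² = 1 form
a set of exactly 72 elements. -/
theorem result :
    {p : ℤ × (Fin 6 → ℤ) | 3 * p.1 - (Finset.univ.sum fun i => p.2 i) = 3 ∧
        p.1 ^ 2 - (Finset.univ.sum fun i => p.2 i ^ 2) = 1}.ncard = 72 := by
  let T : Finset (ℤ × (Fin 6 → ℤ)) := ({1, 2, 3, 4, 5} : Finset ℕ).biUnion fun a =>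
    (cand 6 (3 * (a : ℤ) - 3) (a ^ 2 - 1)).image fun v => ((a : ℤ), v)
  suffices H : {p : ℤ × (Fin 6 → ℤ) | 3 * p.1 - (Finset.univ.sum fun i => p.2 i) = 3 ∧
      p.1 ^ 2 - (Finset.univ.sum fun i => p.2 i ^ 2) = 1} = (T : Set _) by
    rw [H, Set.ncard_coe_finset]
    decide +kernel
  ext ⟨a, v⟩
  simp only [Set.mem_setOf_eq, Finset.mem_coe, T, Finset.mem_biUnion, Finset.mem_image, Prod.mk.injEq]
  constructor
  · rintro ⟨h1, h2⟩
    have hcs : (∑ i, v i) ^ 2 ≤ 6 * ∑ i, v i ^ 2 := by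
      have := sq_sum_le_card_mul_sum_sq (s := (Finset.univ : Finset (Fin 6))) (f := v)
      simpa using this
    have ha1 : 1 ≤ a := by nlinarith
    have ha5 : a ≤ 5 := by nlinarith
    obtain ⟨n, rfl⟩ : ∃ n : ℕ, a = n := ⟨a.toNat, by omega⟩
    have hn5 : n ≤ 5 := by omega
    have hn1 : 1 ≤ n := by omega
    refine ⟨n, by interval_cases n <;> decide, v, (mem_cand 6 _ _ (by have := Nat.pow_le_pow_left hn5 2; omega) v).2 ⟨by linarith, ?_⟩, rfl, rfl⟩
    rw [Nat.cast_sub (Nat.one_le_pow _ _ (by omega))]; push_cast; linarith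
  · rintro ⟨n, hn, w, hw, rfl, rfl⟩
    simp only [Finset.mem_insert, Finset.mem_singleton] at hn
    have hn5 : n ≤ 5 := by omega
    obtain ⟨h1, h2⟩ := (mem_cand 6 _ _ (by have := Nat.pow_le_pow_left hn5 2; omega) w).1 hw
    rw [Nat.cast_sub (Nat.one_le_pow _ _ (by omega))] at h2
    push_cast at h2
    exact ⟨by linarith, by linarith⟩

end Groth.Agent.S16519
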