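import Groth.Agent.Lib.LGenSection
import Groth.Agent.Lib.LAmple
import Mathlib

set_option autoImplicit false
universe u
open CategoryTheory Limits AlgebraicGeometry Opposite TopologicalSpace

namespace Groth.Agent.S1664

open Groth.Agent.LQcoh Groth.Agent.LInv

theorem exists_product {X : Scheme.{u}} (T : List (Σ L : X.Modules, (Coh.structureModule X ⟶ L)))
    (hT : ∀ q ∈ T, PicF.IsInvertible q.1 ∧ (∀ x, ∃ t : Coh.structureModule X ⟶ q.1, x ∈ CohB1.genLocus _ t) ∧
      IsAffineOpen (CohB1.genLocus _ q.2)) :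
    ∃ M : X.Modules, PicF.IsInvertible M ∧ (∀ x, ∃ t : Coh.structureModule X ⟶ M, x ∈ CohB1.genLocus _ t) ∧
      ∀ q ∈ T, ∀ x ∈ CohB1.genLocus _ q.2, ∃ t : Coh.structureModule X ⟶ M,
        x ∈ CohB1.genLocus _ t ∧ IsAffineOpen (CohB1.genLocus _ t) := by
  induction T with
  | nil => exact ⟨Coh.structureModule X, isInvertible_structureModule X,
      fun x => ⟨𝟙 _, (genLocus_one X).ge (Set.mem_univ x)⟩, fun q hq => absurd hq (List.not_mem_nil)⟩
  | cons a T ih =>
    obtain ⟨M, hM, hgen, hT'⟩ := ih fun q hq => hT q (List.mem_cons_of_mem _ hq)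
    obtain ⟨ha, hagen, haff⟩ := hT a List.mem_cons_self
    refine ⟨CohB1.tensorMod M a.1, isInvertible_tensorMod hM ha, fun x => ?_, fun q hq x hx => ?_⟩
    · obtain ⟨t, ht⟩ := hgen x
      obtain ⟨t', ht'⟩ := hagen x
      exact ⟨SecTwist.tmulHom t t', (genLocus_tmulHom hM ha t t').ge ⟨ht, ht'⟩⟩
    · rcases List.mem_cons.1 hq with rfl | hq
      · obtain ⟨t, ht⟩ := hgen x
        refine ⟨SecTwist.tmulHom t q.2, (genLocus_tmulHom hM ha t q.2).ge ⟨ht, hx⟩, ?_⟩
        rw [genLocus_tmulHom hM ha]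
        exact LAmple.isAffineOpen_genLocus_inf hM t haff
      · obtain ⟨t, ht, htaff⟩ := hT' q hq x hx
        obtain ⟨t', ht'⟩ := hagen x
        refine ⟨SecTwist.tmulHom t t', (genLocus_tmulHom hM ha t t').ge ⟨ht, ht'⟩, ?_⟩
        rw [genLocus_tmulHom hM ha, inf_comm]
        exact LAmple.isAffineOpen_genLocus_inf ha t' htaff

/-- Let X be quasi-compact. Suppose every point of X lies in the locus where some global section s of
some globally generated invertible module L generates L, with that locus affine. Then X has an ample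
invertible module. -/
theorem result (X : Scheme.{u}) [CompactSpace X]
    (h : ∀ x : X, ∃ (L : X.Modules) (s : Coh.structureModule X ⟶ L), PicF.IsInvertible L ∧ Curv2.IsGloballyGenerated L ∧
      x ∈ CohB1.genLocus L s ∧ IsAffineOpen (CohB1.genLocus L s)) :
    ∃ M : X.Modules, CohB1.IsAmple M := by
  choose L s hL hg hx ha using h
  obtain ⟨T, hT⟩ := isCompact_univ.elim_finite_subcover (fun x : X => (CohB1.genLocus _ (s x) : Set X))
    (fun x => (CohB1.genLocus _ (s x)).2) (fun x _ => Set.mem_iUnion.2 ⟨x, hx x⟩)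
  obtain ⟨M, hM, -, hM'⟩ := exists_product (T.toList.map fun x => ⟨L x, s x⟩) (by
    simp only [List.mem_map, Finset.mem_toList]
    rintro q ⟨x, -, rfl⟩
    exact ⟨hL x, fun y => LGenSection.exists_mem_genLocus (hL x) (hg x) y, ha x⟩)
  refine ⟨M, hM, inferInstance, fun y => ?_⟩
  obtain ⟨x, hxT, hy⟩ := Set.mem_iUnion₂.1 (hT (Set.mem_univ y))
  obtain ⟨t, ht, hta⟩ := hM' ⟨L x, s x⟩ (List.mem_map.2 ⟨x, Finset.mem_toList.2 hxT, rfl⟩) y hy
  refine ⟨0, SecTwist.powHom t 1, (genLocus_powHom hM t 0).ge ht, ?_⟩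
  rw [genLocus_powHom hM t 0]
  exact hta

end Groth.Agent.S1664
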