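import Groth.Statements.S16644
import Mathlib

set_option autoImplicit false
open QuadZ

namespace Groth.Agent.S16644

/-- For odd n, the discriminant of the universal quadratic form Σ_{i ≤ j} A_{ij} x_i x_j in n variables
(variables A_{ij} indexed by unordered pairs), i.e. the determinant of the symmetric matrix with
diagonal entries 2 A_{ii} and off-diagonal entries A_{ij}, is divisible by 2 in the integral
polynomial ring ℤ[A_{ij}] (so the half-discriminant is an integral polynomial). -/
theorem result (n : ℕ) (hn : Odd n) :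
    (2 : MvPolynomial (Sym2 (Fin n)) ℤ) ∣
      (Matrix.of fun i j : Fin n =>
        if i = j then 2 * MvPolynomial.X (R := ℤ) (σ := Sym2 (Fin n)) (Sym2.mk i j)
        else MvPolynomial.X (R := ℤ) (σ := Sym2 (Fin n)) (Sym2.mk i j)).det := by
  classical
  let N : Matrix (Fin n) (Fin n) (MvPolynomial (Sym2 (Fin n)) ℤ) := Matrix.of fun i j : Fin n =>
    if i < j then MvPolynomial.X (Sym2.mk i j) else if j < i then -MvPolynomial.X (Sym2.mk i j) else 0
  have hN : N.transpose = -N := by
    ext1 i j
    rcases lt_trichotomy i j with h | h | h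
    · simp [N, h, h.asymm, Sym2.eq_swap]
    · subst h; simp [N]
    · simp [N, h, h.asymm, Sym2.eq_swap]
  have hdet : N.det = 0 := by
    have h := congrArg Matrix.det hN
    rw [Matrix.det_transpose, Matrix.det_neg, Fintype.card_fin, hn.neg_one_pow, neg_one_mul] at h
    rw [eq_neg_iff_add_eq_zero, ← two_mul] at h
    exact (mul_eq_zero.1 h).resolve_left two_ne_zero
  rw [← Ideal.mem_span_singleton, ← Ideal.Quotient.eq_zero_iff_mem]
  rw [RingHom.map_det]
  have h2 : (Ideal.Quotient.mk (Ideal.span {(2 : MvPolynomial (Sym2 (Fin n)) ℤ)})) 2 = 0 :=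
    Ideal.Quotient.eq_zero_iff_mem.2 (Ideal.mem_span_singleton_self _)
  have h0 := RingHom.map_det (Ideal.Quotient.mk (Ideal.span {(2 : MvPolynomial (Sym2 (Fin n)) ℤ)})) N
  rw [hdet, map_zero] at h0
  refine Eq.trans ?_ h0.symm
  congr 1
  ext1 i j
  rcases lt_trichotomy i j with h | h | h
  · simp [N, h, h.ne]
  · subst h; simp [N, h2]
  · simp only [N, RingHom.mapMatrix_apply, Matrix.map_apply, Matrix.of_apply, if_neg h.ne', if_neg h.asymm, if_pos h]
    rw [map_neg, eq_neg_iff_add_eq_zero, ← two_mul]
    rw [← map_ofNat (Ideal.Quotient.mk (Ideal.span {(2 : MvPolynomial (Sym2 (Fin n)) ℤ)})) 2, h2, zero_mul]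

end Groth.Agent.S16644
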