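import Groth.Statements.S16661
import Mathlib

set_option autoImplicit false
set_option backward.isDefEq.respectTransparency.types false
set_option maxHeartbeats 1000000
set_option linter.all false
universe v u
open TensorProduct
open Conn

namespace Groth.Agent.S16661
open Groth.Agent

/-- Let B be an A-algebra with a receptacle of differentials (Ω, δ), Ω a finite free B-module (the
affine-local form of differentials locally free of finite type), let M be a finite free B-module
(the local form of a vector bundle) with a connection ∇ : M → M ⊗ Ω, and let ∇_E be the induced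
connection on the B-linear endomorphisms of M, the one with (ev_m ⊗ 1)(∇_E φ) = ∇(φ m) − (φ ⊗ 1)(∇
m). Give B the connection b ↦ 1 ⊗ δ b. Then the trace map End_B(M) → B is horizontal: 1 ⊗ δ(tr φ) =
(tr ⊗ 1)(∇_E φ) for every endomorphism φ. -/
theorem result {A : Type v} {B Ω M : Type u}
    [CommRing A] [CommRing B] [Algebra A B]
    [AddCommGroup Ω] [Module B Ω] [Module A Ω] [IsScalarTower A B Ω] [Module.Finite B Ω] [Module.Free B Ω]
    [AddCommGroup M] [Module B M] [Module A M] [IsScalarTower A B M] [Module.Finite B M] [Module.Free B M]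
    (δ : Derivation A B Ω) (nabla : M →ₗ[A] M ⊗[B] Ω) (hc : Conn.IsConn δ nabla)
    (nablaE : (M →ₗ[B] M) →ₗ[A] (M →ₗ[B] M) ⊗[B] Ω) (hE : Conn.IsHomConn nabla nabla nablaE) :
    Conn.IsHorizontal nablaE (Conn.triv δ) (LinearMap.trace B M) := by
  classical
  intro φ
  let b := Module.Free.chooseBasis B M
  have htr : ∀ f : M →ₗ[B] M, LinearMap.trace B M f = ∑ i, b.coord i (f (b i)) := by
    intro f
    rw [LinearMap.trace_eq_matrix_trace B b, Matrix.trace]
    simp [LinearMap.toMatrix_apply, Matrix.diag]
  have e1 : ∀ t : (M →ₗ[B] M) ⊗[B] Ω, TensorProduct.map (LinearMap.trace B M) LinearMap.id t = ∑ i, TensorProduct.map (b.coord i) LinearMap.id (TensorProduct.map (LinearMap.applyₗ (b i)) LinearMap.id t) := by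
    intro t
    induction t using TensorProduct.induction_on with
    | zero => simp
    | tmul x y => simp [htr x, TensorProduct.sum_tmul]
    | add x y hx hy => simp only [map_add, hx, hy, Finset.sum_add_distrib]
  rw [e1]
  simp only [hE φ, map_sub]
  rw [Finset.sum_sub_distrib]
  set W := fun i j => TensorProduct.map (b.coord i) LinearMap.id (nabla (b j)) with hW
  have h1 : ∀ i, TensorProduct.map (b.coord i) LinearMap.id (nabla (φ (b i))) = (∑ j, b.coord j (φ (b i)) • W i j) + (1 : B) ⊗ₜ[B] δ (b.coord i (φ (b i))) := by
    intro i
    conv_lhs => rw [← b.sum_repr (φ (b i))]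
    simp only [map_sum, (show ∀ (c : B) (m : M), nabla (c • m) = c • nabla m + m ⊗ₜ[B] δ c from hc), map_add, map_smul, Finset.sum_add_distrib, TensorProduct.map_tmul, LinearMap.id_apply]
    congr 1
    rw [Finset.sum_eq_single i]
    · simp
    · intro j _ hj
      simp [hj, Finsupp.single_eq_of_ne, Ne.symm hj]
    · simp
  have h2 : ∀ i, TensorProduct.map (b.coord i) LinearMap.id (TensorProduct.map φ LinearMap.id (nabla (b i))) = ∑ j, b.coord i (φ (b j)) • W j i := by
    intro i
    have : ∀ t : M ⊗[B] Ω, TensorProduct.map (b.coord i) LinearMap.id (TensorProduct.map φ LinearMap.id t) = ∑ j, b.coord i (φ (b j)) • TensorProduct.map (b.coord j) LinearMap.id t := by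
      intro t
      induction t using TensorProduct.induction_on with
      | zero => simp
      | tmul x y =>
        simp only [TensorProduct.map_tmul, LinearMap.id_apply, TensorProduct.smul_tmul', smul_eq_mul, ← TensorProduct.sum_tmul]
        congr 1
        conv_lhs => rw [← b.sum_repr x]
        simp only [map_sum, map_smul, smul_eq_mul, mul_comm, Module.Basis.coord_apply]
      | add x y hx hy => simp only [map_add, hx, hy, smul_add, Finset.sum_add_distrib]
    exact this _
  simp only [h1, h2, Finset.sum_add_distrib]
  rw [Finset.sum_comm (f := fun i j => b.coord i (φ (b j)) • W j i), add_sub_cancel_left, Conn.triv_apply, htr, map_sum, TensorProduct.tmul_sum]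

end Groth.Agent.S16661
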