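import Groth.Statements.S16667
import Mathlib
import Groth.Prelude.Def_CAlg
import Groth.Prelude.Def_Wider
import Groth.Agent.Lib.H2DepthLocal
import Groth.Agent.Lib.H2LCTop

set_option autoImplicit false
universe u
open CAlg

namespace Groth.Agent.S16667
open CategoryTheory Pointwise RingTheory.Sequence Groth.Agent.H2Depth Groth.Agent.H2DepthMore Groth.Agent.H2DepthLocal Groth.Agent.H2LC

/-- Let A be a Noetherian integral domain satisfying Serre's condition (S_2), with fraction field K. An
element of K which lies in the localization A_p for every prime p of A with depth(A_p) = 1 lies in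
A. -/
theorem result {A : Type u} [CommRing A] [IsDomain A]
    [IsNoetherianRing A] (hS2 : LocCoh.HasSk 2 A A) (x : FractionRing A)
    (hx : ∀ (p : Ideal A) [p.IsPrime],
      LocCoh.depth (Localization.AtPrime p) (Localization.AtPrime p) = 1 →
        x ∈ Set.range (algebraMap (Localization.AtPrime p) (FractionRing A))) :
    x ∈ Set.range (algebraMap A (FractionRing A)) := by
  obtain ⟨⟨b, ⟨a, ha⟩⟩, rfl⟩ := (IsLocalization.mk'_surjective (nonZeroDivisors A) · |>.imp fun _ h => h) x
  by_cases hb : b ∈ Ideal.span {a}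
  · obtain ⟨c, rfl⟩ := Ideal.mem_span_singleton'.1 hb
    exact ⟨c, (IsLocalization.eq_mk'_iff_mul_eq).2 (map_mul _ c a).symm⟩
  exfalso
  let Q := A ⧸ (Ideal.ofList [a] • ⊤ : Submodule A A)
  have hQ : (Submodule.Quotient.mk b : Q) ≠ 0 := by
    rw [Ne, Submodule.Quotient.mk_eq_zero, smul_eq_mul, Ideal.mul_top, Ideal.ofList_singleton]
    exact hb
  obtain ⟨q, hq, hle⟩ := exists_le_isAssociatedPrime_of_isNoetherianRing A (Submodule.Quotient.mk b : Q) hQ
  haveI := hq.isPrime
  have hreg : IsWeaklyRegular A [a] := by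
    rw [isWeaklyRegular_singleton_iff]
    exact fun s t h => mul_left_cancel₀ (nonZeroDivisors.ne_zero ha) h
  have haq : a ∈ q := hle (by
    rw [Submodule.mem_colon_singleton, Submodule.mem_bot, ← Submodule.Quotient.mk_smul, Submodule.Quotient.mk_eq_zero,
      smul_eq_mul, smul_eq_mul, Ideal.mul_top, Ideal.ofList_singleton]
    exact Ideal.mul_mem_right b _ (Ideal.mem_span_singleton_self a))
  have hd : LocCoh.depth (Localization.AtPrime q) (Localization.AtPrime q) = 1 :=
    depth_eq_length_of_ass hreg hq (fun r hr => by rw [List.mem_singleton.1 hr]; exact haq)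
  obtain ⟨y, hy⟩ := hx q hd
  obtain ⟨c, ⟨s, hs⟩, rfl⟩ := IsLocalization.exists_mk'_eq q.primeCompl y
  refine hs (hle ?_)
  rw [Submodule.mem_colon_singleton, Submodule.mem_bot, ← Submodule.Quotient.mk_smul, Submodule.Quotient.mk_eq_zero,
    smul_eq_mul, smul_eq_mul, Ideal.mul_top, Ideal.ofList_singleton, Ideal.mem_span_singleton']
  refine ⟨c, ?_⟩
  apply IsFractionRing.injective A (FractionRing A)
  have h1 := congrArg (algebraMap (Localization.AtPrime q) (FractionRing A))
    (IsLocalization.mk'_spec' (M := q.primeCompl) (Localization.AtPrime q) c ⟨s, hs⟩)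
  rw [map_mul, hy, ← IsScalarTower.algebraMap_apply, ← IsScalarTower.algebraMap_apply] at h1
  rw [map_mul, map_mul, ← h1, mul_assoc, IsLocalization.mk'_spec (M := nonZeroDivisors A) (FractionRing A) b ⟨a, ha⟩]

end Groth.Agent.S16667
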