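import Groth.Statements.S16688
import Mathlib
import Groth.Agent.Lib.H8Hopf

set_option autoImplicit false
universe u v w
open ComodSub

namespace Groth.Agent.S16688

/-- Let `k` be a commutative ring, `A` a commutative Hopf algebra over `k` with antipode `S`, and `M` a
`k`-module with a left `A`-comodule structure `m ↦ Σ m₋₁ ⊗ m₀`. Then the map `M → M ⊗ A`, `m ↦ Σ m₀
⊗ S(m₋₁)`, is coassociative and counital: it is the coaction of a right `A`-comodule structure on
`M` (a right structure is determined by its coaction, so this structure is unique). -/
theorem result (k : Type u) [CommRing k]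
    (A : Type v) [CommRing A] [HopfAlgebra k A]
    (M : Type w) [AddCommGroup M] [Module k M] (l : ComodSub.LComod k A M) :
    ∃ c : HopfRep.Comod k A M, c.coact = ComodSub.rcoactOfLeft l := by
  open TensorProduct in
  let S := HopfAlgebraStruct.antipode (R := k) (A := A)
  let L : TensorProduct k A M →ₗ[k] TensorProduct k M A :=
    (TensorProduct.comm k A M).toLinearMap ∘ₗ S.rTensor M
  have hl : ∀ v, ComodSub.rcoactOfLeft l v = L (l.coact v) := fun v => rfl
  refine ⟨⟨ComodSub.rcoactOfLeft l, LinearMap.ext fun v => ?_, LinearMap.ext fun v => ?_⟩, rfl⟩
  · have hco := LinearMap.congr_fun l.coassoc v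
    simp only [LinearMap.comp_apply, LinearEquiv.coe_coe] at hco ⊢
    let P : TensorProduct k A (TensorProduct k A M) →ₗ[k] TensorProduct k M (TensorProduct k A A) :=
      (TensorProduct.comm k (TensorProduct k A A) M).toLinearMap ∘ₗ
        ((TensorProduct.map S S) ∘ₗ (TensorProduct.comm k A A).toLinearMap).rTensor M ∘ₗ
          (TensorProduct.assoc k A A M).symm.toLinearMap
    have k1 : ∀ z : TensorProduct k A M,
        TensorProduct.assoc k M A A ((ComodSub.rcoactOfLeft l).rTensor A (L z)) = P (l.coact.lTensor A z) := by
      intro z
      induction z using TensorProduct.induction_on with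
      | zero => simp
      | tmul a m =>
        simp only [L, LinearMap.comp_apply, LinearEquiv.coe_coe, LinearMap.rTensor_tmul, TensorProduct.comm_tmul,
          hl, LinearMap.lTensor_tmul]
        generalize l.coact m = y
        induction y using TensorProduct.induction_on with
        | zero => simp
        | tmul b n => simp [P]
        | add p q hp hq => simp only [map_add, TensorProduct.add_tmul, TensorProduct.tmul_add, hp, hq]
      | add p q hp hq => simp only [map_add, hp, hq]
    have k2 : ∀ z : TensorProduct k A M, (CoalgebraStruct.comul (R := k) (A := A)).lTensor M (L z) =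
        P (TensorProduct.assoc k A A M ((CoalgebraStruct.comul (R := k) (A := A)).rTensor M z)) := by
      intro z
      induction z using TensorProduct.induction_on with
      | zero => simp
      | tmul a m => simp [L, P, S, H8Hopf.comul_antipode]
      | add p q hp hq => simp only [map_add, hp, hq]
    rw [hl, k1, k2, hco]
  · have hcu := LinearMap.congr_fun l.counit_comp v
    simp only [LinearMap.comp_apply, TensorProduct.mk_apply] at hcu
    have k1 : ∀ z : TensorProduct k A M, (CoalgebraStruct.counit (R := k) (A := A)).lTensor M (L z) =
        TensorProduct.comm k k M ((CoalgebraStruct.counit (R := k) (A := A)).rTensor M z) := by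
      intro z
      induction z using TensorProduct.induction_on with
      | zero => simp
      | tmul a m => simp [L, S]
      | add p q hp hq => simp only [map_add, hp, hq]
    simp only [LinearMap.comp_apply, hl, k1, hcu, TensorProduct.comm_tmul, LinearMap.flip_apply, TensorProduct.mk_apply]

end Groth.Agent.S16688
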