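import Groth.Statements.S16689
import Mathlib
import Groth.Agent.Lib.H8Hopf

set_option autoImplicit false
universe u v w
open ComodSub

namespace Groth.Agent.S16689

/-- Let `k` be a commutative ring, `A` a commutative Hopf algebra over `k` with antipode `S`, and `M` a
`k`-module with a right `A`-comodule structure `m ↦ Σ m₀ ⊗ m₁`. Then the map `M → A ⊗ M`, `m ↦ Σ
S(m₁) ⊗ m₀`, is coassociative and counital: it is the coaction of a left `A`-comodule structure on
`M` (a left structure is determined by its coaction, so this structure is unique). -/
theorem result (k : Type u) [CommRing k]
    (A : Type v) [CommRing A] [HopfAlgebra k A]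
    (M : Type w) [AddCommGroup M] [Module k M] (c : HopfRep.Comod k A M) :
    ∃ l : ComodSub.LComod k A M, l.coact = ComodSub.lcoactOfRight c := by
  open TensorProduct in
  let L : TensorProduct k M A →ₗ[k] TensorProduct k A M :=
    (TensorProduct.comm k M A).toLinearMap ∘ₗ (HopfAlgebraStruct.antipode (R := k) (A := A)).lTensor M
  have hl : ∀ v, ComodSub.lcoactOfRight c v = L (c.coact v) := fun v => rfl
  refine ⟨⟨ComodSub.lcoactOfRight c, LinearMap.ext fun v => ?_, LinearMap.ext fun v => ?_⟩, rfl⟩
  · have hco := LinearMap.congr_fun c.coassoc v
    simp only [LinearMap.comp_apply, LinearEquiv.coe_coe] at hco ⊢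
    have k1 : ∀ z : TensorProduct k M A, (ComodSub.lcoactOfRight c).lTensor A (L z) =
        L.lTensor A (TensorProduct.comm k (TensorProduct k M A) A
            ((HopfAlgebraStruct.antipode (R := k) (A := A)).lTensor (TensorProduct k M A) (c.coact.rTensor A z))) := by
      intro z
      induction z using TensorProduct.induction_on with
      | zero => simp
      | tmul m a => simp [L, hl]
      | add p q hp hq => simp only [map_add, hp, hq]
    have k2 : ∀ z : TensorProduct k (TensorProduct k M A) A,
        L.lTensor A (TensorProduct.comm k (TensorProduct k M A) A
            ((HopfAlgebraStruct.antipode (R := k) (A := A)).lTensor (TensorProduct k M A) z)) =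
        TensorProduct.assoc k A A M (TensorProduct.comm k M (TensorProduct k A A)
          (((TensorProduct.map (HopfAlgebraStruct.antipode (R := k) (A := A)) (HopfAlgebraStruct.antipode (R := k) (A := A))) ∘ₗ
            (TensorProduct.comm k A A).toLinearMap).lTensor M (TensorProduct.assoc k M A A z))) := by
      intro z
      induction z using TensorProduct.induction_on with
      | zero => simp
      | tmul y a =>
        induction y using TensorProduct.induction_on with
        | zero => simp
        | tmul m b => simp [L]
        | add p q hp hq => simp only [map_add, TensorProduct.add_tmul, hp, hq]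
      | add p q hp hq => simp only [map_add, hp, hq]
    have k3 : ∀ z : TensorProduct k M A, (CoalgebraStruct.comul (R := k) (A := A)).rTensor M (L z) =
        TensorProduct.comm k M (TensorProduct k A A)
          (((TensorProduct.map (HopfAlgebraStruct.antipode (R := k) (A := A)) (HopfAlgebraStruct.antipode (R := k) (A := A))) ∘ₗ
            (TensorProduct.comm k A A).toLinearMap).lTensor M ((CoalgebraStruct.comul (R := k) (A := A)).lTensor M z)) := by
      intro z
      induction z using TensorProduct.induction_on with
      | zero => simp
      | tmul m a => simp [L, H8Hopf.comul_antipode]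
      | add p q hp hq => simp only [map_add, hp, hq]
    rw [hl, k1, k2, hco, k3]
  · have hcu := LinearMap.congr_fun c.counit_comp v
    simp only [LinearMap.comp_apply, LinearMap.flip_apply, TensorProduct.mk_apply] at hcu
    have k1 : ∀ z : TensorProduct k M A, (CoalgebraStruct.counit (R := k) (A := A)).rTensor M (L z) =
        TensorProduct.comm k M k ((CoalgebraStruct.counit (R := k) (A := A)).lTensor M z) := by
      intro z
      induction z using TensorProduct.induction_on with
      | zero => simp
      | tmul m a => simp [L]
      | add p q hp hq => simp only [map_add, hp, hq]
    simp only [LinearMap.comp_apply, hl, k1, hcu, TensorProduct.comm_tmul, TensorProduct.mk_apply]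

end Groth.Agent.S16689
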