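import Groth.Statements.S16717
import Mathlib
import Groth.Agent.Lib.H8Criterion

set_option autoImplicit false
universe u v
open HopfRep

namespace Groth.Agent.S16717

open TensorProduct in
/-- Equivalence of the exactness of invariants with complete reducibility of finite-dimensional
representations. Let k be a field and A a finitely generated commutative Hopf algebra over k (the
coordinate ring of an affine algebraic group G). Then every finite-dimensional A-comodule is
semisimple if and only if taking fixed vectors is exact, i.e. for every surjective comodule map φ :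
V → W between A-comodules (of any dimension; φ k-linear with (φ ⊗ id) ∘ ρ_V = ρ_W ∘ φ) every fixed
vector of W is the image of a fixed vector of V. -/
theorem result (k : Type u) [Field k] (A : Type v)
    [CommRing A] [HopfAlgebra k A] (hA : Algebra.FiniteType k A) :
    HopfRep.IsLinearlyReductive k A ↔
      ∀ (V W : Type v) [AddCommGroup V] [Module k V] [HopfRep.Comod k A V]
        [AddCommGroup W] [Module k W] [HopfRep.Comod k A W] (φ : V →ₗ[k] W),
        LinearMap.rTensor A φ ∘ₗ HopfRep.Comod.coact (k := k) (A := A) (V := V) =
            HopfRep.Comod.coact (k := k) (A := A) (V := W) ∘ₗ φ →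
          Function.Surjective φ →
            ∀ w ∈ HopfRep.fixedPts k A W, ∃ v ∈ HopfRep.fixedPts k A V, φ v = w := by
  constructor
  · intro hG V W _ _ _ _ _ _ φ hφ hs w hw
    obtain ⟨α, hα, h1⟩ := H8Reductive.exists_integral_of_lr hG
    exact H8Criterion.fixed_surjective hα h1 (φ := φ) hφ.symm hs hw
  · intro h
    refine H8Criterion.lr_iff_crit.mpr ?_
    intro V _ _ _ _ π hπ hπe
    let U : Submodule k A := Submodule.span k {(1 : A)}
    have hU : HopfRep.IsSubcomod (k := k) (A := A) U := by
      intro x hx
      obtain ⟨t, rfl⟩ := Submodule.mem_span_singleton.mp hx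
      refine ⟨TensorProduct.tmul k (⟨t • 1, hx⟩ : U) (1 : A), ?_⟩
      show TensorProduct.tmul k (t • (1 : A)) (1 : A) = CoalgebraStruct.comul (R := k) (t • (1 : A))
      rw [map_smul, Bialgebra.comul_one, Algebra.TensorProduct.one_def, TensorProduct.smul_tmul']
    letI := H8Comod.subComod U hU
    have h10 : (1 : A) ≠ 0 := fun h => by simpa [h] using Bialgebra.counit_one (R := k) (A := A)
    let u : k ≃ₗ[k] U := LinearEquiv.toSpanNonzeroSingleton k A 1 h10
    have hu : ∀ t : k, HopfRep.Comod.coact (k := k) (A := A) (u t) = TensorProduct.tmul k (u t) (1 : A) := by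
      intro t
      refine Module.Flat.rTensor_preserves_injective_linearMap _ U.injective_subtype ?_
      have h2 := LinearMap.congr_fun (H8Comod.subComod_subtype U hU) (u t)
      simp only [LinearMap.comp_apply] at h2
      rw [← h2, LinearMap.rTensor_tmul]
      have e : U.subtype (u t) = t • (1 : A) := rfl
      show CoalgebraStruct.comul (R := k) (U.subtype (u t)) = _
      rw [e, map_smul, Bialgebra.comul_one, Algebra.TensorProduct.one_def, TensorProduct.smul_tmul']
    obtain ⟨v, hv, hv1⟩ := h V U (u.toLinearMap ∘ₗ π) (by
      refine LinearMap.ext fun x => ?_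
      have h2 := LinearMap.congr_fun hπe x
      simp only [LinearMap.comp_apply, LinearMap.flip_apply, TensorProduct.mk_apply] at h2
      simp only [LinearMap.comp_apply, LinearMap.rTensor_comp, LinearEquiv.coe_coe, h2, LinearMap.rTensor_tmul]
      exact (hu _).symm) (u.surjective.comp hπ) (u 1) (hu 1)
    refine ⟨v, hv, fun h0 => ?_⟩
    rw [LinearMap.comp_apply, h0, map_zero] at hv1
    exact one_ne_zero (u.map_eq_zero_iff.mp hv1.symm)

end Groth.Agent.S16717
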