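import Groth.Statements.S16718
import Mathlib
import Groth.Agent.Lib.H8Comod
import Groth.Agent.Lib.H8Coalg

set_option autoImplicit false
universe u v w
open TensorProduct
open GLin

namespace Groth.Agent.S16718

/-- Let k be a field, A a finitely generated commutative Hopf algebra over k (an affine algebraic group
G), R a finitely generated commutative k-algebra carrying an A-comodule structure whose coaction is
an algebra homomorphism (an action of G on X = Spec R), and I an ideal of R which is a subcomodule
(a G-invariant closed subscheme Z of X). Then there is a finite-dimensional subcomodule W of R with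
W ⊆ I generating I as an ideal; equivalently there is a G-equivariant morphism f from X to the
affine space of a finite-dimensional G-representation with f⁻¹(0) = Z as closed subschemes. -/
theorem result (k : Type u) [Field k]
    (A : Type v) [CommRing A] [HopfAlgebra k A] (hA : Algebra.FiniteType k A)
    (R : Type w) [CommRing R] [Algebra k R] [HopfRep.Comod k A R] [GLin.IsCoactAlg k A R]
    (hR : Algebra.FiniteType k R) (I : Ideal R)
    (hI : HopfRep.IsSubcomod (k := k) (A := A) (I.restrictScalars k)) :
    ∃ W : Submodule k R, Module.Finite k W ∧ HopfRep.IsSubcomod (k := k) (A := A) W ∧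
      W ≤ I.restrictScalars k ∧ Ideal.span (W : Set R) = I := by
  classical
  haveI := Algebra.FiniteType.isNoetherianRing k R
  obtain ⟨t, ht⟩ := IsNoetherian.noetherian I
  obtain ⟨W₀, hf, htW, hW₀⟩ := H8Coalg.exists_finite_subcomod (HopfRep.Comod.coact (k := k) (A := A) (V := R))
    HopfRep.Comod.coassoc HopfRep.Comod.counit_comp t
  haveI := hf
  refine ⟨W₀ ⊓ I.restrictScalars k, Submodule.finiteDimensional_inf_left _ _, H8Comod.isSubcomod_inf hW₀ hI, inf_le_right, ?_⟩
  refine le_antisymm (Ideal.span_le.mpr fun x hx => hx.2) ?_
  have ht' : I = Ideal.span (t : Set R) := ht.symm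
  rw [ht', Ideal.span_le]
  intro x hx
  refine Ideal.subset_span ⟨htW hx, ?_⟩
  show x ∈ Ideal.span (t : Set R)
  exact Ideal.subset_span hx

end Groth.Agent.S16718
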