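import Groth.Statements.S16762
import Mathlib
import Groth.Agent.Lib.UnivInjective

set_option autoImplicit false
universe u
open TensorProduct Groth.Agent
open CAlgX

namespace Groth.Agent.S16762

/-- Let A → A' be faithfully flat and u : M → N a map of A-modules. Then u is universally injective (u ⊗
id_Q injective for every A-module Q) if and only if its base change A' ⊗_A M → A' ⊗_A N is
universally injective as a map of A'-modules. -/
theorem result (A A' : Type u) [CommRing A] [CommRing A']
    [Algebra A A'] [Module.FaithfullyFlat A A'] {M N : Type u} [AddCommGroup M] [Module A M]
    [AddCommGroup N] [Module A N] (u : M →ₗ[A] N) :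
    CAlgX.UniversallyInjective A u ↔ CAlgX.UniversallyInjective A' (u.baseChange A') := by
  constructor
  · intro h
    refine UI.of_lTensor fun Q _ _ => ?_
    letI : Module A Q := Module.compHom Q (algebraMap A A')
    haveI : IsScalarTower A A' Q := IsScalarTower.of_compHom A A' Q
    let eM := TensorProduct.AlgebraTensorModule.cancelBaseChange A A' A' Q M
    let eN := TensorProduct.AlgebraTensorModule.cancelBaseChange A A' A' Q N
    have key : ∀ x, eN ((u.baseChange A').lTensor Q x) = u.lTensor Q (eM x) := by
      intro x
      induction x with
      | zero => simp
      | add a b ha hb => simp [ha, hb]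
      | tmul q z =>
        induction z with
        | zero => simp
        | add a b ha hb => simp only [LinearMap.lTensor_tmul] at ha hb; simp [tmul_add, ha, hb]
        | tmul t m => simp [eM, eN]
    intro x y hxy
    apply eM.injective
    apply UI.lTensor_injective h Q
    rw [← key, ← key, hxy]
  · intro h
    refine UI.of_lTensor fun Q _ _ => ?_
    rw [← Module.FaithfullyFlat.lTensor_injective_iff_injective A A']
    let eM := TensorProduct.AlgebraTensorModule.distribBaseChange A A' Q M
    let eN := TensorProduct.AlgebraTensorModule.distribBaseChange A A' Q N
    have key : ∀ x, eN ((u.lTensor Q).lTensor A' x) = (u.baseChange A').lTensor (A' ⊗[A] Q) (eM x) := by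
      intro x
      induction x with
      | zero => simp
      | add a b ha hb => simp [ha, hb]
      | tmul t z =>
        induction z with
        | zero => simp
        | add a b ha hb => simp only [LinearMap.lTensor_tmul] at ha hb; simp [tmul_add, ha, hb]
        | tmul q m => simp [eM, eN]
    intro x y hxy
    apply eM.injective
    apply UI.lTensor_injective h _
    rw [← key, ← key, hxy]

end Groth.Agent.S16762
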