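import Groth.Statements.S16765
import Groth.Agent.Lib.H3UnramPoint
import Groth.Agent.S9697

set_option autoImplicit false
universe u
open Unram17

namespace Groth.Agent.S16765

open AlgebraicGeometry CategoryTheory CategoryTheory.Limits in
/-- Let g : Y → S and h : X → S be locally of finite presentation, f : X → Y an S-morphism (f ≫ g = h;
in particular f is locally of finite presentation, so unramified amounts to formally unramified),
and x a point of X with image s = h(x). Then f is unramified at x (formally unramified on an open
neighbourhood of x) if and only if the induced morphism of fibres X_s → Y_s is unramified at the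
point of X_s lying over x. No flatness is needed. -/
theorem result {X Y S : Scheme.{u}} (g : Y ⟶ S) (h : X ⟶ S)
    [LocallyOfFinitePresentation g] [LocallyOfFinitePresentation h] (f : X ⟶ Y) (w : f ≫ g = h)
    (x : ↥X)
    (x' : ↥(h.fiber (h x))) (hx' : (h.fiberι (h x)) x' = x) :
    (∃ U : X.Opens, x ∈ U ∧ FormallyUnramified (U.ι ≫ f)) ↔
      ∃ V : (h.fiber (h x)).Opens, x' ∈ V ∧ FormallyUnramified (V.ι ≫ CohIII.fiberMapOver f h g w (h x)) := by
  have sq : IsPullback (h.fiberι (h x)) (CohIII.fiberMapOver f h g w (h x)) f (g.fiberι (h x)) := by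
    refine IsPullback.of_bot ?_ ?_ (IsPullback.of_hasPullback g (S.fromSpecResidueField (h x)))
    · have e : CohIII.fiberMapOver f h g w (h x) ≫ pullback.snd g (S.fromSpecResidueField (h x)) =
          h.fiberToSpecResidueField (h x) := by
        simp only [CohIII.fiberMapOver, pullback.map]
        exact (pullback.lift_snd _ _ _).trans (Category.comp_id _)
      rw [e, w]
      exact IsPullback.of_hasPullback h _
    · simp only [CohIII.fiberMapOver, pullback.map, Scheme.Hom.fiberι]
      exact (pullback.lift_fst _ _ _).symm
  constructor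
  · rintro ⟨U, hxU, hU⟩
    refine ⟨h.fiberι (h x) ⁻¹ᵁ U, show h.fiberι (h x) x' ∈ U by rw [hx']; exact hxU, ?_⟩
    exact MorphismProperty.of_isPullback (P := @FormallyUnramified)
      ((isPullback_morphismRestrict (h.fiberι (h x)) U).paste_vert sq) hU
  · intro hV
    have h1 := Groth.Agent.H3UnramPoint.stalkMap_unram _ x' hV
    haveI : LocallyOfFinitePresentation (f ≫ g) := w ▸ inferInstance
    haveI : LocallyOfFiniteType (f ≫ g) := inferInstance
    haveI : LocallyOfFiniteType f := locallyOfFiniteType_of_comp f g
    set e := sq.isoPullback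
    have h2 : ((e.hom ≫ pullback.snd f (g.fiberι (h x))).stalkMap x').hom.FormallyUnramified := by
      rw [Scheme.Hom.stalkMap_congr_hom _ _ (sq.isoPullback_hom_snd) x']
      exact (RingHom.FormallyUnramified.respectsIso.cancel_left_isIso _ _).mpr h1
    rw [Scheme.Hom.stalkMap_comp] at h2
    replace h2 := (RingHom.FormallyUnramified.respectsIso.cancel_right_isIso _ _).mp h2
    obtain ⟨U, hxU, hU⟩ := (Groth.Agent.S9697.result f (g.fiberι (h x)) (e.hom x')).mp
      (Groth.Agent.H3UnramPoint.exists_unram_nhd _ _ h2)
    refine ⟨U, ?_, hU⟩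
    rw [← Scheme.Hom.comp_apply, sq.isoPullback_hom_fst] at hxU
    rwa [hx'] at hxU

end Groth.Agent.S16765
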