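import Groth.Statements.S1680
import Groth.Agent.Lib.H7Cartier

set_option autoImplicit false
universe u
open CategoryTheory CategoryTheory.Limits AlgebraicGeometry TopologicalSpace
open SDiv

namespace Groth.Agent.S1680

/-- Let g : X₁ ⟶ X₂ be a flat morphism, 𝓘 a quasi-coherent ideal sheaf on X₂ and b : X₂' ⟶ X₂ a
blowing-up of X₂ along 𝓘. Then the base change X₁ ×_{X₂} X₂' ⟶ X₁ is a blowing-up of X₁ along the
inverse image ideal of 𝓘. -/
theorem result {X₁ X₂ X₂' : Scheme.{u}} (g : X₁ ⟶ X₂) [Flat g] (𝓘 : X₂.IdealSheafData) (b : X₂' ⟶ X₂)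
    (hb : BlowUp.IsBlowUp b 𝓘) : BlowUp.IsBlowUp (pullback.fst g b) (𝓘.comap g) := by
  have h0 : (𝓘.comap g).comap (pullback.fst g b) = (𝓘.comap b).comap (pullback.snd g b) := by
    rw [← Scheme.IdealSheafData.comap_comp, pullback.condition, Scheme.IdealSheafData.comap_comp]
  refine ⟨h0 ▸ Groth.Agent.H7Cartier.IsEffCartierIdeal.comap_of_flat hb.1 _, fun Y p hp => ?_⟩
  rw [← Scheme.IdealSheafData.comap_comp] at hp
  obtain ⟨h, hh, huniq⟩ := hb.2 Y (p ≫ g) hp
  refine ⟨pullback.lift p h hh.symm, pullback.lift_fst _ _ _, fun q hq => ?_⟩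
  apply pullback.hom_ext
  · rw [pullback.lift_fst]; exact hq
  · rw [pullback.lift_snd]
    apply huniq
    change (q ≫ pullback.snd g b) ≫ b = p ≫ g
    rw [Category.assoc, ← pullback.condition, ← Category.assoc, hq]

end Groth.Agent.S1680
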