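import Groth.Statements.S1681
import Groth.Agent.Lib.H7Cartier

set_option autoImplicit false
universe u
open CategoryTheory CategoryTheory.Limits AlgebraicGeometry TopologicalSpace
open SDiv

namespace Groth.Agent.S1681

/-- Let b : X' ⟶ X be a blowing-up of X along the quasi-coherent ideal sheaf 𝓘. Then b restricts to a
bijection from the maximal points of X' (points with no proper generization) onto the maximal points
of X not lying in the support of 𝓘. -/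
theorem result {X X' : Scheme.{u}} (𝓘 : X.IdealSheafData) (b : X' ⟶ X) (hb : BlowUp.IsBlowUp b 𝓘) :
    Set.BijOn (fun x' => b x') {x' : ↥X' | ∀ y : ↥X', y ⤳ x' → y = x'}
      {x : ↥X | (∀ y : ↥X, y ⤳ x → y = x) ∧ x ∉ 𝓘.support} := by
  let W : X.Opens := 𝓘.support.compl
  have := Groth.Agent.H7Cartier.IsBlowUp.isIso_restrict hb W fun x hx => hx
  have hmem : ∀ x' : ↥X', (∀ y : ↥X', y ⤳ x' → y = x') → b x' ∈ W := fun x' hx' => by
    have := Groth.Agent.H7Cartier.not_mem_support_of_isMax hb.1 hx'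
    rw [Scheme.IdealSheafData.support_comap] at this
    exact this
  let s : (W : Scheme.{u}) ⟶ X' := inv (b ∣_ W) ≫ (b ⁻¹ᵁ W).ι
  have hs : s ≫ b = W.ι := by simp [s, ← morphismRestrict_ι]
  have hsb : ∀ w, b (s w) = W.ι w := fun w => by rw [← Scheme.Hom.comp_apply, hs]
  have hsurj : ∀ p : X', b p ∈ W → ∃ w, s w = p := fun p hp => by
    refine ⟨(b ∣_ W) ⟨p, hp⟩, ?_⟩
    show ((b ∣_ W) ≫ inv (b ∣_ W) ≫ (b ⁻¹ᵁ W).ι).base _ = p
    rw [IsIso.hom_inv_id_assoc]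
    rfl
  have hspec : ∀ w₁ w₂, W.ι w₁ ⤳ W.ι w₂ → s w₁ ⤳ s w₂ := fun w₁ w₂ h =>
    (W.ι.isOpenEmbedding.isInducing.specializes_iff.mp h).map s.continuous
  have hrange : ∀ x ∈ W, ∃ w, W.ι w = x := fun x hx => ⟨⟨x, hx⟩, rfl⟩
  refine ⟨fun x' hx' => ⟨fun y hy => ?_, hmem x' hx'⟩, fun p hp q hq h => ?_, fun x hx => ?_⟩
  · obtain ⟨w, rfl⟩ := hrange y (hy.mem_open W.2 (hmem x' hx'))
    obtain ⟨w', rfl⟩ := hsurj x' (hmem x' hx')
    simp only [hsb] at hy ⊢
    rw [← hsb, ← hsb, hx' _ (hspec _ _ hy)]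
  · obtain ⟨w, rfl⟩ := hsurj p (hmem p hp)
    obtain ⟨w', rfl⟩ := hsurj q (hmem q hq)
    simp only [hsb] at h
    rw [W.ι.isOpenEmbedding.injective h]
  · obtain ⟨hxm, hxs⟩ := hx
    obtain ⟨w, rfl⟩ := hrange x hxs
    refine ⟨s w, fun y hy => ?_, hsb w⟩
    have h1 : b y = W.ι w := hxm _ (by simpa only [hsb] using hy.map b.continuous)
    obtain ⟨w', rfl⟩ := hsurj y (by rw [h1]; exact hxs)
    rw [hsb] at h1
    rw [W.ι.isOpenEmbedding.injective h1]

end Groth.Agent.S1681
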