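import Groth.Statements.S1683
import Groth.Agent.Lib.H7Cartier

set_option autoImplicit false
universe u
open CategoryTheory CategoryTheory.Limits AlgebraicGeometry TopologicalSpace
open SDiv

namespace Groth.Agent.S1683

/-- Let 𝓘, 𝓙 be quasi-coherent ideal sheaves on X, b : X' ⟶ X a blowing-up along 𝓘 and b' : X'' ⟶ X' a
blowing-up along the inverse image ideal of 𝓙. Then b' ≫ b : X'' ⟶ X is a blowing-up of X along the
product ideal 𝓘𝓙. -/
theorem result {X X' X'' : Scheme.{u}} (𝓘 𝓙 : X.IdealSheafData) (b : X' ⟶ X) (hb : BlowUp.IsBlowUp b 𝓘)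
    (b' : X'' ⟶ X') (hb' : BlowUp.IsBlowUp b' (𝓙.comap b)) : BlowUp.IsBlowUp (b' ≫ b) (𝓘 * 𝓙) := by
  refine ⟨?_, fun Y g hg => ?_⟩
  · rw [Groth.Agent.H7Cartier.comap_mul, Scheme.IdealSheafData.comap_comp, Scheme.IdealSheafData.comap_comp]
    exact Groth.Agent.H7Cartier.IsEffCartierIdeal.mul
      (Groth.Agent.H7Cartier.IsBlowUp.comap_effCartier hb' hb.1) hb'.1
  · rw [Groth.Agent.H7Cartier.comap_mul] at hg
    have hI := Groth.Agent.H7Cartier.isEffCartierIdeal_left_of_mul hg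
    have hJ := Groth.Agent.H7Cartier.isEffCartierIdeal_left_of_mul (mul_comm (𝓘.comap g) _ ▸ hg)
    obtain ⟨h, hh, huniq⟩ := hb.2 Y g hI
    have hJ' : BlowUp.IsEffCartierIdeal ((𝓙.comap b).comap h) := by
      rwa [← Scheme.IdealSheafData.comap_comp, hh]
    obtain ⟨h', hh', huniq'⟩ := hb'.2 Y h hJ'
    refine ⟨h', by simp only [← Category.assoc, hh', hh], fun q hq => huniq' q (huniq _ ?_)⟩
    simpa using hq

end Groth.Agent.S1683
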