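import Groth.Statements.S16919
import Mathlib

set_option autoImplicit false
set_option backward.isDefEq.respectTransparency.types false
set_option maxHeartbeats 1000000
set_option linter.all false
universe u
open TensorProduct
open CAlg

namespace Groth.Agent.S16919
open Groth.Agent

/-- Let k₀ → k be an extension of fields with k algebraically closed and of infinite transcendence
degree over k₀, R₀ a finitely generated k₀-algebra whose base change R = k ⊗ R₀ is an integral
domain (so Spec R is an integral affine k-scheme of finite type with the model Spec R₀ over k₀), and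
P a k-point of Spec R, i.e. a k-algebra homomorphism ev : R → k, lying over the generic point of
Spec R₀, i.e. with ev injective on R₀. Then there is a field isomorphism e from an algebraic closure
of the fraction field of R (the function field of Spec R) onto k such that e(1 ⊗ r) = ev(1 ⊗ r) for
every r in R₀: e extends evaluation at P on R₀. (The published setting has k algebraically closed of
characteristic zero and of infinite transcendence degree over its prime field, and k₀ the subfield
generated by the coefficients of equations of Spec R, which is finitely generated over the prime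
field, so that k has infinite transcendence degree over k₀; only this last property and no
characteristic assumption enter here. The isomorphism is not canonical.) -/
theorem result (k₀ k : Type u)
    [Field k₀] [Field k] [Algebra k₀ k] [IsAlgClosed k] (hinf : ∃ x : ℕ → k, AlgebraicIndependent k₀ x)
    (R₀ : Type u) [CommRing R₀] [Algebra k₀ R₀] [Algebra.FiniteType k₀ R₀] [IsDomain (k ⊗[k₀] R₀)]
    (ev : k ⊗[k₀] R₀ →ₐ[k] k) (hP : Function.Injective fun r : R₀ => ev (1 ⊗ₜ[k₀] r)) :
    ∃ e : AlgebraicClosure (FractionRing (k ⊗[k₀] R₀)) ≃+* k,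
      ∀ r : R₀, e (algebraMap (k ⊗[k₀] R₀) (AlgebraicClosure (FractionRing (k ⊗[k₀] R₀)))
        (1 ⊗ₜ[k₀] r)) = ev (1 ⊗ₜ[k₀] r) := by
    classical
    let incl : R₀ →ₐ[k₀] k ⊗[k₀] R₀ := Algebra.TensorProduct.includeRight
    have hincl : Function.Injective incl := fun a b h => hP (congrArg ev h)
    haveI : IsDomain R₀ := hincl.isDomain
    let jk : R₀ →ₐ[k₀] k := (ev.restrictScalars k₀).comp incl
    have hjk : Function.Injective jk := hP
    let R := k ⊗[k₀] R₀
    let Ω := AlgebraicClosure (FractionRing R)
    have hRΩ : Function.Injective (algebraMap R Ω) := by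
      rw [IsScalarTower.algebraMap_eq R (FractionRing R) Ω]
      exact (algebraMap (FractionRing R) Ω).injective.comp (IsFractionRing.injective R (FractionRing R))
    let jΩ : R₀ →ₐ[k₀] Ω := (IsScalarTower.toAlgHom k₀ R Ω).comp incl
    have hjΩ : Function.Injective jΩ := hRΩ.comp hincl
    let K₀ := FractionRing R₀
    let jkK : K₀ →ₐ[k₀] k := IsFractionRing.liftAlgHom hjk
    let jΩK : K₀ →ₐ[k₀] Ω := IsFractionRing.liftAlgHom hjΩ
    letI : Algebra K₀ k := jkK.toRingHom.toAlgebra
    letI : Algebra K₀ Ω := jΩK.toRingHom.toAlgebra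
    haveI := IsScalarTower.of_algebraMap_eq (R := k₀) (S := K₀) (A := k) fun x => (jkK.commutes x).symm
    haveI := IsScalarTower.of_algebraMap_eq (R := k₀) (S := K₀) (A := Ω) fun x => (jΩK.commutes x).symm
    obtain ⟨x, hx⟩ := hinf
    set κ := Algebra.trdeg k₀ k with hκdef
    have hκ : Cardinal.aleph0 ≤ κ := by
      have h := hx.lift_cardinalMk_le_trdeg
      simpa using h
    have hfin0 : Algebra.trdeg k₀ K₀ < Cardinal.aleph0 := by
      haveI : Algebra.IsAlgebraic R₀ K₀ := IsLocalization.isAlgebraic K₀ (nonZeroDivisors R₀)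
      rw [← trdeg_add_eq k₀ R₀, (trdeg_eq_zero_iff (R := R₀) (A := K₀)).2 inferInstance, add_zero]
      exact trdeg_lt_aleph0_of_finiteType
    have hfin1 : Algebra.trdeg k Ω < Cardinal.aleph0 := by
      haveI : Algebra.IsAlgebraic R Ω :=
        (IsFractionRing.comap_isAlgebraic_iff (A := R) (K := FractionRing R)).2 inferInstance
      haveI : FaithfulSMul R Ω := (faithfulSMul_iff_algebraMap_injective _ _).2 hRΩ
      rw [← trdeg_add_eq k R, (trdeg_eq_zero_iff (R := R) (A := Ω)).2 inferInstance, add_zero]
      exact trdeg_lt_aleph0_of_finiteType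
    have hΩ : Algebra.trdeg k₀ Ω = κ := by
      rw [← trdeg_add_eq k₀ k, ← hκdef]
      exact Cardinal.add_eq_left hκ (hfin1.le.trans hκ)
    have h1 : Algebra.trdeg K₀ k = κ := Cardinal.eq_of_add_eq_of_aleph0_le (trdeg_add_eq k₀ K₀) (hfin0.trans_le hκ) hκ
    have h2 : Algebra.trdeg K₀ Ω = κ := Cardinal.eq_of_add_eq_of_aleph0_le
      ((trdeg_add_eq k₀ K₀).trans hΩ) (hfin0.trans_le hκ) hκ
    obtain ⟨s, hs⟩ := exists_isTranscendenceBasis K₀ Ω
    obtain ⟨t, ht⟩ := exists_isTranscendenceBasis K₀ k
    obtain ⟨ε⟩ := Cardinal.eq.1 ((hs.cardinalMk_eq_trdeg.trans h2).trans (ht.cardinalMk_eq_trdeg.trans h1).symm)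
    haveI := IsAlgClosed.isAlgClosure_of_transcendence_basis (Subtype.val : s → Ω) hs
    haveI := IsAlgClosed.isAlgClosure_of_transcendence_basis (Subtype.val : t → k) ht
    let g : Algebra.adjoin K₀ (Set.range (Subtype.val : s → Ω)) ≃ₐ[K₀] Algebra.adjoin K₀ (Set.range (Subtype.val : t → k)) :=
      (hs.1.aevalEquiv.symm.trans (MvPolynomial.renameEquiv K₀ ε)).trans ht.1.aevalEquiv
    refine ⟨IsAlgClosure.equivOfEquiv Ω k g.toRingEquiv, fun r => ?_⟩
    have hΩr : algebraMap R Ω (1 ⊗ₜ[k₀] r) =
        algebraMap (Algebra.adjoin K₀ (Set.range (Subtype.val : s → Ω))) Ω (algebraMap K₀ _ (algebraMap R₀ K₀ r)) := by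
      show jΩ r = jΩK (algebraMap R₀ K₀ r)
      exact (IsFractionRing.lift_algebraMap hjΩ r).symm
    rw [hΩr]
    erw [IsAlgClosure.equivOfEquiv_algebraMap]
    erw [g.commutes]
    show jkK (algebraMap R₀ K₀ r) = jk r
    exact IsFractionRing.lift_algebraMap hjk r

end Groth.Agent.S16919
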