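import Groth.Statements.S1692
import Mathlib

set_option autoImplicit false
universe u
open CategoryTheory CategoryTheory.Limits AlgebraicGeometry TopologicalSpace
open SDiv

namespace Groth.Agent.S1692

/-- Let X be a locally Noetherian integral scheme and f a nonzero rational function. Then the closures
of the codimension-one points at which f has nonzero order of vanishing form a locally finite family
of closed subsets of X. -/
theorem result (X : Scheme.{u}) [IsIntegral X] [IsLocallyNoetherian X] (f : ↑X.functionField) (hf : f ≠ 0) :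
    LocallyFinite (fun ξ : {ξ : ↥X // Order.coheight ξ = 1 ∧ Scheme.ord f ξ ≠ 0} => closure ({ξ.1} : Set ↥X)) := by
  classical
  intro x
  obtain ⟨U, hU, hxU, -⟩ := exists_isAffineOpen_mem_and_subset (x := x) (U := ⊤) trivial
  haveI : Nonempty U := ⟨⟨x, hxU⟩⟩
  haveI := IsLocallyNoetherian.component_noetherian (X := X) ⟨U, hU⟩
  haveI := functionField_isFractionRing_of_isAffineOpen X U hU
  obtain ⟨a, b, hb, hab⟩ := IsFractionRing.div_surjective (A := Γ(X, U)) f
  have ha0 : a ≠ 0 := by rintro rfl; simp at hab; exact hf hab.symm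
  have hb0 : b ≠ 0 := nonZeroDivisors.ne_zero hb
  let c := a * b
  have hc : c ≠ 0 := mul_ne_zero ha0 hb0
  refine ⟨U, U.isOpen.mem_nhds hxU, ?_⟩
  refine Set.Finite.subset (Set.Finite.preimage Subtype.val_injective.injOn
    ((Ideal.finite_minimalPrimes_of_isNoetherianRing _ (Ideal.span {c})).image
      (fun q => if h : q.IsPrime then hU.fromSpec ⟨q, h⟩ else x))) ?_
  rintro ⟨ξ, hξ, hord⟩ ⟨y, hy, hyU⟩
  have hsp : ξ ⤳ y := specializes_iff_mem_closure.mpr hy
  have hξU : ξ ∈ U := hsp.mem_open U.isOpen hyU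
  have hnot : ξ ∉ X.basicOpen c := by
    intro hm
    apply hord
    have hW : X.basicOpen c ≤ U := X.basicOpen_le c
    haveI : Nonempty (X.basicOpen c) := ⟨⟨ξ, hm⟩⟩
    have hu : IsUnit (X.presheaf.map (homOfLE hW).op c) := RingedSpace.isUnit_res_basicOpen _ c
    rw [map_mul, IsUnit.mul_iff] at hu
    have hA : Scheme.ord (algebraMap Γ(X, U) X.functionField a) ξ = 0 := by
      rw [← Scheme.ord_of_isUnit hu.1 hm]
      congr 1
      exact (X.presheaf.germ_res_apply (homOfLE hW) _ _ a).symm
    have hB : Scheme.ord (algebraMap Γ(X, U) X.functionField b) ξ = 0 := by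
      rw [← Scheme.ord_of_isUnit hu.2 hm]
      congr 1
      exact (X.presheaf.germ_res_apply (homOfLE hW) _ _ b).symm
    have hB0 : algebraMap Γ(X, U) X.functionField b ≠ 0 :=
      (map_ne_zero_iff _ (IsFractionRing.injective _ _)).mpr hb0
    rw [← div_mul_cancel₀ (algebraMap Γ(X, U) X.functionField a) hB0, hab, Scheme.ord_mul hf hB0, hB, add_zero] at hA
    exact hA
  let p := hU.primeIdealOf ⟨ξ, hξU⟩
  have hp : hU.fromSpec p = ξ := hU.fromSpec_primeIdealOf ⟨ξ, hξU⟩
  have hmem : ∀ q, hU.fromSpec q ∈ X.basicOpen c ↔ c ∉ q.asIdeal := fun q => by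
    rw [← PrimeSpectrum.mem_basicOpen]
    exact iff_of_eq (congrArg (fun V => q ∈ V) (hU.fromSpec_preimage_basicOpen c))
  have hcp : c ∈ p.asIdeal := by
    by_contra h
    exact hnot (hp ▸ (hmem p).mpr h)
  obtain ⟨q, hq, hqp⟩ := Ideal.exists_minimalPrimes_le ((Ideal.span_singleton_le_iff_mem _).mpr hcp)
  haveI := hq.1.1
  refine ⟨q, hq, ?_⟩
  simp only [dif_pos hq.1.1]
  by_contra hne
  set η := hU.fromSpec ⟨q, hq.1.1⟩
  have h1 : η ⤳ ξ := by
    rw [← hp]
    exact ((PrimeSpectrum.le_iff_specializes ⟨q, hq.1.1⟩ p).mp hqp).map hU.fromSpec.continuous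
  have h2 : genericPoint X ⤳ η := genericPoint_specializes η
  have h3 : genericPoint X ∈ X.basicOpen c := by
    rw [Scheme.mem_basicOpen _ _ _ (((genericPoint_spec X).mem_open_set_iff U.isOpen).mpr (by simpa using ⟨x, hxU⟩))]
    exact isUnit_iff_ne_zero.mpr ((map_ne_zero_iff _ (Scheme.germToFunctionField_injective X U)).mpr hc)
  have h4 : η ≠ genericPoint X := fun h => (hmem ⟨q, hq.1.1⟩).mp (h ▸ h3 : η ∈ X.basicOpen c) (hq.1.2 (Ideal.mem_span_singleton_self c))
  have l1 : ξ < η := lt_of_le_not_ge h1 fun h => hne ((h1.antisymm h).eq)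
  have l2 : η < genericPoint X := lt_of_le_not_ge h2 fun h => h4 (((h2.antisymm h).eq).symm)
  have := (add_le_add_left (Order.coheight_add_one_le l2) 1).trans (Order.coheight_add_one_le l1)
  rw [hξ] at this
  revert this
  cases Order.coheight (genericPoint X) with
  | top => simp
  | coe n => norm_cast; omega

end Groth.Agent.S1692
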