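import Groth.Statements.S16963
-- import your own Groth.Agent.* helpers here

set_option autoImplicit false
set_option backward.isDefEq.respectTransparency.types false
universe u
open scoped BigOperators
open ConstAct

namespace Groth.Agent.S16963

open TensorProduct in
/-- Let R be a commutative ring and Γ a finite group acting on a commutative R-algebra B by R-algebra
automorphisms; regard B as a comodule algebra over the Hopf algebra of R-valued functions on Γ (the
constant group scheme of Γ acting on Spec B) through the coaction b ↦ Σ_γ (γ · b) ⊗ e_γ. Then the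
action is tame — there is a comodule map α from the Hopf algebra, with its regular coaction, to B
with α(1) = 1 (a total integral) — if and only if the trace b ↦ Σ_γ γ · b, which takes values in the
ring of invariants B^Γ, maps B onto B^Γ. -/
theorem result (R : Type u) [CommRing R]
    (B : Type u) [CommRing B] [Algebra R B] (Γ : Type u) [Group Γ] [Fintype Γ] [DecidableEq Γ]
    [MulSemiringAction Γ B] [SMulCommClass Γ R B] :
    letI := ConstAct.comod R B Γ
    (∃ α : ConstGrp.F R Γ →ₗ[R] B, Hoch.IsComodHom (ConstGrp.F R Γ) α ∧ α 1 = 1) ↔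
      ∀ c : B, c ∈ ConstAct.inv R B Γ → ∃ b : B, ∑ γ : Γ, γ • b = c := by
  letI := ConstAct.comod R B Γ
  have hext : ∀ h : Γ, (TensorProduct.rid R B).toLinearMap ∘ₗ (ConstGrp.ev R h).toLinearMap.lTensor B =
      (TensorProduct.rid R B).toLinearMap ∘ₗ (ConstGrp.ev R h).toLinearMap.lTensor B := fun h => rfl
  constructor
  · rintro ⟨α, hα, h1⟩ c hc
    have key : ∀ g h : Γ, h • α (ConstGrp.e R g) = α (ConstGrp.e R (g * h⁻¹)) := fun g h => by
      have := congrArg (fun z => TensorProduct.rid R B ((ConstGrp.ev R h).toLinearMap.lTensor B z))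
        (LinearMap.congr_fun hα (ConstGrp.e R g))
      simp only [LinearMap.comp_apply] at this
      rw [show HopfRep.Comod.coact (k := R) (A := ConstGrp.F R Γ) (α (ConstGrp.e R g)) = ConstAct.coactLin R B Γ (α (ConstGrp.e R g)) from rfl,
        show HopfRep.Comod.coact (k := R) (A := ConstGrp.F R Γ) (ConstGrp.e R g) = Coalgebra.comul (R := R) (ConstGrp.e R g) from rfl,
        ConstAct.coactLin_apply, ConstGrp.comul_e] at this
      simp only [map_sum, LinearMap.rTensor_tmul, LinearMap.lTensor_tmul, AlgHom.toLinearMap_apply, ConstGrp.ev_apply,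
        TensorProduct.rid_tmul, ConstGrp.e_apply, ite_smul, one_smul, zero_smul, Finset.sum_ite_eq, Finset.mem_univ, if_true] at this
      rw [this, Finset.sum_eq_single (g * h⁻¹)]
      · rw [if_pos (by group)]
      · intro a _ ha
        rw [if_neg]
        rintro rfl
        exact ha (by group)
      · simp
    refine ⟨c * α (ConstGrp.e R 1), ?_⟩
    have hsum : ∑ h : Γ, h • α (ConstGrp.e R 1) = 1 := by
      rw [← h1, ← ConstGrp.sum_e (R := R) (G := Γ), map_sum]
      exact Fintype.sum_equiv (Equiv.inv Γ) _ _ fun h => by rw [key, one_mul]; rfl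
    have hc' : ∀ h : Γ, h • c = c := hc
    calc ∑ h : Γ, h • (c * α (ConstGrp.e R 1)) = c * ∑ h : Γ, h • α (ConstGrp.e R 1) := by
          rw [Finset.mul_sum]
          exact Finset.sum_congr rfl fun h _ => by rw [smul_mul', hc']
      _ = c := by rw [hsum, mul_one]
  · intro H
    obtain ⟨b, hb⟩ := H 1 (one_mem _)
    refine ⟨(ConstGrp.basis R Γ).constr R fun g => g⁻¹ • b, ConstGrp.linearMap_ext fun g => ?_, ?_⟩
    · have hα : ∀ a, ((ConstGrp.basis R Γ).constr R fun g => g⁻¹ • b) (ConstGrp.e R a) = a⁻¹ • b := fun a => by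
        rw [← ConstGrp.basis_apply, Module.Basis.constr_basis]
      simp only [LinearMap.comp_apply]
      rw [show HopfRep.Comod.coact (k := R) (A := ConstGrp.F R Γ) (ConstGrp.e R g) = Coalgebra.comul (R := R) (ConstGrp.e R g) from rfl,
        hα, show HopfRep.Comod.coact (k := R) (A := ConstGrp.F R Γ) (g⁻¹ • b) = ConstAct.coactLin R B Γ (g⁻¹ • b) from rfl,
        ConstAct.coactLin_apply, ConstGrp.comul_e, map_sum]
      simp only [LinearMap.rTensor_tmul, hα]
      refine Fintype.sum_equiv ((Equiv.inv Γ).trans (Equiv.mulLeft g)) _ _ fun h => ?_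
      change (h • g⁻¹ • b) ⊗ₜ[R] ConstGrp.e R h = ((g * h⁻¹)⁻¹ • b) ⊗ₜ[R] ConstGrp.e R ((g * h⁻¹)⁻¹ * g)
      rw [mul_inv_rev, inv_inv, mul_smul, mul_assoc, inv_mul_cancel, mul_one]
    · rw [← ConstGrp.sum_e (R := R) (G := Γ), map_sum, ← hb]
      exact Fintype.sum_equiv (Equiv.inv Γ) _ _ fun g => by rw [← ConstGrp.basis_apply, Module.Basis.constr_basis]; rfl

end Groth.Agent.S16963
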