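import Groth.Statements.S16979
import Mathlib
import Groth.Agent.Lib.H2MinPrime

set_option autoImplicit false
universe u v
open CAlg

namespace Groth.Agent.S16979
set_option linter.style.haveILetI false
open TensorProduct Polynomial Matrix

/-- Let R be an integral domain with fraction field K and φ a square matrix over R whose characteristic
polynomial becomes separable in K[T] (equivalently, K[T] modulo the characteristic polynomial is
geometrically reduced over K). Then a polynomial f over R satisfies f(φ) = 0 exactly when the
characteristic polynomial of φ divides f in R[T]: the kernel of evaluation at φ (the minimal ideal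
of φ) is the principal ideal generated by the characteristic polynomial. -/
theorem result
    {R : Type u} [CommRing R] [IsDomain R] {n : Type v} [Fintype n] [DecidableEq n]
    (φ : Matrix n n R)
    (hsep : (φ.charpoly.map (algebraMap R (FractionRing R))).Separable) :
    RingHom.ker (Polynomial.aeval (R := R) φ) = Ideal.span {φ.charpoly} := by
  classical
  refine le_antisymm (fun q hq => ?_) ((Ideal.span_singleton_le_iff_mem _).2 (Matrix.aeval_self_charpoly φ))
  rw [Ideal.mem_span_singleton, ← Polynomial.modByMonic_eq_zero_iff_dvd φ.charpoly_monic]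
  set r := q %ₘ φ.charpoly
  have hr : Polynomial.aeval φ r = 0 := by
    rw [Polynomial.aeval_modByMonic_eq_self_of_root (Matrix.aeval_self_charpoly φ)]; exact hq
  by_contra hne
  let L := AlgebraicClosure (FractionRing R)
  let ψ : R →+* L := algebraMap R L
  have hψ : Function.Injective ψ := by
    have : ψ = (algebraMap (FractionRing R) L).comp (algebraMap R (FractionRing R)) := IsScalarTower.algebraMap_eq _ _ _
    rw [this]; exact (algebraMap (FractionRing R) L).injective.comp (IsFractionRing.injective _ _)
  let M := φ.map ψ
  have hMc : M.charpoly = φ.charpoly.map ψ := Matrix.charpoly_map φ ψ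
  have hnd : M.charpoly.roots.Nodup := by
    apply Polynomial.nodup_roots
    rw [hMc, show ψ = (algebraMap (FractionRing R) L).comp (algebraMap R (FractionRing R)) from IsScalarTower.algebraMap_eq _ _ _, ← Polynomial.map_map]
    exact hsep.map
  have hroot : ∀ l ∈ M.charpoly.roots, (r.map ψ).IsRoot l := by
    intro l hl
    have hl' := (Polynomial.mem_roots (Matrix.charpoly_monic M).ne_zero).1 hl
    rw [Polynomial.IsRoot, Matrix.eval_charpoly] at hl'
    obtain ⟨v, hv, hv'⟩ := Matrix.exists_mulVec_eq_zero_iff.2 hl'
    have hev : Matrix.toLin' M v = l • v := by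
      rw [Matrix.toLin'_apply]
      rw [Matrix.sub_mulVec, sub_eq_zero] at hv'
      rw [← hv']
      simp [Matrix.scalar_apply, ← Matrix.diagonal_smul, Matrix.smul_mulVec, Pi.smul_def]
    have h1 := Module.End.aeval_apply_of_hasEigenvector (p := r.map ψ) (f := Matrix.toLin' M) (μ := l) ⟨Module.End.mem_eigenspace_iff.2 hev, hv⟩
    have h2 : Polynomial.aeval M (r.map ψ) = 0 := by
      rw [Polynomial.aeval_map_algebraMap]
      have h3 := congrArg (Algebra.ofId R L).mapMatrix hr
      rw [← Polynomial.aeval_algHom_apply, map_zero] at h3
      exact h3
    have h4 : Polynomial.aeval (Matrix.toLin' M) (r.map ψ) = 0 := by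
      have := congrArg Matrix.toLinAlgEquiv' h2
      rw [map_zero] at this
      exact (Polynomial.aeval_algHom_apply Matrix.toLinAlgEquiv'.toAlgHom M (r.map ψ)).trans this
    rw [h4, LinearMap.zero_apply, eq_comm, smul_eq_zero] at h1
    exact h1.resolve_right hv
  have hr0 : r.map ψ ≠ 0 := fun h => hne (Polynomial.map_injective ψ hψ (by rw [h, Polynomial.map_zero]))
  have hc : M.charpoly.roots ≤ (r.map ψ).roots := (Multiset.le_iff_subset hnd).2 fun l hl => (Polynomial.mem_roots hr0).2 (hroot l hl)
  have hcard := (Multiset.card_le_card hc).trans (Polynomial.card_roots' _)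
  rw [IsAlgClosed.card_roots_eq_natDegree, Matrix.charpoly_natDegree_eq_dim, Polynomial.natDegree_map_eq_of_injective hψ] at hcard
  have hlt : r.natDegree < Fintype.card n := by
    rw [← Matrix.charpoly_natDegree_eq_dim φ]
    refine Polynomial.natDegree_modByMonic_lt q φ.charpoly_monic ?_
    intro h1
    exact hne (by simp [r, h1])
  omega

end Groth.Agent.S16979
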