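import Groth.Statements.S16983
import Mathlib

set_option autoImplicit false
universe u
open DeformData

namespace Groth.Agent.S16983

/-- Let p be a prime, s ≥ 1, B a finite index set with a subset B₀ of exactly three elements, m_j ≥ 1
integers coprime to p, and σ_{i,j} (i < s, j ∈ B) rational numbers with m_j σ_{i,j} an integer, such
that Σ_j (σ_{i,j} − 1) = −2 for every i, the fractional part of σ_{i,j} equals that of p^i σ_{0,j},
no σ_{i,j} equals 1, and the minimum over i of ⌊σ_{i,j}⌋ is 0 for j ∈ B₀ and 1 for j ∉ B₀. Then for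
every i the fractional parts ⟨σ_{i,j}⟩ sum over j to 1 (purity), and ⌊σ_{i,j}⌋ is 0 on B₀ and 1 off
B₀ for every i. (The hypotheses are exactly the properties of the signature of a special deformation
datum on the projective line: each entry is an integer divided by a stabilizer order m_j in a group
of order prime to p, the degree identity coming from Riemann–Hurwitz, the Frobenius-twist relation
between fractional parts, and the speciality conditions; the statement is given here for any such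
tuple.) -/
theorem result
    {B : Type u} [Fintype B] [DecidableEq B] (B₀ : Finset B) (hB₀ : B₀.card = 3)
    (p : ℕ) (hp : p.Prime) (s : ℕ) (hs : 0 < s)
    (m : B → ℕ) (hm : ∀ j, 0 < m j) (hmp : ∀ j, Nat.Coprime (m j) p)
    (σ : Fin s → B → ℚ) (hint : ∀ i j, ∃ h : ℤ, σ i j = (h : ℚ) / (m j : ℚ))
    (hsum : ∀ i, ∑ j, (σ i j - 1) = -2)
    (hfract : ∀ i j, Int.fract (σ i j) = Int.fract ((p : ℚ) ^ (i : ℕ) * σ ⟨0, hs⟩ j))
    (hne : ∀ i j, σ i j ≠ 1)
    (hB₀min : ∀ j ∈ B₀, (∃ i, ⌊σ i j⌋ = 0) ∧ ∀ i, 0 ≤ ⌊σ i j⌋)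
    (hBmin : ∀ j ∉ B₀, (∃ i, ⌊σ i j⌋ = 1) ∧ ∀ i, 1 ≤ ⌊σ i j⌋) :
    (∀ i, ∑ j, Int.fract (σ i j) = 1) ∧ (∀ i j, ⌊σ i j⌋ = if j ∈ B₀ then 0 else 1) := by
  set z : Fin s → B → ℤ := fun i j => ⌊σ i j⌋ - if j ∈ B₀ then 0 else 1 with hz
  have hz0 : ∀ i j, 0 ≤ z i j := by
    intro i j
    by_cases h : j ∈ B₀
    · simpa [hz, h] using (hB₀min j h).2 i
    · simpa [hz, h] using sub_nonneg.mpr ((hBmin j h).2 i)
  have hkey : ∀ i, ∑ j, Int.fract (σ i j) + ((∑ j, z i j : ℤ) : ℚ) = 1 := by
    intro i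
    have h := hsum i
    have e : ∀ j, σ i j - 1 = Int.fract (σ i j) + ((z i j : ℤ) : ℚ) + (if j ∈ B₀ then (-1 : ℚ) else 0) := by
      intro j
      rw [Int.fract]
      by_cases hj : j ∈ B₀
      · simp only [hz, if_pos hj]; push_cast; ring
      · simp only [hz, if_neg hj]; push_cast; ring
    simp only [e, Finset.sum_add_distrib] at h
    rw [Finset.sum_ite_mem, Finset.univ_inter, Finset.sum_const, hB₀, nsmul_eq_mul] at h
    push_cast at h ⊢
    linarith
  have hpos : ∀ i, ∑ j, Int.fract (σ i j) ≠ 0 := by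
    intro i h0
    have hall : ∀ j, Int.fract (σ i j) = 0 := fun j =>
      (Finset.sum_eq_zero_iff_of_nonneg (fun j _ => Int.fract_nonneg _)).mp h0 j (Finset.mem_univ j)
    have hint' : ∀ i' j, σ i' j = (⌊σ i' j⌋ : ℚ) := by
      intro i' j
      obtain ⟨h, hh⟩ := hint ⟨0, hs⟩ j
      have hf := hall j
      rw [hfract i j, hh, Int.fract_eq_zero_iff] at hf
      obtain ⟨c, hc⟩ := hf
      have hm0 : (m j : ℚ) ≠ 0 := by exact_mod_cast (hm j).ne'
      have hdvd : (m j : ℤ) ∣ (p : ℤ) ^ (i : ℕ) * h := by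
        refine ⟨c, ?_⟩
        have : ((p : ℚ) ^ (i : ℕ) * h) = m j * c := by
          rw [show (m j : ℚ) * c = m j * ((p : ℚ) ^ (i : ℕ) * (h / m j)) from by rw [hc]]
          field_simp
        exact_mod_cast this
      have hcop : IsCoprime (m j : ℤ) ((p : ℤ) ^ (i : ℕ)) :=
        (Int.isCoprime_iff_nat_coprime.mpr (by simpa using hmp j)).pow_right
      obtain ⟨d, rfl⟩ := hcop.dvd_of_dvd_mul_left hdvd
      have : Int.fract (σ i' j) = 0 := by
        rw [hfract i' j, hh, Int.fract_eq_zero_iff]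
        refine ⟨(p : ℤ) ^ (i' : ℕ) * d, ?_⟩
        push_cast
        field_simp
      linarith [Int.floor_add_fract (σ i' j)]
    have hB : ∀ j, j ∈ B₀ := by
      intro j
      by_contra hj
      obtain ⟨i', hi'⟩ := (hBmin j hj).1
      exact hne i' j (by rw [hint' i' j, hi']; simp)
    have h1 : ∑ j, z i j = 1 := by
      have := hkey i
      rw [h0, zero_add] at this
      exact_mod_cast this
    obtain ⟨j, -, hj⟩ := Finset.exists_ne_zero_of_sum_ne_zero (h1.trans_ne one_ne_zero)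
    have hle : z i j ≤ 1 := h1 ▸ Finset.single_le_sum (fun j _ => hz0 i j) (Finset.mem_univ j)
    have : ⌊σ i j⌋ = 1 := by
      have := hz0 i j
      simp only [hz, if_pos (hB j), sub_zero] at hj hle this
      omega
    exact hne i j (by rw [hint' i j, this]; simp)
  have hmain : ∀ i, ∑ j, z i j = 0 := by
    intro i
    have h1 : (0 : ℚ) < ∑ j, Int.fract (σ i j) :=
      lt_of_le_of_ne (Finset.sum_nonneg fun j _ => Int.fract_nonneg _) (Ne.symm (hpos i))
    have h2 : ((∑ j, z i j : ℤ) : ℚ) < ((1 : ℤ) : ℚ) := by push_cast; linarith [hkey i, show ((∑ j, z i j : ℤ) : ℚ) = ∑ j, (z i j : ℚ) from by push_cast; rfl]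
    have h3 : 0 ≤ ∑ j, z i j := Finset.sum_nonneg fun j _ => hz0 i j
    have : ∑ j, z i j < 1 := by exact_mod_cast h2
    omega
  refine ⟨fun i => by simpa [hmain i] using hkey i, fun i j => ?_⟩
  have := (Finset.sum_eq_zero_iff_of_nonneg (fun j _ => hz0 i j)).mp (hmain i) j (Finset.mem_univ j)
  simpa [hz, sub_eq_zero] using this

end Groth.Agent.S16983
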