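import Groth.Statements.S17005
import Groth.Agent.Lib.QuadCentral

set_option autoImplicit false
universe u
open scoped TensorProduct
open QuadGrp

namespace Groth.Agent.S17005

/-- Let Q be a non-degenerate quadratic form on R^n, n ≥ 3, over a commutative ring R (perfect polar
pairing for even n, unit half-discriminant in the standard basis for odd n). An isometry g of Q of
determinant one commutes, after base change to every R-algebra A, with every determinant-one
isometry of Q_A if and only if g is multiplication by a scalar whose square is one; for odd n such a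
scalar is 1 because the determinant of g is its n-th power. (Points-level form of: the functorial
centre of the naive special orthogonal group is the central μ₂ for even rank and trivial for odd
rank.) -/
theorem result (R : Type u) [CommRing R] (n : ℕ) (hn : 3 ≤ n)
    (Q : QuadraticForm R (Fin n → R))
    (hQ : QuadGrp.IsNondeg (Pi.basisFun R (Fin n)) (LinearEquiv.refl R R) Q)
    (g : (Fin n → R) ≃ₗ[R] (Fin n → R)) (hg : g ∈ QuadGrp.SO' Q) :
    (∀ (A : Type u) [CommRing A] [Algebra R A], ∀ h ∈ QuadGrp.sorth' Q A,
        g.baseChange R A (Fin n → R) (Fin n → R) * h = h * g.baseChange R A (Fin n → R) (Fin n → R)) ↔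
      ∃ c : R, c * c = 1 ∧ ∀ v, g v = c • v := by
  classical
  refine ⟨fun h => ?_, ?_⟩
  swap
  ·
    rintro ⟨c, -, hc⟩ A _ _ h -
    have hg' : ∀ x, g.baseChange R A (Fin n → R) (Fin n → R) x = algebraMap R A c • x := fun x => by
      induction x with
      | tmul a v => rw [LinearEquiv.baseChange_tmul, hc, TensorProduct.tmul_smul, algebraMap_smul]
      | zero => simp
      | add x y hx hy => rw [map_add, hx, hy, smul_add]
    exact LinearEquiv.ext fun x => by
      rw [LinearEquiv.mul_apply, LinearEquiv.mul_apply, hg', hg', map_smul]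
  have htop : QuadLib.minorIdeal (QuadLib.polarMat (Pi.basisFun R (Fin n)) Q) = ⊤ := by
    refine QuadLib.minorIdeal_eq_top hn _ Q ?_
    rcases Nat.even_or_odd n with he | ho
    · exact Or.inl (QuadLib.isUnit_det_of_isRegular _ Q (hQ.1 he))
    · exact Or.inr ⟨ho, hQ.2 ho⟩
  obtain ⟨c, hc⟩ := QuadLib.scalar_of_infinitesimal hn _ Q htop g.toLinearMap
    (QuadLib.infinitesimal_of_commute Q g fun u w => h _ _
      ⟨(QuadLib.mem_O_baseChange_iff _ Q _).1 (QuadLib.addSmul_mem_O _ _ _ _), QuadLib.det_addSmul _ _ _ _⟩)
  exact ⟨c, QuadLib.sq_eq_one_of_scalar _ htop hg.1 hc, hc⟩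

end Groth.Agent.S17005
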