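import Groth.Statements.S17006
import Groth.Agent.Lib.QuadCentral

set_option autoImplicit false
universe u
open scoped TensorProduct
open QuadGrp

namespace Groth.Agent.S17006

/-- Let Q be a quadratic form on R^{2m}, m ≥ 2, over a commutative ring R, whose polar form is a perfect
pairing. An isometry g of Q satisfying the Dickson condition commutes, after base change to every
R-algebra A, with every isometry of Q_A satisfying the Dickson condition if and only if g is
multiplication by a scalar whose square is one. (Points-level form of: for even rank at least 4 the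
functorial centre of the special orthogonal group is the central μ₂ and coincides with that of the
naive one.) -/
theorem result (R : Type u) [CommRing R] (m : ℕ) (hm : 2 ≤ m)
    (Q : QuadraticForm R (Fin (2 * m) → R)) (hQ : QuadGrp.IsRegular Q)
    (g : (Fin (2 * m) → R) ≃ₗ[R] (Fin (2 * m) → R)) (hg : g ∈ QuadGrp.SO Q) :
    (∀ (A : Type u) [CommRing A] [Algebra R A], ∀ h ∈ QuadGrp.sorth Q A,
        g.baseChange R A (Fin (2 * m) → R) (Fin (2 * m) → R) * h = h * g.baseChange R A (Fin (2 * m) → R) (Fin (2 * m) → R)) ↔
      ∃ c : R, c * c = 1 ∧ ∀ v, g v = c • v := by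
  classical
  refine ⟨fun h => ?_, ?_⟩
  swap
  ·
    rintro ⟨c, -, hc⟩ A _ _ h -
    have hg' : ∀ x, g.baseChange R A (Fin (2 * m) → R) (Fin (2 * m) → R) x = algebraMap R A c • x := fun x => by
      induction x with
      | tmul a v => rw [LinearEquiv.baseChange_tmul, hc, TensorProduct.tmul_smul, algebraMap_smul]
      | zero => simp
      | add x y hx hy => rw [map_add, hx, hy, smul_add]
    exact LinearEquiv.ext fun x => by
      rw [LinearEquiv.mul_apply, LinearEquiv.mul_apply, hg', hg', map_smul]
  rcases subsingleton_or_nontrivial R with hs | hs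
  · exact ⟨1, mul_one 1, fun v => Subsingleton.elim _ _⟩
  have hfr : Even (Module.finrank R (Fin (2 * m) → R)) := by
    rw [Module.finrank_fin_fun]; exact even_two_mul m
  have hgO : g ∈ QuadGrp.O Q := by
    rw [QuadGrp.SO, if_pos hfr] at hg
    exact hg.1
  have htop : QuadLib.minorIdeal (QuadLib.polarMat (Pi.basisFun R (Fin (2 * m))) Q) = ⊤ :=
    QuadLib.minorIdeal_eq_top (by omega) _ Q (Or.inl (QuadLib.isUnit_det_of_isRegular _ Q hQ))
  have hev : Even (Module.finrank (DualNumber R) (DualNumber R ⊗[R] (Fin (2 * m) → R))) := by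
    rw [Module.finrank_baseChange]; exact hfr
  obtain ⟨c, hc⟩ := QuadLib.scalar_of_infinitesimal (by omega) _ Q htop g.toLinearMap
    (QuadLib.infinitesimal_of_commute Q g fun u w => h _ _ (by
      rw [QuadGrp.sorth, QuadGrp.SO, if_pos hev]
      exact ⟨QuadLib.addSmul_mem_O _ _ _ _, QuadLib.addSmul_dickson _ _ _ _⟩))
  exact ⟨c, QuadLib.sq_eq_one_of_scalar _ htop hgO hc, hc⟩

end Groth.Agent.S17006
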