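import Groth.Statements.S1701
import Groth.Agent.Lib.H7RelCartier

set_option autoImplicit false
universe u
open CategoryTheory CategoryTheory.Limits AlgebraicGeometry TopologicalSpace
open SDiv

namespace Groth.Agent.S1701

/-- Let f : X ⟶ S be a morphism, 𝓘 the ideal sheaf of an effective Cartier divisor D ⊂ X such that D ⟶ S
is flat (a relative effective Cartier divisor), and x a point of D at which the local ring of X is
Noetherian. Then f is flat at x. -/
theorem result {X S : Scheme.{u}} (f : X ⟶ S) (𝓘 : X.IdealSheafData)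
    (hD : (BlowUp.IsEffCartierIdeal 𝓘 ∧ Flat (𝓘.subschemeι ≫ f))) (d : ↥𝓘.subscheme) [IsNoetherianRing (X.presheaf.stalk (𝓘.subschemeι d))] :
    (f.stalkMap (𝓘.subschemeι d)).hom.Flat := by
  obtain ⟨hI, hfl⟩ := hD
  obtain ⟨x, hx⟩ : ∃ x, 𝓘.subschemeι d = x := ⟨_, rfl⟩
  have hxs : x ∈ 𝓘.support := by
    show x ∈ (𝓘.support : Set X)
    rw [← 𝓘.range_subschemeι]
    exact ⟨d, hx⟩
  have hnoe : IsNoetherianRing (X.presheaf.stalk x) := by rw [← hx]; infer_instance
  suffices (f.stalkMap x).hom.Flat by rw [hx]; exact this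
  obtain ⟨U₀, V, hxU₀, e₀⟩ := Groth.Agent.H7RelCartier.exists_affine_pair f x
  obtain ⟨U, hxU, hle, g, hg, hIg⟩ := Groth.Agent.H7Cartier.exists_principal_le hI x U₀.1 hxU₀
  have e : U.1 ≤ f ⁻¹ᵁ V.1 := hle.trans e₀
  have hflQ := Groth.Agent.H7RelCartier.flat_subscheme_appLE hfl U V e
  rw [hIg] at hflQ
  let A := Γ(S, V.1)
  let B := X.presheaf.stalk x
  let Bs := S.presheaf.stalk (f.base x)
  let : Algebra A Γ(X, U.1) := (f.appLE V.1 U.1 e).hom.toAlgebra
  let : Algebra Γ(X, U.1) B := TopCat.Presheaf.algebra_section_stalk X.presheaf ⟨x, hxU⟩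
  let : Algebra A Bs := TopCat.Presheaf.algebra_section_stalk S.presheaf ⟨f.base x, e hxU⟩
  let : Algebra Bs B := (f.stalkMap x).hom.toAlgebra
  let : Algebra A B := ((algebraMap Γ(X, U.1) B).comp (algebraMap A Γ(X, U.1))).toAlgebra
  have : IsScalarTower A Γ(X, U.1) B := IsScalarTower.of_algebraMap_eq' rfl
  have : IsScalarTower A Bs B := IsScalarTower.of_algebraMap_eq' (by
    show ((X.presheaf.germ U.1 x hxU).hom.comp (f.appLE V.1 U.1 e).hom) =
      (f.stalkMap x).hom.comp (S.presheaf.germ V.1 (f.base x) (e hxU)).hom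
    rw [← CommRingCat.hom_comp, ← CommRingCat.hom_comp]
    refine congrArg CommRingCat.Hom.hom ?_
    refine ((Scheme.Hom.germ_stalkMap f V.1 x (e hxU)).trans ?_).symm
    rw [Scheme.Hom.appLE, Category.assoc, TopCat.Presheaf.germ_res])
  have hlocB : IsLocalization.AtPrime B (U.2.primeIdealOf ⟨x, hxU⟩).asIdeal := U.2.isLocalization_stalk ⟨x, hxU⟩
  have hlocS : IsLocalization.AtPrime Bs (V.2.primeIdealOf ⟨f.base x, e hxU⟩).asIdeal :=
    V.2.isLocalization_stalk ⟨f.base x, e hxU⟩
  have : Module.Flat Γ(X, U.1) B := IsLocalization.flat _ (U.2.primeIdealOf ⟨x, hxU⟩).asIdeal.primeCompl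
  let g' := algebraMap Γ(X, U.1) B g
  have hg' : g' ∈ nonZeroDivisors B :=
    Groth.Agent.H7Cartier.nzd_map_of_flat _ (RingHom.flat_algebraMap_iff.mpr inferInstance) hg
  have hgm : g' ∈ IsLocalRing.maximalIdeal B := by
    have hnb : x ∉ X.basicOpen g := fun hc =>
      Groth.Agent.H7Cartier.basicOpen_disjoint_support U (hIg ▸ Ideal.mem_span_singleton_self g) hc hxs
    rw [IsLocalRing.mem_maximalIdeal]
    exact fun hu => hnb ((X.mem_basicOpen g x hxU).mpr hu)
  have hQ : Module.Flat A (Γ(X, U.1) ⧸ Ideal.span {g}) := (RingHom.flat_algebraMap_iff (R := A)).mp hflQ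
  have : Module.Flat A (B ⧸ Ideal.span {g'}) := by
    have h1 : (algebraMap A (Γ(X, U.1) ⧸ Ideal.span {g})).Flat := RingHom.flat_algebraMap_iff.mpr hQ
    let q : (Γ(X, U.1) ⧸ Ideal.span {g}) →+* B ⧸ Ideal.span {g'} :=
      Ideal.quotientMap _ (algebraMap Γ(X, U.1) B) (by
        rw [Ideal.span_singleton_le_iff_mem, Ideal.mem_comap]; exact Ideal.mem_span_singleton_self g')
    have h2 : q.Flat := by
      let := q.toAlgebra
      have hm : Ideal.span {g'} = (Ideal.span {g}).map (algebraMap Γ(X, U.1) B) := by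
        rw [Ideal.map_span, Set.image_singleton]
      let e2 : (TensorProduct Γ(X, U.1) (Γ(X, U.1) ⧸ Ideal.span {g}) B) ≃+* B ⧸ Ideal.span {g'} :=
        ((Algebra.TensorProduct.quotIdealMapEquivQuotTensor B (Ideal.span {g})).symm.toRingEquiv).trans
          (Ideal.quotEquivOfEq hm.symm)
      have h3 : q = e2.toRingHom.comp (algebraMap (Γ(X, U.1) ⧸ Ideal.span {g}) (TensorProduct Γ(X, U.1) (Γ(X, U.1) ⧸ Ideal.span {g}) B)) := by
        refine Ideal.Quotient.ringHom_ext (RingHom.ext fun r => ?_)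
        have hr : TensorProduct.tmul Γ(X, U.1) (Ideal.Quotient.mk (Ideal.span {g}) r) (1 : B) =
            algebraMap Γ(X, U.1) (TensorProduct Γ(X, U.1) (Γ(X, U.1) ⧸ Ideal.span {g}) B) r := rfl
        simp only [q, RingHom.comp_apply, Ideal.quotientMap_mk, RingHom.coe_coe, e2,
          Algebra.TensorProduct.includeLeftRingHom_apply, hr, RingEquiv.trans_apply, AlgEquiv.toRingEquiv_eq_coe]
        show _ = Ideal.quotEquivOfEq hm.symm ((Algebra.TensorProduct.quotIdealMapEquivQuotTensor B (Ideal.span {g})).symm _)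
        rw [AlgEquiv.commutes]
        rfl
      rw [h3]
      exact RingHom.Flat.comp (RingHom.flat_algebraMap_iff.mpr inferInstance) (RingHom.Flat.of_bijective e2.bijective)
    exact (RingHom.flat_algebraMap_iff (R := A)).mp (h1.comp h2)
  have : Module.Flat A B := Groth.Agent.H7RelCartier.flat_of_flat_quotient_local hg' hgm
  exact (Module.flat_iff_of_isLocalization (R := A) Bs (V.2.primeIdealOf ⟨f.base x, e hxU⟩).asIdeal.primeCompl (M := B)).mpr inferInstance

end Groth.Agent.S1701
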