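import Groth.Statements.S17017
import Mathlib

set_option autoImplicit false
universe u
open QuadGrp

namespace Groth.Agent.S17017

open scoped Pointwise
section
open CliffordAlgebra Submodule

variable (k : Type u) [Field k]

local notation "Q3" => QuadGrp.splitForm k 3

theorem q_apply (v : Fin 3 → k) : Q3 v = v 1 * v 2 + v 0 * v 0 := by
  simp [QuadGrp.splitForm]

/-- The standard generators. -/
noncomputable def e (i : Fin 3) : CliffordAlgebra Q3 := ι Q3 (Pi.single i 1)

theorem e00 : e k 0 * e k 0 = 1 := by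
  rw [e, ι_sq_scalar, q_apply]; simp
theorem e11 : e k 1 * e k 1 = 0 := by
  rw [e, ι_sq_scalar, q_apply]; simp
theorem e22 : e k 2 * e k 2 = 0 := by
  rw [e, ι_sq_scalar, q_apply]; simp
theorem e10 : e k 1 * e k 0 = -(e k 0 * e k 1) := by
  rw [eq_neg_iff_add_eq_zero, e, e, ι_mul_ι_add_swap]
  simp [QuadraticMap.polar, q_apply]
theorem e20 : e k 2 * e k 0 = -(e k 0 * e k 2) := by
  rw [eq_neg_iff_add_eq_zero, e, e, ι_mul_ι_add_swap]
  simp [QuadraticMap.polar, q_apply]
theorem e21 : e k 2 * e k 1 = 1 - e k 1 * e k 2 := by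
  rw [eq_sub_iff_add_eq, e, e, ι_mul_ι_add_swap]
  simp [QuadraticMap.polar, q_apply]

theorem e00' (x : CliffordAlgebra Q3) : e k 0 * (e k 0 * x) = x := by rw [← mul_assoc, e00, one_mul]
theorem e11' (x : CliffordAlgebra Q3) : e k 1 * (e k 1 * x) = 0 := by rw [← mul_assoc, e11, zero_mul]
theorem e22' (x : CliffordAlgebra Q3) : e k 2 * (e k 2 * x) = 0 := by rw [← mul_assoc, e22, zero_mul]
theorem e10' (x : CliffordAlgebra Q3) : e k 1 * (e k 0 * x) = -(e k 0 * (e k 1 * x)) := by
  rw [← mul_assoc, e10, neg_mul, mul_assoc]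
theorem e20' (x : CliffordAlgebra Q3) : e k 2 * (e k 0 * x) = -(e k 0 * (e k 2 * x)) := by
  rw [← mul_assoc, e20, neg_mul, mul_assoc]
theorem e21' (x : CliffordAlgebra Q3) : e k 2 * (e k 1 * x) = x - e k 1 * (e k 2 * x) := by
  rw [← mul_assoc, e21, sub_mul, one_mul, mul_assoc]

/-- The even span. -/
noncomputable def E0 : Submodule k (CliffordAlgebra Q3) := span k {1, e k 0 * e k 1, e k 0 * e k 2, e k 1 * e k 2}
/-- The odd span. -/
noncomputable def E1 : Submodule k (CliffordAlgebra Q3) := span k {e k 0, e k 1, e k 2, e k 0 * (e k 1 * e k 2)}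

theorem mem0 : (1 : CliffordAlgebra Q3) ∈ E0 k ∧ e k 0 * e k 1 ∈ E0 k ∧ e k 0 * e k 2 ∈ E0 k ∧ e k 1 * e k 2 ∈ E0 k :=
  ⟨subset_span (by simp), subset_span (by simp), subset_span (by simp), subset_span (by simp)⟩

theorem mem1 : e k 0 ∈ E1 k ∧ e k 1 ∈ E1 k ∧ e k 2 ∈ E1 k ∧ e k 0 * (e k 1 * e k 2) ∈ E1 k :=
  ⟨subset_span (by simp), subset_span (by simp), subset_span (by simp), subset_span (by simp)⟩

theorem gen_mul (i : Fin 3) : E0 k ≤ (E1 k).comap (LinearMap.mulLeft k (e k i)) ∧ E1 k ≤ (E0 k).comap (LinearMap.mulLeft k (e k i)) := by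
  obtain ⟨a0, a1, a2, a3⟩ := mem0 k
  obtain ⟨b0, b1, b2, b3⟩ := mem1 k
  constructor <;> refine span_le.2 ?_ <;> rintro x (rfl | rfl | rfl | rfl) <;> fin_cases i <;>
    simp [mul_assoc, mul_sub, e00, e11, e22, e10, e20, e21, e00', e11', e22', e10', e20', e21', sub_mem, neg_mem, *]

theorem ι_eq (m : Fin 3 → k) : ι Q3 m = ∑ i, m i • e k i := by
  simp only [e, ← map_smul, ← map_sum]
  congr 1
  ext j
  fin_cases j <;> simp [Fin.sum_univ_three]

theorem ι_mul0 (m : Fin 3 → k) {x : CliffordAlgebra Q3} (hx : x ∈ E0 k) : ι Q3 m * x ∈ E1 k := by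
  rw [ι_eq, Finset.sum_mul]
  exact sum_mem fun i _ => by rw [smul_mul_assoc]; exact smul_mem _ _ ((gen_mul k i).1 hx)

theorem ι_mul1 (m : Fin 3 → k) {x : CliffordAlgebra Q3} (hx : x ∈ E1 k) : ι Q3 m * x ∈ E0 k := by
  rw [ι_eq, Finset.sum_mul]
  exact sum_mem fun i _ => by rw [smul_mul_assoc]; exact smul_mem _ _ ((gen_mul k i).2 hx)

theorem even_mem {x : CliffordAlgebra Q3} (hx : x ∈ evenOdd Q3 0) : x ∈ E0 k := by
  induction x, hx using even_induction with
  | algebraMap r => rw [Algebra.algebraMap_eq_smul_one]; exact smul_mem _ _ (mem0 k).1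
  | add x y _ _ hx hy => exact add_mem hx hy
  | ι_mul_ι_mul m₁ m₂ x _ hx => rw [mul_assoc]; exact ι_mul1 k m₁ (ι_mul0 k m₂ hx)

theorem odd_mem {x : CliffordAlgebra Q3} (hx : x ∈ evenOdd Q3 1) : x ∈ E1 k := by
  induction x, hx using odd_induction with
  | ι v => simpa using ι_mul0 k v (mem0 k).1
  | add x y _ _ hx hy => exact add_mem hx hy
  | ι_mul_ι_mul m₁ m₂ x _ hx => rw [mul_assoc]; exact ι_mul0 k m₁ (ι_mul1 k m₂ hx)

theorem rev_mul_scalar {g : CliffordAlgebra Q3} (hg : g ∈ E0 k) : ∃ N : k, reverse g * g = algebraMap k _ N := by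
  simp only [E0, mem_span_insert, mem_span_singleton] at hg
  obtain ⟨a, _, ⟨b, _, ⟨c, _, ⟨d, rfl⟩, rfl⟩, rfl⟩, rfl⟩ := hg
  refine ⟨a * (a + d) + b * c, ?_⟩
  have hr : ∀ i, reverse (e k i) = e k i := fun i => reverse_ι _
  simp only [map_add, map_smul, reverse.map_mul, reverse.map_one, hr, e10, e20, e21]
  simp only [Algebra.algebraMap_eq_smul_one, add_mul, mul_add, smul_add, smul_sub, smul_neg, smul_smul, smul_mul_assoc,
    mul_smul_comm, neg_mul, mul_neg, sub_mul, mul_sub, one_mul, mul_one, mul_assoc,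
    e00, e11, e22, e10, e20, e21, e00', e11', e22', e10', e20', e21', mul_zero, smul_zero, neg_neg, neg_zero]
  module

/-- A matrix representation. -/
noncomputable def mrep : CliffordAlgebra Q3 →ₐ[k] Matrix (Fin 2) (Fin 2) k :=
  CliffordAlgebra.lift Q3 ⟨
    { toFun := fun v => !![v 0, v 1; v 2, -(v 0)]
      map_add' := fun a b => by ext i j; fin_cases i <;> fin_cases j <;> simp <;> ring
      map_smul' := fun r a => by ext i j; fin_cases i <;> fin_cases j <;> simp },
    fun v => by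
      ext i j
      fin_cases i <;> fin_cases j <;> simp [Matrix.mul_apply, q_apply, Fin.sum_univ_two, Matrix.algebraMap_matrix_apply] <;> ring⟩

theorem mem_range_of_fixed {w : CliffordAlgebra Q3} (hw : w ∈ E1 k) (h : reverse w = w) : w ∈ LinearMap.range (ι Q3) := by
  simp only [E1, mem_span_insert, mem_span_singleton] at hw
  obtain ⟨a, _, ⟨b, _, ⟨c, _, ⟨d, rfl⟩, rfl⟩, rfl⟩, rfl⟩ := hw
  have hr : ∀ i, reverse (e k i) = e k i := fun i => reverse_ι _
  have hz : d • (e k 0 - (2 : k) • (e k 0 * (e k 1 * e k 2))) = 0 := by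
    simp only [map_add, map_smul, reverse.map_mul, hr, mul_assoc, sub_mul, mul_sub, e10, e20, e21, e10', e20', e21',
      one_mul, neg_neg, mul_neg, neg_mul] at h
    rw [← sub_eq_zero] at h
    rw [← h]
    module
  have h2 := congrArg (fun y => mrep k y 0 0) hz
  simp [mrep, e, Matrix.mul_apply, Fin.sum_univ_two] at h2
  have hd : d = 0 := by
    rcases h2 with h2 | h2
    · exact h2
    · exact absurd h2 (by norm_num)
  subst hd
  refine ⟨a • Pi.single 0 1 + b • Pi.single 1 1 + c • Pi.single 2 1, ?_⟩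
  simp [e]
  abel

end

/-- Over a field k, for the standard split quadratic form x₀² + x₁x₂ on k³, every even unit of the
Clifford algebra normalises the subspace k³, i.e. lies in the naive Clifford group; so the even
Clifford group is the whole unit group of the even Clifford algebra. (The published claim is made
over fields of characteristic different from 2; here it is stated for every field.) -/
theorem result (k : Type u) [Field k] :
    QuadGrp.evenUnits (QuadGrp.splitForm k 3) ≤ QuadGrp.GPin' (QuadGrp.splitForm k 3) := by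
  have key : ∀ g ∈ QuadGrp.evenUnits (QuadGrp.splitForm k 3), ∀ v : Fin 3 → k,
      (g : CliffordAlgebra (QuadGrp.splitForm k 3)) * CliffordAlgebra.ι _ v * (↑g⁻¹ : CliffordAlgebra (QuadGrp.splitForm k 3)) ∈
        LinearMap.range (CliffordAlgebra.ι (QuadGrp.splitForm k 3)) := by
    intro g hg v
    have hg' : (g : CliffordAlgebra (QuadGrp.splitForm k 3)) ∈ CliffordAlgebra.evenOdd (QuadGrp.splitForm k 3) 0 := hg
    have hgi : ((g⁻¹ : (CliffordAlgebra (QuadGrp.splitForm k 3))ˣ) : CliffordAlgebra (QuadGrp.splitForm k 3)) ∈ CliffordAlgebra.evenOdd (QuadGrp.splitForm k 3) 0 :=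
      (QuadGrp.evenUnits (QuadGrp.splitForm k 3)).inv_mem hg
    obtain ⟨N, hN⟩ := rev_mul_scalar k (even_mem k hg')
    refine mem_range_of_fixed k (odd_mem k ?_) ?_
    · have := SetLike.mul_mem_graded (SetLike.mul_mem_graded hg' (CliffordAlgebra.ι_mem_evenOdd_one _ v)) hgi
      simpa using this
    · rw [CliffordAlgebra.reverse.map_mul, CliffordAlgebra.reverse.map_mul, CliffordAlgebra.reverse_ι]
      have h1 : CliffordAlgebra.reverse (↑g⁻¹ : CliffordAlgebra (QuadGrp.splitForm k 3)) * CliffordAlgebra.reverse (g : CliffordAlgebra (QuadGrp.splitForm k 3)) = 1 := by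
        rw [← CliffordAlgebra.reverse.map_mul, Units.mul_inv, CliffordAlgebra.reverse.map_one]
      have h2 : CliffordAlgebra.reverse (g : CliffordAlgebra (QuadGrp.splitForm k 3)) = N • (↑g⁻¹ : CliffordAlgebra (QuadGrp.splitForm k 3)) := by
        rw [Algebra.smul_def, ← hN, mul_assoc, Units.mul_inv, mul_one]
      rw [h2, mul_smul_comm] at h1
      have hr : CliffordAlgebra.reverse (↑g⁻¹ : CliffordAlgebra (QuadGrp.splitForm k 3)) * (↑g⁻¹ : CliffordAlgebra (QuadGrp.splitForm k 3)) * ↑g * (N • (1 : CliffordAlgebra (QuadGrp.splitForm k 3))) = ↑g := by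
        rw [mul_smul_comm, mul_one, ← smul_mul_assoc, h1, one_mul]
      rw [mul_assoc _ _ (↑g : CliffordAlgebra (QuadGrp.splitForm k 3)), Units.inv_mul, mul_one, mul_smul_comm, mul_one] at hr
      rw [h2, ← hr]; simp only [smul_mul_assoc, mul_smul_comm, mul_assoc]
  intro g hg
  refine Subgroup.mem_comap.2 (MulAction.mem_stabilizer_iff.2 ?_)
  refine SetLike.ext fun x => ⟨?_, ?_⟩
  · rintro ⟨y, ⟨v, rfl⟩, rfl⟩
    simpa [ConjAct.units_smul_def] using key g hg v
  · rintro ⟨v, rfl⟩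
    refine ⟨_, key g⁻¹ ((QuadGrp.evenUnits _).inv_mem hg) v, ?_⟩
    simp [ConjAct.units_smul_def, ← mul_assoc]

end Groth.Agent.S17017
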