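import Groth.Statements.S1702
import Groth.Agent.Lib.H7RelCartier

set_option autoImplicit false
universe u
open CategoryTheory CategoryTheory.Limits AlgebraicGeometry TopologicalSpace
open SDiv

namespace Groth.Agent.S1702

/-- Let f : X ⟶ S be a morphism and 𝓘₁, 𝓘₂ ideal sheaves of effective Cartier divisors on X whose closed
subschemes are flat over S. Then the product ideal 𝓘₁𝓘₂ (the sum of the divisors) is again the ideal
of an effective Cartier divisor flat over S. -/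
theorem result {X S : Scheme.{u}} (f : X ⟶ S) (𝓘₁ 𝓘₂ : X.IdealSheafData)
    (h₁ : (BlowUp.IsEffCartierIdeal 𝓘₁ ∧ Flat (𝓘₁.subschemeι ≫ f))) (h₂ : (BlowUp.IsEffCartierIdeal 𝓘₂ ∧ Flat (𝓘₂.subschemeι ≫ f))) : (BlowUp.IsEffCartierIdeal (𝓘₁ * 𝓘₂) ∧ Flat ((𝓘₁ * 𝓘₂).subschemeι ≫ f)) := by
  obtain ⟨hI₁, hf₁⟩ := h₁
  obtain ⟨hI₂, hf₂⟩ := h₂
  refine ⟨Groth.Agent.H7Cartier.IsEffCartierIdeal.mul hI₁ hI₂,
    Groth.Agent.H7RelCartier.flat_subscheme_of_appLE fun x _ => ?_⟩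
  obtain ⟨U₀, V, hx, e₀⟩ := Groth.Agent.H7RelCartier.exists_affine_pair f x
  obtain ⟨U, hxU, hle, a, ha, hIa⟩ := Groth.Agent.H7Cartier.exists_principal_le hI₁ x U₀.1 hx
  have e : U.1 ≤ f ⁻¹ᵁ V.1 := hle.trans e₀
  refine ⟨U, V, e, hxU, ?_⟩
  have h1 := Groth.Agent.H7RelCartier.flat_subscheme_appLE hf₁ U V e
  have h2 := Groth.Agent.H7RelCartier.flat_subscheme_appLE hf₂ U V e
  algebraize [(f.appLE V.1 U.1 e).hom]
  let B := Γ(X, U.1)
  let J := 𝓘₁.ideal U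
  let K := 𝓘₂.ideal U
  have hM : Module.Flat Γ(S, V.1) (B ⧸ K) := RingHom.flat_algebraMap_iff.mp h2
  have hP : Module.Flat Γ(S, V.1) (B ⧸ J) := RingHom.flat_algebraMap_iff.mp h1
  rw [Scheme.IdealSheafData.ideal_mul, Pi.mul_apply]
  refine (RingHom.flat_algebraMap_iff (R := Γ(S, V.1)) (S := B ⧸ (J * K))).mpr ?_
  have hle' : J * K ≤ J := Ideal.mul_le_left
  have hmemJ : ∀ z, z ∈ J ↔ a ∣ z := fun z => by
    change z ∈ 𝓘₁.ideal U ↔ _
    rw [hIa, Ideal.mem_span_singleton]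
  have hmemJK : ∀ z, z ∈ J * K ↔ ∃ c ∈ K, a * c = z := fun z => by
    change z ∈ 𝓘₁.ideal U * K ↔ _
    rw [hIa, Ideal.mem_span_singleton_mul]
  let i : (B ⧸ K) →ₗ[Γ(S, V.1)] B ⧸ (J * K) :=
    (Submodule.mapQ K (J * K) (LinearMap.mulLeft B a) (fun k hk =>
      Ideal.mul_mem_mul ((hmemJ a).mpr dvd_rfl) hk)).restrictScalars _
  let p : (B ⧸ (J * K)) →ₗ[Γ(S, V.1)] B ⧸ J := (Ideal.Quotient.factorₐ Γ(S, V.1) hle').toLinearMap
  have himk : ∀ b, i (Ideal.Quotient.mk K b) = Ideal.Quotient.mk (J * K) (a * b) := fun b => rfl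
  have hpmk : ∀ b, p (Ideal.Quotient.mk (J * K) b) = Ideal.Quotient.mk J b := fun b => rfl
  refine Groth.Agent.H7RelCartier.flat_ext i p ?_ ?_ ?_
  · intro z w hzw
    obtain ⟨z, rfl⟩ := Ideal.Quotient.mk_surjective z
    obtain ⟨w, rfl⟩ := Ideal.Quotient.mk_surjective w
    rw [himk, himk, Ideal.Quotient.eq, hmemJK] at hzw
    obtain ⟨c, hc, hc'⟩ := hzw
    rw [Ideal.Quotient.eq]
    rw [← mul_sub, mul_cancel_left_mem_nonZeroDivisors ha] at hc'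
    exact hc' ▸ hc
  · intro z
    obtain ⟨z, rfl⟩ := Ideal.Quotient.mk_surjective z
    rw [hpmk, Ideal.Quotient.eq_zero_iff_mem, hmemJ]
    constructor
    · rintro ⟨c, rfl⟩
      exact ⟨Ideal.Quotient.mk K c, himk c⟩
    · rintro ⟨w, hw⟩
      obtain ⟨w, rfl⟩ := Ideal.Quotient.mk_surjective w
      rw [himk, Ideal.Quotient.eq] at hw
      obtain ⟨c, hc⟩ := (hmemJ _).mp (hle' hw)
      exact ⟨w - c, by linear_combination -hc⟩
  · intro z
    obtain ⟨z, rfl⟩ := Ideal.Quotient.mk_surjective z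
    exact ⟨Ideal.Quotient.mk _ z, rfl⟩

end Groth.Agent.S1702
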