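import Groth.Statements.S17065
import Mathlib
import Groth.Agent.Lib.H2ArtFlat
import Groth.Agent.Lib.H2LocalCrit

set_option autoImplicit false
universe u
open CAlg

namespace Groth.Agent.S17065
set_option maxHeartbeats 4000000
open TensorProduct

/-- The local algebraic statement its proof establishes: let A be a Noetherian ring, I ≤ J radical
ideals and Â the J-adic completion of A. If J^n Â ⊆ I Â for some n, then the closed set V(J) is open
inside V(I) ⊆ Spec A. (Globally: if X₂ ⊆ X₁ are the completions of a locally Noetherian scheme along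
nested closed subsets Z₂ ⊆ Z₁ and the ideal of Z₁ generates an ideal of definition of X₂, then X₂ is
a union of connected components of X₁.) -/
theorem result (A : Type u) [CommRing A] [IsNoetherianRing A]
    (I J : Ideal A) (hIJ : I ≤ J) (hI : I.IsRadical) (hJ : J.IsRadical) (n : ℕ)
    (h : (J ^ n).map (algebraMap A (AdicCompletion J A)) ≤ I.map (algebraMap A (AdicCompletion J A))) :
    IsOpen ((fun x : PrimeSpectrum.zeroLocus (I : Set A) => (x : PrimeSpectrum A)) ⁻¹'
      PrimeSpectrum.zeroLocus (J : Set A)) := by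
  classical
  have key : ∀ x ∈ J ^ n, ∃ v : A, v - 1 ∈ J ∧ v * x ∈ I := by
    intro x hx
    have hm : ∀ m : ℕ, x ∈ I ⊔ J ^ m := fun m => by
      have h1 := h (Ideal.mem_map_of_mem _ hx)
      have h2 : AdicCompletion.evalₐ J m (algebraMap A (AdicCompletion J A) x) ∈ I.map (Ideal.Quotient.mk (J ^ m)) := by
        have := Ideal.mem_map_of_mem (AdicCompletion.evalₐ J m).toRingHom h1
        rw [Ideal.map_map] at this
        have hc : (AdicCompletion.evalₐ J m).toRingHom.comp (algebraMap A (AdicCompletion J A)) = Ideal.Quotient.mk (J ^ m) :=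
          RingHom.ext fun a => (AdicCompletion.evalₐ J m).commutes a
        rw [hc] at this
        exact this
      rw [(AdicCompletion.evalₐ J m).commutes] at h2
      have : x ∈ (I.map (Ideal.Quotient.mk (J ^ m))).comap (Ideal.Quotient.mk (J ^ m)) := h2
      rwa [Ideal.comap_map_of_surjective _ Ideal.Quotient.mk_surjective, ← RingHom.ker_eq_comap_bot, Ideal.mk_ker] at this
    have hmem : (Ideal.Quotient.mk I x : A ⧸ I) ∈ (⨅ i : ℕ, J ^ i • ⊤ : Submodule A (A ⧸ I)) := by
      rw [Submodule.mem_iInf]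
      intro m
      obtain ⟨a, ha, b, hb, rfl⟩ := Submodule.mem_sup.1 (hm m)
      rw [map_add, Ideal.Quotient.eq_zero_iff_mem.2 ha, zero_add,
        show Ideal.Quotient.mk I b = b • (1 : A ⧸ I) by rw [Algebra.smul_def, mul_one]; rfl]
      exact Submodule.smul_mem_smul hb trivial
    obtain ⟨r, hr⟩ := (Ideal.mem_iInf_smul_pow_eq_bot_iff J _).1 hmem
    refine ⟨1 - r, by simpa using J.neg_mem r.2, ?_⟩
    rw [← Ideal.Quotient.eq_zero_iff_mem, map_mul, map_sub, map_one, sub_mul, one_mul]
    rw [Algebra.smul_def, Ideal.Quotient.algebraMap_eq] at hr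
    rw [hr, sub_self]
  obtain ⟨t, ht⟩ : (J ^ n).FG := IsNoetherian.noetherian _
  choose v hv1 hv2 using fun x : {x // x ∈ t} => key x (ht ▸ Ideal.subset_span x.2)
  let w : A := ∏ x, v x
  have hw1 : w - 1 ∈ J := by
    have : Ideal.Quotient.mk J w = 1 := by
      rw [map_prod]
      refine Finset.prod_eq_one fun x _ => ?_
      rw [← map_one (Ideal.Quotient.mk J), Ideal.Quotient.eq]
      exact hv1 x
    rwa [← map_one (Ideal.Quotient.mk J), Ideal.Quotient.eq] at this
  have hwJ : ∀ x ∈ J ^ n, w * x ∈ I := by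
    intro x hx
    have hle : J ^ n ≤ Submodule.comap (LinearMap.lsmul A A w) I := by
      refine ht.symm.le.trans (Submodule.span_le.2 fun y hy => ?_)
      show w * y ∈ I
      obtain ⟨c, hc⟩ := Finset.dvd_prod_of_mem v (Finset.mem_univ (⟨y, hy⟩ : {x // x ∈ t}))
      rw [show w = v ⟨y, hy⟩ * c from hc, mul_right_comm]
      exact I.mul_mem_right _ (hv2 _)
    exact hle hx
  have : ((fun x : PrimeSpectrum.zeroLocus (I : Set A) => (x : PrimeSpectrum A)) ⁻¹' PrimeSpectrum.zeroLocus (J : Set A)) =
      ((fun x : PrimeSpectrum.zeroLocus (I : Set A) => (x : PrimeSpectrum A)) ⁻¹' PrimeSpectrum.basicOpen w) := by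
    ext ⟨q, hq⟩
    simp only [Set.mem_preimage, SetLike.mem_coe, PrimeSpectrum.mem_basicOpen]
    refine ⟨fun (hJq : J ≤ q.asIdeal) hwq => q.isPrime.one_notMem ?_, fun hwq => ?_⟩
    · simpa using sub_mem hwq (hJq hw1)
    · show J ≤ q.asIdeal
      intro x hx
      exact q.isPrime.mem_of_pow_mem n ((q.isPrime.mem_or_mem (hq (hwJ _ (Ideal.pow_mem_pow hx n)))).resolve_left hwq)
  rw [this]
  exact (PrimeSpectrum.basicOpen w).2.preimage continuous_subtype_val

end Groth.Agent.S17065
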