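import Groth.Statements.S1709
import Groth.Agent.Lib.H7AssPts

set_option autoImplicit false
universe u
open CategoryTheory CategoryTheory.Limits AlgebraicGeometry TopologicalSpace
open SDiv

namespace Groth.Agent.S1709

open Groth.Agent CategoryTheory.Limits AlgebraicGeometry


/-- Let f : X ⟶ S be an affine morphism with X locally Noetherian and F a quasi-coherent module on X.
Then the following subsets of S coincide: the image of the associated points of F, the associated
points of f_* F, the weakly associated points of f_* F, and the image of the weakly associated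
points of F. -/
theorem result {X S : Scheme.{u}} (f : X ⟶ S) [IsAffineHom f] [IsLocallyNoetherian X] (F : X.Modules)
    (hF : Coh.IsQCoh F) :
    (fun x => f x) '' {x : ↥X | Curv2.IsAssPoint F x} = {s : ↥S | Curv2.IsAssPoint ((Scheme.Modules.pushforward f).obj F) s} ∧
      {s : ↥S | Curv2.IsAssPoint ((Scheme.Modules.pushforward f).obj F) s} =
        {s : ↥S | Curv2.IsWeakAssPoint ((Scheme.Modules.pushforward f).obj F) s} ∧
      {s : ↥S | Curv2.IsWeakAssPoint ((Scheme.Modules.pushforward f).obj F) s} =
        (fun x => f x) '' {x : ↥X | Curv2.IsWeakAssPoint F x} := by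
  haveI : F.IsQuasicoherent := hF
  have h1 : {x : X | Curv2.IsAssPoint F x} = {x : X | Curv2.IsWeakAssPoint F x} :=
    Set.ext fun x => H7AssPts.assPoint_iff F x
  have h2 : {s : S | Curv2.IsAssPoint ((Scheme.Modules.pushforward f).obj F) s} =
      {s : S | Curv2.IsWeakAssPoint ((Scheme.Modules.pushforward f).obj F) s} :=
    Set.ext fun s => H7AssPts.assPoint_iff _ s
  have h3 : {s : S | Curv2.IsWeakAssPoint ((Scheme.Modules.pushforward f).obj F) s} =
      (fun x => f x) '' {x : X | Curv2.IsWeakAssPoint F x} := by
    ext s
    constructor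
    · intro h
      obtain ⟨x, hx, hw⟩ := H7AssPts.exists_weak_of_push f h
      exact ⟨x, hw, hx⟩
    · rintro ⟨x, hx, rfl⟩
      exact H7AssPts.weak_push_affine f hx
  exact ⟨by rw [h1, h2, h3], h2, h3⟩

end Groth.Agent.S1709
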