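import Groth.Statements.S17174
import Groth.Agent.Lib.LabGraphBI

set_option autoImplicit false
universe u
open LabGraph

namespace Groth.Agent.S17174

open LabGraph in
/-- Let Γ be the weighted dual graph of a Deligne–Mumford semistable curve X of genus g ≥ 3 over an
algebraically closed field (connected; every weight-zero vertex without loop is joined to the other
vertices by at least two edges), and let d, d' be two multidegrees of the same (arbitrary) total
degree D (g ≥ 3 being the paper's standing assumption) which both satisfy the Basic Inequality and
lie in the same degree class (d - d' is a twist). Then d - d' can be written in normal form: there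
is a labelling h of the vertices by natural numbers taking exactly the values 0, 1, …, q, with d -
d' equal to the twist of h (that is, d - d' = Σ_v h(v)·c_v with c_v the multidegree of O(C_v)), such
that for distinct levels i ≠ j in {0, …, q} the subcurves on h⁻¹(i) and h⁻¹(j) meet (some edge joins
the two levels) exactly when |i - j| = 1. -/
theorem result {V E : Type u} [Fintype V] [Fintype E]
    [DecidableEq V] [DecidableEq E] (ends : E → V × V) (w : V → ℕ) (hX : IsSemistableGraph ends w)
    (hg : 3 ≤ genus ends w) (d d' : V → ℤ)
    (hBI : SatisfiesBI ends w d) (hBI' : SatisfiesBI ends w d') (heq : TwistEquiv ends d d') :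
    ∃ (q : ℕ) (h : V → ℕ), (∀ v : V, h v ≤ q) ∧ (∀ i : ℕ, i ≤ q → ∃ v : V, h v = i) ∧
      (∀ v : V, d v - d' v = twist ends (fun u => (h u : ℤ)) v) ∧
      (∀ i j : ℕ, i ≤ q → j ≤ q → i ≠ j →
        ((∃ e : E, (h (ends e).1 = i ∧ h (ends e).2 = j) ∨ (h (ends e).1 = j ∧ h (ends e).2 = i)) ↔
          (i + 1 = j ∨ j + 1 = i))) := by
  obtain ⟨φ, hφ⟩ := heq
  have hK : 0 < canDeg ends w Finset.univ := by rw [LabGraphBI.canDeg_univ]; omega
  have hle := LabGraphBI.dl_le_one hK d d' φ hBI hBI' hφ
  have := hX.1.1
  obtain ⟨m, hm⟩ := Finite.exists_min φ
  obtain ⟨M, hM⟩ := Finite.exists_max φ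
  let h : V → ℕ := fun v => (φ v - φ m).toNat
  have hh : ∀ v, (h v : ℤ) = φ v - φ m := fun v => Int.toNat_of_nonneg (sub_nonneg.2 (hm v))
  refine ⟨h M, h, fun v => Int.toNat_le_toNat (by linarith [hM v]), ?_, fun v => ?_, ?_⟩
  rotate_left
  · rw [hφ]
    unfold twist
    simp only [hh, sub_sub_sub_cancel_right]
  · intro i j _ _ hij
    constructor
    · rintro ⟨e, ⟨h1, h2⟩ | ⟨h1, h2⟩⟩ <;>
      · have := hle e
        have := hh (ends e).1
        have := hh (ends e).2
        omega
    · intro hadj
      wlog hlt : i + 1 = j generalizing i j with H
      · obtain ⟨e, he⟩ := H j i (by assumption) (by assumption) hij.symm hadj.symm (by omega)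
        exact ⟨e, he.symm⟩
      subst hlt
      by_contra hne
      push Not at hne
      have hcl : ∀ x, Relation.ReflTransGen (Adj ends) m x → h x ≤ i := by
        intro x hx
        induction hx with
        | refl => simp [h]
        | tail _ hbc ih =>
          obtain ⟨e, he | he⟩ := hbc <;>
          · have h1 := hle e
            have h2 := hh (ends e).1
            have h3 := hh (ends e).2
            have h4 := hne e
            rw [he] at h1 h2 h3 h4
            dsimp only at h1 h2 h3 h4
            omega
      have := hcl M (hX.1.2 m M)
      omega
  intro i hi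
  induction i with
  | zero => exact ⟨m, by simp [h]⟩
  | succ i ih =>
    by_contra hne
    push Not at hne
    have hcl : ∀ x, Relation.ReflTransGen (Adj ends) m x → h x ≤ i := by
      intro x hx
      induction hx with
      | refl => simp [h]
      | tail _ hbc ih' =>
        obtain ⟨e, he | he⟩ := hbc <;>
        · have h1 := hle e
          have h2 := hh (ends e).1
          have h3 := hh (ends e).2
          have h4 := hne (ends e).1
          have h5 := hne (ends e).2
          rw [he] at h1 h2 h3 h4 h5
          dsimp only at h1 h2 h3 h4 h5
          omega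
    have := hcl M (hX.1.2 m M)
    omega

end Groth.Agent.S17174
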