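import Groth.Statements.S17176
import Mathlib

set_option autoImplicit false
open Curves

namespace Groth.Agent.S17176

/-- Fix integers g ≥ 3 and d. For a complete subcurve Y of arithmetic genus g_Y of a nodal curve of
genus g, meeting the rest of the curve in k points, the lower extreme of the Basic Inequality for
line bundles of degree d is m = d(2g_Y - 2 + k)/(2g - 2) - k/2, which is an integer exactly when 2(g
- 1) divides d(2g_Y - 2 + k) - k(g - 1). Then gcd(d - g + 1, 2g - 2) = 1 if and only if m is not an
integer for all integers g_Y, k with 0 < g_Y < g - 1, k ≥ 1 and k + 2g_Y - 2 < 2g - 2. (The row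
makes explicit the bound 2g_Y - 2 + k < 2g - 2, which is automatic for subcurves of stable curves
and is satisfied by every subcurve to which the source applies the lemma; the source leaves the
ambient curve's class implicit.) -/
theorem result (g d : ℤ) (hg : 3 ≤ g) :
    Int.gcd (d - g + 1) (2 * g - 2) = 1 ↔
      ∀ gY k : ℤ, 0 < gY → gY < g - 1 → 1 ≤ k → k + 2 * gY - 2 < 2 * g - 2 →
        ¬ (2 * (g - 1) ∣ d * (2 * gY - 2 + k) - k * (g - 1)) := by
  constructor
  · intro hg1 gY k h1 h2 h3 h4 hdvd
    set w := 2 * gY - 2 + k with hw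
    have h5 : (2 * g - 2) ∣ w * (d - g + 1) := by
      have : (2 * g - 2) ∣ (2 * g - 2) * (gY - 1) := dvd_mul_right _ _
      have h := Int.dvd_sub (show (2 * g - 2) ∣ d * w - k * (g - 1) by
        rw [show (2 * g - 2 : ℤ) = 2 * (g - 1) by ring]; exact hdvd) this
      rwa [show d * w - k * (g - 1) - (2 * g - 2) * (gY - 1) = w * (d - g + 1) by rw [hw]; ring] at h
    have hco : IsCoprime (2 * g - 2) (d - g + 1) := by
      rw [Int.isCoprime_iff_gcd_eq_one, Int.gcd_comm]; exact hg1
    have := Int.le_of_dvd (by omega) (hco.dvd_of_dvd_mul_right h5)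
    omega
  · intro h
    by_contra hne
    set G := Int.gcd (d - g + 1) (2 * g - 2) with hG
    obtain ⟨w, hw⟩ : (G : ℤ) ∣ 2 * g - 2 := Int.gcd_dvd_right _ _
    obtain ⟨e, he⟩ : (G : ℤ) ∣ d - g + 1 := Int.gcd_dvd_left _ _
    have hG2 : 2 ≤ (G : ℤ) := by
      rcases Nat.eq_zero_or_pos G with h0 | h0
      · rw [h0] at hw; simp at hw; omega
      · omega
    have hw1 : 1 ≤ w := by nlinarith
    have hw2 : w < 2 * g - 2 := by nlinarith
    exact h 1 w one_pos (by omega) hw1 (by omega) ⟨e, by linear_combination w * he - e * hw⟩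

end Groth.Agent.S17176
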