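import Groth.Statements.S1729
import Mathlib
import Groth.Prelude.Def_DualLC

set_option autoImplicit false
universe u
open Dual2

namespace Groth.Agent.S1729


/-- Over a local ring, every finite module M admits a projective cover: a surjection from a projective
module P onto M such that no proper submodule of P maps onto M. -/
theorem result (R : Type u) [CommRing R] [IsLocalRing R] (M : Type u) [AddCommGroup M] [Module R M] [Module.Finite R M] : ∃ (P : Type u) (_ : AddCommGroup P) (_ : Module R P) (f : P →ₗ[R] M), Dual2.IsProjectiveCover f := by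
  classical
  have h : ∃ n : ℕ, ∃ g : Fin n → M, Submodule.span R (Set.range g) = ⊤ := Module.Finite.exists_fin
  obtain ⟨g, hg⟩ := Nat.find_spec h
  let f : (Fin (Nat.find h) → R) →ₗ[R] M := Fintype.linearCombination R g
  have hs : Function.Surjective f := by
    rw [← LinearMap.range_eq_top, Fintype.range_linearCombination, hg]
  have hker : ∀ x, f x = 0 → ∀ i, x i ∈ IsLocalRing.maximalIdeal R := by
    intro x hx i
    by_contra hu
    obtain ⟨v, hv⟩ := (not_not.1 hu : IsUnit (x i)).exists_left_inv
    obtain ⟨m, hm⟩ : ∃ m, Nat.find h = m + 1 := ⟨Nat.find h - 1, by have := i.2; omega⟩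
    refine Nat.find_min h (show m < Nat.find h by omega) ⟨fun j => g (Fin.cast hm.symm ((Fin.cast hm i).succAbove j)), top_le_iff.1 ?_⟩
    refine hg.ge.trans (Submodule.span_le.2 ?_)
    rintro _ ⟨k, rfl⟩
    let S := Submodule.span R (Set.range fun j => g (Fin.cast hm.symm ((Fin.cast hm i).succAbove j)))
    have hne : ∀ k, k ≠ i → g k ∈ S := fun k hk => by
      obtain ⟨j, hj⟩ := Fin.exists_succAbove_eq (x := Fin.cast hm k) (y := Fin.cast hm i) (by simpa using hk)
      exact Submodule.subset_span ⟨j, by simp [hj]⟩
    rcases eq_or_ne k i with rfl | hk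
    · have hx' : ∑ j, x j • g j = 0 := by rw [← hx]; simp [f, Fintype.linearCombination_apply]
      rw [← Finset.add_sum_erase _ _ (Finset.mem_univ k)] at hx'
      have : g k = -(v • ∑ j ∈ Finset.univ.erase k, x j • g j) := by
        rw [eq_neg_of_add_eq_zero_right hx', smul_neg, neg_neg, ← mul_smul, hv, one_smul]
      show g k ∈ S
      rw [this]
      exact S.neg_mem (S.smul_mem _ (S.sum_mem fun j hj => S.smul_mem _ (hne j (Finset.ne_of_mem_erase hj))))
    · exact hne k hk
  refine ⟨_, inferInstance, inferInstance, f, ⟨inferInstance, hs, fun N hN => ?_⟩⟩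
  refine top_le_iff.1 (Submodule.le_of_le_smul_of_le_jacobson_bot Module.Finite.fg_top (IsLocalRing.maximalIdeal_le_jacobson ⊥) ?_)
  intro p _
  obtain ⟨n, hn, hfn⟩ : f p ∈ Submodule.map f N := by rw [hN]; trivial
  refine Submodule.mem_sup.2 ⟨n, hn, p - n, ?_, add_sub_cancel _ _⟩
  rw [← Finset.univ_sum_single (p - n)]
  refine Submodule.sum_mem _ fun i _ => ?_
  rw [show Pi.single i ((p - n) i) = ((p - n) i) • Pi.single i (1 : R) by rw [← Pi.single_smul]; simp]
  exact Submodule.smul_mem_smul (hker _ (by rw [map_sub, hfn, sub_self]) i) trivial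

end Groth.Agent.S1729
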