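import Groth.Statements.S17321
import Mathlib
import Groth.Agent.Lib.H2FiniteAlgClosed

set_option autoImplicit false
universe u v
open CAlg

namespace Groth.Agent.S17321
open scoped TensorProduct
open Polynomial
set_option linter.style.haveILetI false

/-- Let k be an algebraically closed field and A a commutative k-algebra which is finite-dimensional as
a k-vector space (the coordinate ring of a finite k-scheme). Then the space Der(A) of k-derivations
A → A is zero if and only if A is reduced. -/
theorem result (k : Type u) [Field k] [IsAlgClosed k]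
    (A : Type v) [CommRing A] [Algebra k A] [Module.Finite k A] :
    Subsingleton (Derivation k A A) ↔ IsReduced A := by
  haveI : IsArtinianRing A := IsArtinianRing.of_finite k A
  constructor
  · intro h
    by_contra hred
    obtain ⟨x, hx, hx0⟩ : ∃ x : A, IsNilpotent x ∧ x ≠ 0 := by
      by_contra hcon; push Not at hcon; exact hred ⟨hcon⟩
    let N := Submodule.span A ({x} : Set A)
    haveI : Nontrivial N := ⟨⟨⟨x, Submodule.mem_span_singleton_self x⟩, 0, fun e => hx0 (congrArg Subtype.val e)⟩⟩
    obtain ⟨m, hm⟩ := associatedPrimes.nonempty A N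
    obtain ⟨hmp, ⟨s, hsN⟩, hs⟩ := isAssociatedPrime_iff.1 hm
    haveI : m.IsMaximal := IsArtinianRing.isMaximal_of_isPrime m
    have hann : ∀ r : A, r ∈ m ↔ r * s = 0 := fun r => by
      rw [hs, Submodule.mem_colon_singleton, Submodule.mem_bot, Subtype.ext_iff]; rfl
    have hs0 : s ≠ 0 := fun e => hmp.ne_top ((Ideal.eq_top_iff_one _).2 ((hann 1).2 (by rw [e, mul_zero])))
    have hsm : s ∈ m := by
      obtain ⟨c, rfl⟩ := Submodule.mem_span_singleton.1 hsN
      obtain ⟨j, hj⟩ := hx
      exact hmp.mem_of_pow_mem j (by rw [smul_eq_mul, mul_pow, hj, mul_zero]; exact m.zero_mem)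
    have hm2 : ¬ m ≤ m * m := by
      intro hle
      obtain ⟨r, hr, hr'⟩ := Submodule.exists_mem_and_smul_eq_self_of_fg_of_le_smul m m (IsNoetherian.noetherian m) hle
      exact hs0 ((hr' s hsm).symm.trans ((hann r).1 hr))
    obtain ⟨y, hy, hy'⟩ := SetLike.not_le_iff_exists.1 hm2
    let W : Submodule k A := (m * m).restrictScalars k
    obtain ⟨l, hl, hlW⟩ := Submodule.exists_le_ker_of_notMem (K := k) (p := W) hy'
    haveI : Algebra.IsAlgebraic k (A ⧸ m) := Algebra.IsAlgebraic.of_finite k _
    have hres : ∀ a : A, ∃ c : k, a - algebraMap k A c ∈ m := fun a => by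
      letI := Ideal.Quotient.field m
      obtain ⟨c, hc⟩ := (IsAlgClosed.algebraMap_bijective_of_isIntegral (k := k) (K := A ⧸ m)).2 (Ideal.Quotient.mk m a)
      exact ⟨c, Ideal.Quotient.eq.1 hc.symm⟩
    choose c hc using hres
    have huniq : ∀ a (t : k), a - algebraMap k A t ∈ m → c a = t := fun a t ht => by
      by_contra hne
      have h1 : algebraMap k A (c a - t) ∈ m := by
        have := m.sub_mem ht (hc a); rwa [sub_sub_sub_cancel_left, ← map_sub] at this
      exact hmp.ne_top (Ideal.eq_top_of_isUnit_mem _ h1 ((isUnit_iff_ne_zero.2 (sub_ne_zero.2 hne)).map _))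
    have hcadd : ∀ a b, c (a + b) = c a + c b := fun a b => huniq _ _ (by
      rw [map_add, add_sub_add_comm]; exact m.add_mem (hc a) (hc b))
    have hcsmul : ∀ (t : k) a, c (t • a) = t * c a := fun t a => huniq _ _ (by
      rw [Algebra.smul_def, map_mul, ← mul_sub]; exact m.mul_mem_left _ (hc a))
    have hcmul : ∀ a b, c (a * b) = c a * c b := fun a b => huniq _ _ (by
      rw [map_mul, show a * b - algebraMap k A (c a) * algebraMap k A (c b) = (a - algebraMap k A (c a)) * b + algebraMap k A (c a) * (b - algebraMap k A (c b)) by ring]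
      exact m.add_mem (m.mul_mem_right _ (hc a)) (m.mul_mem_left _ (hc b)))
    let D : A →ₗ[k] A :=
      { toFun := fun a => l (a - algebraMap k A (c a)) • s
        map_add' := fun a b => by rw [hcadd, map_add, add_sub_add_comm, map_add, add_smul]
        map_smul' := fun t a => by
          rw [hcsmul, map_mul, ← Algebra.smul_def, ← smul_sub, map_smul, smul_eq_mul, mul_smul]; rfl }
    have hD : ∀ a b, D (a * b) = a * D b + b * D a := fun a b => by
      show l (a * b - algebraMap k A (c (a * b))) • s = a * (l (b - algebraMap k A (c b)) • s) + b * (l (a - algebraMap k A (c a)) • s)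
      have e1 : ∀ a (t : k), a * (t • s) = (c a * t) • s := fun a t => by
        have : (a - algebraMap k A (c a)) * s = 0 := (hann _).1 (hc a)
        rw [sub_mul, sub_eq_zero] at this
        rw [mul_smul_comm, this, ← Algebra.smul_def, smul_smul, mul_comm]
      have e2 : a * b - algebraMap k A (c (a * b)) = (a - algebraMap k A (c a)) * (b - algebraMap k A (c b)) + (c a • (b - algebraMap k A (c b)) + c b • (a - algebraMap k A (c a))) := by
        rw [hcmul, map_mul, Algebra.smul_def, Algebra.smul_def]; ring
      rw [e1, e1, ← add_smul, e2, map_add, map_add, map_smul, map_smul, smul_eq_mul, smul_eq_mul,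
        show l ((a - algebraMap k A (c a)) * (b - algebraMap k A (c b))) = 0 from hlW (Ideal.mul_mem_mul (hc a) (hc b)), zero_add]
    have hd := congrArg (fun d : Derivation k A A => d y) (@Subsingleton.elim _ h (Derivation.mk' D hD) 0)
    change l (y - algebraMap k A (c y)) • s = 0 at hd
    rw [huniq y 0 (by rwa [map_zero, sub_zero]), map_zero, sub_zero] at hd
    exact hs0 ((smul_eq_zero.1 hd).resolve_left hl)
  · intro h
    haveI := Groth.Agent.H2FiniteAlgClosed.formallyEtale_of_isReduced k A
    exact (KaehlerDifferential.linearMapEquivDerivation k A (M := A)).toEquiv.subsingleton_congr.1 inferInstance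

end Groth.Agent.S17321
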