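import Groth.Statements.S17323
import Mathlib
import Groth.Agent.Lib.H2FiniteAlgClosed

set_option autoImplicit false
universe u v
open CAlg

namespace Groth.Agent.S17323
open scoped TensorProduct
open Polynomial
set_option linter.style.haveILetI false

/-- Let k be an algebraically closed field and A a commutative k-algebra which is finite-dimensional as
a k-vector space. Then A has a largest reduced subalgebra: a k-subalgebra B which is reduced and
contains every reduced k-subalgebra of A; moreover the composite of the inclusion B → A with the
projection A → A/nilradical(A) is bijective. -/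
theorem result (k : Type u) [Field k] [IsAlgClosed k]
    (A : Type v) [CommRing A] [Algebra k A] [Module.Finite k A] :
    ∃ B : Subalgebra k A, IsReduced ↥B ∧ (∀ C : Subalgebra k A, IsReduced ↥C → C ≤ B) ∧
      Function.Bijective ((Ideal.Quotient.mkₐ k (nilradical A)).comp B.val) := by
  haveI : IsArtinianRing A := IsArtinianRing.of_finite k A
  have hnil : IsNilpotent (nilradical A) := IsArtinianRing.isNilpotent_nilradical
  haveI : IsReduced (A ⧸ nilradical A) := (Ideal.isRadical_iff_quotient_reduced _).1 (Ideal.radical_isRadical ⊥)
  haveI : Algebra.FormallyEtale k (A ⧸ nilradical A) := Groth.Agent.H2FiniteAlgClosed.formallyEtale_of_isReduced k _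
  let s := Algebra.FormallySmooth.lift (nilradical A) hnil (AlgHom.id k (A ⧸ nilradical A))
  have hs : ∀ x, Ideal.Quotient.mk (nilradical A) (s x) = x := fun x =>
    AlgHom.congr_fun (Algebra.FormallySmooth.comp_lift (nilradical A) hnil (AlgHom.id k (A ⧸ nilradical A))) x
  have hinj : Function.Injective s := fun a b hab => by rw [← hs a, ← hs b, hab]
  refine ⟨s.range, ?_, fun C hC => ?_, ⟨?_, fun q => ⟨⟨s q, q, rfl⟩, hs q⟩⟩⟩
  · exact isReduced_of_injective (AlgEquiv.ofInjective s hinj).symm.toRingHom (AlgEquiv.ofInjective s hinj).symm.injective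
  · haveI := hC
    haveI : Module.Finite k C := FiniteDimensional.finiteDimensional_submodule C.toSubmodule
    haveI : Algebra.FormallyEtale k C := Groth.Agent.H2FiniteAlgClosed.formallyEtale_of_isReduced k _
    intro c hc
    have := Algebra.FormallyUnramified.lift_unique (R := k) (A := C) (nilradical A) hnil C.val (s.comp ((Ideal.Quotient.mkₐ k (nilradical A)).comp C.val))
      (AlgHom.ext fun x => (hs _).symm)
    exact ⟨_, (AlgHom.congr_fun this ⟨c, hc⟩).symm⟩
  · rintro ⟨_, a, rfl⟩ ⟨_, b, rfl⟩ hab
    change Ideal.Quotient.mk (nilradical A) (s a) = Ideal.Quotient.mk (nilradical A) (s b) at hab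
    rw [hs, hs] at hab
    exact Subtype.ext (congrArg s hab)

end Groth.Agent.S17323
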