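import Mathlib
import Groth.Statements.S17324
-- import your own Groth.Agent.* helpers here

set_option autoImplicit false
universe u v
open CAlg

namespace Groth.Agent.S17324

/-- (i) ⟺ (ii): let k be an algebraically closed field, A a commutative k-algebra which is
finite-dimensional as a k-vector space and is a local ring with maximal ideal m, and a_1, …, a_m ∈
m. Then A is generated as a k-algebra by a_1, …, a_m if and only if m is generated as an ideal by
a_1, …, a_m. (The printed lemma has a third equivalent condition, that the images of the a_i span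
m/m²; its equivalence with (ii) is Nakayama's lemma.) -/
theorem result (k : Type u) [Field k] [IsAlgClosed k]
    (A : Type v) [CommRing A] [Algebra k A] [Module.Finite k A] [IsLocalRing A]
    (m : ℕ) (a : Fin m → A) (ha : ∀ i, a i ∈ IsLocalRing.maximalIdeal A) :
    Algebra.adjoin k (Set.range a) = ⊤ ↔ Ideal.span (Set.range a) = IsLocalRing.maximalIdeal A := by
  let M := IsLocalRing.maximalIdeal A
  have hle : Ideal.span (Set.range a) ≤ M := Ideal.span_le.2 (by rintro _ ⟨i, rfl⟩; exact ha i)
  constructor
  · intro h
    refine le_antisymm hle fun x hx => ?_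
    have key : ∀ y : A, ∃ c : k, y - algebraMap k A c ∈ Ideal.span (Set.range a) := by
      intro y
      have hy : y ∈ Algebra.adjoin k (Set.range a) := by rw [h]; trivial
      induction hy using Algebra.adjoin_induction with
      | mem z hz => exact ⟨0, by simpa using Ideal.subset_span hz⟩
      | algebraMap c => exact ⟨c, by simp⟩
      | add y z _ _ hy hz =>
        obtain ⟨c, hc⟩ := hy; obtain ⟨d, hd⟩ := hz
        exact ⟨c + d, by rw [map_add, show y + z - (algebraMap k A c + algebraMap k A d) = (y - algebraMap k A c) + (z - algebraMap k A d) by ring]; exact add_mem hc hd⟩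
      | mul y z _ _ hy hz =>
        obtain ⟨c, hc⟩ := hy; obtain ⟨d, hd⟩ := hz
        exact ⟨c * d, by rw [map_mul, show y * z - algebraMap k A c * algebraMap k A d = (y - algebraMap k A c) * z + algebraMap k A c * (z - algebraMap k A d) by ring]; exact add_mem (Ideal.mul_mem_right _ _ hc) (Ideal.mul_mem_left _ _ hd)⟩
    obtain ⟨c, hc⟩ := key x
    have hc0 : c = 0 := by
      by_contra hne
      have hu : IsUnit (algebraMap k A c) := (isUnit_iff_ne_zero.2 hne).map _
      have h4 := M.sub_mem hx (hle hc)
      rw [sub_sub_cancel] at h4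
      exact (IsLocalRing.mem_maximalIdeal _).1 h4 hu
    simpa [hc0] using hc
  · intro h
    haveI : IsArtinianRing A := IsArtinianRing.of_finite k A
    haveI : Module.Finite k (IsLocalRing.ResidueField A) :=
      Module.Finite.of_surjective (IsScalarTower.toAlgHom k A (IsLocalRing.ResidueField A)).toLinearMap IsLocalRing.residue_surjective
    have hres : ∀ x : A, ∃ c : k, x - algebraMap k A c ∈ M := fun x => by
      obtain ⟨c, hc⟩ := (IsAlgClosed.algebraMap_bijective_of_isIntegral (k := k) (K := IsLocalRing.ResidueField A)).2 (IsLocalRing.residue A x)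
      refine ⟨c, (IsLocalRing.residue_eq_zero_iff _).1 ?_⟩
      rw [map_sub, ← hc]
      exact sub_self _
    let S := Algebra.adjoin k (Set.range a)
    have h1 : ∀ z ∈ M, ∃ s ∈ S, z - s ∈ M ^ 2 := by
      intro z hz
      have hz' : z ∈ Ideal.span (Set.range a) := by rw [h]; exact hz
      induction hz' using Submodule.span_induction with
      | mem w hw => exact ⟨w, Algebra.subset_adjoin hw, by simp⟩
      | zero => exact ⟨0, zero_mem _, by simp⟩
      | add u v hu hv iu iv =>
        obtain ⟨s, hs, hs'⟩ := iu (hle hu); obtain ⟨t, ht, ht'⟩ := iv (hle hv)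
        exact ⟨s + t, add_mem hs ht, by rw [show u + v - (s + t) = (u - s) + (v - t) by ring]; exact add_mem hs' ht'⟩
      | smul b w hw iw =>
        obtain ⟨c, hc⟩ := hres b; obtain ⟨s, hs, hs'⟩ := iw (hle hw)
        refine ⟨algebraMap k A c * s, mul_mem (Subalgebra.algebraMap_mem _ c) hs, ?_⟩
        rw [smul_eq_mul, show b * w - algebraMap k A c * s = (b - algebraMap k A c) * w + algebraMap k A c * (w - s) by ring]
        exact add_mem (by rw [pow_two]; exact Ideal.mul_mem_mul hc (hle hw)) (Ideal.mul_mem_left _ _ hs')
    have h2 : ∀ j, ∀ y ∈ M ^ j, ∃ s ∈ S, y - s ∈ M ^ (j + 1) := by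
      intro j
      induction j with
      | zero =>
        intro y _
        obtain ⟨c, hc⟩ := hres y
        exact ⟨_, Subalgebra.algebraMap_mem _ c, by rwa [zero_add, pow_one]⟩
      | succ j ih =>
        intro y hy
        rw [pow_succ] at hy
        induction hy using Submodule.mul_induction_on' with
        | mem_mul_mem u hu v hv =>
          obtain ⟨s, hs, hs'⟩ := ih u hu; obtain ⟨t, ht, ht'⟩ := h1 v hv
          have hsM : s ∈ M ^ j := by
            have := Ideal.sub_mem _ hu (Ideal.pow_le_pow_right (Nat.le_succ j) hs')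
            simpa using this
          refine ⟨s * t, mul_mem hs ht, ?_⟩
          rw [show u * v - s * t = (u - s) * v + s * (v - t) by ring]
          refine add_mem ?_ ?_
          · rw [pow_succ M (j + 1)]; exact Ideal.mul_mem_mul hs' hv
          · rw [show j + 1 + 1 = j + 2 from rfl, pow_add]; exact Ideal.mul_mem_mul hsM ht'
        | add u _ v _ iu iv =>
          obtain ⟨s, hs, hs'⟩ := iu; obtain ⟨t, ht, ht'⟩ := iv
          exact ⟨s + t, add_mem hs ht, by rw [show u + v - (s + t) = (u - s) + (v - t) by ring]; exact add_mem hs' ht'⟩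
    have h3 : ∀ j, ∀ x : A, ∃ s ∈ S, x - s ∈ M ^ j := by
      intro j
      induction j with
      | zero => exact fun x => ⟨0, zero_mem _, by simp⟩
      | succ j ih =>
        intro x
        obtain ⟨s, hs, hs'⟩ := ih x; obtain ⟨t, ht, ht'⟩ := h2 j _ hs'
        exact ⟨s + t, add_mem hs ht, by rwa [← sub_sub]⟩
    obtain ⟨N, hN⟩ := IsArtinianRing.isNilpotent_jacobson_bot (R := A)
    rw [IsLocalRing.jacobson_eq_maximalIdeal ⊥ bot_ne_top] at hN
    refine eq_top_iff.2 fun x _ => ?_
    obtain ⟨s, hs, hs'⟩ := h3 N x
    rw [hN, Submodule.zero_eq_bot, Ideal.mem_bot, sub_eq_zero] at hs'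
    exact hs' ▸ hs

end Groth.Agent.S17324
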