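import Groth.Statements.S17326
import Mathlib
import Groth.Agent.Lib.H2FiniteAlgClosed

set_option autoImplicit false
universe u v
open CAlg

namespace Groth.Agent.S17326
open scoped TensorProduct
open Polynomial
set_option linter.style.haveILetI false

/-- Let k be an algebraically closed field of characteristic p > 0, A a commutative k-algebra which is
finite-dimensional as a k-vector space (a finite k-scheme X), and n ≥ 1. The n-th iterated relative
Frobenius morphism X → X^(p^n) is an isomorphism if and only if X is reduced; on rings: the map a ↦
a^(p^n) of A to itself (which is the ring homomorphism underlying the relative Frobenius, the twist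
A^(p^n) having the same underlying ring as A) is bijective if and only if A is reduced. -/
theorem result (k : Type u) [Field k] [IsAlgClosed k]
    (p : ℕ) [Fact p.Prime] [CharP k p] (A : Type v) [CommRing A] [Algebra k A] [Module.Finite k A]
    (n : ℕ) (hn : 1 ≤ n) :
    Function.Bijective (fun a : A => a ^ p ^ n) ↔ IsReduced A := by
  constructor
  · intro h
    rw [isReduced_iff_pow_one_lt (p ^ n) (Nat.one_lt_pow (by omega) (Fact.out : p.Prime).one_lt)]
    intro x hx
    exact h.injective (hx.trans (zero_pow (pow_ne_zero _ (Fact.out : p.Prime).ne_zero)).symm)
  · intro hred
    rcases subsingleton_or_nontrivial A with hA | hA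
    · exact ⟨fun a b _ => Subsingleton.elim a b, fun a => ⟨a, Subsingleton.elim _ _⟩⟩
    haveI : CharP A p := charP_of_injective_algebraMap (algebraMap k A).injective p
    have hF : Function.Bijective (frobenius A p) := by
      refine ⟨frobenius_inj A p, fun a => ?_⟩
      let b := Module.finBasis k A
      have hli : LinearIndependent k (fun i => frobenius A p (b i)) := by
        rw [Fintype.linearIndependent_iff]
        intro g hg i
        have hroot : ∀ i, ∃ c : k, c ^ p = g i := fun i => IsAlgClosed.exists_pow_nat_eq _ (Fact.out : p.Prime).pos
        choose c hc using hroot
        have h0 : frobenius A p (∑ i, c i • b i) = 0 := by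
          rw [map_sum, ← hg]
          refine Finset.sum_congr rfl fun i _ => ?_
          rw [Algebra.smul_def, map_mul, Algebra.smul_def]
          congr 1
          rw [frobenius_def, ← map_pow, hc]
        have h1 := Fintype.linearIndependent_iff.1 b.linearIndependent c (frobenius_inj A p (h0.trans (map_zero _).symm)) i
        rw [← hc i, h1, zero_pow (Fact.out : p.Prime).ne_zero]
      have hspan := hli.span_eq_top_of_card_eq_finrank' (by simp)
      have ha : a ∈ Submodule.span k (Set.range fun i => frobenius A p (b i)) := hspan ▸ trivial
      obtain ⟨g, hg⟩ := (Submodule.mem_span_range_iff_exists_fun k).1 ha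
      have hroot : ∀ i, ∃ c : k, c ^ p = g i := fun i => IsAlgClosed.exists_pow_nat_eq _ (Fact.out : p.Prime).pos
      choose c hc using hroot
      refine ⟨∑ i, c i • b i, ?_⟩
      rw [map_sum, ← hg]
      refine Finset.sum_congr rfl fun i _ => ?_
      rw [Algebra.smul_def, map_mul, Algebra.smul_def]
      congr 1
      rw [frobenius_def, ← map_pow, hc]
    have := hF.iterate n
    convert this using 1
    funext a
    rw [iterate_frobenius]

end Groth.Agent.S17326
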