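import Groth.Statements.S1733
import Mathlib
import Groth.Prelude.Def_DualLC

set_option autoImplicit false
universe u
open LocCoh

namespace Groth.Agent.S1733
open scoped TensorProduct

/-- Let f_1, …, f_r and g be elements of a ring (r ≥ 1). If the family f_1, …, f_{r-1}, f_r g is
independent (every linear relation has coefficients in the ideal the family generates), then f_1, …,
f_r is independent. -/
theorem result (A : Type u) [CommRing A] (r : ℕ) (f : Fin (r + 1) → A) (g : A) (h : Dual2.Independent (Function.update f (Fin.last r) (f (Fin.last r) * g))) : Dual2.Independent f := by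
  set f' := Function.update f (Fin.last r) (f (Fin.last r) * g)
  set l := Fin.last r
  have hl : f' l = f l * g := Function.update_self ..
  have hc : ∀ i : Fin r, f' i.castSucc = f i.castSucc := fun i => Function.update_of_ne (Fin.castSucc_lt_last i).ne _ _
  have hle : Ideal.span (Set.range f') ≤ Ideal.span (Set.range f) := by
    rw [Ideal.span_le, Set.range_subset_iff]
    intro i
    refine Fin.lastCases ?_ (fun i => ?_) i
    · rw [show f' (Fin.last r) = f l * g from hl]; exact Ideal.mul_mem_right _ _ (Ideal.subset_span ⟨l, rfl⟩)
    · rw [hc]; exact Ideal.subset_span ⟨_, rfl⟩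
  intro a ha
  rw [Fin.sum_univ_castSucc] at ha
  have h1 := h (fun i => if i = l then a l else a i * g) (by
    rw [Fin.sum_univ_castSucc]
    simp only [(Fin.castSucc_lt_last _).ne, if_false, if_true, hc, hl, l]
    linear_combination (norm := skip) g * ha
    simp only [mul_add, Finset.mul_sum]
    ring_nf)
  have hla : a l ∈ Ideal.span (Set.range f') := by simpa using h1 l
  obtain ⟨b, hb⟩ := Ideal.mem_span_range_iff_exists_fun.1 hla
  rw [Fin.sum_univ_castSucc] at hb
  simp only [hc, show f' (Fin.last r) = f l * g from hl] at hb
  have h2 := h (fun i => if i = l then b l * f l else a i + b i * f l) (by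
    rw [Fin.sum_univ_castSucc]
    simp only [(Fin.castSucc_lt_last _).ne, if_false, if_true, hc, hl, l]
    simp only [add_mul, Finset.sum_add_distrib]
    have : ∑ i : Fin r, b i.castSucc * f l * f i.castSucc = f l * ∑ i : Fin r, b i.castSucc * f i.castSucc := by
      rw [Finset.mul_sum]; exact Finset.sum_congr rfl fun i _ => by ring
    simp only [l] at this hb ha ⊢
    linear_combination this + ha + f (Fin.last r) * hb)
  intro i
  refine Fin.lastCases ?_ (fun i => ?_) i
  · exact hle hla
  · have h3 := hle (h2 i.castSucc)
    simp only [(Fin.castSucc_lt_last _).ne, if_false, l] at h3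
    exact (Ideal.add_mem_iff_left _ (Ideal.mul_mem_left _ _ (Ideal.subset_span ⟨l, rfl⟩ : f l ∈ Ideal.span (Set.range f)))).1 h3

end Groth.Agent.S1733
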