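import Groth.Statements.S17332
import Mathlib

set_option autoImplicit false
universe u v w
open CAlg

namespace Groth.Agent.S17332
set_option linter.style.haveILetI false
open TensorProduct Polynomial

/-- Let k be a field, E and F finite sets, and O(E), O(F) the k-algebras of k-valued functions with
pointwise operations. Then every k-algebra homomorphism u : O(F) → O(E) is pull-back along a unique
map φ : E → F, i.e. u(g) = g ∘ φ for all g. (In the source k is algebraically closed; the printed
argument only uses that k is a field.) -/
theorem result (k : Type u) [Field k] (E : Type v) [Finite E]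
    (F : Type w) [Finite F] (u : (F → k) →ₐ[k] (E → k)) :
    ∃! φ : E → F, ∀ g : F → k, u g = g ∘ φ := by
  classical
  haveI := Fintype.ofFinite F
  have h : ∀ e, ∃ f : F, u (Pi.single f 1) e ≠ 0 := by
    intro e
    by_contra hc
    push Not at hc
    have h1 : u 1 e = 1 := by simp
    have h2 : (1 : F → k) = ∑ f, Pi.single f 1 := (Finset.univ_sum_single (1 : F → k)).symm
    rw [h2, map_sum, Finset.sum_apply, Finset.sum_eq_zero (fun f _ => hc f)] at h1
    exact zero_ne_one h1
  choose φ hφ using h
  have key : ∀ g e, u g e = g (φ e) := by
    intro g e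
    have h1 : g * Pi.single (φ e) (1 : k) = g (φ e) • Pi.single (φ e) (1 : k) := by
      ext f; rcases eq_or_ne f (φ e) with rfl | hf <;> simp [*]
    have h2 := congrFun (congrArg u h1) e
    rw [map_mul, map_smul, Pi.mul_apply, Pi.smul_apply, smul_eq_mul] at h2
    exact mul_right_cancel₀ (hφ e) h2
  refine ⟨φ, fun g => funext (key g), fun ψ hψ => funext fun e => ?_⟩
  have h3 := congrFun (hψ (Pi.single (φ e) 1)) e
  rw [key, Function.comp_apply, Pi.single_eq_same] at h3
  by_contra hne
  rw [Pi.single_eq_of_ne hne] at h3
  exact one_ne_zero h3

end Groth.Agent.S17332
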