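import Groth.Statements.S17333
import Mathlib

set_option autoImplicit false
universe u v w
open CAlg

namespace Groth.Agent.S17333
set_option linter.style.haveILetI false
open TensorProduct Polynomial

/-- Let k be a field and A = B × C a decomposable commutative k-algebra. Then the natural map Der(B) ×
Der(C) → Der(A) is bijective: every k-derivation D : A → A is (b, c) ↦ (D₁ b, D₂ c) for a unique
pair of k-derivations D₁ : B → B, D₂ : C → C. Compatibility with brackets is not stated. (The
published statement takes k algebraically closed; this row takes any field.) -/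
theorem result (k : Type u) [Field k] (B : Type v) [CommRing B] [Algebra k B]
    (C : Type w) [CommRing C] [Algebra k C] (D : Derivation k (B × C) (B × C)) :
    ∃! P : Derivation k B B × Derivation k C C, ∀ (b : B) (c : C), D (b, c) = (P.1 b, P.2 c) := by
  have he : D (1, 0) = 0 := by
    have h := D.leibniz (1, 0) (1, 0)
    simp only [Prod.mk_mul_mk, mul_one, mul_zero, smul_eq_mul] at h
    generalize D (1, 0) = z at h ⊢
    obtain ⟨z1, z2⟩ := z
    simp only [Prod.mk_mul_mk, one_mul, zero_mul, Prod.mk_add_mk, Prod.mk.injEq, add_zero] at h
    ext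
    · simpa using h.1
    · simpa using h.2
  have h1 : ∀ b : B, (D (b, 0)).2 = 0 := fun b => by
    have h := D.leibniz (1, 0) (b, (0 : C))
    rw [he] at h
    simpa using congrArg Prod.snd h
  have h2 : ∀ c : C, (D (0, c)).1 = 0 := fun c => by
    have he2 : D ((0 : B), (1 : C)) = 0 := by
      have : ((0 : B), (1 : C)) = 1 - (1, 0) := by ext <;> simp
      rw [this, map_sub, D.map_one_eq_zero, he, sub_zero]
    have h := D.leibniz (0, 1) ((0 : B), c)
    rw [he2] at h
    simpa using congrArg Prod.fst h
  let P1 : Derivation k B B :=
    { toLinearMap := (LinearMap.fst k B C).comp (D.toLinearMap.comp (LinearMap.inl k B C))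
      map_one_eq_zero' := by simp [he]
      leibniz' := fun a b => by
        have h := D.leibniz (a, 0) (b, (0 : C))
        simp only [Prod.mk_mul_mk, mul_zero, smul_eq_mul] at h
        simpa using congrArg Prod.fst h }
  let P2 : Derivation k C C :=
    { toLinearMap := (LinearMap.snd k B C).comp (D.toLinearMap.comp (LinearMap.inr k B C))
      map_one_eq_zero' := by
        have : ((0 : B), (1 : C)) = 1 - (1, 0) := by ext <;> simp
        simp [this, he]
      leibniz' := fun a b => by
        have h := D.leibniz (0, a) ((0 : B), b)
        simp only [Prod.mk_mul_mk, mul_zero, smul_eq_mul] at h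
        simpa using congrArg Prod.snd h }
  have hsplit : ∀ b c, D (b, c) = (P1 b, P2 c) := fun b c => by
    have : ((b, c) : B × C) = (b, 0) + (0, c) := by simp
    rw [this, map_add]
    ext
    · show _ = (D (b, 0)).1; simp [h2]
    · show _ = (D (0, c)).2; simp [h1]
  refine ⟨(P1, P2), hsplit, ?_⟩
  rintro ⟨Q1, Q2⟩ hQ
  refine Prod.ext (Derivation.ext fun b => ?_) (Derivation.ext fun c => ?_)
  · exact congrArg Prod.fst ((hQ b 0).symm.trans (hsplit b 0))
  · exact congrArg Prod.snd ((hQ 0 c).symm.trans (hsplit 0 c))

end Groth.Agent.S17333
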