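import Groth.Statements.S17334
import Mathlib
import Groth.Agent.Lib.H2Decay

set_option autoImplicit false
universe u v
open CAlg

namespace Groth.Agent.S17334
open scoped TensorProduct
set_option linter.style.haveILetI false

/-- Let k be a field and A a nonzero commutative k-algebra which is finite-dimensional as a k-vector
space. Then A is indecomposable (no decomposition as a product of two nonzero rings, i.e. no
idempotent other than 0 and 1) if and only if A is a local ring. (In the source k is algebraically
closed and the lemma adds that the maximal ideal is then the nilradical, is nilpotent, and has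
residue field k; the equivalence itself uses only that k is a field, and the zero algebra is
excluded here explicitly.) -/
theorem result (k : Type u) [Field k]
    (A : Type v) [CommRing A] [Algebra k A] [Module.Finite k A] [Nontrivial A] :
    (∀ e : A, IsIdempotentElem e → e = 0 ∨ e = 1) ↔ IsLocalRing A := by
  constructor
  · intro h
    haveI : IsArtinianRing A := IsArtinianRing.of_finite k A
    by_contra hloc
    obtain ⟨m, hm⟩ := Ideal.exists_maximal A
    obtain ⟨m', hm', hne⟩ : ∃ m' : Ideal A, m'.IsMaximal ∧ m' ≠ m := by
      by_contra hcon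
      push Not at hcon
      exact hloc (IsLocalRing.of_unique_max_ideal ⟨m, hm, hcon⟩)
    obtain ⟨u, hu, v, hv, huv⟩ : ∃ u ∈ m, ∃ v ∈ m', u + v = 1 :=
      Submodule.mem_sup.1 (show (1 : A) ∈ m ⊔ m' by rw [Ideal.IsMaximal.coprime_of_ne hm hm' hne.symm]; trivial)
    obtain ⟨n, hn, hnu⟩ : ∃ n, 0 < n ∧ ∃ a, u ^ n = u ^ (n + n) * a := by
      obtain ⟨j, y, hy⟩ := IsArtinian.exists_pow_succ_smul_dvd u (1 : A)
      have key : ∀ i, ∃ a, u ^ j = u ^ (j + i) * a := by
        intro i
        induction i with
        | zero => exact ⟨1, by simp⟩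
        | succ i ih =>
          obtain ⟨a, ha⟩ := ih
          refine ⟨y * a, ?_⟩
          have hy' : u ^ (j + 1) * y = u ^ j := by simpa [smul_eq_mul] using hy
          rw [ha, pow_add]
          conv_lhs => rw [← hy']
          ring
      refine ⟨j + 1, Nat.succ_pos j, ?_⟩
      obtain ⟨a, ha⟩ := key (j + 1 + 1)
      refine ⟨a * u, ?_⟩
      rw [pow_succ, ha]; ring
    obtain ⟨a, ha⟩ := hnu
    have hidem : IsIdempotentElem (u ^ n * a) := by
      show u ^ n * a * (u ^ n * a) = u ^ n * a
      conv_rhs => rw [ha]
      ring
    rcases h _ hidem with h0 | h1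
    · have hz : u ^ n = 0 := by rw [ha, pow_add, mul_assoc, h0, mul_zero]
      have hu' : u ∈ m' := hm'.isPrime.mem_of_pow_mem n (hz ▸ m'.zero_mem)
      exact hm'.ne_top ((Ideal.eq_top_iff_one _).2 (huv ▸ m'.add_mem hu' hv))
    · exact hm.ne_top ((Ideal.eq_top_iff_one _).2 (h1 ▸ m.mul_mem_right a (Ideal.pow_mem_of_mem m hu n hn)))
  · intro _ e he
    rcases IsLocalRing.isUnit_or_isUnit_one_sub_self e with h | h
    · exact Or.inr (h.mul_left_cancel (he.trans (mul_one e).symm))
    · refine Or.inl ((h.mul_right_eq_zero (b := e)).1 ?_)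
      rw [sub_mul, one_mul, he.eq, sub_self]

end Groth.Agent.S17334
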