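import Groth.Statements.S17335
import Mathlib
import Groth.Agent.Lib.H2FiniteAlgClosed

set_option autoImplicit false
universe u v
open CAlg

namespace Groth.Agent.S17335
open scoped TensorProduct
open Polynomial
set_option linter.style.haveILetI false

/-- Let k be an algebraically closed field and A a commutative k-algebra which is finite-dimensional as
a k-vector space, and let E be the set of k-algebra homomorphisms A → k. Then E is finite, and the
evaluation homomorphism A → O(E) = (E → k), a ↦ (f ↦ f(a)), is surjective with kernel the nilradical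
of A; it therefore induces an isomorphism of A_red = A/nilradical(A) onto O(E). -/
theorem result (k : Type u) [Field k]
    [IsAlgClosed k] (A : Type v) [CommRing A] [Algebra k A] [Module.Finite k A] :
    Finite (A →ₐ[k] k) ∧
      Function.Surjective (AlgHom.pi (R := k) (fun f : A →ₐ[k] k => f)) ∧
      RingHom.ker (AlgHom.pi (R := k) (fun f : A →ₐ[k] k => f)) = nilradical A := by
  haveI : IsArtinianRing A := IsArtinianRing.of_finite k A
  haveI hfin : Finite (A →ₐ[k] k) := Finite.algHom k A k
  have hmax : ∀ f : A →ₐ[k] k, (RingHom.ker f).IsMaximal := fun f =>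
    RingHom.ker_isMaximal_of_surjective f fun c => ⟨algebraMap k A c, f.commutes c⟩
  refine ⟨hfin, fun c => ?_, ?_⟩
  · obtain ⟨a, ha⟩ := Ideal.quotientInfToPiQuotient_surj (I := fun f : A →ₐ[k] k => RingHom.ker f) (fun f g hfg => by
      refine Ideal.isCoprime_iff_sup_eq.2 (Ideal.IsMaximal.coprime_of_ne (hmax f) (hmax g) fun he => hfg ?_)
      refine AlgHom.ext fun x => ?_
      have h1 : x - algebraMap k A (f x) ∈ RingHom.ker g := (show RingHom.ker f = RingHom.ker g from he).le (by simp [RingHom.mem_ker])
      rw [RingHom.mem_ker, map_sub, g.commutes, sub_eq_zero] at h1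
      exact h1.symm) (fun f => Ideal.Quotient.mk _ (algebraMap k A (c f)))
    obtain ⟨a, rfl⟩ := Ideal.Quotient.mk_surjective a
    refine ⟨a, funext fun f => ?_⟩
    have h2 := Ideal.Quotient.eq.1 (congrFun ha f)
    rw [RingHom.mem_ker, map_sub, f.commutes, sub_eq_zero] at h2
    exact h2
  · refine le_antisymm (fun x hx => ?_) fun x hx => ?_
    · rw [nilradical_eq_sInf, Ideal.mem_sInf]
      intro P hP
      haveI : P.IsPrime := hP
      haveI := IsArtinianRing.isMaximal_of_isPrime P
      letI := Ideal.Quotient.field P
      haveI : Algebra.IsAlgebraic k (A ⧸ P) := Algebra.IsAlgebraic.of_finite k _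
      let e := AlgEquiv.ofBijective (Algebra.ofId k (A ⧸ P)) (IsAlgClosed.algebraMap_bijective_of_isIntegral (k := k) (K := A ⧸ P))
      have h1 := congrFun (RingHom.mem_ker.1 hx) (e.symm.toAlgHom.comp (Ideal.Quotient.mkₐ k P))
      exact Ideal.Quotient.eq_zero_iff_mem.1 ((e.symm.map_eq_zero_iff).1 h1)
    · exact RingHom.mem_ker.2 (funext fun f => IsNilpotent.eq_zero ((mem_nilradical.1 hx).map f))

end Groth.Agent.S17335
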