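import Groth.Statements.S1735
import Mathlib
import Groth.Agent.Lib.H2Chevalley

set_option autoImplicit false
universe u
open LocCoh

namespace Groth.Agent.S1735
open IsLocalRing

/-- Let A be a complete Noetherian local domain and p a prime ideal with dim(A/p) = 1. For every n ≥ 1
there is m ≥ n such that the m-th symbolic power of p (the contraction of p^m A_p to A) is contained
in p^n. -/
theorem result (A : Type u) [CommRing A] [IsDomain A] [IsLocalRing A] [IsNoetherianRing A] [IsAdicComplete (IsLocalRing.maximalIdeal A) A] (p : Ideal A) [p.IsPrime] (hp : ringKrullDim (A ⧸ p) = 1) (n : ℕ) (hn : 1 ≤ n) : ∃ m : ℕ, n ≤ m ∧ ((Ideal.map (algebraMap A (Localization.AtPrime p)) p) ^ m).comap (algebraMap A (Localization.AtPrime p)) ≤ p ^ n := by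
  let f := algebraMap A (Localization.AtPrime p)
  let P := Ideal.map f p
  let b : ℕ → Ideal A := fun m => (P ^ m).comap f
  have hb : Antitone b := fun i j hij => Ideal.comap_mono (Ideal.pow_le_pow_right hij)
  have hinj : Function.Injective f := IsLocalization.injective _ p.primeCompl_le_nonZeroDivisors
  have h0 : ⨅ j, b j = ⊥ := by
    show ⨅ j, (P ^ j).comap f = ⊥
    rw [← Ideal.comap_iInf, show P = maximalIdeal (Localization.AtPrime p) from Localization.AtPrime.map_eq_maximalIdeal,
      Ideal.iInf_pow_eq_bot_of_isLocalRing _ (maximalIdeal.isMaximal _).ne_top, ← RingHom.ker_eq_comap_bot, (RingHom.injective_iff_ker_eq_bot f).mp hinj]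
  -- annihilator of `b n / p ^ n`
  have hs : ∀ x ∈ b n, ∃ s ∉ p, s * x ∈ p ^ n := by
    intro x hx
    have hx' : f x ∈ Ideal.map f (p ^ n) := by rw [Ideal.map_pow]; exact hx
    obtain ⟨s, hs, h⟩ := (IsLocalization.algebraMap_mem_map_algebraMap_iff p.primeCompl (Localization.AtPrime p) (p ^ n) x).mp hx'
    exact ⟨s, hs, h⟩
  obtain ⟨G, hG⟩ := IsNoetherian.noetherian (b n)
  classical
  choose! s hs1 hs2 using hs
  let t := ∏ x ∈ G, s x
  have ht : t ∉ p := fun h => by
    obtain ⟨x, hx, hxp⟩ := (Ideal.IsPrime.prod_mem_iff).mp h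
    exact hs1 x (hG ▸ Submodule.subset_span hx) hxp
  let c : Ideal A := (p ^ n).colon (b n : Set A)
  have htc : t ∈ c := by
    rw [Submodule.mem_colon]
    intro x hx
    rw [smul_eq_mul]
    have hx' : x ∈ Submodule.span A (G : Set A) := hG ▸ hx
    induction hx' using Submodule.span_induction with
    | mem y hy =>
      obtain ⟨r, hr⟩ := Finset.dvd_prod_of_mem s hy
      show (∏ x ∈ G, s x) * y ∈ p ^ n
      rw [hr, mul_comm (s y), mul_assoc]
      exact Ideal.mul_mem_left _ _ (hs2 y (hG ▸ Submodule.subset_span hy))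
    | zero => simp
    | add u v hu hv hu' hv' => rw [mul_add]; exact add_mem (hu' (hG ▸ hu)) (hv' (hG ▸ hv))
    | smul a u hu hu' => rw [smul_eq_mul, mul_left_comm]; exact Ideal.mul_mem_left _ _ (hu' (hG ▸ hu))
  have hpc : p ^ n ≤ c := fun a ha => Submodule.mem_colon.mpr fun x _ => Ideal.mul_mem_right _ _ ha
  obtain ⟨k, hk⟩ : ∃ k, maximalIdeal A ^ k ≤ c := by
    refine Ideal.exists_pow_le_of_le_radical_of_fg ?_ (IsNoetherian.noetherian _)
    rw [Ideal.radical_eq_sInf]
    refine le_sInf fun q ⟨hcq, hq⟩ => ?_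
    haveI := hq
    have hpq : p ≤ q := (hq.pow_le_iff (by omega)).mp (hpc.trans hcq)
    have hne : p ≠ q := fun h => ht (h ▸ hcq htc)
    haveI : Ring.KrullDimLE 1 (A ⧸ p) := Ring.krullDimLE_iff.mpr (by rw [hp]; rfl)
    let q' := q.map (Ideal.Quotient.mk p)
    haveI : q'.IsPrime := Ideal.map_isPrime_of_surjective Ideal.Quotient.mk_surjective (by rwa [Ideal.mk_ker])
    have hq0 : q' ≠ ⊥ := by
      intro h
      rw [Ideal.map_eq_bot_iff_le_ker, Ideal.mk_ker] at h
      exact hne (le_antisymm hpq h)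
    have hmax : q'.IsMaximal := Ring.krullDimLE_one_iff_of_noZeroDivisors.mp inferInstance q' hq0 inferInstance
    have : q.IsMaximal := by
      have h := Ideal.comap_isMaximal_of_surjective (Ideal.Quotient.mk p) Ideal.Quotient.mk_surjective (K := q')
      rwa [Ideal.comap_map_of_surjective _ Ideal.Quotient.mk_surjective, ← RingHom.ker_eq_comap_bot, Ideal.mk_ker, sup_eq_left.mpr hpq] at h
    exact (IsLocalRing.eq_maximalIdeal this).ge
  obtain ⟨c0, hc0⟩ := Ideal.exists_pow_inf_eq_pow_smul (M := A) (maximalIdeal A) (b n)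
  obtain ⟨j, hj⟩ := Groth.Agent.H2Chevalley.exists_le_pow b hb h0 (c0 + k)
  refine ⟨max n j, le_max_left _ _, fun x hx => ?_⟩
  have hxb : x ∈ b n := hb (le_max_left n j) hx
  have hxm : x ∈ (maximalIdeal A ^ (c0 + k) • ⊤ : Submodule A A) := by rw [smul_eq_mul, Ideal.mul_top]; exact hj (hb (le_max_right n j) hx)
  have := (hc0 (c0 + k) (by omega)).le ⟨hxm, hxb⟩
  rw [show c0 + k - c0 = k by omega] at this
  refine Submodule.smul_induction_on this (fun r hr y hy => ?_) (fun u v hu hv => add_mem hu hv)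
  exact Submodule.mem_colon.mp (hk hr) y hy.2

end Groth.Agent.S1735
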