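import Groth.Statements.S1736
import Mathlib
import Groth.Prelude.Def_Wider
import Groth.Prelude.Def_DRing3
import Groth.Prelude.Def_W4bk5brsh16IT
import Groth.Agent.Lib.H2LCFinite
import Groth.Agent.Lib.H2LCTop
import Groth.Agent.Lib.H2LCMono
import Groth.Agent.Lib.H2LCFlat
import Groth.Agent.Lib.H2DTExact

set_option autoImplicit false
universe u
open LocCoh

namespace Groth.Agent.S1736
open CategoryTheory CategoryTheory.Limits Opposite
open LocCoh
open scoped BigOperators TensorProduct
open Groth.Agent Groth.Agent.H2LC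

/-- Let A be a Noetherian ring of finite dimension d and I ⊆ I' ideals with I' contained in the Jacobson
radical of A. If cd(A, I') < d, i.e. H^i_{I'}(M) = 0 for all A-modules M and all i ≥ d, then also
cd(A, I) < d: H^i_I(M) = 0 for all A-modules M and all i ≥ d. -/
theorem result (A : Type u) [CommRing A] [IsNoetherianRing A] (d : ℕ) (hd : ringKrullDim A = d) (I I' : Ideal A) (hII' : I ≤ I') (hJ : I' ≤ (⊥ : Ideal A).jacobson) (h : ∀ (M : Type u) [AddCommGroup M] [Module A M] (i : ℕ), d ≤ i → Subsingleton (LocCoh.H I' i M)) (M : Type u) [AddCommGroup M] [Module A M] (i : ℕ) (hi : d ≤ i) : Subsingleton (LocCoh.H I i M) := by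
  have hall : ∀ (N : Type u) [AddCommGroup N] [Module A N] (j : ℕ), d < j → Subsingleton (LocCoh.H I j N) :=
    fun N _ _ j hj => subsingleton_of_supportDim_lt
      (lt_of_le_of_lt ((Module.supportDim_le_ringKrullDim A N).trans hd.le) (by exact_mod_cast hj))
  rcases hi.lt_or_eq with hlt | rfl
  · exact hall M i hlt
  have hA : Subsingleton (LocCoh.H I d A) := by
    refine ⟨fun x y => ?_⟩
    suffices hz : ∀ z : LocCoh.H I d A, z = 0 by rw [hz x, hz y]
    intro z
    by_contra hz
    obtain ⟨m, hm, hle⟩ := Ideal.exists_le_maximal (LinearMap.ker (LinearMap.toSpanSingleton A _ z)) fun ht => by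
      have h1 : (1 : A) ∈ LinearMap.ker (LinearMap.toSpanSingleton A _ z) := ht ▸ Submodule.mem_top
      exact hz (by simpa using h1)
    haveI := hm.isPrime
    set B := Localization.AtPrime m
    have hdim : ringKrullDim B ≤ (d : WithBot ℕ∞) := by
      rw [← hd, IsLocalization.AtPrime.ringKrullDim_eq_height m B]
      exact Ideal.height_le_ringKrullDim_of_ne_top hm.ne_top
    have hB : Subsingleton (LocCoh.H (I.map (algebraMap A B)) d B) := by
      rcases hdim.lt_or_eq with hlt | heq
      · exact subsingleton_of_supportDim_lt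
          (lt_of_le_of_lt ((Module.supportDim_self_eq_ringKrullDim B).le) hlt)
      · refine subsingleton_H_dim_of_le (Ideal.map_mono hII')
          ((Ideal.map_mono (hJ.trans (sInf_le ⟨bot_le, hm⟩))).trans Localization.AtPrime.map_eq_maximalIdeal.le) heq ?_
        haveI := h A d le_rfl
        obtain ⟨e⟩ := exists_flatEquiv (R' := B) I' d A
        exact subsingleton_congr (TensorProduct.AlgebraTensorModule.rid A B B) d e.symm.injective.subsingleton
    obtain ⟨e⟩ := exists_flatEquiv (R' := B) I d A
    haveI := subsingleton_congr (TensorProduct.AlgebraTensorModule.rid A B B).symm d hB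
    haveI : Subsingleton (B ⊗[A] LocCoh.H I d A) := e.injective.subsingleton
    obtain ⟨⟨c, hc⟩, hc0⟩ := (IsLocalizedModule.eq_zero_iff m.primeCompl
      (TensorProduct.mk A B (LocCoh.H I d A) 1)).1 (Subsingleton.elim _ (0 : _) : (TensorProduct.mk A B _ 1) z = 0)
    exact hc (hle (show c • z = 0 from hc0))
  classical
  haveI := subsingleton_dfinsupp (I := I) d (fun _ : M => A) fun _ => hA
  let π : (Π₀ _ : M, A) →ₗ[A] M := DFinsupp.lsum ℕ fun m => LinearMap.toSpanSingleton A M m
  refine subsingleton_of_surjective π (fun m => ⟨DFinsupp.single m 1, by simp [π]⟩) d this (hall _ _ (by omega))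

end Groth.Agent.S1736
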