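import Groth.Statements.S1737
import Mathlib
import Groth.Prelude.Def_CAlg
import Groth.Prelude.Def_Wider
import Groth.Agent.Lib.H2DepthLocal
import Groth.Agent.Lib.H2LCTop

set_option autoImplicit false
universe u
open LocCoh

namespace Groth.Agent.S1737
open CategoryTheory Pointwise RingTheory.Sequence Groth.Agent.H2Depth Groth.Agent.H2DepthMore Groth.Agent.H2DepthLocal Groth.Agent.H2LC

/-- Let A be a Noetherian ring, T ⊆ Spec A stable under specialization and M a finite A-module. There
are a finite A-module M' and a surjection M → M' which is bijective after localizing at every prime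
outside T and such that M'_p has depth ≥ 1 over A_p for every p in T. (The source states this for
coherent modules on a Noetherian scheme, with uniqueness.) -/
theorem result (A : Type u) [CommRing A] [IsNoetherianRing A] (T : Set (PrimeSpectrum A)) (hT : StableUnderSpecialization T) (M : Type u) [AddCommGroup M] [Module A M] [Module.Finite A M] : ∃ (M' : Type u) (_ : AddCommGroup M') (_ : Module A M') (_ : Module.Finite A M') (f : M →ₗ[A] M'), Function.Surjective f ∧ (∀ p : PrimeSpectrum A, p ∉ T → Function.Bijective (LocalizedModule.map p.asIdeal.primeCompl f)) ∧ ∀ p : PrimeSpectrum A, p ∈ T → 1 ≤ LocCoh.depth (Localization.AtPrime p.asIdeal) (LocalizedModule p.asIdeal.primeCompl M') := by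
  let G : Submodule A M :=
    { carrier := {m | ∀ q : PrimeSpectrum A, q ∉ T → ∃ s ∉ q.asIdeal, s • m = 0}
      zero_mem' := fun q _ => ⟨1, fun h => q.2.ne_top ((Ideal.eq_top_iff_one _).2 h), smul_zero _⟩
      add_mem' := by
        intro m m' hm hm' q hq
        obtain ⟨s, hs, e⟩ := hm q hq
        obtain ⟨t, ht, e'⟩ := hm' q hq
        exact ⟨t * s, fun h => (q.2.mem_or_mem h).elim ht hs, by
          rw [smul_add, mul_smul, e, smul_zero, zero_add, mul_comm, mul_smul, e', smul_zero]⟩
      smul_mem' := by
        intro c m hm q hq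
        obtain ⟨s, hs, e⟩ := hm q hq
        exact ⟨s, hs, by rw [smul_comm, e, smul_zero]⟩ }
  have mkz : ∀ {N : Type u} [AddCommGroup N] [Module A N] (S : Submonoid A) (m : N) (s : S),
      LocalizedModule.mk m s = 0 ↔ ∃ c : S, (c : A) • m = 0 := fun S m s => by
    rw [← LocalizedModule.zero_mk (1 : S), LocalizedModule.mk_eq]
    simp [Submonoid.smul_def]
  refine ⟨M ⧸ G, inferInstance, inferInstance, inferInstance, G.mkQ, G.mkQ_surjective, fun p hp => ?_, fun p hp => ?_⟩
  · refine ⟨?_, LocalizedModule.map_surjective _ _ G.mkQ_surjective⟩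
    rw [injective_iff_map_eq_zero]
    intro z hz
    induction z using LocalizedModule.induction_on with
    | _ m s =>
      rw [LocalizedModule.map_mk, mkz] at hz
      obtain ⟨c, hc⟩ := hz
      obtain ⟨t, ht, e⟩ := ((Submodule.Quotient.mk_eq_zero G).1 ((Submodule.Quotient.mk_smul _ _ _).trans hc) :
        (c : A) • m ∈ G) p hp
      rw [mkz]
      exact ⟨⟨t, ht⟩ * c, by rw [Submonoid.coe_mul, mul_smul]; exact e⟩
  · set L := Localization.AtPrime p.asIdeal
    haveI : IsNoetherianRing L := IsLocalization.isNoetherianRing p.asIdeal.primeCompl _ inferInstance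
    suffices h1 : ((1 : ℕ) : ℕ∞) ≤ LocCoh.depth L (LocalizedModule p.asIdeal.primeCompl (M ⧸ G)) by simpa using h1
    refine le_idealDepth_iff.2 fun i hi => ?_
    obtain rfl : i = 0 := by omega
    rw [subsingleton_H0_iff, eq_bot_iff]
    rintro z ⟨n, hn⟩
    induction z using LocalizedModule.induction_on with
    | _ v s =>
      obtain ⟨t, ht⟩ : (p.asIdeal ^ n).FG := IsNoetherian.noetherian _
      have hkill : ∀ a ∈ t, ∃ c ∈ p.asIdeal.primeCompl, c • a • v = 0 := by
        intro a ha
        have h0 := hn (algebraMap A L a) (by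
          rw [← Localization.AtPrime.map_eq_maximalIdeal, ← Ideal.map_pow]
          exact Ideal.mem_map_of_mem _ (ht ▸ Ideal.subset_span ha))
        rw [algebraMap_smul, LocalizedModule.smul'_mk, mkz] at h0
        obtain ⟨c, hc⟩ := h0
        exact ⟨c, c.2, hc⟩
      choose! c hc hcz using hkill
      classical
      set C := ∏ a ∈ t, c a
      have hC : C ∈ p.asIdeal.primeCompl := Submonoid.prod_mem _ fun a ha => hc a ha
      obtain ⟨m, rfl⟩ := G.mkQ_surjective v
      have hmem : C • m ∈ G := by
        intro q hq
        have hnle : ¬ p.asIdeal ^ n ≤ q.asIdeal := fun h =>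
          hq (hT ((PrimeSpectrum.le_iff_specializes p q).1 (q.2.le_of_pow_le h)) hp)
        obtain ⟨a, ha, haq⟩ : ∃ a ∈ t, a ∉ q.asIdeal := by
          by_contra hh; push Not at hh
          exact hnle (ht ▸ Ideal.span_le.2 hh)
        have h3 : a • C • m ∈ G := by
          rw [← Submodule.Quotient.mk_eq_zero, Submodule.Quotient.mk_smul, Submodule.Quotient.mk_smul]
          show a • C • G.mkQ m = 0
          rw [smul_comm]
          simp only [C]
          rw [← Finset.prod_erase_mul _ _ ha, mul_smul, hcz a ha, smul_zero]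
        obtain ⟨s', hs', e⟩ := h3 q hq
        exact ⟨s' * a, fun h => (q.2.mem_or_mem h).elim hs' haq, by rw [mul_smul]; exact e⟩
      rw [Submodule.mem_bot, mkz]
      exact ⟨⟨C, hC⟩, (Submodule.Quotient.mk_smul _ _ _).symm.trans ((Submodule.Quotient.mk_eq_zero G).2 hmem)⟩

end Groth.Agent.S1737
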