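import Groth.Statements.S1740
import Mathlib
import Groth.Prelude.Def_DRing2
import Mathlib.LinearAlgebra.Finsupp.Defs
import Groth.Agent.Lib.H2TorOne
import Groth.Agent.Lib.PureSplit

set_option autoImplicit false
universe u
open CategoryTheory
attribute [local instance] HasDerivedCategory.standard
open LocCoh

namespace Groth.Agent.S1740
open CategoryTheory TensorProduct LinearMap
set_option backward.isDefEq.respectTransparency.types false

/-- Let α : M → M' be a map of R-modules with M finitely presented such that the induced map Tor_1(M, N)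
→ Tor_1(M', N) is zero for every R-module N. Then α is the composite of a map from M into a free
R-module and a map from that free module to M'. -/
theorem result (R : Type u) [CommRing R] (M M' : Type u) [AddCommGroup M] [Module R M] [Module.FinitePresentation R M] [AddCommGroup M'] [Module R M'] (α : M →ₗ[R] M') (h : ∀ (N : Type u) [AddCommGroup N] [Module R N], ((CategoryTheory.Tor (ModuleCat.{u} R) 1).map (ModuleCat.ofHom α)).app (ModuleCat.of R N) = 0) : ∃ (ι : Type u) (g : M →ₗ[R] (ι →₀ R)) (h : (ι →₀ R) →ₗ[R] M'), α = h ∘ₗ g := by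
  classical
  let p : (M' →₀ R) →ₗ[R] M' := Finsupp.linearCombination R id
  have hp' : Function.Surjective p := Finsupp.linearCombination_id_surjective R M'
  let E : Submodule R ((M' →₀ R) × M) := LinearMap.ker (p ∘ₗ LinearMap.fst R (M' →₀ R) M - α ∘ₗ LinearMap.snd R (M' →₀ R) M)
  let u : E →ₗ[R] (M' →₀ R) := LinearMap.fst R _ _ ∘ₗ E.subtype
  let q : E →ₗ[R] M := LinearMap.snd R _ _ ∘ₗ E.subtype
  let j : LinearMap.ker p →ₗ[R] E := LinearMap.codRestrict E (LinearMap.inl R _ _ ∘ₗ (LinearMap.ker p).subtype)
    fun k => by simp [E, LinearMap.mem_ker.mp k.2]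
  have hq : Function.Surjective q := fun m => by
    obtain ⟨f, hf⟩ := hp' (α m)
    exact ⟨⟨(f, m), by simp [E, hf]⟩, rfl⟩
  have hp : p ∘ₗ u = α ∘ₗ q := LinearMap.ext fun e => sub_eq_zero.mp e.2
  have hjq : Function.Exact j q := by
    intro e
    constructor
    · intro he
      refine ⟨⟨u e, ?_⟩, Subtype.ext (Prod.ext rfl he.symm)⟩
      rw [LinearMap.mem_ker, ← LinearMap.comp_apply, hp, LinearMap.comp_apply, he, map_zero]
    · rintro ⟨k, rfl⟩; rfl
  letI : AddCommGroup E := Submodule.addCommGroup E
  obtain ⟨g, hg⟩ := Groth.Agent.H2TorOne.exists_section (K := LinearMap.ker p) (E := E) α h j q hjq hq u p hp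
    (LinearMap.exact_subtype_ker_map p) hp' Subtype.val_injective
  exact ⟨M', g, p, hg⟩

end Groth.Agent.S1740
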