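import Groth.Statements.S17409
import Mathlib

set_option autoImplicit false
universe u
open Prym5

namespace Groth.Agent.S17409

/-- Over a perfect field K of characteristic different from 2 and 3, let G₂, G₃, G₄ be polynomials in
two variables x, y and consider G₂ z² + 2 G₃ z + G₄ as a polynomial in the three variables x, y, z.
If it lies in the square of the ideal (x, y, z) — the surface it defines has a double point at the
origin — then the discriminant G₃² − G₂ G₄ lies in the square of the ideal (x, y) of K[x, y], so the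
plane curve G₃² − G₂ G₄ = 0 is singular at the origin. (This is the affine-local form used in the
published proof: the surface is a quartic with a node at the centre of projection placed at infinity
on the z-axis, and the curve is the branch sextic of that projection.) -/
theorem result (K : Type u) [Field K] [PerfectField K]
    (h2 : (2 : K) ≠ 0) (h3 : (3 : K) ≠ 0) (G₂ G₃ G₄ : MvPolynomial (Fin 2) K)
    (h : MvPolynomial.rename (Fin.castSucc : Fin 2 → Fin 3) G₂ * MvPolynomial.X (2 : Fin 3) ^ 2
        + 2 * MvPolynomial.rename (Fin.castSucc : Fin 2 → Fin 3) G₃ * MvPolynomial.X (2 : Fin 3)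
        + MvPolynomial.rename (Fin.castSucc : Fin 2 → Fin 3) G₄
        ∈ (Ideal.span (Set.range (MvPolynomial.X : Fin 3 → MvPolynomial (Fin 3) K))) ^ 2) :
    G₃ ^ 2 - G₂ * G₄ ∈ (Ideal.span (Set.range (MvPolynomial.X : Fin 2 → MvPolynomial (Fin 2) K))) ^ 2 := by
  set m₃ := Ideal.span (Set.range (MvPolynomial.X : Fin 3 → MvPolynomial (Fin 3) K))
  set m₂ := Ideal.span (Set.range (MvPolynomial.X : Fin 2 → MvPolynomial (Fin 2) K))
  let φ : MvPolynomial (Fin 3) K →ₐ[K] MvPolynomial (Fin 2) K :=
    MvPolynomial.aeval ![MvPolynomial.X 0, MvPolynomial.X 1, 0]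
  have hφr : ∀ G : MvPolynomial (Fin 2) K, φ (MvPolynomial.rename Fin.castSucc G) = G := by
    intro G
    show MvPolynomial.aeval _ (MvPolynomial.rename Fin.castSucc G) = G
    rw [MvPolynomial.aeval_rename, show (![MvPolynomial.X 0, MvPolynomial.X 1, 0] ∘ Fin.castSucc : Fin 2 → MvPolynomial (Fin 2) K) = MvPolynomial.X from funext fun i => by fin_cases i <;> rfl]
    exact MvPolynomial.aeval_X_left_apply G
  have hφ2 : φ (MvPolynomial.X (2 : Fin 3)) = 0 := by
    simp [φ]
  have hφm : m₃.map φ ≤ m₂ := by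
    rw [Ideal.map_span, Ideal.span_le]
    rintro _ ⟨_, ⟨i, rfl⟩, rfl⟩
    fin_cases i
    · simpa [φ] using (Ideal.subset_span ⟨0, rfl⟩ : (MvPolynomial.X 0 : MvPolynomial (Fin 2) K) ∈ m₂)
    · simpa [φ] using (Ideal.subset_span ⟨1, rfl⟩ : (MvPolynomial.X 1 : MvPolynomial (Fin 2) K) ∈ m₂)
    · simp [φ]
  have hG4 : G₄ ∈ m₂ ^ 2 := by
    have := Ideal.mem_map_of_mem φ h
    rw [Ideal.map_pow] at this
    simpa [hφr, hφ2] using Ideal.pow_right_mono hφm 2 this
  let ψ : MvPolynomial (Fin 3) K →ₐ[K] Polynomial K :=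
    MvPolynomial.aeval ![0, 0, Polynomial.X]
  have hψr : ∀ G : MvPolynomial (Fin 2) K, ψ (MvPolynomial.rename Fin.castSucc G) = Polynomial.C (MvPolynomial.constantCoeff G) := by
    intro G
    show MvPolynomial.aeval _ (MvPolynomial.rename Fin.castSucc G) = _
    rw [MvPolynomial.aeval_rename, show (![0, 0, Polynomial.X] ∘ Fin.castSucc : Fin 2 → Polynomial K) = 0 from funext fun i => by fin_cases i <;> rfl, MvPolynomial.aeval_zero]
    rfl
  have hψ2 : ψ (MvPolynomial.X (2 : Fin 3)) = Polynomial.X := by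
    simp [ψ]
  have hψm : m₃.map ψ ≤ Ideal.span {Polynomial.X} := by
    rw [Ideal.map_span, Ideal.span_le]
    rintro _ ⟨_, ⟨i, rfl⟩, rfl⟩
    fin_cases i <;> simp [ψ, Ideal.mem_span_singleton]
  have h3' : MvPolynomial.constantCoeff G₃ = 0 := by
    have := Ideal.mem_map_of_mem ψ h
    rw [Ideal.map_pow] at this
    have := Ideal.pow_right_mono hψm 2 this
    rw [Ideal.span_singleton_pow, Ideal.mem_span_singleton, Polynomial.X_pow_dvd_iff] at this
    have h1 := this 1 (by norm_num)
    rw [map_add, map_add, map_mul, map_mul, map_mul, map_pow, map_ofNat, hψr, hψr, hψr, hψ2, ← map_ofNat Polynomial.C 2, ← map_mul] at h1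
    simp [Polynomial.coeff_X_pow, Polynomial.coeff_C, h2] at h1
    exact h1
  have hG3 : G₃ ∈ m₂ := by
    have := (MvPolynomial.mem_pow_idealOfVars_iff (σ := Fin 2) (R := K) 1 G₃).mpr fun d hd => by
      by_contra hlt
      have hd0 : d = 0 := by
        rw [← Finsupp.degree_eq_zero_iff]; omega
      subst hd0
      exact MvPolynomial.mem_support_iff.mp hd h3'
    rwa [pow_one] at this
  exact sub_mem (Ideal.pow_mem_pow hG3 2) (Ideal.mul_mem_left _ _ hG4)

end Groth.Agent.S17409
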