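import Groth.Statements.S17444
import Mathlib

set_option autoImplicit false
universe u v
open SSRed

namespace Groth.Agent.S17444

/-- Let K be a field of characteristic zero, V a K-vector space and g a K-linear endomorphism of V such
that g - 1 is nilpotent (a unipotent automorphism). Then for every integer n > 0 the endomorphisms
gⁿ - 1 and g - 1 have the same kernel: a vector fixed by gⁿ is fixed by g. (The published statement
assumes V finite-dimensional; this row allows any V.) -/
theorem result (K : Type u) (V : Type v) [Field K] [CharZero K]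
    [AddCommGroup V] [Module K V] (g : Module.End K V) (hg : IsNilpotent (g - 1)) (n : ℕ) (hn : 0 < n) :
    LinearMap.ker (g ^ n - 1) = LinearMap.ker (g - 1) := by
  let S : Module.End K V := ∑ i ∈ Finset.range n, g ^ i
  have hS : S * (g - 1) = g ^ n - 1 := geom_sum_mul g n
  have hT : ∃ T : Module.End K V, S = (n : Module.End K V) + T * (g - 1) ∧ Commute T (g - 1) := by
    refine ⟨∑ i ∈ Finset.range n, ∑ j ∈ Finset.range i, g ^ j, ?_, ?_⟩
    · rw [Finset.sum_mul]
      simp [geom_sum_mul, S]
    · exact Commute.sum_left _ _ _ fun i _ => Commute.sum_left _ _ _ fun j _ => ((Commute.refl g).pow_left j).sub_right (Commute.one_right _)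
  obtain ⟨T, hT, hcomm⟩ := hT
  have hu : IsUnit S := by
    rw [hT]
    exact (hcomm.isNilpotent_mul_left hg).isUnit_add_left_of_commute (by
      rw [← map_natCast (algebraMap K (Module.End K V))]
      exact (IsUnit.mk0 _ (by exact_mod_cast hn.ne' : (n : K) ≠ 0)).map _) (Nat.cast_commute _ _).symm
  ext v
  simp only [LinearMap.mem_ker, ← hS, Module.End.mul_apply]
  obtain ⟨u, hu⟩ := hu
  constructor
  · intro h
    have := congrArg (fun w => (↑u⁻¹ : Module.End K V) w) h
    simpa [← hu, ← Module.End.mul_apply] using this
  · intro h; rw [h, map_zero]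

end Groth.Agent.S17444
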