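import Groth.Statements.S17445
import Mathlib

set_option autoImplicit false
open Finset
open SSRed

namespace Groth.Agent.S17445

/-- For natural numbers g and B with B ≥ 2g + 1, a natural number d divides ∏_{a=1}^{g} (ℓ^{2a} - 1) for
every prime ℓ > B if and only if d divides N(g) = 2^{3g + v₂(g!)} · ∏_{3 ≤ p ≤ 2g+1, p prime}
p^{[2g/(p-1)] + Σ_{1 ≤ i ≤ [2g/(p-1)]} v_p(i)}. In words: N(g) is the greatest common divisor of
these products as ℓ runs through the primes beyond any bound that is at least 2g + 1; its prime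
factors are the primes p ≤ 2g + 1. (This is the number N(g) of the published result, which bounds
the degree of the field of semistable reduction of a g-dimensional abelian variety over a strictly
henselian discretely valued field; the printed phrase is the greatest common divisor over all large
primes, made precise here by the bound 2g + 1, below which a prime ℓ ≤ 2g + 1 divides N(g) but not
its own product.) -/
theorem result (g B d : ℕ) (hB : 2 * g + 1 ≤ B) :
    (∀ ℓ : ℕ, ℓ.Prime → B < ℓ → d ∣ ∏ a ∈ Icc 1 g, (ℓ ^ (2 * a) - 1)) ↔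
      d ∣ 2 ^ (3 * g + padicValNat 2 g.factorial) *
        ∏ p ∈ (Icc 3 (2 * g + 1)).filter Nat.Prime,
          p ^ ((2 * g) / (p - 1) + ∑ i ∈ Icc 1 ((2 * g) / (p - 1)), padicValNat p i) := by
  classical
  set e : ℕ → ℕ := fun p => (2 * g) / (p - 1) + ∑ i ∈ Icc 1 ((2 * g) / (p - 1)), padicValNat p i with he
  set N := 2 ^ (3 * g + padicValNat 2 g.factorial) * ∏ p ∈ (Icc 3 (2 * g + 1)).filter Nat.Prime, p ^ e p with hNdef
  have hNprod : ∀ p ∈ (Icc 3 (2 * g + 1)).filter Nat.Prime, p ^ e p ≠ 0 := fun p hp =>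
    pow_ne_zero _ (Finset.mem_filter.mp hp).2.ne_zero
  have hN0 : N ≠ 0 := mul_ne_zero (pow_ne_zero _ two_ne_zero) (Finset.prod_ne_zero_iff.mpr hNprod)
  have hNq : ∀ q, q.Prime → N.factorization q =
      if q = 2 then 3 * g + padicValNat 2 g.factorial else e q := by
    intro q hq
    rw [Nat.factorization_mul (pow_ne_zero _ two_ne_zero) (Finset.prod_ne_zero_iff.mpr hNprod),
      Finsupp.add_apply, Nat.factorization_prod hNprod, Finsupp.finsetSum_apply, Nat.prime_two.factorization_pow]
    have hsum : ∑ p ∈ (Icc 3 (2 * g + 1)).filter Nat.Prime, (p ^ e p).factorization q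
        = if q ∈ (Icc 3 (2 * g + 1)).filter Nat.Prime then e q else 0 := by
      rw [← Finset.sum_ite_eq]
      refine Finset.sum_congr rfl (fun p hp => ?_)
      rw [(Finset.mem_filter.mp hp).2.factorization_pow, Finsupp.single_apply]
      by_cases h : q = p
      · subst h; simp
      · rw [if_neg (Ne.symm h), if_neg h]
    rw [hsum]
    by_cases h2 : q = 2
    · subst h2
      rw [Finsupp.single_eq_same, if_pos rfl, if_neg (by simp), add_zero]
    rw [Finsupp.single_eq_of_ne h2, if_neg h2, zero_add]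
    by_cases hmem : q ≤ 2 * g + 1
    · rw [if_pos (by simp only [Finset.mem_filter, Finset.mem_Icc]; exact ⟨⟨by have := hq.two_le; omega, hmem⟩, hq⟩)]
    · rw [if_neg (by simp only [Finset.mem_filter, Finset.mem_Icc]; omega)]
      have : (2 * g) / (q - 1) = 0 := Nat.div_eq_of_lt (by omega)
      simp [e, this]
  have hfac0 : ∀ l : ℕ, 2 ≤ l → ∀ a ∈ Icc 1 g, l ^ (2 * a) - 1 ≠ 0 := fun l hl a ha => by
    have h1 := (Finset.mem_Icc.mp ha).1
    have : 2 ≤ l ^ (2 * a) := le_trans hl (Nat.le_self_pow (by omega) l)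
    omega
  have hPq : ∀ l : ℕ, 2 ≤ l → ∀ q, q.Prime →
      (∏ a ∈ Icc 1 g, (l ^ (2 * a) - 1)).factorization q = ∑ a ∈ Icc 1 g, padicValNat q (l ^ (2 * a) - 1) := by
    intro l hl q hq
    rw [Nat.factorization_prod (hfac0 l hl), Finsupp.finsetSum_apply]
    exact Finset.sum_congr rfl (fun a _ => Nat.factorization_def _ hq)
  have hfact : ∀ n : ℕ, padicValNat 2 n.factorial = ∑ a ∈ Icc 1 n, padicValNat 2 a := by
    intro n
    induction n with
    | zero => simp
    | succ n ih =>
      rw [Nat.factorial_succ, padicValNat.mul (Nat.succ_ne_zero n) (Nat.factorial_ne_zero n), ih,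
        Finset.sum_Icc_succ_top (by omega), add_comm]
  have hv2 : ∀ a ∈ Icc 1 g, padicValNat 2 (2 * a) = 1 + padicValNat 2 a := fun a ha => by
    rw [padicValNat.mul (by norm_num) (by have := (Finset.mem_Icc.mp ha).1; omega), padicValNat.self (by norm_num)]
  have htwo : ∑ a ∈ Icc 1 g, (3 + padicValNat 2 a) = 3 * g + padicValNat 2 g.factorial := by
    rw [Finset.sum_add_distrib, Finset.sum_const, Nat.card_Icc, smul_eq_mul, hfact, Nat.add_sub_cancel, mul_comm]
  -- the terms that matter at an odd prime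
  have hodd : ∀ q, q.Prime → q ≠ 2 → ∀ G : ℕ → ℕ,
      ∑ a ∈ (Icc 1 g).filter (fun a => (q - 1) ∣ 2 * a), G (2 * a) = ∑ i ∈ Icc 1 ((2 * g) / (q - 1)), G ((q - 1) * i) := by
    intro q hq h2 G
    obtain ⟨h, hh⟩ : ∃ h, q - 1 = 2 * h := by
      obtain ⟨k, hk⟩ := hq.odd_of_ne_two h2
      exact ⟨k, by omega⟩
    have hh0 : 0 < h := by have := hq.two_le; omega
    rw [hh, Nat.mul_div_mul_left _ _ two_pos]
    refine Finset.sum_nbij' (fun a => a / h) (fun i => h * i) ?_ ?_ ?_ ?_ ?_
    · intro a ha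
      simp only [Finset.coe_filter, Finset.mem_filter, Finset.mem_coe, Finset.mem_Icc, Set.mem_setOf_eq, Nat.mul_dvd_mul_iff_left two_pos] at ha
      simp only [Finset.coe_Icc, Set.mem_Icc, Finset.mem_coe, Finset.mem_Icc]
      exact ⟨Nat.div_pos (Nat.le_of_dvd (by omega) ha.2) hh0, Nat.div_le_div_right ha.1.2⟩
    · intro i hi
      simp only [Finset.coe_Icc, Set.mem_Icc, Finset.mem_coe, Finset.mem_Icc] at hi
      simp only [Finset.coe_filter, Finset.mem_filter, Finset.mem_coe, Finset.mem_Icc, Set.mem_setOf_eq, Nat.mul_dvd_mul_iff_left two_pos]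
      refine ⟨⟨Nat.mul_pos hh0 (by omega), ?_⟩, dvd_mul_right _ _⟩
      rw [mul_comm]
      exact (Nat.le_div_iff_mul_le hh0).mp hi.2
    · intro a ha
      simp only [Finset.coe_filter, Finset.mem_filter, Finset.mem_coe, Finset.mem_Icc, Set.mem_setOf_eq, Nat.mul_dvd_mul_iff_left two_pos] at ha
      exact Nat.mul_div_cancel' ha.2
    · intro i hi
      exact Nat.mul_div_cancel_left i hh0
    · intro a ha
      simp only [Finset.mem_filter, Nat.mul_dvd_mul_iff_left two_pos] at ha
      rw [mul_assoc, Nat.mul_div_cancel' ha.2]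
  have hEsum : ∀ q, ∑ i ∈ Icc 1 ((2 * g) / (q - 1)), (1 + padicValNat q i) = e q := fun q => by
    rw [Finset.sum_add_distrib, Finset.sum_const, Nat.card_Icc, smul_eq_mul, mul_one, Nat.add_sub_cancel]
  have hlte : ∀ q, q.Prime → q ≠ 2 → ∀ l, 2 ≤ l → ¬ q ∣ l → ∀ i, i ≠ 0 →
      padicValNat q (l ^ ((q - 1) * i) - 1) = padicValNat q (l ^ (q - 1) - 1) + padicValNat q i ∧
        q ∣ l ^ (q - 1) - 1 := by
    intro q hq h2 l hl hql i hi
    haveI : Fact q.Prime := ⟨hq⟩
    have hle : 1 ≤ l ^ (q - 1) := Nat.one_le_pow _ _ (by omega)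
    have hdiv : q ∣ l ^ (q - 1) - 1 := by
      have := Nat.ModEq.pow_totient ((hq.coprime_iff_not_dvd.mpr hql).symm)
      rw [Nat.totient_prime hq] at this
      exact (Nat.modEq_iff_dvd' hle).mp this.symm
    refine ⟨?_, hdiv⟩
    have h1 : 1 < l ^ (q - 1) := Nat.one_lt_pow (by have := hq.two_le; omega) (by omega)
    have := padicValNat.pow_sub_pow (hq.odd_of_ne_two h2) h1 hdiv (fun h => hql (hq.dvd_of_dvd_pow h)) hi
    rwa [one_pow, ← pow_mul] at this
  constructor
  · intro hd
    have hd0 : d ≠ 0 := by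
      intro h0
      obtain ⟨l, hlB, hl⟩ := Nat.exists_infinite_primes (B + 1)
      have := hd l hl (by omega)
      rw [h0, zero_dvd_iff] at this
      exact Finset.prod_ne_zero_iff.mpr (hfac0 l hl.two_le) this
    rw [← Nat.factorization_le_iff_dvd hd0 hN0]
    intro q
    by_cases hq : q.Prime
    swap
    · rw [Nat.factorization_eq_zero_of_not_prime d hq]; exact Nat.zero_le _
    haveI : Fact q.Prime := ⟨hq⟩
    suffices ∃ l, l.Prime ∧ B < l ∧ ∑ a ∈ Icc 1 g, padicValNat q (l ^ (2 * a) - 1) ≤ N.factorization q by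
      obtain ⟨l, hl, hlB, hle⟩ := this
      refine le_trans ?_ hle
      rw [← hPq l hl.two_le q hq]
      exact (Nat.factorization_le_iff_dvd hd0 (Finset.prod_ne_zero_iff.mpr (hfac0 l hl.two_le))).mpr
        (hd l hl hlB) q
    rw [hNq q hq]
    by_cases h2 : q = 2
    · subst h2
      obtain ⟨l, hlB, hl, hmod⟩ := Nat.forall_exists_prime_gt_and_modEq (B + 2) (q := 8) (a := 3)
        (by norm_num) (by norm_num)
      refine ⟨l, hl, by omega, ?_⟩
      rw [if_pos rfl, ← htwo]
      refine Finset.sum_le_sum (fun a ha => le_of_eq ?_)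
      have hl8 : l % 8 = 3 := hmod
      have h := padicValNat.pow_two_sub_one (x := l) (n := 2 * a) (by omega) (by omega)
        (by have := (Finset.mem_Icc.mp ha).1; omega) (even_two_mul a)
      have e1 : padicValNat 2 (l + 1) = 2 := by
        rw [show l + 1 = 2 ^ 2 * ((l + 1) / 4) by omega, padicValNat.mul (by norm_num) (by omega),
          padicValNat.prime_pow, padicValNat.eq_zero_of_not_dvd (by omega)]
      have e2 : padicValNat 2 (l - 1) = 1 := by
        rw [show l - 1 = 2 * ((l - 1) / 2) by omega, padicValNat.mul (by norm_num) (by omega),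
          padicValNat.self (by norm_num), padicValNat.eq_zero_of_not_dvd (by omega)]
      rw [e1, e2, hv2 a ha] at h
      omega
    rw [if_neg h2]
    haveI : NeZero (q ^ 2) := ⟨pow_ne_zero _ hq.ne_zero⟩
    obtain ⟨u, hu⟩ := (ZMod.isCyclic_units_of_prime_pow q hq h2 2).exists_generator
    have hordu : orderOf u = q * (q - 1) := by
      rw [orderOf_eq_card_of_forall_mem_zpowers hu, Nat.card_eq_fintype_card, ZMod.card_units_eq_totient,
        Nat.totient_prime_pow hq two_pos]
      simp
    obtain ⟨l, hlB, hl, hmod⟩ := Nat.forall_exists_prime_gt_and_modEq (B + q) (q := q ^ 2)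
      (a := (u : ZMod (q ^ 2)).val) (pow_ne_zero _ hq.ne_zero) (ZMod.val_coe_unit_coprime u)
    have hlu : (l : ZMod (q ^ 2)) = (u : ZMod (q ^ 2)) := by
      rw [(ZMod.natCast_eq_natCast_iff _ _ _).mpr hmod, ZMod.natCast_zmod_val]
    have hql : ¬ q ∣ l := fun h => by
      have := (Nat.prime_dvd_prime_iff_eq hq hl).mp h; omega
    have hord : ∀ n, q ^ 2 ∣ l ^ n - 1 → q * (q - 1) ∣ n := by
      intro n hn
      rw [← hordu]
      refine orderOf_dvd_of_pow_eq_one (Units.ext ?_)
      rw [Units.val_pow_eq_pow_val, ← hlu, Units.val_one, ← Nat.cast_pow, ← Nat.cast_one,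
        ZMod.natCast_eq_natCast_iff]
      exact ((Nat.modEq_iff_dvd' (Nat.one_le_pow _ _ hl.pos)).mpr hn).symm
    have hordq : ∀ n, q ∣ l ^ n - 1 → (q - 1) ∣ n := by
      intro n hn
      -- raise to the power q
      have h1 : q ^ 2 ∣ l ^ (n * q) - 1 := by
        rcases Nat.eq_zero_or_pos n with rfl | hn0
        · simp
        have h1l : 1 < l ^ n := Nat.one_lt_pow (by omega) hl.one_lt
        have h := padicValNat.pow_sub_pow (hq.odd_of_ne_two h2) h1l hn
          (fun h => hql (hq.dvd_of_dvd_pow h)) hq.ne_zero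
        rw [one_pow, ← pow_mul, padicValNat.self hq.one_lt] at h
        refine (padicValNat_dvd_iff_le ?_).mpr ?_
        · have := Nat.one_lt_pow (Nat.mul_ne_zero hn0.ne' hq.ne_zero) hl.one_lt
          omega
        · rw [h]
          have := one_le_padicValNat_of_dvd (p := q) (n := l ^ n - 1) (by omega) hn
          omega
      have := hord _ h1
      rw [mul_comm n q] at this
      exact Nat.dvd_of_mul_dvd_mul_left hq.pos this
    refine ⟨l, hl, by omega, le_of_eq ?_⟩
    rw [← Finset.sum_filter_add_sum_filter_not _ (fun a => (q - 1) ∣ 2 * a)]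
    have hz : ∑ a ∈ (Icc 1 g).filter (fun a => ¬ (q - 1) ∣ 2 * a), padicValNat q (l ^ (2 * a) - 1) = 0 :=
      Finset.sum_eq_zero (fun a ha => padicValNat.eq_zero_of_not_dvd
        (fun h => (Finset.mem_filter.mp ha).2 (hordq _ h)))
    rw [hz, add_zero, hodd q hq h2 (fun n => padicValNat q (l ^ n - 1)), ← hEsum q]
    refine Finset.sum_congr rfl (fun i hi => ?_)
    have hi0 : i ≠ 0 := by have := (Finset.mem_Icc.mp hi).1; omega
    obtain ⟨h, hdiv⟩ := hlte q hq h2 l hl.two_le hql i hi0
    rw [h]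
    congr 1
    refine le_antisymm ?_ (one_le_padicValNat_of_dvd ?_ hdiv)
    · by_contra hgt
      push Not at hgt
      have h1 : q ^ 2 ∣ l ^ (q - 1) - 1 := (pow_dvd_pow q hgt).trans pow_padicValNat_dvd
      have := Nat.le_of_dvd (by have := hq.two_le; omega) (hord _ h1)
      have hq2 := hq.two_le
      nlinarith [Nat.sub_add_cancel (by omega : 1 ≤ q)]
    · have := Nat.one_lt_pow (show q - 1 ≠ 0 by have := hq.two_le; omega) hl.one_lt
      omega
  · intro hd l hl hlB
    refine dvd_trans hd ?_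
    rw [← Nat.factorization_le_iff_dvd hN0 (Finset.prod_ne_zero_iff.mpr (hfac0 l hl.two_le))]
    intro q
    by_cases hq : q.Prime
    swap
    · rw [Nat.factorization_eq_zero_of_not_prime N hq]; exact Nat.zero_le _
    haveI : Fact q.Prime := ⟨hq⟩
    rw [hPq l hl.two_le q hq, hNq q hq]
    by_cases h2 : q = 2
    · subst h2
      rcases Nat.eq_zero_or_pos g with hg | hg
      · subst hg; simp
      rw [if_pos rfl, ← htwo]
      refine Finset.sum_le_sum (fun a ha => ?_)
      have hodd' : ¬ 2 ∣ l := fun h => by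
        have := (Nat.prime_dvd_prime_iff_eq Nat.prime_two hl).mp h; omega
      have h := padicValNat.pow_two_sub_one_ge (x := l) (n := 2 * a) hl.one_lt hodd'
        (by have := (Finset.mem_Icc.mp ha).1; omega) (even_two_mul a)
      rw [hv2 a ha] at h
      omega
    rw [if_neg h2, ← hEsum q]
    by_cases hql : q ∣ l
    · have hqe := (Nat.prime_dvd_prime_iff_eq hq hl).mp hql
      have : (2 * g) / (q - 1) = 0 := Nat.div_eq_of_lt (by omega)
      simp [this]
    refine le_trans ?_ (Finset.sum_le_sum_of_subset (Finset.filter_subset (fun a => (q - 1) ∣ 2 * a) _))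
    rw [hodd q hq h2 (fun n => padicValNat q (l ^ n - 1))]
    refine Finset.sum_le_sum (fun i hi => ?_)
    have hi0 : i ≠ 0 := by have := (Finset.mem_Icc.mp hi).1; omega
    obtain ⟨h, hdiv⟩ := hlte q hq h2 l hl.two_le hql i hi0
    rw [h]
    have h1 := Nat.one_lt_pow (show q - 1 ≠ 0 by have := hq.two_le; omega) hl.one_lt
    have := one_le_padicValNat_of_dvd (p := q) (n := l ^ (q - 1) - 1) (by omega) hdiv
    omega

end Groth.Agent.S17445
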