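import Groth.Statements.S17463
import Mathlib

set_option autoImplicit false
universe u v w
open SSRed

namespace Groth.Agent.S17463

/-- Let K be a field of characteristic zero, V a K-vector space, G a group with a K-linear action ρ : G
→ GL(V) such that every ρ(g) is unipotent (ρ(g) - 1 is nilpotent), and H a subgroup of G of finite
index. Then the H-invariants equal the G-invariants: a vector fixed by every element of H is fixed
by every element of G. (In the source G and H are the absolute Galois groups of K and of a finite
extension K', acting unipotently on the rational ℓ-adic Tate module of an abelian variety.) -/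
theorem result (K : Type u) (V : Type v) (G : Type w) [Field K] [CharZero K]
    [AddCommGroup V] [Module K V] [Group G] (ρ : G →* (V ≃ₗ[K] V))
    (hunip : ∀ g : G, IsNilpotent (((ρ g : V ≃ₗ[K] V) : Module.End K V) - 1))
    (H : Subgroup G) [H.FiniteIndex] (v : V) (hv : ∀ h ∈ H, ρ h v = v) (g : G) :
    ρ g v = v := by
  classical
  obtain ⟨m, hm0, -, hm⟩ := Subgroup.exists_pow_mem_of_index_ne_zero (H := H) Subgroup.FiniteIndex.index_ne_zero g
  let f : Module.End K V := (ρ g : V ≃ₗ[K] V)
  obtain ⟨D, hD⟩ : ∃ D : Module.End K V, f = 1 + D := ⟨f - 1, by rw [add_sub_cancel]⟩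
  have hnil : IsNilpotent D := by
    have := hunip g
    rwa [show ((ρ g : V ≃ₗ[K] V) : Module.End K V) - 1 = D from sub_eq_iff_eq_add'.2 hD] at this
  let U : Module.End K V := ∑ i ∈ Finset.range m, f ^ i
  have hU : IsUnit U := by
    have h1 : U = algebraMap K (Module.End K V) m + ∑ i ∈ Finset.range m, (f ^ i - 1) := by
      rw [Finset.sum_sub_distrib, Finset.sum_const, Finset.card_range, nsmul_eq_mul, mul_one, map_natCast, add_sub_cancel]
    obtain ⟨Q, hQ, hcomm⟩ : ∃ Q : Module.End K V, (∑ i ∈ Finset.range m, (f ^ i - 1)) = D * Q ∧ Commute D Q := by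
      refine ⟨∑ i ∈ Finset.range m, ∑ l ∈ Finset.range i, f ^ l, ?_, ?_⟩
      · rw [Finset.mul_sum]
        refine Finset.sum_congr rfl fun i _ => ?_
        rw [← mul_geom_sum, show f - 1 = D by rw [hD, add_sub_cancel_left]]
      · refine Commute.sum_right _ _ _ fun i _ => Commute.sum_right _ _ _ fun l _ => ?_
        exact (show Commute D f by rw [hD]; exact (Commute.one_right D).add_right (Commute.refl D)).pow_right l
    rw [h1, hQ, add_comm]
    exact (hcomm.isNilpotent_mul_right hnil).isUnit_add_right_of_commute
      ((Ne.isUnit (Nat.cast_ne_zero.2 hm0.ne')).map _) (Algebra.commute_algebraMap_right _ _)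
  have hpow : (f ^ m) v = v := by
    have h2 := hv _ hm
    rw [map_pow] at h2
    conv_rhs => rw [← h2]
    exact LinearMap.congr_fun (map_pow (LinearEquiv.automorphismGroup.toLinearMapMonoidHom (R := K) (M := V)) (ρ g) m).symm v
  have hzero : U ((f - 1) v) = 0 := by
    rw [← Module.End.mul_apply, geom_sum_mul, LinearMap.sub_apply, Module.End.one_apply, hpow, sub_self]
  obtain ⟨w, hw⟩ := hU
  have h3 := congrArg (w⁻¹ : (Module.End K V)ˣ).val hzero
  rw [← hw, ← Module.End.mul_apply, Units.inv_mul, map_zero, Module.End.one_apply, LinearMap.sub_apply, Module.End.one_apply, sub_eq_zero] at h3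
  exact h3

end Groth.Agent.S17463
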