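import Mathlib
import Groth.Statements.S17468


set_option autoImplicit false
universe u v w
open LieRep

namespace Groth.Agent.S17468

theorem sum_sq {k : Type*} [CommRing k] (a : k) : ∀ m : ℕ,
    3 * ∑ j ∈ Finset.range m, (a - 2 * (j : k)) ^ 2 =
      3 * m * a ^ 2 - 6 * a * (m * (m - 1)) + 2 * ((m - 1) * m * (2 * m - 1))
  | 0 => by simp
  | m + 1 => by
    rw [Finset.sum_range_succ, mul_add, sum_sq a m]
    push_cast
    ring

theorem irreducible_trace {k : Type u} [Field k] [IsAlgClosed k] [CharZero k] {L : Type v} [LieRing L] [LieAlgebra k L]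
    {h e f : L} (t : IsSl2Triple h e f) (hspan : t.toLieSubalgebra k = ⊤)
    {M : Type w} [AddCommGroup M] [Module k M] [LieRingModule L M] [LieModule k L M]
    [FiniteDimensional k M] [LieModule.IsIrreducible k L M] :
    LinearMap.trace k M ((LieModule.toEnd k L M h) ^ 2) = 2 * (((Module.finrank k M + 1).choose 3 : ℕ) : k) := by
  classical
  haveI : Nontrivial M := (LieSubmodule.nontrivial_iff k L M).mp inferInstance
  obtain ⟨μ, m, -, P⟩ := t.exists_hasPrimitiveVectorWith (R := k) (M := M)
  obtain ⟨n, hn⟩ := P.exists_nat
  let v : Fin (n + 1) → M := fun j => ((LieModule.toEnd k L M f) ^ (j : ℕ)) m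
  have hv : ∀ j, (LieModule.toEnd k L M h) (v j) = (μ - 2 * (j : ℕ)) • v j := fun j => P.lie_h_pow_toEnd_f j
  have hli : LinearIndependent k v := by
    refine (LieModule.toEnd k L M h).eigenvectors_linearIndependent' (fun j : Fin (n + 1) => μ - 2 * ((j : ℕ) : k))
      (fun a b hab => ?_) v fun j => ⟨Module.End.mem_eigenspace_iff.mpr (hv j), P.pow_toEnd_f_ne_zero_of_eq_nat hn (by omega)⟩
    simp only [sub_right_inj, mul_eq_mul_left_iff, Nat.cast_inj, OfNat.ofNat_ne_zero, or_false] at hab
    exact Fin.ext hab
  let N := Submodule.span k (Set.range v)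
  have hmem : ∀ j : ℕ, ((LieModule.toEnd k L M f) ^ j) m ∈ N := by
    intro j
    rcases Nat.lt_or_ge j (n + 1) with hj | hj
    · exact Submodule.subset_span ⟨⟨j, hj⟩, rfl⟩
    · obtain ⟨l, rfl⟩ := Nat.exists_eq_add_of_le hj
      rw [add_comm, pow_add, Module.End.mul_apply, P.pow_toEnd_f_eq_zero_of_eq_nat hn, map_zero]
      exact zero_mem _
  have hgen : ∀ x ∈ ({e, f, h} : Set L), ∀ y ∈ N, ⁅x, y⁆ ∈ N := by
    intro x hx y hy
    induction hy using Submodule.span_induction with
    | mem y hy =>
      obtain ⟨j, rfl⟩ := hy
      rcases hx with rfl | rfl | rfl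
      · rcases Nat.eq_zero_or_pos (j : ℕ) with hj | hj
        · simp only [v, hj, pow_zero, Module.End.one_apply, P.lie_e]
          exact zero_mem _
        · obtain ⟨l, hl⟩ := Nat.exists_eq_succ_of_ne_zero hj.ne'
          simp only [v, hl, Nat.succ_eq_add_one, P.lie_e_pow_succ_toEnd_f]
          exact N.smul_mem _ (hmem l)
      · simp only [v, P.lie_f_pow_toEnd_f]
        exact hmem _
      · simp only [v, P.lie_h_pow_toEnd_f]
        exact N.smul_mem _ (hmem _)
    | zero => rw [lie_zero]; exact zero_mem _
    | add a b _ _ ha hb => rw [lie_add]; exact add_mem ha hb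
    | smul c a _ ha => rw [lie_smul]; exact N.smul_mem c ha
  let S : LieSubmodule k L M :=
    { N with
      lie_mem := fun {x y} hy => by
        have hx : x ∈ Submodule.span k ({e, f, h} : Set L) := by
          have : x ∈ t.toLieSubalgebra k := hspan ▸ trivial
          exact this
        induction hx using Submodule.span_induction with
        | mem z hz => exact hgen z hz y hy
        | zero => rw [zero_lie]; exact N.zero_mem
        | add a b _ _ ha hb => rw [add_lie]; exact N.add_mem ha hb
        | smul c a _ ha => rw [smul_lie]; exact N.smul_mem c ha }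
  have hS : S = ⊤ := (eq_bot_or_eq_top S).resolve_left fun hb => by
    have h1 : m ∈ S := by
      have h0 := hmem 0
      rwa [pow_zero, Module.End.one_apply] at h0
    rw [hb, LieSubmodule.mem_bot] at h1
    exact P.ne_zero h1
  let b : Module.Basis (Fin (n + 1)) k M := Module.Basis.mk hli (by
    intro x _
    have h1 : x ∈ S := hS ▸ trivial
    exact h1)
  have hfr : Module.finrank k M = n + 1 := by simp [Module.finrank_eq_card_basis b]
  rw [LinearMap.trace_eq_matrix_trace k b, Matrix.trace, hfr]
  have hdiag : ∀ j, (LinearMap.toMatrix b b ((LieModule.toEnd k L M h) ^ 2)).diag j = ((n : k) - 2 * (j : ℕ)) ^ 2 := by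
    intro j
    rw [Matrix.diag_apply, LinearMap.toMatrix_apply, sq, Module.End.mul_apply, show b j = v j from Module.Basis.mk_apply _ _ _,
      hv, map_smul, hv, smul_smul, ← show b j = v j from Module.Basis.mk_apply _ _ _, map_smul, b.repr_self,
      Finsupp.smul_apply, Finsupp.single_eq_same, smul_eq_mul, mul_one, hn, sq]
  simp only [hdiag]
  rw [Fin.sum_univ_eq_sum_range (fun j : ℕ => ((n : k) - 2 * (j : k)) ^ 2)]
  refine mul_left_cancel₀ (show (3 : k) ≠ 0 by norm_num) ?_
  rw [sum_sq]
  have h6 : (6 : k) * (((n + 1 + 1).choose 3 : ℕ) : k) = (n + 2) * (n + 1) * n := by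
    have := Nat.descFactorial_eq_factorial_mul_choose (n + 1 + 1) 3
    have h2 : (n + 1 + 1).descFactorial 3 = (n + 2) * (n + 1) * n := by
      simp [Nat.descFactorial_succ]; ring
    rw [h2] at this
    have h3 := congrArg (fun z : ℕ => (z : k)) this
    simp only [Nat.factorial, Nat.cast_mul, Nat.cast_add, Nat.cast_one, Nat.cast_ofNat, Nat.succ_eq_add_one] at h3
    push_cast at h3
    linear_combination -h3
  push_cast
  linear_combination (norm := ring_nf) -h6

/-- Let k be an algebraically closed field of characteristic zero, L a Lie algebra over k spanned by an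
sl_2-triple (h, e, f), and V a finite-dimensional L-module written as an internal direct sum of
finitely many irreducible Lie submodules V_i. Then the trace on V of the square of the action of h
is 2 Σ_i C(dim V_i + 1, 3). (The published statement concerns a finite-dimensional representation V
of a simple Lie algebra restricted to the copy of sl_2 attached to the highest root θ, with h the
coroot θ^∨; there Σ_i C(dim V_i + 1, 3) is the index of V, and the trace is the sum over the weights
λ of V, with multiplicity, of ⟨λ, θ^∨⟩².) -/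
theorem result
    (k : Type u) [Field k] [IsAlgClosed k] [CharZero k]
    (L : Type v) [LieRing L] [LieAlgebra k L]
    (h e f : L) (t : IsSl2Triple h e f) (hspan : t.toLieSubalgebra k = ⊤)
    (V : Type w) [AddCommGroup V] [Module k V] [LieRingModule L V] [LieModule k L V]
    [FiniteDimensional k V]
    (ι : Type) [Fintype ι] [DecidableEq ι] (W : ι → LieSubmodule k L V)
    (hW : DirectSum.IsInternal fun i => (W i).toSubmodule)
    (hirr : ∀ i, LieModule.IsIrreducible k L (W i)) :
    LinearMap.trace k V ((LieModule.toEnd k L V h) ^ 2) =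
      2 * ∑ i, (((Module.finrank k (W i) + 1).choose 3 : ℕ) : k) := by
  classical
  have hf : ∀ i, Set.MapsTo ((LieModule.toEnd k L V h) ^ 2 : Module.End k V) ((W i).toSubmodule : Set V) ((W i).toSubmodule : Set V) := fun i x hx => by
    rw [sq, Module.End.mul_apply]
    exact (W i).lie_mem ((W i).lie_mem hx)
  rw [LinearMap.trace_eq_sum_trace_restrict hW hf, Finset.mul_sum]
  refine Finset.sum_congr rfl fun i _ => ?_
  haveI := hirr i
  rw [← irreducible_trace t hspan (M := W i)]
  congr 1

end Groth.Agent.S17468
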