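import Groth.Statements.S17472
import Mathlib
import Mathlib

set_option autoImplicit false
universe u
open HopfAlg

namespace Groth.Agent.S17472

open CategoryTheory AlgebraicGeometry Bialgebra in
theorem isPrime_finite_invariant {k : Type u} [Field k] [IsAlgClosed k] {A : Type u} [CommRing A]
    [HopfAlgebra k A] [Algebra.FiniteType k A] (τ : (A →ₐ[k] k) → A ≃ₐ[k] A)
    (hτ : ∀ χ, (Bialgebra.counitAlgHom k A).comp (τ χ).toAlgHom = χ)
    (𝒬 : Set (Ideal A)) (hfin : 𝒬.Finite) (hinv : ∀ χ, ∀ Q ∈ 𝒬, Ideal.comap (τ χ).toAlgHom Q ∈ 𝒬)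
    (hQ : ∃ Q ∈ 𝒬, Q ≤ RingHom.ker (Bialgebra.counitAlgHom k A)) :
    (hfin.toFinset.inf id) ≤ nilradical A := by
  have : IsNoetherianRing A := Algebra.FiniteType.isNoetherianRing k A
  have : IsJacobsonRing A := isJacobsonRing_of_finiteType (A := k)
  rw [nilradical, Ideal.radical_eq_jacobson]
  intro a ha
  rw [Ideal.jacobson, Submodule.mem_sInf]
  rintro m ⟨-, hm⟩
  let := Ideal.Quotient.field m
  have : Module.Finite k (A ⧸ m) := finite_of_finite_type_of_isJacobsonRing k (A ⧸ m)
  have hbij := IsAlgClosed.algebraMap_bijective_of_isIntegral (k := k) (K := A ⧸ m)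
  let e := AlgEquiv.ofBijective (Algebra.ofId k (A ⧸ m)) hbij
  let χ : A →ₐ[k] k := e.symm.toAlgHom.comp (Ideal.Quotient.mkₐ k m)
  obtain ⟨Q, hQ₁, hQ₂⟩ := hQ
  have hker : RingHom.ker χ = m := by
    ext b
    simp [χ, RingHom.mem_ker, Ideal.Quotient.eq_zero_iff_mem]
  have h1 : a ∈ Ideal.comap (τ χ).toAlgHom Q :=
    (Finset.inf_le (f := id) (hfin.mem_toFinset.mpr (hinv χ Q hQ₁))) ha
  have h2 : (τ χ).toAlgHom a ∈ RingHom.ker (Bialgebra.counitAlgHom k A) := hQ₂ h1
  rw [RingHom.mem_ker, ← AlgHom.comp_apply, hτ] at h2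
  rw [← hker, RingHom.mem_ker]
  exact h2

open CategoryTheory AlgebraicGeometry in
theorem exists_translation {k : Type u} [Field k] {A : Type u} [CommRing A] [HopfAlgebra k A] :
    ∃ τ : (A →ₐ[k] k) → A ≃ₐ[k] A, ∀ χ, (Bialgebra.counitAlgHom k A).comp (τ χ).toAlgHom = χ := by
  let T : WithConv (A →ₐ[k] k) → (A →ₐ[k] A) := fun χ =>
    (WithConv.toConv ((Algebra.ofId k A).comp χ.ofConv) * WithConv.toConv (AlgHom.id k A)).ofConv
  have hT : ∀ χ χ', (T χ).comp (T χ') = T (χ' * χ) := by
    intro χ χ'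
    simp only [T]
    rw [AlgHom.comp_convMul_distrib]
    congr 1
    have e1 : ∀ (f : A →ₐ[k] A) (x : WithConv (A →ₐ[k] k)),
        f.comp ((Algebra.ofId k A).comp x.ofConv) = (Algebra.ofId k A).comp x.ofConv :=
      fun f x => AlgHom.ext fun a => f.commutes _
    simp only [WithConv.ofConv_toConv, e1, AlgHom.comp_id, WithConv.toConv_ofConv]
    rw [← mul_assoc, AlgHom.comp_convMul_distrib]
  have hT1 : T 1 = AlgHom.id k A := by
    simp only [T]
    rw [show WithConv.toConv ((Algebra.ofId k A).comp (1 : WithConv (A →ₐ[k] k)).ofConv) = 1 from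
      WithConv.ofConv_injective (AlgHom.ext fun a => rfl), one_mul]
  refine ⟨fun χ => AlgEquiv.ofAlgHom (T (WithConv.toConv χ)) (T (WithConv.toConv χ)⁻¹)
    (by rw [hT, inv_mul_cancel, hT1]) (by rw [hT, mul_inv_cancel, hT1]), fun χ => ?_⟩
  show (Bialgebra.counitAlgHom k A).comp (T (WithConv.toConv χ)) = χ
  simp only [T]
  rw [AlgHom.comp_convMul_distrib]
  simp only [WithConv.ofConv_toConv, AlgHom.comp_id]
  rw [show WithConv.toConv (Bialgebra.counitAlgHom k A) = 1 from
    WithConv.ofConv_injective (AlgHom.ext fun a => rfl), mul_one]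
  exact AlgHom.ext fun a => (Bialgebra.counitAlgHom k A).commutes _

open CategoryTheory AlgebraicGeometry in
theorem exists_char {k : Type u} [Field k] [IsAlgClosed k] {A : Type u} [CommRing A] [Algebra k A]
    [Algebra.FiniteType k A] (m : Ideal A) [m.IsMaximal] : ∃ χ : A →ₐ[k] k, RingHom.ker χ = m := by
  have : IsJacobsonRing A := isJacobsonRing_of_finiteType (A := k)
  let := Ideal.Quotient.field m
  have : Module.Finite k (A ⧸ m) := finite_of_finite_type_of_isJacobsonRing k (A ⧸ m)
  let e := AlgEquiv.ofBijective (Algebra.ofId k (A ⧸ m))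
    (IsAlgClosed.algebraMap_bijective_of_isIntegral (k := k) (K := A ⧸ m))
  refine ⟨e.symm.toAlgHom.comp (Ideal.Quotient.mkₐ k m), ?_⟩
  ext b
  simp [RingHom.mem_ker, Ideal.Quotient.eq_zero_iff_mem]

open CategoryTheory AlgebraicGeometry in
theorem comap_minimal {A : Type u} [CommRing A] (e : A ≃+* A) {Q : Ideal A} (hQ : Q ∈ minimalPrimes A) :
    Ideal.comap e.toRingHom Q ∈ minimalPrimes A := by
  have h := Ideal.minimalPrimes_comap_of_surjective (I := (⊥ : Ideal A)) (f := e.toRingHom) e.surjective hQ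
  rw [show Ideal.comap e.toRingHom (⊥ : Ideal A) = ⊥ from Ideal.comap_bot_of_injective e.toRingHom e.injective] at h
  exact h

open CategoryTheory AlgebraicGeometry in
theorem comap_associated {A : Type u} [CommRing A] [IsNoetherianRing A] (e : A ≃+* A) {Q : Ideal A}
    (hQ : Q ∈ associatedPrimes A A) : Ideal.comap e.toRingHom Q ∈ associatedPrimes A A := by
  rw [AssociatedPrimes.mem_iff, isAssociatedPrime_iff] at hQ ⊢
  obtain ⟨hQp, x, rfl⟩ := hQ
  refine ⟨Ideal.comap_isPrime _ _, e.symm x, ?_⟩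
  ext r
  simp only [Ideal.mem_comap, Submodule.mem_colon_singleton, Submodule.mem_bot, smul_eq_mul]
  rw [← map_eq_zero_iff e e.injective (x := r * e.symm x), map_mul, e.apply_symm_apply]
  rfl

open CategoryTheory AlgebraicGeometry in
theorem krull_connected {k : Type u} [Field k] [IsAlgClosed k]
    {A : Type u} [CommRing A] [HopfAlgebra k A] [Algebra.FiniteType k A]
    (hconn : ∀ e : A, IsIdempotentElem e → e = 0 ∨ e = 1) :
    (⨅ n : ℕ, RingHom.ker (Bialgebra.counitAlgHom k A) ^ n) = ⊥ := by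
  classical
  have : IsNoetherianRing A := Algebra.FiniteType.isNoetherianRing k A
  have : IsJacobsonRing A := isJacobsonRing_of_finiteType (A := k)
  have : Nontrivial A := (Bialgebra.counitAlgHom k A).toRingHom.domain_nontrivial
  obtain ⟨τ, hτ⟩ := exists_translation (k := k) (A := A)
  set I := RingHom.ker (Bialgebra.counitAlgHom k A)
  have hI : I.IsPrime := RingHom.ker_isPrime _
  have hmove : ∀ (χ : A →ₐ[k] k) (a : A), χ a = 0 ↔ (τ χ) a ∈ I := fun χ a => by
    rw [RingHom.mem_ker, show (Bialgebra.counitAlgHom k A) ((τ χ) a) = χ a from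
      AlgHom.congr_fun (hτ χ) a]
  -- invariant finite sets of primes meeting the identity contain all minimal primes
  have hall : ∀ (𝒬 : Set (Ideal A)), 𝒬.Finite → (∀ Q ∈ 𝒬, Q.IsPrime) →
      (∀ χ, ∀ Q ∈ 𝒬, Ideal.comap (τ χ).toAlgHom Q ∈ 𝒬) → (∃ Q ∈ 𝒬, Q ≤ I) →
      minimalPrimes A ⊆ 𝒬 := by
    intro 𝒬 hfin hp hinv hQ P hP
    have h := (isPrime_finite_invariant τ hτ 𝒬 hfin hinv hQ).trans
      (nilradical_le_prime (H := hP.1.1) P)
    obtain ⟨Q, hQ', hQP⟩ := (hP.1.1).inf_le'.mp h
    rw [Set.Finite.mem_toFinset] at hQ'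
    exact (le_antisymm hQP (hP.2 ⟨hp Q hQ', bot_le⟩ hQP)) ▸ hQ'
  have hmin : (minimalPrimes A).Finite := minimalPrimes.finite_of_isNoetherianRing A
  -- only one component through each closed point
  have hone : ∀ P ∈ minimalPrimes A, ∀ P' ∈ minimalPrimes A, P ≤ I → P' ≤ I → P = P' := by
    intro P hP P' hP' hPI hP'I
    by_contra hne
    -- a point of a single component
    obtain ⟨m, hm, hPm, hm'⟩ : ∃ m : Ideal A, m.IsMaximal ∧ P ≤ m ∧
        ∀ R ∈ minimalPrimes A, R ≤ m → R = P := by
      have hnot : ¬ (hmin.toFinset.erase P).inf id ≤ P := fun h => by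
        obtain ⟨R, hR, hRP⟩ := (hP.1.1).inf_le'.mp h
        obtain ⟨hR1, hR2⟩ := Finset.mem_erase.mp hR
        exact hR1 (le_antisymm hRP (hP.2 ⟨(hmin.mem_toFinset.mp hR2).1.1, bot_le⟩ hRP))
      obtain ⟨a, ha, haP⟩ := Set.not_subset.mp hnot
      have hPj : P.jacobson = P := IsJacobsonRing.out ‹IsJacobsonRing A› (Ideal.IsPrime.isRadical hP.1.1)
      rw [SetLike.mem_coe, ← hPj, Ideal.jacobson, Submodule.mem_sInf] at haP
      push Not at haP
      obtain ⟨m, ⟨hPm, hm⟩, ham⟩ := haP
      refine ⟨m, hm, hPm, fun R hR hRm => by_contra fun hne' => ham (hRm ?_)⟩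
      exact (Finset.inf_le (f := id) (Finset.mem_erase.mpr ⟨hne', hmin.mem_toFinset.mpr hR⟩)) ha
    obtain ⟨χ, hχ⟩ := exists_char (k := k) m
    have hle : ∀ R : Ideal A, R ≤ I → Ideal.comap (τ χ).toRingEquiv.toRingHom R ≤ m := by
      intro R hR a ha
      rw [← hχ, RingHom.mem_ker, hmove]
      exact hR ha
    have e := (hm' _ (comap_minimal (τ χ).toRingEquiv hP) (hle P hPI)).trans
      (hm' _ (comap_minimal (τ χ).toRingEquiv hP') (hle P' hP'I)).symm
    exact hne (Ideal.comap_injective_of_surjective _ (τ χ).surjective e)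
  obtain ⟨P, hP, hPI⟩ := Ideal.exists_minimalPrimes_le (I := (⊥ : Ideal A)) (J := I) bot_le
  have hsep : ∀ P' ∈ minimalPrimes A, P' ≠ P → P ⊔ P' = ⊤ := by
    intro P' hP' hne
    by_contra htop
    obtain ⟨m, hm, hle⟩ := Ideal.exists_le_maximal _ htop
    obtain ⟨χ, hχ⟩ := exists_char (k := k) m
    have hback : ∀ R : Ideal A, R ≤ m → Ideal.comap (τ χ).symm.toRingEquiv.toRingHom R ≤ I := by
      intro R hR a ha
      have h := hR ha
      rw [← hχ, RingHom.mem_ker, hmove] at h
      rw [show ((τ χ).symm.toRingEquiv.toRingHom a) = (τ χ).symm a from rfl,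
        (τ χ).apply_symm_apply] at h
      exact h
    have e := hone _ (comap_minimal _ hP) _ (comap_minimal _ hP')
      (hback P (le_sup_left.trans hle)) (hback P' (le_sup_right.trans hle))
    exact hne (Ideal.comap_injective_of_surjective _ (τ χ).symm.surjective e).symm
  -- connectedness leaves one component
  have huniq : ∀ P' ∈ minimalPrimes A, P' = P := by
    intro P' hP'
    by_contra hne
    let J : Ideal A := (hmin.toFinset.erase P).inf id
    have hJP : J ⊔ P = ⊤ := by
      by_contra htop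
      obtain ⟨m, hm, hle⟩ := Ideal.exists_le_maximal _ htop
      obtain ⟨R, hR, hRm⟩ := hm.isPrime.inf_le'.mp (le_sup_left.trans hle)
      obtain ⟨hR1, hR2⟩ := Finset.mem_erase.mp hR
      exact hm.ne_top (top_le_iff.mp ((hsep R (hmin.mem_toFinset.mp hR2) hR1).ge.trans
        (sup_le (le_sup_right.trans hle) hRm)))
    obtain ⟨x, hx, y, hy, hxy⟩ := Submodule.mem_sup.mp ((Ideal.eq_top_iff_one _).mp hJP)
    have hxy' : x * y ∈ nilradical A := by
      rw [nilradical, Ideal.radical_eq_sInf, Submodule.mem_sInf]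
      rintro R ⟨-, hR⟩
      obtain ⟨R₀, hR₀, hle⟩ := Ideal.exists_minimalPrimes_le (I := (⊥ : Ideal A)) (J := R) bot_le
      rcases eq_or_ne R₀ P with rfl | h0
      · exact hle (Ideal.mul_mem_left _ _ hy)
      · exact hle (Ideal.mul_mem_right _ _
          ((Finset.inf_le (f := id) (Finset.mem_erase.mpr ⟨h0, hmin.mem_toFinset.mpr hR₀⟩)) hx))
    obtain ⟨N, hN⟩ := hxy'
    have hN1 : (x * y) ^ (N + 1) = 0 := by rw [pow_succ, hN, zero_mul]
    obtain ⟨a, b, hab⟩ := (IsCoprime.pow (m := N + 1) (n := N + 1)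
      (show IsCoprime x y from ⟨1, 1, by rw [one_mul, one_mul]; exact hxy⟩))
    have he : IsIdempotentElem (a * x ^ (N + 1)) := by
      have h0 : (a * x ^ (N + 1)) * (b * y ^ (N + 1)) = 0 := by
        rw [mul_mul_mul_comm, ← mul_pow, hN1, mul_zero]
      rw [show b * y ^ (N + 1) = 1 - a * x ^ (N + 1) from eq_sub_of_add_eq' hab, mul_sub, mul_one,
        sub_eq_zero] at h0
      exact h0.symm
    rcases hconn _ he with h | h
    · rw [h, zero_add] at hab
      exact hP.1.1.ne_top ((Ideal.eq_top_iff_one _).mpr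
        (hab ▸ Ideal.mul_mem_left _ _ (Ideal.pow_mem_of_mem _ hy _ (Nat.succ_pos N))))
    · have hxJ : (1 : A) ∈ P' := by
        rw [← h]
        refine Ideal.mul_mem_left _ _ (Ideal.pow_mem_of_mem _ ?_ _ (Nat.succ_pos N))
        exact (Finset.inf_le (f := id) (Finset.mem_erase.mpr ⟨hne, hmin.mem_toFinset.mpr hP'⟩)) hx
      exact hP'.1.1.ne_top ((Ideal.eq_top_iff_one _).mpr hxJ)
  -- no embedded components
  have hass : ∀ Q ∈ associatedPrimes A A, Q = P := by
    intro Q hQ
    by_contra hne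
    have hQp : Q.IsPrime := IsAssociatedPrime.isPrime hQ
    obtain ⟨m, hm, hQm⟩ := Ideal.exists_le_maximal Q hQp.ne_top
    obtain ⟨χ, hχ⟩ := exists_char (k := k) m
    have hcomapP : ∀ e : A ≃+* A, Ideal.comap e.toRingHom P = P := fun e =>
      huniq _ (comap_minimal e hP)
    have := hall {R ∈ associatedPrimes A A | R ≠ P} ((associatedPrimes.finite A A).subset fun R h => h.1)
      (fun R h => IsAssociatedPrime.isPrime h.1)
      (fun ψ R h => ⟨comap_associated (τ ψ).toRingEquiv h.1, fun e => h.2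
        (Ideal.comap_injective_of_surjective _ (τ ψ).surjective
          (e.trans (hcomapP (τ ψ).toRingEquiv).symm))⟩)
      ⟨Ideal.comap (τ χ).symm.toRingEquiv.toRingHom Q,
        ⟨comap_associated _ hQ, fun e => hne
          (Ideal.comap_injective_of_surjective _ (τ χ).symm.surjective
            (e.trans (hcomapP (τ χ).symm.toRingEquiv).symm))⟩,
        fun a ha => by
          have h := hQm ha
          rw [← hχ, RingHom.mem_ker, hmove] at h
          rw [show ((τ χ).symm.toRingEquiv.toRingHom a) = (τ χ).symm a from rfl,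
            (τ χ).apply_symm_apply] at h
          exact h⟩ hP
    exact this.2 rfl
  rw [eq_bot_iff]
  intro x hx
  by_contra hx0
  have hx' : x ∈ (⨅ n : ℕ, I ^ n • ⊤ : Submodule A A) := by
    simpa [Submodule.mem_iInf] using (Submodule.mem_iInf _).mp hx
  obtain ⟨⟨r, hr⟩, hrx⟩ := (I.mem_iInf_smul_pow_eq_bot_iff x).mp hx'
  have hz : (1 - r) ∈ ⋃ Q ∈ associatedPrimes A A, (Q : Set A) := by
    rw [biUnion_associatedPrimes_eq_zero_divisors]
    exact ⟨x, fun h => hx0 (by rw [h]; exact Submodule.zero_mem _),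
      by rw [smul_eq_mul, sub_mul, one_mul, show r * x = x from hrx, sub_self]⟩
  obtain ⟨Q, hQ, hrQ⟩ := Set.mem_iUnion₂.mp hz
  rw [hass Q hQ] at hrQ
  exact hI.ne_top ((Ideal.eq_top_iff_one _).mpr (by
    have := add_mem (hPI hrQ) hr
    rwa [sub_add_cancel] at this))

/-- Let k be an algebraically closed field and A a commutative Hopf algebra over k, finitely generated
as a k-algebra, whose only idempotents are 0 and 1 (so that Spec A is a connected affine algebraic
group over k, possibly non-reduced). Let m be the kernel of the counit, the ideal of the neutral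
element. Then the intersection of the powers m^n, n ≥ 0, is the zero ideal; equivalently the
infinitesimal neighbourhoods Spec (A/m^n) of the neutral element are jointly schematically dense.
(The published statement assumes the group smooth, that is, a connected linear algebraic group; the
statement here allows any connected affine algebraic group, possibly non-reduced, a case the
published argument also treats.) -/
theorem result (k : Type u) [Field k] [IsAlgClosed k]
    (A : Type u) [CommRing A] [HopfAlgebra k A] [Algebra.FiniteType k A]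
    (hconn : ∀ e : A, IsIdempotentElem e → e = 0 ∨ e = 1) :
    (⨅ n : ℕ, RingHom.ker (Bialgebra.counitAlgHom k A) ^ n) = ⊥ := by
  exact krull_connected hconn

end Groth.Agent.S17472
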