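import Groth.Statements.S17500
import Mathlib

set_option autoImplicit false
set_option backward.isDefEq.respectTransparency.types false
set_option maxHeartbeats 1000000
set_option linter.all false
universe u
open TorsMod

namespace Groth.Agent.S17500
open Groth.Agent

/-- Let p be a prime number, n a natural number and H a module over ℤ/p^nℤ. Then H is flat over ℤ/p^nℤ
if and only if, for every i with 0 ≤ i ≤ n, the kernel of multiplication by p^i on H coincides with
the image of multiplication by p^(n-i) on H. (The published item is phrased for an fppf sheaf of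
ℤ/p^nℤ-modules on a scheme; this is the case of a single module, which is the case the argument
treats.) -/
theorem result (p n : ℕ) [Fact p.Prime]
    (H : Type u) [AddCommGroup H] [Module (ZMod (p ^ n)) H] :
    Module.Flat (ZMod (p ^ n)) H ↔
      ∀ i : ℕ, i ≤ n →
        LinearMap.ker ((p ^ i : ZMod (p ^ n)) • (LinearMap.id : H →ₗ[ZMod (p ^ n)] H)) =
          LinearMap.range ((p ^ (n - i) : ZMod (p ^ n)) • (LinearMap.id : H →ₗ[ZMod (p ^ n)] H)) := by
  classical
  haveI : NeZero (p ^ n) := ⟨pow_ne_zero _ (Fact.out : p.Prime).ne_zero⟩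
  set R := ZMod (p ^ n)
  have hpn : (p : R) ^ n = 0 := by rw [← Nat.cast_pow, ZMod.natCast_self]
  have hzero : ∀ i ≤ n, ∀ x : R, (p : R) ^ i * x = 0 ↔ ∃ y, (p : R) ^ (n - i) * y = x := by
    intro i hi x
    constructor
    · intro h
      rw [← ZMod.natCast_rightInverse x, ← Nat.cast_pow, ← Nat.cast_mul, ZMod.natCast_eq_zero_iff] at h
      have : p ^ i * p ^ (n - i) ∣ p ^ i * x.val := by rwa [← pow_add, Nat.add_sub_cancel' hi]
      obtain ⟨c, hc⟩ := (mul_dvd_mul_iff_left (pow_ne_zero i (Fact.out : p.Prime).ne_zero)).1 this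
      exact ⟨c, by rw [← Nat.cast_pow, ← Nat.cast_mul, ← hc, ZMod.natCast_rightInverse x]⟩
    · rintro ⟨y, rfl⟩
      rw [← mul_assoc, ← pow_add, Nat.add_sub_cancel' hi, hpn, zero_mul]
  constructor
  · intro hflat i hi
    let f : R →ₗ[R] R := LinearMap.mulLeft R ((p : R) ^ (n - i))
    let g : R →ₗ[R] R := LinearMap.mulLeft R ((p : R) ^ i)
    have hex : Function.Exact f g := fun x => by
      show (p : R) ^ i * x = 0 ↔ x ∈ Set.range f
      exact hzero i hi x
    have hex' := Module.Flat.lTensor_exact H hex
    have key : ∀ (c : R) (t : TensorProduct R H R), TensorProduct.rid R H ((LinearMap.mulLeft R c).lTensor H t) = c • TensorProduct.rid R H t := by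
      intro c t
      induction t using TensorProduct.induction_on with
      | zero => simp
      | tmul h r => simp [smul_smul]
      | add a b ha hb => simp only [map_add, ha, hb, smul_add]
    ext h
    simp only [LinearMap.mem_ker, LinearMap.mem_range, LinearMap.smul_apply, LinearMap.id_apply]
    constructor
    · intro h0
      obtain ⟨t, ht⟩ := (hex' (h ⊗ₜ[R] (1 : R))).1 ((TensorProduct.rid R H).injective (by rw [key, map_zero, TensorProduct.rid_tmul, one_smul, h0]))
      exact ⟨TensorProduct.rid R H t, by rw [← key, ht, TensorProduct.rid_tmul, one_smul]⟩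
    · rintro ⟨y, rfl⟩
      rw [smul_smul, ← pow_add, Nat.add_sub_cancel' hi, hpn, zero_smul]
  · intro h
    haveI : IsPrincipalIdealRing R := IsPrincipalIdealRing.of_surjective (Int.castRingHom R) ZMod.intCast_surjective
    rw [Module.Flat.iff_rTensor_injective']
    intro I
    obtain ⟨i, hi, hI⟩ : ∃ i ≤ n, I = Ideal.span {(p : R) ^ i} := by
      obtain ⟨x, rfl⟩ := (IsPrincipalIdealRing.principal I).principal
      obtain ⟨i, hi, hg⟩ := (Nat.dvd_prime_pow (Fact.out : p.Prime)).1 (Nat.gcd_dvd_right x.val (p ^ n))
      refine ⟨i, hi, le_antisymm (Ideal.span_singleton_le_span_singleton.2 ?_) (Ideal.span_singleton_le_span_singleton.2 ?_)⟩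
      · have h1 : (p ^ i : ℕ) ∣ x.val := hg ▸ Nat.gcd_dvd_left _ _
        have h2 := Nat.cast_dvd_cast (α := R) h1
        rwa [Nat.cast_pow, ZMod.natCast_rightInverse x] at h2
      · have h1 := congrArg (Int.castRingHom R) (Nat.gcd_eq_gcd_ab x.val (p ^ n))
        rw [map_add, map_mul, map_mul, map_natCast, map_natCast, map_natCast, hg, ZMod.natCast_self, zero_mul, add_zero, Nat.cast_pow, ZMod.natCast_rightInverse x] at h1
        exact ⟨_, h1⟩
    subst hI
    rw [injective_iff_map_eq_zero]
    intro t ht
    let gen : Ideal.span {(p : R) ^ i} := ⟨_, Ideal.mem_span_singleton_self _⟩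
    have hsur : ∀ t : TensorProduct R (Ideal.span {(p : R) ^ i}) H, ∃ y : H, gen ⊗ₜ[R] y = t := by
      intro t
      induction t using TensorProduct.induction_on with
      | zero => exact ⟨0, TensorProduct.tmul_zero _ _⟩
      | tmul a b =>
        obtain ⟨c, hc⟩ := Ideal.mem_span_singleton'.1 a.2
        exact ⟨c • b, by rw [TensorProduct.tmul_smul, TensorProduct.smul_tmul', show c • gen = a from Subtype.ext hc]⟩
      | add a b ha hb =>
        obtain ⟨ya, rfl⟩ := ha
        obtain ⟨yb, rfl⟩ := hb
        exact ⟨ya + yb, TensorProduct.tmul_add _ _ _⟩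
    obtain ⟨y, rfl⟩ := hsur t
    have hy : (p : R) ^ i • y = 0 := by
      rw [LinearMap.rTensor_tmul] at ht
      have h2 := congrArg (TensorProduct.lid R H) ht
      rw [TensorProduct.lid_tmul, map_zero] at h2
      exact h2
    have hker : y ∈ LinearMap.ker ((p ^ i : R) • (LinearMap.id : H →ₗ[R] H)) := by
      simpa using hy
    rw [h i hi] at hker
    obtain ⟨z, hz⟩ := hker
    simp only [LinearMap.smul_apply, LinearMap.id_apply] at hz
    rw [← hz, TensorProduct.tmul_smul, TensorProduct.smul_tmul', show (p : R) ^ (n - i) • gen = 0 from Subtype.ext (by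
      show (p : R) ^ (n - i) * (p : R) ^ i = 0
      rw [← pow_add, Nat.sub_add_cancel hi, hpn]), TensorProduct.zero_tmul]

end Groth.Agent.S17500
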