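import Groth.Statements.S17517
import Mathlib

set_option autoImplicit false
set_option backward.isDefEq.respectTransparency.types false
set_option maxHeartbeats 1000000
set_option linter.all false
universe u
open GIT

namespace Groth.Agent.S17517
open Groth.Agent

/-- Let `E` be a finite-dimensional real inner product space and `L` a full lattice in `E` (a discrete
subgroup spanning `E`) on which the inner product is integer valued; let `F` and `G` be nonempty
finite sets of real linear functionals on `E` taking integer values on `L`, with `f_min v = min_{f ∈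
F} f v` and `g_min v = min_{g ∈ G} g v`. If some vector `v` has `f_min v ≥ 0` and `g_min v > 0`,
then on the set `C_F` of nonzero `v` with `f_min v ≥ 0` the function `v ↦ g_min v / ‖v‖` attains a
greatest value `M`, and there is exactly one lattice vector `v₀ ∈ C_F` with `g_min v₀ / ‖v₀‖ = M` of
which every lattice vector `v ∈ C_F` with `g_min v / ‖v‖ = M` is an integer multiple. -/
theorem result
    (E : Type u) [NormedAddCommGroup E] [InnerProductSpace ℝ E] [FiniteDimensional ℝ E]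
    (L : Submodule ℤ E) [DiscreteTopology L] [IsZLattice ℝ L]
    (hint : ∀ x ∈ L, ∀ y ∈ L, ∃ n : ℤ, inner ℝ x y = (n : ℝ))
    (F G : Finset (Module.Dual ℝ E)) (hF : F.Nonempty) (hG : G.Nonempty)
    (hFi : ∀ f ∈ F, ∀ x ∈ L, ∃ n : ℤ, f x = (n : ℝ)) (hGi : ∀ g ∈ G, ∀ x ∈ L, ∃ n : ℤ, g x = (n : ℝ))
    (hpos : ∃ v : E, 0 ≤ F.inf' hF (fun f => f v) ∧ 0 < G.inf' hG (fun g => g v)) :
    ∃ M : ℝ, IsGreatest ((fun v => G.inf' hG (fun g => g v) / ‖v‖) ''
        {v : E | v ≠ 0 ∧ 0 ≤ F.inf' hF (fun f => f v)}) M ∧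
      ∃! v₀ : E, v₀ ∈ L ∧ v₀ ≠ 0 ∧ 0 ≤ F.inf' hF (fun f => f v₀) ∧
        G.inf' hG (fun g => g v₀) / ‖v₀‖ = M ∧
        ∀ v ∈ L, v ≠ 0 → 0 ≤ F.inf' hF (fun f => f v) → G.inf' hG (fun g => g v) / ‖v‖ = M →
          ∃ n : ℤ, v = n • v₀ := by
    classical
    obtain ⟨π, hπ⟩ : ∃ π : ℝ →ₗ[ℚ] ℚ, ∀ q : ℚ, π (q : ℝ) = q := by
      obtain ⟨π, hπ⟩ := LinearMap.exists_leftInverse_of_injective (Algebra.linearMap ℚ ℝ)
        (LinearMap.ker_eq_bot.2 (algebraMap ℚ ℝ).injective)
      exact ⟨π, fun q => LinearMap.congr_fun hπ q⟩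
    have hπmul : ∀ (q : ℚ) (t : ℝ), π ((q : ℝ) * t) = q * π t := by
      intro q t
      rw [show ((q : ℝ) * t) = q • t from (Rat.smul_def q t).symm, map_smul, smul_eq_mul]
    let bL := Module.Free.chooseBasis ℤ L
    let e := bL.ofZLatticeBasis ℝ L
    haveI : Finite (Module.Free.ChooseBasisIndex ℤ L) := Module.Finite.finite_basis e
    haveI := Fintype.ofFinite (Module.Free.ChooseBasisIndex ℤ L)
    have he : ∀ i, e i ∈ L := fun i => by rw [Module.Basis.ofZLatticeBasis_apply]; exact (bL i).2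
    -- the rational points
    let Q : Set E := {v | ∀ i, ∃ q : ℚ, e.repr v i = (q : ℝ)}
    have hQsum : ∀ c : Module.Free.ChooseBasisIndex ℤ L → ℚ, (∑ i, ((c i : ℝ)) • e i) ∈ Q := by
      intro c i
      exact ⟨c i, by simp [map_sum, Finsupp.single_apply]⟩
    have hQinner : ∀ v ∈ Q, ∀ w ∈ Q, ∃ q : ℚ, inner ℝ v w = (q : ℝ) := by
      intro v hv w hw
      choose a ha using hv
      choose b hb using hw
      choose n hn using fun i j => hint (e i) (he i) (e j) (he j)
      refine ⟨∑ i, ∑ j, a i * (b j * (n i j : ℚ)), ?_⟩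
      conv_lhs => rw [← e.sum_repr v, ← e.sum_repr w]
      simp only [sum_inner, inner_sum, real_inner_smul_left, real_inner_smul_right, ha, hb, hn]
      push_cast
      rw [Finset.sum_comm]
      exact Finset.sum_congr rfl fun i _ => Finset.sum_congr rfl fun j _ => by ring
    have hext : ∀ {ι : Type u} [Fintype ι] (a : ι → E), (∀ i, a i ∈ Q) → ∀ v ∈ Submodule.span ℝ (Set.range a),
        (∀ i, ∃ q : ℚ, inner ℝ (a i) v = (q : ℝ)) → v ∈ Q := by
      intro ι _ a ha v hv hq
      obtain ⟨t, rfl⟩ := (Submodule.mem_span_range_iff_exists_fun ℝ).1 hv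
      choose q hq using hq
      choose g hg using fun i j => hQinner (a i) (ha i) (a j) (ha j)
      have hv' : (∑ i, ((π (t i) : ℚ) : ℝ) • a i) = ∑ i, t i • a i := by
        have h0 : ∀ i, inner ℝ (a i) ((∑ j, ((π (t j) : ℚ) : ℝ) • a j) - ∑ j, t j • a j) = (0 : ℝ) := by
          intro i
          have h1 : (q i : ℝ) = ∑ j, (g i j : ℝ) * t j := by
            rw [← hq i, inner_sum]
            exact Finset.sum_congr rfl fun j _ => by rw [real_inner_smul_right, hg, mul_comm]
          have h2 : q i = ∑ j, g i j * π (t j) := by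
            have h3 := congrArg π h1
            rw [hπ, map_sum] at h3
            rw [h3]
            exact Finset.sum_congr rfl fun j _ => hπmul _ _
          rw [inner_sub_right, hq i, inner_sum, h2]
          push_cast
          rw [← Finset.sum_sub_distrib]
          exact Finset.sum_eq_zero fun j _ => by rw [real_inner_smul_right, hg]; ring
        rw [← sub_eq_zero, ← inner_self_eq_zero (𝕜 := ℝ)]
        generalize hz : (∑ i, ((π (t i) : ℚ) : ℝ) • a i) - ∑ i, t i • a i = z at h0 ⊢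
        nth_rewrite 1 [← hz]
        simp [inner_sub_left, sum_inner, real_inner_smul_left, h0]
      rw [← hv']
      choose c hc using ha
      intro k
      refine ⟨∑ i, π (t i) * c i k, ?_⟩
      rw [map_sum, Finsupp.finset_sum_apply]
      push_cast
      exact Finset.sum_congr rfl fun i _ => by rw [map_smul, Finsupp.smul_apply, smul_eq_mul, hc]
    have hrep : ∀ f : Module.Dual ℝ E, (∀ x ∈ L, ∃ n : ℤ, f x = (n : ℝ)) → ∃ a ∈ Q, ∀ v, inner ℝ a v = f v := by
      intro f hf
      let a := (InnerProductSpace.toDual ℝ E).symm (LinearMap.toContinuousLinearMap f)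
      have ha : ∀ v, inner ℝ a v = f v := fun v => InnerProductSpace.toDual_symm_apply
      refine ⟨a, hext (fun i => e i) (fun i j => ⟨if i = j then 1 else 0, by split_ifs with h <;> simp [Finsupp.single_apply, h]⟩) a
        (by rw [e.span_eq]; trivial) (fun i => ?_), ha⟩
      obtain ⟨n, hn⟩ := hf (e i) (he i)
      exact ⟨n, by rw [real_inner_comm, ha, hn]; norm_cast⟩
    -- the maximum
    let fm : E → ℝ := fun v => F.inf' hF (fun f => f v)
    let gm : E → ℝ := fun v => G.inf' hG (fun g => g v)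
    have hfm : Continuous fm := Continuous.finset_inf'_apply hF fun f _ => f.continuous_of_finiteDimensional
    have hgm : Continuous gm := Continuous.finset_inf'_apply hG fun f _ => f.continuous_of_finiteDimensional
    have hfsc : ∀ (c : ℝ), 0 ≤ c → ∀ v, 0 ≤ fm v → 0 ≤ fm (c • v) := by
      intro c hc v hv
      refine Finset.le_inf' _ _ fun f hf => ?_
      rw [map_smul, smul_eq_mul]
      exact mul_nonneg hc (hv.trans (Finset.inf'_le _ hf))
    have hgsc : ∀ (c : ℝ), 0 ≤ c → ∀ v, gm (c • v) = c * gm v := by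
      intro c hc v
      simp only [gm, map_smul, smul_eq_mul]
      obtain ⟨g, hg, hgv⟩ := Finset.exists_mem_eq_inf' hG (fun g => g v)
      refine le_antisymm ((Finset.inf'_le _ hg).trans_eq (by rw [hgv])) (Finset.le_inf' _ _ fun g' hg' => ?_)
      exact mul_le_mul_of_nonneg_left (Finset.inf'_le _ hg') hc
    obtain ⟨v₁, hv₁f, hv₁g⟩ := hpos
    have hv₁ : v₁ ≠ 0 := by
      rintro rfl
      simp at hv₁g
    let K := Metric.sphere (0 : E) 1 ∩ {v | 0 ≤ fm v}
    have hK : IsCompact K := (isCompact_sphere _ _).inter_right (isClosed_le continuous_const hfm)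
    have hKne : (‖v₁‖⁻¹ • v₁) ∈ K := ⟨by simp [norm_smul, hv₁], hfsc _ (by positivity) _ hv₁f⟩
    obtain ⟨u, huK, humax⟩ := hK.exists_isMaxOn ⟨_, hKne⟩ hgm.continuousOn
    set M := gm u with hM
    have hMpos : 0 < M := by
      refine lt_of_lt_of_le ?_ (humax hKne)
      rw [hgsc _ (by positivity)]
      exact mul_pos (by positivity) hv₁g
    have hle : ∀ v, v ≠ 0 → 0 ≤ fm v → gm v ≤ M * ‖v‖ := by
      intro v hv hvf
      have h1 : gm (‖v‖⁻¹ • v) ≤ M := humax ⟨by simp [norm_smul, hv], hfsc _ (by positivity) _ hvf⟩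
      rw [hgsc _ (by positivity), inv_mul_le_iff₀ (norm_pos_iff.2 hv)] at h1
      linarith
    have hu1 : ‖u‖ = 1 := by simpa using huK.1
    have hu0 : u ≠ 0 := fun h => by simp [h] at hu1
    set v' := M⁻¹ • u with hv'
    have hv'f : 0 ≤ fm v' := hfsc _ (by positivity) _ huK.2
    have hv'g : gm v' = 1 := by rw [hv', hgsc _ (by positivity), ← hM]; field_simp
    have hv'n : ‖v'‖ = M⁻¹ := by rw [hv', norm_smul, hu1, mul_one, Real.norm_eq_abs, abs_of_pos (by positivity)]
    have hv'0 : v' ≠ 0 := fun h => by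
      rw [h, norm_zero] at hv'n
      exact (inv_ne_zero hMpos.ne') hv'n.symm
    -- uniqueness of the direction
    have huniq : ∀ v, v ≠ 0 → 0 ≤ fm v → gm v / ‖v‖ = M → v = (‖v‖ * M) • v' := by
      intro v hv hvf hvM
      rw [hv', smul_smul, mul_assoc, mul_inv_cancel₀ hMpos.ne', mul_one]
      set w := ‖v‖⁻¹ • v with hw
      have hw1 : ‖w‖ = 1 := by simp [hw, norm_smul, hv]
      have hwf : 0 ≤ fm w := hfsc _ (by positivity) _ hvf
      have hwg : gm w = M := by rw [hw, hgsc _ (by positivity), ← hvM]; ring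
      suffices w = u by rw [← this, hw, smul_smul, mul_inv_cancel₀ (norm_ne_zero_iff.2 hv), one_smul]
      by_contra hne
      have hsum : gm (w + u) ≥ 2 * M := by
        refine Finset.le_inf' _ _ fun g hg => ?_
        have h1 : M ≤ g w := hwg ▸ Finset.inf'_le (fun g : Module.Dual ℝ E => g w) hg
        have h2 : M ≤ g u := Finset.inf'_le (fun g : Module.Dual ℝ E => g u) hg
        rw [map_add]; linarith
      have hsf : 0 ≤ fm (w + u) := by
        refine Finset.le_inf' _ _ fun f hf => ?_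
        rw [map_add]
        exact add_nonneg (hwf.trans (Finset.inf'_le _ hf)) (huK.2.trans (Finset.inf'_le _ hf))
      have hne0 : w + u ≠ 0 := fun h => by
        rw [h] at hsum
        simp [gm] at hsum
        linarith
      have h3 := hle _ hne0 hsf
      have h4 : ‖w + u‖ < 2 := by
        have hpar := parallelogram_law_with_norm ℝ w u
        rw [hw1, hu1] at hpar
        have hpos : 0 < ‖w - u‖ := norm_pos_iff.2 (sub_ne_zero.2 hne)
        nlinarith [norm_nonneg (w + u)]
      nlinarith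
    -- rationality
    let ι := {f : Module.Dual ℝ E // (f ∈ F ∧ f v' = 0) ∨ (f ∈ G ∧ f v' = 1)}
    haveI : Finite ι := Finite.of_injective (fun f : ι => (⟨f.1, Finset.mem_union.2 (f.2.imp And.left And.left)⟩ : {f // f ∈ F ∪ G}))
      (fun a b h => Subtype.ext (Subtype.mk.inj h))
    haveI := Fintype.ofFinite ι
    have hrep' : ∀ f : ι, ∃ a ∈ Q, ∀ v, inner ℝ a v = f.1 v := fun f =>
      hrep f.1 (by rcases f.2 with h | h; exacts [hFi _ h.1, hGi _ h.1])
    choose a haQ ha using hrep'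
    have hv'span : v' ∈ Submodule.span ℝ (Set.range a) := by
      rw [← Submodule.orthogonal_orthogonal (Submodule.span ℝ (Set.range a)), Submodule.mem_orthogonal]
      intro w hw
      have hw0 : ∀ f : ι, f.1 w = 0 := fun f => by
        rw [← ha f]; exact (Submodule.mem_orthogonal _ _).1 hw _ (Submodule.subset_span ⟨f, rfl⟩)
      have hev : ∀ᶠ ε in nhds (0 : ℝ), (∀ f ∈ F, 0 ≤ f (v' + ε • w)) ∧ ∀ g ∈ G, 1 ≤ g (v' + ε • w) := by
        refine Filter.Eventually.and ((Filter.eventually_all_finset F).2 fun f hf => ?_)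
          ((Filter.eventually_all_finset G).2 fun g hg => ?_)
        · rcases (hv'f.trans (Finset.inf'_le _ hf)).eq_or_lt with h | h
          · exact Filter.Eventually.of_forall fun ε => by simp [hw0 ⟨f, Or.inl ⟨hf, h.symm⟩⟩, ← h]
          · have hc : Continuous fun ε : ℝ => f (v' + ε • w) :=
              f.continuous_of_finiteDimensional.comp (by fun_prop)
            exact (hc.tendsto 0).eventually (Ici_mem_nhds (by simpa using h))
        · rcases (hv'g ▸ Finset.inf'_le (fun g : Module.Dual ℝ E => g v') hg : (1 : ℝ) ≤ g v').eq_or_lt with h | h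
          · exact Filter.Eventually.of_forall fun ε => by simp [hw0 ⟨g, Or.inr ⟨hg, h.symm⟩⟩, ← h]
          · have hc : Continuous fun ε : ℝ => g (v' + ε • w) :=
              g.continuous_of_finiteDimensional.comp (by fun_prop)
            exact (hc.tendsto 0).eventually (Ici_mem_nhds (by simpa using h))
      have hmin : ∀ᶠ ε in nhds (0 : ℝ), ‖v'‖ ^ 2 ≤ ‖v' + ε • w‖ ^ 2 := by
        filter_upwards [hev] with ε hε
        have h1 : 1 ≤ gm (v' + ε • w) := Finset.le_inf' _ _ hε.2
        have hne : v' + ε • w ≠ 0 := fun h => by rw [h] at h1; simp [gm] at h1; linarith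
        have h2 := hle _ hne (Finset.le_inf' _ _ hε.1)
        have h3 : ‖v'‖ ≤ ‖v' + ε • w‖ := by
          rw [hv'n, inv_le_iff_one_le_mul₀' hMpos]; linarith
        exact pow_le_pow_left₀ (norm_nonneg _) h3 2
      obtain ⟨δ, hδ, hball⟩ := Metric.eventually_nhds_iff.1 hmin
      have hexp : ∀ ε, |ε| < δ → 0 ≤ 2 * ε * inner ℝ v' w + ε ^ 2 * ‖w‖ ^ 2 := by
        intro ε hε
        have h := hball (show dist ε 0 < δ by simpa using hε)
        rw [norm_add_sq_real, real_inner_smul_right, norm_smul ε w, mul_pow, Real.norm_eq_abs, sq_abs] at h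
        linarith
      rw [real_inner_comm]
      by_contra hne
      set c := inner ℝ v' w with hc
      set s := δ / (2 * (|c| * (1 + ‖w‖ ^ 2) + 1)) with hs
      have hden : 0 < 2 * (|c| * (1 + ‖w‖ ^ 2) + 1) := by positivity
      have hspos : 0 < s := div_pos hδ hden
      have hsmall : |(-c) * (min s (1 / (1 + ‖w‖ ^ 2)))| < δ := by
        rw [abs_mul, abs_neg, abs_of_pos (lt_min hspos (by positivity))]
        have h1 : |c| * min s (1 / (1 + ‖w‖ ^ 2)) ≤ |c| * s :=
          mul_le_mul_of_nonneg_left (min_le_left _ _) (abs_nonneg c)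
        have h2 : s * (2 * (|c| * (1 + ‖w‖ ^ 2) + 1)) = δ := div_mul_cancel₀ _ hden.ne'
        nlinarith [mul_nonneg (mul_nonneg (abs_nonneg c) hspos.le) (sq_nonneg ‖w‖)]
      have h := hexp _ hsmall
      set m := min s (1 / (1 + ‖w‖ ^ 2))
      have hm : 0 < m := lt_min hspos (by positivity)
      have hm2 : m * ‖w‖ ^ 2 ≤ 1 := by
        have h1 : m * (1 + ‖w‖ ^ 2) ≤ 1 := (le_div_iff₀ (by positivity)).1 (min_le_right s _)
        nlinarith
      have hc2 : 0 < c ^ 2 := by positivity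
      nlinarith [mul_le_mul_of_nonneg_left hm2 (mul_nonneg hm.le hc2.le)]
    have hv'Q : v' ∈ Q := hext a haQ v' hv'span fun f => by
      rcases f.2 with h | h
      · exact ⟨0, by rw [ha, h.2]; simp⟩
      · exact ⟨1, by rw [ha, h.2]; simp⟩
    choose x hx using hv'Q
    -- the lattice points on the ray
    let H : AddSubgroup ℝ := (L.toAddSubgroup).comap ((LinearMap.toSpanSingleton ℝ E v').toAddMonoidHom)
    have hH : ∀ t, t ∈ H ↔ t • v' ∈ L := fun t => Iff.rfl
    obtain ⟨k, hk⟩ : ∃ k, x k ≠ 0 := by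
      by_contra h
      push Not at h
      apply hv'0
      rw [← e.sum_repr v']
      exact Finset.sum_eq_zero fun i _ => by rw [hx, h, Rat.cast_zero, zero_smul]
    have hint' : ∀ t ∈ H, ∃ n : ℤ, (n : ℝ) = t * |(x k : ℝ)| := by
      intro t ht
      have h1 := Module.Basis.ofZLatticeBasis_repr_apply ℝ L bL ⟨_, ht⟩ k
      change e.repr (t • v') k = _ at h1
      rw [map_smul, Finsupp.smul_apply, smul_eq_mul, hx] at h1
      rcases abs_choice (x k : ℝ) with h | h
      · exact ⟨bL.repr ⟨_, ht⟩ k, by rw [h, h1]⟩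
      · exact ⟨-bL.repr ⟨_, ht⟩ k, by rw [h, mul_neg, h1]; simp⟩
    obtain ⟨N, hN0, hNH⟩ : ∃ N : ℝ, 0 < N ∧ N ∈ H := by
      refine ⟨((∏ i, (x i).den : ℕ) : ℝ), by exact_mod_cast Finset.prod_pos fun i _ => (x i).den_pos, ?_⟩
      rw [hH, ← e.sum_repr v', Finset.smul_sum]
      refine Submodule.sum_mem _ fun i _ => ?_
      rw [smul_smul, hx, ← Finset.mul_prod_erase _ _ (Finset.mem_univ i)]
      push_cast
      rw [mul_comm ((x i).den : ℝ), mul_assoc, show ((x i).den : ℝ) * (x i : ℝ) = ((x i).num : ℝ) by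
        rw [mul_comm]; exact_mod_cast (x i).mul_den_eq_num, show (∏ j ∈ Finset.univ.erase i, ((x j).den : ℝ)) * ((x i).num : ℝ) =
          (((∏ j ∈ Finset.univ.erase i, ((x j).den : ℤ)) * (x i).num : ℤ) : ℝ) by push_cast; rfl, Int.cast_smul_eq_zsmul]
      exact zsmul_mem (he i) _
    have hxk : 0 < |(x k : ℝ)| := abs_pos.2 (by exact_mod_cast hk)
    have hex : ∃ n : ℕ, 0 < n ∧ ∃ t ∈ H, (n : ℝ) = t * |(x k : ℝ)| := by
      obtain ⟨n, hn⟩ := hint' N hNH
      have : 0 < n := by exact_mod_cast (hn ▸ mul_pos hN0 hxk : (0 : ℝ) < (n : ℝ))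
      exact ⟨n.toNat, by omega, N, hNH, by rw [← hn]; exact_mod_cast Int.toNat_of_nonneg this.le⟩
    obtain ⟨hn0, t₀, ht₀, hnt⟩ := Nat.find_spec hex
    have ht₀pos : 0 < t₀ := by
      have : (0 : ℝ) < t₀ * |(x k : ℝ)| := by rw [← hnt]; exact_mod_cast hn0
      exact (mul_pos_iff_of_pos_right hxk).1 this
    have hgen : ∀ t ∈ H, ∃ n : ℤ, t = n * t₀ := by
      intro t ht
      refine ⟨⌊t / t₀⌋, ?_⟩
      set r := t - (⌊t / t₀⌋ : ℝ) * t₀ with hr
      have hrH : r ∈ H := H.sub_mem ht (by rw [← zsmul_eq_mul]; exact H.zsmul_mem ht₀ _)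
      have h0 : 0 ≤ r := by
        have := mul_le_mul_of_nonneg_right (Int.floor_le (t / t₀)) ht₀pos.le
        rw [div_mul_cancel₀ _ ht₀pos.ne'] at this
        linarith
      have h1 : r < t₀ := by
        have := mul_lt_mul_of_pos_right (Int.lt_floor_add_one (t / t₀)) ht₀pos
        rw [div_mul_cancel₀ _ ht₀pos.ne'] at this
        linarith
      by_contra hne
      have hrpos : 0 < r := h0.lt_of_ne (fun h => hne (by linarith))
      obtain ⟨n, hn⟩ := hint' r hrH
      have hnpos : 0 < n := by exact_mod_cast (hn ▸ mul_pos hrpos hxk : (0 : ℝ) < (n : ℝ))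
      have hlt : n.toNat < Nat.find hex := by
        have h2 : (n : ℝ) < (Nat.find hex : ℝ) := by
          rw [hnt, hn]; exact mul_lt_mul_of_pos_right h1 hxk
        have h3 : n < (Nat.find hex : ℤ) := by exact_mod_cast h2
        omega
      exact Nat.find_min hex hlt ⟨by omega, r, hrH, by rw [← hn]; exact_mod_cast Int.toNat_of_nonneg hnpos.le⟩
    have hray : ∀ c : ℝ, 0 < c → 0 ≤ fm (c • v') ∧ gm (c • v') / ‖c • v'‖ = M := by
      intro c hc
      refine ⟨hfsc c hc.le _ hv'f, ?_⟩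
      rw [hgsc c hc.le, hv'g, norm_smul, hv'n, Real.norm_eq_abs, abs_of_pos hc]
      field_simp
    have hall : ∀ v ∈ L, v ≠ 0 → 0 ≤ fm v → gm v / ‖v‖ = M → ∃ n : ℤ, 0 < n ∧ v = n • (t₀ • v') := by
      intro v hvL hv hvf hvM
      have h1 := huniq v hv hvf hvM
      obtain ⟨n, hn⟩ := hgen _ ((hH _).2 (h1 ▸ hvL))
      have hpos : (0 : ℝ) < (n : ℝ) * t₀ := hn ▸ mul_pos (norm_pos_iff.2 hv) hMpos
      refine ⟨n, by exact_mod_cast (mul_pos_iff_of_pos_right ht₀pos).1 hpos, ?_⟩
      rw [← Int.cast_smul_eq_zsmul ℝ, smul_smul, ← hn]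
      exact h1
    refine ⟨M, ⟨⟨v', ⟨hv'0, hv'f⟩, by
      show gm v' / ‖v'‖ = M
      rw [hv'g, hv'n, one_div, inv_inv]⟩, ?_⟩, t₀ • v', ⟨ht₀, smul_ne_zero ht₀pos.ne' hv'0, (hray t₀ ht₀pos).1,
        (hray t₀ ht₀pos).2, fun v hvL hv hvf hvM => ?_⟩, ?_⟩
    · rintro _ ⟨v, ⟨hv, hvf⟩, rfl⟩
      show gm v / ‖v‖ ≤ M
      rw [div_le_iff₀ (norm_pos_iff.2 hv)]
      exact hle v hv hvf
    · obtain ⟨n, -, hn⟩ := hall v hvL hv hvf hvM
      exact ⟨n, hn⟩
    · rintro y ⟨hyL, hy0, hyf, hyM, hy⟩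
      obtain ⟨n, hn, hyn⟩ := hall y hyL hy0 hyf hyM
      obtain ⟨m, hm⟩ := hy (t₀ • v') ht₀ (smul_ne_zero ht₀pos.ne' hv'0) (hray t₀ ht₀pos).1 (hray t₀ ht₀pos).2
      rw [hyn, smul_smul m n] at hm
      have h1 : ((m * n : ℤ) : ℝ) • (t₀ • v') = (1 : ℝ) • (t₀ • v') := by
        rw [one_smul, Int.cast_smul_eq_zsmul]; exact hm.symm
      have h2 : ((m * n : ℤ) : ℝ) = 1 := smul_left_injective ℝ (smul_ne_zero ht₀pos.ne' hv'0) h1
      have h3 : m * n = 1 := by exact_mod_cast h2
      rcases Int.eq_one_or_neg_one_of_mul_eq_one (by rw [mul_comm]; exact h3 : n * m = 1) with rfl | rfl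
      · rw [hyn, one_smul]
      · exact absurd hn (by norm_num)

end Groth.Agent.S17517
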