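import Groth.Statements.S17526
import Mathlib
import Groth.Agent.Lib.H8Criterion

set_option autoImplicit false
universe u
open GLin

namespace Groth.Agent.S17526
open Groth.Agent.H8Comod in

/-- Let `k` be a field, `H` a commutative Hopf algebra of finite type over `k` which is linearly
reductive (every finite-dimensional comodule is semisimple; `G = Spec H` is a linearly reductive
affine group), and `A` a Noetherian commutative `k`-algebra with a coaction of `H` that is an
algebra map (an action of `G` on `Spec A`). Then the ring of invariants `A^G` is Noetherian. (The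
published corollary is stated over an algebraically closed field; it is the affine case of a
statement about good moduli spaces valid over any field, and is stated here over any field.) -/
theorem result
    (k : Type u) [Field k] (H : Type u) [CommRing H] [HopfAlgebra k H] [Algebra.FiniteType k H]
    (hG : HopfRep.IsLinearlyReductive k H)
    (A : Type u) [CommRing A] [Algebra k A] [IsNoetherianRing A]
    [HopfRep.Comod k H A] [GLin.IsCoactAlg k H A] :
    IsNoetherianRing ↥(GLin.invariants k H A) := by
  obtain ⟨α, hα, h1⟩ := H8Reductive.exists_integral_of_lr hG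
  let β : H →ₗ[k] k := α ∘ₗ HopfAlgebra.antipode k
  have hβ1 : β 1 = 1 := by simp [β, HopfAlgebra.antipode_one, h1]
  let e : A →ₗ[k] A := H8Comod.act A (WithConv.toConv β)
  have hfix : ∀ a, e a ∈ GLin.invariants k H A := fun a => H8Criterion.act_fixed hα a
  have hid : ∀ f ∈ GLin.invariants k H A, e f = f := fun f hf => H8Criterion.act_fixed_eq β hβ1 hf
  have hmul : ∀ f ∈ GLin.invariants k H A, ∀ r, e (f * r) = f * e r := by
    intro f hf r
    simp only [e, H8Comod.act_apply, WithConv.ofConv_toConv]
    rw [GLin.IsCoactAlg.coact_mul, show HopfRep.Comod.coact (k := k) (A := H) f = TensorProduct.tmul k f (1 : H) from hf]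
    generalize HopfRep.Comod.coact (k := k) (A := H) r = z
    induction z using TensorProduct.induction_on with
    | zero => simp
    | tmul p q => simp
    | add p q hp hq => simp only [mul_add, map_add, hp, hq]
  let ι : GLin.invariants k H A →+* A := (GLin.invariants k H A).val.toRingHom
  have hsm : StrictMono (fun I : Ideal (GLin.invariants k H A) => I.map ι) := by
    refine Monotone.strictMono_of_injective (fun I J h => Ideal.map_mono h) ?_
    suffices key : ∀ (I : Ideal (GLin.invariants k H A)) (x : GLin.invariants k H A), ι x ∈ I.map ι → x ∈ I by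
      intro I J h
      ext x
      exact ⟨fun hx => key J x ((congrArg (fun L : Ideal A => ι x ∈ L) h).mp (Ideal.mem_map_of_mem ι hx)),
        fun hx => key I x ((congrArg (fun L : Ideal A => ι x ∈ L) h).mpr (Ideal.mem_map_of_mem ι hx))⟩
    intro I x hx
    let J : Ideal A :=
      { carrier := {a | ∀ r, ∃ y ∈ I, e (r * a) = ι y}
        add_mem' := fun {a b} ha hb r => by
          obtain ⟨y, hy, hy'⟩ := ha r
          obtain ⟨z, hz, hz'⟩ := hb r
          exact ⟨y + z, add_mem hy hz, by rw [mul_add, map_add, hy', hz', map_add]⟩
        zero_mem' := fun r => ⟨0, zero_mem _, by simp⟩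
        smul_mem' := fun c a ha r => by rw [smul_eq_mul, ← mul_assoc]; exact ha _ }
    have hle : I.map ι ≤ J := Ideal.map_le_iff_le_comap.mpr fun y hy r => by
      refine ⟨⟨e r, hfix r⟩ * y, I.mul_mem_left _ hy, ?_⟩
      show e (r * y.1) = e r * y.1
      rw [mul_comm r, hmul _ y.2, mul_comm]
    obtain ⟨y, hy, hy'⟩ := hle hx 1
    replace hy' : e x.1 = y.1 := by rwa [one_mul] at hy'
    rw [hid _ x.2] at hy'
    rwa [show x = y from Subtype.ext hy']
  haveI : WellFoundedGT (Ideal A) := isNoetherian_iff'.mp (isNoetherianRing_iff.mp inferInstance)
  exact isNoetherianRing_iff.mpr (isNoetherian_iff'.mpr hsm.wellFoundedGT)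

end Groth.Agent.S17526
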