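import Groth.Statements.S17536
import Mathlib
import Groth.Prelude.Def_W4c5adicflatcomplDec
import Groth.Agent.Lib.H2Decay
import Groth.Agent.Lib.H2Decay2
import Groth.Agent.Lib.H2Decay3
import Groth.Agent.Lib.H2Decay4

set_option autoImplicit false
universe u v w
open W4c5adicflatcompl
open CAlg

namespace Groth.Agent.S17536
open W4c5adicflatcompl TensorProduct
set_option backward.isDefEq.respectTransparency.types false

/-- If the A-module M is I-adically separated then so is the module of I-adically decaying functions
from a set Z to M. -/
theorem result {A : Type u} [CommRing A] (I : Ideal A) (Z : Type v)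
    (M : Type w) [AddCommGroup M] [Module A M] [IsHausdorff I M] :
    IsHausdorff I (decaying I Z M) := by
  exact Groth.Agent.H2Decay.isHausdorff

end Groth.Agent.S17536
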