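import Groth.Statements.S17538
import Mathlib
import Groth.Prelude.Def_W4c5adicflatcomplDec
import Groth.Agent.Lib.H2Decay
import Groth.Agent.Lib.H2Decay2
import Groth.Agent.Lib.H2Decay3
import Groth.Agent.Lib.H2Decay4

set_option autoImplicit false
universe u v
open CAlg

namespace Groth.Agent.S17538
open W4c5adicflatcompl TensorProduct
set_option backward.isDefEq.respectTransparency.types false

/-- For a commutative ring A, an ideal I and an A-module M, the canonical map from the I-adic completion
M^ to the I-adic completion of M^ admits an A-linear retraction (it is a split injection). (That M^
is I-adically separated is standard.) -/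
theorem result {A : Type u} [CommRing A] (I : Ideal A)
    (M : Type v) [AddCommGroup M] [Module A M] :
    ∃ ψ : AdicCompletion I (AdicCompletion I M) →ₗ[A] AdicCompletion I M,
      ψ ∘ₗ AdicCompletion.of I (AdicCompletion I M) = LinearMap.id := by
  exact Groth.Agent.H2Decay.exists_retraction

end Groth.Agent.S17538
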