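import Groth.Statements.S17544
import Mathlib
import Groth.Prelude.Def_W4c5adicflatcomplDec
import Groth.Agent.Lib.H2Decay
import Groth.Agent.Lib.H2Decay2
import Groth.Agent.Lib.H2Decay3
import Groth.Agent.Lib.H2Decay4

set_option autoImplicit false
universe u v w
open W4c5adicflatcompl
open CAlg

namespace Groth.Agent.S17544
open W4c5adicflatcompl TensorProduct
set_option backward.isDefEq.respectTransparency.types false

/-- For a Noetherian ring A which is I-adically complete, a set Z and n ≥ 0, reduction modulo I^n maps
the decaying functions Z → A onto the finitely supported functions Z → A/I^n, and its kernel, the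
decaying functions with all values in I^n, equals I^n times the module of decaying functions; so
(A/I^n) ⊗ F_dec(Z, A) → F_fin(Z, A/I^n) is bijective. -/
theorem result {A : Type u} [CommRing A] [IsNoetherianRing A]
    (I : Ideal A) [IsAdicComplete I A] (Z : Type v) (n : ℕ) :
    (∀ g : Z →₀ A ⧸ I ^ n, ∃ f : decaying I Z A,
        ∀ z, Ideal.Quotient.mk (I ^ n) ((f : Z → A) z) = g z) ∧
      ∀ f : decaying I Z A,
        f ∈ (I ^ n • ⊤ : Submodule A (decaying I Z A)) ↔ ∀ z, (f : Z → A) z ∈ I ^ n := by
  classical
  refine ⟨fun g => ?_, fun f => ⟨fun h z => (Groth.Agent.H2Decay.mem_top_iff _ n).1 (Groth.Agent.H2Decay.coeff_mem h z),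
    fun h => Groth.Agent.H2Decay.mem_pow_smul (IsNoetherian.noetherian I) fun z => (Groth.Agent.H2Decay.mem_top_iff _ n).2 (h z)⟩⟩
  choose c hc using fun z => Ideal.Quotient.mk_surjective (g z)
  refine ⟨⟨fun z => if g z = 0 then 0 else c z, fun m => g.support.finite_toSet.subset fun z hz => ?_⟩, fun z => ?_⟩
  · rw [Finset.mem_coe, Finsupp.mem_support_iff]
    intro h0
    exact hz (by simp only [if_pos h0]; exact Submodule.zero_mem _)
  · show Ideal.Quotient.mk (I ^ n) (if g z = 0 then 0 else c z) = g z
    split_ifs with h0
    · rw [map_zero, h0]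
    · exact hc z

end Groth.Agent.S17544
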