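import Groth.Statements.S17592
import Mathlib
import Groth.Prelude.Def_Hens2
import Groth.Agent.Lib.H2PairHenz

set_option autoImplicit false
universe u
open Hensel

namespace Groth.Agent.S17592
open TensorProduct
set_option maxHeartbeats 1000000
set_option synthInstance.maxHeartbeats 400000
set_option backward.isDefEq.respectTransparency.types false

/-- Let R → S be an étale ring map and I an ideal of R such that the induced map R/I → S/IS is
bijective. Then a Henselization of the pair (S, IS), regarded as an R-algebra, is a Henselization of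
the pair (R, I). -/
theorem result (R : Type u) [CommRing R] (I : Ideal R)
    (S : Type u) [CommRing S] [Algebra R S] [Algebra.Etale R S]
    (hq : Function.Bijective
      (Ideal.quotientMap (I.map (algebraMap R S)) (algebraMap R S) Ideal.le_comap_map))
    (H : Type u) [CommRing H] [Algebra S H] [Algebra R H] [IsScalarTower R S H]
    (hH : Hens2.IsPairHenselization S (I.map (algebraMap R S)) H) :
    Hens2.IsPairHenselization R I H := by
  have hmap : (I.map (algebraMap R S)).map (algebraMap S H) = I.map (algebraMap R H) := by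
    rw [Ideal.map_map, ← IsScalarTower.algebraMap_eq]
  have hie : EtPBC.IsIndEtale R H := Groth.Agent.H2IndEtale.isIndEtale_trans
    (Groth.Agent.H2IndEtale.isIndEtale_of_covered (A := R) (T := S)
      (fun l => ⟨S, inferInstance, inferInstance, inferInstance, AlgHom.id R S, fun t _ => ⟨t, rfl⟩⟩) inferInstance)
    (Groth.Agent.H2PairHenz.isIndEtale_of_isPH hH)
  have h2 := Groth.Agent.H2PairHenz.quotient_bijective hH
  refine Groth.Agent.H2PairHenz.isPH_of_indEtale hie (hmap ▸ hH.1) ⟨?_, ?_⟩
  · rw [injective_iff_map_eq_zero]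
    intro q hq0
    obtain ⟨a, rfl⟩ := Ideal.Quotient.mk_surjective q
    rw [Ideal.quotientMap_mk, Ideal.Quotient.eq_zero_iff_mem, ← hmap, IsScalarTower.algebraMap_apply R S H] at hq0
    have h3 : Ideal.Quotient.mk (I.map (algebraMap R S)) (algebraMap R S a) = 0 := h2.1 (by
      rw [Ideal.quotientMap_mk, map_zero, Ideal.Quotient.eq_zero_iff_mem]; exact hq0)
    exact hq.1 (by rw [Ideal.quotientMap_mk, map_zero]; exact h3)
  · intro q
    obtain ⟨b, rfl⟩ := Ideal.Quotient.mk_surjective q
    obtain ⟨s', hs⟩ := h2.2 (Ideal.Quotient.mk _ b)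
    obtain ⟨s, rfl⟩ := Ideal.Quotient.mk_surjective s'
    obtain ⟨a', ha⟩ := hq.2 (Ideal.Quotient.mk _ s)
    obtain ⟨a, rfl⟩ := Ideal.Quotient.mk_surjective a'
    rw [Ideal.quotientMap_mk, Ideal.Quotient.eq] at hs ha
    refine ⟨Ideal.Quotient.mk I a, ?_⟩
    rw [Ideal.quotientMap_mk, Ideal.Quotient.eq, ← hmap]
    have := add_mem (Ideal.mem_map_of_mem (algebraMap S H) ha) hs
    rwa [map_sub, ← IsScalarTower.algebraMap_apply, sub_add_sub_cancel] at this

end Groth.Agent.S17592
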