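import Groth.Statements.S17593
import Mathlib
import Groth.Agent.S0387
import Groth.Agent.Lib.H2ZarNbhd

set_option autoImplicit false
universe u
open Hensel

namespace Groth.Agent.S17593
set_option maxHeartbeats 1000000
set_option synthInstance.maxHeartbeats 400000
set_option backward.isDefEq.respectTransparency.types false

/-- Suppose (A, I) is a Henselian pair, and R is an A-algebra of finite presentation for which A → R is
flat at each prime of R that contains IR. Then there is an étale R-algebra R' such that R/IR →
R'/IR' is bijective and A → R' is flat. -/
theorem result (A : Type u) [CommRing A] (I : Ideal A) [HenselianRing A I]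
    (R : Type u) [CommRing R] [Algebra A R] [Algebra.FinitePresentation A R]
    (h : ∀ (p : Ideal R) [p.IsPrime], I.map (algebraMap A R) ≤ p → Module.Flat A (Localization.AtPrime p))
    : ∃ (R' : Type u) (_ : CommRing R') (_ : Algebra R R') (_ : Algebra A R') (_ : IsScalarTower A R R'),
      Algebra.Etale R R' ∧
      Function.Bijective (Ideal.quotientMap ((I.map (algebraMap A R)).map (algebraMap R R'))
        (algebraMap R R') Ideal.le_comap_map) ∧ Module.Flat A R' := by
  have hopen : IsOpen {q : PrimeSpectrum R | Module.Flat A (Localization.AtPrime q.asIdeal)} :=
    Groth.Agent.S0387.result (R := A) (S := R) (M := R)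
  obtain ⟨g, hgU, het, hbij⟩ := Groth.Agent.H2ZarNbhd.exists_nbhd (I.map (algebraMap A R)) _ hopen fun q hq => h q.asIdeal hq
  refine ⟨Localization.Away g, inferInstance, inferInstance, inferInstance, inferInstance, het, hbij, ?_⟩
  refine Module.flat_of_isLocalized_maximal (Localization.Away g) (Localization.Away g) (fun M _ => Localization.AtPrime M) (fun M _ => Algebra.linearMap (Localization.Away g) (Localization.AtPrime M)) fun M hM => ?_
  let q := PrimeSpectrum.comap (algebraMap R (Localization.Away g)) ⟨M, hM.isPrime⟩
  have hq : Module.Flat A (Localization.AtPrime q.asIdeal) := hgU ⟨M, hM.isPrime⟩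
  haveI : IsLocalization.AtPrime (Localization.AtPrime M) q.asIdeal :=
    IsLocalization.isLocalization_isLocalization_atPrime_isLocalization (.powers g) _ M
  haveI : Module.Flat A (Localization.AtPrime M) :=
    Module.Flat.of_linearEquiv ((IsLocalization.algEquiv q.asIdeal.primeCompl (Localization.AtPrime M) (Localization.AtPrime q.asIdeal)).restrictScalars A).toLinearEquiv
  exact this

end Groth.Agent.S17593
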