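import Groth.Statements.S17594
import Mathlib
import Groth.Agent.S0387
import Groth.Agent.Lib.H2ZarNbhd

set_option autoImplicit false
universe u
open Hensel

namespace Groth.Agent.S17594
set_option maxHeartbeats 1000000
set_option synthInstance.maxHeartbeats 400000
set_option backward.isDefEq.respectTransparency.types false

/-- Suppose (A, I) is a Henselian pair, and take an A-algebra R of finite presentation for which A → R
is smooth at every prime of R containing IR. Then there is an étale R-algebra R' such that R/IR →
R'/IR' is bijective and A → R' is smooth. -/
theorem result (A : Type u) [CommRing A] (I : Ideal A) [HenselianRing A I]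
    (R : Type u) [CommRing R] [Algebra A R] [Algebra.FinitePresentation A R]
    (h : ∀ (p : Ideal R) [p.IsPrime], I.map (algebraMap A R) ≤ p → Algebra.IsSmoothAt A p)
    : ∃ (R' : Type u) (_ : CommRing R') (_ : Algebra R R') (_ : Algebra A R') (_ : IsScalarTower A R R'),
      Algebra.Etale R R' ∧
      Function.Bijective (Ideal.quotientMap ((I.map (algebraMap A R)).map (algebraMap R R'))
        (algebraMap R R') Ideal.le_comap_map) ∧ Algebra.Smooth A R' := by
  obtain ⟨g, hgU, het, hbij⟩ := Groth.Agent.H2ZarNbhd.exists_nbhd (I.map (algebraMap A R)) (Algebra.smoothLocus A R)
    Algebra.isOpen_smoothLocus fun q hq => h q.asIdeal hq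
  refine ⟨Localization.Away g, inferInstance, inferInstance, inferInstance, inferInstance, het, hbij, ?_⟩
  haveI : Algebra.FinitePresentation R (Localization.Away g) := IsLocalization.Away.finitePresentation g
  haveI hfp : Algebra.FinitePresentation A (Localization.Away g) := Algebra.FinitePresentation.trans A R _
  haveI : Algebra.FormallySmooth A (Localization.Away g) := by
    rw [← Algebra.smoothLocus_eq_univ_iff]
    refine Set.eq_univ_of_forall fun P => ?_
    rw [← Algebra.smoothLocus_comap_of_isLocalization (R := A) (A := R) g]
    exact hgU P
  exact {}

end Groth.Agent.S17594
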