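import Groth.Statements.S17595
import Mathlib
import Groth.Agent.S0387
import Groth.Agent.Lib.H2ZarNbhd

set_option autoImplicit false
universe u
open Hensel

namespace Groth.Agent.S17595
set_option maxHeartbeats 1000000
set_option synthInstance.maxHeartbeats 400000
set_option backward.isDefEq.respectTransparency.types false

/-- Suppose (A, I) is a Henselian pair, and R is an A-algebra of finite presentation for which A → R is
quasi-finite at each prime of R that contains IR. Then there is an étale R-algebra R' such that R/IR
→ R'/IR' is bijective and A → R' is quasi-finite. -/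
theorem result (A : Type u) [CommRing A] (I : Ideal A) [HenselianRing A I]
    (R : Type u) [CommRing R] [Algebra A R] [Algebra.FinitePresentation A R]
    (h : ∀ (p : Ideal R) [p.IsPrime], I.map (algebraMap A R) ≤ p → Algebra.QuasiFiniteAt A p)
    : ∃ (R' : Type u) (_ : CommRing R') (_ : Algebra R R') (_ : Algebra A R') (_ : IsScalarTower A R R'),
      Algebra.Etale R R' ∧
      Function.Bijective (Ideal.quotientMap ((I.map (algebraMap A R)).map (algebraMap R R'))
        (algebraMap R R') Ideal.le_comap_map) ∧ Algebra.QuasiFinite A R' := by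
  let U : Set (PrimeSpectrum R) := {q | ∃ r : R, r ∉ q.asIdeal ∧ Algebra.QuasiFinite A (Localization.Away r)}
  have hopen : IsOpen U := isOpen_iff_forall_mem_open.2 fun q ⟨r, hr, hqf⟩ =>
    ⟨(PrimeSpectrum.basicOpen r : Set (PrimeSpectrum R)), fun p hp => ⟨r, hp, hqf⟩, (PrimeSpectrum.basicOpen r).isOpen, hr⟩
  have hV : ∀ q : PrimeSpectrum R, I.map (algebraMap A R) ≤ q.asIdeal → q ∈ U := fun q hq => by
    haveI := h q.asIdeal hq
    obtain ⟨S', hS', r, hr, hbij⟩ := Algebra.QuasiFiniteAt.exists_fg_and_exists_notMem_and_awayMap_bijective (R := A) q.asIdeal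
    haveI : Module.Finite A S' := ⟨(Submodule.fg_top _).mpr hS'⟩
    haveI : Algebra.QuasiFinite A (Localization.Away r) := .trans _ S' _
    exact ⟨r, hr, .of_surjective_algHom (Localization.awayMapₐ S'.val r) hbij.2⟩
  obtain ⟨g, hgU, het, hbij⟩ := Groth.Agent.H2ZarNbhd.exists_nbhd (I.map (algebraMap A R)) U hopen hV
  refine ⟨Localization.Away g, inferInstance, inferInstance, inferInstance, inferInstance, het, hbij, ?_⟩
  haveI : Algebra.FiniteType A R := inferInstance
  haveI : Algebra.FinitePresentation R (Localization.Away g) := IsLocalization.Away.finitePresentation g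
  haveI : Algebra.FiniteType A (Localization.Away g) := Algebra.FiniteType.trans (S := R) inferInstance inferInstance
  rw [Algebra.QuasiFinite.iff_finite_primesOver]
  intro P _
  choose r hr hqf using hgU
  obtain ⟨t, ht⟩ := isCompact_univ.elim_finite_subcover
    (fun x : PrimeSpectrum (Localization.Away g) => ((PrimeSpectrum.basicOpen (algebraMap R (Localization.Away g) (r x))) : Set (PrimeSpectrum (Localization.Away g))))
    (fun x => (PrimeSpectrum.basicOpen _).isOpen) (fun x _ => Set.mem_iUnion.2 ⟨x, hr x⟩)
  have hfin : Set.Finite (⋃ x ∈ t, (fun Q : Ideal (Localization.Away (r x)) => Q.comap (algebraMap R (Localization.Away (r x)))) '' P.primesOver (Localization.Away (r x))) :=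
    t.finite_toSet.biUnion fun x _ => haveI := hqf x; (Algebra.QuasiFinite.finite_primesOver P).image _
  refine Set.Finite.of_finite_image (f := fun Q : Ideal (Localization.Away g) => Q.comap (algebraMap R (Localization.Away g))) (hfin.subset ?_) ?_
  · rintro _ ⟨Q, ⟨hQp, hQo⟩, rfl⟩
    haveI := hQp
    obtain ⟨x, hx, hxQ⟩ : ∃ x ∈ t, algebraMap R (Localization.Away g) (r x) ∉ Q := by
      have := ht (Set.mem_univ (⟨Q, hQp⟩ : PrimeSpectrum (Localization.Away g)))
      rw [Set.mem_iUnion₂] at this
      obtain ⟨x, hx, hxQ⟩ := this
      exact ⟨x, hx, hxQ⟩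
    let q := Q.comap (algebraMap R (Localization.Away g))
    have hrq : r x ∉ q := hxQ
    have hdisj : Disjoint ((Submonoid.powers (r x) : Submonoid R) : Set R) q :=
      (Ideal.disjoint_powers_iff_notMem_of_isPrime (r x) (I := q)).2 hrq
    have hQ'p := IsLocalization.isPrime_of_isPrime_disjoint (Submonoid.powers (r x)) (Localization.Away (r x)) q inferInstance hdisj
    have hback := IsLocalization.comap_map_of_isPrime_disjoint (Submonoid.powers (r x)) (Localization.Away (r x)) (I := q) inferInstance hdisj
    refine Set.mem_iUnion₂.2 ⟨x, hx, q.map (algebraMap R (Localization.Away (r x))), ⟨hQ'p, ⟨?_⟩⟩, hback⟩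
    rw [Ideal.under_def] at hback
    rw [hQo.over, Ideal.under_def, Ideal.under_def, IsScalarTower.algebraMap_eq A R (Localization.Away g),
      IsScalarTower.algebraMap_eq A R (Localization.Away (r x)), ← Ideal.comap_comap, ← Ideal.comap_comap, hback]
  · intro Q _ Q' _ hQQ
    have h' : Q.comap (algebraMap R (Localization.Away g)) = Q'.comap (algebraMap R (Localization.Away g)) := hQQ
    exact (IsLocalization.map_comap (Submonoid.powers g) (Localization.Away g) Q).symm.trans ((congrArg (Ideal.map _) h').trans (IsLocalization.map_comap (Submonoid.powers g) (Localization.Away g) Q'))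

end Groth.Agent.S17595
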