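import Groth.Statements.S1760
import Mathlib
import Groth.Prelude.Def_CAlg
import Groth.Prelude.Def_Found
import Groth.Agent.Lib.GorensteinQuotient
import Groth.Agent.Lib.GorensteinFlat
import Groth.Agent.Lib.GorensteinRings
import Groth.Agent.S0344
import Groth.Agent.S8948
import Groth.Agent.Lib.GorensteinFibres

set_option autoImplicit false
universe u
open Groth.Agent.GorensteinQuotient
open Groth.Agent.GorensteinFlat
open Groth.Agent.GorensteinRings
open TensorProduct
open Groth.Agent.GorensteinFibres
open scoped TensorProduct
open Goren

namespace Groth.Agent.S1760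

/-- First assertion, written for the local ring B = O_{X,x}. Let k'/k be a finitely generated field
extension, B a Noetherian local k-algebra, and q a prime of B ⊗_k k' lying over the maximal ideal of
B. Then B is Gorenstein if and only if the localization of B ⊗_k k' at q is Gorenstein. -/
theorem result (k k' : Type u) [Field k] [Field k'] [Algebra k k'] (hfg : ∃ s : Finset k', IntermediateField.adjoin k (s : Set k') = ⊤) (B : Type u) [CommRing B] [IsLocalRing B] [IsNoetherianRing B] [Algebra k B] (q : PrimeSpectrum (B ⊗[k] k')) (hq : q.asIdeal.comap (algebraMap B (B ⊗[k] k')) = IsLocalRing.maximalIdeal B) : LocCoh.IsGorensteinLocalRing B ↔ LocCoh.IsGorensteinLocalRing (Localization.AtPrime q.asIdeal) := by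
  haveI := noetherian_tensor_fg k k' B hfg
  obtain ⟨P, hP, hPq⟩ := exists_fiber_prime (B := B) q
  let p := q.asIdeal.comap (algebraMap B (B ⊗[k] k'))
  haveI : LocCoh.IsGorensteinRing p.ResidueField := gorRing_field _
  have hF := gorRing_fiber_tensor k k' B p
    (gorRing_of_ringEquiv (Algebra.TensorProduct.comm k p.ResidueField k').toRingEquiv
      (Groth.Agent.S8948.result k k' p.ResidueField hfg))
  have key := gor_atPrime_iff_fiber p P
  have hu : p.primeCompl ≤ IsUnit.submonoid B := fun x hx => by
    have : x ∉ IsLocalRing.maximalIdeal B := hq ▸ hx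
    exact IsLocalRing.notMem_maximalIdeal.mp this
  let e : B ≃+* Localization.AtPrime p := (IsLocalization.atUnits B p.primeCompl hu).toRingEquiv
  constructor
  · intro h
    exact gor_atPrime_congr hPq (key.mpr ⟨gor_of_ringEquiv e.symm h, hF.isGorensteinLocalRing_localization P⟩)
  · intro h
    exact gor_of_ringEquiv e (key.mp (gor_atPrime_congr hPq.symm h)).1

end Groth.Agent.S1760
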