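import Groth.Statements.S17603
import Mathlib
import Groth.Prelude.Def_Hens2
import Groth.Agent.Lib.H2PairHenz

set_option autoImplicit false
universe u
open Hensel

namespace Groth.Agent.S17603
open TensorProduct
set_option maxHeartbeats 1000000
set_option synthInstance.maxHeartbeats 400000
set_option backward.isDefEq.respectTransparency.types false

/-- With converse part: let (A, I) be a Henselian pair, R a smooth A-algebra and B a Henselization of
the pair (R, IR), with the induced A-algebra structure (so A → B is h-smooth). Then B is flat over A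
and A/I^r → B/I^rB is smooth for every r ≥ 1. -/
theorem result (A : Type u) [CommRing A] (I : Ideal A) [HenselianRing A I]
    (R : Type u) [CommRing R] [Algebra A R] [Algebra.Smooth A R]
    (B : Type u) [CommRing B] [Algebra R B] [Algebra A B] [IsScalarTower A R B]
    (hB : Hens2.IsPairHenselization R (I.map (algebraMap A R)) B) :
    Module.Flat A B ∧ ∀ r : ℕ, 1 ≤ r → Algebra.Smooth (A ⧸ I ^ r) (B ⧸ (I ^ r).map (algebraMap A B)) := by
  haveI : Module.Flat R B := Groth.Agent.H2PairHenz.flat_of_isPH hB
  refine ⟨Module.Flat.trans A R B, fun r hr => ?_⟩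
  have hPH : Hens2.IsPairHenselization R ((I ^ r).map (algebraMap A R)) B :=
    Groth.Agent.H2PairHenz.isPH_of_radical (by rw [Ideal.map_pow]; exact (Ideal.radical_pow _ (by omega)).symm) hB
  have hq := Groth.Agent.H2PairHenz.quotient_bijective hPH
  have hmap : ((I ^ r).map (algebraMap A R)).map (algebraMap R B) = (I ^ r).map (algebraMap A B) := by
    rw [Ideal.map_map, ← IsScalarTower.algebraMap_eq]
  let e1 := (RingEquiv.ofBijective _ hq).trans (Ideal.quotEquivOfEq hmap)
  let e : (R ⧸ (I ^ r).map (algebraMap A R)) ≃ₐ[A ⧸ I ^ r] B ⧸ (I ^ r).map (algebraMap A B) :=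
    AlgEquiv.ofRingEquiv (f := e1) fun x => by
      obtain ⟨a, rfl⟩ := Ideal.Quotient.mk_surjective x
      show Ideal.quotEquivOfEq hmap (Ideal.quotientMap _ (algebraMap R B) Ideal.le_comap_map (Ideal.Quotient.mk _ (algebraMap A R a))) = Ideal.Quotient.mk _ (algebraMap A B a)
      rw [Ideal.quotientMap_mk, Ideal.quotEquivOfEq_mk, ← IsScalarTower.algebraMap_apply]
  haveI : Algebra.Smooth (A ⧸ I ^ r) (R ⧸ (I ^ r).map (algebraMap A R)) :=
    Algebra.Smooth.of_equiv (Algebra.TensorProduct.quotIdealMapEquivQuotTensor R (I ^ r)).symm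
  exact Algebra.Smooth.of_equiv e

end Groth.Agent.S17603
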