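import Groth.Statements.S17604
import Mathlib
import Groth.Prelude.Def_Hens2
import Groth.Agent.Lib.H2PairHenz

set_option autoImplicit false
universe u
open Hensel

namespace Groth.Agent.S17604
open TensorProduct
set_option maxHeartbeats 1000000
set_option synthInstance.maxHeartbeats 400000
set_option backward.isDefEq.respectTransparency.types false

/-- Let (A, I) be a Henselian pair, R and R' étale A-algebras, and B, B' Henselizations of the pairs (R,
IR), (R', IR') with their induced A-algebra structures (so B and B' are h-étale over A). Then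
reduction modulo I is a bijection from A-algebra maps B → B' to A-algebra maps B/IB → B'/IB': two
A-algebra maps B → B' that agree modulo IB' are equal, and every A-algebra map B/IB → B'/IB' is
induced by an A-algebra map B → B'. -/
theorem result (A : Type u) [CommRing A]
    (I : Ideal A) [HenselianRing A I]
    (R : Type u) [CommRing R] [Algebra A R] [Algebra.Etale A R]
    (B : Type u) [CommRing B] [Algebra R B] [Algebra A B] [IsScalarTower A R B]
    (hB : Hens2.IsPairHenselization R (I.map (algebraMap A R)) B)
    (R' : Type u) [CommRing R'] [Algebra A R'] [Algebra.Etale A R']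
    (B' : Type u) [CommRing B'] [Algebra R' B'] [Algebra A B'] [IsScalarTower A R' B']
    (hB' : Hens2.IsPairHenselization R' (I.map (algebraMap A R')) B') :
    (∀ φ ψ : B →ₐ[A] B', (∀ b : B, φ b - ψ b ∈ I.map (algebraMap A B')) → φ = ψ) ∧
    ∀ χ : (B ⧸ I.map (algebraMap A B)) →ₐ[A] (B' ⧸ I.map (algebraMap A B')),
      ∃ φ : B →ₐ[A] B', ∀ b : B,
        Ideal.Quotient.mk (I.map (algebraMap A B')) (φ b) = χ (Ideal.Quotient.mk (I.map (algebraMap A B)) b) := by
  have hie : EtPBC.IsIndEtale A B := Groth.Agent.H2IndEtale.isIndEtale_trans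
    (Groth.Agent.H2IndEtale.isIndEtale_of_covered (A := A) (T := R)
      (fun l => ⟨R, inferInstance, inferInstance, inferInstance, AlgHom.id A R, fun t _ => ⟨t, rfl⟩⟩) inferInstance)
    (Groth.Agent.H2PairHenz.isIndEtale_of_isPH hB)
  haveI : HenselianRing B' (I.map (algebraMap A B')) := by
    have h := hB'.1
    rwa [Ideal.map_map, ← IsScalarTower.algebraMap_eq] at h
  refine ⟨fun φ ψ h => ?_, fun χ => ?_⟩
  · obtain ⟨ω, -, hω⟩ := Groth.Agent.H2IndEtaleLift.existsUnique_lift hie B' (I.map (algebraMap A B'))
      ((Ideal.Quotient.mkₐ A _).comp ψ)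
    exact (hω φ (AlgHom.ext fun b => Ideal.Quotient.eq.2 (h b))).trans (hω ψ rfl).symm
  · obtain ⟨ω, hω, -⟩ := Groth.Agent.H2IndEtaleLift.existsUnique_lift hie B' (I.map (algebraMap A B'))
      (χ.comp (Ideal.Quotient.mkₐ A _))
    exact ⟨ω, fun b => AlgHom.congr_fun hω b⟩

end Groth.Agent.S17604
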