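import Groth.Statements.S17605
import Mathlib
import Groth.Prelude.Def_Hens2
import Groth.Agent.Lib.H2PairHenz

set_option autoImplicit false
universe u
open Hensel

namespace Groth.Agent.S17605
open TensorProduct
set_option maxHeartbeats 1000000
set_option synthInstance.maxHeartbeats 400000
set_option backward.isDefEq.respectTransparency.types false

/-- Let A be a ring with an ideal I and let f₁, f₂ be elements of A such that D(f₂) ∩ V(I) ⊆ D(f₁) ∩
V(I) in Spec A. If H₁ is a Henselization of the pair (A_{f₁}, IA_{f₁}) and H₂ a Henselization of the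
pair (A_{f₂}, IA_{f₂}), with their induced A-algebra structures, then there is exactly one A-algebra
map H₁ → H₂. -/
theorem result (A : Type u) [CommRing A]
    (I : Ideal A) (f₁ f₂ : A)
    (h : (PrimeSpectrum.basicOpen f₂ : Set (PrimeSpectrum A)) ∩ PrimeSpectrum.zeroLocus (I : Set A) ⊆
      (PrimeSpectrum.basicOpen f₁ : Set (PrimeSpectrum A)) ∩ PrimeSpectrum.zeroLocus (I : Set A))
    (H₁ : Type u) [CommRing H₁] [Algebra (Localization.Away f₁) H₁] [Algebra A H₁]
    [IsScalarTower A (Localization.Away f₁) H₁]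
    (hH₁ : Hens2.IsPairHenselization (Localization.Away f₁)
      (I.map (algebraMap A (Localization.Away f₁))) H₁)
    (H₂ : Type u) [CommRing H₂] [Algebra (Localization.Away f₂) H₂] [Algebra A H₂]
    [IsScalarTower A (Localization.Away f₂) H₂]
    (hH₂ : Hens2.IsPairHenselization (Localization.Away f₂)
      (I.map (algebraMap A (Localization.Away f₂))) H₂) :
    Nonempty (H₁ →ₐ[A] H₂) ∧ Subsingleton (H₁ →ₐ[A] H₂) := by
  haveI hh2 := hH₂.1
  let I1 := I.map (algebraMap A (Localization.Away f₁))
  let I2 := I.map (algebraMap A (Localization.Away f₂))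
  have hI2 : I2.map (algebraMap (Localization.Away f₂) H₂) = I.map (algebraMap A H₂) := by
    rw [Ideal.map_map, ← IsScalarTower.algebraMap_eq]
  have hu : IsUnit (algebraMap A H₂ f₁) := by
    refine Groth.Agent.H4Hensel.isUnit_of_isUnit_mk (HenselianRing.jac (I := I2.map (algebraMap (Localization.Away f₂) H₂))) ?_
    rw [IsScalarTower.algebraMap_apply A (Localization.Away f₂) H₂]
    have : IsUnit (Ideal.Quotient.mk I2 (algebraMap A (Localization.Away f₂) f₁)) := by
      by_contra hne
      obtain ⟨M, hM, hle⟩ := Ideal.exists_le_maximal (I2 ⊔ Ideal.span {algebraMap A (Localization.Away f₂) f₁}) (fun htop => hne (by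
        rw [Ideal.eq_top_iff_one, Submodule.mem_sup] at htop
        obtain ⟨i, hi, j, hj, hij⟩ := htop
        obtain ⟨c, rfl⟩ := Ideal.mem_span_singleton'.1 hj
        refine IsUnit.of_mul_eq_one (Ideal.Quotient.mk I2 c) ?_
        rw [← map_mul, mul_comm, ← (Ideal.Quotient.mk I2).map_one, Ideal.Quotient.eq, ← hij]
        simpa using neg_mem hi))
      let q := PrimeSpectrum.comap (algebraMap A (Localization.Away f₂)) ⟨M, hM.isPrime⟩
      have h2 : q ∈ (PrimeSpectrum.basicOpen f₂ : Set (PrimeSpectrum A)) := fun hq =>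
        hM.ne_top (Ideal.eq_top_of_isUnit_mem _ hq (IsLocalization.Away.algebraMap_isUnit f₂))
      have h3 : q ∈ PrimeSpectrum.zeroLocus (I : Set A) := fun a ha =>
        hle (Ideal.mem_sup_left (Ideal.mem_map_of_mem _ ha))
      exact (h ⟨h2, h3⟩).1 (hle (Ideal.mem_sup_right (Ideal.mem_span_singleton_self _)))
    have h4 := this.map (Ideal.quotientMap (I2.map (algebraMap (Localization.Away f₂) H₂)) (algebraMap (Localization.Away f₂) H₂) Ideal.le_comap_map)
    rwa [Ideal.quotientMap_mk] at h4
  let F : Localization.Away f₁ →+* H₂ := IsLocalization.Away.lift f₁ hu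
  have hF : F.comp (algebraMap A (Localization.Away f₁)) = algebraMap A H₂ := IsLocalization.Away.lift_comp f₁ hu
  obtain ⟨g, hg, hgu⟩ := hH₁.2 H₂ _ F hh2 (by rw [Ideal.map_map, hF, hI2])
  refine ⟨⟨{ g with commutes' := fun a => ?_ }⟩, ⟨fun φ ψ => ?_⟩⟩
  · show g (algebraMap A H₁ a) = _
    rw [IsScalarTower.algebraMap_apply A (Localization.Away f₁) H₁, ← RingHom.comp_apply, hg, ← RingHom.comp_apply, hF]
  · have key : ∀ χ : H₁ →ₐ[A] H₂, χ.toRingHom = g := fun χ => hgu _ (IsLocalization.ringHom_ext (Submonoid.powers f₁) (by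
      rw [RingHom.comp_assoc, ← IsScalarTower.algebraMap_eq, hF]
      exact χ.comp_algebraMap))
    exact AlgHom.coe_ringHom_injective ((key φ).trans (key ψ).symm)

end Groth.Agent.S17605
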