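import Groth.Statements.S17616
import Mathlib
import Groth.Prelude.Def_ProCons
import Groth.Agent.Lib.H2ZarNbhd

set_option autoImplicit false
universe u
open Hensel

namespace Groth.Agent.S17616
set_option maxHeartbeats 1000000
set_option synthInstance.maxHeartbeats 400000
set_option backward.isDefEq.respectTransparency.types false

/-- Let P be a property of ring maps (between rings in a fixed universe), and say that f : B → B' has P
at a prime q of B' if the composite B → B' → B'_g has P for some g ∉ q. Assume (i) for every
finitely presented f : B → B' the set of primes of B' at which f has P is ind-constructible in Spec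
B', and f has P as soon as it has P at every prime; (ii) every étale ring map has P; (iii) for g : C
→ C' and h : C' → C'', if h has P at a prime q of C'' and g has P at the inverse image of q in C',
then h ∘ g has P at q. Now suppose (A, I) is a Henselian pair, and take an A-algebra R of finite
presentation for which A → R has P at each prime of R that contains IR. Then there is an étale
R-algebra R' with R/IR → R'/IR' bijective such that A → R' has P. -/
theorem result
    (P : ∀ ⦃B B' : Type u⦄ [CommRing B] [CommRing B'], (B →+* B') → Prop)
    (PAt : ∀ ⦃B B' : Type u⦄ [CommRing B] [CommRing B'], (B →+* B') → Ideal B' → Prop)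
    (hPAt : ∀ ⦃B B' : Type u⦄ [CommRing B] [CommRing B'] (f : B →+* B') (q : Ideal B'),
      PAt f q ↔ ∃ g : B', g ∉ q ∧ P ((algebraMap B' (Localization.Away g)).comp f))
    (h₁ : ∀ ⦃B B' : Type u⦄ [CommRing B] [CommRing B'] (f : B →+* B'), f.FinitePresentation →
      ProCons.IsIndConstructible {q : PrimeSpectrum B' | PAt f q.asIdeal} ∧
        ((∀ q : PrimeSpectrum B', PAt f q.asIdeal) → P f))
    (h₂ : ∀ ⦃B B' : Type u⦄ [CommRing B] [CommRing B'] (f : B →+* B'), f.Etale → P f)
    (h₃ : ∀ ⦃C C' C'' : Type u⦄ [CommRing C] [CommRing C'] [CommRing C''] (g : C →+* C')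
      (h : C' →+* C'') (q : Ideal C'') [q.IsPrime],
      PAt h q → PAt g (q.comap h) → PAt (h.comp g) q)
    (A : Type u) [CommRing A] (I : Ideal A) [HenselianRing A I]
    (R : Type u) [CommRing R] [Algebra A R] [Algebra.FinitePresentation A R]
    (hR : ∀ (p : Ideal R) [p.IsPrime], I.map (algebraMap A R) ≤ p → PAt (algebraMap A R) p) :
    ∃ (R' : Type u) (_ : CommRing R') (_ : Algebra R R') (_ : Algebra A R') (_ : IsScalarTower A R R'),
      Algebra.Etale R R' ∧
      Function.Bijective (Ideal.quotientMap ((I.map (algebraMap A R)).map (algebraMap R R'))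
        (algebraMap R R') Ideal.le_comap_map) ∧ P (algebraMap A R') := by
  let U : Set (PrimeSpectrum R) := {q | PAt (algebraMap A R) q.asIdeal}
  have hopen : IsOpen U := isOpen_iff_forall_mem_open.2 fun q hq => by
    obtain ⟨g, hg, hP⟩ := (hPAt _ _).1 hq
    exact ⟨(PrimeSpectrum.basicOpen g : Set (PrimeSpectrum R)), fun p hp => (hPAt _ _).2 ⟨g, hp, hP⟩, (PrimeSpectrum.basicOpen g).isOpen, hg⟩
  obtain ⟨g, hgU, het, hbij⟩ := Groth.Agent.H2ZarNbhd.exists_nbhd (I.map (algebraMap A R)) U hopen fun q hq => hR q.asIdeal hq
  refine ⟨Localization.Away g, inferInstance, inferInstance, inferInstance, inferInstance, het, hbij, ?_⟩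
  haveI : Algebra.FinitePresentation R (Localization.Away g) := IsLocalization.Away.finitePresentation g
  haveI : Algebra.FinitePresentation A (Localization.Away g) := Algebra.FinitePresentation.trans A R _
  refine (h₁ (algebraMap A (Localization.Away g)) (RingHom.finitePresentation_algebraMap.2 inferInstance)).2 fun Q => ?_
  have hatt : PAt (algebraMap R (Localization.Away g)) Q.asIdeal := by
    refine (hPAt _ _).2 ⟨1, fun h1 => Q.isPrime.ne_top ((Ideal.eq_top_iff_one _).2 h1), h₂ _ ?_⟩
    rw [← IsScalarTower.algebraMap_eq, RingHom.etale_algebraMap]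
    haveI := het
    haveI : Algebra.Etale (Localization.Away g) (Localization.Away (1 : Localization.Away g)) := Algebra.Etale.of_isLocalizationAway (1 : Localization.Away g)
    exact Algebra.Etale.comp R (Localization.Away g) _
  rw [IsScalarTower.algebraMap_eq A R (Localization.Away g)]
  exact h₃ (algebraMap A R) (algebraMap R (Localization.Away g)) Q.asIdeal hatt (hgU Q)

end Groth.Agent.S17616
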