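import Groth.Statements.S17617
import Mathlib
import Groth.Prelude.Def_Hens2
import Groth.Agent.Lib.H2PairHenz

set_option autoImplicit false
universe u
open Hensel

namespace Groth.Agent.S17617
open TensorProduct
set_option maxHeartbeats 1000000
set_option synthInstance.maxHeartbeats 400000
set_option backward.isDefEq.respectTransparency.types false

/-- Let (A, I) be a Henselian pair and let M' → M → M'' be A-linear maps with zero composite. Then M' →
M → M'' is exact if and only if for every prime ideal p of A containing I and every Henselization H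
of the pair (A_p, IA_p), the sequence H ⊗_A M' → H ⊗_A M → H ⊗_A M'' is exact. (The modules H ⊗_A M
are the stalks at p of the sheaf associated to M on the affine Henselian scheme of (A, I), and
exactness of a sequence of such sheaves is exactness at every stalk, so this is the statement that
the sequence of modules is exact exactly when the associated sequence of sheaves is.) -/
theorem result (A : Type u) [CommRing A]
    (I : Ideal A) [HenselianRing A I]
    (M' M M'' : Type u) [AddCommGroup M'] [Module A M'] [AddCommGroup M] [Module A M]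
    [AddCommGroup M''] [Module A M''] (f : M' →ₗ[A] M) (g : M →ₗ[A] M'') (hfg : g.comp f = 0) :
    Function.Exact f g ↔
    ∀ (p : Ideal A) [p.IsPrime], I ≤ p →
      ∀ (H : Type u) [CommRing H] [Algebra (Localization.AtPrime p) H] [Algebra A H]
        [IsScalarTower A (Localization.AtPrime p) H],
        Hens2.IsPairHenselization (Localization.AtPrime p)
          (I.map (algebraMap A (Localization.AtPrime p))) H →
        Function.Exact (f.baseChange H) (g.baseChange H) := by
  refine ⟨fun hex p _ _ H _ _ _ _ hH => ?_, fun h x => ⟨fun hx => ?_, fun hx => ?_⟩⟩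
  · haveI : Module.Flat (Localization.AtPrime p) H := Groth.Agent.H2PairHenz.flat_of_isPH hH
    haveI : Module.Flat A H := Module.Flat.trans A (Localization.AtPrime p) H
    exact Module.Flat.lTensor_exact H hex
  · by_contra hne
    let π : M →ₗ[A] M ⧸ LinearMap.range f := (LinearMap.range f).mkQ
    let J : Ideal A := LinearMap.ker (LinearMap.toSpanSingleton A _ (π x))
    have hJ : J ≠ ⊤ := fun e => hne (by
      have : (1 : A) ∈ J := e ▸ trivial
      have h1 : π x = 0 := by simpa [J, LinearMap.toSpanSingleton_apply] using this
      exact (Submodule.Quotient.mk_eq_zero _).1 h1)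
    obtain ⟨m, hm, hJm⟩ := Ideal.exists_le_maximal _ hJ
    have hIm : I ≤ m := (HenselianRing.jac (R := A) (I := I)).trans (sInf_le ⟨bot_le, hm⟩)
    let P := Localization.AtPrime m
    let H := Groth.Agent.H2PairHenz.PH P (I.map (algebraMap A P))
    have hH := Groth.Agent.H2PairHenz.isPH P (I.map (algebraMap A P))
    haveI : Module.Flat P H := Groth.Agent.H2PairHenz.flat_of_isPH hH
    letI : Algebra A H := ((algebraMap P H).comp (algebraMap A P)).toAlgebra
    haveI : IsScalarTower A P H := IsScalarTower.of_algebraMap_eq fun _ => rfl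
    haveI : Module.Flat A H := Module.Flat.trans A P H
    obtain ⟨y, hy⟩ := (h m hIm H hH ((1 : H) ⊗ₜ x)).1 (by simp [hx])
    -- `1 ⊗ x̄` vanishes
    have h0 : (1 : H) ⊗ₜ[A] π x = 0 := by
      have h1 : π.lTensor H ((1 : H) ⊗ₜ x) = π.lTensor H (f.lTensor H y) := congrArg _ hy.symm
      rw [LinearMap.lTensor_tmul, ← LinearMap.comp_apply, ← LinearMap.lTensor_comp] at h1
      rw [h1, show π.comp f = 0 from LinearMap.range_le_ker_iff.1 (by rw [Submodule.ker_mkQ]), LinearMap.lTensor_zero,
        LinearMap.zero_apply]
    let ι : (A ⧸ J) →ₗ[A] M ⧸ LinearMap.range f := Submodule.liftQ J (LinearMap.toSpanSingleton A _ (π x)) le_rfl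
    have hι : Function.Injective ι := LinearMap.ker_eq_bot.1 (Submodule.ker_liftQ_eq_bot _ _ _ le_rfl)
    have h2 : (1 : H) ⊗ₜ[A] (Ideal.Quotient.mk J 1) = 0 :=
      Module.Flat.lTensor_preserves_injective_linearMap ι hι (by
        rw [LinearMap.lTensor_tmul, map_zero]
        exact (congrArg (fun z => (1 : H) ⊗ₜ[A] z) (one_smul A (π x))).trans h0)
    -- but `J` generates a proper ideal of `H`
    have hJH : J.map (algebraMap A H) ≠ ⊤ := by
      have hJP : J.map (algebraMap A P) ≤ IsLocalRing.maximalIdeal P := by
        rw [← Localization.AtPrime.map_eq_maximalIdeal]; exact Ideal.map_mono hJm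
      have hIP : I.map (algebraMap A P) ≤ IsLocalRing.maximalIdeal P := by
        rw [← Localization.AtPrime.map_eq_maximalIdeal]; exact Ideal.map_mono hIm
      intro htop
      have h3 : (IsLocalRing.maximalIdeal P).map (algebraMap P H) = ⊤ := top_le_iff.1 (htop ▸ by
        rw [IsScalarTower.algebraMap_eq A P H, ← Ideal.map_map]; exact Ideal.map_mono hJP)
      let χ : H →ₐ[P] P ⧸ I.map (algebraMap A P) := Groth.Agent.H4Henzn.toK P (P ⧸ I.map (algebraMap A P))
      have h4 := congrArg (Ideal.map χ.toRingHom) h3
      rw [Ideal.map_map, show χ.toRingHom.comp (algebraMap P H) = algebraMap P (P ⧸ I.map (algebraMap A P)) from χ.comp_algebraMap,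
        Ideal.map_top, Ideal.Quotient.algebraMap_eq, Ideal.eq_top_iff_one, ← (Ideal.Quotient.mk _).map_one,
        Ideal.mem_quotient_iff_mem hIP] at h4
      exact (IsLocalRing.maximalIdeal.isMaximal P).ne_top ((Ideal.eq_top_iff_one _).2 h4)
    apply hJH
    rw [Ideal.eq_top_iff_one, ← Ideal.Quotient.eq_zero_iff_mem]
    refine (Algebra.TensorProduct.quotIdealMapEquivTensorQuot H J).injective ?_
    rw [map_zero, ← h2]
    rfl
  · obtain ⟨y, rfl⟩ := hx
    exact LinearMap.congr_fun hfg y

end Groth.Agent.S17617
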