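import Groth.Statements.S17620
import Mathlib
import Groth.Prelude.Def_Hens2
import Groth.Agent.Lib.H2PairHenz
import Groth.Agent.Lib.H4HenzLocal

set_option autoImplicit false
universe u
open Hensel

namespace Groth.Agent.S17620
open TensorProduct IsLocalRing
set_option maxHeartbeats 1000000
set_option synthInstance.maxHeartbeats 400000
set_option backward.isDefEq.respectTransparency.types false

/-- Let R be a local ring and J an ideal of R contained in the maximal ideal, let H be a Henselization
of the pair (R, J) which is a local ring with local structure map R → H, and let S be a strict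
Henselization of the local ring H. Then S, with its composite R-algebra structure, is a strict
Henselization of the local ring R. (This is the identification of the strict Henselization of the
local ring of a scheme at a point with that of the local ring of its Henselization along a closed
subscheme through the point.) -/
theorem result
    (R : Type u) [CommRing R] [IsLocalRing R] (J : Ideal R) (hJ : J ≤ IsLocalRing.maximalIdeal R)
    (H : Type u) [CommRing H] [IsLocalRing H] [Algebra R H] [IsLocalHom (algebraMap R H)]
    (hH : Hens2.IsPairHenselization R J H)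
    (S : Type u) [CommRing S] [IsLocalRing S] [Algebra H S] [IsLocalHom (algebraMap H S)]
    [Hensel.IsStrictHenselization H S]
    [Algebra R S] [IsScalarTower R H S] [IsLocalHom (algebraMap R S)] :
    Hensel.IsStrictHenselization R S := by
  have hq := Groth.Agent.H2PairHenz.quotient_bijective hH
  have hsurj : ∀ h : H, ∃ a : R, algebraMap R H a - h ∈ J.map (algebraMap R H) := fun h => by
    obtain ⟨q, hq'⟩ := hq.2 (Ideal.Quotient.mk _ h)
    obtain ⟨a, rfl⟩ := Ideal.Quotient.mk_surjective q
    exact ⟨a, Ideal.Quotient.eq.1 hq'⟩
  have hJle : J.map (algebraMap R H) ≤ maximalIdeal H :=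
    (Ideal.map_mono hJ).trans (((IsLocalRing.local_hom_TFAE (algebraMap R H)).out 0 2 rfl rfl).mp inferInstance)
  have hres : Function.Surjective (ResidueField.map (algebraMap R H)) := fun q => by
    obtain ⟨h, rfl⟩ := residue_surjective q
    obtain ⟨a, ha⟩ := hsurj h
    refine ⟨residue R a, ?_⟩
    rw [ResidueField.map_residue, ← sub_eq_zero, ← map_sub, residue_eq_zero_iff]
    exact hJle ha
  let hS : Hensel.IsStrictHenselization H S := inferInstance
  refine ⟨hS.henselian, ?_, fun T _ _ f hf τ hτ => ?_⟩
  · haveI := hS.isSepClosure.1
    haveI := hS.isSepClosure.2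
    let e : ResidueField R ≃+* ResidueField H := RingEquiv.ofBijective _ ⟨(ResidueField.map (algebraMap R H)).injective, hres⟩
    haveI : IsScalarTower (ResidueField R) (ResidueField H) (ResidueField S) := IsScalarTower.of_algebraMap_eq fun q => by
      obtain ⟨a, rfl⟩ := residue_surjective q
      show residue S (algebraMap R S a) = residue S (algebraMap H S (algebraMap R H a))
      rw [← IsScalarTower.algebraMap_apply]
    haveI : Algebra.IsSeparable (ResidueField R) (ResidueField H) := ⟨fun x => by
      obtain ⟨y, rfl⟩ := hres x
      exact isSeparable_algebraMap y⟩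
    exact ⟨inferInstance, Algebra.IsSeparable.trans (ResidueField R) (ResidueField H) (ResidueField S)⟩
  · haveI := hf
    haveI : HenselianRing T (maximalIdeal T) := inferInstance
    have hJT : J.map f ≤ maximalIdeal T := (Ideal.map_mono hJ).trans (((IsLocalRing.local_hom_TFAE f).out 0 2 rfl rfl).mp hf)
    obtain ⟨g0, hg0, hg0u⟩ := hH.2 T (maximalIdeal T) f inferInstance hJT
    haveI hg0l : IsLocalHom g0 := ((IsLocalRing.local_hom_TFAE g0).out 0 2 rfl rfl).mpr (by
      rw [Ideal.map_le_iff_le_comap]
      intro h hh
      obtain ⟨a, ha⟩ := hsurj h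
      have ham : a ∈ maximalIdeal R := by
        by_contra hna
        rw [mem_maximalIdeal, mem_nonunits_iff, not_not] at hna
        have hmem : algebraMap R H a ∈ maximalIdeal H := by simpa using add_mem (hJle ha) hh
        exact hmem (hna.map _)
      have h1 : g0 (algebraMap R H a - h) ∈ maximalIdeal T := by
        have := Ideal.mem_map_of_mem g0 ha
        rw [Ideal.map_map, hg0] at this
        exact hJT this
      have h2 : g0 (algebraMap R H a) ∈ maximalIdeal T := by
        rw [← RingHom.comp_apply, hg0]
        exact ((IsLocalRing.local_hom_TFAE f).out 0 2 rfl rfl).mp hf (Ideal.mem_map_of_mem f ham)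
      show g0 h ∈ maximalIdeal T
      rw [map_sub] at h1
      simpa using sub_mem h2 h1)
    have hτ' : τ.comp (ResidueField.map (algebraMap H S)) = ResidueField.map g0 := RingHom.ext fun q => by
      obtain ⟨r, rfl⟩ := hres q
      obtain ⟨a, rfl⟩ := residue_surjective r
      have := RingHom.congr_fun hτ (residue R a)
      simp only [RingHom.comp_apply, ResidueField.map_residue] at this ⊢
      rw [← IsScalarTower.algebraMap_apply, this, ← hg0]
      rfl
    obtain ⟨g, ⟨hg, hgτ⟩, hgu⟩ := hS.universal T g0 τ hτ'
    refine ⟨g, ⟨?_, hgτ⟩, fun g' ⟨hg', hg'τ⟩ => hgu g' ⟨hg0u _ ?_, hg'τ⟩⟩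
    · rw [IsScalarTower.algebraMap_eq R H S, ← RingHom.comp_assoc, hg, hg0]
    · show (g'.comp (algebraMap H S)).comp (algebraMap R H) = f
      rw [RingHom.comp_assoc, ← IsScalarTower.algebraMap_eq, hg']

end Groth.Agent.S17620
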