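import Groth.Statements.S1763
import Mathlib
import Groth.Prelude.Def_Wider
import Groth.Agent.Lib.H2H1Assoc

set_option autoImplicit false
universe u
open LocCoh

namespace Groth.Agent.S1763


/-- Fix a Noetherian ring A, an ideal I of A and a finitely generated A-module M. The local cohomology
module H¹_I(M) is finitely generated over A if and only if, for each associated prime p of M with I
⊄ p, the module H¹_I(A/p) is finitely generated over A. (Affine form, through finiteness of H¹_I, of
a statement about coherence of direct images along the inclusion of the open complement of V(I).) -/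
theorem result (A : Type u) [CommRing A] [IsNoetherianRing A] (I : Ideal A) (M : Type u) [AddCommGroup M] [Module A M] [Module.Finite A M] : Module.Finite A (LocCoh.H I 1 M) ↔ ∀ p : Ideal A, p ∈ associatedPrimes A M → ¬ I ≤ p → Module.Finite A (LocCoh.H I 1 (A ⧸ p)) := by
  constructor
  · intro h p hp _
    exact Groth.Agent.H2H1Assoc.finite_quotient_of_finite hp
  · intro h
    refine Groth.Agent.H2H1Assoc.finite_of_assoc _ M le_rfl fun p hp => ?_
    by_cases hIp : I ≤ p
    · haveI : Subsingleton (LocCoh.H I 1 (A ⧸ p)) := Groth.Agent.H2LC.subsingleton_of_isPowerTorsion 0 _ fun x => ⟨1, fun a ha => by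
        obtain ⟨y, rfl⟩ := Submodule.Quotient.mk_surjective p x
        rw [← Submodule.Quotient.mk_smul, Submodule.Quotient.mk_eq_zero]
        exact Ideal.mul_mem_right _ _ (hIp (pow_one I ▸ ha))⟩
      infer_instance
    · exact h p hp hIp

end Groth.Agent.S1763
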