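import Groth.Statements.S17677
import Mathlib

set_option autoImplicit false
universe u
open Hoch

namespace Groth.Agent.S17677

/-- Let k be a commutative ring, M a commutative monoid and V a right comodule over the monoid bialgebra
k[M] (a quasi-coherent module with an action of the diagonalizable monoid scheme Spec k[M]). Then
every 1-cocycle of the Hochschild complex of V is a 1-coboundary, i.e. the first Hochschild
cohomology module of the diagonalizable monoid with coefficients in V is zero. (The source works
over an algebraic space with M finitely generated and cancellative, hypotheses it uses only to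
identify modules under the monoid with comodules; the cocycle computation, which is the affine
statement given here, uses neither.) -/
theorem result (k : Type u) [CommRing k] (M : Type u)
    [AddCommMonoid M] (V : Type u) [AddCommGroup V] [Module k V]
    [HopfRep.Comod k (AddMonoidAlgebra k M) V] :
    Hoch.cocycles k (AddMonoidAlgebra k M) V 1 ≤ Hoch.coboundaries k (AddMonoidAlgebra k M) V 1 := by
  classical
  intro f hf
  let c : (AddMonoidAlgebra k M) →ₗ[k] k := Finsupp.lapply 0 ∘ₗ (AddMonoidAlgebra.coeffLinearEquiv k).toLinearMap
  have hc : ∀ (m : M) (r : k), c (AddMonoidAlgebra.single m r) = if m = 0 then r else 0 := fun m r => by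
    change (AddMonoidAlgebra.single m r).coeff 0 = _
    simp [Finsupp.single_apply]
  let g : TensorProduct k V (AddMonoidAlgebra k M) →ₗ[k] V := (TensorProduct.rid k V).toLinearMap ∘ₗ c.lTensor V
  let L : TensorProduct k (TensorProduct k V (AddMonoidAlgebra k M)) (AddMonoidAlgebra k M) →ₗ[k] TensorProduct k V (AddMonoidAlgebra k M) := (TensorProduct.rid k (TensorProduct k V (AddMonoidAlgebra k M))).toLinearMap ∘ₗ c.lTensor (TensorProduct k V (AddMonoidAlgebra k M))
  have key : ∀ z : TensorProduct k V (AddMonoidAlgebra k M), L (Hoch.d k (AddMonoidAlgebra k M) V 1 z) =
      HopfRep.Comod.coact (k := k) (A := AddMonoidAlgebra k M) (g z) - TensorProduct.tmul k (g z) (1 : (AddMonoidAlgebra k M)) + z := by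
    intro z
    induction z using TensorProduct.induction_on with
    | zero => simp
    | tmul v a =>
      induction a using AddMonoidAlgebra.induction_linear with
      | zero => simp
      | add x y hx hy =>
        simp only [TensorProduct.tmul_add, map_add, hx, hy, TensorProduct.add_tmul]
        abel
      | single m r =>
        rw [Hoch.d_succ, LinearMap.add_apply, LinearMap.smul_apply, LinearMap.rTensor_tmul, Hoch.d_zero_apply,
          Hoch.tail_tmul]
        simp only [AddMonoidAlgebra.comul_single, CommSemiring.comul_apply, TensorProduct.map_tmul,
          AddMonoidAlgebra.lsingle_apply, TensorProduct.tmul_sub, TensorProduct.sub_tmul, map_sub, map_add, map_smul,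
          TensorProduct.assoc_symm_tmul, pow_one, L, g, LinearMap.comp_apply, LinearEquiv.coe_coe,
          LinearMap.lTensor_tmul, TensorProduct.rid_tmul, hc, zero_add]
        by_cases h : m = 0
        · subst h
          simp [AddMonoidAlgebra.one_def, TensorProduct.tmul_smul, TensorProduct.smul_tmul']
          rw [hc, if_pos rfl, one_smul]
        · simp [h, AddMonoidAlgebra.one_def, hc, TensorProduct.smul_tmul', ← TensorProduct.tmul_smul]
    | add x y hx hy =>
      simp only [map_add, hx, hy, TensorProduct.add_tmul]
      abel
  have h := key f
  rw [LinearMap.mem_ker.mp hf, map_zero] at h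
  refine ⟨-g f, ?_⟩
  rw [map_neg, Hoch.d_zero_apply]
  exact (eq_neg_of_add_eq_zero_right h.symm).symm

end Groth.Agent.S17677
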