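import Groth.Statements.S17678
import Mathlib

set_option autoImplicit false
universe u v
open DiagMon

namespace Groth.Agent.S17678

/-- Let R be a commutative ring and N an abelian group. Then the ring map R[N] → R[N × N] of monoid
algebras induced by the diagonal n ↦ (n, n), which is the comorphism of the multiplication morphism
of the diagonalizable group scheme Spec R[N] over Spec R, is flat. (The published statement asserts
flatness for every cancellative commutative monoid N, on the ground that N acts freely on N × N
through the diagonal; but for the submonoid N of the natural numbers generated by 2 and 3, the pairs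
(x, x − 1) with x ≥ 3 form one orbit class that is not a free orbit, and the corresponding direct
summand of k[N × N] is the ideal t³k[t] viewed as a module over k[t², t³], which is not flat. The
statement is therefore given for groups, where N × N is a free N-set with basis the pairs (0, b).) -/
theorem result (R : Type u) [CommRing R] (N : Type v)
    [AddCommGroup N] :
    (AddMonoidAlgebra.mapDomainRingHom R ((AddMonoidHom.id N).prod (AddMonoidHom.id N))).Flat := by
  let θ : (N × N) ≃+ (N × N) :=
    { toFun := fun p => (p.1, p.2 + p.1), invFun := fun p => (p.1, p.2 - p.1)
      left_inv := fun p => by simp, right_inv := fun p => by simp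
      map_add' := fun p q => by ext <;> simp; abel }
  let Φ := ((AddMonoidAlgebra.domCongr R R θ).toRingEquiv.symm.trans ((AddMonoidAlgebra.domCongr R R (AddEquiv.prodComm : N × N ≃+ N × N)).toRingEquiv.trans AddMonoidAlgebra.curryRingEquiv))
  have e : Φ.toRingHom.comp (AddMonoidAlgebra.mapDomainRingHom R ((AddMonoidHom.id N).prod (AddMonoidHom.id N))) =
      algebraMap (AddMonoidAlgebra R N) (AddMonoidAlgebra (AddMonoidAlgebra R N) N) := by
    apply AddMonoidAlgebra.ringHom_ext <;> intro a <;> simp [Φ, θ, AddEquiv.prodComm]
  have h1 : (algebraMap (AddMonoidAlgebra R N) (AddMonoidAlgebra (AddMonoidAlgebra R N) N)).Flat := by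
    rw [RingHom.flat_algebraMap_iff]; infer_instance
  rw [← e] at h1
  have h2 : AddMonoidAlgebra.mapDomainRingHom R ((AddMonoidHom.id N).prod (AddMonoidHom.id N)) =
      Φ.symm.toRingHom.comp (Φ.toRingHom.comp (AddMonoidAlgebra.mapDomainRingHom R ((AddMonoidHom.id N).prod (AddMonoidHom.id N)))) := by
    ext <;> simp
  rw [h2]
  exact h1.comp (RingHom.Flat.of_bijective Φ.symm.bijective)

end Groth.Agent.S17678
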