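import Groth.Statements.S17679
import Mathlib

set_option autoImplicit false
open DiagMon

namespace Groth.Agent.S17679

/-- For n ≥ 1 the minimal number of generators of ℤ^n as an additive monoid is n + 1: some n + 1
elements generate ℤ^n as a monoid, and every finite set generating ℤ^n as a monoid has at least n +
1 elements. (For n = 0 the empty set generates the zero monoid, so the count n + 1 is stated for n ≥
1 only.) -/
theorem result (n : ℕ) (hn : 1 ≤ n) :
    (∃ s : Finset (Fin n → ℤ), s.card = n + 1 ∧ AddSubmonoid.closure (s : Set (Fin n → ℤ)) = ⊤) ∧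
    ∀ s : Finset (Fin n → ℤ), AddSubmonoid.closure (s : Set (Fin n → ℤ)) = ⊤ → n + 1 ≤ s.card := by
  classical
  constructor
  · let v : Fin n → ℤ := fun _ => -1
    let b : Fin n → Fin n → ℤ := fun i => Pi.single i 1
    refine ⟨insert v (Finset.univ.image b), ?_, ?_⟩
    · rw [Finset.card_insert_of_notMem, Finset.card_image_of_injective, Finset.card_univ, Fintype.card_fin]
      · intro i j h
        have := congrFun h i
        simpa [b, Pi.single_apply] using this
      · simp only [Finset.mem_image, Finset.mem_univ, true_and, not_exists]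
        intro i h
        have := congrFun h i
        simp [b, v] at this
    · rw [eq_top_iff]
      intro x _
      set S := AddSubmonoid.closure ((insert v (Finset.univ.image b) : Finset (Fin n → ℤ)) : Set (Fin n → ℤ))
      have hv : v ∈ S := AddSubmonoid.subset_closure (by simp)
      have hb : ∀ i, b i ∈ S := fun i => AddSubmonoid.subset_closure (by simp)
      let M : ℕ := ∑ i, (x i).natAbs
      have hM : ∀ i, 0 ≤ x i + (M : ℤ) := fun i => by
        have := Finset.single_le_sum (fun j _ => Nat.zero_le (x j).natAbs) (Finset.mem_univ i)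
        omega
      have : x = M • v + ∑ i, (x i + (M : ℤ)).toNat • b i := by
        funext j
        simp only [Pi.add_apply, Finset.sum_apply, Pi.smul_apply, nsmul_eq_mul, v, b]
        rw [Finset.sum_eq_single j (fun i _ hi => by simp [Pi.single_eq_of_ne (Ne.symm hi)]) (by simp)]
        simp [Int.toNat_of_nonneg (hM j)]
      rw [this]
      exact add_mem (nsmul_mem hv _) (sum_mem fun i _ => nsmul_mem (hb i) _)
  · intro s hs
    by_contra hlt
    have hspan : Submodule.span ℤ (Set.range (fun x : s => (x : Fin n → ℤ))) = ⊤ := by
      rw [eq_top_iff]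
      intro x _
      have hx : x ∈ AddSubmonoid.closure (s : Set (Fin n → ℤ)) := hs ▸ AddSubmonoid.mem_top x
      have hle : AddSubmonoid.closure (s : Set (Fin n → ℤ)) ≤ (Submodule.span ℤ (Set.range (fun x : s => (x : Fin n → ℤ)))).toAddSubmonoid :=
        AddSubmonoid.closure_le.2 fun y hy => Submodule.subset_span ⟨⟨y, hy⟩, rfl⟩
      exact hle hx
    have hge : n ≤ s.card := by
      have := finrank_range_le_card (R := ℤ) (fun x : s => (x : Fin n → ℤ))
      rw [Set.finrank, hspan, finrank_top, Module.finrank_fin_fun, Fintype.card_coe] at this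
      exact this
    have hli : LinearIndependent ℤ (fun x : s => (x : Fin n → ℤ)) :=
      linearIndependent_of_top_le_span_of_card_eq_finrank hspan.ge (by rw [Fintype.card_coe, Module.finrank_fin_fun]; omega)
    obtain ⟨v, hv⟩ : s.Nonempty := Finset.card_pos.1 (by omega)
    have hx : -v ∈ AddSubmonoid.closure (Set.range (fun x : s => (x : Fin n → ℤ))) := by
      rw [show Set.range (fun x : s => (x : Fin n → ℤ)) = ↑s from Subtype.range_val, hs]; trivial
    obtain ⟨c, hc⟩ := AddSubmonoid.exists_of_mem_closure_range _ _ hx
    have := Fintype.linearIndependent_iff.1 hli (fun x => (c x : ℤ) + if x = ⟨v, hv⟩ then 1 else 0) (by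
      simp only [add_smul, Finset.sum_add_distrib, ite_smul, one_smul, zero_smul, Finset.sum_ite_eq', Finset.mem_univ, if_true, natCast_zsmul]
      rw [← hc, neg_add_cancel]) ⟨v, hv⟩
    simp at this
    omega

end Groth.Agent.S17679
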