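import Groth.Statements.S17681
import Mathlib
import Groth.Agent.Lib.H8Translate
import Groth.Agent.Lib.H8IdComp

set_option autoImplicit false
universe u
open CategoryTheory MonoidalCategory CartesianMonoidalCategory MonObj GrpObj AlgebraicGeometry
open AlgGrp

namespace Groth.Agent.S17681

section

open CategoryTheory Limits AlgebraicGeometry MonoidalCategory CartesianMonoidalCategory
open scoped MonObj

variable {S : Scheme.{u}} (G : Over S) [GrpObj G]

set_option backward.isDefEq.respectTransparency false in
theorem irreducible_tensor (hconn : ∀ s : S, ConnectedSpace (G.hom.fiber s)) {K : Type u} [Field K]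
    (sK : Spec (CommRingCat.of K) ⟶ S) : IrreducibleSpace ↥(G ⊗ Over.mk sK).left := by
  obtain ⟨⟨s, φ⟩, rfl⟩ := (Scheme.SpecToEquivOfField K S).symm.surjective sK
  let i : Spec (CommRingCat.of (S.residueField s)) ⟶ S := S.fromSpecResidueField s
  let Gs : Over (Spec (CommRingCat.of (S.residueField s))) := (Over.pullback i).obj G
  letI : GrpObj Gs := Functor.grpObjObj
  haveI : ConnectedSpace Gs.left := hconn s
  haveI : GeometricallyIrreducible Gs.hom := by
    have h := Groth.Agent.H8IdComp.geometricallyIrreducible Gs (𝟙 Gs.left) (by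
      have hcc := Groth.Agent.H8IdComp.connectedComponent_eq Gs (Groth.Agent.H8Component.org Gs)
      rw [PreconnectedSpace.connectedComponent_eq_univ] at hcc
      exact Set.Subset.antisymm (fun z _ => hcc.le trivial) fun z _ => ⟨z, rfl⟩)
    rwa [Category.id_comp] at h
  let σ : Spec (CommRingCat.of K) ⟶ Spec (CommRingCat.of (S.residueField s)) := Spec.map φ
  haveI : IrreducibleSpace ↥(pullback Gs.hom σ) := by
    haveI : GeometricallyIrreducible (pullback.snd Gs.hom σ) :=
      MorphismProperty.pullback_snd _ _ ‹GeometricallyIrreducible Gs.hom›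
    exact GeometricallyIrreducible.irreducibleSpace_of_subsingleton (pullback.snd Gs.hom σ)
  let e : pullback Gs.hom σ ≅ pullback G.hom (σ ≫ i) := pullbackLeftPullbackSndIso G.hom i σ
  have : IsIrreducible (Set.univ : Set ↥(pullback G.hom (σ ≫ i))) := by
    have h := ((irreducibleSpace_def _).mp ‹IrreducibleSpace ↥(pullback Gs.hom σ)›).image e.hom
      e.hom.continuous.continuousOn
    have e' : (e.hom : _ → _) '' (Set.univ : Set ↥(pullback Gs.hom σ)) = Set.univ :=
      Set.eq_univ_of_forall fun y => (e.hom.surjective y).imp fun _ h => ⟨trivial, h⟩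
    exact e' ▸ h
  rw [irreducibleSpace_def]
  exact this

theorem equalize_all (hconn : ∀ s : S, ConnectedSpace (G.hom.fiber s)) {X Y T : Over S}
    (a : AlgGrp.Action G X) (f : X ⟶ Y) [Etale f.left] (x : T ⟶ X)
    (hpq : (lift (fst G T) (snd G T ≫ x) ≫ a.act) ≫ f = (snd G T ≫ x) ≫ f) :
    lift (fst G T) (snd G T ≫ x) ≫ a.act = snd G T ≫ x := by
  let p := lift (fst G T) (snd G T ≫ x) ≫ a.act
  let q := snd G T ≫ x
  let pq : (G ⊗ T).left ⟶ pullback f.left f.left := pullback.lift p.left q.left (by
    rw [← Over.comp_left, ← Over.comp_left, hpq])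
  let E := pullback.fst pq (pullback.diagonal f.left)
  haveI : IsOpenImmersion E := inferInstance
  have hfix : ∀ (W : Over S) (g : W ⟶ G) (τ : W ⟶ T), Set.range (lift g τ).left ⊆ Set.range E →
      lift g (τ ≫ x) ≫ a.act = τ ≫ x := by
    intro W g τ hsub
    have hE : E ≫ p.left = E ≫ q.left := by
      have h1 := congrArg (fun r => r ≫ pullback.fst f.left f.left)
        (pullback.condition (f := pq) (g := pullback.diagonal f.left))
      have h2 := congrArg (fun r => r ≫ pullback.snd f.left f.left)
        (pullback.condition (f := pq) (g := pullback.diagonal f.left))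
      simp only [Category.assoc, pq, pullback.lift_fst, pullback.lift_snd, pullback.diagonal_fst,
        pullback.diagonal_snd, Category.comp_id] at h1 h2
      exact h1.trans h2.symm
    have h3 : lift g τ ≫ p = lift g τ ≫ q := by
      apply Over.OverMorphism.ext
      show (lift g τ).left ≫ p.left = (lift g τ).left ≫ q.left
      rw [← IsOpenImmersion.lift_fac E (lift g τ).left hsub, Category.assoc, Category.assoc, hE]
    simpa [p, q, comp_lift_assoc] using h3
  have hmem : ∀ (W : Over S) (g : W ⟶ G) (τ : W ⟶ T),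
      lift g (τ ≫ x) ≫ a.act = τ ≫ x → Set.range (lift g τ).left ⊆ Set.range E := by
    intro W g τ h
    have h3 : lift g τ ≫ p = lift g τ ≫ q := by simpa [p, q, comp_lift_assoc] using h
    have h3' : (lift g τ).left ≫ p.left = (lift g τ).left ≫ q.left := by
      rw [← Over.comp_left, h3, Over.comp_left]
    let j : W.left ⟶ pullback pq (pullback.diagonal f.left) :=
      pullback.lift (lift g τ).left ((lift g τ).left ≫ p.left) (by
        apply pullback.hom_ext
        · rw [Category.assoc, Category.assoc, pullback.diagonal_fst, Category.comp_id]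
          exact congrArg ((lift g τ).left ≫ ·) (pullback.lift_fst _ _ _)
        · rw [Category.assoc, Category.assoc, pullback.diagonal_snd, Category.comp_id]
          exact (congrArg ((lift g τ).left ≫ ·) (pullback.lift_snd _ _ _)).trans h3'.symm)
    rintro _ ⟨w, rfl⟩
    exact ⟨j w, by rw [← Scheme.Hom.comp_apply, pullback.lift_fst]⟩
  have hsurj : Surjective E := ⟨fun w => by
    let K := (G ⊗ T).left.residueField w
    let sK : Spec (CommRingCat.of K) ⟶ S := (G ⊗ T).left.fromSpecResidueField w ≫ (G ⊗ T).hom
    let W := Over.mk sK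
    let pw : W ⟶ G ⊗ T := Over.homMk ((G ⊗ T).left.fromSpecResidueField w) rfl
    let g : W ⟶ G := pw ≫ fst G T
    let τ : W ⟶ T := pw ≫ snd G T
    haveI := irreducible_tensor G hconn sK
    let e : G ⊗ W ≅ G ⊗ W :=
      { hom := lift ((fst G W)⁻¹ * (snd G W ≫ g)) (snd G W)
        inv := lift ((snd G W ≫ g) * (fst G W)⁻¹) (snd G W)
        hom_inv_id := by
          apply CartesianMonoidalCategory.hom_ext <;> simp [MonObj.comp_mul, GrpObj.comp_inv]
        inv_hom_id := by
          apply CartesianMonoidalCategory.hom_ext <;> simp [MonObj.comp_mul, GrpObj.comp_inv] }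
    let m : G ⊗ W ⟶ G ⊗ T := G ◁ τ
    let U : Set ↥(G ⊗ W).left := m.left ⁻¹' Set.range E
    have hU : IsOpen U := E.isOpenEmbedding.isOpen_range.preimage m.left.continuous
    have h1 : (lift (1 : W ⟶ G) (𝟙 W)).left (IsLocalRing.closedPoint K) ∈ U := by
      show m.left ((lift (1 : W ⟶ G) (𝟙 W)).left _) ∈ Set.range E
      rw [← Scheme.Hom.comp_apply, ← Over.comp_left, lift_whiskerLeft, Category.id_comp]
      exact hmem W 1 τ (Groth.Agent.H8Translate.act_one a _) ⟨_, rfl⟩
    haveI : IsIso e.hom.left := ((Over.forget _).mapIso e).isIso_hom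
    obtain ⟨z₁, hz₁⟩ := e.hom.left.surjective ((lift (1 : W ⟶ G) (𝟙 W)).left (IsLocalRing.closedPoint K))
    obtain ⟨z, -, hz2, hz3⟩ := IrreducibleSpace.isIrreducible_univ (X := ↥(G ⊗ W).left) |>.2 U
      (e.hom.left ⁻¹' U) hU (hU.preimage e.hom.left.continuous) ⟨_, trivial, h1⟩
      ⟨z₁, trivial, by show e.hom.left z₁ ∈ U; rw [hz₁]; exact h1⟩
    let L := (G ⊗ W).left.residueField z
    let V := Over.mk ((G ⊗ W).left.fromSpecResidueField z ≫ (G ⊗ W).hom)
    let pz : V ⟶ G ⊗ W := Over.homMk ((G ⊗ W).left.fromSpecResidueField z) rfl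
    have hpz : ∀ v, pz.left v = z := Scheme.fromSpecResidueField_apply z
    let u : V ⟶ G := pz ≫ fst G W
    let π : V ⟶ W := pz ≫ snd G W
    have hu : lift u (π ≫ τ ≫ x) ≫ a.act = π ≫ τ ≫ x := by
      rw [← Category.assoc π τ x]
      refine hfix V u (π ≫ τ) ?_
      rintro _ ⟨v, rfl⟩
      rw [show lift u (π ≫ τ) = pz ≫ m by
        apply CartesianMonoidalCategory.hom_ext <;> simp [u, π, m], Over.comp_left,
        Scheme.Hom.comp_apply, hpz]
      exact hz2
    have hv : lift (u⁻¹ * (π ≫ g)) (π ≫ τ ≫ x) ≫ a.act = π ≫ τ ≫ x := by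
      rw [← Category.assoc π τ x]
      refine hfix V _ (π ≫ τ) ?_
      rintro _ ⟨v, rfl⟩
      rw [show lift (u⁻¹ * (π ≫ g)) (π ≫ τ) = pz ≫ e.hom ≫ m by
        apply CartesianMonoidalCategory.hom_ext <;>
          simp [u, π, m, e, MonObj.comp_mul, GrpObj.comp_inv], Over.comp_left, Over.comp_left,
        Scheme.Hom.comp_apply, Scheme.Hom.comp_apply, hpz]
      exact hz3
    have hg : lift (π ≫ g) (π ≫ τ ≫ x) ≫ a.act = π ≫ τ ≫ x := by
      have e1 : π ≫ g = u * (u⁻¹ * (π ≫ g)) := by rw [← _root_.mul_assoc, mul_inv_cancel, _root_.one_mul]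
      rw [e1, Groth.Agent.H8Translate.act_mul, hv, hu]
    have := hmem V (π ≫ g) (π ≫ τ) (by rw [Category.assoc]; exact hg)
      ⟨IsLocalRing.closedPoint L, rfl⟩
    rw [show lift (π ≫ g) (π ≫ τ) = π ≫ pw by
      apply CartesianMonoidalCategory.hom_ext <;> simp [g, τ], Over.comp_left,
      Scheme.Hom.comp_apply,
      show pw.left (π.left (IsLocalRing.closedPoint L)) = w from
        Scheme.fromSpecResidueField_apply w _] at this
    exact this⟩
  haveI : IsIso E := (isIso_iff_isOpenImmersion_and_surjective _).mpr ⟨inferInstance, hsurj⟩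
  apply Over.OverMorphism.ext
  have h1 := congrArg (fun r => r ≫ pullback.fst f.left f.left)
    (pullback.condition (f := pq) (g := pullback.diagonal f.left))
  have h2 := congrArg (fun r => r ≫ pullback.snd f.left f.left)
    (pullback.condition (f := pq) (g := pullback.diagonal f.left))
  simp only [Category.assoc, pq, pullback.lift_fst, pullback.lift_snd, pullback.diagonal_fst,
    pullback.diagonal_snd, Category.comp_id] at h1 h2
  exact (cancel_epi E).mp (h1.trans h2.symm)

end

/-- Let S be a scheme, G a flat S-group scheme of finite presentation with connected fibres, X and Y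
S-schemes locally of finite presentation with actions of G, and f : X → Y an étale G-equivariant
S-morphism; assume that S is locally Noetherian or that X and Y are quasi-separated over S. Then f
reflects fixed points: a T-point x of X whose image in Y is fixed by G after every base change T' →
T is itself fixed by G after every base change, so that the fixed-point subfunctor of X is the
preimage of that of Y. (The source allows X and Y to be algebraic spaces over S; this row is the
case of schemes.) -/
theorem result (S : Scheme.{u})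
    (G : Over S) [GrpObj G] [Flat G.hom] [LocallyOfFinitePresentation G.hom] [QuasiCompact G.hom]
    [QuasiSeparated G.hom] (hconn : ∀ s : S, ConnectedSpace (G.hom.fiber s))
    (X Y : Over S) [LocallyOfFinitePresentation X.hom] [LocallyOfFinitePresentation Y.hom]
    (hS : IsLocallyNoetherian S ∨ (QuasiSeparated X.hom ∧ QuasiSeparated Y.hom))
    (a : AlgGrp.Action G X) (b : AlgGrp.Action G Y) (f : X ⟶ Y) [Etale f.left]
    (hf : a.act ≫ f = (G ◁ f) ≫ b.act) (T : Over S) (x : T ⟶ X)
    (hx : ∀ (T' : Over S) (t : T' ⟶ T) (g : T' ⟶ G), lift g (t ≫ x ≫ f) ≫ b.act = t ≫ x ≫ f)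
    (T' : Over S) (t : T' ⟶ T) (g : T' ⟶ G) : lift g (t ≫ x) ≫ a.act = t ≫ x := by
  have hpq : (lift (fst G T) (snd G T ≫ x) ≫ a.act) ≫ f = (snd G T ≫ x) ≫ f := by
    have h := hx (G ⊗ T) (snd G T) (fst G T)
    rw [Category.assoc, hf, ← Category.assoc, lift_whiskerLeft, Category.assoc]
    exact h
  have h := equalize_all G hconn a f x hpq
  have := congrArg (fun r => lift g t ≫ r) h
  simpa [comp_lift_assoc] using this

end Groth.Agent.S17681
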