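import Groth.Statements.S17683
import Mathlib

set_option autoImplicit false
set_option backward.isDefEq.respectTransparency.types false
set_option maxHeartbeats 1000000
set_option linter.all false
universe u
open DiagMon

namespace Groth.Agent.S17683
open Groth.Agent

/-- Let N be a commutative monoid and F a submonoid of N. The additive projection ℤ[N] → ℤ[F] of monoid
algebras keeping the monomials with exponent in F and killing the others is multiplicative, i.e. F
is a face of N, if and only if for all x, y in N the sum x + y lies in F exactly when both x and y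
do. -/
theorem result {N : Type u} [AddCommMonoid N] (F : AddSubmonoid N) :
    (∀ a b : AddMonoidAlgebra ℤ N,
        AddMonoidAlgebra.comapDomain ((↑) : F → N) Subtype.val_injective (a * b) =
          AddMonoidAlgebra.comapDomain ((↑) : F → N) Subtype.val_injective a *
            AddMonoidAlgebra.comapDomain ((↑) : F → N) Subtype.val_injective b) ↔
      ∀ x y : N, x + y ∈ F ↔ (x ∈ F ∧ y ∈ F) := by
  classical
  have key : ∀ (n : N) (c : ℤ), AddMonoidAlgebra.comapDomain ((↑) : F → N) Subtype.val_injective (AddMonoidAlgebra.single n c) = if h : n ∈ F then AddMonoidAlgebra.single (⟨n, h⟩ : F) c else 0 := by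
    intro n c
    ext ⟨a, ha⟩
    split_ifs with h
    · simp [Finsupp.single_apply, Subtype.ext_iff]
    · simp [Finsupp.single_apply, show n ≠ a from fun e => h (e ▸ ha)]
  have hadd : ∀ u v : AddMonoidAlgebra ℤ N, AddMonoidAlgebra.comapDomain ((↑) : F → N) Subtype.val_injective (u + v) = AddMonoidAlgebra.comapDomain ((↑) : F → N) Subtype.val_injective u + AddMonoidAlgebra.comapDomain ((↑) : F → N) Subtype.val_injective v := by
    intro u v; ext a; simp
  have hsm : ∀ (c : ℤ) (u : AddMonoidAlgebra ℤ N), AddMonoidAlgebra.comapDomain ((↑) : F → N) Subtype.val_injective (c • u) = c • AddMonoidAlgebra.comapDomain ((↑) : F → N) Subtype.val_injective u := by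
    intro c u; exact map_zsmul (AddMonoidHom.mk' (AddMonoidAlgebra.comapDomain (R := ℤ) ((↑) : F → N) Subtype.val_injective) hadd) c u
  constructor
  · intro h x y
    have h1 := h (AddMonoidAlgebra.single x 1) (AddMonoidAlgebra.single y 1)
    rw [AddMonoidAlgebra.single_mul_single, key, key, key, mul_one] at h1
    constructor
    · intro hxy
      rw [dif_pos hxy] at h1
      by_contra hc
      rcases not_and_or.1 hc with hx | hy
      · rw [dif_neg hx, zero_mul] at h1
        simp at h1
      · rw [dif_neg hy, mul_zero] at h1
        simp at h1
    · exact fun ⟨hx, hy⟩ => F.add_mem hx hy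
  · intro h a b
    induction a using AddMonoidAlgebra.induction_on with
    | of x =>
      induction b using AddMonoidAlgebra.induction_on with
      | of y =>
        rw [AddMonoidAlgebra.of_apply, AddMonoidAlgebra.of_apply, toAdd_ofAdd, toAdd_ofAdd, AddMonoidAlgebra.single_mul_single, key, key, key, mul_one]
        by_cases hxy : x + y ∈ F
        · obtain ⟨hx, hy⟩ := (h x y).1 hxy
          rw [dif_pos hxy, dif_pos hx, dif_pos hy, AddMonoidAlgebra.single_mul_single, mul_one]
          rfl
        · rw [dif_neg hxy]
          by_cases hx : x ∈ F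
          · rw [dif_neg (fun hy => hxy ((h x y).2 ⟨hx, hy⟩)), mul_zero]
          · rw [dif_neg hx, zero_mul]
      | add u v hu hv => rw [mul_add, hadd, hu, hv, hadd, mul_add]
      | smul c u hu => rw [mul_smul_comm, hsm, hu, hsm, mul_smul_comm]
    | add u v hu hv => rw [add_mul, hadd, hu, hv, hadd, add_mul]
    | smul c u hu => rw [smul_mul_assoc, hsm, hu, hsm, smul_mul_assoc]

end Groth.Agent.S17683
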