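import Groth.Statements.S17685
import Mathlib
import Groth.Agent.Lib.H8Coincidence

set_option autoImplicit false
universe u
open CategoryTheory MonoidalCategory CartesianMonoidalCategory MonObj GrpObj AlgebraicGeometry
open AlgGrp

namespace Groth.Agent.S17685

open CategoryTheory Limits AlgebraicGeometry MonoidalCategory CartesianMonoidalCategory in
set_option backward.defeqAttrib.useBackward true in
set_option backward.isDefEq.respectTransparency false in
theorem surjective_whiskerRight {S : Scheme.{u}} {A B C : Over S} (u : A ⟶ B) [Surjective u.left] :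
    Surjective (u ▷ C).left := by
  have e : IsPullback (u ▷ C).left (fst A C).left (fst B C).left u.left := by
    refine IsPullback.of_right ?_ ?_ (IsPullback.of_hasPullback B.hom C.hom).flip
    · have h1 : (u ▷ C).left ≫ (snd B C).left = (snd A C).left := by
        rw [← Over.comp_left, whiskerRight_snd]
      have h2 : u.left ≫ B.hom = A.hom := Over.w u
      show IsPullback ((u ▷ C).left ≫ (snd B C).left) (fst A C).left C.hom (u.left ≫ B.hom)
      rw [h1, h2]
      exact (IsPullback.of_hasPullback A.hom C.hom).flip
    · show (u ▷ C).left ≫ (fst B C).left = (fst A C).left ≫ u.left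
      rw [← Over.comp_left, ← Over.comp_left, whiskerRight_fst]
  exact MorphismProperty.of_isPullback (P := @Surjective) e.flip ‹_›

/-- Let S be a scheme, F an S-scheme that is finite locally free over S (finite, flat and locally of
finite presentation) with a section e of F over S which is a surjective closed immersion (an
infinitesimal pointed S-scheme), and X an S-scheme with an action of the pointed scheme F, i.e. an
S-morphism F ×_S X → X through which e acts as the identity. Then the subfunctor of F-fixed points
of X, whose T-points are the T-points x of X with g · x_{T'} = x_{T'} for every S-scheme T' over T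
and every T'-point g of F, is represented by a closed subscheme of X. (The source allows F and X to
be algebraic spaces over S; this row is the case of schemes.) -/
theorem result (S : Scheme.{u})
    (F X : Over S) (e : 𝟙_ (Over S) ⟶ F) (act : F ⊗ X ⟶ X) (he : (e ▷ X) ≫ act = (λ_ X).hom)
    [IsFinite F.hom] [Flat F.hom] [LocallyOfFinitePresentation F.hom]
    [IsClosedImmersion e.left] [Surjective e.left] :
    ∃ (Z : Scheme.{u}) (i : Z ⟶ X.left), IsClosedImmersion i ∧
      ∀ (T : Over S) (x : T ⟶ X), (∃ y : T.left ⟶ Z, y ≫ i = x.left) ↔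
        ∀ (T' : Over S) (t : T' ⟶ T) (g : T' ⟶ F), lift g (t ≫ x) ≫ act = t ≫ x := by
  have hb : (β_ X F).hom ≫ CartesianMonoidalCategory.snd F X = CartesianMonoidalCategory.fst X F := by
    simp
  have : IsClosedImmersion (Groth.Agent.H8Coincidence.eqLocus ((β_ X F).hom ≫ act)
      ((β_ X F).hom ≫ CartesianMonoidalCategory.snd F X)) := by
    rw [hb]
    refine Groth.Agent.H8Coincidence.isClosedImmersion_eqLocus_fst _ fun U p hp => ?_
    rw [← hb, Over.comp_left] at hp
    rw [Over.comp_left]
    have hs := surjective_whiskerRight (C := X) e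
    obtain ⟨q, hq⟩ := (e ▷ X).left.surjective ((β_ X F).hom.left p)
    have hp' : (CartesianMonoidalCategory.snd F X).left ((e ▷ X).left q) ∈ U := hq.symm ▸ hp
    show act.left ((β_ X F).hom.left p) ∈ U
    rw [← hq]
    have h1 : (e ▷ X) ≫ act = (e ▷ X) ≫ CartesianMonoidalCategory.snd F X := by
      rw [he, whiskerRight_snd, leftUnitor_hom]
    have h2 : act.left ((e ▷ X).left q) = (CartesianMonoidalCategory.snd F X).left ((e ▷ X).left q) := by
      rw [← Scheme.Hom.comp_apply, ← Scheme.Hom.comp_apply, ← Over.comp_left, ← Over.comp_left, h1]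
    rw [h2]
    exact hp'
  obtain ⟨Z, j, hj, hZ⟩ := Groth.Agent.H8Coincidence.exists_locus'
    (Groth.Agent.H8Coincidence.locProj_of_finite_flat F.hom) act (CartesianMonoidalCategory.snd F X)
  refine ⟨Z.left, j.left, hj, fun T x => ?_⟩
  have e1 : (∃ y : T.left ⟶ Z.left, y ≫ j.left = x.left) ↔ ∃ z : T ⟶ Z, z ≫ j = x :=
    ⟨fun ⟨y, hy⟩ => ⟨Over.homMk y (by rw [← Over.w j, reassoc_of% hy, Over.w x]),
      Over.OverMorphism.ext hy⟩, fun ⟨z, hz⟩ => ⟨z.left, congrArg Over.Hom.left hz⟩⟩
  rw [e1]
  rw [← hZ T x, Groth.Agent.H8Coincidence.agree_iff']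
  simp only [lift_snd]

end Groth.Agent.S17685
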