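import Groth.Statements.S17687
import Mathlib

set_option autoImplicit false
universe u v w
open DiagMon

namespace Groth.Agent.S17687

/-- Let R be a commutative ring and A a commutative R-algebra of finite type graded by a commutative
monoid M. Then the set of ideals J_N, N running over all submonoids of M, where J_N is generated by
the homogeneous elements of degree not in N (the ideal of the attractor of Spec A for the magnet N),
is finite: Spec A has finitely many attractors and hence finitely many pure magnets. (The source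
assumes Spec A of finite presentation over the base; its proof uses only a finite set of homogeneous
algebra generators, so finite type is assumed here.) -/
theorem result (R : Type u) [CommRing R] (A : Type v) [CommRing A]
    [Algebra R A] [Algebra.FiniteType R A] (M : Type w) [AddCommMonoid M] [DecidableEq M]
    (𝒜 : M → Submodule R A) [GradedAlgebra 𝒜] :
    (Set.range fun N : AddSubmonoid M => Ideal.span {a : A | ∃ m : M, m ∉ N ∧ a ∈ 𝒜 m}).Finite := by
  classical
  obtain ⟨s, hs⟩ := Algebra.FiniteType.out (R := R) (A := A)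
  let T : Finset (M × A) := s.biUnion fun a => (DirectSum.decompose 𝒜 a).support.image fun m => (m, ((DirectSum.decompose 𝒜 a m : 𝒜 m) : A))
  have hT : ∀ t ∈ T, t.2 ∈ 𝒜 t.1 := by
    intro t ht
    simp only [T, Finset.mem_biUnion, Finset.mem_image] at ht
    obtain ⟨a, -, m, -, rfl⟩ := ht
    exact SetLike.coe_mem _
  refine ((T.powerset.image fun U => Ideal.span ((U.image Prod.snd : Finset A) : Set A)).finite_toSet).subset ?_
  rintro _ ⟨N, rfl⟩
  rw [Finset.mem_coe, Finset.mem_image]
  let J : Ideal A := Ideal.span (((T.filter fun t => t.1 ∉ N).image Prod.snd : Finset A) : Set A)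
  refine ⟨T.filter fun t => t.1 ∉ N, Finset.mem_powerset.2 (Finset.filter_subset _ _), le_antisymm ?_ ?_⟩
  · refine Ideal.span_mono fun x hx => ?_
    rw [Finset.mem_coe, Finset.mem_image] at hx
    obtain ⟨t, ht, rfl⟩ := hx
    rw [Finset.mem_filter] at ht
    exact ⟨t.1, ht.2, hT t ht.1⟩
  let B : Submodule R A := ⨆ m ∈ N, 𝒜 m
  have hB1 : ∀ m ∈ N, 𝒜 m ≤ B := fun m hm => le_iSup₂ (f := fun m (_ : m ∈ N) => 𝒜 m) m hm
  have hBmul : B * B ≤ B := by
    simp only [B, Submodule.iSup_mul, Submodule.mul_iSup]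
    exact iSup₂_le fun i hi => iSup₂_le fun j hj => (Submodule.mul_le.2 fun a ha b hb => SetLike.mul_mem_graded ha hb).trans (hB1 _ (N.add_mem (by assumption) (by assumption)))
  have hgen : ∀ a : A, ∃ u ∈ B, a - u ∈ J := by
    intro a
    have hmem : a ∈ Algebra.adjoin R (s : Set A) := hs ▸ Algebra.mem_top
    induction hmem using Algebra.adjoin_induction with
    | mem x hx =>
      refine ⟨∑ m ∈ (DirectSum.decompose 𝒜 x).support.filter (· ∈ N), ((DirectSum.decompose 𝒜 x m : 𝒜 m) : A), Submodule.sum_mem _ fun m hm => hB1 m (Finset.mem_filter.1 hm).2 (SetLike.coe_mem _), ?_⟩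
      conv in (x - _) => arg 1; rw [← DirectSum.sum_support_decompose 𝒜 x]
      rw [← Finset.sum_filter_add_sum_filter_not _ (· ∈ N), add_sub_cancel_left]
      refine J.sum_mem fun m hm => Ideal.subset_span ?_
      rw [Finset.mem_coe, Finset.mem_image]
      exact ⟨(m, _), Finset.mem_filter.2 ⟨Finset.mem_biUnion.2 ⟨x, hx, Finset.mem_image_of_mem _ (Finset.mem_filter.1 hm).1⟩, (Finset.mem_filter.1 hm).2⟩, rfl⟩
    | algebraMap r => exact ⟨algebraMap R A r, hB1 0 N.zero_mem (SetLike.algebraMap_mem_graded 𝒜 r), by simp⟩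
    | add x y _ _ hx hy =>
      obtain ⟨u, hu, hu'⟩ := hx; obtain ⟨v, hv, hv'⟩ := hy
      exact ⟨u + v, B.add_mem hu hv, by rw [add_sub_add_comm]; exact J.add_mem hu' hv'⟩
    | mul x y _ _ hx hy =>
      obtain ⟨u, hu, hu'⟩ := hx; obtain ⟨v, hv, hv'⟩ := hy
      refine ⟨u * v, hBmul (Submodule.mul_mem_mul hu hv), ?_⟩
      rw [show x * y - u * v = (x - u) * y + u * (y - v) by ring]
      exact J.add_mem (J.mul_mem_right _ hu') (J.mul_mem_left _ hv')
  refine Ideal.span_le.2 ?_
  rintro a ⟨m, hm, ha⟩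
  obtain ⟨u, hu, hu'⟩ := hgen a
  have hJ : J.IsHomogeneous 𝒜 := Ideal.homogeneous_span 𝒜 _ fun x hx => by
    rw [Finset.mem_coe, Finset.mem_image] at hx
    obtain ⟨t, ht, rfl⟩ := hx
    exact ⟨t.1, hT t (Finset.mem_filter.1 ht).1⟩
  have h1 := hJ m hu'
  have hu0 : ((DirectSum.decompose 𝒜 u m : 𝒜 m) : A) = 0 := by
    have : B ≤ LinearMap.ker ((𝒜 m).subtype ∘ₗ (DirectSum.component R M (fun i => 𝒜 i) m) ∘ₗ (DirectSum.decomposeLinearEquiv 𝒜).toLinearMap) :=
      iSup₂_le fun i hi y hy => by
        have := DirectSum.decompose_of_mem_ne 𝒜 hy (show i ≠ m from fun e => hm (e ▸ hi))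
        exact LinearMap.mem_ker.2 this
    exact LinearMap.mem_ker.1 (this hu)
  rw [DirectSum.decompose_sub, DirectSum.sub_apply, AddSubgroupClass.coe_sub, hu0, sub_zero, DirectSum.decompose_of_mem_same 𝒜 ha] at h1
  exact h1

end Groth.Agent.S17687
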