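import Groth.Statements.S17715
import Groth.Agent.Lib.ToddCoeff

set_option autoImplicit false
open MoretBailly

namespace Groth.Agent.S17715

/-- Write B(x) = x/(1 - e^(-x)) for the exponential generating series of the Bernoulli numbers (B'_1 =
1/2). For all natural numbers d and p the coefficient of x^3 in B(-dx)^(-1) B(-dpx) B(x)^4
e^((dp-d-3)x), i.e. the case n = 3, s = 1 of the Todd-class integrand, equals
-d(d+2)(p-1)(dp-d-2)/24 = -(d^3+2d^2) p^2/24 + (d^3+3d^2+2d) p/12 - (d^3+4d^2+4d)/24. (The published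
closed form has the same p^2 and p coefficients but constant term -(d^3+2d^2+2d)/24; direct
expansion gives the value stated here, which vanishes at p = 1.) -/
theorem result (d p : ℕ) :
    PowerSeries.coeff 3 ((PowerSeries.rescale (-(d : ℚ)) (bernoulli'PowerSeries ℚ))⁻¹ * PowerSeries.rescale (-((d : ℚ) * p)) (bernoulli'PowerSeries ℚ) * bernoulli'PowerSeries ℚ ^ (4) * PowerSeries.rescale ((d : ℚ) * p - d - 3) (PowerSeries.exp ℚ)) =
      -((d : ℚ) * (d + 2) * (p - 1) * (d * p - d - 2)) / 24 := by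
  open PowerSeries in
  have m2 : ∀ f g : ℚ⟦X⟧, coeff 2 (f * g) = coeff 0 f * coeff 2 g + coeff 1 f * coeff 1 g + coeff 2 f * coeff 0 g := by
    intro f g
    rw [coeff_mul, Finset.Nat.sum_antidiagonal_eq_sum_range_succ (fun i j => coeff i f * coeff j g) 2]
    simp [Finset.sum_range_succ]
  open PowerSeries in
  have m1 : ∀ f g : ℚ⟦X⟧, coeff 1 (f * g) = coeff 0 f * coeff 1 g + coeff 1 f * coeff 0 g := by
    intro f g
    rw [coeff_mul, Finset.Nat.sum_antidiagonal_eq_sum_range_succ (fun i j => coeff i f * coeff j g) 1]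
    simp [Finset.sum_range_succ]
  open PowerSeries in
  have m3 : ∀ f g : ℚ⟦X⟧, coeff 3 (f * g) = coeff 0 f * coeff 3 g + coeff 1 f * coeff 2 g + coeff 2 f * coeff 1 g + coeff 3 f * coeff 0 g := by
    intro f g
    rw [coeff_mul, Finset.Nat.sum_antidiagonal_eq_sum_range_succ (fun i j => coeff i f * coeff j g) 3]
    simp [Finset.sum_range_succ]
  open PowerSeries in
  have m0 : ∀ f g : ℚ⟦X⟧, coeff 0 (f * g) = coeff 0 f * coeff 0 g := fun f g => by simp [coeff_mul]
  open PowerSeries in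
  have b : coeff 0 ToddCoeff.B = 1 ∧ coeff 1 ToddCoeff.B = 1/2 ∧ coeff 2 ToddCoeff.B = 1/12 ∧ coeff 3 ToddCoeff.B = 0 := by
    simp only [ToddCoeff.coeff_B, bernoulli'_zero, bernoulli'_one, bernoulli'_two, bernoulli'_three]
    norm_num [Nat.factorial]
  obtain ⟨b0, b1, b2, b3⟩ := b
  have hR : PowerSeries.rescale (-(d : ℚ)) ToddCoeff.B * (PowerSeries.rescale (-(d : ℚ)) ToddCoeff.B)⁻¹ = 1 :=
    PowerSeries.mul_inv_cancel _ (by rw [ToddCoeff.const_rescale_B]; exact one_ne_zero)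
  have e0 := congrArg (PowerSeries.coeff 0) hR
  have e1 := congrArg (PowerSeries.coeff 1) hR
  have e2 := congrArg (PowerSeries.coeff 2) hR
  have e3 := congrArg (PowerSeries.coeff 3) hR
  rw [show (d : ℚ) * p - d - 3 = d * p + (-(d : ℚ) - 3) by ring, show (4 : ℕ) = 3 + 1 from rfl]
  rw [ToddCoeff.split, ToddCoeff.Q, show (3 + 1 : ℕ) = 4 from rfl,
    show ToddCoeff.B ^ 4 = ToddCoeff.B * ToddCoeff.B * (ToddCoeff.B * ToddCoeff.B) by ring]
  simp only [m0, m1, m2, m3, PowerSeries.coeff_rescale, PowerSeries.coeff_exp, PowerSeries.coeff_one, b0, b1, b2, b3] at e0 e1 e2 e3 ⊢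
  norm_num [Nat.factorial] at e0 e1 e2 e3 ⊢
  generalize PowerSeries.coeff 1 (PowerSeries.rescale (-(d : ℚ)) ToddCoeff.B)⁻¹ = u1 at *
  generalize PowerSeries.coeff 2 (PowerSeries.rescale (-(d : ℚ)) ToddCoeff.B)⁻¹ = u2 at *
  generalize PowerSeries.coeff 3 (PowerSeries.rescale (-(d : ℚ)) ToddCoeff.B)⁻¹ = u3 at *
  simp only [e0] at *
  have h1 : u1 = -(d : ℚ) * (-(1/2)) := by linarith
  subst h1
  have h2 : u2 = (d : ℚ)^2 / 6 := by linarith
  subst h2
  have h3 : u3 = (d : ℚ)^3 / 24 := by linarith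
  subst h3
  ring

end Groth.Agent.S17715
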