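import Groth.Statements.S17717
import Mathlib

set_option autoImplicit false
open MoretBailly

namespace Groth.Agent.S17717

/-- Write B(x) = x/(1 - e^(-x)) for the exponential generating series of the Bernoulli numbers (B'_1 =
1/2). For all natural numbers d, p and every integer s the coefficient of x in B(-dx)^(-1) B(-dpx)
B(x)^2 e^((dp-d-2+s)x), i.e. the case n = 1 of the Todd-class integrand, equals d(p-1)/2 + s - 1. -/
theorem result (d p : ℕ) (s : ℤ) :
    PowerSeries.coeff 1 ((PowerSeries.rescale (-(d : ℚ)) (bernoulli'PowerSeries ℚ))⁻¹ * PowerSeries.rescale (-((d : ℚ) * p)) (bernoulli'PowerSeries ℚ) * bernoulli'PowerSeries ℚ ^ (2) * PowerSeries.rescale ((d : ℚ) * p - d - 2 + s) (PowerSeries.exp ℚ)) =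
      (d : ℚ) * (p - 1) / 2 + s - 1 := by
  have h1 : ∀ a b : PowerSeries ℚ, PowerSeries.coeff 1 (a * b) =
      PowerSeries.coeff 1 a * PowerSeries.constantCoeff b + PowerSeries.constantCoeff a * PowerSeries.coeff 1 b := fun a b => by
    rw [PowerSeries.coeff_mul, Finset.Nat.sum_antidiagonal_succ, Finset.Nat.antidiagonal_zero, Finset.sum_singleton]
    simp [add_comm]
  set B := bernoulli'PowerSeries ℚ
  have hB0 : PowerSeries.constantCoeff B = 1 := by simp [B, bernoulli'PowerSeries]
  have hB1 : PowerSeries.coeff 1 B = 1 / 2 := by simp [B, bernoulli'PowerSeries]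
  have hr0 : ∀ (a : ℚ) (f : PowerSeries ℚ), PowerSeries.constantCoeff (PowerSeries.rescale a f) = PowerSeries.constantCoeff f := fun a f => by
    rw [← PowerSeries.coeff_zero_eq_constantCoeff_apply, PowerSeries.coeff_rescale]; simp
  set A := PowerSeries.rescale (-(d : ℚ)) B
  have hA0 : PowerSeries.constantCoeff A = 1 := by rw [hr0, hB0]
  have hA1 : PowerSeries.coeff 1 A = -(d : ℚ) / 2 := by
    rw [PowerSeries.coeff_rescale, hB1]; ring
  have hi0 : PowerSeries.constantCoeff A⁻¹ = 1 := by rw [PowerSeries.constantCoeff_inv, hA0, inv_one]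
  have hi1 : PowerSeries.coeff 1 A⁻¹ = (d : ℚ) / 2 := by
    have h := h1 A A⁻¹
    rw [PowerSeries.mul_inv_cancel A (by rw [hA0]; exact one_ne_zero), hA0, hA1, hi0] at h
    simp at h
    linarith
  rw [pow_two, h1, h1, h1, h1]
  simp only [map_mul, hi0, hi1, hr0, hB0, hB1, PowerSeries.constantCoeff_exp, PowerSeries.coeff_rescale, PowerSeries.coeff_exp]
  norm_num
  ring

end Groth.Agent.S17717
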