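import Groth.Statements.S17720
import Mathlib

set_option autoImplicit false
universe u
open CAlg

namespace Groth.Agent.S17720
open MvPowerSeries IsLocalRing

open MvPowerSeries IsLocalRing in
/-- Let A be a Noetherian local ring and α, β two elements of its maximal ideal. If the quotient of the
power series ring in two variables over A by xy − α is isomorphic, as an A-algebra, to the quotient
by xy − β, then αA = βA. (The published statement allows any local ring A; it is taken Noetherian
here, the case in which an algebra isomorphism between these complete local rings is continuous for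
their adic topologies.) -/
theorem result
    (A : Type u) [CommRing A] [IsLocalRing A] [IsNoetherianRing A]
    (α β : A) (hα : α ∈ maximalIdeal A) (hβ : β ∈ maximalIdeal A)
    (φ : (MvPowerSeries (Fin 2) A ⧸ Ideal.span {(X 0 * X 1 - C α : MvPowerSeries (Fin 2) A)}) ≃ₐ[A] (MvPowerSeries (Fin 2) A ⧸ Ideal.span {(X 0 * X 1 - C β : MvPowerSeries (Fin 2) A)})) :
    Ideal.span {α} = Ideal.span {β} := by
  classical
  have main : ∀ (α β : A), α ∈ maximalIdeal A → β ∈ maximalIdeal A →
      ((MvPowerSeries (Fin 2) A ⧸ Ideal.span {(X 0 * X 1 - C α : MvPowerSeries (Fin 2) A)}) ≃ₐ[A] (MvPowerSeries (Fin 2) A ⧸ Ideal.span {(X 0 * X 1 - C β : MvPowerSeries (Fin 2) A)})) →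
      Ideal.span {α} ≤ Ideal.span {β} := by
    intro α β hα hβ φ
    let B := Ideal.span {β}
    let q := Ideal.Quotient.mk B
    let mkA := Ideal.Quotient.mk (Ideal.span {(X 0 * X 1 - C α : MvPowerSeries (Fin 2) A)})
    let mkB := Ideal.Quotient.mk (Ideal.span {(X 0 * X 1 - C β : MvPowerSeries (Fin 2) A)})
    let L0 : MvPowerSeries (Fin 2) A → A ⧸ B := fun F => q (constantCoeff F)
    let L : Fin 2 → MvPowerSeries (Fin 2) A → A ⧸ B := fun i F => q (coeff (Finsupp.single i 1) F)
    have hmul : ∀ (i : Fin 2) (F G : MvPowerSeries (Fin 2) A), coeff (Finsupp.single i 1) (F * G) =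
        constantCoeff F * coeff (Finsupp.single i 1) G + coeff (Finsupp.single i 1) F * constantCoeff G := by
      intro i F G
      rw [coeff_mul, Finsupp.antidiagonal_single, Finset.sum_map]
      rw [show Finset.HasAntidiagonal.antidiagonal 1 = ({(0,1),(1,0)} : Finset (ℕ × ℕ)) from rfl, Finset.sum_pair (by simp)]
      simp
    have hI : ∀ F G, mkB F = mkB G → L0 F = L0 G ∧ ∀ i, L i F = L i G := by
      intro F G h
      obtain ⟨H, hH⟩ := Ideal.mem_span_singleton.mp (Ideal.Quotient.eq.mp h)
      have hF : F = G + (X 0 * X 1 - C β) * H := by rw [← hH]; ring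
      have hqβ : q β = 0 := Ideal.Quotient.eq_zero_iff_mem.mpr (Ideal.mem_span_singleton_self β)
      refine ⟨?_, fun i => ?_⟩
      · simp only [L0, hF, map_add, map_mul, map_sub, constantCoeff_X, constantCoeff_C, hqβ]; simp
      · have h1 : coeff (Finsupp.single i 1) (X 0 * X 1 - C β : MvPowerSeries (Fin 2) A) = 0 := by
          rw [map_sub, hmul]; simp [coeff_C]
        simp only [L, hF, map_add, hmul, map_mul, h1, map_sub, constantCoeff_X, constantCoeff_C, hqβ]; simp
    obtain ⟨P, hP⟩ := Ideal.Quotient.mk_surjective (φ (mkA (X 0)))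
    obtain ⟨Q, hQ⟩ := Ideal.Quotient.mk_surjective (φ (mkA (X 1)))
    have hC : ∀ a : A, φ (mkA (C a)) = mkB (C a) := fun a => φ.commutes a
    have hPQ : mkB (P * Q) = mkB (C α) := by
      rw [map_mul, hP, hQ, ← map_mul, ← map_mul, ← hC]
      congr 1
      rw [Ideal.Quotient.eq]
      exact Ideal.mem_span_singleton_self _
    obtain ⟨h0, h1⟩ := hI _ _ hPQ
    simp only [L0, L, hmul, map_mul, map_add, constantCoeff_C, coeff_C] at h0 h1
    have hnon : ∀ i, q (constantCoeff (if i = 0 then P else Q)) ∈ (maximalIdeal A).map q := by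
      intro i
      refine Ideal.mem_map_of_mem _ ?_
      by_contra hu
      rw [mem_maximalIdeal, mem_nonunits_iff, not_not] at hu
      have hu2 : IsUnit (mkB (if i = 0 then P else Q)) := (MvPowerSeries.isUnit_iff_constantCoeff.mpr hu).map mkB
      have hu3 : IsUnit (mkA (X (if i = 0 then 0 else 1) : MvPowerSeries (Fin 2) A)) := by
        have := hu2.map φ.symm
        split_ifs at this ⊢ with hi
        · rwa [hP, AlgEquiv.symm_apply_apply] at this
        · rwa [hQ, AlgEquiv.symm_apply_apply] at this
      obtain ⟨G, hG⟩ := hu3.exists_right_inv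
      obtain ⟨G, rfl⟩ := Ideal.Quotient.mk_surjective G
      rw [← map_mul, ← map_one mkA, Ideal.Quotient.eq] at hG
      obtain ⟨H, hH⟩ := Ideal.mem_span_singleton.mp hG
      have := congrArg constantCoeff hH
      simp only [map_sub, map_mul, constantCoeff_X, constantCoeff_C, map_one, zero_mul, zero_sub] at this
      apply (maximalIdeal.isMaximal A).ne_top
      rw [Ideal.eq_top_iff_one]
      have h1' : (1 : A) = α * constantCoeff H := by linear_combination -this
      rw [h1']; exact Ideal.mul_mem_right _ _ hα
    have hc := hnon 0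
    have hd := hnon 1
    simp at hc hd
    let mm := (maximalIdeal A).map q
    have hmm : mm ≠ ⊤ := by
      intro h
      have := congrArg (Ideal.comap q) h
      rw [Ideal.comap_map_of_surjective _ Ideal.Quotient.mk_surjective, ← RingHom.ker_eq_comap_bot, Ideal.mk_ker, Ideal.comap_top,
        sup_eq_left.mpr ((Ideal.span_singleton_le_iff_mem _).mpr hβ)] at this
      exact (maximalIdeal.isMaximal A).ne_top this
    have hsolve : ∀ k : Fin 2, ∃ s t : A ⧸ B, ∀ i, q (if k = i then 1 else 0) - (s * L i P + t * L i Q) ∈ mm := by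
      intro k
      obtain ⟨z, hz⟩ := φ.surjective (mkB (X k))
      obtain ⟨F, rfl⟩ := Ideal.Quotient.mk_surjective z
      let G : MvPowerSeries (Fin 2) A := fun n => if n 0 = 0 then coeff n F else 0
      obtain ⟨F1, hF1⟩ := (X_dvd_iff (s := (0 : Fin 2)) (φ := F - G)).mpr (fun n hn => by
        rw [map_sub]; show coeff n F - (if n 0 = 0 then coeff n F else 0) = 0; rw [if_pos hn, sub_self])
      obtain ⟨F2, hF2⟩ := (X_dvd_iff (s := (1 : Fin 2)) (φ := G - C (constantCoeff F))).mpr (fun n hn => by
        rw [map_sub, coeff_C]; show (if n 0 = 0 then coeff n F else 0) - _ = 0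
        by_cases h0 : n 0 = 0
        · have : n = 0 := by ext j; fin_cases j <;> simp [h0, hn]
          simp [this]
        · have : n ≠ 0 := fun h => h0 (by rw [h]; rfl)
          simp [h0, this])
      obtain ⟨F1', hF1'⟩ := Ideal.Quotient.mk_surjective (φ (mkA F1))
      obtain ⟨F2', hF2'⟩ := Ideal.Quotient.mk_surjective (φ (mkA F2))
      have hF : F = C (constantCoeff F) + X 0 * F1 + X 1 * F2 := by rw [← hF1, ← hF2]; ring
      have hk : mkB (X k) = mkB (C (constantCoeff F) + P * F1' + Q * F2') := by
        rw [← hz]; conv_lhs => rw [hF]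
        simp only [map_add, map_mul]
        simp only [mkA, mkB] at *
        rw [hC, hP, hQ, hF1', hF2']
      refine ⟨L0 F1', L0 F2', fun i => ?_⟩
      have h := (hI _ _ hk).2 i
      simp only [L, map_add, hmul, coeff_C, coeff_X, map_mul, constantCoeff_C] at h
      rw [show q (if k = i then 1 else 0) = q (if Finsupp.single i 1 = Finsupp.single k 1 then (1:A) else 0) by
        congr 1; simp [Finsupp.single_left_inj, eq_comm], h]
      simp only [L0, L, Finsupp.single_eq_zero, one_ne_zero, if_false, map_zero, zero_add]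
      rw [show ∀ a b c d e f g h' : A ⧸ B, a * b + c * d + (e * f + g * h') - (d * c + h' * g) = a * b + e * f from fun _ _ _ _ _ _ _ _ => by ring]
      exact add_mem (Ideal.mul_mem_right _ _ hc) (Ideal.mul_mem_right _ _ hd)
    obtain ⟨s0, t0, e0⟩ := hsolve 0
    obtain ⟨s1, t1, e1⟩ := hsolve 1
    have hdet : IsUnit (L 0 P * L 1 Q - L 1 P * L 0 Q) := by
      haveI : Nontrivial (A ⧸ B) := Ideal.Quotient.nontrivial_iff.mpr fun h =>
        (maximalIdeal.isMaximal A).ne_top (top_le_iff.mp (h ▸ (Ideal.span_singleton_le_iff_mem _).mpr hβ))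
      haveI : IsLocalRing (A ⧸ B) := IsLocalRing.of_surjective' q Ideal.Quotient.mk_surjective
      have hmax : mm ≤ maximalIdeal (A ⧸ B) := IsLocalRing.le_maximalIdeal hmm
      by_contra hu
      have hD : L 0 P * L 1 Q - L 1 P * L 0 Q ∈ maximalIdeal (A ⧸ B) := by rwa [mem_maximalIdeal]
      have := e0 0; have := e0 1; have := e1 0; have := e1 1
      rw [← residue_eq_zero_iff] at hD
      have r00 := (residue_eq_zero_iff _).mpr (hmax (e0 0))
      have r01 := (residue_eq_zero_iff _).mpr (hmax (e0 1))
      have r10 := (residue_eq_zero_iff _).mpr (hmax (e1 0))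
      have r11 := (residue_eq_zero_iff _).mpr (hmax (e1 1))
      simp only [map_sub, map_add, map_mul] at hD r00 r01 r10 r11
      simp at r00 r01 r10 r11
      apply one_ne_zero (α := ResidueField (A ⧸ B))
      linear_combination (residue _ s1 * residue _ (L 1 P) + residue _ t1 * residue _ (L 1 Q)) * r00 + r11
        - (residue _ s1 * residue _ (L 0 P) + residue _ t1 * residue _ (L 0 Q)) * r01
        + (residue _ s0 * residue _ t1 - residue _ s1 * residue _ t0) * hD
    have e1' := h1 0
    have e2' := h1 1
    simp [Finsupp.single_eq_zero] at e1' e2'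
    have hcz : q (constantCoeff P) = 0 := by
      have : q (constantCoeff P) * (L 0 P * L 1 Q - L 1 P * L 0 Q) = 0 := by
        simp only [L]
        linear_combination (q (coeff (Finsupp.single (0 : Fin 2) 1) P)) * e2' - (q (coeff (Finsupp.single (1 : Fin 2) 1) P)) * e1'
      exact hdet.mul_left_eq_zero.mp this
    rw [hcz, zero_mul] at h0
    exact (Ideal.span_singleton_le_iff_mem _).mpr (Ideal.Quotient.eq_zero_iff_mem.mp h0.symm)
  exact le_antisymm (main α β hα hβ φ) (main β α hβ hα φ.symm)

end Groth.Agent.S17720
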