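import Groth.Statements.S17721
import Mathlib

set_option autoImplicit false
universe u
open CAlg

namespace Groth.Agent.S17721
open MvPolynomial

open Polynomial IsLocalRing in
/-- Let R be a complete discrete valuation ring with fraction field K, and f a polynomial over R with
non-zero constant term a₀ such that a₀ does not divide some coefficient of f of positive degree
(equivalently, the Newton polygon of f has a side of negative slope). Let b be the power series over
K with b · f = a₀, the expansion of the geometric series in 1 − f/a₀. Then the valuations of the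
coefficients b_j are not bounded below: for every non-zero c in R there is an index j with c · b_j
outside R. -/
theorem result
    (R : Type u) [CommRing R] [IsDomain R] [IsDiscreteValuationRing R]
    [IsAdicComplete (maximalIdeal R) R]
    (K : Type u) [Field K] [Algebra R K] [IsFractionRing R K]
    (f : R[X]) (h0 : f.coeff 0 ≠ 0) (hslope : ∃ i : ℕ, 0 < i ∧ ¬ (f.coeff 0 ∣ f.coeff i))
    (b : PowerSeries K)
    (hb : b * ((f.map (algebraMap R K) : K[X]) : PowerSeries K) = PowerSeries.C (algebraMap R K (f.coeff 0))) :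
    ∀ c : R, c ≠ 0 → ∃ j : ℕ, algebraMap R K c * PowerSeries.coeff j b ∉ (algebraMap R K).range := by
  intro c hc
  by_contra H
  push Not at H
  choose g hg using H
  let G : PowerSeries R := PowerSeries.mk g
  let P : PowerSeries R := (f : PowerSeries R)
  have hinj : Function.Injective (algebraMap R K) := IsFractionRing.injective R K
  have hGP : G * P = PowerSeries.C (c * f.coeff 0) := by
    apply PowerSeries.map_injective _ hinj
    have hGm : PowerSeries.map (algebraMap R K) G = PowerSeries.C (algebraMap R K c) * b := by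
      ext j; simp [G, hg]
    rw [map_mul, hGm, PowerSeries.map_C, map_mul, map_mul, ← hb]
    have hPm : PowerSeries.map (algebraMap R K) P = ((f.map (algebraMap R K) : Polynomial K) : PowerSeries K) := by
      ext j; simp [P]
    rw [hPm]; ring
  obtain ⟨ϖ, hϖ⟩ := IsDiscreteValuationRing.exists_irreducible R
  have hp : Prime ϖ := hϖ.prime
  have hC : ∀ (x : PowerSeries R) (t : R), PowerSeries.C t ∣ x ↔ ∀ i, t ∣ PowerSeries.coeff i x := by
    intro x t; constructor
    · rintro ⟨y, rfl⟩ i; simp
    · intro h; choose y hy using h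
      exact ⟨PowerSeries.mk y, by ext i; simp [hy]⟩
  have hCp : Prime (PowerSeries.C ϖ : PowerSeries R) := by
    haveI : (Ideal.span {ϖ}).IsPrime := (Ideal.span_singleton_prime hp.ne_zero).mpr hp
    refine ⟨(map_ne_zero_iff _ PowerSeries.C_injective).mpr hp.ne_zero, ?_, ?_⟩
    · rw [PowerSeries.isUnit_iff_constantCoeff, PowerSeries.constantCoeff_C]; exact hp.not_unit
    · intro x y hxy
      have key : ∀ z : PowerSeries R, PowerSeries.C ϖ ∣ z ↔ PowerSeries.map (Ideal.Quotient.mk (Ideal.span {ϖ})) z = 0 := by
        intro z; rw [hC, PowerSeries.ext_iff]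
        simp [Ideal.Quotient.eq_zero_iff_dvd]
      rw [key, map_mul, mul_eq_zero] at hxy
      rcases hxy with h | h
      · exact Or.inl ((key x).mpr h)
      · exact Or.inr ((key y).mpr h)
  obtain ⟨n, u, hu⟩ := IsDiscreteValuationRing.eq_unit_mul_pow_irreducible (mul_ne_zero hc h0) hϖ
  have hdvd : PowerSeries.C (c * f.coeff 0) ∣ G * P := by rw [hGP]
  obtain ⟨a, hca⟩ := IsDiscreteValuationRing.eq_unit_mul_pow_irreducible hc hϖ
  obtain ⟨i, hi, hdi⟩ := hslope
  obtain ⟨v, hca⟩ := hca
  obtain ⟨e, w, hew⟩ := IsDiscreteValuationRing.eq_unit_mul_pow_irreducible h0 hϖ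
  -- induction
  have key : ∀ (e a : ℕ) (G P : PowerSeries R), PowerSeries.C (ϖ ^ (a + e)) ∣ G * P →
      ¬ PowerSeries.C (ϖ ^ e) ∣ P → PowerSeries.C (ϖ ^ (a + 1)) ∣ G := by
    intro e a G P h hP
    rw [map_pow] at h hP ⊢
    induction a generalizing G with
    | zero =>
      rw [zero_add, pow_one]
      by_contra hG
      exact hP (hCp.pow_dvd_of_dvd_mul_left e hG (by simpa using h))
    | succ a ih =>
      have h1 : PowerSeries.C ϖ ^ (a + 1) ∣ G := ih G (dvd_trans (pow_dvd_pow _ (by omega)) h)
      obtain ⟨G', rfl⟩ := h1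
      rw [pow_succ _ (a+1)]
      refine mul_dvd_mul_left _ ?_
      by_contra hG
      refine hP (hCp.pow_dvd_of_dvd_mul_left e hG ?_)
      rw [mul_assoc, pow_add] at h
      exact (mul_dvd_mul_iff_left (pow_ne_zero _ hCp.ne_zero)).mp h
  have hPnd : ¬ PowerSeries.C (ϖ ^ e) ∣ P := by
    intro h
    have := (hC _ _).mp h i
    simp only [P, Polynomial.coeff_coe] at this
    apply hdi; rw [hew]; exact (Units.mul_left_dvd).mpr this
  have hG := key e a G P (by
    rw [hGP]; exact map_dvd _ ⟨(v : R) * w, by rw [hca, hew, pow_add]; ring⟩) hPnd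
  have h00 := congrArg (PowerSeries.coeff 0) hGP
  rw [PowerSeries.coeff_zero_C, PowerSeries.coeff_zero_eq_constantCoeff_apply, map_mul] at h00
  have hP0 : PowerSeries.constantCoeff P = f.coeff 0 := by simp [P]
  rw [hP0] at h00
  have hg0 := (hC _ _).mp hG 0
  rw [PowerSeries.coeff_zero_eq_constantCoeff_apply, mul_right_cancel₀ h0 h00, hca, Units.dvd_mul_left,
    pow_dvd_pow_iff hp.ne_zero hp.not_unit] at hg0
  omega

end Groth.Agent.S17721
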