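import Groth.Statements.S17723
import Mathlib

set_option autoImplicit false
universe u
open LabGraph

namespace Groth.Agent.S17723

/-- Let G be a finite connected multigraph with endpoint map ends and edge labels l taking positive
integer values. We say g : V → ℤ is elementary-Cartier if, for some integer n ≥ 1, all values of g
are multiples of n and, for each edge whose label fails to divide n, g agrees at its two endpoints
(equivalently, once the edges with label dividing n are removed, g takes a single value on each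
connected piece of what remains). Then every Cartier function f (for each edge, the label divides
the difference of the values of f at its endpoints) lies in the ℤ-span of the elementary-Cartier
functions. -/
theorem result
    {V E : Type u} [Fintype V] [Fintype E] [DecidableEq V] [DecidableEq E]
    (ends : E → V × V) (l : E → ℕ) (hl : ∀ e, 0 < l e) (hconn : LabGraph.Connected ends)
    (f : V → ℤ) (hf : LabGraph.IsCartier ends l f) :
    f ∈ Submodule.span ℤ {g : V → ℤ | ∃ n : ℕ, 0 < n ∧ (∀ v, (n : ℤ) ∣ g v) ∧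
      ∀ e, ¬ (l e ∣ n) → g (ends e).1 = g (ends e).2} := by
  set Sp := Submodule.span ℤ {g : V → ℤ | ∃ n : ℕ, 0 < n ∧ (∀ v, (n : ℤ) ∣ g v) ∧
      ∀ e, ¬ (l e ∣ n) → g (ends e).1 = g (ends e).2} with hSp
  let M := Finset.univ.lcm l
  have hM : 0 < M := Nat.pos_of_ne_zero fun h => by
    obtain ⟨e, -, he⟩ := Finset.lcm_eq_zero_iff.1 h
    exact (hl e).ne' he
  have hlM : ∀ e, l e ∣ M := fun e => Finset.dvd_lcm (Finset.mem_univ e)
  have hbig : ∀ g : V → ℤ, (∀ v, (M : ℤ) ∣ g v) → g ∈ Sp := fun g hg =>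
    Submodule.subset_span ⟨M, hM, hg, fun e he => absurd (hlM e) he⟩
  let I : Ideal ℤ := Submodule.comap (LinearMap.toSpanSingleton ℤ (V → ℤ) f) Sp
  have hI : ∀ c : ℤ, c ∈ I ↔ c • f ∈ Sp := fun c => Iff.rfl
  obtain ⟨d, hd⟩ := (IsPrincipalIdealRing.principal I).principal
  have hdd : ∀ c : ℤ, c ∈ I → d ∣ c := fun c hc => Ideal.mem_span_singleton.1 ((show I = Ideal.span {d} from hd) ▸ hc)
  have hdM : d ∣ (M : ℤ) := hdd _ ((hI _).2 (hbig _ fun v => Dvd.intro _ rfl))
  suffices h1 : (1 : ℤ) ∈ I by simpa using (hI 1).1 h1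
  rw [hd]
  refine Ideal.mem_span_singleton.2 (Int.natAbs_dvd.1 ?_)
  by_contra hne
  obtain ⟨p, hp, hpd⟩ := Nat.exists_prime_and_dvd (fun h : d.natAbs = 1 => hne (by simp [h]))
  obtain ⟨a, N, hN, hMN⟩ := Nat.exists_eq_pow_mul_and_not_dvd hM.ne' p hp.ne_one
  refine hN (hpd.trans (Int.natAbs_dvd_natAbs.2 (hdd (N : ℤ) ((hI _).2 ?_))))
  let h : ℕ → V → ℤ := fun j v => f v % ((p : ℤ) ^ (j + 1)) - f v % ((p : ℤ) ^ j)
  have hsum : ∀ v, ∑ j ∈ Finset.range a, h j v = f v % ((p : ℤ) ^ a) := fun v => by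
    rw [Finset.sum_range_sub (fun j => f v % ((p : ℤ) ^ j))]
    simp
  have heq : (N : ℤ) • f = ∑ j ∈ Finset.range a, (N : ℤ) • h j +
      fun v => (N : ℤ) * (f v - f v % ((p : ℤ) ^ a)) := by
    funext v
    simp only [Pi.add_apply, Finset.sum_apply, Pi.smul_apply, smul_eq_mul, ← Finset.mul_sum, hsum]
    ring
  rw [heq]
  refine Submodule.add_mem _ (Submodule.sum_mem _ fun j hj => ?_) (hbig _ fun v => ?_)
  · refine Submodule.subset_span ⟨p ^ j * N, Nat.mul_pos (pow_pos hp.pos j) (Nat.pos_of_ne_zero fun h => hN (h ▸ dvd_zero p)), fun v => ?_, fun e he => ?_⟩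
    · rw [Pi.smul_apply, smul_eq_mul]
      push_cast
      rw [mul_comm ((p : ℤ) ^ j)]
      refine mul_dvd_mul_left _ (Int.dvd_of_emod_eq_zero ?_)
      show (f v % (p : ℤ) ^ (j + 1) - f v % (p : ℤ) ^ j) % (p : ℤ) ^ j = 0
      rw [Int.sub_emod, Int.emod_emod_of_dvd _ (pow_dvd_pow (p : ℤ) j.le_succ), Int.emod_emod, sub_self, Int.zero_emod]
    · obtain ⟨i, l', hl', hle⟩ := Nat.exists_eq_pow_mul_and_not_dvd (hl e).ne' p hp.ne_one
      have hl'N : l' ∣ N := by
        refine ((Nat.Coprime.pow_right a ((hp.coprime_iff_not_dvd).2 hl').symm)).dvd_of_dvd_mul_left ?_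
        rw [← hMN]
        exact (Dvd.intro_left _ hle.symm).trans (hlM e)
      have hij : j + 1 ≤ i := by
        by_contra hc
        exact he (hle ▸ mul_dvd_mul (pow_dvd_pow p (by omega)) hl'N)
      have hdiff : (p : ℤ) ^ (j + 1) ∣ f (ends e).1 - f (ends e).2 := by
        refine (pow_dvd_pow (p : ℤ) hij).trans (Dvd.dvd.trans ?_ (hf e))
        exact ⟨(l' : ℤ), by rw [hle]; push_cast; ring⟩
      have e1 : f (ends e).1 % (p : ℤ) ^ (j + 1) = f (ends e).2 % (p : ℤ) ^ (j + 1) :=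
        Int.emod_eq_emod_iff_emod_sub_eq_zero.2 (Int.emod_eq_zero_of_dvd hdiff)
      have e2 : f (ends e).1 % (p : ℤ) ^ j = f (ends e).2 % (p : ℤ) ^ j :=
        Int.emod_eq_emod_iff_emod_sub_eq_zero.2 (Int.emod_eq_zero_of_dvd ((pow_dvd_pow (p : ℤ) j.le_succ).trans hdiff))
      show (N : ℤ) * (_ - _) = (N : ℤ) * (_ - _)
      rw [e1, e2]
  · rw [hMN]
    push_cast
    rw [mul_comm ((p : ℤ) ^ a)]
    exact mul_dvd_mul_left _ Int.dvd_self_sub_emod

end Groth.Agent.S17723
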