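import Groth.Statements.S17724
import Groth.Agent.Lib.LabGraphForest

set_option autoImplicit false
universe u v
open LabGraph

namespace Groth.Agent.S17724

/-- Let G be a finite connected multigraph with endpoint map ends, whose edges carry labels lab in a set
L and positive integer labels n, and suppose the L-labels are constant along every circuit. Say g :
V → ℤ is pre-achievable when for some finite set B of edges all carrying the same L-label, g takes
equal values at the two endpoints of every edge outside B (so g is constant on the connected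
components of the graph with B deleted); say g is Cartier when for every edge e the integer n(e)
divides the difference of the values of g at its endpoints. Then every Cartier function f is a
finite sum of functions each of which is Cartier and pre-achievable, and when f vanishes at a vertex
v₀ the summands can all be taken to vanish at v₀. -/
theorem result
    {V E : Type u} [Fintype V] [Fintype E] [DecidableEq V] [DecidableEq E] {L : Type v}
    (ends : E → V × V) (lab : E → L) (n : E → ℕ) (hn : ∀ e, 0 < n e)
    (hconn : LabGraph.Connected ends)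
    (hcirc : ∀ C : Finset E, LabGraph.IsCircuit ends C → ∀ e ∈ C, ∀ e' ∈ C, lab e = lab e')
    (f : V → ℤ) (hf : LabGraph.IsCartier ends n f) :
    f ∈ AddSubmonoid.closure {g : V → ℤ | LabGraph.IsCartier ends n g ∧ (∃ B : Finset E, (∀ e ∈ B, ∀ e' ∈ B, lab e = lab e') ∧ ∀ e, e ∉ B → g (ends e).1 = g (ends e).2)} ∧
    ∀ v₀ : V, f v₀ = 0 →
      f ∈ AddSubmonoid.closure {g : V → ℤ | LabGraph.IsCartier ends n g ∧ (∃ B : Finset E, (∀ e ∈ B, ∀ e' ∈ B, lab e = lab e') ∧ ∀ e, e ∉ B → g (ends e).1 = g (ends e).2) ∧ g v₀ = 0} := by
  classical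
  have orth : ∀ (t : L) (γ : E → ℤ), (∀ v, LabGraph.boundary ends γ v = 0) →
      ∑ e, γ e * (if lab e = t then LabGraphForest.gr ends f e else 0) = 0 := by
    intro t γ
    induction hc : (Finset.univ.filter fun e => γ e ≠ 0).card using Nat.strong_induction_on generalizing γ with
    | _ n ih =>
      intro hγ
      by_cases h0 : ∀ e, γ e = 0
      · simp [h0]
      push Not at h0
      obtain ⟨e₁, he₁⟩ := h0
      obtain ⟨C, hC, hsupp⟩ := LabGraphForest.exists_circuit_support hγ he₁
      obtain ⟨e₀, he₀⟩ := hC.1
      obtain ⟨δ, hδ, hδ1, hbδ⟩ := LabGraphForest.exists_cycle_of_circuit hC he₀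
      have hrest : ∑ e, δ e * (if lab e = t then LabGraphForest.gr ends f e else 0) = 0 := by
        by_cases ht : lab e₀ = t
        · rw [← LabGraphForest.sum_mul_gr_eq_zero hbδ f]
          refine Finset.sum_congr rfl fun e _ => ?_
          by_cases heC : e ∈ C
          · rw [if_pos ((hcirc C hC e heC e₀ he₀).trans ht)]
          · rw [hδ e heC, zero_mul, zero_mul]
        · refine Finset.sum_eq_zero fun e _ => ?_
          by_cases heC : e ∈ C
          · rw [if_neg (fun h => ht ((hcirc C hC e₀ he₀ e heC).trans h)), mul_zero]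
          · rw [hδ e heC, zero_mul]
      let γ' : E → ℤ := γ + (-γ e₀) • δ
      have hlt : (Finset.univ.filter fun e => γ' e ≠ 0).card < n := by
        rw [← hc]
        refine Finset.card_lt_card (Finset.ssubset_iff_of_subset ?_ |>.2 ⟨e₀, by simpa using hsupp e₀ he₀, by simp [γ', hδ1]⟩)
        intro e he
        simp only [Finset.mem_filter, Finset.mem_univ, true_and] at he ⊢
        intro h
        by_cases heC : e ∈ C
        · exact hsupp e heC h
        · exact he (by simp [γ', h, hδ e heC])
      have h2 := ih _ hlt γ' rfl fun v => by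
        simp only [γ', LabGraphForest.boundary_add, LabGraphForest.boundary_smul, hγ, hbδ]; ring
      simp only [γ', Pi.add_apply, Pi.smul_apply, smul_eq_mul, add_mul, mul_assoc, Finset.sum_add_distrib, ← Finset.mul_sum, hrest] at h2
      linarith
  have main : ∀ v₀ : V, f ∈ AddSubmonoid.closure {g : V → ℤ | LabGraph.IsCartier ends n g ∧ (∃ B : Finset E, (∀ e ∈ B, ∀ e' ∈ B, lab e = lab e') ∧ ∀ e, e ∉ B → g (ends e).1 = g (ends e).2)} ∧
      (f v₀ = 0 → f ∈ AddSubmonoid.closure {g : V → ℤ | LabGraph.IsCartier ends n g ∧ (∃ B : Finset E, (∀ e ∈ B, ∀ e' ∈ B, lab e = lab e') ∧ ∀ e, e ∉ B → g (ends e).1 = g (ends e).2) ∧ g v₀ = 0}) := by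
    intro v₀
    choose g hg0 hg using fun t => LabGraphForest.exists_gr_of_orth hconn
      (fun e => if lab e = t then LabGraphForest.gr ends f e else 0) (orth t) v₀
    have hsum : f = (fun _ => f v₀) + ∑ t ∈ Finset.univ.image lab, g t := by
      refine LabGraphForest.eq_of_gr hconn (fun e => ?_) (v₀ := v₀) (by simp [hg0])
      unfold LabGraphForest.gr
      simp only [Pi.add_apply, Finset.sum_apply, add_sub_add_left_eq_sub, ← Finset.sum_sub_distrib]
      have : ∀ t, g t (ends e).2 - g t (ends e).1 = if lab e = t then LabGraphForest.gr ends f e else 0 := fun t => hg t e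
      simp only [this, Finset.sum_ite_eq, Finset.mem_image_of_mem lab (Finset.mem_univ e), if_true]
      rfl
    have hgood : ∀ t, LabGraph.IsCartier ends n (g t) ∧ (∃ B : Finset E, (∀ e ∈ B, ∀ e' ∈ B, lab e = lab e') ∧ ∀ e, e ∉ B → g t (ends e).1 = g t (ends e).2) ∧ g t v₀ = 0 := by
      intro t
      refine ⟨fun e => ?_, ⟨Finset.univ.filter fun e => lab e = t, fun e he e' he' => (Finset.mem_filter.1 he).2.trans (Finset.mem_filter.1 he').2.symm, fun e he => ?_⟩, hg0 t⟩
      · have h1 := hg t e
        unfold LabGraphForest.gr at h1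
        rw [show g t (ends e).1 - g t (ends e).2 = -(g t (ends e).2 - g t (ends e).1) by ring, h1, dvd_neg]
        split_ifs
        · rw [show f (ends e).2 - f (ends e).1 = -(f (ends e).1 - f (ends e).2) by ring, dvd_neg]
          exact hf e
        · exact dvd_zero _
      · have h1 := hg t e
        rw [if_neg (by simpa using he)] at h1
        unfold LabGraphForest.gr at h1
        linarith
    refine ⟨?_, fun h0 => ?_⟩
    · rw [hsum]
      refine AddSubmonoid.add_mem _ (AddSubmonoid.subset_closure ⟨fun e => by simp, ∅, by simp, fun e _ => rfl⟩) ?_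
      exact AddSubmonoid.sum_mem _ fun t _ => AddSubmonoid.subset_closure ⟨(hgood t).1, (hgood t).2.1⟩
    · rw [hsum, h0, show (fun _ : V => (0 : ℤ)) = 0 from rfl, zero_add]
      exact AddSubmonoid.sum_mem _ fun t _ => AddSubmonoid.subset_closure (hgood t)
  obtain ⟨v⟩ := hconn.1
  exact ⟨(main v).1, fun v₀ => (main v₀).2⟩

end Groth.Agent.S17724
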