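import Groth.Statements.S17725
import Mathlib

set_option autoImplicit false
set_option backward.isDefEq.respectTransparency.types false
set_option maxHeartbeats 1000000
set_option linter.all false
universe u
open SpecSp

namespace Groth.Agent.S17725
open Groth.Agent

open AlgebraicGeometry in
/-- In a connected Noetherian scheme any two points p, q are linked by a finite chain of points p = x₁,
…, xₙ = q such that for each i one of x_i, x_{i+1} is a specialization of the other; equivalently, p
and q are related by the equivalence relation generated by the specialization relation. -/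
theorem result
    (X : Scheme.{u}) [IsNoetherian X] [ConnectedSpace X] (p q : X) :
    Relation.EqvGen (fun x y : X => x ⤳ y) p q := by
    classical
    haveI : TopologicalSpace.NoetherianSpace X := inferInstance
    let R : X → X → Prop := Relation.EqvGen (fun x y : X => x ⤳ y)
    -- the class of p is open and closed
    let C : Set X := {x | R p x}
    have hfin := TopologicalSpace.NoetherianSpace.finite_irreducibleComponents (α := X)
    have hcomp : ∀ Z ∈ irreducibleComponents X, Z ⊆ C ∨ Z ⊆ Cᶜ := by
      intro Z hZ
      obtain ⟨η, hη⟩ := QuasiSober.sober hZ.1 (isClosed_of_mem_irreducibleComponents Z hZ)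
      by_cases h : R p η
      · exact Or.inl fun x hx => h.trans _ _ _ (.rel _ _ (hη.specializes hx))
      · exact Or.inr fun x hx hpx => h (hpx.trans _ _ _ (.symm _ _ (.rel _ _ (hη.specializes hx))))
    have hunion : ∀ D : Set X, (∀ Z ∈ irreducibleComponents X, Z ⊆ D ∨ Z ⊆ Dᶜ) → IsClosed D := by
      intro D hD
      have : D = ⋃ Z ∈ {Z ∈ irreducibleComponents X | Z ⊆ D}, Z := by
        refine subset_antisymm (fun x hx => ?_) (Set.iUnion₂_subset fun Z hZ => hZ.2)
        have hxZ := irreducibleComponent_mem_irreducibleComponents x
        refine Set.mem_biUnion ⟨hxZ, ?_⟩ mem_irreducibleComponent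
        rcases hD _ hxZ with h | h
        · exact h
        · exact absurd hx (h mem_irreducibleComponent)
      rw [this]
      exact (hfin.subset (fun Z hZ => hZ.1)).isClosed_biUnion fun Z hZ => isClosed_of_mem_irreducibleComponents Z hZ.1
    have hclopen : IsClopen C := ⟨hunion C hcomp, isClosed_compl_iff.1 (hunion Cᶜ fun Z hZ => by
      rw [compl_compl]; exact (hcomp Z hZ).symm)⟩
    have := hclopen.eq_univ ⟨p, Relation.EqvGen.refl p⟩
    exact (this ▸ Set.mem_univ q : q ∈ C)

end Groth.Agent.S17725
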