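import Groth.Statements.S17726
import Mathlib
import Groth.Agent.Lib.H2MinPrime

set_option autoImplicit false
universe u
open CAlg

namespace Groth.Agent.S17726
set_option linter.style.haveILetI false
open TensorProduct Polynomial Matrix

/-- Let f and g be non-zero-divisors of a commutative ring A, not both units; think of them as local
equations, at a point of the union of the supports, of two effective Cartier divisors E and D. If
the ideals generated by g^{m₁} and f^{n₁} coincide, and likewise for g^{m₂} and f^{n₂}, then m₁ n₂ =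
m₂ n₁. So all pairs (m, n) with m D = n E locally at the point are proportional, and the saturation
of the monoid they form is generated by a single element. -/
theorem result
    (A : Type u) [CommRing A] (f g : A)
    (hf : f ∈ nonZeroDivisors A) (hg : g ∈ nonZeroDivisors A) (hfg : ¬ (IsUnit f ∧ IsUnit g))
    (m₁ n₁ m₂ n₂ : ℕ)
    (h₁ : Ideal.span {g ^ m₁} = Ideal.span {f ^ n₁})
    (h₂ : Ideal.span {g ^ m₂} = Ideal.span {f ^ n₂}) :
    m₁ * n₂ = m₂ * n₁ := by
  by_contra hne
  have e1 : Ideal.span {g ^ (m₁ * n₂)} = Ideal.span {f ^ (n₁ * n₂)} := by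
    have := congrArg (fun J : Ideal A => J ^ n₂) h₁
    simpa only [Ideal.span_singleton_pow, ← pow_mul] using this
  have e2 : Ideal.span {g ^ (m₂ * n₁)} = Ideal.span {f ^ (n₁ * n₂)} := by
    have := congrArg (fun J : Ideal A => J ^ n₁) h₂
    simpa only [Ideal.span_singleton_pow, ← pow_mul, mul_comm n₂ n₁] using this
  have key : ∀ a d : ℕ, Ideal.span {g ^ a} = Ideal.span {g ^ (a + (d + 1))} → IsUnit g := by
    intro a d h
    obtain ⟨c, hc⟩ := Ideal.mem_span_singleton'.1 (h ▸ Ideal.mem_span_singleton_self (g ^ a) : g ^ a ∈ Ideal.span {g ^ (a + (d + 1))})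
    rw [pow_add, pow_succ] at hc
    have h0 : (c * g ^ d * g - 1) * g ^ a = 0 := by linear_combination hc
    have := (mem_nonZeroDivisors_iff_right.1 (pow_mem hg a)) _ h0
    exact IsUnit.of_mul_eq_one_right _ (sub_eq_zero.1 this)
  have hu : IsUnit g := by
    rcases lt_or_gt_of_ne hne with hlt | hlt
    · obtain ⟨d, hd⟩ := Nat.exists_eq_add_of_lt hlt
      exact key _ d (by rw [e1, ← e2, hd, add_assoc])
    · obtain ⟨d, hd⟩ := Nat.exists_eq_add_of_lt hlt
      exact key _ d (by rw [e2, ← e1, hd, add_assoc])
  have hfu : ¬ IsUnit f := fun h => hfg ⟨h, hu⟩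
  have hz : ∀ m n, Ideal.span {g ^ m} = Ideal.span {f ^ n} → n = 0 := by
    intro m n h
    by_contra hn
    rw [Ideal.span_singleton_eq_top.2 (hu.pow m), eq_comm, Ideal.span_singleton_eq_top, isUnit_pow_iff hn] at h
    exact hfu h
  exact hne (by rw [hz _ _ h₁, hz _ _ h₂, mul_zero, mul_zero])

end Groth.Agent.S17726
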