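import Groth.Statements.S17751
import Mathlib
import Groth.Prelude.Def_Wider
import Groth.Prelude.Def_DRing3
import Groth.Agent.Lib.RegularLocalSerre
import Groth.Agent.Lib.H2LDual
import Groth.Agent.Lib.H2LCBaseChange

set_option autoImplicit false
universe u
open LocCoh

namespace Groth.Agent.S17751
open CategoryTheory Groth.Agent.RegLocal Groth.Agent.H2LC
open scoped TensorProduct
set_option linter.style.haveILetI false
set_option backward.isDefEq.respectTransparency.types false

/-- Suppose R is a Noetherian ring, r is a natural number, and I is an ideal of R. Then there are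
elements f_1, …, f_r of I such that for every prime ideal p of R of height less than r, p contains I
if and only if p contains f_1, …, f_r. (For r = 0 there is nothing to prove.) -/
theorem result (R : Type u) [CommRing R] [IsNoetherianRing R] (I : Ideal R) (r : ℕ) : ∃ f : Fin r → R, (∀ i, f i ∈ I) ∧ ∀ (p : Ideal R) [p.IsPrime], p.height < r → (I ≤ p ↔ Ideal.span (Set.range f) ≤ p) := by
  induction r with
  | zero => exact ⟨Fin.elim0, fun i => i.elim0, fun p _ h => absurd h (by simp)⟩
  | succ r ih =>
    obtain ⟨f, hf, hfp⟩ := ih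
    set J := Ideal.span (Set.range f)
    set T : Set (Ideal R) := {q | q ∈ J.minimalPrimes ∧ ¬ I ≤ q}
    have hT : T.Finite := (Ideal.finite_minimalPrimes_of_isNoetherianRing R J).subset fun q hq => hq.1
    obtain ⟨g, hgI, hg⟩ : ∃ g ∈ I, ∀ q ∈ T, g ∉ q := by
      by_contra hcon
      push Not at hcon
      have hsub : (I : Set R) ⊆ ⋃ q ∈ (hT.toFinset : Set (Ideal R)), (q : Set R) := by
        intro g hg
        obtain ⟨q, hq, hgq⟩ := hcon g hg
        exact Set.mem_iUnion₂.2 ⟨q, by simpa using hq, hgq⟩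
      obtain ⟨q, hq, hIq⟩ := (Ideal.subset_union_prime (f := id) ⊥ ⊥ fun q hq _ _ => ((hT.mem_toFinset.1 hq).1.1.1 : q.IsPrime)).1 hsub
      exact (hT.mem_toFinset.1 hq).2 hIq
    refine ⟨Fin.snoc f g, fun i => Fin.lastCases (by simpa) (fun i => by simpa using hf i) i, fun p _ hp => ?_⟩
    rw [Fin.range_snoc]
    refine ⟨fun h => Ideal.span_le.2 (Set.insert_subset (h hgI) (Set.range_subset_iff.2 fun i => h (hf i))), fun h => ?_⟩
    by_contra hIp
    have hJp : J ≤ p := le_trans (Ideal.span_mono (Set.subset_insert _ _)) h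
    obtain ⟨q, hq, hqp⟩ := Ideal.exists_minimalPrimes_le hJp
    haveI : q.IsPrime := hq.1.1
    have hIq : ¬ I ≤ q := fun h' => hIp (h'.trans hqp)
    have hlt : q < p := lt_of_le_of_ne hqp fun e => hg q ⟨hq, hIq⟩ (e ▸ h (Ideal.subset_span (Set.mem_insert _ _)))
    have h2 : ¬ q.height < (r : ℕ∞) := fun h' => hIq ((hfp q h').2 hq.1.2)
    refine h2 ?_
    have h3 := Ideal.height_add_one_le_of_lt_of_isPrime hlt
    obtain ⟨a, ha⟩ := ENat.ne_top_iff_exists.1 (Ideal.height_ne_top (Ideal.IsPrime.ne_top ‹q.IsPrime›) : q.height ≠ ⊤)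
    have h4 := h3.trans_lt hp
    rw [← ha] at h4 ⊢
    norm_cast at h4 ⊢
    omega

end Groth.Agent.S17751
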