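import Groth.Statements.S17752
import Mathlib
import Groth.Prelude.Def_Wider
import Groth.Prelude.Def_DRing3
import Groth.Agent.Lib.RegularLocalSerre
import Groth.Agent.Lib.H2LDual
import Groth.Agent.Lib.H2LCBaseChange
import Groth.Agent.S17751

set_option autoImplicit false
universe u
open LocCoh

namespace Groth.Agent.S17752
open CategoryTheory Groth.Agent.RegLocal Groth.Agent.H2LC
open scoped TensorProduct
set_option linter.style.haveILetI false
set_option backward.isDefEq.respectTransparency.types false

/-- Let R be a Noetherian ring of Krull dimension d and I an ideal of R. Then there are d + 1 elements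
f_0, …, f_d of I such that I and the ideal they generate have the same radical; in other words the
arithmetic rank of I is at most d + 1. -/
theorem result (R : Type u) [CommRing R] [IsNoetherianRing R] (d : ℕ) (hd : ringKrullDim R = d) (I : Ideal R) : ∃ f : Fin (d + 1) → R, (∀ i, f i ∈ I) ∧ I.radical = (Ideal.span (Set.range f)).radical := by
  obtain ⟨f, hf, hp⟩ := Groth.Agent.S17751.result R I (d + 1)
  refine ⟨f, hf, ?_⟩
  rw [Ideal.radical_eq_sInf, Ideal.radical_eq_sInf]
  congr 1
  ext p
  refine and_congr_left fun hp' => hp p ?_
  have := Ideal.height_le_ringKrullDim_of_ne_top hp'.ne_top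
  rw [hd, show ((d : ℕ) : WithBot ℕ∞) = ((d : ℕ∞) : WithBot ℕ∞) from rfl, WithBot.coe_le_coe] at this
  exact this.trans_lt (by exact_mod_cast Nat.lt_succ_self d)

end Groth.Agent.S17752
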