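import Groth.Statements.S17753
import Mathlib
import Groth.Prelude.Def_Wider
import Groth.Prelude.Def_DRing3
import Groth.Agent.Lib.RegularLocalSerre
import Groth.Agent.Lib.H2LDual
import Groth.Agent.Lib.H2LCBaseChange
import Groth.Agent.S17751

set_option autoImplicit false
universe u
open LocCoh

namespace Groth.Agent.S17753
open CategoryTheory Groth.Agent.RegLocal Groth.Agent.H2LC
open scoped TensorProduct
set_option linter.style.haveILetI false
set_option backward.isDefEq.respectTransparency.types false

/-- Let R be a Noetherian local ring of Krull dimension d and I a proper ideal of R. Then there are d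
elements f_1, …, f_d of I such that I and the ideal they generate have the same radical, so the
arithmetic rank of I is at most d. (The published statement has no properness hypothesis; for the
unit ideal of a field, d = 0 and no empty family generates the unit ideal up to radical, and the
published proof uses that the maximal ideal contains I.) -/
theorem result (R : Type u) [CommRing R] [IsNoetherianRing R] [IsLocalRing R] (d : ℕ) (hd : ringKrullDim R = d) (I : Ideal R) (hI : I ≠ ⊤) : ∃ f : Fin d → R, (∀ i, f i ∈ I) ∧ I.radical = (Ideal.span (Set.range f)).radical := by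
  obtain ⟨f, hf, hp⟩ := Groth.Agent.S17751.result R I d
  refine ⟨f, hf, ?_⟩
  rw [Ideal.radical_eq_sInf, Ideal.radical_eq_sInf]
  congr 1
  ext p
  refine and_congr_left fun hp' => ?_
  rcases (IsLocalRing.le_maximalIdeal hp'.ne_top).eq_or_lt with e | hlt
  · subst e
    exact iff_of_true (IsLocalRing.le_maximalIdeal hI) (Ideal.span_le.2 (Set.range_subset_iff.2 fun i => IsLocalRing.le_maximalIdeal hI (hf i)))
  · refine hp p ?_
    have h1 := Ideal.height_add_one_le_of_lt_of_isPrime hlt
    have h2 := Ideal.height_le_ringKrullDim_of_ne_top (IsLocalRing.maximalIdeal.isMaximal R).ne_top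
    rw [hd, show ((d : ℕ) : WithBot ℕ∞) = ((d : ℕ∞) : WithBot ℕ∞) from rfl, WithBot.coe_le_coe] at h2
    obtain ⟨a, ha⟩ := ENat.ne_top_iff_exists.1 (Ideal.height_ne_top hp'.ne_top : p.height ≠ ⊤)
    have h4 := h1.trans h2
    rw [← ha] at h4 ⊢
    norm_cast at h4 ⊢

end Groth.Agent.S17753
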