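import Groth.Statements.S17756
import Mathlib
import Groth.Prelude.Def_Wider
import Groth.Agent.Lib.MatlisDuality

set_option autoImplicit false
universe u
open InjHull Pointwise TensorProduct
open Matlis

namespace Groth.Agent.S17756

/-- Let R be a Noetherian local ring with maximal ideal m and residue field k, E an injective hull of k,
and M a finitely generated R-module with Matlis dual M^v = Hom_R(M, E). Then the minimal number of
generators of M equals the k-dimension of the socle of M^v, the submodule of elements of M^v killed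
by m (stated as its length as an R-module). -/
theorem result (R : Type u) [CommRing R] [IsNoetherianRing R] [IsLocalRing R] (E : Type u) [AddCommGroup E] [Module R E] (f : IsLocalRing.ResidueField R →ₗ[R] E) (hf : InjHull.IsInjectiveHull f) (M : Type u) [AddCommGroup M] [Module R M] [Module.Finite R M] : ((⊤ : Submodule R M).spanFinrank : ℕ∞) = Module.length R (LocCoh.torsionBy (IsLocalRing.maximalIdeal R) (M →ₗ[R] E)) := by
  set P := (IsLocalRing.maximalIdeal R • ⊤ : Submodule R M) with hP
  let _ : Field (R ⧸ IsLocalRing.maximalIdeal R) := Ideal.Quotient.field _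
  have hlen : Module.length R (M ⧸ P) = (Module.finrank (R ⧸ IsLocalRing.maximalIdeal R) (M ⧸ P) : ℕ∞) := by
    rw [Module.length_eq_of_surjective (R := R ⧸ IsLocalRing.maximalIdeal R) (S := R) Ideal.Quotient.mk_surjective]
    exact Module.length_eq_finrank _ _
  have hfl : IsFiniteLength R (M ⧸ P) := Module.length_ne_top_iff.mp (by rw [hlen]; exact ENat.natCast_ne_top _)
  have hrange : LinearMap.range (LinearMap.lcomp R E P.mkQ) = LocCoh.torsionBy (IsLocalRing.maximalIdeal R) (M →ₗ[R] E) := by
    ext φ
    rw [Submodule.mem_torsionBySet_iff]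
    constructor
    · rintro ⟨ψ, rfl⟩ ⟨c, hc⟩
      refine LinearMap.ext fun m => ?_
      show c • ψ (P.mkQ m) = 0
      rw [← map_smul, ← map_smul, Submodule.mkQ_apply, (Submodule.Quotient.mk_eq_zero P).mpr (Submodule.smul_mem_smul hc trivial), map_zero]
    · intro h
      refine ⟨P.liftQ φ (Submodule.smul_le.mpr fun c hc m _ => ?_), LinearMap.ext fun _ => rfl⟩
      show φ (c • m) = 0
      rw [map_smul, ← LinearMap.smul_apply, show c • φ = 0 from h ⟨c, hc⟩, LinearMap.zero_apply]
  have hinj : Function.Injective (LinearMap.lcomp R E P.mkQ) := fun φ ψ h => Submodule.linearMap_qext P h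
  rw [← (LinearEquiv.ofInjective _ hinj ≪≫ₗ LinearEquiv.ofEq _ _ hrange).length_eq,
    Groth.Agent.Matlis.length_dual hf hfl]
  rw [IsLocalRing.spanFinrank_eq_finrank_quotient ⊤ Module.Finite.fg_top]
  have e : ((⊤ : Submodule R M) ⧸ (IsLocalRing.maximalIdeal R • ⊤ : Submodule R (⊤ : Submodule R M))) ≃ₗ[R] (M ⧸ P) :=
    Submodule.Quotient.equiv _ _ Submodule.topEquiv (by rw [Submodule.map_smul'', Submodule.map_top, LinearEquiv.range, hP])
  rw [← e.length_eq, Module.length_eq_of_surjective (R := R ⧸ IsLocalRing.maximalIdeal R) (S := R) Ideal.Quotient.mk_surjective]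
  exact (Module.length_eq_finrank _ _).symm

end Groth.Agent.S17756
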