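import Groth.Statements.S17761
import Mathlib
import Groth.Prelude.Def_Wider
import Groth.Prelude.Def_CAlg
import Groth.Agent.Lib.H2LCTop
import Groth.Agent.Lib.H2DepthMore

set_option autoImplicit false
universe u
open LocCoh

namespace Groth.Agent.S17761
open CategoryTheory Groth.Agent.H2LC Groth.Agent.H2Depth Groth.Agent.H2DepthMore

/-- Let R be a Noetherian local ring with maximal ideal m and M a finitely generated R-module whose
support has positive dimension n. Then the local cohomology module H^n_m(M) is not a finitely
generated R-module. -/
theorem result (R : Type u) [CommRing R] [IsNoetherianRing R] [IsLocalRing R] (M : Type u) [AddCommGroup M] [Module R M] [Module.Finite R M] (n : ℕ) (hn0 : 0 < n) (hn : Module.supportDim R M = n) : ¬ Module.Finite R (LocCoh.H (IsLocalRing.maximalIdeal R) n M) := by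
  intro hfin
  obtain ⟨k, rfl⟩ := Nat.exists_eq_succ_of_ne_zero hn0.ne'
  obtain ⟨t, ht⟩ := hfin.fg_top
  classical
  choose e he using isPowerTorsion (I := IsLocalRing.maximalIdeal R) (k + 1) (ModuleCat.of R M)
  refine absurd (subsingleton_of_killed (N := t.sup e) hn fun a ha z => ?_)
    (not_subsingleton_iff_nontrivial.2 (nontrivial_H_top _ M hn))
  have hz : z ∈ Submodule.span R (t : Set (LocCoh.H (IsLocalRing.maximalIdeal R) (k + 1) M)) := ht ▸ Submodule.mem_top
  induction hz using Submodule.span_induction with
  | mem z hz => exact he z a (Ideal.pow_le_pow_right (Finset.le_sup hz) ha)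
  | zero => exact smul_zero a
  | add x y _ _ hx hy => rw [smul_add, hx, hy, add_zero]
  | smul c x _ hx => rw [smul_comm, hx, smul_zero]

end Groth.Agent.S17761
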