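import Groth.Statements.S17764
import Groth.Prelude.Def_Wider
import Groth.Agent.Lib.InjHullBasic
import Mathlib

set_option autoImplicit false
universe u
open InjHull Pointwise DirectSum
open InjHull

namespace Groth.Agent.S17764

/-- Let R be a commutative ring and M an R-module which is torsion-free (no nonzero element of R kills a
nonzero element of M) and divisible (multiplication by every nonzero element of R is surjective on
M). Then M is an injective R-module. (Over a ring with zero divisors the two hypotheses force M =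
0.) -/
theorem result (R : Type u) [CommRing R] (M : Type u) [AddCommGroup M] [Module R M] [NoZeroSMulDivisors R M] (hdiv : ∀ r : R, r ≠ 0 → Function.Surjective (fun m : M => r • m)) : Module.Injective R M := by
  refine Module.Baer.injective ?_
  intro J g
  by_cases hJ : J = ⊥
  · subst hJ
    refine ⟨0, fun x hx => ?_⟩
    have : (⟨x, hx⟩ : (⊥ : Ideal R)) = 0 := Subtype.ext ((Submodule.mem_bot R).mp hx)
    simp [this]
  obtain ⟨a, ha, ha0⟩ := Submodule.exists_mem_ne_zero_of_ne_bot hJ
  obtain ⟨m, hm⟩ := hdiv a ha0 (g ⟨a, ha⟩)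
  refine ⟨LinearMap.toSpanSingleton R M m, fun b hb => ?_⟩
  have h1 : a • g ⟨b, hb⟩ = a • (b • m) := by
    calc a • g ⟨b, hb⟩ = g (a • ⟨b, hb⟩) := (map_smul g _ _).symm
      _ = g (b • ⟨a, ha⟩) := congrArg g (Subtype.ext (mul_comm a b))
      _ = b • g ⟨a, ha⟩ := map_smul g _ _
      _ = b • (a • m) := by rw [show a • m = g ⟨a, ha⟩ from hm]
      _ = a • (b • m) := smul_comm _ _ _
  rw [← sub_eq_zero, ← smul_sub] at h1
  exact (sub_eq_zero.mp ((NoZeroSMulDivisors.eq_zero_or_eq_zero_of_smul_eq_zero h1).resolve_left ha0)).symm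

end Groth.Agent.S17764
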