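import Groth.Statements.S17765
import Mathlib
import Groth.Prelude.Def_Wider
import Groth.Prelude.Def_DRing3
import Groth.Agent.Lib.RegularLocalSerre
import Groth.Agent.Lib.H2LDual
import Groth.Agent.Lib.H2LCBaseChange

set_option autoImplicit false
universe u
open CategoryTheory
open LocCoh

namespace Groth.Agent.S17765
open CategoryTheory Groth.Agent.RegLocal Groth.Agent.H2LC
open scoped TensorProduct
set_option linter.style.haveILetI false
set_option backward.isDefEq.respectTransparency.types false

/-- Let B be a regular local ring, M a finitely generated B-module and p an associated prime ideal of M.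
Then the height of p is at most the projective dimension of M: for every n such that M has
projective dimension at most n, ht p ≤ n. -/
theorem result (B : Type u) [CommRing B] [IsRegularLocalRing B] (M : Type u) [AddCommGroup M] [Module B M] [Module.Finite B M] (p : Ideal B) (hp : p ∈ associatedPrimes B M) (n : ℕ) (hn : HasProjectiveDimensionLE (ModuleCat.of B M) n) : p.height ≤ n := by
  haveI : p.IsPrime := hp.isPrime
  by_contra hlt
  rw [not_le] at hlt
  set S := Localization.AtPrime p
  haveI : IsRegularLocalRing S := regular_localization p S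
  obtain ⟨h, hh0⟩ := ENat.ne_top_iff_exists.1 (Ideal.height_ne_top (Ideal.IsPrime.ne_top ‹_›) : p.height ≠ ⊤)
  have hh : ringKrullDim S = (h : ℕ) := by rw [IsLocalization.AtPrime.ringKrullDim_eq_height p S, ← hh0]; rfl
  have hht : (p.height : WithBot ℕ∞) = ((h : ℕ∞) : WithBot ℕ∞) := by
    rw [← IsLocalization.AtPrime.ringKrullDim_eq_height p S]; exact hh
  have hph : p.height = h := WithBot.coe_injective hht
  rw [hph, Nat.cast_lt] at hlt
  have key : ∀ (n : ℕ) (N : Type u) [AddCommGroup N] [Module S N] [Module.Finite S N], PdLT S N (n + 1) →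
      ∀ j, j + n < h → Subsingleton (LocCoh.H (IsLocalRing.maximalIdeal S) j N) := by
    intro n
    induction n with
    | zero =>
      intro N _ _ _ hN j hj
      haveI := pdLT_one_iff.1 hN
      exact Groth.Agent.H2LDual.subsingleton_free hh N (by omega)
    | succ n ih =>
      intro N _ _ _ hN j hj
      obtain ⟨k, f, hf⟩ := Module.Finite.exists_fin' S N
      haveI : Module.Finite S (LinearMap.ker f) := Module.Finite.iff_fg.2 (IsNoetherian.noetherian _)
      have h1 := ih (LinearMap.ker f) ((pdLT_ker_iff f hf n).1 hN) (j + 1) (by omega)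
      have h2 := Groth.Agent.H2LDual.subsingleton_free hh (Fin k → S) (j := j) (by omega)
      have hS := LinearMap.shortExact_shortComplexKer hf
      refine subsingleton_iff_forall_eq 0 |>.2 fun x => ?_
      obtain ⟨y, rfl⟩ := (exact_map_dMap (I := IsLocalRing.maximalIdeal S) hS j x).1 (@Subsingleton.elim _ h1 _ _)
      exact (congrArg _ (@Subsingleton.elim _ h2 y 0)).trans (map_zero _)
  have h1 : Subsingleton (LocCoh.H (IsLocalRing.maximalIdeal S) 0 (S ⊗[B] M)) :=
    key n _ (pdLT_baseChange n M hn) 0 (by omega)
  obtain ⟨y, hy⟩ := (isAssociatedPrime_iff.1 hp).2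
  let mk := TensorProduct.mk B S M 1
  haveI : IsLocalizedModule p.primeCompl mk :=
    (isLocalizedModule_iff_isBaseChange p.primeCompl S mk).2 (TensorProduct.isBaseChange B M S)
  have hy0 : mk y ≠ 0 := by
    intro h0
    obtain ⟨⟨s, hs⟩, h⟩ := (IsLocalizedModule.eq_zero_iff p.primeCompl mk).1 h0
    exact hs (hy ▸ Submodule.mem_colon_singleton.2 (by simpa [Submonoid.smul_def] using h) : s ∈ p)
  have hmem : mk y ∈ DRing.torsionSub (IsLocalRing.maximalIdeal S) (S ⊗[B] M) := by
    refine ⟨1, fun a ha => ?_⟩
    rw [pow_one, ← Localization.AtPrime.map_eq_maximalIdeal] at ha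
    induction ha using Submodule.span_induction with
    | mem a ha =>
      obtain ⟨b, hb, rfl⟩ := ha
      rw [algebraMap_smul, ← map_smul]
      have hb' : b ∈ p := hb
      rw [hy, Submodule.mem_colon_singleton, Submodule.mem_bot] at hb'
      rw [hb', map_zero]
    | zero => exact zero_smul _ _
    | add a b _ _ ha hb => rw [add_smul, ha, hb, add_zero]
    | smul c a _ ha => rw [smul_eq_mul, mul_smul, ha, smul_zero]
  rw [← range_toMod (M := ModuleCat.of S (S ⊗[B] M))] at hmem
  obtain ⟨z, hz⟩ := hmem
  apply hy0
  rw [← hz, @Subsingleton.elim _ h1 z 0]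
  exact map_zero _

end Groth.Agent.S17765
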