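import Groth.Statements.S17771
import Groth.Agent.Lib.GrStarAInv
import Groth.Agent.Lib.GrStarReg
import Groth.Agent.Lib.H2LCCd
import Mathlib

set_option autoImplicit false
universe u
open GrLC

namespace Groth.Agent.S17771

/-- Let R = ⊕_{n ≥ 0} R_n be a positively ℤ-graded ring which is standard graded (irrelevant ideal
generated by R_1), with R_0 Artinian, *local with unique homogeneous maximal ideal m, and
Cohen–Macaulay of Krull dimension d. Then the a-invariant of R is at least −d: the end (largest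
nonzero degree) of the graded local cohomology module H^d_m(R), computed from any *injective
resolution of R in the graded category, is ≥ −d. (Equality holds exactly for polynomial rings
R_0[T_1, …, T_d]; that characterisation is not part of this statement.) -/
theorem result (R : Type u) [CommRing R] [LocCoh.IsCohenMacaulayRing R] (𝒜 : ℤ → AddSubgroup R) [GradedRing 𝒜] (hpos : ∀ n : ℤ, n < 0 → 𝒜 n = ⊥) (hstd : Ideal.span (⋃ n ∈ Set.Ioi (0 : ℤ), (𝒜 n : Set R)) = Ideal.span ((𝒜 1 : AddSubgroup R) : Set R)) [IsArtinianRing (GrLC.deg0 𝒜)] (m : HomogeneousIdeal 𝒜) (hm : GrLC.IsStarLocal 𝒜 m) (d : ℕ) (hd : ringKrullDim R = d) (I : GrLC.StarInjRes 𝒜 𝒜) : (((-(d : ℤ) : ℤ) : WithTop ℤ) : WithBot (WithTop ℤ)) ≤ GrLC.endDeg (I.Hgr m d) := by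
  classical
  have hn0 : ∀ n : ℤ, n < 0 → ∀ x ∈ 𝒜 n, x = 0 := fun n hn => (AddSubgroup.eq_bot_iff_forall _).mp (hpos n hn)
  haveI hmp := Groth.Agent.S7719.result R 𝒜 m hm.1
  let a : HomogeneousIdeal 𝒜 := ⟨Ideal.span (𝒜 1 : Set R), Ideal.homogeneous_span 𝒜 _ fun x hx => ⟨1, hx⟩⟩
  haveI : Nontrivial R := nontrivial_of_ne 1 0 fun h => hmp.ne_top ((Ideal.eq_top_iff_one _).mpr (h ▸ zero_mem _))
  have hatop : a ≠ ⊤ := fun h => by
    have h1 : (1 : R) ∈ a.toIdeal • (⊤ : Submodule R R) := by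
      rw [smul_eq_mul, Ideal.mul_top, h]; simp
    have h2 := Groth.Agent.GrStarReg.pr_smul_mem_span 𝒜 a rfl 0 h1
    rw [Groth.Agent.GrStarBasic.pr_same 𝒜 (SetLike.one_mem_graded 𝒜)] at h2
    refine one_ne_zero ((Submodule.mem_bot R).mp ((Submodule.span_le.mpr ?_) h2))
    intro z hz
    rw [hn0 _ (by omega) z hz]; exact zero_mem _
  have ham : a.toIdeal ≤ m.toIdeal := by
    obtain ⟨n, hn, hle⟩ := Groth.Agent.GrCoreHeight.exists_coatom_ge 𝒜 hatop
    exact hm.2 n hn ▸ hle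
  have hplus : ∀ n : ℤ, 0 < n → ∀ x ∈ 𝒜 n, x ∈ a.toIdeal := fun n hn x hx => by
    show x ∈ Ideal.span (𝒜 1 : Set R)
    rw [← hstd]
    exact Ideal.subset_span (Set.mem_iUnion₂.mpr ⟨n, hn, hx⟩)
  -- degree zero elements of m are nilpotent
  have hnil : ∀ x ∈ m.toIdeal, x ∈ 𝒜 0 → IsNilpotent x := by
    intro x hxm hx0
    obtain ⟨n, y, hy⟩ := IsArtinian.exists_pow_succ_smul_dvd (R := GrLC.deg0 𝒜) (M := GrLC.deg0 𝒜) ⟨x, hx0⟩ 1
    have hy' : x ^ (n + 1) * (y : R) = x ^ n * 1 := congrArg Subtype.val hy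
    have hu : IsUnit (1 - x * (y : R)) := by
      by_contra hu
      have hz : 1 - x * (y : R) ∈ 𝒜 0 :=
        sub_mem (SetLike.one_mem_graded 𝒜) (by simpa using SetLike.mul_mem_graded (A := 𝒜) hx0 y.2)
      let J : HomogeneousIdeal 𝒜 := ⟨Ideal.span {1 - x * (y : R)},
        Ideal.homogeneous_span 𝒜 _ (by rintro z (rfl : z = _); exact ⟨0, hz⟩)⟩
      obtain ⟨n', hn', hle⟩ := Groth.Agent.GrCoreHeight.exists_coatom_ge 𝒜 (J := J) fun h => hu (by
        have h' : Ideal.span {1 - x * (y : R)} = ⊤ := congrArg HomogeneousIdeal.toIdeal h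
        exact Ideal.span_singleton_eq_top.mp h')
      rw [hm.2 n' hn'] at hle
      have h1 : 1 - x * (y : R) ∈ m.toIdeal := hle (Ideal.mem_span_singleton_self _)
      exact hmp.ne_top ((Ideal.eq_top_iff_one _).mpr (by simpa using m.toIdeal.add_mem h1 (Ideal.mul_mem_right (y : R) _ hxm)))
    refine ⟨n, hu.mul_left_eq_zero.mp ?_⟩
    rw [mul_sub, mul_one, ← mul_assoc, ← pow_succ, hy', mul_one, sub_self]
  have hrad : m.toIdeal ≤ a.toIdeal.radical := by
    intro r hr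
    rw [← DirectSum.sum_support_decompose 𝒜 r]
    refine Ideal.sum_mem _ fun i _ => ?_
    rcases lt_trichotomy i 0 with hi | hi | hi
    · rw [hn0 i hi _ (DirectSum.decompose 𝒜 r i).2]; exact zero_mem _
    · subst hi
      obtain ⟨n, hn⟩ := hnil _ (m.isHomogeneous 0 hr) (DirectSum.decompose 𝒜 r 0).2
      exact ⟨n, hn ▸ zero_mem _⟩
    · exact Ideal.le_radical (hplus i hi _ (DirectSum.decompose 𝒜 r i).2)
  obtain ⟨N, hN⟩ := Ideal.exists_pow_le_of_le_radical_of_fg hrad (IsNoetherian.noetherian _)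
  have hgam : ∀ (X : Type u) [AddCommGroup X] [Module R X],
      GrLC.gam a.toIdeal X = GrLC.gam m.toIdeal X := by
    intro X _ _
    refine le_antisymm ?_ ?_ <;> rintro x ⟨n, hn⟩
    · refine ⟨N * n, fun r hr => hn r ?_⟩
      rw [pow_mul] at hr
      exact Ideal.pow_right_mono hN n hr
    · exact ⟨n, fun r hr => hn r (Ideal.pow_right_mono ham n hr)⟩
  -- suppose not
  by_contra hcon
  rw [not_le] at hcon
  have hd' : ∀ g : ℤ, -(d : ℤ) ≤ g → I.Hgr m d g = ⊥ := by
    intro g hg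
    by_contra hne
    refine (not_le.mpr hcon) ((WithBot.coe_le_coe.mpr (WithTop.coe_le_coe.mpr hg)).trans ?_)
    exact le_iSup₂ (f := fun (n : ℤ) (_ : I.Hgr m d n ≠ ⊥) => ((n : WithTop ℤ) : WithBot (WithTop ℤ))) g hne
  have hvm : ∀ (j : ℕ) (g : ℤ), (j = d → -(d : ℤ) ≤ g) → I.Hgr m j g = ⊥ := by
    intro j g hg
    rcases lt_trichotomy j d with hj | hj | hj
    · exact (Groth.Agent.GrStarVan.van_iff' I).mp (Groth.Agent.GrStarAInv.van_low hpos hm hd j hj g)
    · subst hj; exact hd' g (hg rfl)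
    · obtain ⟨φ⟩ := Groth.Agent.GrStarAcyclic.exists_H_equiv I m j
      haveI := Groth.Agent.H2LC.subsingleton_of_supportDim_lt (I := m.toIdeal) (M := R) (i := j)
        (by rw [Module.supportDim_self_eq_ringKrullDim, hd]; exact_mod_cast hj)
      haveI := φ.subsingleton
      exact (AddSubgroup.eq_bot_iff_forall _).mpr fun x _ => Subsingleton.elim x 0
  have hva : ∀ (j : ℕ) (g : ℤ), (j = d → -(d : ℤ) ≤ g) → I.Hgr a j g = ⊥ := by
    intro j g hg
    refine (AddSubgroup.eq_bot_iff_forall _).mpr ?_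
    rintro _ ⟨⟨z, hz1, hz2⟩, hzg, rfl⟩
    have hz1' : z ∈ GrLC.gam m.toIdeal (I.X j).carrier := hgam (I.X j).carrier ▸ hz1
    have h := (AddSubgroup.eq_bot_iff_forall _).mp (hvm j g hg) _ ⟨⟨z, hz1', hz2⟩, hzg, rfl⟩
    have hb : z ∈ I.cobdy m j := ((Submodule.Quotient.mk_eq_zero ((I.cobdy m j).comap (I.cocyc m j).subtype)).mp h :)
    refine (Submodule.Quotient.mk_eq_zero _).mpr ?_
    show z ∈ I.cobdy a j
    cases j with
    | zero => exact hb
    | succ n =>
      obtain ⟨y, hy, hyz⟩ := hb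
      exact ⟨y, (hgam (I.X n).carrier).symm ▸ hy, hyz⟩
  have hgen := Groth.Agent.GrStarReg.span_eq_top 𝒜 hn0 a rfl (fun n => n < 0) fun g hg j =>
    (Groth.Agent.GrStarVan.van_iff' I).mpr (hva j (g - j) fun hj => by omega)
  have : (1 : R) ∈ (⊥ : Submodule R R) := by
    refine (Submodule.span_le.mpr ?_) (hgen ▸ Submodule.mem_top)
    intro z hz
    obtain ⟨n, hn, hzn⟩ := Set.mem_iUnion₂.mp hz
    rw [hn0 n hn z hzn]; exact zero_mem _
  exact one_ne_zero ((Submodule.mem_bot R).mp this)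

end Groth.Agent.S17771
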