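import Groth.Statements.S17779
import Mathlib


set_option autoImplicit false
open DRR

namespace Groth.Agent.S17779

/-- For natural numbers n and k with k ≤ n + 1, the alternating sum over j = 0, …, n of (−1)^(n−j) C(n,
j) j^k (with the convention 0^0 = 1) equals n! · n(n+1)/2 when k = n + 1, equals n! when k = n, and
vanishes when k < n. (The published statement takes n ≥ 1 and divides through by n!; the case n = 0
holds as well and is included.) -/
theorem result (n k : ℕ) (hk : k ≤ n + 1) :
    (∑ j ∈ Finset.range (n + 1), (-1 : ℤ) ^ (n - j) * (n.choose j : ℤ) * (j : ℤ) ^ k) =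
      (if k = n + 1 then (((n + 1).choose 2 * n.factorial : ℕ) : ℤ)
        else if k = n then (n.factorial : ℤ) else 0) := by
  have key : ∀ k n : ℕ, (∑ j ∈ Finset.range (n + 1), (-1 : ℤ) ^ (n - j) * (n.choose j : ℤ) * (j : ℤ) ^ k)
      = (n.factorial * Nat.stirlingSecond k n : ℕ) := by
    have e : ∀ k n : ℕ, (∑ j ∈ Finset.range (n + 1), (-1 : ℤ) ^ (n - j) * (n.choose j : ℤ) * (j : ℤ) ^ k)
        = (fwdDiff (1 : ℤ))^[n] (fun x => x ^ k) 0 := fun k n => by
      rw [fwdDiff_iter_eq_sum_shift]; simp
    intro k
    induction k with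
    | zero =>
      intro n
      cases n with
      | zero => simp [Nat.stirlingSecond_zero]
      | succ n => rw [e, fwdDiff_iter_pow_eq_zero_of_lt n.succ_pos, Nat.stirlingSecond_zero_succ]; simp
    | succ k ih =>
      intro n
      cases n with
      | zero => simp [Nat.stirlingSecond_succ_zero]
      | succ n =>
        have hr : ∀ (k n : ℕ) (y : ℤ), (fwdDiff (1 : ℤ))^[n] (fun x => x ^ k) (y + 1)
            = (fwdDiff (1 : ℤ))^[n + 1] (fun x => x ^ k) y + (fwdDiff (1 : ℤ))^[n] (fun x => x ^ k) y := fun k n y => by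
          rw [Function.iterate_succ_apply', fwdDiff]; ring
        have hs : (fwdDiff (1 : ℤ))^[n + 1] (fun x => x ^ (k + 1)) 0 = ((n : ℤ) + 1) * (fwdDiff (1 : ℤ))^[n] (fun x => x ^ k) 1 := by
          rw [fwdDiff_iter_eq_sum_shift, fwdDiff_iter_eq_sum_shift, Finset.sum_range_succ', Finset.mul_sum]
          simp only [smul_eq_mul, nsmul_eq_mul, mul_one, zero_add, Nat.cast_zero, zero_pow k.succ_ne_zero, mul_zero, add_zero]
          refine Finset.sum_congr rfl fun i hi => ?_
          have hc : ((n + 1).choose (i + 1) : ℤ) * ((i : ℤ) + 1) = ((n : ℤ) + 1) * (n.choose i : ℤ) := by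
            exact_mod_cast (Nat.add_one_mul_choose_eq n i).symm
          rw [show n + 1 - (i + 1) = n - i by omega, pow_succ]
          push_cast
          linear_combination ((-1 : ℤ) ^ (n - i) * ((i : ℤ) + 1) ^ k) * hc
        have := hr k n 0
        rw [zero_add, ← e, ← e, ih, ih] at this
        rw [e, hs, this, Nat.stirlingSecond_succ_succ, Nat.factorial_succ]
        push_cast [Nat.factorial_succ]; ring
  rw [key]
  split_ifs with h1 h2
  · subst h1; rw [Nat.stirlingSecond_succ_self_left, mul_comm]
  · subst h2; rw [Nat.stirlingSecond_self, mul_one]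
  · rw [Nat.stirlingSecond_eq_zero_of_lt (by omega), mul_zero]; rfl

end Groth.Agent.S17779
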