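import Groth.Statements.S17780
import Mathlib
import Groth.Agent.S17779

set_option autoImplicit false
universe u
open DRR

namespace Groth.Agent.S17780

/-- For x, y in a commutative ring and a natural number n, (n+1)! · x · y^n equals the sum over j = 0,
…, n of (−1)^(n−j) C(n, j) (x + j y)^(n+1), minus (n · (n+1)!/2) · y^(n+1). (The published identity
is stated in ℚ[x, y] with an overall factor 1/(n+1) and the coefficients C(n, j)(−1)^(n−j)/n!; it is
given here multiplied through by (n+1)!, which makes it an identity with integer coefficients valid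
in every commutative ring; n · (n+1)!/2 is an integer.) -/
theorem result (A : Type u) [CommRing A] (x y : A) (n : ℕ) :
    ((n + 1).factorial : A) * x * y ^ n =
      (∑ j ∈ Finset.range (n + 1), (-1 : A) ^ (n - j) * (n.choose j : A) * (x + (j : A) * y) ^ (n + 1))
        - ((n * (n + 1).factorial / 2 : ℕ) : A) * y ^ (n + 1) := by
  have hk := fun k (hk : k ∈ Finset.range (n + 1 + 1)) => congrArg (Int.cast : ℤ → A)
    (Groth.Agent.S17779.result n k (by simpa [Nat.lt_succ_iff] using hk))
  push_cast at hk
  have hsum : (∑ j ∈ Finset.range (n + 1), (-1 : A) ^ (n - j) * (n.choose j : A) * (x + (j : A) * y) ^ (n + 1))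
      = ∑ k ∈ Finset.range (n + 1 + 1), (if k = n + 1 then (((n + 1).choose 2 * n.factorial : ℕ) : A) else if k = n then (n.factorial : A) else 0) * (y ^ k * x ^ (n + 1 - k) * ((n + 1).choose k : A)) := by
    simp_rw [add_comm x, add_pow, Finset.mul_sum]
    rw [Finset.sum_comm]
    refine Finset.sum_congr rfl fun k hk' => ?_
    have := hk k hk'
    push_cast
    rw [← this, Finset.sum_mul]
    refine Finset.sum_congr rfl fun j _ => ?_
    rw [mul_pow]; ring
  have hnat : n * (n + 1).factorial / 2 = (n + 1).choose 2 * n.factorial := by
    rw [Nat.choose_two_right, Nat.factorial_succ, Nat.add_sub_cancel, mul_comm (n + 1) n, ← mul_assoc, Nat.mul_div_right_comm]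
    exact (Nat.even_mul_succ_self n).two_dvd
  rw [hsum, hnat, Finset.sum_range_succ, Finset.sum_range_succ, Finset.sum_eq_zero (fun k hk' => by
    have := Finset.mem_range.1 hk'
    rw [if_neg (by omega), if_neg (by omega), zero_mul]), Nat.factorial_succ]
  simp [show n + 1 - n = 1 by omega]
  ring

end Groth.Agent.S17780
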