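import Groth.Statements.S17849
import Mathlib

set_option autoImplicit false
open CategoryTheory
open GalLat

namespace Groth.Agent.S17849


section

attribute [local instance 10000] Rep.hV2 Prod.instModule

open MonoidAlgebra in
/-- The linear map out of `ℤ[X]` with prescribed values on the basis. -/
noncomputable def liftLin (X : Type) {V : Type} [AddCommGroup V] [Module ℤ V] (w : X → V) : ℤ[X] →ₗ[ℤ] V :=
  (Finsupp.linearCombination ℤ w) ∘ₗ (MonoidAlgebra.coeffLinearEquiv ℤ).toLinearMap

open MonoidAlgebra in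
theorem liftLin_single {X : Type} {V : Type} [AddCommGroup V] [Module ℤ V] (w : X → V) (x : X) :
    liftLin X w (MonoidAlgebra.single x 1 : ℤ[X]) = w x := by
  simp [liftLin]
  erw [one_smul]

open MonoidAlgebra in
theorem hom_ext_single {X : Type} {V : Type} [AddCommGroup V] [Module ℤ V] (f g : ℤ[X] →ₗ[ℤ] V)
    (h : ∀ x, f (MonoidAlgebra.single x 1) = g (MonoidAlgebra.single x 1)) : f = g := by
  refine MonoidAlgebra.lhom_ext' (fun x => LinearMap.ext_ring ?_)
  simpa using h x

theorem isZero_H1_iff {G : Type} [Group G] (A : Rep.{0} ℤ G) :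
    Limits.IsZero (groupCohomology A 1) ↔ ∀ c : G → A.V, (∀ a b, c (a * b) = A.ρ a (c b) + c a) →
      ∃ m : A.V, ∀ a, A.ρ a m - m = c a := by
  show Limits.IsZero ((groupCohomology.inhomogeneousCochains A).homology 1) ↔ _
  rw [← HomologicalComplex.exactAt_iff_isZero_homology,
    (groupCohomology.inhomogeneousCochains A).exactAt_iff' 0 1 2 (by simp) (by simp),
    ShortComplex.moduleCat_exact_iff]
  simp only [HomologicalComplex.shortComplexFunctor'_obj_f, HomologicalComplex.shortComplexFunctor'_obj_g,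
    HomologicalComplex.sc', groupCohomology.inhomogeneousCochains.d_def, CochainComplex.of.d,
    ↓reduceDIte, eqToHom_refl, Category.comp_id]
  have hd0 : ∀ (y : (Fin 0 → G) → A.V) (g : Fin 1 → G),
      (inhomogeneousCochains.d A 0 y : (Fin 1 → G) → A.V) g = A.ρ (g 0) (y default) - y default := by
    intro y g
    rw [inhomogeneousCochains.d_hom_apply, Fin.sum_univ_one]
    rw [Subsingleton.elim (fun i : Fin 0 => g i.succ) default,
      Subsingleton.elim (Fin.contractNth (0 : Fin 1) (· * ·) g) default]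
    simp [sub_eq_add_neg]
    erw [one_smul]
  have hd1 : ∀ (z : (Fin 1 → G) → A.V) (g : Fin 2 → G),
      (inhomogeneousCochains.d A 1 z : (Fin 2 → G) → A.V) g
        = A.ρ (g 0) (z ![g 1]) - z ![g 0 * g 1] + z ![g 0] := by
    intro z g
    rw [inhomogeneousCochains.d_hom_apply, Fin.sum_univ_two]
    have e1 : (fun i : Fin 1 => g i.succ) = ![g 1] := by funext i; fin_cases i; rfl
    have e2 : Fin.contractNth (0 : Fin 2) (· * ·) g = ![g 0 * g 1] := by funext i; fin_cases i; rfl
    have e3 : Fin.contractNth (1 : Fin 2) (· * ·) g = ![g 0] := by funext i; fin_cases i; rfl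
    rw [e1, e2, e3]
    simp [sub_eq_add_neg, add_assoc]
    erw [one_smul, one_smul]
  have hg1 : ∀ g : Fin 1 → G, ![g 0] = g := fun g => by funext i; fin_cases i; rfl
  constructor
  · intro h c hc
    obtain ⟨y, hy⟩ := h (fun g => c (g 0)) (by
      funext g
      refine (hd1 _ g).trans ?_
      show A.ρ (g 0) (c (g 1)) - c (g 0 * g 1) + c (g 0) = 0
      rw [hc]; abel)
    exact ⟨y default, fun a => (hd0 y ![a]).symm.trans (congrFun hy ![a])⟩
  · intro h z hz
    obtain ⟨m, hm⟩ := h (fun a => z ![a]) (fun a b => by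
      have h0 := (hd1 z ![a, b]).symm.trans (congrFun hz ![a, b])
      simp only [Matrix.cons_val_zero, Matrix.cons_val_one] at h0
      rw [eq_comm, ← sub_eq_zero]
      refine Eq.trans ?_ h0
      abel)
    refine ⟨fun _ => m, funext fun g => (hd0 _ g).trans ?_⟩
    rw [hm (g 0), hg1]


theorem main (Γ : Type) [Group Γ] [Finite Γ] (Λ : Rep.{0} ℤ Γ) :
    (∀ Γ' : Subgroup Γ, Limits.IsZero (groupCohomology (Rep.res Γ'.subtype Λ) 1)) ↔
      ∀ (X : Type) [MulAction Γ X] [Finite X] (E : ShortComplex (Rep ℤ Γ)),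
        E.ShortExact → Nonempty (E.X₁ ≅ Λ) → Nonempty (E.X₃ ≅ Rep.ofMulAction ℤ Γ X) →
          Nonempty E.Splitting := by
  classical
  haveI : Fintype Γ := Fintype.ofFinite Γ
  constructor
  · intro hH X _ _ E hE ⟨e1⟩ ⟨e3⟩
    haveI := hE.mono_f
    haveI := hE.epi_g
    let i : Λ.V → E.X₂ := fun a => E.f.hom (e1.inv.hom a)
    let π : E.X₂ → MonoidAlgebra ℤ X := fun e => e3.hom.hom (E.g.hom e)
    have hi_inj : Function.Injective i := ((Rep.mono_iff_injective E.f).mp inferInstance).comp (fun a b h => by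
      have := congrArg (fun v => e1.hom.hom v) h
      simpa using this)
    have hπ_surj : Function.Surjective π := fun v => by
      obtain ⟨e, he⟩ := (Rep.epi_iff_surjective E.g).mp inferInstance (e3.inv.hom v)
      exact ⟨e, by show e3.hom.hom (E.g.hom e) = v; rw [he]; simp⟩
    have hiρ : ∀ γ a, i (Λ.ρ γ a) = E.X₂.ρ γ (i a) := fun γ a => by
      show E.f.hom (e1.inv.hom (Λ.ρ γ a)) = _
      rw [Rep.hom_comm_apply, Rep.hom_comm_apply]
    have hπρ : ∀ γ e, π (E.X₂.ρ γ e) = Representation.ofMulAction ℤ Γ X γ (π e) := fun γ e => by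
      show e3.hom.hom (E.g.hom (E.X₂.ρ γ e)) = _
      rw [Rep.hom_comm_apply, Rep.hom_comm_apply]
    have hex : ∀ e, π e = 0 → ∃ a, i a = e := by
      intro e he
      have h0 : E.g.hom e = 0 := by
        have h1 := congrArg (fun v => e3.inv.hom v) he
        simpa [π] using h1
      have hex' := (hE.exact.map (forget₂ (Rep.{0} ℤ Γ) (ModuleCat ℤ)))
      rw [ShortComplex.moduleCat_exact_iff] at hex'
      obtain ⟨a, ha⟩ := hex' e h0
      refine ⟨e1.hom.hom a, ?_⟩
      show E.f.hom (e1.inv.hom (e1.hom.hom a)) = e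
      exact (congrArg E.f.hom (Rep.inv_hom_apply _ _ e1 a)).trans ha
    -- a fixed lift for every orbit representative
    have hlift : ∀ x0 : X, ∃ e : E.X₂, π e = MonoidAlgebra.single x0 1 ∧
        ∀ h : Γ, h • x0 = x0 → E.X₂.ρ h e = e := by
      intro x0
      obtain ⟨e, he⟩ := hπ_surj (MonoidAlgebra.single x0 1)
      let H := MulAction.stabilizer Γ x0
      have hz : ∀ h : H, ∃ a, i a = E.X₂.ρ (h : Γ) e - e := by
        intro h
        apply hex
        show e3.hom.hom (E.g.hom (E.X₂.ρ (h : Γ) e - e)) = 0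
        rw [map_sub, map_sub]
        show π (E.X₂.ρ (h : Γ) e) - π e = 0
        rw [hπρ, he, Representation.ofMulAction_single]
        erw [h.2]
        exact sub_self _
      choose c hc using hz
      obtain ⟨m, hm⟩ := (isZero_H1_iff _).mp (hH H) c (fun a b => hi_inj (by
        show i (c (a * b)) = i (Λ.ρ (a : Γ) (c b) + c a)
        have hadd : ∀ u v, i (u + v) = i u + i v := fun u v => by simp [i]
        rw [hadd, hiρ, hc, hc, hc, map_sub, Subgroup.coe_mul, map_mul, Module.End.mul_apply]
        abel))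
      have him : π (i m) = 0 := by
        show e3.hom.hom (E.g.hom (E.f.hom (e1.inv.hom m))) = 0
        rw [show E.g.hom (E.f.hom (e1.inv.hom m)) = (E.f ≫ E.g).hom (e1.inv.hom m) from rfl, E.zero]
        simp
      refine ⟨e - i m, ?_, fun h hh => ?_⟩
      · show e3.hom.hom (E.g.hom (e - i m)) = _
        rw [map_sub, map_sub]
        show π e - π (i m) = _
        rw [he, him, sub_zero]
      · have h1 : Λ.ρ h m - m = c ⟨h, hh⟩ := hm ⟨h, hh⟩
        have hsub : ∀ u v, i (u - v) = i u - i v := fun u v => by simp [i]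
        have h2 := congrArg i h1
        rw [hsub, hiρ, hc] at h2
        rw [map_sub]
        rw [sub_eq_sub_iff_sub_eq_sub]
        exact h2.symm
    choose ε hε hεfix using hlift
    let rep : X → X := fun x => (Quotient.out (Quotient.mk (MulAction.orbitRel Γ X) x))
    have hrep : ∀ x, ∃ γ : Γ, γ • rep x = x := fun x => by
      have : (MulAction.orbitRel Γ X).r x (rep x) :=
        (MulAction.orbitRel Γ X).iseqv.symm (Quotient.mk_out (s := MulAction.orbitRel Γ X) x)
      exact MulAction.orbitRel_apply.mp this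
    have hrepγ : ∀ (γ : Γ) x, rep (γ • x) = rep x := fun γ x => by
      show Quotient.out _ = Quotient.out _
      congr 1
      exact Quotient.sound (MulAction.orbitRel_apply.mpr ⟨γ, rfl⟩)
    choose γ hγ using hrep
    let w : X → E.X₂ := fun x => E.X₂.ρ (γ x) (ε (rep x))
    have hw : ∀ δ x, w (δ • x) = E.X₂.ρ δ (w x) := by
      intro δ x
      show E.X₂.ρ (γ (δ • x)) (ε (rep (δ • x))) = E.X₂.ρ δ (E.X₂.ρ (γ x) (ε (rep x)))
      rw [hrepγ, ← Module.End.mul_apply, ← map_mul]
      have hst : ((δ * γ x)⁻¹ * γ (δ • x)) • rep x = rep x := by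
        have h1 := hγ (δ • x)
        rw [hrepγ] at h1
        rw [mul_smul, h1, inv_smul_eq_iff, mul_smul, hγ]
      conv_lhs => rw [show γ (δ • x) = δ * γ x * ((δ * γ x)⁻¹ * γ (δ • x)) by group, map_mul,
        Module.End.mul_apply, hεfix _ _ hst]
    let s' : Rep.ofMulAction ℤ Γ X ⟶ E.X₂ :=
      Rep.ofHom ((liftLin X w).intertwiningMap_of_isIntertwiningMap _ _ (fun δ v => by
        refine LinearMap.congr_fun (hom_ext_single ((liftLin X w) ∘ₗ Representation.ofMulAction ℤ Γ X δ)
          ((E.X₂.ρ δ) ∘ₗ liftLin X w) (fun x => ?_)) v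
        rw [LinearMap.comp_apply, LinearMap.comp_apply, Representation.ofMulAction_single, liftLin_single,
          liftLin_single, hw]))
    refine ⟨ShortComplex.Splitting.ofExactOfSection E hE.exact (e3.hom ≫ s') ?_ inferInstance⟩
    rw [← cancel_mono e3.hom, Category.assoc, Category.assoc, Category.id_comp]
    suffices h : s' ≫ E.g ≫ e3.hom = 𝟙 _ by rw [h, Category.comp_id]
    apply Rep.hom_ext
    refine Representation.IntertwiningMap.toLinearMap_injective _ _ ?_
    refine hom_ext_single _ _ (fun x => ?_)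
    show π (liftLin X w (MonoidAlgebra.single x 1)) = MonoidAlgebra.single x 1
    rw [liftLin_single, hπρ, hε, Representation.ofMulAction_single, hγ]
  · intro hii H
    rw [isZero_H1_iff]
    intro c hc
    let x0 : Γ ⧸ H := QuotientGroup.mk 1
    let σ : Γ ⧸ H → Γ := fun x => if x = x0 then 1 else x.out
    have hσ : ∀ x, QuotientGroup.mk (σ x) = x := fun x => by
      simp only [σ]; split_ifs with h
      · exact h.symm
      · exact QuotientGroup.out_eq' x
    have hσ0 : σ x0 = 1 := if_pos rfl
    let η : Γ → Γ ⧸ H → H := fun g x => ⟨(σ (g • x))⁻¹ * (g * σ x), by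
      rw [← QuotientGroup.eq, hσ]
      conv_lhs => rw [← hσ x]
      rfl⟩
    have hη : ∀ g x, σ (g • x) * (η g x : Γ) = g * σ x := fun g x => by simp [η]
    have hη_mul : ∀ g d x, η (g * d) x = η g (d • x) * η d x := fun g d x => Subtype.ext (by
      show (σ ((g * d) • x))⁻¹ * (g * d * σ x)
        = (σ (g • d • x))⁻¹ * (g * σ (d • x)) * ((σ (d • x))⁻¹ * (d * σ x))
      rw [mul_smul]; group)
    let Φ : Γ → MonoidAlgebra ℤ (Γ ⧸ H) →ₗ[ℤ] Λ.V := fun g =>
      liftLin _ (fun x => Λ.ρ (σ (g • x)) (c (η g x)))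
    have hc1 : c 1 = 0 := by
      have := hc 1 1
      rw [mul_one, map_one, Module.End.one_apply, left_eq_add] at this
      exact this
    let ρE : Representation ℤ Γ (Λ.V × MonoidAlgebra ℤ (Γ ⧸ H)) :=
      { toFun := fun g => ((Λ.ρ g).coprod (Φ g)).prod
          ((Representation.ofMulAction ℤ Γ (Γ ⧸ H) g).comp (LinearMap.snd ℤ _ _))
        map_one' := by
          refine LinearMap.prod_ext (LinearMap.ext fun a => ?_) (hom_ext_single _ _ fun x => ?_)
          · simp
          · have h1 : η 1 x = 1 := Subtype.ext (by simp [η])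
            simp [Φ, liftLin_single, h1, hc1]
        map_mul' := fun g d => by
          refine LinearMap.prod_ext (LinearMap.ext fun a => ?_) (hom_ext_single _ _ fun x => ?_)
          · simp
          · simp [Φ, liftLin_single, Representation.ofMulAction_single]
            rw [hη_mul, hc, map_add, mul_smul]
            show Λ.ρ (σ (g • d • x)) (Λ.ρ ((η g (d • x) : H) : Γ) (c (η d x))) + _ = _
            rw [← Module.End.mul_apply, ← map_mul, hη, map_mul, Module.End.mul_apply] }
    let fE : Λ ⟶ Rep.of ρE :=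
      Rep.ofHom ((LinearMap.inl ℤ Λ.V (MonoidAlgebra ℤ (Γ ⧸ H))).intertwiningMap_of_isIntertwiningMap
        Λ.ρ ρE (fun g v => by simp [ρE]))
    let gE : Rep.of ρE ⟶ Rep.ofMulAction ℤ Γ (Γ ⧸ H) :=
      Rep.ofHom ((LinearMap.snd ℤ Λ.V (MonoidAlgebra ℤ (Γ ⧸ H))).intertwiningMap_of_isIntertwiningMap
        ρE (Representation.ofMulAction ℤ Γ (Γ ⧸ H)) (fun g v => by simp [ρE]))
    let E : ShortComplex (Rep ℤ Γ) := ShortComplex.mk fE gE (by
      apply Rep.hom_ext
      exact Representation.IntertwiningMap.toLinearMap_injective _ _ (LinearMap.ext fun a => rfl))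
    have hE : E.ShortExact := by
      refine ShortComplex.ShortExact.mk' ?_
        ((Rep.mono_iff_injective fE).mpr fun a b h => congrArg Prod.fst h)
        ((Rep.epi_iff_surjective gE).mpr fun v => ⟨(0, v), rfl⟩)
      rw [← ShortComplex.exact_map_iff_of_faithful E (forget₂ (Rep.{0} ℤ Γ) (ModuleCat ℤ)),
        ShortComplex.moduleCat_exact_iff]
      intro v hv
      exact ⟨v.1, Prod.ext rfl (Eq.symm hv)⟩
    obtain ⟨S⟩ := hii (Γ ⧸ H) E hE ⟨Iso.refl _⟩ ⟨Iso.refl _⟩
    set v := S.s.hom (MonoidAlgebra.single x0 1) with hv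
    have hv2 : v.2 = MonoidAlgebra.single x0 1 := by
      have := congrArg (fun φ => φ.hom (MonoidAlgebra.single x0 1)) S.s_g
      exact this
    refine ⟨-v.1, fun a => ?_⟩
    have hfix : (a : Γ) • x0 = x0 := QuotientGroup.eq.mpr (by simpa using a.2)
    have hcomm : ρE (a : Γ) v = v := by
      have := Rep.hom_comm_apply S.s (a : Γ) (MonoidAlgebra.single x0 1)
      rw [hv]
      refine this.symm.trans ?_
      congr 1
      show Representation.ofMulAction ℤ Γ (Γ ⧸ H) (a : Γ) (MonoidAlgebra.single x0 1) = _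
      rw [Representation.ofMulAction_single, hfix]
    have hηa : η a x0 = a := Subtype.ext (by
      show (σ ((a : Γ) • x0))⁻¹ * (a * σ x0) = _
      rw [hfix, hσ0]; simp)
    have h1 : Λ.ρ (a : Γ) v.1 + c a = v.1 := by
      have h2 := congrArg Prod.fst hcomm
      change Λ.ρ (a : Γ) v.1 + Φ a v.2 = v.1 at h2
      rw [hv2] at h2
      simp only [Φ, liftLin_single, hfix, hσ0, hηa, map_one, Module.End.one_apply] at h2
      exact h2
    show Λ.ρ (a : Γ) (-v.1) - -v.1 = c a
    rw [map_neg, sub_neg_eq_add, neg_add_eq_sub, sub_eq_iff_eq_add]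
    exact h1.symm.trans (add_comm _ _)

end

/-- For a finite group Γ and a Γ-lattice Λ (finitely generated free ℤ-module with Γ-action) the
following are equivalent: (i) H¹(Γ', Λ) = 0 for every subgroup Γ' ≤ Γ; (ii) Ext¹ over ℤ[Γ] of P into
Λ vanishes for every permutation lattice P = ℤ[X], X a finite Γ-set. Condition (ii) is stated
through Yoneda extensions: every short exact sequence 0 → Λ' → E → P → 0 of ℤ-linear
Γ-representations with Λ' ≅ Λ and P ≅ ℤ[X] splits. (These are the lattices called coflasque.) The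
group, the lattice and the Γ-sets are taken in the lowest universe. -/
theorem result
    (Γ : Type) [Group Γ] [Finite Γ] (Λ : Rep ℤ Γ) [Module.Free ℤ Λ.V] [Module.Finite ℤ Λ.V] :
    (∀ Γ' : Subgroup Γ, Limits.IsZero (groupCohomology (Rep.res Γ'.subtype Λ) 1)) ↔
      ∀ (X : Type) [MulAction Γ X] [Finite X] (E : ShortComplex (Rep ℤ Γ)),
        E.ShortExact → Nonempty (E.X₁ ≅ Λ) → Nonempty (E.X₃ ≅ Rep.ofMulAction ℤ Γ X) →
          Nonempty E.Splitting := by
  exact main Γ Λ

end Groth.Agent.S17849
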