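import Groth.Statements.S17859
import Mathlib

set_option autoImplicit false
open CategoryTheory MonoidalCategory
universe u
open Algz

namespace Groth.Agent.S17859
open TensorProduct
set_option backward.isDefEq.respectTransparency false

/-- Over an affine scheme, that is for modules over a commutative ring `R`, a finitely generated
projective `R`-module `M`, viewed as an object of the monoidal category of `R`-modules (tensor
product over `R`), has a right dual. (The published statement is the equivalence, for quasi-coherent
sheaves on a quasi-compact quasi-separated scheme, between being dualizable and being a vector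
bundle; stated here is the affine case of the implication from vector bundle to dualizable. The
converse implication, that a module admitting a dual is finitely generated projective, is stated
separately and is not repeated here.) -/
theorem result (R : Type u) [CommRing R] (M : ModuleCat.{u} R)
    [Module.Finite R M] [Module.Projective R M] : Nonempty (HasRightDual M) := by
  obtain ⟨n, π, s, -, -, hs⟩ := Module.Finite.exists_comp_eq_id_of_projective R M
  let x : Fin n → M := fun i => π (Pi.single i 1)
  let f : Fin n → Module.Dual R M := fun i => (LinearMap.proj i).comp s
  have hx : ∀ m : M, ∑ i, f i m • x i = m := fun m => by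
    simp only [x, f, ← map_smul, ← map_sum, LinearMap.comp_apply, LinearMap.proj_apply]
    rw [← pi_eq_sum_univ' (s m)]
    exact LinearMap.congr_fun hs m
  let co : R →ₗ[R] M ⊗[R] Module.Dual R M := LinearMap.toSpanSingleton R _ (∑ i, x i ⊗ₜ[R] f i)
  have h1 : (contractLeft R M).rTensor _ ∘ₗ (TensorProduct.assoc R _ _ _).symm.toLinearMap ∘ₗ co.lTensor (Module.Dual R M) =
      (TensorProduct.lid R _).symm.toLinearMap ∘ₗ (TensorProduct.rid R _).toLinearMap := by
    refine TensorProduct.ext' fun φ r => ?_
    simp only [co, LinearMap.comp_apply, LinearMap.lTensor_tmul, LinearMap.toSpanSingleton_apply, LinearEquiv.coe_coe,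
      TensorProduct.rid_tmul, TensorProduct.lid_symm_apply, TensorProduct.tmul_sum, map_smul, TensorProduct.tmul_smul,
      map_sum, TensorProduct.assoc_symm_tmul, LinearMap.rTensor_tmul, contractLeft_apply]
    congr 1
    rw [← sub_eq_zero]
    have : φ = ∑ i, φ (x i) • f i := LinearMap.ext fun m => by
      conv_lhs => rw [← hx m]
      simp [mul_comm]
    conv_lhs => arg 2; rw [this]
    simp [TensorProduct.tmul_sum, sub_eq_zero, TensorProduct.smul_tmul']
  have h2 : (contractLeft R M).lTensor _ ∘ₗ (TensorProduct.assoc R _ _ _).toLinearMap ∘ₗ co.rTensor M =
      (TensorProduct.rid R _).symm.toLinearMap ∘ₗ (TensorProduct.lid R _).toLinearMap := by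
    refine TensorProduct.ext' fun r m => ?_
    simp only [co, LinearMap.comp_apply, LinearMap.rTensor_tmul, LinearMap.toSpanSingleton_apply, LinearEquiv.coe_coe,
      TensorProduct.lid_tmul, TensorProduct.rid_symm_apply, TensorProduct.sum_tmul, map_smul, ← TensorProduct.smul_tmul',
      map_sum, TensorProduct.assoc_tmul, LinearMap.lTensor_tmul, contractLeft_apply]
    congr 1
    conv_rhs => rw [← hx m]
    simp [TensorProduct.sum_tmul, TensorProduct.smul_tmul]
  let V' : ModuleCat.{u} R := ModuleCat.of R (Module.Dual R M)
  letI : ExactPairing M V' :=
    { coevaluation' := ModuleCat.ofHom co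
      evaluation' := ModuleCat.ofHom (contractLeft R M)
      coevaluation_evaluation' := by
        apply ModuleCat.hom_ext; exact h1
      evaluation_coevaluation' := by
        apply ModuleCat.hom_ext; exact h2 }
  exact ⟨⟨V'⟩⟩

end Groth.Agent.S17859
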