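import Groth.Statements.S17872
import Mathlib

set_option autoImplicit false
universe u v
open GRRSing

namespace Groth.Agent.S17872

/-- Let H be a vector space over a field K and let b_0, …, b_l be elements of H. If the sum of the t ^ i
• b_i vanishes for infinitely many scalars t of K, then all the b_i are zero. -/
theorem result {K : Type u} {H : Type v} [Field K] [AddCommGroup H] [Module K H]
    (l : ℕ) (b : Fin (l + 1) → H)
    (h : Set.Infinite {t : K | ∑ i : Fin (l + 1), t ^ (i : ℕ) • b i = 0}) :
    b = 0 := by
  classical
  funext i
  simp only [Pi.zero_apply]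
  refine (Module.forall_dual_apply_eq_zero_iff K _).1 fun φ => ?_
  let P : Polynomial K := ∑ j : Fin (l + 1), Polynomial.monomial (j : ℕ) (φ (b j))
  have hP : P = 0 := by
    refine Polynomial.eq_zero_of_infinite_isRoot P (h.mono fun t ht => ?_)
    have := congrArg φ (show ∑ j : Fin (l + 1), t ^ (j : ℕ) • b j = 0 from ht)
    simpa [P, Polynomial.IsRoot, Polynomial.eval_finsetSum, mul_comm] using this
  have := congrArg (fun q : Polynomial K => q.coeff (i : ℕ)) hP
  simpa [P, Polynomial.finsetSum_coeff, Polynomial.coeff_monomial, Fin.val_inj] using this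

end Groth.Agent.S17872
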