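import Groth.Statements.S17878
import Mathlib

set_option autoImplicit false
set_option backward.isDefEq.respectTransparency.types false
set_option maxHeartbeats 1000000
set_option linter.all false
universe u
open Filter Topology
open GRRSing

namespace Groth.Agent.S17878
open Groth.Agent

/-- Let T be a nonzero commutative normed ℂ-algebra such that the map ℂ → T/nilradical(T) is surjective,
let P = Σ_j d_j x ^ j be a polynomial over T and put h_k = P(k). Let E_0, E_1, … be the rational
numbers with 2/(e^t + 1) = Σ_j E_j t ^ j / j! (so E_0 = 1, E_1 = -1/2). Then for every complex y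
with |y| < 1 the series Σ_k h_k y ^ k converges in T, and as y → -1 along real y in (-1, 1) its sum
tends to (1/2) Σ_j E_j d_j. (The published statement allows any norm topology on T as a complex
vector space; this row takes T a normed ℂ-algebra.) -/
theorem result {T : Type u} [NormedCommRing T] [NormedAlgebra ℂ T] [Nontrivial T]
    (hT : Function.Surjective (algebraMap ℂ (T ⧸ nilradical T)))
    (E : ℕ → ℚ) (hE : PowerSeries.mk (fun j => E j / (j.factorial : ℚ)) * (PowerSeries.exp ℚ + 1) = 2)
    (P : Polynomial T) :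
    (∀ y : ℂ, ‖y‖ < 1 → Summable (fun k : ℕ => y ^ k • P.eval (k : T))) ∧
    Tendsto (fun y : ℝ => ∑' k : ℕ, ((y : ℂ) ^ k) • P.eval (k : T)) (𝓝[Set.Ioo (-1 : ℝ) 1] (-1 : ℝ))
      (𝓝 ((2 : ℂ)⁻¹ • ∑ j ∈ Finset.range (P.natDegree + 1), ((E j : ℚ) : ℂ) • P.coeff j)) := by
    classical
    let S : ℕ → ℂ → ℂ := fun j y => ∑' k : ℕ, (k : ℂ) ^ j * y ^ k
    have hsum : ∀ j y, ‖y‖ < 1 → Summable (fun k : ℕ => (k : ℂ) ^ j * y ^ k) := fun j y hy =>
      summable_pow_mul_geometric_of_norm_lt_one j hy
    have hS : ∀ j y, ‖y‖ < 1 → HasSum (fun k : ℕ => (k : ℂ) ^ j * y ^ k) (S j y) := fun j y hy =>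
      (hsum j y hy).hasSum
    have hmain : ∀ y : ℂ, ‖y‖ < 1 → HasSum (fun k : ℕ => y ^ k • P.eval (k : T))
        (∑ j ∈ Finset.range (P.natDegree + 1), S j y • P.coeff j) := by
      intro y hy
      have h1 : HasSum (fun k : ℕ => ∑ j ∈ Finset.range (P.natDegree + 1), ((k : ℂ) ^ j * y ^ k) • P.coeff j)
          (∑ j ∈ Finset.range (P.natDegree + 1), S j y • P.coeff j) :=
        hasSum_sum fun j _ => (hS j y hy).smul_const (P.coeff j)
      refine h1.congr_fun fun k => ?_
      rw [Polynomial.eval_eq_sum_range, Finset.smul_sum]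
      refine Finset.sum_congr rfl fun j _ => ?_
      simp only [Algebra.smul_def, map_mul, map_pow, map_natCast]
      ring
    refine ⟨fun y hy => (hmain y hy).summable, ?_⟩
    have hrec : ∀ n y, ‖y‖ < 1 → S n y =
        (0 : ℂ) ^ n + y * ∑ i ∈ Finset.range (n + 1), (n.choose i : ℂ) * S i y := by
      intro n y hy
      have h2 : HasSum (fun k : ℕ => ((k + 1 : ℕ) : ℂ) ^ n * y ^ (k + 1))
          (y * ∑ i ∈ Finset.range (n + 1), (n.choose i : ℂ) * S i y) := by
        have h1 : HasSum (fun k : ℕ => ∑ i ∈ Finset.range (n + 1), y * ((n.choose i : ℂ) * ((k : ℂ) ^ i * y ^ k)))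
            (∑ i ∈ Finset.range (n + 1), y * ((n.choose i : ℂ) * S i y)) :=
          hasSum_sum fun i _ => ((hS i y hy).mul_left _).mul_left _
        rw [Finset.mul_sum]
        refine h1.congr_fun fun k => ?_
        rw [Nat.cast_add, Nat.cast_one, add_pow, Finset.sum_mul]
        refine Finset.sum_congr rfl fun i _ => ?_
        simp only [one_pow, mul_one]
        ring
      show (∑' k : ℕ, (k : ℂ) ^ n * y ^ k) = _
      rw [(hsum n y hy).tsum_eq_zero_add, h2.tsum_eq]
      simp
    have hcoeff : ∀ n : ℕ, (∑ i ∈ Finset.range n, (n.choose i : ℚ) * E i) + 2 * E n = 2 * (0 : ℚ) ^ n := by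
      intro n
      have h2 : PowerSeries.coeff n (2 : PowerSeries ℚ) = 2 * (0 : ℚ) ^ n := by
        rw [show (2 : PowerSeries ℚ) = PowerSeries.C 2 from (map_ofNat _ _).symm, PowerSeries.coeff_C]
        rcases eq_or_ne n 0 with rfl | hn <;> simp [*]
      have h := congrArg (PowerSeries.coeff n) hE
      rw [PowerSeries.coeff_mul, Finset.Nat.sum_antidiagonal_eq_sum_range_succ_mk, Finset.sum_range_succ, h2] at h
      simp only [PowerSeries.coeff_mk, map_add, PowerSeries.coeff_exp, PowerSeries.coeff_one, Nat.sub_self,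
        if_pos, Algebra.algebraMap_self, RingHom.id_apply] at h
      have hn : (n.factorial : ℚ) ≠ 0 := Nat.cast_ne_zero.2 n.factorial_ne_zero
      have h3 := congrArg (fun t => (n.factorial : ℚ) * t) h
      simp only [mul_add, Finset.mul_sum] at h3
      have hr : (n.factorial : ℚ) * (2 * (0 : ℚ) ^ n) = 2 * (0 : ℚ) ^ n := by
        rcases eq_or_ne n 0 with rfl | hn <;> simp [*]
      rw [hr] at h3
      refine Eq.trans ?_ h3
      congr 1
      · refine Finset.sum_congr rfl fun i hi => ?_
        rw [Finset.mem_range] at hi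
        rw [Nat.cast_choose ℚ hi.le, if_neg (by omega), mul_zero, mul_zero, add_zero]
        field_simp
      · norm_num
        field_simp
        ring
    have hev : ∀ᶠ t : ℝ in 𝓝[Set.Ioo (-1 : ℝ) 1] (-1 : ℝ), ‖(t : ℂ)‖ < 1 := by
      filter_upwards [self_mem_nhdsWithin] with t ht
      rw [Complex.norm_real, Real.norm_eq_abs, abs_lt]
      exact ht
    have hlim : ∀ n, Tendsto (fun t : ℝ => S n t) (𝓝[Set.Ioo (-1 : ℝ) 1] (-1 : ℝ)) (𝓝 ((2 : ℂ)⁻¹ * (E n : ℂ))) := by
      intro n
      induction n using Nat.strong_induction_on with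
      | _ n ih =>
        have ht : Tendsto (fun t : ℝ => (t : ℂ)) (𝓝[Set.Ioo (-1 : ℝ) 1] (-1 : ℝ)) (𝓝 (-1 : ℂ)) := by
          have := (Complex.continuous_ofReal.tendsto (-1 : ℝ)).mono_left
            (nhdsWithin_le_nhds (s := Set.Ioo (-1 : ℝ) 1))
          simpa using this
        have hsm := tendsto_finsetSum (Finset.range n) fun i hi =>
          (ih i (Finset.mem_range.1 hi)).const_mul (n.choose i : ℂ)
        have h1 := (((tendsto_const_nhds (x := (1 : ℂ))).sub ht).inv₀ (by norm_num)).mul
          ((tendsto_const_nhds (x := (0 : ℂ) ^ n)).add (ht.mul hsm))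
        have hval : (1 - (-1 : ℂ))⁻¹ * (0 ^ n + -1 * ∑ i ∈ Finset.range n, (n.choose i : ℂ) * ((2 : ℂ)⁻¹ * (E i : ℂ))) =
            (2 : ℂ)⁻¹ * (E n : ℂ) := by
          have h := congrArg ((↑) : ℚ → ℂ) (hcoeff n)
          push_cast at h
          have h' : (∑ i ∈ Finset.range n, (n.choose i : ℂ) * ((2 : ℂ)⁻¹ * (E i : ℂ))) =
              (2 : ℂ)⁻¹ * ∑ i ∈ Finset.range n, (n.choose i : ℂ) * (E i : ℂ) := by
            rw [Finset.mul_sum]
            exact Finset.sum_congr rfl fun i _ => by ring
          rw [h', show (1 : ℂ) - -1 = 2 by norm_num]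
          linear_combination (-1 / 4 : ℂ) * h
        rw [hval] at h1
        refine h1.congr' ?_
        filter_upwards [hev] with t hy
        have hne : (1 : ℂ) - t ≠ 0 := fun h0 => by simp [← sub_eq_zero.1 h0] at hy
        have h := hrec n t hy
        rw [Finset.sum_range_succ, Nat.choose_self, Nat.cast_one, one_mul] at h
        rw [inv_mul_eq_iff_eq_mul₀ hne]
        linear_combination -h
    have hfin : Tendsto (fun t : ℝ => ∑ j ∈ Finset.range (P.natDegree + 1), S j t • P.coeff j)
        (𝓝[Set.Ioo (-1 : ℝ) 1] (-1 : ℝ))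
        (𝓝 (∑ j ∈ Finset.range (P.natDegree + 1), ((2 : ℂ)⁻¹ * (E j : ℂ)) • P.coeff j)) :=
      tendsto_finsetSum _ fun j _ => (hlim j).smul_const _
    simp only [Finset.smul_sum, smul_smul]
    refine hfin.congr' ?_
    filter_upwards [hev] with t hy
    exact (hmain t hy).tsum_eq.symm

end Groth.Agent.S17878
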