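import Groth.Statements.S17881
import Mathlib
import Groth.Agent.Lib.H2FiniteAlgClosed

set_option autoImplicit false
universe u
open CAlg

namespace Groth.Agent.S17881
open scoped TensorProduct
open Polynomial
set_option linter.style.haveILetI false

/-- Let O be a subring of a nontrivial commutative ring A. The following are equivalent: (i) A is a
local ring, every non-unit of A belongs to O, and for every unit u of A one of u, u⁻¹ belongs to O —
equivalently O is the preimage in the local ring A of a valuation ring of the residue field of A,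
which makes O a semi-valuation ring with semi-fraction ring A; (ii) for all f, g in A generating the
unit ideal, either f ∈ gO or g ∈ fO. (A is taken nontrivial: over the zero ring (ii) holds and (i)
fails.) -/
theorem result (A : Type u) [CommRing A] [Nontrivial A]
    (O : Subring A) :
    (IsLocalRing A ∧ (∀ a : A, ¬ IsUnit a → a ∈ O) ∧ (∀ u : Aˣ, (u : A) ∈ O ∨ ((u⁻¹ : Aˣ) : A) ∈ O)) ↔
      ∀ f g : A, IsCoprime f g → (∃ o ∈ O, f = g * o) ∨ (∃ o ∈ O, g = f * o) := by
  constructor
  · rintro ⟨hloc, hnu, hu⟩ f g ⟨a, b, hab⟩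
    haveI := hloc
    have : IsUnit f ∨ IsUnit g := by
      rcases IsLocalRing.isUnit_or_isUnit_of_add_one hab with h | h
      · exact Or.inl (isUnit_of_mul_isUnit_right h)
      · exact Or.inr (isUnit_of_mul_isUnit_right h)
    have key : ∀ f g : A, IsUnit g → (∃ o ∈ O, f = g * o) ∨ (∃ o ∈ O, g = f * o) := by
      rintro f g ⟨v, rfl⟩
      by_cases hf : IsUnit (f * ↑v⁻¹)
      · obtain ⟨w, hw⟩ := hf
        rcases hu w with hwO | hwO
        · exact Or.inl ⟨w, hwO, by rw [hw, mul_left_comm, Units.mul_inv, mul_one]⟩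
        · refine Or.inr ⟨_, hwO, ?_⟩
          have : f = (v : A) * w := by rw [hw, mul_left_comm, Units.mul_inv, mul_one]
          rw [this, mul_assoc, Units.mul_inv, mul_one]
      · exact Or.inl ⟨_, hnu _ hf, by rw [mul_left_comm, Units.mul_inv, mul_one]⟩
    rcases this with h | h
    · exact (key g f h).symm
    · exact key f g h
  · intro h
    have hloc : IsLocalRing A := by
      refine IsLocalRing.of_nonunits_add fun {a b} ha hb => ?_
      rw [mem_nonunits_iff] at *
      rintro ⟨v, hv⟩
      have hco : IsCoprime a b := ⟨↑v⁻¹, ↑v⁻¹, by rw [← mul_add, ← hv, Units.inv_mul]⟩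
      rcases h a b hco with ⟨o, -, ho⟩ | ⟨o, -, ho⟩
      · exact hb (isUnit_of_mul_isUnit_left (y := o + 1) ⟨v, by rw [hv, ho]; ring⟩)
      · exact ha (isUnit_of_mul_isUnit_left (y := o + 1) ⟨v, by rw [hv, ho]; ring⟩)
    refine ⟨hloc, fun a ha => ?_, fun v => ?_⟩
    · rcases h a 1 isCoprime_one_right with ⟨o, ho, e⟩ | ⟨o, ho, e⟩
      · rwa [e, one_mul]
      · exact absurd (isUnit_of_mul_isUnit_left (e ▸ isUnit_one)) ha
    · rcases h v 1 isCoprime_one_right with ⟨o, ho, e⟩ | ⟨o, ho, e⟩
      · exact Or.inl (by rwa [e, one_mul])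
      · refine Or.inr ?_
        rw [show ((v⁻¹ : Aˣ) : A) = o by rw [← mul_one (↑v⁻¹ : A), e, ← mul_assoc, Units.inv_mul, one_mul]]
        exact ho

end Groth.Agent.S17881
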