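import Groth.Statements.S17882
import Mathlib

set_option autoImplicit false
universe u
open CAlg

namespace Groth.Agent.S17882
open scoped TensorProduct
open CategoryTheory
set_option linter.style.haveILetI false

/-- Let B be a commutative ring, r ≥ 1, N a finitely generated submodule of B^r, and n_1, …, n_r ∈ N.
Suppose the determinant of the matrix with rows n_1, …, n_r is a nonzerodivisor of B and that the
determinant of every matrix whose rows lie in N is a multiple of it (the image of the top exterior
power of N in that of B^r ≅ B is the principal ideal generated by n_1 ∧ ⋯ ∧ n_r, a nonzerodivisor).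
Then n_1, …, n_r are linearly independent over B and span N: N is free of rank r with this basis. -/
theorem result (B : Type u) [CommRing B] (r : ℕ) (hr : 0 < r)
    (N : Submodule B (Fin r → B)) (hN : N.FG) (n : Fin r → (Fin r → B)) (hn : ∀ i, n i ∈ N)
    (hgen : ∀ m : Fin r → (Fin r → B), (∀ i, m i ∈ N) →
      Matrix.det (Matrix.of m) ∈ Ideal.span {Matrix.det (Matrix.of n)})
    (hnzd : Matrix.det (Matrix.of n) ∈ nonZeroDivisors B) :
    LinearIndependent B n ∧ Submodule.span B (Set.range n) = N := by
  classical
  set T := Matrix.of n
  have hmul : ∀ v : Fin r → B, Matrix.vecMul v T = ∑ i, v i • n i := fun v => by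
    ext j; simp [Matrix.vecMul, dotProduct, T]
  constructor
  · rw [Fintype.linearIndependent_iff]
    intro g hg i
    rw [← hmul] at hg
    have h := congrArg (fun v => Matrix.vecMul v T.adjugate) hg
    simp only [Matrix.vecMul_vecMul, Matrix.mul_adjugate, Matrix.zero_vecMul, Matrix.vecMul_smul, Matrix.vecMul_one] at h
    exact (mem_nonZeroDivisors_iff.1 hnzd).1 _ (congrFun h i)
  · refine le_antisymm (Submodule.span_le.2 (by rintro _ ⟨i, rfl⟩; exact hn i)) fun v hv => ?_
    have hc : ∀ i, ∃ c : B, Matrix.vecMul v T.adjugate i = c * T.det := by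
      intro i
      have h1 : Matrix.vecMul v T.adjugate i = (Matrix.of (Function.update n i v)).det := by
        rw [show Matrix.of (Function.update n i v) = T.updateRow i v from rfl, ← Matrix.cramer_transpose_apply, Matrix.cramer_eq_adjugate_mulVec, ← Matrix.adjugate_transpose, Matrix.mulVec_transpose]
      obtain ⟨c, hc⟩ := Ideal.mem_span_singleton'.1 (hgen (Function.update n i v) fun k => by
        rcases eq_or_ne k i with rfl | hk
        · rwa [Function.update_self]
        · rw [Function.update_of_ne hk]; exact hn k)
      exact ⟨c, h1.trans hc.symm⟩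
    choose c hc using hc
    have h2 : T.det • v = T.det • Matrix.vecMul c T := by
      rw [← Matrix.smul_vecMul]
      have : Matrix.vecMul (Matrix.vecMul v T.adjugate) T = T.det • v := by
        rw [Matrix.vecMul_vecMul, Matrix.adjugate_mul, Matrix.vecMul_smul, Matrix.vecMul_one]
      rw [← this]
      congr 1
      funext i; rw [hc i, Pi.smul_apply, smul_eq_mul, mul_comm]
    have h3 : v = Matrix.vecMul c T := funext fun i => sub_eq_zero.1 ((mem_nonZeroDivisors_iff.1 hnzd).1 _ (by
      rw [mul_sub, sub_eq_zero]; exact congrFun h2 i))
    rw [h3, hmul]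
    exact Submodule.sum_mem _ fun i _ => Submodule.smul_mem _ _ (Submodule.subset_span ⟨i, rfl⟩)

end Groth.Agent.S17882
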