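import Groth.Statements.S17897
import Groth.Agent.Lib.H6.ValDense

set_option autoImplicit false
set_option linter.all false
universe u
open CategoryTheory AlgebraicGeometry
open ValCrit

namespace Groth.Agent.S17897

/-- Let f : Y → X be a morphism of schemes (not assumed separated), R a valuation ring with fraction
field K, and i : Spec K → Y, φ : Spec R → X with i ≫ f = (Spec K → Spec R) ≫ φ. Let y be the point
of Y hit by i and g : κ(y) → K the induced embedding, R' = g⁻¹(R) the induced valuation ring of κ(y)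
and ρ : R' → R the restriction of g. Then φ factors uniquely through Spec R → Spec R': there is a
unique φ' : Spec R' → X with (Spec ρ) ≫ φ' = φ whose restriction to the generic point Spec κ(y) is
the canonical morphism Spec κ(y) → Y followed by f. (Here y and g are given as data with Spec g
followed by Spec κ(y) → Y equal to i, and ρ as data by its defining equation.) -/
theorem result {X Y : Scheme.{u}} (f : Y ⟶ X)
    (K : Type u) [Field K] (R : ValuationSubring K)
    (i : Spec (CommRingCat.of K) ⟶ Y) (φ : Spec (CommRingCat.of ↥R) ⟶ X)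
    (w : Spec.map (CommRingCat.ofHom R.subtype) ≫ φ = i ≫ f)
    (y : Y) (g : Y.residueField y ⟶ CommRingCat.of K) (hg : Spec.map g ≫ Y.fromSpecResidueField y = i)
    (ρ : ↥(R.comap g.hom) →+* ↥R)
    (hρ : ∀ x : ↥(R.comap g.hom), ((ρ x : ↥R) : K) = g.hom (x : ↑(Y.residueField y))) :
    ∃! φ' : Spec (CommRingCat.of ↥(R.comap g.hom)) ⟶ X,
      Spec.map (CommRingCat.ofHom ρ) ≫ φ' = φ ∧
      Spec.map (CommRingCat.ofHom (R.comap g.hom).subtype) ≫ φ' = Y.fromSpecResidueField y ≫ f := by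
  suffices hgen : ∀ (V : ValuationSubring (Y.residueField y)), V = H6.ValDense.res (R := ↥R) g.hom → ∀ (ρ : ↥V →+* ↥R),
      (∀ x : ↥V, ((ρ x : ↥R) : K) = g.hom (x : ↑(Y.residueField y))) →
      ∃! φ' : Spec (CommRingCat.of ↥V) ⟶ X, Spec.map (CommRingCat.ofHom ρ) ≫ φ' = φ ∧
        Spec.map (CommRingCat.ofHom V.subtype) ≫ φ' = Y.fromSpecResidueField y ≫ f by
    refine hgen _ (SetLike.ext fun z => Iff.intro (fun hz => ?_) (fun hz => ?_)) ρ hρ
    · exact (⟨⟨g.hom z, hz⟩, rfl⟩ : ∃ r : ↥R, (r : K) = g.hom z)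
    obtain ⟨r, hr⟩ : ∃ r : ↥R, (r : K) = g.hom z := hz
    show g.hom z ∈ R
    rw [← hr]
    exact r.2
  intro V hV ρ hρ
  subst hV
  obtain ⟨ρ₀, h₀, hloc⟩ := H6.ValDense.exists_rho (R := ↥R) (K := K) g.hom
  have hρ0 : ρ = ρ₀ := RingHom.ext fun x => Subtype.ext ((hρ x).trans (RingHom.congr_fun h₀ x).symm)
  subst hρ0
  have hw : Spec.map (CommRingCat.ofHom (algebraMap ↥R K)) ≫ φ =
      Spec.map (CommRingCat.ofHom g.hom) ≫ (Y.fromSpecResidueField y ≫ f) := by
    rw [← Category.assoc]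
    exact w.trans (congrArg (· ≫ f) hg.symm)
  obtain ⟨l', hl1, hl2⟩ := H6.ValDense.descend g.hom ρ h₀ (Y.fromSpecResidueField y ≫ f) φ hw
  refine ⟨l', ⟨hl2, hl1⟩, fun l'' hl'' => H6.ValDense.ext_of_gen _ _ (hl''.2.trans hl1.symm) ?_⟩
  have hc : Spec.map (CommRingCat.ofHom ρ) (IsLocalRing.closedPoint ↥R) = IsLocalRing.closedPoint _ := by
    haveI := hloc
    exact IsLocalRing.comap_closedPoint ρ
  rw [← hc]
  exact (congrArg (fun h => h (IsLocalRing.closedPoint ↥R)) (hl''.1.trans hl2.symm))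

end Groth.Agent.S17897
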