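import Mathlib
import Groth.Statements.S17900
import Groth.Agent.Lib.H4MilnorFinite
import Groth.Agent.Lib.H4FlatSyzygy
-- import your own Groth.Agent.* helpers here

set_option autoImplicit false
universe u
open TensorProduct
open Pinch

namespace Groth.Agent.S17900

/-- Let R be a commutative ring and let B' → B → A, B' → A' → A be a commutative square of R-algebras
which is a fibre square (B' = B ×_A A') with A' → A surjective. If B, A' and A are flat over R then
B' is flat over R. -/
theorem result (R B' B A' A : Type u) [CommRing R] [CommRing B'] [CommRing B] [CommRing A'] [CommRing A]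
    [Algebra B' B] [Algebra B' A'] [Algebra B A] [Algebra A' A] [Algebra B' A]
    [IsScalarTower B' B A] [IsScalarTower B' A' A]
    [Algebra R B'] [Algebra R B] [Algebra R A'] [Algebra R A]
    [IsScalarTower R B' B] [IsScalarTower R B' A'] [IsScalarTower R B' A] [IsScalarTower R B A] [IsScalarTower R A' A]
    (hsq : EtMil.IsFibreSquare B' B A' A)
    [Module.Flat R B] [Module.Flat R A'] [Module.Flat R A] :
    Module.Flat R B' := by
  let i : B' →ₗ[R] B × A' := (IsScalarTower.toAlgHom R B' B).toLinearMap.prod (IsScalarTower.toAlgHom R B' A').toLinearMap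
  let p : B × A' →ₗ[R] A := (IsScalarTower.toAlgHom R B A).toLinearMap ∘ₗ LinearMap.fst R B A' -
    (IsScalarTower.toAlgHom R A' A).toLinearMap ∘ₗ LinearMap.snd R B A'
  haveI : Module.Flat R (B × A') := by
    refine (Module.Flat.iff_lTensor_injective' (R := R) (M := B × A')).2 fun J => ?_
    rw [injective_iff_map_eq_zero]
    intro x hx
    have key : ∀ (N : Type u) [AddCommGroup N] [Module R N] [Module.Flat R N] (q : B × A' →ₗ[R] N), q.rTensor J x = 0 := by
      intro N _ _ _ q
      refine Module.Flat.lTensor_preserves_injective_linearMap (M := N) J.subtype J.injective_subtype ?_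
      rw [map_zero, ← LinearMap.comp_apply, LinearMap.lTensor_comp_rTensor, ← LinearMap.rTensor_comp_lTensor, LinearMap.comp_apply, hx, map_zero]
    have hd : x = (LinearMap.inl R B A').rTensor J ((LinearMap.fst R B A').rTensor J x) +
        (LinearMap.inr R B A').rTensor J ((LinearMap.snd R B A').rTensor J x) := by
      rw [← LinearMap.comp_apply, ← LinearMap.comp_apply, ← LinearMap.rTensor_comp, ← LinearMap.rTensor_comp, ← LinearMap.add_apply,
        ← LinearMap.rTensor_add, show LinearMap.inl R B A' ∘ₗ LinearMap.fst R B A' + LinearMap.inr R B A' ∘ₗ LinearMap.snd R B A' = LinearMap.id from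
          LinearMap.ext fun v => by simp, LinearMap.rTensor_id, LinearMap.id_apply]
    rw [hd, key B, key A', map_zero, map_zero, add_zero]
  refine H4FlatDescent.flat_kernel i p (fun a b h => ?_) (fun x => ⟨fun hx => ?_, ?_⟩) (fun a => ?_)
  · obtain ⟨h1, h2⟩ := Prod.ext_iff.1 h
    obtain ⟨_, -, hu⟩ := hsq.2 (algebraMap B' B a) (algebraMap B' A' a) (by
      rw [← IsScalarTower.algebraMap_apply, ← IsScalarTower.algebraMap_apply])
    exact (hu a ⟨rfl, rfl⟩).trans (hu b ⟨h1.symm, h2.symm⟩).symm
  · obtain ⟨b', ⟨h1, h2⟩, -⟩ := hsq.2 x.1 x.2 (sub_eq_zero.1 hx)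
    exact ⟨b', Prod.ext h1 h2⟩
  · rintro ⟨b', rfl⟩
    show algebraMap B A (algebraMap B' B b') - algebraMap A' A (algebraMap B' A' b') = 0
    rw [← IsScalarTower.algebraMap_apply, ← IsScalarTower.algebraMap_apply, sub_self]
  · obtain ⟨a', ha⟩ := hsq.1 (-a)
    refine ⟨(0, a'), ?_⟩
    show algebraMap B A 0 - algebraMap A' A a' = a
    rw [map_zero, ha, zero_sub, neg_neg]

end Groth.Agent.S17900
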