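import Mathlib
import Groth.Statements.S17901
import Groth.Agent.Lib.H4FlatSyzygy
-- import your own Groth.Agent.* helpers here

set_option autoImplicit false
universe u
open TensorProduct
open Pinch

namespace Groth.Agent.S17901

/-- Let R be a commutative ring and let B' → B → A, B' → A' → A be a fibre square of R-algebras (B' = B
×_A A') with A' → A surjective, where B, A' and A are flat over R. Then for every commutative
R-algebra R' the square obtained by applying R' ⊗_R − is again a fibre square: R' ⊗_R A' → R' ⊗_R A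
is surjective and every pair of elements of R' ⊗_R B and R' ⊗_R A' with the same image in R' ⊗_R A
is the image of a unique element of R' ⊗_R B'. (The published lemma concludes that the base-changed
square of spectra is co-cartesian in ringed spaces; this row states the ring form, surjective edge
and fibre product, which its proof establishes before translating it to ringed spaces.) -/
theorem result (R B' B A' A : Type u) [CommRing R] [CommRing B'] [CommRing B] [CommRing A'] [CommRing A]
    [Algebra B' B] [Algebra B' A'] [Algebra B A] [Algebra A' A] [Algebra B' A]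
    [IsScalarTower B' B A] [IsScalarTower B' A' A]
    [Algebra R B'] [Algebra R B] [Algebra R A'] [Algebra R A]
    [IsScalarTower R B' B] [IsScalarTower R B' A'] [IsScalarTower R B' A] [IsScalarTower R B A] [IsScalarTower R A' A]
    (hsq : EtMil.IsFibreSquare B' B A' A)
    [Module.Flat R B] [Module.Flat R A'] [Module.Flat R A]
    (R' : Type u) [CommRing R'] [Algebra R R'] :
    Function.Surjective (Algebra.TensorProduct.map (AlgHom.id R R') (IsScalarTower.toAlgHom R A' A)) ∧
    ∀ (x : R' ⊗[R] B) (y : R' ⊗[R] A'),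
      Algebra.TensorProduct.map (AlgHom.id R R') (IsScalarTower.toAlgHom R B A) x =
        Algebra.TensorProduct.map (AlgHom.id R R') (IsScalarTower.toAlgHom R A' A) y →
      ∃! z : R' ⊗[R] B',
        Algebra.TensorProduct.map (AlgHom.id R R') (IsScalarTower.toAlgHom R B' B) z = x ∧
        Algebra.TensorProduct.map (AlgHom.id R R') (IsScalarTower.toAlgHom R B' A') z = y := by
  let i : B' →ₗ[R] B × A' := (IsScalarTower.toAlgHom R B' B).toLinearMap.prod (IsScalarTower.toAlgHom R B' A').toLinearMap
  let p : B × A' →ₗ[R] A := (IsScalarTower.toAlgHom R B A).toLinearMap ∘ₗ LinearMap.fst R B A' -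
    (IsScalarTower.toAlgHom R A' A).toLinearMap ∘ₗ LinearMap.snd R B A'
  have hi : Function.Injective i := fun a b h => by
    obtain ⟨h1, h2⟩ := Prod.ext_iff.1 h
    obtain ⟨_, -, hu⟩ := hsq.2 (algebraMap B' B a) (algebraMap B' A' a) (by
      rw [← IsScalarTower.algebraMap_apply, ← IsScalarTower.algebraMap_apply])
    exact (hu a ⟨rfl, rfl⟩).trans (hu b ⟨h1.symm, h2.symm⟩).symm
  have he : Function.Exact i p := fun x => by
    refine ⟨fun hx => ?_, ?_⟩
    · obtain ⟨b', ⟨h1, h2⟩, -⟩ := hsq.2 x.1 x.2 (sub_eq_zero.1 hx)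
      exact ⟨b', Prod.ext h1 h2⟩
    · rintro ⟨b', rfl⟩
      show algebraMap B A (algebraMap B' B b') - algebraMap A' A (algebraMap B' A' b') = 0
      rw [← IsScalarTower.algebraMap_apply, ← IsScalarTower.algebraMap_apply, sub_self]
  have hp : Function.Surjective p := fun a => by
    obtain ⟨a', ha⟩ := hsq.1 (-a)
    refine ⟨(0, a'), ?_⟩
    show algebraMap B A 0 - algebraMap A' A a' = a
    rw [map_zero, ha, zero_sub, neg_neg]
  let gB := IsScalarTower.toAlgHom R B' B
  let gA := IsScalarTower.toAlgHom R B' A'
  have hm : ∀ {S T : Type u} [CommRing S] [CommRing T] [Algebra R S] [Algebra R T] (φ : S →ₐ[R] T) (z : R' ⊗[R] S),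
      Algebra.TensorProduct.map (AlgHom.id R R') φ z = φ.toLinearMap.lTensor R' z := fun φ z => by
    induction z using TensorProduct.induction_on with
    | zero => simp
    | add u v hu hv => rw [map_add, map_add, hu, hv]
    | tmul r c => rfl
  refine ⟨fun z => ?_, fun x y hxy => ?_⟩
  · obtain ⟨w, hw⟩ := LinearMap.lTensor_surjective R' (g := (IsScalarTower.toAlgHom R A' A).toLinearMap) hsq.1 z
    exact ⟨w, (hm _ w).trans hw⟩
  rw [hm, hm] at hxy
  let v : R' ⊗[R] (B × A') := (LinearMap.inl R B A').lTensor R' x + (LinearMap.inr R B A').lTensor R' y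
  have hv : p.lTensor R' v = 0 := by
    rw [map_add, ← LinearMap.comp_apply, ← LinearMap.comp_apply, ← LinearMap.lTensor_comp, ← LinearMap.lTensor_comp,
      show p ∘ₗ LinearMap.inl R B A' = (IsScalarTower.toAlgHom R B A).toLinearMap from LinearMap.ext fun b => by simp [p],
      show p ∘ₗ LinearMap.inr R B A' = -(IsScalarTower.toAlgHom R A' A).toLinearMap from LinearMap.ext fun b => by simp [p],
      LinearMap.lTensor_neg, LinearMap.neg_apply, hxy, add_neg_cancel]
  obtain ⟨z, hz⟩ := (lTensor_exact R' he hp v).1 hv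
  have hfst : ∀ w, (LinearMap.fst R B A').lTensor R' (i.lTensor R' w) = gB.toLinearMap.lTensor R' w := fun w => by
    rw [← LinearMap.comp_apply, ← LinearMap.lTensor_comp]; rfl
  have hsnd : ∀ w, (LinearMap.snd R B A').lTensor R' (i.lTensor R' w) = gA.toLinearMap.lTensor R' w := fun w => by
    rw [← LinearMap.comp_apply, ← LinearMap.lTensor_comp]; rfl
  have h1 : (LinearMap.fst R B A').lTensor R' v = x ∧ (LinearMap.snd R B A').lTensor R' v = y := by
    constructor <;>
    · rw [map_add, ← LinearMap.comp_apply, ← LinearMap.comp_apply, ← LinearMap.lTensor_comp, ← LinearMap.lTensor_comp]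
      simp
  refine ⟨z, ⟨?_, ?_⟩, fun w hw => ?_⟩
  · rw [hm, ← hfst, hz, h1.1]
  · rw [hm, ← hsnd, hz, h1.2]
  · refine H4FlatDescent.lTensor_injective_of_flat_coker i p hi he hp ?_
    have hd : ∀ t : R' ⊗[R] (B × A'), t = (LinearMap.inl R B A').lTensor R' ((LinearMap.fst R B A').lTensor R' t) +
        (LinearMap.inr R B A').lTensor R' ((LinearMap.snd R B A').lTensor R' t) := fun t => by
      rw [← LinearMap.comp_apply, ← LinearMap.comp_apply, ← LinearMap.lTensor_comp, ← LinearMap.lTensor_comp, ← LinearMap.add_apply,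
        ← LinearMap.lTensor_add, show LinearMap.inl R B A' ∘ₗ LinearMap.fst R B A' + LinearMap.inr R B A' ∘ₗ LinearMap.snd R B A' = LinearMap.id from
          LinearMap.ext fun v => by simp, LinearMap.lTensor_id, LinearMap.id_apply]
    obtain ⟨hw1, hw2⟩ := hw
    rw [hm] at hw1 hw2
    rw [hd (i.lTensor R' w), hfst, hsnd, hw1, hw2, ← h1.1, ← h1.2, ← hd, hz]

end Groth.Agent.S17901
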