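import Groth.Statements.S17968
import Mathlib
import Groth.Agent.Lib.H4HenselApps


set_option autoImplicit false
universe u
open Hensel

namespace Groth.Agent.S17968

/-- Let A be a commutative ring and I an ideal contained in the Jacobson radical of A. Suppose that for
every natural number m and every monic polynomial p over A whose reduction modulo I is the reduction
of (T^2 - T)^m, every idempotent of B/IB is the image of an idempotent of B, where B = A[T]/(p).
Then (A, I) is a henselian pair. -/
theorem result (A : Type u) [CommRing A]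
    (I : Ideal A) (hI : I ≤ Ideal.jacobson ⊥)
    (h : ∀ (m : ℕ) (p : Polynomial A), p.Monic →
      Polynomial.map (Ideal.Quotient.mk I) p =
        Polynomial.map (Ideal.Quotient.mk I) ((Polynomial.X ^ 2 - Polynomial.X) ^ m) →
      Set.SurjOn (Ideal.Quotient.mk (Ideal.map (algebraMap A (AdjoinRoot p)) I))
        {e : AdjoinRoot p | IsIdempotentElem e} {e | IsIdempotentElem e}) :
    HenselianRing A I := by
  refine H4HenselPair.of_idempotents_finite I fun B _ _ _ => ?_
  refine ⟨fun e he => IsIdempotentElem.map he _, ?_, ?_⟩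
  · intro e he e' he' hee
    have hd := Ideal.mem_jacobson_bot.mp
      (H4HenselPair.map_le_jacobson_of_isIntegral I hI B (Ideal.Quotient.eq.mp hee)) (-(e - e'))
    have h3 : ((e - e') * (-(e - e')) + 1) * (e - e') = 0 := by
      have a := IsIdempotentElem.eq he
      have b := IsIdempotentElem.eq he'
      linear_combination (-(e + 1) + 3 * e') * a + (e' + 1 - 3 * e) * b
    exact sub_eq_zero.mp (hd.mul_right_eq_zero.mp h3)
  · intro z hz
    obtain ⟨b, rfl⟩ := Ideal.Quotient.mk_surjective z
    rcases subsingleton_or_nontrivial (A ⧸ I) with hAI | hAI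
    · have h1 : I = ⊤ := Ideal.Quotient.subsingleton_iff.mp hAI
      refine ⟨0, IsIdempotentElem.zero, Ideal.Quotient.eq.mpr ?_⟩
      simp [h1, Ideal.map_top]
    set L := I.map (algebraMap A B)
    have hb : b * b - b ∈ L := Ideal.Quotient.eq.mp (by rw [map_mul]; exact hz.eq)
    obtain ⟨p, hp, -, hpI, hp0⟩ :=
      LinearMap.exists_monic_and_natDegree_eq_and_coeff_mem_pow_and_aeval_eq_zero
        A (LinearMap.mulLeft A (b * b - b)) I (by
          rintro _ ⟨z, rfl⟩
          rw [Ideal.smul_top_eq_map, Submodule.restrictScalars_mem, LinearMap.mulLeft_apply]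
          exact Ideal.mul_mem_right _ _ hb)
    have hp1 : Polynomial.aeval (b * b - b) p = 0 := by
      rw [show LinearMap.mulLeft A (b * b - b) = Algebra.lmul A B (b * b - b) from rfl,
        Polynomial.aeval_algHom_apply] at hp0
      have := LinearMap.congr_fun hp0 1
      simpa using this
    have : Nontrivial A := (Ideal.Quotient.mk I).domain_nontrivial
    let F : Polynomial A := p.comp (Polynomial.X ^ 2 - Polynomial.X)
    have hq : (Polynomial.X ^ 2 - Polynomial.X : Polynomial A).Monic :=
      Polynomial.monic_X_pow_sub (Polynomial.degree_X_le.trans_lt (by norm_num))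
    have hqd : (Polynomial.X ^ 2 - Polynomial.X : Polynomial A).natDegree = 2 := by
      rw [Polynomial.natDegree_sub_eq_left_of_natDegree_lt (by simp), Polynomial.natDegree_X_pow]
    have hFm : F.Monic := hp.comp hq (by rw [hqd]; norm_num)
    have hbot : (p.map (Ideal.Quotient.mk I)) = Polynomial.X ^ p.natDegree := by
      ext j
      rw [Polynomial.coeff_map, Polynomial.coeff_X_pow]
      split_ifs with h'
      · subst h'; rw [hp.coeff_natDegree, map_one]
      · rw [Ideal.Quotient.eq_zero_iff_mem]
        rcases lt_or_gt_of_ne h' with h' | h'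
        · exact Ideal.pow_le_self (I := I) (n := p.natDegree - j) (by omega) (hpI j)
        · rw [Polynomial.coeff_eq_zero_of_natDegree_lt h']; exact I.zero_mem
    have hFmap : F.map (Ideal.Quotient.mk I) =
        ((Polynomial.X ^ 2 - Polynomial.X) ^ p.natDegree : Polynomial A).map (Ideal.Quotient.mk I) := by
      simp [F, Polynomial.map_comp, hbot, Polynomial.X_pow_comp]
    let ψ : AdjoinRoot F →ₐ[A] B := AdjoinRoot.liftAlgHom F (Algebra.ofId A B) b (by
      show Polynomial.aeval b F = 0
      simp only [F, Polynomial.aeval_comp, map_sub, map_pow, Polynomial.aeval_X]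
      rw [pow_two]; exact hp1)
    let T := AdjoinRoot.root F
    set L' := I.map (algebraMap A (AdjoinRoot F))
    have hTN : (T ^ 2 - T) ^ p.natDegree ∈ L' := by
      have h0 : Polynomial.aeval T F = 0 := AdjoinRoot.aeval_eq F ▸ AdjoinRoot.mk_self
      have h1 : Polynomial.aeval T (F - (Polynomial.X ^ 2 - Polynomial.X) ^ p.natDegree) ∈ L' := by
        rw [Polynomial.aeval_eq_sum_range]
        refine Submodule.sum_mem _ fun i _ => ?_
        rw [Algebra.smul_def]
        refine Ideal.mul_mem_right _ _ (Ideal.mem_map_of_mem _ ?_)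
        rw [← Ideal.Quotient.eq_zero_iff_mem, ← Polynomial.coeff_map, Polynomial.map_sub, hFmap,
          sub_self, Polynomial.coeff_zero]
      rw [map_sub, h0, zero_sub] at h1
      simpa using L'.neg_mem_iff.mp h1
    obtain ⟨e, he, he'⟩ : ∃ e : AdjoinRoot F ⧸ L', IsIdempotentElem e ∧
        IsNilpotent (Ideal.Quotient.mk L' T - e) := by
      obtain ⟨e, ⟨h1, h2⟩, -⟩ := existsUnique_isIdempotentElem_eq_of_ker_isNilpotent
        (Ideal.Quotient.mk (nilradical (AdjoinRoot F ⧸ L')))
        (fun x hx => Ideal.Quotient.eq_zero_iff_mem.mp hx) (Ideal.Quotient.mk _ (Ideal.Quotient.mk L' T))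
        ⟨_, rfl⟩ (by
          show _ * _ = _
          rw [← map_mul, Ideal.Quotient.eq, mem_nilradical]
          refine ⟨p.natDegree, ?_⟩
          rw [← map_mul, ← map_sub, ← map_pow, Ideal.Quotient.eq_zero_iff_mem, ← pow_two]
          exact hTN)
      exact ⟨e, h1, mem_nilradical.mp (Ideal.Quotient.eq.mp h2.symm)⟩
    obtain ⟨e₀, he₀, hee⟩ := h p.natDegree F hFm hFmap he
    refine ⟨ψ e₀, he₀.map ψ, ?_⟩
    have hL : L' ≤ L.comap (ψ : AdjoinRoot F →+* B) := by
      rw [Ideal.map_le_iff_le_comap]
      intro a ha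
      rw [Ideal.mem_comap, Ideal.mem_comap, AlgHom.coe_toRingHom, AlgHom.commutes]
      exact Ideal.mem_map_of_mem _ ha
    have hnil := he'.map (Ideal.quotientMap L (ψ : AdjoinRoot F →+* B) hL)
    rw [← hee, map_sub, Ideal.quotientMap_mk, Ideal.quotientMap_mk] at hnil
    have hψT : ψ T = b := AdjoinRoot.liftAlgHom_root _ _ _ _
    simp only [AlgHom.coe_toRingHom, hψT] at hnil
    exact eq_of_isNilpotent_sub_of_isIdempotentElem (he₀.map ψ |>.map _) hz
      (by rw [← neg_sub]; exact hnil.neg)

end Groth.Agent.S17968
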