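import Groth.Statements.S17969
import Mathlib

set_option autoImplicit false
universe u
open scoped TensorProduct
open CAlg

namespace Groth.Agent.S17969
open Polynomial TensorProduct

/-- Let A be an integrally closed domain with fraction field K and B a commutative A-algebra which is
finite and torsion-free as an A-module and generated as an A-algebra by a single element x. Let P be
the characteristic polynomial of multiplication by 1 ⊗ x on the finite free K-module K ⊗_A B. Then P
has coefficients in A, namely P is the image of a monic polynomial over A, and the kernel of the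
A-algebra map A[T] → B sending T to x is generated by that polynomial, so that B is A[T]/(P). -/
theorem result
    (A : Type u) [CommRing A] [IsDomain A] [IsIntegrallyClosed A]
    (B : Type u) [CommRing B] [Algebra A B] [Module.Finite A B] [NoZeroSMulDivisors A B]
    (x : B) (hx : Algebra.adjoin A {x} = ⊤) :
    ∃ P : Polynomial A, P.Monic ∧
      Polynomial.map (algebraMap A (FractionRing A)) P =
        (LinearMap.mulLeft (FractionRing A) ((1 : FractionRing A) ⊗ₜ[A] x)).charpoly ∧
      RingHom.ker (Polynomial.aeval x).toRingHom = Ideal.span {P} := by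
  classical
  let K := FractionRing A
  let y : K ⊗[A] B := (1 : K) ⊗ₜ[A] x
  let ι : B →ₐ[A] K ⊗[A] B := Algebra.TensorProduct.includeRight
  have hι : Function.Injective ι := by
    rw [injective_iff_map_eq_zero]
    intro b hb
    obtain ⟨⟨c, hc⟩, h⟩ := (IsLocalizedModule.eq_zero_iff (nonZeroDivisors A) (TensorProduct.mk A K B 1)).mp (show TensorProduct.mk A K B 1 b = 0 from hb)
    exact (smul_eq_zero.mp h).resolve_left (nonZeroDivisors.ne_zero hc)
  have htop : Algebra.adjoin K {y} = ⊤ := by
    rw [eq_top_iff]
    intro z hz
    clear hz
    induction z using TensorProduct.induction_on with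
    | zero => exact zero_mem _
    | add a b ha hb => exact add_mem ha hb
    | tmul a b =>
      have hb : b ∈ Algebra.adjoin A {x} := by rw [hx]; trivial
      rw [Algebra.adjoin_singleton_eq_range_aeval] at hb
      obtain ⟨q, rfl⟩ := hb
      have : a ⊗ₜ[A] (aeval x q) = a • aeval y q := by
        rw [show aeval y q = ι (aeval x q) from aeval_algHom_apply ι x q]
        simp [ι, TensorProduct.smul_tmul']
      show a ⊗ₜ[A] aeval x q ∈ _
      rw [this, ← aeval_map_algebraMap K]
      exact Subalgebra.smul_mem _ (Algebra.adjoin_singleton_eq_range_aeval K y ▸ ⟨_, rfl⟩) _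
  have hy : IsIntegral K y := Algebra.IsIntegral.isIntegral y
  let m := minpoly K y
  have hm : m = (LinearMap.mulLeft K y).charpoly := by
    refine (Polynomial.eq_of_monic_of_dvd_of_natDegree_le (minpoly.monic hy) (LinearMap.charpoly_monic _) ?_ ?_).symm
    · apply minpoly.dvd
      have h := LinearMap.aeval_self_charpoly (LinearMap.mulLeft K y)
      have e : LinearMap.mulLeft K y = Algebra.lmul K (K ⊗[A] B) y := by ext; simp
      rw [e] at h ⊢
      rw [aeval_algHom_apply] at h
      have := congrArg (fun f => f 1) h
      simpa using this
    · have h1 := (Algebra.adjoin.powerBasis hy).finrank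
      rw [Algebra.adjoin.powerBasis_dim] at h1
      have h2 : Module.finrank K (Algebra.adjoin K {y}) = Module.finrank K (K ⊗[A] B) :=
        ((Subalgebra.equivOfEq _ _ htop).trans Subalgebra.topEquiv).toLinearEquiv.finrank_eq
      rw [LinearMap.charpoly_natDegree, ← h2, h1]
  have hxi : IsIntegral A x := Algebra.IsIntegral.isIntegral x
  have hdvd : m ∣ (minpoly A x).map (algebraMap A K) := by
    apply minpoly.dvd
    rw [aeval_map_algebraMap, show aeval y (minpoly A x) = ι (aeval x (minpoly A x)) from aeval_algHom_apply ι x _, minpoly.aeval, map_zero]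
  obtain ⟨P, hP⟩ := IsIntegrallyClosed.eq_map_mul_C_of_dvd K (minpoly.monic hxi) hdvd
  rw [(minpoly.monic hy).leadingCoeff, map_one, mul_one] at hP
  have hPm : P.Monic := monic_of_injective (IsFractionRing.injective A K) (by rw [hP]; exact minpoly.monic hy)
  refine ⟨P, hPm, by rw [hP, hm], ?_⟩
  ext Q
  rw [RingHom.mem_ker, Ideal.mem_span_singleton]
  show aeval x Q = 0 ↔ P ∣ Q
  rw [← map_dvd_map (algebraMap A K) (IsFractionRing.injective A K) hPm, hP, minpoly.dvd_iff, aeval_map_algebraMap, show aeval y Q = ι (aeval x Q) from aeval_algHom_apply ι x _, map_eq_zero_iff ι hι]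

end Groth.Agent.S17969
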