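import Groth.Statements.S17981
import Mathlib


set_option autoImplicit false
universe u
open Hensel

namespace Groth.Agent.S17981

/-- Let A be a commutative ring, I an ideal contained in the Jacobson radical of A, and B a commutative
A-algebra which is finitely generated as an A-module. Then two idempotents of B with the same image
in B/IB are equal. -/
theorem result (A : Type u) [CommRing A] (I : Ideal A)
    (hI : I ≤ Ideal.jacobson ⊥) (B : Type u) [CommRing B] [Algebra A B] [Module.Finite A B] :
    Set.InjOn (Ideal.Quotient.mk (Ideal.map (algebraMap A B) I)) {e : B | IsIdempotentElem e} := by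
  intro e he e' he' hee
  have hd : e - e' ∈ Ideal.map (algebraMap A B) I := Ideal.Quotient.eq.mp hee
  have hjac : Ideal.map (algebraMap A B) I ≤ Ideal.jacobson ⊥ := by
    rw [Ideal.map_le_iff_le_comap]
    intro x hx
    rw [Ideal.mem_comap, Ideal.jacobson, Submodule.mem_sInf]
    rintro m ⟨-, hm⟩
    have : (Ideal.comap (algebraMap A B) m).IsMaximal := Ideal.isMaximal_comap_of_isIntegral_of_isMaximal m
    exact (Ideal.mem_sInf.mp (hI hx)) ⟨bot_le, this⟩
  have hu : IsUnit ((e - e') * (-(e - e')) + 1) :=
    Ideal.mem_jacobson_bot.mp (hjac hd) _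
  have h3 : ((e - e') * (-(e - e')) + 1) * (e - e') = 0 := by
    have a := he.eq; have b := he'.eq
    linear_combination (-(e + 1) + 3 * e') * a + (e' + 1 - 3 * e) * b
  exact sub_eq_zero.mp (hu.mul_right_eq_zero.mp h3)

end Groth.Agent.S17981
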