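import Groth.Statements.S18015
import Mathlib

set_option autoImplicit false
universe u
open CategoryTheory
open Coh

namespace Groth.Agent.S18015

/-- Let A be a Noetherian commutative ring and F an additive functor from A-modules to A-modules which
is half-exact, i.e. for every short exact sequence 0 → M' → M → M'' → 0 the sequence F(M') → F(M) →
F(M'') is exact at F(M). Then F(M) is a finitely generated A-module for every finitely generated
A-module M if and only if F(A/p) is a finitely generated A-module for every prime ideal p of A. (The
published statement takes F from quasi-coherent sheaves on Spec A to abelian groups, with A acting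
on each F(M) through F; this row allows any additive functor between A-module categories, A-linear
or not, and the same argument applies, since it uses only that each map F(f) is A-linear.) -/
theorem result {A : Type u} [CommRing A] [IsNoetherianRing A]
    (F : ModuleCat.{u} A ⥤ ModuleCat.{u} A) [F.Additive]
    (hF : ∀ S : ShortComplex (ModuleCat.{u} A), S.ShortExact → (S.map F).Exact) :
    (∀ M : ModuleCat.{u} A, Module.Finite A M → Module.Finite A (F.obj M)) ↔
      ∀ p : PrimeSpectrum A, Module.Finite A (F.obj (ModuleCat.of A (A ⧸ p.asIdeal))) := by
  refine ⟨fun h p => h _ inferInstance, fun h M hM => ?_⟩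
  have key := IsNoetherianRing.induction_on_isQuotientEquivQuotientPrime (A := A) (M := M) hM
    (motive := fun N _ _ _ => Module.Finite A (F.obj (ModuleCat.of A N)))
    (fun N _ _ _ _ => by
      haveI := ((ModuleCat.isZero_iff_subsingleton (M := F.obj (ModuleCat.of A N))).1
        (F.map_isZero (ModuleCat.isZero_of_subsingleton (ModuleCat.of A N))))
      infer_instance)
    (fun N _ _ _ p e => by
      haveI := h p
      exact Module.Finite.equiv (F.mapIso e.symm.toModuleIso).toLinearEquiv)
    (fun N₁ _ _ _ N₂ _ _ _ N₃ _ _ _ f g hf hg hfg h₁ h₃ => by
      haveI : Module.Finite A (F.obj (ModuleCat.of A N₁)) := h₁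
      haveI : Module.Finite A (F.obj (ModuleCat.of A N₃)) := h₃
      let S : ShortComplex (ModuleCat.{u} A) := ShortComplex.mk (ModuleCat.ofHom f) (ModuleCat.ofHom g)
        (ModuleCat.hom_ext (hfg.linearMap_comp_eq_zero))
      have hS : S.ShortExact := by
        have hm : Mono S.f := (ModuleCat.mono_iff_injective _).2 hf
        have he : Epi S.g := (ModuleCat.epi_iff_surjective _).2 hg
        exact { exact := (ShortComplex.moduleCat_exact_iff_range_eq_ker S).2 hfg.linearMap_ker_eq.symm }
      haveI : Module.Finite A (S.map F).X₃ := h₃
      haveI : Module.Finite A (S.map F).X₁ := h₁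
      have e := (ShortComplex.moduleCat_exact_iff_range_eq_ker _).1 (hF S hS)
      refine ⟨Submodule.fg_of_fg_map_of_fg_inf_ker (S.map F).g.hom (IsNoetherian.noetherian _) ?_⟩
      erw [top_inf_eq]
      rw [← e]
      exact Module.Finite.fg_top.map (S.map F).f.hom |> fun h => by rwa [Submodule.map_top] at h)
  exact key

end Groth.Agent.S18015
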