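import Groth.Statements.S18019
import Mathlib

set_option autoImplicit false
universe u
open ClassStk

namespace Groth.Agent.S18019

open Polynomial in
/-- Let R be an integral domain of characteristic 2 and let a be a nonzero element of R, so that x ↦ x +
a defines an R-algebra involution of the polynomial ring R[x] (an action of the group of order two).
A polynomial f is invariant, f(x + a) = f(x), if and only if f belongs to the R-subalgebra generated
by u = x (x + a); in other words the ring of invariants is the polynomial ring R[u]. -/
theorem result (R : Type u) [CommRing R] [IsDomain R]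
    [CharP R 2] (a : R) (ha : a ≠ 0) (f : Polynomial R) :
    f.comp (X + C a) = f ↔ f ∈ Algebra.adjoin R ({X * (X + C a)} : Set (Polynomial R)) := by
  let σ : R[X] →ₐ[R] R[X] := Polynomial.aeval (X + C a)
  have hσ : ∀ q : R[X], σ q = q.comp (X + C a) := fun q => rfl
  let g : R[X] := X * (X + C a)
  have h2 : (C a : R[X]) + C a = 0 := by rw [← map_add, CharTwo.add_self_eq_zero, map_zero]
  have hg : σ g = g := by
    simp only [g, map_mul, map_add, σ, Polynomial.aeval_X, Polynomial.aeval_C, Polynomial.algebraMap_eq]
    rw [add_assoc, h2, add_zero, mul_comm]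
  constructor
  · intro hf
    induction hn : f.natDegree using Nat.strong_induction_on generalizing f with
    | _ n ih =>
      have hgm : g.Monic := Polynomial.monic_X.mul (Polynomial.monic_X_add_C a)
      have hgd : g.natDegree = 2 := by
        rw [(Polynomial.monic_X).natDegree_mul (Polynomial.monic_X_add_C a), Polynomial.natDegree_X, Polynomial.natDegree_X_add_C]
      have e := Polynomial.modByMonic_add_div f g
      have hrd : (f %ₘ g).natDegree ≤ 1 := by
        have := Polynomial.natDegree_modByMonic_lt f hgm (fun h => by simp [h] at hgd)
        omega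
      obtain ⟨b, c, hbc⟩ := Polynomial.exists_eq_X_add_C_of_natDegree_le_one hrd
      have e' : σ (f %ₘ g) + g * σ (f /ₘ g) = f := by
        have := congrArg σ e
        rw [map_add, map_mul, hg, hσ f, hf] at this
        exact this
      have hrd' : (σ (f %ₘ g)).degree < g.degree := by
        rw [Polynomial.degree_eq_natDegree hgm.ne_zero, hgd, hσ]
        refine lt_of_le_of_lt Polynomial.degree_le_natDegree ?_
        rw [Polynomial.natDegree_comp, Polynomial.natDegree_X_add_C, mul_one]
        exact_mod_cast Nat.lt_succ_of_le hrd
      obtain ⟨hq, hr⟩ := Polynomial.div_modByMonic_unique (σ (f /ₘ g)) (σ (f %ₘ g)) hgm ⟨e', hrd'⟩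
      have hb : b = 0 := by
        have h1 : σ (f %ₘ g) = f %ₘ g := hr.symm
        rw [hbc, map_add, map_mul] at h1
        simp only [σ, Polynomial.aeval_X, Polynomial.aeval_C, Polynomial.algebraMap_eq] at h1
        have := congrArg (fun q : R[X] => q.coeff 0) h1
        simpa [ha] using this
      rw [← e, hbc, hb]
      simp only [map_zero, zero_mul, zero_add]
      refine add_mem (Subalgebra.algebraMap_mem _ c) (mul_mem (Algebra.subset_adjoin rfl) ?_)
      rcases eq_or_ne (f /ₘ g) 0 with h0 | h0
      · rw [h0]; exact zero_mem _
      refine ih _ ?_ (f /ₘ g) ((hσ _).symm.trans hq.symm) rfl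
      rw [← hn, Polynomial.natDegree_divByMonic f hgm, hgd]
      have hne : f.natDegree ≥ 2 := by
        by_contra hlt
        exact h0 ((Polynomial.divByMonic_eq_zero_iff hgm).2 (Polynomial.degree_lt_degree (by omega)))
      omega
  · intro hf
    have : Algebra.adjoin R ({g} : Set R[X]) ≤ AlgHom.equalizer σ (AlgHom.id R R[X]) :=
      Algebra.adjoin_le (Set.singleton_subset_iff.2 hg)
    exact (hσ f).symm.trans (this hf)

end Groth.Agent.S18019
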