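import Groth.Statements.S1802
import Groth.Agent.Lib.H6.PuncturedDT

set_option autoImplicit false
set_option linter.all false
set_option backward.isDefEq.respectTransparency.types false
universe u
open AlgebraicGeometry
open LocCoh

namespace Groth.Agent.S1802

/-- For a Noetherian ring. Let I be an ideal of a Noetherian ring A with cd(A, I) = 1, i.e. H^i_I(M) = 0
for all modules M and all i ≥ 2 but H^1_I(M) ≠ 0 for some M. Then the open subscheme Spec A minus
V(I) is nonempty and affine. -/
theorem result (A : Type u) [CommRing A] [IsNoetherianRing A] (I : Ideal A) (h1 : LocCoh.CdLE A I 1) (h0 : ¬ LocCoh.CdLE A I 0) : Nonempty (↑(LocCoh.puncturedOpen A I) : Scheme.{u}) ∧ IsAffine (↑(LocCoh.puncturedOpen A I) : Scheme.{u}) := by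
  refine ⟨?_, (H6.PuncturedDT.isAffineOpen_iff_cdLE_one I).2 h1⟩
  by_contra hne
  apply h0
  have hnil : I ≤ nilradical A := by
    rw [nilradical_eq_sInf]
    refine le_sInf fun p hp => ?_
    by_contra hIp
    exact hne ⟨⟨⟨p, hp⟩, fun h => hIp h⟩⟩
  obtain ⟨N, hN⟩ := Ideal.exists_pow_le_of_le_radical_of_fg (I := I) (J := (⊥ : Ideal A)) hnil (IsNoetherian.noetherian I)
  have htor : ∀ (M : Type u) [AddCommGroup M] [Module A M], LocCoh.IsPowerTorsion I M := fun M _ _ m =>
    ⟨N, fun a ha => by rw [(Submodule.mem_bot A).1 (hN ha), zero_smul]⟩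
  intro M _ _ i hi
  by_cases h : i = 1
  · subst h
    obtain ⟨e⟩ := H2LC.exists_coker_toDT_equiv_H1 (I := I) M
    haveI := H2LC.subsingleton_DT (htor M)
    exact e.symm.injective.subsingleton
  · exact h1 M i (by omega)

end Groth.Agent.S1802
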