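import Groth.Statements.S1803
import Mathlib
import Groth.Prelude.Def_CAlg
import Groth.Prelude.Def_Found
import Groth.Agent.Lib.GorensteinQuotient
import Groth.Agent.Lib.GorensteinFlat
import Groth.Agent.Lib.GorensteinRings
import Groth.Agent.S0344
import Groth.Agent.S8948
import Groth.Agent.Lib.GorensteinFibres

set_option autoImplicit false
universe u
open Groth.Agent.GorensteinQuotient
open Groth.Agent.GorensteinFlat
open Groth.Agent.GorensteinRings
open TensorProduct
open Groth.Agent.GorensteinFibres
open scoped TensorProduct
open Goren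

namespace Groth.Agent.S1803

/-- Let k'/k be any field extension, C a k-algebra of finite type, q a prime of C ⊗_k k' and p its
contraction to C. Then C_p is Gorenstein if and only if (C ⊗_k k')_q is Gorenstein. -/
theorem result (k k' : Type u) [Field k] [Field k'] [Algebra k k'] (C : Type u) [CommRing C] [Algebra k C] [Algebra.FiniteType k C] (q : PrimeSpectrum (C ⊗[k] k')) : LocCoh.IsGorensteinLocalRing (Localization.AtPrime (q.asIdeal.comap (algebraMap C (C ⊗[k] k')))) ↔ LocCoh.IsGorensteinLocalRing (Localization.AtPrime q.asIdeal) := by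
  haveI : IsNoetherianRing C := Algebra.FiniteType.isNoetherianRing k C
  haveI : IsNoetherianRing (C ⊗[k] k') :=
    haveI : IsNoetherianRing (k' ⊗[k] C) := Algebra.FiniteType.isNoetherianRing k' (k' ⊗[k] C)
    isNoetherianRing_of_ringEquiv (k' ⊗[k] C) (Algebra.TensorProduct.comm k k' C).toRingEquiv
  obtain ⟨P, hP, hPq⟩ := exists_fiber_prime (B := C) q
  let p := q.asIdeal.comap (algebraMap C (C ⊗[k] k'))
  haveI : Algebra.EssFiniteType k p.ResidueField := Algebra.EssFiniteType.comp k C p.ResidueField
  haveI : LocCoh.IsGorensteinRing k' := gorRing_field k'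
  have hF := gorRing_fiber_tensor k k' C p
    (Groth.Agent.S8948.result k p.ResidueField k' (IntermediateField.fg_top_iff.mpr inferInstance))
  have key := gor_atPrime_iff_fiber p P
  exact ⟨fun h => gor_atPrime_congr hPq (key.mpr ⟨h, hF.isGorensteinLocalRing_localization P⟩),
    fun h => (key.mp (gor_atPrime_congr hPq.symm h)).1⟩

end Groth.Agent.S1803
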