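import Groth.Statements.S18050
import Mathlib

set_option autoImplicit false
open STCI

namespace Groth.Agent.S18050

open W4c5stcicurvesp3 in
/-- Let k ≤ N be positive integers, let t be the least positive integer with rem_t(N, k) = 0, where
rem_0 = k, rem_1 = N mod k and rem_i is the remainder of rem_{i-2} by rem_{i-1} (iterated Euclidean
remainders), and let d_i be the corresponding iterated quotients (d_1 = ⌊N/k⌋, d_i =
⌊rem_{i-2}/rem_{i-1}⌋). Then d_1 + ⋯ + d_t ≤ N/gcd(k, N); stated in the cleared form (d_1 + ⋯ + d_t)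
· gcd(k, N) ≤ N. -/
theorem result (k N t : ℕ) (hk : 0 < k) (hkN : k ≤ N) (ht : 0 < t)
    (hzero : irem N k t = 0) (hmin : ∀ i, 0 < i → i < t → irem N k i ≠ 0) :
    (∑ i ∈ Finset.Icc 1 t, idiv N k i) * Nat.gcd k N ≤ N := by
  have hshift : ∀ (a b : ℕ), 0 < a % b → ∀ n, irem a b (n + 1) = irem b (a % b) n := by
    intro a b h n
    induction n using Nat.strong_induction_on with
    | _ n ih =>
      match n with
      | 0 => simp [irem]
      | 1 => simp [irem, h.ne']
      | m + 2 =>
        have e1 := ih (m + 1) (by omega)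
        have e2 := ih m (by omega)
        show (if irem a b (m + 1 + 1) = 0 then 0 else irem a b (m + 1) % irem a b (m + 1 + 1)) = _
        rw [e1, e2]
        rfl
  have hdshift : ∀ (a b : ℕ), 0 < a % b → ∀ n, idiv a b (n + 2) = idiv b (a % b) (n + 1) := by
    intro a b h n
    match n with
    | 0 => simp [idiv, irem, h.ne']
    | m + 1 =>
      show (if irem a b (m + 1 + 1) = 0 then 0 else irem a b (m + 1) / irem a b (m + 1 + 1)) = _
      rw [hshift a b h (m + 1), hshift a b h m]
      rfl
  suffices ∀ (t a b : ℕ), 0 < b → b ≤ a → 0 < t → irem a b t = 0 → (∀ i, 0 < i → i < t → irem a b i ≠ 0) →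
      (∑ i ∈ Finset.range t, idiv a b (i + 1)) * Nat.gcd b a ≤ a by
    have h2 := this t N k hk hkN ht hzero hmin
    have e : ∑ i ∈ Finset.Icc 1 t, idiv N k i = ∑ i ∈ Finset.range t, idiv N k (i + 1) := by
      rw [← Finset.Ico_add_one_right_eq_Icc, Finset.sum_Ico_eq_sum_range]
      exact Finset.sum_congr (by simp) fun i _ => by rw [add_comm]
    rw [e]; exact h2
  intro t
  induction t with
  | zero => intro a b _ _ h; omega
  | succ t ih =>
    intro a b hb hba _ hz hm
    rw [Finset.sum_range_succ']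
    have hg : Nat.gcd b a ≤ b := Nat.gcd_le_left _ hb
    rcases Nat.eq_zero_or_pos t with rfl | htpos
    · simp only [Finset.range_zero, Finset.sum_empty, zero_add, idiv]
      calc a / b * Nat.gcd b a ≤ a / b * b := Nat.mul_le_mul_left _ hg
        _ ≤ a := Nat.div_mul_le_self a b
    have hr : 0 < a % b := Nat.pos_of_ne_zero (hm 1 one_pos (by omega))
    have h1 := ih b (a % b) hr (Nat.mod_lt a hb).le htpos ((hshift a b hr t) ▸ hz)
      (fun i h0 hi => (hshift a b hr i) ▸ hm (i + 1) (by omega) (by omega))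
    have hgcd : Nat.gcd (a % b) b = Nat.gcd b a := (Nat.gcd_rec b a).symm
    rw [hgcd] at h1
    rw [Finset.sum_congr rfl (fun i _ => hdshift a b hr i), add_mul]
    have hgr : Nat.gcd b a ≤ a % b := hgcd ▸ Nat.gcd_le_left _ hr
    have hq : 1 ≤ a / b := Nat.div_pos hba hb
    obtain ⟨q, hq'⟩ : ∃ q, a / b = q + 1 := ⟨a / b - 1, by omega⟩
    have hdm := Nat.div_add_mod a b
    rw [show idiv a b (0 + 1) = q + 1 from hq']
    rw [hq'] at hdm
    have h3 := Nat.mul_le_mul_left q hg
    nlinarith [h3, hgr, h1, hdm]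

end Groth.Agent.S18050
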