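import Groth.Statements.S18053
import Mathlib

set_option autoImplicit false
open STCI

namespace Groth.Agent.S18053

/-- Let (p_k)_{k ≥ 1} be a sequence of nonnegative integers and n a nonnegative integer such that (i)
p_1 ≤ 9 - (2/5)n, (ii) p_1 ≥ p_2 ≥ p_3 ≥ ⋯, (iii) Σ_k p_k ≤ 19 - n, and (iv) n/4 + Σ_{k ≥ 1}
p_k/(k(k+1)) ≥ 6. Then n = 0 and (p_k) is one of (9, 8, 2), (9, 9), (9, 9, 1) (followed by zeros).
Here the sequence is indexed from 0 (so p 0 is p_1 and the weight of p k is 1/((k+1)(k+2))), (iii)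
is stated for every partial sum, and the series in (iv) is the real sum Σ' over all k. -/
theorem result (p : ℕ → ℕ) (n : ℕ)
    (h1 : (p 0 : ℝ) ≤ 9 - (2 / 5 : ℝ) * n) (h2 : Antitone p)
    (h3 : ∀ m : ℕ, ((∑ k ∈ Finset.range m, p k : ℕ) : ℝ) ≤ 19 - (n : ℝ))
    (h4 : (6 : ℝ) ≤ (n : ℝ) / 4 + ∑' k : ℕ, (p k : ℝ) / (((k : ℝ) + 1) * ((k : ℝ) + 2))) :
    n = 0 ∧ (p = (fun k => if k = 0 then 9 else if k = 1 then 8 else if k = 2 then 2 else 0)
      ∨ p = (fun k => if k = 0 then 9 else if k = 1 then 9 else 0)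
      ∨ p = (fun k => if k = 0 then 9 else if k = 1 then 9 else if k = 2 then 1 else 0)) := by
  have hsumN : ∀ m, (∑ k ∈ Finset.range m, p k) + n ≤ 19 := by
    intro m
    have := h3 m
    have : (((∑ k ∈ Finset.range m, p k) + n : ℕ) : ℝ) ≤ ((19 : ℕ) : ℝ) := by push_cast at *; linarith
    exact_mod_cast this
  have h0 : ∀ k, 20 ≤ k → p k = 0 := by
    intro k hk
    by_contra hne
    have := Finset.card_nsmul_le_sum (Finset.range 20) (fun j => p j) 1 (fun j hj => by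
      have := h2 (show j ≤ k by simp at hj; omega)
      omega)
    simp at this
    have := hsumN 20
    omega
  rw [tsum_eq_sum (s := Finset.range 20) (fun k hk => by simp [h0 k (by simpa using hk)])] at h4
  have hT := hsumN 20
  simp only [Finset.sum_range_succ', Finset.sum_range_zero] at hT
  simp only [Finset.sum_range_succ', Finset.sum_range_zero] at h4
  norm_num at hT h4
  have a1 := h2 (show 0 ≤ 1 by omega)
  have a2 := h2 (show 1 ≤ 2 by omega)
  have h1' : 5 * p 0 + 2 * n ≤ 45 := by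
    have : ((5 * p 0 + 2 * n : ℕ) : ℝ) ≤ ((45 : ℕ) : ℝ) := by push_cast; linarith
    exact_mod_cast this
  have nn : ∀ k, (0 : ℝ) ≤ (p k : ℝ) := fun k => Nat.cast_nonneg _
  have key : 360 ≤ 15 * n + 30 * p 0 + 10 * p 1 + 5 * p 2 + 3 * (p 3 + p 4 + p 5 + p 6 + p 7 + p 8 + p 9 + p 10 + p 11 + p 12 + p 13 + p 14 + p 15 + p 16 + p 17 + p 18 + p 19) := by
    have : ((360 : ℕ) : ℝ) ≤ ((15 * n + 30 * p 0 + 10 * p 1 + 5 * p 2 + 3 * (p 3 + p 4 + p 5 + p 6 + p 7 + p 8 + p 9 + p 10 + p 11 + p 12 + p 13 + p 14 + p 15 + p 16 + p 17 + p 18 + p 19) : ℕ) : ℝ) := by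
      push_cast
      linarith [nn 3, nn 4, nn 5, nn 6, nn 7, nn 8, nn 9, nn 10, nn 11, nn 12, nn 13, nn 14, nn 15, nn 16, nn 17, nn 18, nn 19]
    exact_mod_cast this
  have hn : n = 0 := by omega
  have hp0 : p 0 = 9 := by omega
  have hrest : ∀ k, 3 ≤ k → p k = 0 := by
    intro k hk
    have := h2 hk
    have := h2 (show 2 ≤ 3 by omega)
    omega
  refine ⟨hn, ?_⟩
  have hc : (p 1 = 8 ∧ p 2 = 2) ∨ (p 1 = 9 ∧ p 2 = 0) ∨ (p 1 = 9 ∧ p 2 = 1) := by omega
  rcases hc with ⟨e1, e2⟩ | ⟨e1, e2⟩ | ⟨e1, e2⟩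
  · left; funext k
    match k with
    | 0 => simpa using hp0
    | 1 => simpa using e1
    | 2 => simpa using e2
    | k + 3 => simp [hrest (k + 3) (by omega)]
  · right; left; funext k
    match k with
    | 0 => simpa using hp0
    | 1 => simpa using e1
    | 2 => simpa using e2
    | k + 3 => simp [hrest (k + 3) (by omega)]
  · right; right; funext k
    match k with
    | 0 => simpa using hp0
    | 1 => simpa using e1
    | 2 => simpa using e2
    | k + 3 => simp [hrest (k + 3) (by omega)]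

end Groth.Agent.S18053
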