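import Groth.Statements.S18054
import Mathlib

set_option autoImplicit false
open STCI

namespace Groth.Agent.S18054

/-- Let s, t, d, g be integers with t ≥ s ≥ 4, d ≥ 1, g ≥ 0 and d dividing st; put n = st/d and assume n
≥ 2; put r = d[n(s - 4) + t] + (2 - 2g)n and assume r ≤ (s/3)(2s² - 6s + 7) - 1. Then d ≤ g + 3.
(The bound is written cleared of the denominator 3; s(2s² - 6s + 7) is always divisible by 3, so
this is the same condition.) -/
theorem result (s t d g n : ℤ) (hs : 4 ≤ s) (hst : s ≤ t) (hd : 1 ≤ d) (hg : 0 ≤ g)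
    (hn : s * t = d * n) (hn2 : 2 ≤ n)
    (hr : 3 * (d * (n * (s - 4) + t) + (2 - 2 * g) * n) ≤ s * (2 * s ^ 2 - 6 * s + 7) - 3) :
    d ≤ g + 3 := by
  by_contra hcon
  push Not at hcon
  have hd4 : 4 ≤ d := by omega
  have hg' : 2 - 2 * g ≥ 10 - 2 * d := by omega
  have hn0 : 0 ≤ n := by omega
  have main : 3 * (s * t * (s - 6) + d * t + 10 * n) ≤ s * (2 * s ^ 2 - 6 * s + 7) - 3 := by
    nlinarith [mul_le_mul_of_nonneg_right hg' hn0]
  have h1 : s * s ≤ s * t := mul_le_mul_of_nonneg_left hst (by omega)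
  rcases lt_or_ge s 6 with h6 | h6
  · interval_cases s
    · have e : 4 * t = d * n := by linarith
      have hnb : n ≤ 3 := by
        by_contra hn4
        push Not at hn4
        nlinarith [sq_nonneg (d - 4), mul_le_mul_of_nonneg_left hn4.le (show (0:ℤ) ≤ 24 by norm_num), mul_nonneg hn0 (sq_nonneg (d - 4))]
      interval_cases n <;> nlinarith
    · have e : 5 * t = d * n := by linarith
      have key : n * (d ^ 2 - 5 * d + 50) ≤ 220 := by nlinarith
      have h44 : 44 ≤ d ^ 2 - 5 * d + 50 := by
        rcases le_or_gt d 4 with h | h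
        · interval_cases d; norm_num
        · nlinarith
      have hnb : n ≤ 5 := by
        by_contra hn4
        push Not at hn4
        nlinarith [mul_le_mul_of_nonneg_left h44 hn0]
      interval_cases n <;> nlinarith
  · have h2 : s * s * (s - 6) ≤ s * t * (s - 6) := mul_le_mul_of_nonneg_right h1 (by omega)
    have key : s ^ 3 - 12 * s ^ 2 - 7 * s + 3 + 3 * (d * t) + 30 * n ≤ 0 := by nlinarith
    have hdt : 0 ≤ d * t := mul_nonneg (by omega) (by omega)
    rcases le_or_gt 13 s with h13 | h13
    · nlinarith [mul_nonneg (sub_nonneg.mpr h13) (sq_nonneg s)]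
    · have hsq : 360 * (s * s * s) ≤ (3 * (d * t) + 30 * n) ^ 2 := by
        have e : d * t * n = s * t * t := by linear_combination -t * hn
        nlinarith [sq_nonneg (3 * (d * t) - 30 * n), mul_le_mul_of_nonneg_left (mul_le_mul hst hst (by omega) (by omega)) (show (0:ℤ) ≤ s by omega)]
      have hS : 0 ≤ 3 * (d * t) + 30 * n := by omega
      have hK : 3 * (d * t) + 30 * n ≤ 12 * s ^ 2 + 7 * s - 3 - s ^ 3 := by linarith
      have hsqle := pow_le_pow_left₀ hS hK 2
      interval_cases s <;> linarith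

end Groth.Agent.S18054
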