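import Groth.Statements.S18055
import Mathlib

set_option autoImplicit false
open STCI

namespace Groth.Agent.S18055

/-- Let d ≥ 1, g ≥ 0 and 1 ≤ s ≤ t be integers with d dividing st, put n = st/d and r = d[n(s - 4) + t]
+ (2 - 2g)n, and assume n ≥ 2, r > 0 and (n - 1) divides r. Then s < 2d² and t < 2d⁴. This is the
statement about the degree data (d, g the degree and genus of the curve, s ≤ t the degrees of the
two surfaces) to which the published proof reduces the degree bound: there the divisibility and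
positivity express that r/(n - 1), the common value of the type numbers of the pair, is a positive
integer; the geometric hypotheses themselves are not part of this row. -/
theorem result (d g s t n : ℤ) (hd : 1 ≤ d) (hg : 0 ≤ g) (hs : 1 ≤ s) (hst : s ≤ t)
    (hn : s * t = d * n) (hn2 : 2 ≤ n)
    (hpos : 0 < d * (n * (s - 4) + t) + (2 - 2 * g) * n)
    (hdvd : (n - 1) ∣ d * (n * (s - 4) + t) + (2 - 2 * g) * n) :
    s < 2 * d ^ 2 ∧ t < 2 * d ^ 4 := by
  set X : ℤ := d * (s - 4) + 2 - 2 * g with hX
  have hE : d * (n * (s - 4) + t) + (2 - 2 * g) * n = n * X + d * t := by rw [hX]; ring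
  rw [hE] at hpos hdvd
  obtain ⟨k, hk⟩ : (n - 1) ∣ X + d * t := by
    have := Int.dvd_sub hdvd (Dvd.intro X rfl : (n - 1) ∣ (n - 1) * X)
    rwa [show n * X + d * t - (n - 1) * X = X + d * t by ring] at this
  have hXle : X ≤ d * s - 4 * d + 2 := by rw [hX]; linarith
  have hpos' : 0 < s * X + d ^ 2 := by
    have e : d * (n * X + d * t) = t * (s * X + d ^ 2) := by linear_combination -X * hn
    exact pos_of_mul_pos_right (e ▸ mul_pos (by omega) hpos) (by omega)
  have hMpos : 0 < X + d * t := by
    rcases le_or_gt 0 X with h | h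
    · have : 0 < d * t := mul_pos (by omega) (by omega)
      linarith
    · nlinarith
  have hk1 : 1 ≤ k := by
    by_contra hc
    push Not at hc
    nlinarith
  have hs2 : s < 2 * d ^ 2 := by
    have h1 : n - 1 ≤ X + d * t := by nlinarith
    have h2 : n ≤ d * s - 4 * d + 3 + d * t := by linarith
    have h3 : s * t ≤ d * (2 * d * t - 1) := by
      rw [hn]; exact mul_le_mul_of_nonneg_left (by nlinarith) (by omega)
    nlinarith
  refine ⟨hs2, ?_⟩
  have id1 : (k * s - d ^ 2) * (s * t - d) = d * (s * X + d ^ 2) := by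
    linear_combination (-(d * s)) * hk + (k * s) * hn
  have hstd : 0 < s * t - d := by rw [hn]; nlinarith
  have hj : 1 ≤ k * s - d ^ 2 := by
    have : 0 < (k * s - d ^ 2) * (s * t - d) := id1 ▸ mul_pos (by omega) hpos'
    exact pos_of_mul_pos_left this hstd.le
  have h4 : s * t - d ≤ d * (s * X + d ^ 2) := by
    rw [← id1]; exact le_mul_of_one_le_left hstd.le hj
  have h5 : s * t ≤ d + d ^ 3 + d ^ 2 * s ^ 2 - 4 * d ^ 2 * s + 2 * d * s := by
    nlinarith [mul_le_mul_of_nonneg_left hXle (show (0:ℤ) ≤ d * s by positivity)]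
  have h6 : d + d ^ 3 + d ^ 2 * s ^ 2 - 4 * d ^ 2 * s + 2 * d * s < 2 * d ^ 4 * s := by
    have a1 : 0 ≤ d ^ 2 * ((s - 1) * (2 * d ^ 2 - 1 - s)) := mul_nonneg (sq_nonneg d) (mul_nonneg (by omega) (by omega))
    have a2 : 0 ≤ (d * (4 * d - 2) - 0) * (s - 1) := mul_nonneg (by nlinarith) (by omega)
    nlinarith
  exact lt_of_mul_lt_mul_left (by linarith : s * t < s * (2 * d ^ 4)) (by omega)

end Groth.Agent.S18055
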