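import Mathlib
import Groth.Statements.S18056
import Groth.Agent.Lib.H2PerfectSmooth
-- import your own Groth.Agent.* helpers here

set_option autoImplicit false
universe u v
open STCI
open TensorProduct

namespace Groth.Agent.S18056

open IsLocalRing in
theorem isField_of_formallySmooth (F : Type*) [Field F] [PerfectField F] (C : Type*) [CommRing C] [IsLocalRing C]
    [IsArtinianRing C] [Algebra F C] [Algebra.FormallySmooth F C] : IsField C := by
  classical
  let L := ResidueField C
  haveI := H2PerfectSmooth.formallySmooth F L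
  rw [isField_iff_maximalIdeal_eq]
  by_contra hne
  have hsq : maximalIdeal C ^ 2 ≠ maximalIdeal C := fun h => hne (Submodule.eq_bot_of_le_smul_of_le_jacobson_bot
    (maximalIdeal C) _ (IsNoetherian.noetherian _) (by rw [smul_eq_mul, ← pow_two, h]) (maximalIdeal_le_jacobson _))
  obtain ⟨x, hx, hx2⟩ := SetLike.exists_of_lt (lt_of_le_of_ne (Ideal.pow_le_self two_ne_zero) hsq)
  have hsurj : Function.Surjective (algebraMap C L) := residue_surjective
  have hinj : Function.Injective (KaehlerDifferential.kerCotangentToTensor F C L) :=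
    (Algebra.FormallySmooth.kerCotangentToTensor_injective_iff (R := F) (P := C) (A := L) hsurj).mpr inferInstance
  have hxk : x ∈ RingHom.ker (algebraMap C L) := (residue_eq_zero_iff x).mpr hx
  have hk : RingHom.ker (algebraMap C L) = maximalIdeal C := Ideal.mk_ker
  have hne0 : (1 : L) ⊗ₜ[C] KaehlerDifferential.D F C x ≠ 0 := fun h0 => hx2 (by
    have h1 := hinj (a₁ := Ideal.toCotangent _ ⟨x, hxk⟩) (a₂ := 0)
      (by rw [KaehlerDifferential.kerCotangentToTensor_toCotangent, map_zero]; exact h0)
    rw [Ideal.toCotangent_eq_zero] at h1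
    have h1' : x ∈ RingHom.ker (algebraMap C L) ^ 2 := h1
    rwa [hk] at h1')
  obtain ⟨g, hg⟩ : ∃ g : TensorProduct C L (Ω[C⁄F]) →ₗ[L] L, g ((1 : L) ⊗ₜ[C] KaehlerDifferential.D F C x) ≠ 0 := by
    by_contra h
    push Not at h
    exact hne0 ((Module.forall_dual_apply_eq_zero_iff L _).mp h)
  let d : Derivation F C L :=
    (((g.restrictScalars C) ∘ₗ TensorProduct.mk C L (Ω[C⁄F]) 1).compDer (KaehlerDifferential.D F C))
  have hd : d x ≠ 0 := hg
  let T2 := Polynomial L ⧸ Ideal.span ({Polynomial.X ^ 2} : Set (Polynomial L))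
  have hT2 : Ideal.Quotient.mk (Ideal.span ({Polynomial.X ^ 2} : Set (Polynomial L))) (Polynomial.X ^ 2) = 0 :=
    Ideal.Quotient.eq_zero_iff_mem.mpr (Ideal.mem_span_singleton_self _)
  let φ : C →ₐ[F] T2 :=
    { toFun := fun c => Ideal.Quotient.mk _ (Polynomial.C (residue C c) + Polynomial.C (d c) * Polynomial.X)
      map_one' := by simp
      map_zero' := by simp
      map_add' := fun a b => by rw [← map_add]; exact congrArg _ (by simp [add_mul]; abel)
      map_mul' := fun a b => by
        rw [← map_mul, Ideal.Quotient.eq, Ideal.mem_span_singleton]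
        refine ⟨-(Polynomial.C (d a) * Polynomial.C (d b)), ?_⟩
        rw [Derivation.leibniz, Algebra.smul_def, Algebra.smul_def, ResidueField.algebraMap_eq, map_mul, map_mul, map_add, map_mul, map_mul]
        ring
      commutes' := fun r => by
        rw [Derivation.map_algebraMap, map_zero, zero_mul, add_zero, IsScalarTower.algebraMap_apply F L T2]
        rfl }
  obtain ⟨M, hM⟩ := IsArtinianRing.isNilpotent_jacobson_bot (R := C)
  rw [jacobson_eq_maximalIdeal ⊥ bot_ne_top] at hM
  have hxM : x ^ M = 0 := by
    have := Ideal.pow_mem_pow hx M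
    rwa [hM, Ideal.zero_eq_bot, Ideal.mem_bot] at this
  let IN : Ideal (Polynomial L) := Ideal.span {Polynomial.X ^ (M + 2)}
  have hle : IN ≤ Ideal.span ({Polynomial.X ^ 2} : Set (Polynomial L)) :=
    Ideal.span_singleton_le_span_singleton.mpr (pow_dvd_pow _ (by omega))
  let π : (Polynomial L ⧸ IN) →ₐ[F] T2 := Ideal.Quotient.factorₐ F hle
  have hπ : Function.Surjective π := fun z => by
    obtain ⟨z, rfl⟩ := Ideal.Quotient.mk_surjective z
    exact ⟨Ideal.Quotient.mk _ z, rfl⟩
  have hnil : IsNilpotent (RingHom.ker π.toRingHom) := by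
    refine ⟨M + 2, ?_⟩
    rw [Ideal.zero_eq_bot, eq_bot_iff]
    have : RingHom.ker π.toRingHom ≤ Ideal.span {Ideal.Quotient.mk IN (Polynomial.X ^ 2)} := fun z hz => by
      obtain ⟨z, rfl⟩ := Ideal.Quotient.mk_surjective z
      obtain ⟨c, rfl⟩ := Ideal.mem_span_singleton.mp (Ideal.Quotient.eq_zero_iff_mem.mp hz)
      rw [map_mul]
      exact Ideal.mul_mem_right _ _ (Ideal.mem_span_singleton_self _)
    refine (Ideal.pow_right_mono this _).trans ?_
    rw [Ideal.span_singleton_pow, Ideal.span_le, Set.singleton_subset_iff, SetLike.mem_coe, Ideal.mem_bot, ← map_pow,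
      Ideal.Quotient.eq_zero_iff_mem, Ideal.mem_span_singleton, ← pow_mul]
    exact pow_dvd_pow _ (by omega)
  obtain ⟨ψ, hψ⟩ : ∃ ψ : C →ₐ[F] Polynomial L ⧸ IN, π.comp ψ = φ :=
    ⟨Algebra.FormallySmooth.liftOfSurjective φ π hπ hnil, Algebra.FormallySmooth.comp_liftOfSurjective φ π hπ hnil⟩
  obtain ⟨q, hq⟩ := Ideal.Quotient.mk_surjective (ψ x)
  have h1 := AlgHom.congr_fun hψ x
  rw [AlgHom.comp_apply, ← hq] at h1
  change Ideal.Quotient.mk _ q = Ideal.Quotient.mk _ _ at h1
  rw [Ideal.Quotient.eq, Ideal.mem_span_singleton, (residue_eq_zero_iff x).mpr hx, map_zero, zero_add] at h1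
  obtain ⟨r, hr⟩ := h1
  have h2 : q = Polynomial.X * (Polynomial.C (d x) + Polynomial.X * r) := by linear_combination hr
  have h3 : Polynomial.X ^ (M + 2) ∣ q ^ M := by
    rw [← Ideal.mem_span_singleton]
    exact Ideal.Quotient.eq_zero_iff_mem.mp (by rw [map_pow, hq, ← map_pow, hxM, map_zero])
  rw [h2, mul_pow, pow_add, mul_dvd_mul_iff_left (pow_ne_zero _ Polynomial.X_ne_zero)] at h3
  have h4 : Polynomial.X ∣ (Polynomial.C (d x) + Polynomial.X * r) ^ M := (dvd_pow_self Polynomial.X two_ne_zero).trans h3
  rw [Polynomial.X_dvd_iff, Polynomial.coeff_zero_eq_eval_zero] at h4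
  simp at h4
  exact hd h4.1

open TensorProduct in
theorem length_baseChange {A : Type u} {B : Type v} [CommRing A] [IsLocalRing A] [CommRing B] [Algebra A B] [Module.Flat A B]
    (h1 : Module.length B (B ⊗[A] IsLocalRing.ResidueField A) = 1)
    (M : Type u) [AddCommGroup M] [Module A M] (hM : IsFiniteLength A M) :
    Module.length B (B ⊗[A] M) = Module.length A M := by
  induction hM with
  | of_subsingleton => rw [Module.length_eq_zero, Module.length_eq_zero]
  | @of_simple_quotient M _ _ N hs hN ih =>
    rw [Module.length_eq_add_of_exact (N.subtype.baseChange B) (N.mkQ.baseChange B)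
      (Module.Flat.lTensor_preserves_injective_linearMap _ Subtype.val_injective)
      (LinearMap.lTensor_surjective B N.mkQ_surjective)
      (lTensor_exact B (LinearMap.exact_subtype_mkQ N) N.mkQ_surjective), ih,
      Module.length_eq_add_of_exact N.subtype N.mkQ Subtype.val_injective N.mkQ_surjective (LinearMap.exact_subtype_mkQ N),
      Module.length_eq_one A (M ⧸ N)]
    congr 1
    obtain ⟨I, hI, ⟨e⟩⟩ := isSimpleModule_iff_quot_maximal.1 hs
    have e' := e.trans (Submodule.quotEquivOfEq I (IsLocalRing.maximalIdeal A) (IsLocalRing.eq_maximalIdeal hI))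
    exact (TensorProduct.AlgebraTensorModule.congr (LinearEquiv.refl B B) e').length_eq.trans h1

/-- Let A → B be a homomorphism of Artinian local rings that is flat and formally smooth, where A has a
subring that is a field. Then A and B have the same length, each as a module over itself. -/
theorem result (A : Type u) (B : Type v) [CommRing A] [CommRing B]
    [IsLocalRing A] [IsLocalRing B] [IsArtinianRing A] [IsArtinianRing B] [Algebra A B]
    [Module.Flat A B] [Algebra.FormallySmooth A B] (hK : ∃ K : Subring A, IsField K) :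
    Module.length A A = Module.length B B := by
  classical
  let k := IsLocalRing.ResidueField A
  let m := IsLocalRing.maximalIdeal A
  have hmB : m.map (algebraMap A B) ≠ ⊤ := fun h => by
    obtain ⟨n, hn⟩ := IsArtinianRing.isNilpotent_jacobson_bot (R := A)
    rw [IsLocalRing.jacobson_eq_maximalIdeal ⊥ bot_ne_top] at hn
    have h2 : (m ^ n).map (algebraMap A B) = ⊤ := by rw [Ideal.map_pow, h, Ideal.top_pow]
    rw [hn, Ideal.zero_eq_bot, Ideal.map_bot] at h2
    exact bot_ne_top h2
  let e : (k ⊗[A] B) ≃+* B ⧸ m.map (algebraMap A B) :=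
    ((Algebra.TensorProduct.comm A k B).toRingEquiv).trans (Algebra.TensorProduct.quotIdealMapEquivTensorQuot B m).symm.toRingEquiv
  haveI : Nontrivial (B ⧸ m.map (algebraMap A B)) := Ideal.Quotient.nontrivial_iff.mpr hmB
  haveI : IsLocalRing (B ⧸ m.map (algebraMap A B)) := .of_surjective' _ Ideal.Quotient.mk_surjective
  haveI : IsLocalRing (k ⊗[A] B) := e.symm.isLocalRing
  haveI : IsArtinianRing (B ⧸ m.map (algebraMap A B)) := inferInstance
  haveI : IsArtinianRing (k ⊗[A] B) := e.symm.surjective.isArtinianRing (f := e.symm.toRingHom)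
  let F := (⊥ : Subfield k)
  haveI : PerfectField F := by
    obtain ⟨q, hq⟩ := ExpChar.exists k
    haveI := hq
    cases hq with
    | zero =>
      haveI : CharZero F := (algebraMap F k).charZero
      infer_instance
    | prime hp =>
      haveI := Fact.mk hp
      haveI : CharP F q := (algebraMap F k).charP Subtype.val_injective q
      haveI : ExpChar F q := ExpChar.prime hp
      haveI : PerfectRing F q := PerfectRing.ofSurjective F q fun a => by
        let E : Subfield k := RingHom.eqLocusField (frobenius k q) (RingHom.id k)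
        exact ⟨a, Subtype.ext ((bot_le : (⊥ : Subfield k) ≤ E) a.2)⟩
      exact PerfectRing.toPerfectField F q
  haveI := H2PerfectSmooth.formallySmooth F k
  haveI : Algebra.FormallySmooth F (k ⊗[A] B) := Algebra.FormallySmooth.comp F k (k ⊗[A] B)
  have hfield : IsField (B ⧸ m.map (algebraMap A B)) :=
    MulEquiv.isField (isField_of_formallySmooth F (k ⊗[A] B)) e.symm.toMulEquiv
  haveI : (m.map (algebraMap A B)).IsMaximal := Ideal.Quotient.maximal_of_isField _ hfield
  have h1 : Module.length B (B ⊗[A] k) = 1 := by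
    refine (Algebra.TensorProduct.quotIdealMapEquivTensorQuot B m).toLinearEquiv.length_eq.symm.trans ?_
    haveI : IsSimpleModule B (B ⧸ m.map (algebraMap A B)) := isSimpleModule_iff_quot_maximal.2 ⟨_, inferInstance, ⟨LinearEquiv.refl _ _⟩⟩
    exact Module.length_eq_one B _
  rw [← length_baseChange h1 A (isFiniteLength_iff_isNoetherian_isArtinian.mpr ⟨inferInstance, inferInstance⟩),
    (TensorProduct.AlgebraTensorModule.rid A B B).length_eq]

end Groth.Agent.S18056
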