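import Groth.Statements.S18069
import Mathlib
import Groth.Agent.Lib.H8AntiAffine2

set_option autoImplicit false
universe u
open CategoryTheory MonoidalCategory CartesianMonoidalCategory MonObj GrpObj AlgebraicGeometry CategoryTheory.Limits
open AlgGrp

namespace Groth.Agent.S18069

/-- Let k be a field and G₁, G₂ connected k-group schemes of finite type. Then G₁ × G₂ is anti-affine,
i.e. O(G₁ × G₂) = k, if and only if G₁ and G₂ are both anti-affine. -/
theorem result (k : Type u) [Field k]
    (G₁ G₂ : Over (Spec (CommRingCat.of k))) [GrpObj G₁] [LocallyOfFiniteType G₁.hom] [QuasiCompact G₁.hom] [ConnectedSpace ↥G₁.left]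
    [GrpObj G₂] [LocallyOfFiniteType G₂.hom] [QuasiCompact G₂.hom] [ConnectedSpace ↥G₂.left] :
    Function.Bijective ((Scheme.ΓSpecIso (CommRingCat.of k)).inv ≫ (G₁ ⊗ G₂).hom.appTop).hom ↔
      Function.Bijective ((Scheme.ΓSpecIso (CommRingCat.of k)).inv ≫ G₁.hom.appTop).hom ∧ Function.Bijective ((Scheme.ΓSpecIso (CommRingCat.of k)).inv ≫ G₂.hom.appTop).hom := by
  haveI : CompactSpace G₁.left := HasAffineProperty.iff_of_isAffine.mp ‹QuasiCompact G₁.hom›
  haveI : CompactSpace G₂.left := HasAffineProperty.iff_of_isAffine.mp ‹QuasiCompact G₂.hom›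
  haveI := H8AntiAffine2.quasiSeparatedSpace G₁
  haveI := H8AntiAffine2.quasiSeparatedSpace G₂
  rw [H8AntiAffine2.bijective_iff, H8AntiAffine2.bijective_iff, H8AntiAffine2.bijective_iff]
  exact H8AntiAffine2.prod_iff G₁ G₂ η[G₁] η[G₂]

end Groth.Agent.S18069
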