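import Groth.Statements.S18121
import Mathlib

set_option autoImplicit false
set_option backward.isDefEq.respectTransparency.types false
set_option maxHeartbeats 1000000
set_option linter.all false
universe u
open Pinch

namespace Groth.Agent.S18121
open Groth.Agent

/-- Let B be a commutative ring, b an element of B, B' := B[z]/(z^2 - b) the rank-two B-algebra with z^2
= b, and Ψ : B[u, v] → B'[t] the B-algebra homomorphism with u ↦ z t and v ↦ t. Then the kernel of Ψ
is the principal ideal generated by u^2 - b v^2, and a polynomial of B'[t] lies in the image of Ψ as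
soon as its constant coefficient lies in B. Equivalently, B[u, v]/(u^2 - b v^2) is the fibre product
of B'[t] and B over B' (for t ↦ 0 and the inclusion of B): the pinching of Spec B' × 𝔸¹ along Spec
B' × {0} by the double cover Spec B' → Spec B is the hypersurface u^2 = b v^2 over B; for B = K[w]
and b = w this is the pinch point u^2 = v^2 w. -/
theorem result (B : Type u) [CommRing B] (b : B) :
    letI Ψ : MvPolynomial (Fin 2) B →ₐ[B] Polynomial (AdjoinRoot (Polynomial.X ^ 2 - Polynomial.C b)) :=
      MvPolynomial.aeval
        ![Polynomial.C (AdjoinRoot.root (Polynomial.X ^ 2 - Polynomial.C b)) * Polynomial.X, Polynomial.X]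
    RingHom.ker Ψ.toRingHom =
        Ideal.span {MvPolynomial.X 0 ^ 2 - MvPolynomial.C b * MvPolynomial.X 1 ^ 2} ∧
      ∀ G : Polynomial (AdjoinRoot (Polynomial.X ^ 2 - Polynomial.C b)),
        (∃ c : B, G.coeff 0 = algebraMap B (AdjoinRoot (Polynomial.X ^ 2 - Polynomial.C b)) c) →
          G ∈ Ψ.range := by
  set f : Polynomial B := Polynomial.X ^ 2 - Polynomial.C b with hf
  have hmon : f.Monic := Polynomial.monic_X_pow_sub_C b two_ne_zero
  set r := AdjoinRoot.root f with hr
  set Ψ : MvPolynomial (Fin 2) B →ₐ[B] Polynomial (AdjoinRoot f) :=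
    MvPolynomial.aeval (R := B) (σ := Fin 2) (S₁ := Polynomial (AdjoinRoot f))
      ![Polynomial.C r * Polynomial.X, Polynomial.X] with hΨdef
  have hr2 : r * r = algebraMap B (AdjoinRoot f) b := by
    have := AdjoinRoot.eval₂_root f
    simp only [hf, Polynomial.eval₂_sub, Polynomial.eval₂_X_pow, Polynomial.eval₂_C, sub_eq_zero] at this
    rw [← sq]; exact this
  have huniq : ∀ x y : B, algebraMap B (AdjoinRoot f) x + algebraMap B (AdjoinRoot f) y * r = 0 → x = 0 ∧ y = 0 := by
    intro x y h
    nontriviality B
    have h1 : AdjoinRoot.mk f (Polynomial.C x + Polynomial.C y * Polynomial.X) = 0 := by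
      rw [map_add, map_mul, AdjoinRoot.mk_X, AdjoinRoot.mk_C, AdjoinRoot.mk_C]; exact h
    rw [AdjoinRoot.mk_eq_zero, ← Polynomial.modByMonic_eq_zero_iff_dvd hmon, (Polynomial.modByMonic_eq_self_iff hmon).2] at h1
    · exact ⟨by simpa using congrArg (Polynomial.coeff · 0) h1, by simpa using congrArg (Polynomial.coeff · 1) h1⟩
    · rw [hf, Polynomial.degree_X_pow_sub_C two_pos, add_comm]
      exact lt_of_le_of_lt Polynomial.degree_linear_le (by decide)
  have hΨ0 : Ψ (MvPolynomial.X 0) = Polynomial.C r * Polynomial.X := by simp [hΨdef, hr, hf]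
  have hΨ1 : Ψ (MvPolynomial.X 1) = Polynomial.X := by simp [hΨdef]
  set I : Ideal (MvPolynomial (Fin 2) B) := Ideal.span {MvPolynomial.X 0 ^ 2 - MvPolynomial.C b * MvPolynomial.X 1 ^ 2} with hI
  constructor
  · refine le_antisymm ?_ ?_
    · intro G hG
      have hnf : ∀ G, ∃ P Q : Polynomial B, G - (Polynomial.aeval (MvPolynomial.X 1) P + MvPolynomial.X 0 * Polynomial.aeval (MvPolynomial.X (R := B) (1 : Fin 2)) Q) ∈ I := by
        intro G
        induction G using MvPolynomial.induction_on with
        | C a => exact ⟨Polynomial.C a, 0, by simp⟩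
        | add p q hp hq =>
          obtain ⟨P, Q, h⟩ := hp
          obtain ⟨P', Q', h'⟩ := hq
          refine ⟨P + P', Q + Q', ?_⟩
          convert I.add_mem h h' using 1
          simp only [map_add]; ring
        | mul_X p i hp =>
          obtain ⟨P, Q, h⟩ := hp
          fin_cases i
          · refine ⟨Polynomial.C b * Polynomial.X ^ 2 * Q, P, ?_⟩
            convert I.add_mem (I.mul_mem_right (MvPolynomial.X 0) h) (I.mul_mem_right (Polynomial.aeval (MvPolynomial.X (R := B) (1 : Fin 2)) Q) (Ideal.subset_span (Set.mem_singleton _))) using 1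
            simp only [map_mul, map_pow, Polynomial.aeval_C, Polynomial.aeval_X, MvPolynomial.algebraMap_eq]
            norm_num
            ring
          · refine ⟨P * Polynomial.X, Q * Polynomial.X, ?_⟩
            convert I.mul_mem_right (MvPolynomial.X 1) h using 1
            simp only [map_mul, Polynomial.aeval_X]
            norm_num
            ring
      obtain ⟨P, Q, h⟩ := hnf G
      have hIle : ∀ z ∈ I, Ψ z = 0 := by
        intro z hz
        obtain ⟨w, rfl⟩ := Ideal.mem_span_singleton'.1 hz
        rw [map_mul, map_sub, map_mul, map_pow, map_pow, hΨ0, hΨ1, ← MvPolynomial.algebraMap_eq, AlgHom.commutes, IsScalarTower.algebraMap_apply B (AdjoinRoot f) (Polynomial (AdjoinRoot f)), ← hr2, Polynomial.algebraMap_eq, map_mul]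
        ring
      have h2 := hIle _ h
      rw [map_sub, show Ψ G = 0 from hG, zero_sub, neg_eq_zero, map_add, map_mul, ← Polynomial.aeval_algHom_apply, ← Polynomial.aeval_algHom_apply, hΨ0, hΨ1] at h2
      have hmap : ∀ P : Polynomial B, Polynomial.aeval (Polynomial.X : Polynomial (AdjoinRoot f)) P = P.map (algebraMap B (AdjoinRoot f)) := by
        intro P
        induction P using Polynomial.induction_on' with
        | add p q hp hq => rw [map_add, hp, hq, Polynomial.map_add]
        | monomial k a => rw [Polynomial.aeval_monomial, Polynomial.map_monomial, ← Polynomial.C_mul_X_pow_eq_monomial]; rfl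
      rw [hmap, hmap] at h2
      have hc : ∀ k, P.coeff k = 0 ∧ (Polynomial.X * Q).coeff k = 0 := by
        intro k
        apply huniq
        have h3 := congrArg (Polynomial.coeff · k) h2
        simp only [Polynomial.coeff_zero, Polynomial.coeff_add, mul_assoc, Polynomial.coeff_C_mul, Polynomial.coeff_map] at h3
        rw [← Polynomial.map_X (algebraMap B (AdjoinRoot f)), ← Polynomial.map_mul, Polynomial.coeff_map] at h3
        rw [mul_comm _ r]
        exact h3
      have hP : P = 0 := Polynomial.ext fun k => by simpa using (hc k).1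
      have hQ : Q = 0 := Polynomial.ext fun k => by simpa using (hc (k + 1)).2
      simpa [hP, hQ] using h
    · rw [hI, Ideal.span_le, Set.singleton_subset_iff, SetLike.mem_coe, RingHom.mem_ker]
      show Ψ _ = 0
      rw [map_sub, map_mul, map_pow, map_pow, hΨ0, hΨ1, ← MvPolynomial.algebraMap_eq, AlgHom.commutes, IsScalarTower.algebraMap_apply B (AdjoinRoot f) (Polynomial (AdjoinRoot f)), ← hr2, Polynomial.algebraMap_eq, map_mul]
      ring
  · rintro G ⟨c, hc⟩
    have hX : Polynomial.X ∈ Ψ.range := ⟨_, hΨ1⟩
    have hrX : Polynomial.C r * Polynomial.X ∈ Ψ.range := ⟨_, hΨ0⟩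
    have hB : ∀ x : B, Polynomial.C (algebraMap B (AdjoinRoot f) x) ∈ Ψ.range := fun x => Ψ.range.algebraMap_mem x
    have ha : ∀ p : Polynomial B, Polynomial.C (AdjoinRoot.mk f p) * Polynomial.X ∈ Ψ.range ∧ Polynomial.C (AdjoinRoot.mk f p * r) * Polynomial.X ∈ Ψ.range := by
      intro p
      induction p using Polynomial.induction_on with
      | C x =>
        rw [AdjoinRoot.mk_C, map_mul, mul_assoc]
        exact ⟨mul_mem (hB x) hX, mul_mem (hB x) hrX⟩
      | add p q hp hq =>
        simp only [map_add, add_mul]
        exact ⟨add_mem hp.1 hq.1, add_mem hp.2 hq.2⟩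
      | monomial n x ih =>
        rw [pow_succ, ← mul_assoc, map_mul, AdjoinRoot.mk_X, ← hr]
        refine ⟨ih.2, ?_⟩
        rw [mul_assoc, hr2, mul_comm _ (algebraMap B (AdjoinRoot f) b), map_mul, mul_assoc]
        exact mul_mem (hB b) ih.1
    rw [← Polynomial.X_mul_divX_add G, hc]
    refine add_mem ?_ (hB c)
    induction Polynomial.divX G using Polynomial.induction_on' with
    | add p q hp hq => rw [mul_add]; exact add_mem hp hq
    | monomial k a =>
      obtain ⟨p, rfl⟩ := AdjoinRoot.mk_surjective a
      rw [← Polynomial.C_mul_X_pow_eq_monomial, ← mul_assoc, mul_comm Polynomial.X]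
      exact mul_mem (ha p).1 (pow_mem hX k)

end Groth.Agent.S18121
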