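import Groth.Statements.S18190
import Mathlib

set_option autoImplicit false
open OrbRR

namespace Groth.Agent.S18190

/-- Let N ≥ 1 and let f : ℤ/Nℤ → ℚ be f(x) = x(x − N)/2 + (N² − 1)/12, where x is read as its
representative with 0 ≤ x < N. The real N × N matrix indexed by ℤ/Nℤ whose (i, j) entry is f(j −
i)/N, a symmetric circulant matrix, is positive semidefinite. -/
theorem result (N : ℕ) [NeZero N] :
    (Matrix.of fun i j : ZMod N =>
        ((((j - i).val : ℝ) * (((j - i).val : ℝ) - (N : ℝ))) / 2 + ((N : ℝ) ^ 2 - 1) / 12) / (N : ℝ)).PosSemidef := by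
  have hN : (N : ℝ) ≠ 0 := Nat.cast_ne_zero.2 (NeZero.ne N)
  let c : ℕ → ℝ := fun l => 2 * (l : ℝ) - ((N : ℝ) - 1)
  let U : Matrix (ZMod N) (ZMod N) ℝ := Matrix.of fun k i => c (k - i).val / (2 * N)
  have s1 : ∀ r : ℕ, ∑ l ∈ Finset.range r, c l = (r : ℝ) * ((r : ℝ) - N) := fun r => by
    induction r with
    | zero => simp
    | succ r ih => rw [Finset.sum_range_succ, ih]; simp only [c]; push_cast; ring
  have s2 : ∀ r : ℕ, ∑ l ∈ Finset.range r, c l ^ 2 =
      2 * (r : ℝ) * ((r : ℝ) - 1) * (2 * (r : ℝ) - 1) / 3 - 2 * ((N : ℝ) - 1) * r * ((r : ℝ) - 1)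
        + ((N : ℝ) - 1) ^ 2 * r := fun r => by
    induction r with
    | zero => simp
    | succ r ih => rw [Finset.sum_range_succ, ih]; simp only [c]; push_cast; ring
  have key : ∀ i j : ZMod N, (U.conjTranspose * U) i j =
      ((((j - i).val : ℝ) * (((j - i).val : ℝ) - (N : ℝ))) / 2 + ((N : ℝ) ^ 2 - 1) / 12) / (N : ℝ) := by
    intro i j
    set d := j - i with hd
    have hr : d.val < N := ZMod.val_lt d
    have e1 : (U.conjTranspose * U) i j = ∑ l : ZMod N, c l.val / (2 * N) * (c (l - d).val / (2 * N)) := by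
      simp only [Matrix.mul_apply, Matrix.conjTranspose_apply, star_trivial, U, Matrix.of_apply]
      refine Fintype.sum_equiv (Equiv.subRight i) _ _ fun k => ?_
      simp only [Equiv.subRight_apply, hd, sub_sub_sub_cancel_right]
    have e2 : ∀ l : ZMod N, c (l - d).val =
        c l.val - 2 * (d.val : ℝ) + (if l.val < d.val then 2 * (N : ℝ) else 0) := by
      intro l
      split_ifs with h
      · have h1 : (d - l).val = d.val - l.val := ZMod.val_sub h.le
        have h2 : (l - d).val = N - (d.val - l.val) := by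
          have : NeZero (d - l) := ⟨fun h0 => by rw [h0, ZMod.val_zero] at h1; omega⟩
          rw [← h1, show l - d = -(d - l) by ring, ZMod.val_neg_of_ne_zero]
        simp only [c, h2, Nat.cast_sub (show d.val - l.val ≤ N by omega), Nat.cast_sub h.le]
        ring
      · simp only [c, ZMod.val_sub (not_lt.1 h), Nat.cast_sub (not_lt.1 h)]
        ring
    have e3 : ∀ g : ℕ → ℝ, ∑ l : ZMod N, g l.val = ∑ l ∈ Finset.range N, g l := fun g => by
      refine Finset.sum_bij (fun l _ => l.val) (fun l _ => Finset.mem_range.2 (ZMod.val_lt l))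
        (fun a _ b _ h => ZMod.val_injective N h) (fun b hb => ⟨(b : ZMod N), Finset.mem_univ _, ?_⟩)
        (fun _ _ => rfl)
      exact ZMod.val_cast_of_lt (Finset.mem_range.1 hb)
    rw [e1]
    simp only [e2]
    rw [e3 (fun l => c l / (2 * N) * ((c l - 2 * (d.val : ℝ) + (if l < d.val then 2 * (N : ℝ) else 0)) / (2 * N)))]
    have e4 : ∑ l ∈ Finset.range N, c l * (if l < d.val then 2 * (N : ℝ) else 0) =
        2 * N * ∑ l ∈ Finset.range d.val, c l := by
      rw [Finset.mul_sum, ← Finset.sum_range_add_sum_Ico _ hr.le,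
        Finset.sum_eq_zero (s := Finset.Ico d.val N) (fun l hl => by
          rw [if_neg (not_lt.2 (Finset.mem_Ico.1 hl).1), mul_zero]), add_zero]
      refine Finset.sum_congr rfl fun l hl => ?_
      rw [if_pos (Finset.mem_range.1 hl)]
      ring
    calc ∑ l ∈ Finset.range N, c l / (2 * N) *
          ((c l - 2 * (d.val : ℝ) + (if l < d.val then 2 * (N : ℝ) else 0)) / (2 * N))
        = (1 / (2 * (N : ℝ)) ^ 2) * (∑ l ∈ Finset.range N, c l ^ 2 -
            2 * (d.val : ℝ) * ∑ l ∈ Finset.range N, c l +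
            ∑ l ∈ Finset.range N, c l * (if l < d.val then 2 * (N : ℝ) else 0)) := by
          rw [Finset.mul_sum (a := 2 * (d.val : ℝ)), ← Finset.sum_sub_distrib, ← Finset.sum_add_distrib,
            Finset.mul_sum]
          refine Finset.sum_congr rfl fun l _ => ?_
          field_simp
      _ = _ := by
          rw [e4, s1, s1, s2]
          field_simp
          ring
  have : (Matrix.of fun i j : ZMod N =>
      ((((j - i).val : ℝ) * (((j - i).val : ℝ) - (N : ℝ))) / 2 + ((N : ℝ) ^ 2 - 1) / 12) / (N : ℝ)) =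
      U.conjTranspose * U := by
    ext i j
    rw [key]
    rfl
  rw [this]
  exact Matrix.posSemidef_conjTranspose_mul_self U

end Groth.Agent.S18190
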