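import Groth.Statements.S18265
import Groth.Prelude.Def_W4c5pointsetsdelpezzoInv
import Mathlib

set_option autoImplicit false
universe u
open InvQ

namespace Groth.Agent.S18265


/-- Let k be an algebraically closed field and n, m natural numbers, and let R be the ring of polynomial
functions of m vectors of k^(n+1) invariant under the special linear group SL(n+1, k) acting on all
the vectors at once and under the rescalings of the individual vectors by units with product 1
(equivalently: invariant and homogeneous of one and the same degree in each vector) — the graded
ring of invariant sections whose Proj is the quotient variety of ordered m-point sets in projective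
n-space. Then R is integrally closed in its field of fractions; hence that quotient variety is
normal. (Only the normality assertion of the source's statement is given here; its dimension,
rationality and singular-locus assertions are not.) -/
theorem result (k : Type u) [Field k] [IsAlgClosed k] (n m : ℕ) :
    IsIntegrallyClosed (W4c5pointsetsdelpezzo.invRing k n m) := by
  let B := W4c5pointsetsdelpezzo.invRing k n m
  let A := W4c5pointsetsdelpezzo.TupleRing k n m
  have hinj : Function.Injective ((algebraMap A (FractionRing A)).comp B.val.toRingHom) :=
    (IsFractionRing.injective A (FractionRing A)).comp Subtype.val_injective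
  let ψ : FractionRing B →+* FractionRing A := IsFractionRing.lift hinj
  rw [isIntegrallyClosed_iff (FractionRing B)]
  intro x hx
  obtain ⟨p, hp, hpx⟩ := hx
  have hψ : ∀ b : B, ψ (algebraMap _ _ b) = algebraMap A (FractionRing A) b.1 := fun b => IsFractionRing.lift_algebraMap hinj b
  have hint : IsIntegral A (ψ x) := by
    refine ⟨p.map B.val.toRingHom, hp.map _, ?_⟩
    rw [Polynomial.eval₂_map, show (algebraMap A (FractionRing A)).comp B.val.toRingHom = ψ.comp (algebraMap B (FractionRing B)) from RingHom.ext fun b => (hψ b).symm, ← Polynomial.hom_eval₂, hpx, map_zero]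
  obtain ⟨a, ha⟩ := (isIntegrallyClosed_iff (FractionRing A)).1 inferInstance hint
  obtain ⟨num, den, hden, rfl⟩ := IsFractionRing.div_surjective (A := B) x
  have hd : den.1 ≠ 0 := fun h => nonZeroDivisors.ne_zero hden (Subtype.ext h)
  have heq : a * den.1 = num.1 := by
    apply IsFractionRing.injective A (FractionRing A)
    rw [map_mul, ha, map_div₀, hψ, hψ, div_mul_cancel₀]
    exact fun h => hd (IsFractionRing.injective A (FractionRing A) (h.trans (map_zero _).symm))
  have key : ∀ φ : A →ₐ[k] A, φ den.1 = den.1 → φ num.1 = num.1 → φ a = a := fun φ h1 h2 => by
    have := congrArg φ heq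
    rw [map_mul, h1, h2, ← heq] at this
    exact mul_right_cancel₀ hd this
  have hnum : num.1 ∈ W4c5pointsetsdelpezzo.invRing k n m := num.2
  have hdn : den.1 ∈ W4c5pointsetsdelpezzo.invRing k n m := den.2
  simp only [W4c5pointsetsdelpezzo.invRing, Algebra.mem_inf, Algebra.mem_iInf, AlgHom.mem_equalizer, AlgHom.id_apply] at hnum hdn
  refine ⟨⟨a, ?_⟩, ψ.injective ?_⟩
  · simp only [W4c5pointsetsdelpezzo.invRing, Algebra.mem_inf, Algebra.mem_iInf, AlgHom.mem_equalizer, AlgHom.id_apply]
    exact ⟨fun g => key _ (hdn.1 g) (hnum.1 g), fun s => key _ (hdn.2 s) (hnum.2 s)⟩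
  · exact (hψ _).trans ha

end Groth.Agent.S18265
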