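import Groth.Statements.S1827
import Groth.Agent.Lib.H1Koszul
import Mathlib

set_option autoImplicit false
universe u
open CategoryTheory
attribute [local instance] HasDerivedCategory.standard
open Goren

namespace Groth.Agent.S1827

/-- Let A be a Noetherian Gorenstein ring and A → B a local complete intersection homomorphism (finite
type, with a presentation whose kernel is Koszul-regular). Then B is a Gorenstein ring. -/
theorem result (A B : Type u) [CommRing A] [CommRing B] [Algebra A B] (hA : LocCoh.IsGorensteinRing A) (h : LCI.IsLCI A B) : LocCoh.IsGorensteinRing B := by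
  haveI := hA
  obtain ⟨-, n, f, hf, hker⟩ := h
  haveI := Groth.Agent.H1Koszul.gorRing_mvPolynomial A n
  haveI : IsNoetherianRing B := isNoetherianRing_of_surjective _ B f.toRingHom hf
  refine Groth.Agent.GorensteinRings.gorRing_of_local fun Q _ => ?_
  obtain ⟨e⟩ := Groth.Agent.GorensteinRings.exists_atPrime_quotient_equiv f.toRingHom hf Q
  have hle : RingHom.ker f.toRingHom ≤ Q.comap f.toRingHom := fun x hx => by
    rw [RingHom.mem_ker] at hx
    rw [Ideal.mem_comap, hx]
    exact zero_mem _
  obtain ⟨g, hg, l, hl, hspan⟩ := hker ⟨Q.comap f.toRingHom, inferInstance⟩ hle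
  replace hg : g ∉ Q.comap f.toRingHom := hg
  haveI := Groth.Agent.GorensteinRings.gorRing_localization (R := MvPolynomial (Fin n) A) (Submonoid.powers g)
  set P := Q.comap f.toRingHom with hP
  let ψ : Localization.Away g →+* Localization.AtPrime P := IsLocalization.Away.lift g
    (g := algebraMap (MvPolynomial (Fin n) A) (Localization.AtPrime P))
    (IsLocalization.map_units (Localization.AtPrime P) (⟨g, hg⟩ : P.primeCompl))
  letI := ψ.toAlgebra
  haveI : IsScalarTower (MvPolynomial (Fin n) A) (Localization.Away g) (Localization.AtPrime P) :=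
    IsScalarTower.of_algebraMap_eq fun x => (IsLocalization.Away.lift_eq g _ x).symm
  let P' : Ideal (Localization.Away g) := (IsLocalRing.maximalIdeal (Localization.AtPrime P)).comap ψ
  have hP' : P'.under (MvPolynomial (Fin n) A) = P := by
    conv_rhs => rw [← IsLocalization.AtPrime.under_maximalIdeal (Localization.AtPrime P) P]
    show (Ideal.comap ψ _).comap (algebraMap _ (Localization.Away g)) = Ideal.comap _ _
    rw [Ideal.comap_comap, show ψ.comp (algebraMap _ (Localization.Away g)) = algebraMap _ _ from
      (IsScalarTower.algebraMap_eq _ _ _).symm]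
  haveI : IsLocalization.AtPrime (Localization.AtPrime P) P' := by
    have hpow : Submonoid.powers g ≤ P.primeCompl := Submonoid.powers_le.mpr hg
    haveI := IsLocalization.isLocalization_of_submonoid_le (Localization.Away g) (Localization.AtPrime P)
      (Submonoid.powers g) P.primeCompl hpow
    refine IsLocalization.of_le (Submonoid.map (algebraMap _ (Localization.Away g)) P.primeCompl) P'.primeCompl ?_ ?_
    · rintro _ ⟨x, hx, rfl⟩ hmem
      have : x ∈ P'.under (MvPolynomial (Fin n) A) := hmem
      rw [hP'] at this
      exact hx this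
    · intro x hx
      exact (IsLocalRing.notMem_maximalIdeal.mp hx : IsUnit (ψ x))
  haveI := hA
  haveI : LocCoh.IsGorensteinLocalRing (Localization.AtPrime P) :=
    LocCoh.IsGorensteinRing.isGorensteinLocalRing_localization (A := MvPolynomial (Fin n) A) P
  have hlmem : ∀ x ∈ l, x ∈ P' := fun x hx => by
    have h1 : x ∈ (RingHom.ker f.toRingHom).map (algebraMap _ (Localization.Away g)) := hspan ▸ Ideal.subset_span hx
    refine (Ideal.map_le_iff_le_comap.mpr (fun y hy => ?_)) h1
    have h2 : y ∈ P'.under (MvPolynomial (Fin n) A) := by rw [hP']; exact hle hy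
    exact h2
  have key := Groth.Agent.H1Koszul.gor_quotient_ofList P' (Localization.AtPrime P) l hlmem
    (Groth.Agent.H1Koszul.locReg_of_isKoszulRegularSeq P' l hlmem hl)
  refine Groth.Agent.GorensteinRings.gor_of_ringEquiv (e.trans (Ideal.quotEquivOfEq ?_)) key
  rw [show Ideal.ofList l = (RingHom.ker f.toRingHom).map (algebraMap _ (Localization.Away g)) from hspan.symm,
    Ideal.map_map, ← IsScalarTower.algebraMap_eq]

end Groth.Agent.S1827
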