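import Groth.Statements.S18368
import Mathlib
import Groth.Agent.Lib.H8Rigidity

set_option autoImplicit false
universe u
open CategoryTheory CategoryTheory.Limits MonoidalCategory CartesianMonoidalCategory AlgebraicGeometry
open AbVar

namespace Groth.Agent.S18368

open CategoryTheory Limits AlgebraicGeometry MonoidalCategory CartesianMonoidalCategory in
set_option maxHeartbeats 800000 in
set_option backward.defeqAttrib.useBackward true in
set_option backward.isDefEq.respectTransparency false in
theorem point_baseChange (k : Type u) [Field k]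
    (X Y Z : Over (Spec (CommRingCat.of k))) (f : X ⊗ Y ⟶ Z)
    (K : Type u) [Field K] (g : Spec (CommRingCat.of K) ⟶ Spec (CommRingCat.of k))
    (y₀ : (Over.mk g : Over (Spec (CommRingCat.of k))) ⟶ Y)
    (z₀ : (Over.mk g : Over (Spec (CommRingCat.of k))) ⟶ Z)
    (h : (X ◁ y₀) ≫ f = snd X _ ≫ z₀) :
    ∃ (y : 𝟙_ _ ⟶ (Over.pullback g).obj Y) (z : 𝟙_ _ ⟶ (Over.pullback g).obj Z),
      lift (𝟙 _) (toUnit _ ≫ y) ≫ Functor.LaxMonoidal.μ (Over.pullback g) X Y ≫
        (Over.pullback g).map f = toUnit _ ≫ z := by
  let y : 𝟙_ _ ⟶ (Over.pullback g).obj Y := Over.homMk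
    (pullback.lift y₀.left (𝟙 _) (by simp))
    (pullback.lift_snd _ _ _)
  let z : 𝟙_ _ ⟶ (Over.pullback g).obj Z := Over.homMk
    (pullback.lift z₀.left (𝟙 _) (by simp))
    (pullback.lift_snd _ _ _)
  refine ⟨y, z, ?_⟩
  let m : (Over.pullback g).obj X ⟶ (Over.pullback g).obj (X ⊗ Y) :=
    lift (𝟙 _) (toUnit _ ≫ y) ≫ Functor.LaxMonoidal.μ (Over.pullback g) X Y
  let T : Over (Spec (CommRingCat.of k)) := Over.mk (pullback.snd X.hom g ≫ g)
  let j : T ⟶ X ⊗ Over.mk g :=
    lift (Over.homMk (pullback.fst X.hom g) pullback.condition)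
      (Over.homMk (pullback.snd X.hom g) rfl)
  let m2 : T ⟶ X ⊗ Y := Over.homMk (m.left ≫ pullback.fst (X ⊗ Y).hom g) (by
    rw [Category.assoc, pullback.condition, ← Category.assoc]
    congr 1
    exact Over.w m)
  have hm1 : m ≫ (Over.pullback g).map (fst X Y) = 𝟙 _ := by simp [m]
  have hm2 : m ≫ (Over.pullback g).map (snd X Y) = toUnit _ ≫ y := by simp [m]
  have hm : m2 = j ≫ (X ◁ y₀) := by
    apply CartesianMonoidalCategory.hom_ext
    · rw [Category.assoc, whiskerLeft_fst, lift_fst]
      apply Over.OverMorphism.ext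
      have := congrArg (fun q => q.left ≫ pullback.fst X.hom g) hm1
      simp only [Over.comp_left, Over.id_left, Category.id_comp, Over.pullback_map_left,
        Category.assoc, pullback.lift_fst] at this
      simp only [Over.comp_left, m2, Over.homMk_left, Category.assoc]
      exact this
    · rw [Category.assoc, whiskerLeft_snd, lift_snd_assoc]
      apply Over.OverMorphism.ext
      have := congrArg (fun q => q.left ≫ pullback.fst Y.hom g) hm2
      simp only [Over.comp_left, Over.pullback_map_left, Category.assoc, pullback.lift_fst, y,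
        Over.homMk_left] at this
      simp only [Over.comp_left, m2, Over.homMk_left, Category.assoc]
      exact this
  apply Over.OverMorphism.ext
  rw [← Category.assoc]
  apply pullback.hom_ext
  · have h1 : (j ≫ (X ◁ y₀) ≫ f).left = pullback.snd X.hom g ≫ z₀.left := by
      rw [h, lift_snd_assoc]
      rfl
    rw [← Category.assoc, ← hm] at h1
    simp only [Over.comp_left, m2, Over.homMk_left, Category.assoc] at h1
    simp only [Over.comp_left, Over.pullback_map_left, Category.assoc, pullback.lift_fst, z,
      Over.homMk_left]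
    simp only [m, Over.comp_left, Category.assoc] at h1
    exact h1
  · exact (Over.w (m ≫ (Over.pullback g).map f)).trans (Over.w (toUnit _ ≫ z)).symm

open CategoryTheory Limits AlgebraicGeometry MonoidalCategory CartesianMonoidalCategory in
set_option maxHeartbeats 800000 in
set_option backward.defeqAttrib.useBackward true in
set_option backward.isDefEq.respectTransparency false in
theorem descend (k : Type u) [Field k]
    (X Y Z : Over (Spec (CommRingCat.of k)))
    [IsProper X.hom] [GeometricallyIntegral X.hom]
    (f : X ⊗ Y ⟶ Z) (K : Type u) [Field K] [Algebra k K]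
    (g : (Over.pullback (Spec.map (CommRingCat.ofHom (algebraMap k K)))).obj Y ⟶
      (Over.pullback (Spec.map (CommRingCat.ofHom (algebraMap k K)))).obj Z)
    (hg : (Over.pullback (Spec.map (CommRingCat.ofHom (algebraMap k K)))).map f =
      (Over.pullback (Spec.map (CommRingCat.ofHom (algebraMap k K)))).map (snd X Y) ≫ g) :
    ∃! g : Y ⟶ Z, f = snd X Y ≫ g := by
  have hX : Flat X.hom := inferInstance
  have : Flat (snd X Y).left := by dsimp; infer_instance
  have : Surjective (snd X Y).left := by dsimp; infer_instance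
  have : QuasiCompact (snd X Y).left := by dsimp; infer_instance
  have : EffectiveEpi (snd X Y).left := inferInstance
  have hcond : ∀ {W : Scheme.{u}} (g₁ g₂ : W ⟶ (X ⊗ Y).left),
      g₁ ≫ (snd X Y).left = g₂ ≫ (snd X Y).left → g₁ ≫ f.left = g₂ ≫ f.left := by
    intro W g₁ g₂ e
    let T : Over (Spec (CommRingCat.of k)) := Over.mk (g₁ ≫ (X ⊗ Y).hom)
    let q₁ : T ⟶ X ⊗ Y := Over.homMk g₁ rfl
    let q₂ : T ⟶ X ⊗ Y := Over.homMk g₂ (by
      show g₂ ≫ (X ⊗ Y).hom = g₁ ≫ (X ⊗ Y).hom
      rw [← Over.w (snd X Y), ← Category.assoc, ← e, Category.assoc])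
    have e' : q₁ ≫ snd X Y = q₂ ≫ snd X Y := Over.OverMorphism.ext e
    have : q₁ ≫ f = q₂ ≫ f := by
      apply (Over.pullback (Spec.map (CommRingCat.ofHom (algebraMap k K)))).map_injective
      rw [Functor.map_comp, Functor.map_comp, hg, ← Category.assoc, ← Category.assoc,
        ← Functor.map_comp, ← Functor.map_comp, e']
    exact congrArg Over.Hom.left this
  let d := EffectiveEpi.desc (snd X Y).left f.left (fun g₁ g₂ e => hcond g₁ g₂ e)
  have hd : (snd X Y).left ≫ d = f.left := EffectiveEpi.fac _ _ _
  refine ⟨Over.homMk d ?_, ?_, ?_⟩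
  · rw [← cancel_epi (snd X Y).left, ← Category.assoc, hd, Over.w f, Over.w (snd X Y)]
  · exact Over.OverMorphism.ext hd.symm
  · intro g' hg'
    apply Over.OverMorphism.ext
    rw [← cancel_epi (snd X Y).left, ← Over.comp_left, ← hg']
    exact hd.symm

/-- Let k be a field, X and Y geometrically integral k-schemes of finite type with X proper, Z a
separated k-scheme and f : X ×_k Y → Z a k-morphism (products in the cartesian monoidal category of
k-schemes). If for some algebraically closed field K over k there are points y₀ : Spec K → Y and z₀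
: Spec K → Z over k such that f restricted to X ×_k Spec K along y₀ is the constant map z₀, then f
factors uniquely through the second projection: there is exactly one g : Y → Z over k with f = pr₂ ≫
g. (The target Z is not assumed to be of finite type over k.) -/
theorem result (k : Type u) [Field k]
    (X Y Z : Over (Spec (CommRingCat.of k)))
    [IsProper X.hom] [GeometricallyIntegral X.hom]
    [LocallyOfFiniteType Y.hom] [QuasiCompact Y.hom] [GeometricallyIntegral Y.hom]
    [IsSeparated Z.hom] (f : X ⊗ Y ⟶ Z)
    (K : Type u) [Field K] [Algebra k K] [IsAlgClosed K]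
    (y₀ : (Over.mk (Spec.map (CommRingCat.ofHom (algebraMap k K))) : Over (Spec (CommRingCat.of k))) ⟶ Y)
    (z₀ : (Over.mk (Spec.map (CommRingCat.ofHom (algebraMap k K))) : Over (Spec (CommRingCat.of k))) ⟶ Z)
    (h : (X ◁ y₀) ≫ f = snd X _ ≫ z₀) :
    ∃! g : Y ⟶ Z, f = snd X Y ≫ g := by
  obtain ⟨y, z, hyz⟩ := point_baseChange k X Y Z f K _ y₀ z₀ h
  obtain ⟨g, hg⟩ := Groth.Agent.H8Rigidity.exists_factor_baseChange X Y Z f y z hyz
  exact descend k X Y Z f K g hg

end Groth.Agent.S18368
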