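import Groth.Statements.S18377
import Groth.Agent.Lib.CauchyBinet

set_option autoImplicit false
open Complex
open VerlindeComb

namespace Groth.Agent.S18377

/-- Let r, k ≥ 1 be integers and v_1 > v_2 > ⋯ > v_r ≥ 0 integers below r + k; put z_j = exp(2πi v_j /
(r + k)) and, for μ = (μ_1, …, μ_r), let S_μ(z) = det(z_j^{μ_i + r - i}) / det(z_j^{r - i}) be the
value of the Schur polynomial (the z_j are distinct, so the Vandermonde denominator is nonzero).
Then, summing over all μ with k > μ_1 ≥ ⋯ ≥ μ_r ≥ 0 and writing μ* = (k - μ_r, …, k - μ_1), one has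
Σ_μ S_μ(z) S_{μ*}(z) = exp(2πi k (v_1 + ⋯ + v_r) / (r + k)) · k (r + k)^{r-1} / ∏_{i<j} (2 sin(π
(v_i - v_j) / (r + k)))². Indices are 0-based below: μ i stands for μ_{i+1}. -/
theorem result (r k : ℕ) (hr : 1 ≤ r) (hk : 1 ≤ k)
    (v : Fin r → ℕ) (hv : StrictAnti v) (hvlt : ∀ i, v i < r + k)
    (z : Fin r → ℂ) (hz : ∀ j, z j = Complex.exp (2 * Real.pi * Complex.I * (v j : ℂ) / ((r : ℂ) + k)))
    (S : (Fin r → ℕ) → ℂ)
    (hS : ∀ μ : Fin r → ℕ, S μ =
      (Matrix.of fun i j : Fin r => z j ^ (μ i + (r - 1 - (i : ℕ)))).det /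
        (Matrix.of fun i j : Fin r => z j ^ (r - 1 - (i : ℕ))).det) :
    (∑ μ ∈ (Finset.univ : Finset (Fin r → Fin k)).filter (fun μ : Fin r → Fin k => Antitone μ),
        S (fun i => (μ i : ℕ)) * S (fun i => k - (μ (Fin.rev i) : ℕ))) =
      Complex.exp (2 * Real.pi * Complex.I * (k : ℂ) * ((∑ j, v j : ℕ) : ℂ) / ((r : ℂ) + k)) *
        ((k : ℂ) * ((r : ℂ) + k) ^ (r - 1)) /
        (∏ p ∈ (Finset.univ : Finset (Fin r × Fin r)).filter (fun p => p.1 < p.2),
          (((2 : ℝ) * Real.sin (Real.pi * ((v p.1 : ℝ) - (v p.2 : ℝ)) / ((r : ℝ) + k))) ^ 2 : ℝ) : ℂ) := by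
  classical
  have hN : 0 < r + k := by omega
  have hNc : ((r + k : ℕ) : ℂ) ≠ 0 := Nat.cast_ne_zero.2 hN.ne'
  have eN : ((r + k : ℕ) : ℂ) = (r : ℂ) + k := by push_cast; ring
  rw [← eN] at hz
  have hz0 : ∀ j, z j ≠ 0 := fun j => by rw [hz]; exact Complex.exp_ne_zero _
  have hpow : ∀ j, z j ^ (r + k) = 1 := fun j => by rw [hz]; exact CauchyBinet.root_pow hN _
  have hinj : Function.Injective z := fun a b h => by
    rw [hz, hz] at h
    exact hv.injective (CauchyBinet.root_inj hN (hvlt a) (hvlt b) h)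
  have hΔ := CauchyBinet.pdet_stair_ne z hinj
  have hΔ' := CauchyBinet.pdet_stair_ne (fun j => (z j)⁻¹) (inv_injective.comp hinj)
  let ε : ℂ := ((Equiv.Perm.sign (Fin.revPerm : Equiv.Perm (Fin r)) : ℤ) : ℂ)
  have hε : ε * ε = 1 := CauchyBinet.sign_sq
  let A : Fin (r + k - 1) → Fin r → ℂ := fun t i => z i ^ (t : ℕ)
  let B : Fin (r + k - 1) → Fin r → ℂ := fun t i => (z i)⁻¹ ^ (t : ℕ)
  have hcb := CauchyBinet.sum_det_mul_det A B
  rw [show (Matrix.of fun i j => ∑ t, A t i * B t j) =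
      Matrix.of (fun i j => (if i = j then ((r + k : ℕ) : ℂ) else 0) - (fun i => (z i)⁻¹) i * z j) from by
    ext i j
    simp only [Matrix.of_apply, A, B, ← mul_pow]
    have hq : (z i * (z j)⁻¹) ^ (r + k) = 1 := by rw [mul_pow, inv_pow, hpow, hpow, inv_one, one_mul]
    have h1 := CauchyBinet.geom _ hq
    rw [Fin.sum_univ_eq_sum_range (fun t => (z i * (z j)⁻¹) ^ t)] at h1 ⊢
    rw [show r + k = r + k - 1 + 1 by omega, Finset.sum_range_succ] at h1
    rw [show r + k - 1 + 1 = r + k by omega] at h1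
    have h2 : (z i * (z j)⁻¹) ^ (r + k - 1) = (z i)⁻¹ * z j := by
      refine mul_right_cancel₀ (mul_ne_zero (hz0 i) (inv_ne_zero (hz0 j))) ?_
      rw [← pow_succ, show r + k - 1 + 1 = r + k by omega, hq]
      have := hz0 i; have := hz0 j
      field_simp
    rw [h2] at h1
    have h3 : (z i * (z j)⁻¹ = 1) = (i = j) := propext ⟨fun h => hinj ((mul_inv_eq_one₀ (hz0 j)).1 h),
      fun h => by rw [h, mul_inv_cancel₀ (hz0 j)]⟩
    simp only [h3] at h1
    linear_combination h1, CauchyBinet.det_scalar_sub hNc hr] at hcb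
  have hsum : ∑ i, z i * (z i)⁻¹ = (r : ℂ) := by simp [mul_inv_cancel₀ (hz0 _)]
  rw [hsum] at hcb
  -- the exponents of the numerators
  let lam : (Fin r → Fin k) → Fin r → Fin (r + k - 1) := fun μ i => ⟨(μ i : ℕ) + (r - 1 - (i : ℕ)), by omega⟩
  have key : ∑ μ ∈ (Finset.univ : Finset (Fin r → Fin k)).filter (fun μ : Fin r → Fin k => Antitone μ),
      CauchyBinet.pdet z (fun i => (lam μ i : ℕ)) * CauchyBinet.pdet (fun j => (z j)⁻¹) (fun i => (lam μ i : ℕ)) =
      ((r + k : ℕ) : ℂ) ^ (r - 1) * (((r + k : ℕ) : ℂ) - r) := by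
    rw [← hcb]
    refine Finset.sum_bij (fun μ _ => lam μ) (fun μ hμ => ?_) (fun μ _ μ' _ e => ?_) (fun f hf => ?_) (fun μ _ => rfl)
    · simp only [Finset.mem_filter, Finset.mem_univ, true_and] at hμ ⊢
      intro a b hab
      have h1 : (μ b : ℕ) ≤ μ a := hμ hab.le
      have h2 : (a : ℕ) < b := hab
      have := b.2
      exact Fin.lt_def.2 (show (μ b : ℕ) + (r - 1 - b) < μ a + (r - 1 - a) by omega)
    · funext i
      have := congrArg Fin.val (congrFun e i)
      simp only [lam] at this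
      exact Fin.ext (by omega)
    · simp only [Finset.mem_filter, Finset.mem_univ, true_and] at hf
      have hlow : ∀ n, ∀ i : Fin r, r - 1 - (i : ℕ) = n → n ≤ (f i : ℕ) := by
        intro n
        induction n with
        | zero => intros; omega
        | succ n ih =>
          intro i hi
          have := ih ⟨i + 1, by omega⟩ (by simp only; omega)
          have h2 : f ⟨i + 1, by omega⟩ < f i := hf (Fin.lt_def.2 (by simp))
          have := Fin.lt_def.1 h2
          omega
      have hup : ∀ n, ∀ i : Fin r, (i : ℕ) = n → (f i : ℕ) + n < r + k - 1 := by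
        intro n
        induction n with
        | zero => intro i _; omega
        | succ n ih =>
          intro i hi
          have := ih ⟨n, by omega⟩ rfl
          have h2 : f i < f ⟨n, by omega⟩ := hf (Fin.lt_def.2 (by simp only; omega))
          have := Fin.lt_def.1 h2
          omega
      refine ⟨fun i => ⟨(f i : ℕ) - (r - 1 - i), by have := hup i i rfl; have := hlow _ i rfl; omega⟩, ?_, ?_⟩
      · simp only [Finset.mem_filter, Finset.mem_univ, true_and]
        have hstep : ∀ n, ∀ a b : Fin r, (b : ℕ) = a + n → (f b : ℕ) + n ≤ f a := by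
          intro n
          induction n with
          | zero => intro a b h; rw [show b = a from Fin.ext (by omega)]; omega
          | succ n ih =>
            intro a b h
            have := ih a ⟨a + n, by omega⟩ rfl
            have h2 : f b < f ⟨a + n, by omega⟩ := hf (Fin.lt_def.2 (by simp only; omega))
            have := Fin.lt_def.1 h2
            omega
        intro a b hab
        have := hstep ((b : ℕ) - a) a b (by have := Fin.le_def.1 hab; omega)
        have := Fin.le_def.1 hab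
        have := hlow _ b rfl
        exact Fin.le_def.2 (by simp only; omega)
      · funext i
        have := hlow _ i rfl
        exact Fin.ext (by simp only [lam]; omega)
  let Z : ℂ := ∏ j, z j
  have hZ : Z ≠ 0 := Finset.prod_ne_zero_iff.2 fun j _ => hz0 j
  have hterm : ∀ μ : Fin r → Fin k, S (fun i => (μ i : ℕ)) * S (fun i => k - (μ (Fin.rev i) : ℕ)) =
      CauchyBinet.pdet z (fun i => (lam μ i : ℕ)) * CauchyBinet.pdet (fun j => (z j)⁻¹) (fun i => (lam μ i : ℕ)) *
        ((Z⁻¹) ^ r / (CauchyBinet.pdet z CauchyBinet.stair * CauchyBinet.pdet (fun j => (z j)⁻¹) CauchyBinet.stair)) := by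
    intro μ
    rw [hS, hS]
    have e : (fun i : Fin r => k - (μ i.rev : ℕ) + (r - 1 - (i : ℕ))) = fun i => r + k - 1 - (lam μ i.rev : ℕ) := by
      funext i
      simp only [lam, Fin.val_rev]
      have := (μ i.rev).2
      have := i.2
      omega
    have h2 : (Matrix.of fun i j : Fin r => z j ^ (k - (μ i.rev : ℕ) + (r - 1 - (i : ℕ)))).det =
        ε * Z⁻¹ * CauchyBinet.pdet (fun j => (z j)⁻¹) (fun i => (lam μ i : ℕ)) := by
      rw [show (Matrix.of fun i j : Fin r => z j ^ (k - (μ i.rev : ℕ) + (r - 1 - (i : ℕ)))).det =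
        CauchyBinet.pdet z (fun i => k - (μ i.rev : ℕ) + (r - 1 - (i : ℕ))) from rfl, e]
      exact CauchyBinet.pdet_compl z hpow hN (fun i => (lam μ i : ℕ)) (fun i => by have := (lam μ i).2; omega)
    rw [h2, CauchyBinet.pdet_stair_inv z hz0]
    show CauchyBinet.pdet z (fun i => (lam μ i : ℕ)) / CauchyBinet.pdet z CauchyBinet.stair *
      (_ / CauchyBinet.pdet z CauchyBinet.stair) = _
    have hZr : (Z⁻¹) ^ r = (Z⁻¹) ^ (r - 1) * Z⁻¹ := by rw [← pow_succ]; congr 1; omega
    rw [hZr, show ((Equiv.Perm.sign (Fin.revPerm : Equiv.Perm (Fin r)) : ℤ) : ℂ) = ε from rfl]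
    have hε0 : ε ≠ 0 := left_ne_zero_of_mul (hε.trans_ne one_ne_zero)
    have hd : (∏ j, z j)⁻¹ ^ (r - 1) ≠ 0 := pow_ne_zero _ (inv_ne_zero hZ)
    rw [div_mul_div_comm, div_eq_mul_inv, div_eq_mul_inv, mul_inv, mul_inv, mul_inv, mul_inv]
    have hεi : ε⁻¹ = ε := inv_eq_of_mul_eq_one_right hε
    rw [hεi]
    field_simp [hd]
    ring_nf
    simp only [Z]
    rw [mul_assoc _ ((∏ j, z j)⁻¹ ^ (r - 1)), ← mul_pow, mul_inv_cancel₀ (inv_ne_zero hZ), one_pow, mul_one]
  rw [Finset.sum_congr rfl fun μ _ => hterm μ, ← Finset.sum_mul, key]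
  have hZr : (Z⁻¹) ^ r = Complex.exp (2 * Real.pi * Complex.I * (k : ℂ) * ((∑ j, v j : ℕ) : ℂ) / ((r : ℂ) + k)) := by
    have h1 : Z ^ (r + k) = 1 := by rw [← Finset.prod_pow]; exact Finset.prod_eq_one fun j _ => hpow j
    have h2 : (Z⁻¹) ^ r = Z ^ k := by
      rw [inv_pow]; exact inv_eq_of_mul_eq_one_right (by rw [← pow_add, h1])
    rw [h2]
    simp only [Z, hz, ← Finset.prod_pow, ← Complex.exp_nat_mul, ← Complex.exp_sum, eN]
    congr 1
    push_cast
    simp only [div_eq_mul_inv, Finset.mul_sum, Finset.sum_mul]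
    exact Finset.sum_congr rfl fun j _ => by ring
  have hP := CauchyBinet.sin_prod hN v z hz
  push_cast at hP
  push_cast
  rw [← hP, hZr]
  push_cast
  ring

end Groth.Agent.S18377
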