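import Groth.Statements.S18378
import Groth.Agent.Lib.CauchyBinet

set_option autoImplicit false
open Complex
open VerlindeComb

namespace Groth.Agent.S18378

/-- Let r, k ≥ 1 be integers and v, v' two integer vectors with r + k > v_1 > ⋯ > v_r ≥ 0 and r + k >
v'_1 > ⋯ > v'_r ≥ 0 whose difference v - v' is not a constant vector (a, …, a). Put z_j = exp(2πi
v_j / (r + k)), z'_j = exp(2πi v'_j / (r + k)), let S_μ(w) = det(w_j^{μ_i + r - i}) / det(w_j^{r -
i}) be the Schur value at w = z or z', and write |x| for the sum of the coordinates of a vector and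
μ* = (k - μ_r, …, k - μ_1). Then the sum over all μ with k ≥ μ_1 ≥ ⋯ ≥ μ_{r-1} ≥ μ_r = 0 of exp(-2πi
|μ| |v| / (r (r + k))) · exp(-2πi |μ*| |v'| / (r (r + k))) · S_μ(z) · S_{μ*}(z') is zero. The
vanishing is the orthogonality of distinct characters and holds exactly for non-equivalent v, v';
for v - v' constant the sum is nonzero. Indices are 0-based below: μ i stands for μ_{i+1}. -/
theorem result (r k : ℕ) (hr : 1 ≤ r)
    (hk : 1 ≤ k) (v v' : Fin r → ℕ) (hv : StrictAnti v) (hvlt : ∀ i, v i < r + k) (hv' : StrictAnti v')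
    (hv'lt : ∀ i, v' i < r + k) (hne : ¬ ∃ a : ℤ, ∀ i, (v i : ℤ) - (v' i : ℤ) = a)
    (z z' : Fin r → ℂ) (hz : ∀ j, z j = Complex.exp (2 * Real.pi * Complex.I * (v j : ℂ) / ((r : ℂ) + k)))
    (hz' : ∀ j, z' j = Complex.exp (2 * Real.pi * Complex.I * (v' j : ℂ) / ((r : ℂ) + k)))
    (S S' : (Fin r → ℕ) → ℂ)
    (hS : ∀ μ : Fin r → ℕ, S μ =
      (Matrix.of fun i j : Fin r => z j ^ (μ i + (r - 1 - (i : ℕ)))).det /
        (Matrix.of fun i j : Fin r => z j ^ (r - 1 - (i : ℕ))).det)
    (hS' : ∀ μ : Fin r → ℕ, S' μ =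
      (Matrix.of fun i j : Fin r => z' j ^ (μ i + (r - 1 - (i : ℕ)))).det /
        (Matrix.of fun i j : Fin r => z' j ^ (r - 1 - (i : ℕ))).det) :
    (∑ μ ∈ (Finset.univ : Finset (Fin r → Fin (k + 1))).filter
        (fun μ : Fin r → Fin (k + 1) => Antitone μ ∧ ∀ i : Fin r, (i : ℕ) = r - 1 → (μ i : ℕ) = 0),
      Complex.exp (-(2 * Real.pi * Complex.I * ((∑ i, (μ i : ℕ) : ℕ) : ℂ) * ((∑ j, v j : ℕ) : ℂ) /
          ((r : ℂ) * ((r : ℂ) + k)))) *
      Complex.exp (-(2 * Real.pi * Complex.I * ((∑ i, (k - (μ (Fin.rev i) : ℕ)) : ℕ) : ℂ) *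
          ((∑ j, v' j : ℕ) : ℂ) / ((r : ℂ) * ((r : ℂ) + k)))) *
      S (fun i => (μ i : ℕ)) * S' (fun i => k - (μ (Fin.rev i) : ℕ))) = 0 := by
  classical
  have hN : 0 < r + k := by omega
  have hN0 : (((r + k : ℕ)) : ℂ) ≠ 0 := Nat.cast_ne_zero.2 hN.ne'
  have hr0 : (r : ℂ) ≠ 0 := Nat.cast_ne_zero.2 (by omega)
  have eN : ((r + k : ℕ) : ℂ) = (r : ℂ) + k := by push_cast; ring
  rw [← eN] at hz hz'
  let D : ℤ := (∑ j, (v' j : ℤ)) - ∑ j, (v j : ℤ)
  let α : ℂ := Complex.exp (2 * Real.pi * Complex.I * (D : ℂ) / ((r : ℂ) * ((r + k : ℕ) : ℂ)))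
  let x : Fin r → ℂ := fun i => α * z i
  let y : Fin r → ℂ := fun j => (z' j)⁻¹
  have hz0 : ∀ j, z' j ≠ 0 := fun j => by rw [hz']; exact Complex.exp_ne_zero _
  have hzpow : ∀ j, z j ^ (r + k) = 1 := fun j => by rw [hz]; exact CauchyBinet.root_pow hN _
  have hz'pow : ∀ j, z' j ^ (r + k) = 1 := fun j => by rw [hz']; exact CauchyBinet.root_pow hN _
  let ω : ℂ := α ^ (r + k)
  have hq : ∀ i j, (x i * y j) ^ (r + k) = ω := fun i j => by
    simp only [x, y, ω, mul_pow, inv_pow, hzpow, hz'pow, inv_one, mul_one]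
  have hprod : (∏ i, x i) * ∏ j, y j = 1 := by
    simp only [x, y, Finset.prod_mul_distrib, Finset.prod_const, Finset.card_univ, Fintype.card_fin]
    simp only [α, hz, hz', ← Complex.exp_neg, ← Complex.exp_nat_mul, ← Complex.exp_sum, ← Complex.exp_add, D]
    rw [← Complex.exp_zero]
    congr 1
    push_cast
    simp only [Finset.sum_neg_distrib, div_eq_mul_inv, ← Finset.sum_mul, ← Finset.mul_sum]
    field_simp
    ring
  let G : Matrix (Fin r) (Fin r) ℂ := Matrix.of fun i j => ∑ t : Fin (r + k), (x i * y j) ^ (t : ℕ)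
  obtain ⟨c, hc⟩ := CauchyBinet.det_add_const_affine G
  have hc0 : c = 0 := by
    by_cases hω : ω = 1
    · have hG : ∀ i j, G i j = if x i * y j = 1 then ((r + k : ℕ) : ℂ) else 0 := fun i j =>
        CauchyBinet.geom _ ((hq i j).trans hω)
      have hyinj : ∀ i j j', x i * y j = 1 → x i * y j' = 1 → j = j' := fun i j j' h h' => by
        have e : y j = y j' := mul_left_cancel₀ (left_ne_zero_of_mul (h.trans_ne one_ne_zero)) (h.trans h'.symm)
        simp only [y, inv_inj, hz'] at e
        exact hv'.injective (CauchyBinet.root_inj hN (hv'lt j) (hv'lt j') e)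
      have hxinj : ∀ i i' j, x i * y j = 1 → x i' * y j = 1 → i = i' := fun i i' j h h' => by
        have e : x i = x i' := mul_right_cancel₀ (right_ne_zero_of_mul (h.trans_ne one_ne_zero)) (h.trans h'.symm)
        have e' : z i = z i' := mul_left_cancel₀ (Complex.exp_ne_zero _) e
        rw [hz, hz] at e'
        exact hv.injective (CauchyBinet.root_inj hN (hvlt i) (hvlt i') e')
      by_cases hzero : ∃ i i', i ≠ i' ∧ (∀ j, x i * y j ≠ 1) ∧ ∀ j, x i' * y j ≠ 1
      · obtain ⟨i, i', hii, hi, hi'⟩ := hzero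
        have hdet : ∀ s : ℂ, (Matrix.of fun a b => G a b + s).det = 0 := fun s =>
          Matrix.det_zero_of_row_eq hii (funext fun j => by
            show G i j + s = G i' j + s
            rw [hG, hG, if_neg (hi j), if_neg (hi' j)])
        have h1 := hc 1
        rw [hdet 1, Matrix.det_eq_zero_of_row_eq_zero i fun j => by rw [hG, if_neg (hi j)]] at h1
        linear_combination -h1
      · exfalso
        push Not at hzero
        have hall : ∀ i, ∃ j, x i * y j = 1 := by
          intro i₀
          by_contra hi₀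
          push Not at hi₀
          have hother : ∀ i, i ≠ i₀ → ∃ j, x i * y j = 1 := fun i hi => hzero i₀ i hi.symm hi₀
          choose! σ hσ using hother
          have hinj : Set.InjOn σ ↑(Finset.univ.erase i₀) := fun a ha b hb e => by
            simp only [Finset.coe_erase, Set.mem_sdiff, Set.mem_singleton_iff, Finset.coe_univ, Set.mem_univ, true_and] at ha hb
            exact hxinj a b (σ a) (hσ a ha) (e ▸ hσ b hb)
          have hcard : ((Finset.univ.erase i₀).image σ).card < (Finset.univ : Finset (Fin r)).card := by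
            rw [Finset.card_image_of_injOn hinj]; exact Finset.card_erase_lt_of_mem (Finset.mem_univ _)
          obtain ⟨j₀, -, hj₀⟩ := Finset.exists_mem_notMem_of_card_lt_card hcard
          have himg : (Finset.univ.erase i₀).image σ = Finset.univ.erase j₀ := by
            refine Finset.eq_of_subset_of_card_le (fun j hj => Finset.mem_erase.2 ⟨fun e => hj₀ (e ▸ hj), Finset.mem_univ j⟩) ?_
            rw [Finset.card_image_of_injOn hinj, Finset.card_erase_of_mem (Finset.mem_univ _),
              Finset.card_erase_of_mem (Finset.mem_univ _)]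
          rw [← Finset.mul_prod_erase _ _ (Finset.mem_univ i₀), ← Finset.mul_prod_erase _ _ (Finset.mem_univ j₀),
            ← himg, Finset.prod_image hinj, mul_mul_mul_comm, ← Finset.prod_mul_distrib,
            Finset.prod_eq_one (fun i hi => hσ i (Finset.mem_erase.1 hi).1), mul_one] at hprod
          exact hi₀ j₀ hprod
        choose σ hσ using hall
        have hσinj : Function.Injective σ := fun a b e => hxinj a b (σ a) (hσ a) (e ▸ hσ b)
        have hr' : (r : ℤ) ≠ 0 := by omega
        obtain ⟨A, hA⟩ : (r : ℤ) ∣ D := by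
          have h1 : ω = 1 := hω
          simp only [ω, α, ← Complex.exp_nat_mul, Complex.exp_eq_one_iff] at h1
          obtain ⟨a, ha⟩ := h1
          refine ⟨a, ?_⟩
          have h2 : (D : ℂ) = (r : ℂ) * a := by
            field_simp at ha
            refine mul_left_cancel₀ (a := (2 * Real.pi * Complex.I)) (by simp [Real.pi_ne_zero]) ?_
            linear_combination (2 * Real.pi * Complex.I) * ha
          exact_mod_cast h2
        have he : ∀ i, ∃ e : ℤ, (v' (σ i) : ℤ) = v i + A + ((r + k : ℕ) : ℤ) * e := fun i => by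
          have h1 := hσ i
          simp only [x, y, α, hz, hz', hA, ← Complex.exp_neg, ← Complex.exp_add, Complex.exp_eq_one_iff] at h1
          obtain ⟨a, ha⟩ := h1
          refine ⟨-a, ?_⟩
          have h2 : ((v' (σ i) : ℤ) : ℂ) = ((v i : ℤ) : ℂ) + A + ((r + k : ℕ) : ℂ) * ((-a : ℤ) : ℂ) := by
            push_cast at ha ⊢
            field_simp at ha
            rw [div_eq_iff (by rw [← eN]; exact hN0)] at ha
            refine mul_left_cancel₀ (a := (2 * Real.pi * Complex.I)) (by simp [Real.pi_ne_zero]) ?_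
            linear_combination (-(2 * Real.pi * Complex.I)) * ha
          exact_mod_cast h2
        choose e he using he
        have hesum : ∑ i, e i = 0 := by
          have h1 : ∑ i, (v' (σ i) : ℤ) = ∑ j, (v' j : ℤ) :=
            (Finite.injective_iff_bijective.1 hσinj).sum_comp (fun j => (v' j : ℤ))
          simp only [he, Finset.sum_add_distrib, ← Finset.mul_sum, Finset.sum_const, Finset.card_univ, Fintype.card_fin,
            nsmul_eq_mul] at h1
          have h2 : ((r + k : ℕ) : ℤ) * ∑ i, e i = 0 := by linarith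
          exact (mul_eq_zero.1 h2).resolve_left (by omega)
        have hnear : ∀ i j, e i ≤ e j + 1 := fun i j => by
          by_contra hc
          have := hvlt i; have := hvlt j; have := hv'lt (σ i); have := hv'lt (σ j)
          have h1 := he i; have h2 := he j
          have h3 : ((r + k : ℕ) : ℤ) * (e j + 2) ≤ ((r + k : ℕ) : ℤ) * e i :=
            mul_le_mul_of_nonneg_left (by omega) (by omega)
          have b1 : (v' (σ i) : ℤ) < ((r + k : ℕ) : ℤ) := by exact_mod_cast hv'lt (σ i)
          have b2 : (v j : ℤ) < ((r + k : ℕ) : ℤ) := by exact_mod_cast hvlt j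
          have b3 : (0 : ℤ) ≤ (v i : ℤ) := Int.natCast_nonneg _
          have b4 : (0 : ℤ) ≤ (v' (σ j) : ℤ) := Int.natCast_nonneg _
          linarith
        have hez : ∀ i, e i = 0 := fun i => by
          rcases lt_trichotomy (e i) 0 with h | h | h
          · have := (Finset.sum_eq_zero_iff_of_nonpos fun j _ => (show e j ≤ 0 by have := hnear j i; omega)).1 hesum i (Finset.mem_univ i)
            exact this
          · exact h
          · have := (Finset.sum_eq_zero_iff_of_nonneg fun j _ => (show 0 ≤ e j by have := hnear i j; omega)).1 hesum i (Finset.mem_univ i)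
            exact this
        have hmono : StrictMono σ := fun a b hab => by
          rcases lt_trichotomy (σ a) (σ b) with h | h | h
          · exact h
          · exact absurd (hσinj h) hab.ne
          · have h1 := hv' h; have h2 := hv hab
            have := he a; have := he b; rw [hez] at *
            omega
        have hid : σ = id := (StrictMono.range_inj hmono strictMono_id).1
          (by rw [(Finite.injective_iff_surjective.1 hσinj).range_eq, Set.range_id])
        refine hne ⟨-A, fun i => ?_⟩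
        have := he i
        rw [hid, hez, id_eq, mul_zero, add_zero] at this
        omega
    · have hshift : (Matrix.of fun i j => G i j + (ω - 1)) = Matrix.of fun i j => x i * (Matrix.of fun a b => y b * G a b) i j := by
        ext i j
        simp only [Matrix.of_apply, G]
        rw [Fin.sum_univ_eq_sum_range (fun t => (x i * y j) ^ t)]
        linear_combination -(geom_sum_mul (x i * y j) (r + k)) - (hq i j)
      have h1 := hc (ω - 1)
      rw [hshift, Matrix.det_mul_column, Matrix.det_mul_row, ← mul_assoc, hprod, one_mul] at h1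
      have h2 : (ω - 1) * c = 0 := by linear_combination -h1
      exact (mul_eq_zero.1 h2).resolve_left (sub_ne_zero.2 hω)
  -- the sum over the exponent tuples containing zero
  haveI : NeZero (r + k) := ⟨hN.ne'⟩
  let A : Fin (r + k) → Fin r → ℂ := fun t i => x i ^ (t : ℕ)
  let B : Fin (r + k) → Fin r → ℂ := fun t i => y i ^ (t : ℕ)
  have hG' : (Matrix.of fun i j => ∑ t, A t i * B t j) = G := by
    ext i j; simp only [A, B, G, Matrix.of_apply, mul_pow]
  have hall := CauchyBinet.sum_det_mul_det A B
  have havoid := CauchyBinet.sum_det_mul_det_avoid A B 0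
  have hG'' : (Matrix.of fun i j => (∑ t, A t i * B t j) - A 0 i * B 0 j) = Matrix.of fun i j => G i j + (-1) := by
    ext i j; rw [← hG']; simp [A, B, sub_eq_add_neg]
  rw [hG'] at hall
  rw [hG'', hc, hc0, mul_zero, add_zero] at havoid
  have hsplit := Finset.sum_filter_add_sum_filter_not
    ((Finset.univ : Finset (Fin r → Fin (r + k))).filter StrictAnti) (fun f => ∀ i, f i ≠ 0)
    (fun f => (Matrix.of fun i j => A (f i) j).det * (Matrix.of fun i j => B (f i) j).det)
  rw [Finset.filter_filter, Finset.filter_filter, hall, havoid, add_eq_left] at hsplit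
  let lam : (Fin r → Fin (k + 1)) → Fin r → Fin (r + k) := fun μ i => ⟨(μ i : ℕ) + (r - 1 - (i : ℕ)), by omega⟩
  have key : ∑ μ ∈ (Finset.univ : Finset (Fin r → Fin (k + 1))).filter
      (fun μ : Fin r → Fin (k + 1) => Antitone μ ∧ ∀ i : Fin r, (i : ℕ) = r - 1 → (μ i : ℕ) = 0),
      CauchyBinet.pdet x (fun i => (lam μ i : ℕ)) * CauchyBinet.pdet y (fun i => (lam μ i : ℕ)) = 0 := by
    rw [← hsplit]
    refine Finset.sum_bij (fun μ _ => lam μ) (fun μ hμ => ?_) (fun μ _ μ' _ e => ?_) (fun f hf => ?_) (fun μ _ => rfl)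
    · simp only [Finset.mem_filter, Finset.mem_univ, true_and] at hμ ⊢
      refine ⟨fun a b hab => ?_, fun h => h ⟨r - 1, by omega⟩ (Fin.ext ?_)⟩
      · have h1 : (μ b : ℕ) ≤ μ a := hμ.1 hab.le
        have h2 : (a : ℕ) < b := hab
        have := b.2
        exact Fin.lt_def.2 (show (μ b : ℕ) + (r - 1 - b) < μ a + (r - 1 - a) by omega)
      · simp only [lam, Fin.val_zero, hμ.2 ⟨r - 1, by omega⟩ rfl]; omega
    · funext i
      have := congrArg Fin.val (congrFun e i)
      simp only [lam] at this
      exact Fin.ext (by omega)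
    · simp only [Finset.mem_filter, Finset.mem_univ, true_and, not_forall, not_not] at hf
      obtain ⟨hf, i₀, hi₀⟩ := hf
      have hlow : ∀ n, ∀ i : Fin r, r - 1 - (i : ℕ) = n → n ≤ (f i : ℕ) := by
        intro n
        induction n with
        | zero => intros; omega
        | succ n ih =>
          intro i hi
          have := ih ⟨i + 1, by omega⟩ (by simp only; omega)
          have h2 : f ⟨i + 1, by omega⟩ < f i := hf (Fin.lt_def.2 (by simp))
          have := Fin.lt_def.1 h2
          omega
      have hup : ∀ n, ∀ i : Fin r, (i : ℕ) = n → (f i : ℕ) + n < r + k := by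
        intro n
        induction n with
        | zero => intro i _; omega
        | succ n ih =>
          intro i hi
          have := ih ⟨n, by omega⟩ rfl
          have h2 : f i < f ⟨n, by omega⟩ := hf (Fin.lt_def.2 (by simp only; omega))
          have := Fin.lt_def.1 h2
          omega
      refine ⟨fun i => ⟨(f i : ℕ) - (r - 1 - i), by have := hup i i rfl; have := hlow _ i rfl; omega⟩, ?_, ?_⟩
      · simp only [Finset.mem_filter, Finset.mem_univ, true_and]
        have hstep : ∀ n, ∀ a b : Fin r, (b : ℕ) = a + n → (f b : ℕ) + n ≤ f a := by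
          intro n
          induction n with
          | zero => intro a b h; rw [show b = a from Fin.ext (by omega)]; omega
          | succ n ih =>
            intro a b h
            have := ih a ⟨a + n, by omega⟩ rfl
            have h2 : f b < f ⟨a + n, by omega⟩ := hf (Fin.lt_def.2 (by simp only; omega))
            have := Fin.lt_def.1 h2
            omega
        refine ⟨fun a b hab => ?_, fun i hi => ?_⟩
        · have := hstep ((b : ℕ) - a) a b (by have := Fin.le_def.1 hab; omega)
          have := Fin.le_def.1 hab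
          have := hlow _ b rfl
          exact Fin.le_def.2 (by simp only; omega)
        · have h1 : f i ≤ f i₀ := hf.antitone (Fin.le_def.2 (by have := i₀.2; omega))
          rw [hi₀] at h1
          have := Fin.le_def.1 h1
          simp only [Fin.val_zero] at this
          show (f i : ℕ) - (r - 1 - i) = 0
          omega
      · funext i
        have := hlow _ i rfl
        exact Fin.ext (by simp only [lam]; omega)
  let C : ℕ := ∑ i : Fin r, (r - 1 - (i : ℕ))
  have hterm : ∀ μ : Fin r → Fin (k + 1),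
      Complex.exp (-(2 * Real.pi * Complex.I * ((∑ i, (μ i : ℕ) : ℕ) : ℂ) * ((∑ j, v j : ℕ) : ℂ) /
          ((r : ℂ) * ((r : ℂ) + k)))) *
        Complex.exp (-(2 * Real.pi * Complex.I * ((∑ i, (k - (μ (Fin.rev i) : ℕ)) : ℕ) : ℂ) *
          ((∑ j, v' j : ℕ) : ℂ) / ((r : ℂ) * ((r : ℂ) + k)))) *
        S (fun i => (μ i : ℕ)) * S' (fun i => k - (μ (Fin.rev i) : ℕ)) =
      (Complex.exp (-(2 * Real.pi * Complex.I * ((r * k : ℕ) : ℂ) * ((∑ j, v' j : ℕ) : ℂ) / ((r : ℂ) * ((r : ℂ) + k)))) *
        (α ^ C)⁻¹ * (((Equiv.Perm.sign (Fin.revPerm : Equiv.Perm (Fin r)) : ℤ) : ℂ) * (∏ j, z' j)⁻¹) /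
        (CauchyBinet.pdet z CauchyBinet.stair * CauchyBinet.pdet z' CauchyBinet.stair)) *
      (CauchyBinet.pdet x (fun i => (lam μ i : ℕ)) * CauchyBinet.pdet y (fun i => (lam μ i : ℕ))) := by
    intro μ
    rw [hS, hS']
    have hx : CauchyBinet.pdet x (fun i => (lam μ i : ℕ)) =
        α ^ ((∑ i, (μ i : ℕ)) + C) * CauchyBinet.pdet z (fun i => (lam μ i : ℕ)) := by
      simp only [CauchyBinet.pdet, x, C, ← Finset.sum_add_distrib, ← Finset.prod_pow_eq_pow_sum, mul_pow]
      rw [← Matrix.det_mul_column]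
      rfl
    have h2 : (Matrix.of fun i j : Fin r => z' j ^ (k - (μ i.rev : ℕ) + (r - 1 - (i : ℕ)))).det =
        ((Equiv.Perm.sign (Fin.revPerm : Equiv.Perm (Fin r)) : ℤ) : ℂ) * (∏ j, z' j)⁻¹ *
          CauchyBinet.pdet y (fun i => (lam μ i : ℕ)) := by
      rw [show (Matrix.of fun i j : Fin r => z' j ^ (k - (μ i.rev : ℕ) + (r - 1 - (i : ℕ)))).det =
        CauchyBinet.pdet z' (fun i => k - (μ i.rev : ℕ) + (r - 1 - (i : ℕ))) from rfl,
        show (fun i : Fin r => k - (μ i.rev : ℕ) + (r - 1 - (i : ℕ))) = fun i => r + k - 1 - (lam μ i.rev : ℕ) from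
          funext fun i => by
            simp only [lam, Fin.val_rev]
            have := (μ i.rev).2
            have := i.2
            omega]
      exact CauchyBinet.pdet_compl z' hz'pow hN (fun i => (lam μ i : ℕ)) (fun i => (lam μ i).2)
    rw [h2]
    show _ * (CauchyBinet.pdet z (fun i => (lam μ i : ℕ)) / CauchyBinet.pdet z CauchyBinet.stair) *
      (_ / CauchyBinet.pdet z' CauchyBinet.stair) = _
    have hexp : Complex.exp (-(2 * Real.pi * Complex.I * ((∑ i, (μ i : ℕ) : ℕ) : ℂ) * ((∑ j, v j : ℕ) : ℂ) /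
          ((r : ℂ) * ((r : ℂ) + k)))) *
        Complex.exp (-(2 * Real.pi * Complex.I * ((∑ i, (k - (μ (Fin.rev i) : ℕ)) : ℕ) : ℂ) *
          ((∑ j, v' j : ℕ) : ℂ) / ((r : ℂ) * ((r : ℂ) + k)))) =
        Complex.exp (-(2 * Real.pi * Complex.I * ((r * k : ℕ) : ℂ) * ((∑ j, v' j : ℕ) : ℂ) / ((r : ℂ) * ((r : ℂ) + k)))) *
          α ^ (∑ i, (μ i : ℕ)) := by
      have hsum : ((∑ i, (μ i : ℕ) : ℕ) : ℂ) + ((∑ i, (k - (μ (Fin.rev i) : ℕ)) : ℕ) : ℂ) = ((r * k : ℕ) : ℂ) := by
        rw [← Nat.cast_add, show (∑ i, (k - (μ (Fin.rev i) : ℕ))) = ∑ i, (k - (μ i : ℕ)) from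
          Equiv.sum_comp Fin.revPerm (fun i => k - (μ i : ℕ)), ← Finset.sum_add_distrib,
          Finset.sum_congr rfl fun i _ => show (μ i : ℕ) + (k - (μ i : ℕ)) = k from by have := (μ i).2; omega]
        simp
      rw [eq_sub_of_add_eq' hsum]
      simp only [α, D, ← Complex.exp_nat_mul, ← Complex.exp_add, eN]
      congr 1
      push_cast
      ring
    rw [hexp, hx, pow_add]
    have hα : α ^ C ≠ 0 := pow_ne_zero _ (Complex.exp_ne_zero _)
    field_simp
  rw [Finset.sum_congr rfl fun μ _ => hterm μ, ← Finset.mul_sum, key, mul_zero]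

end Groth.Agent.S18378
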