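import Groth.Statements.S18379
import Groth.Agent.Lib.CauchyBinet

set_option autoImplicit false
open VerlindeComb

namespace Groth.Agent.S18379

/-- Let r, k ≥ 1 be integers. Summing over all integer vectors v with r + k > v_1 > v_2 > ⋯ > v_{r-1} >
v_r = 0, one has Σ_v ∏_{i<j} (2 sin(π (v_i - v_j) / (r + k)))² = r (r + k)^{r-1}; that is, the
genus-zero Verlinde number of rank r and level k with no parabolic points, defined as (r (r +
k)^{r-1})⁻¹ times this sum, equals 1. Indices are 0-based below: v i stands for v_{i+1}. -/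
theorem result (r k : ℕ) (hr : 1 ≤ r) (hk : 1 ≤ k) :
    (∑ v ∈ (Finset.univ : Finset (Fin r → Fin (r + k))).filter
        (fun v : Fin r → Fin (r + k) => StrictAnti v ∧ ∀ i : Fin r, (i : ℕ) = r - 1 → (v i : ℕ) = 0),
      ∏ p ∈ (Finset.univ : Finset (Fin r × Fin r)).filter (fun p => p.1 < p.2),
        ((2 : ℝ) * Real.sin (Real.pi * ((v p.1 : ℕ) - (v p.2 : ℕ) : ℝ) / ((r : ℝ) + k))) ^ 2) =
      (r : ℝ) * ((r : ℝ) + k) ^ (r - 1) := by
  classical
  have hN : 0 < r + k := by omega
  have hNc : ((r + k : ℕ) : ℂ) ≠ 0 := Nat.cast_ne_zero.2 hN.ne'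
  haveI : NeZero (r + k) := ⟨hN.ne'⟩
  let ζ : ℕ → ℂ := fun t => Complex.exp (2 * Real.pi * Complex.I * (t : ℂ) / ((r + k : ℕ) : ℂ))
  let A : Fin (r + k) → Fin r → ℂ := fun t i => ζ t ^ CauchyBinet.stair i
  let B : Fin (r + k) → Fin r → ℂ := fun t i => (ζ t)⁻¹ ^ CauchyBinet.stair i
  let G : Fin r → Fin r → ℂ := fun i j => ∑ t, A t i * B t j
  have hG : ∀ i j, G i j = if i = j then ((r + k : ℕ) : ℂ) else 0 := by
    intro i j
    let q : ℂ := ζ (CauchyBinet.stair i) * (ζ (CauchyBinet.stair j))⁻¹
    have hq : ∀ t : Fin (r + k), A t i * B t j = q ^ (t : ℕ) := fun t => by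
      simp only [A, B, q, ζ, mul_pow, ← Complex.exp_neg, ← Complex.exp_nat_mul]
      congr 2 <;> ring
    have hq1 : q ^ (r + k) = 1 := by
      simp only [q, ζ, mul_pow, inv_pow, CauchyBinet.root_pow hN, inv_one, one_mul]
    simp only [G, hq]
    rw [CauchyBinet.geom q hq1]
    refine if_congr ⟨fun h => ?_, fun h => ?_⟩ rfl rfl
    · have h' : ζ (CauchyBinet.stair i) = ζ (CauchyBinet.stair j) := by
        rwa [← div_eq_one_iff_eq (Complex.exp_ne_zero _), div_eq_mul_inv]
      have := CauchyBinet.root_inj hN (by unfold CauchyBinet.stair; omega) (by unfold CauchyBinet.stair; omega) h'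
      unfold CauchyBinet.stair at this
      exact Fin.ext (by have := i.2; have := j.2; omega)
    · subst h; exact mul_inv_cancel₀ (Complex.exp_ne_zero _)
  have hall := CauchyBinet.sum_det_mul_det A B
  have havoid := CauchyBinet.sum_det_mul_det_avoid A B (0 : Fin (r + k))
  rw [show (Matrix.of fun i j => ∑ t, A t i * B t j) = Matrix.of G from rfl] at hall
  rw [show (Matrix.of G) = Matrix.diagonal fun _ => ((r + k : ℕ) : ℂ) from by
    ext i j; simp [hG, Matrix.diagonal_apply], Matrix.det_diagonal, Finset.prod_const, Finset.card_univ, Fintype.card_fin] at hall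
  rw [show (Matrix.of fun i j => (∑ t, A t i * B t j) - A 0 i * B 0 j) =
      Matrix.of (fun i j => (if i = j then ((r + k : ℕ) : ℂ) else 0) - (fun _ => (1 : ℂ)) i * (fun _ => (1 : ℂ)) j) from by
    ext i j
    simp only [Matrix.of_apply]
    rw [← hG]
    simp [G, A, B, ζ], CauchyBinet.det_scalar_sub hNc hr] at havoid
  have hsplit := Finset.sum_filter_add_sum_filter_not
    ((Finset.univ : Finset (Fin r → Fin (r + k))).filter StrictAnti) (fun f => ∀ i, f i ≠ 0)
    (fun f => (Matrix.of fun i j => A (f i) j).det * (Matrix.of fun i j => B (f i) j).det)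
  rw [Finset.filter_filter, Finset.filter_filter, hall, havoid] at hsplit
  have hset : (Finset.univ : Finset (Fin r → Fin (r + k))).filter (fun f => StrictAnti f ∧ ¬∀ i, f i ≠ 0) =
      Finset.univ.filter (fun f : Fin r → Fin (r + k) => StrictAnti f ∧ ∀ i : Fin r, (i : ℕ) = r - 1 → (f i : ℕ) = 0) := by
    ext f
    simp only [Finset.mem_filter, Finset.mem_univ, true_and, and_congr_right_iff, not_forall, not_not]
    refine fun hf => ⟨fun ⟨i, hi⟩ j hj => ?_, fun h => ⟨⟨r - 1, by omega⟩, Fin.ext (h _ rfl)⟩⟩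
    have hle : i ≤ j := Fin.le_def.2 (by have := i.2; omega)
    have := hf.antitone hle
    rw [hi] at this
    have := Fin.le_def.1 this
    simp only [Fin.val_zero] at this
    omega
  rw [hset] at hsplit
  apply Complex.ofReal_injective
  push_cast
  calc _ = ∑ f ∈ (Finset.univ : Finset (Fin r → Fin (r + k))).filter
        (fun f : Fin r → Fin (r + k) => StrictAnti f ∧ ∀ i : Fin r, (i : ℕ) = r - 1 → (f i : ℕ) = 0),
        (Matrix.of fun i j => A (f i) j).det * (Matrix.of fun i j => B (f i) j).det := by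
        refine Finset.sum_congr rfl fun f _ => ?_
        rw [← Matrix.det_transpose (Matrix.of fun i j => A (f i) j), ← Matrix.det_transpose (Matrix.of fun i j => B (f i) j)]
        have := CauchyBinet.sin_prod hN (fun i => (f i : ℕ)) (fun i => ζ (f i)) (fun j => rfl)
        push_cast at this
        exact this
    _ = _ := by
        have e : (((r + k : ℕ) : ℂ)) = (r : ℂ) + k := by push_cast; ring
        simp only [e, mul_one, Finset.sum_const, Finset.card_univ, Fintype.card_fin, nsmul_eq_mul] at hsplit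
        have e2 : ((r : ℂ) + k) ^ r = ((r : ℂ) + k) ^ (r - 1) * ((r : ℂ) + k) := by
          rw [← pow_succ]; congr 1; omega
        rw [e2] at hsplit
        linear_combination hsplit

end Groth.Agent.S18379
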