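import Groth.Statements.S18386
import Mathlib

set_option autoImplicit false
universe u
open LVCorr

namespace Groth.Agent.S18386

open AlgebraicGeometry


open AlgebraicGeometry in
/-- Let X be a connected Noetherian scheme and I a quasi-coherent sheaf of ideals on X, different from
the structure sheaf, such that I^k = I^(k+1) for some natural number k. Then I^k = 0. -/
theorem result (X : Scheme.{u}) [AlgebraicGeometry.IsNoetherian X]
    [ConnectedSpace X] (I : X.IdealSheafData) (hI : I ≠ ⊤) (k : ℕ)
    (h : I ^ k = I ^ (k + 1)) : I ^ k = ⊥ := by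
  rcases k with _ | k
  · exact absurd ((pow_one I).symm.trans (h.symm.trans (pow_zero I))) hI
  have hid : ∀ U : X.affineOpens, ∃ e : Γ(X, U.1), IsIdempotentElem e ∧ (I ^ (k + 1)).ideal U = Ideal.span {e} := by
    intro U
    haveI : IsNoetherianRing Γ(X, U.1) := IsLocallyNoetherian.component_noetherian U
    refine (Ideal.isIdempotentElem_iff_of_fg _ (IsNoetherian.noetherian _)).mp ?_
    have hp : ∀ m, I ^ (k + 1 + m) = I ^ (k + 1) := fun m => by
      induction m with
      | zero => rfl
      | succ m ih => rw [← Nat.add_assoc, pow_succ, ih, ← pow_succ, ← h]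
    have h2 : I ^ (k + 1) * I ^ (k + 1) = I ^ (k + 1) := by rw [← pow_add, hp]
    have := congrArg (fun J : X.IdealSheafData => J.ideal U) h2
    simpa [IsIdempotentElem] using this
  set S : Set X := ↑(I ^ (k + 1)).support with hS
  have hopen : IsOpen S := by
    rw [isOpen_iff_forall_mem_open]
    intro x hx
    obtain ⟨U, hU, hxU, -⟩ := TopologicalSpace.Opens.isBasis_iff_nbhd.mp X.isBasis_affineOpens (show x ∈ (⊤ : X.Opens) from trivial)
    obtain ⟨e, he, hJ⟩ := hid ⟨U, hU⟩
    have heq : S ∩ (U : Set X) = (X.basicOpen (1 - e) : Set X) := by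
      rw [hS, (I ^ (k + 1)).coe_support_inter ⟨U, hU⟩, hJ, Scheme.zeroLocus_span, Scheme.zeroLocus_singleton]
      ext y
      constructor
      · rintro ⟨h1, h2⟩
        have hy : y ∈ X.basicOpen ((1 - e) + e) := by
          rw [sub_add_cancel, X.basicOpen_of_isUnit isUnit_one]; exact h2
        exact (X.basicOpen_add_le (1 - e) e hy).resolve_right h1
      · intro hy
        refine ⟨fun h1 => ?_, X.basicOpen_le _ hy⟩
        have : y ∈ X.basicOpen ((1 - e) * e) := by rw [X.basicOpen_mul]; exact ⟨hy, h1⟩
        rw [sub_mul, one_mul, he.eq, sub_self, X.basicOpen_zero] at this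
        exact this.elim
    exact ⟨_, heq ▸ Set.inter_subset_left, (X.basicOpen (1 - e)).isOpen, heq ▸ ⟨hx, hxU⟩⟩
  have hclopen : IsClopen S := ⟨(I ^ (k + 1)).support.isClosed, hopen⟩
  have hne : S.Nonempty := by
    rw [hS, Scheme.IdealSheafData.support_pow_succ, Set.nonempty_iff_ne_empty]
    intro he
    refine hI ?_
    rw [← Scheme.IdealSheafData.support_eq_bot_iff]
    exact SetLike.coe_injective (by simpa using he)
  have huniv : S = Set.univ := hclopen.eq_univ hne
  refine Scheme.IdealSheafData.ext (funext fun U => ?_)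
  obtain ⟨e, he, hJ⟩ := hid U
  have he0 : e = 0 := by
    have hu : IsUnit (1 - e) := by
      refine X.toRingedSpace.isUnit_of_isUnit_germ U.1 (1 - e) fun y hy => ?_
      have h1 : y ∈ S ∩ (U.1 : Set X) := ⟨huniv ▸ Set.mem_univ y, hy⟩
      rw [hS, (I ^ (k + 1)).coe_support_inter U, hJ, Scheme.zeroLocus_span, Scheme.zeroLocus_singleton] at h1
      have h2 : y ∈ X.basicOpen ((1 - e) + e) := by
        rw [sub_add_cancel, X.basicOpen_of_isUnit isUnit_one]; exact hy
      exact (X.mem_basicOpen (1 - e) y hy).mp ((X.basicOpen_add_le (1 - e) e h2).resolve_right h1.1)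
    exact hu.mul_right_eq_zero.mp (by rw [sub_mul, one_mul, he.eq, sub_self])
  rw [hJ, he0]; simp

end Groth.Agent.S18386
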