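import Groth.Statements.S18390
import Mathlib

set_option autoImplicit false
universe u
open LVCorr

namespace Groth.Agent.S18390

/-- In the affine, ring-theoretic form which its proof establishes. Let φ : A' → A be a ring
homomorphism, I' a finitely generated ideal of A' and I an ideal of A containing the image of I'.
Then some power I'^k is mapped into I^(k+1) if and only if for every n ≥ 1 and every a ∈ I'^n there
is a k with φ(a)^k ∈ I^(nk+1). (Geometrically, for a morphism f : (X, Z) → (X', Z') of pairs with Z
a closed subscheme of the preimage of Z', the normal cone of Z in X is the spectrum of the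
associated graded algebra of I, and the second condition says that the induced map of normal cones
sends the normal cone of Z set-theoretically into the zero section Z'; the source states the
equivalence in that language.) -/
theorem result (A' A : Type u) [CommRing A'] [CommRing A]
    (φ : A' →+* A) (I' : Ideal A') (hI' : I'.FG) (I : Ideal A) (hle : I'.map φ ≤ I) :
    (∃ k : ℕ, (I' ^ k).map φ ≤ I ^ (k + 1)) ↔
      ∀ n : ℕ, 1 ≤ n → ∀ a ∈ I' ^ n, ∃ k : ℕ, 1 ≤ k ∧ φ a ^ k ∈ I ^ (n * k + 1) := by
  constructor
  · rintro ⟨k, hk⟩ n hn a ha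
    refine ⟨k + 1, Nat.succ_pos _, ?_⟩
    have h1 : (I' ^ (k + 1)).map φ ≤ I ^ (k + 1 + 1) := by
      rw [pow_succ, Ideal.map_mul, pow_succ]; exact Ideal.mul_mono hk hle
    have h2 : φ a ^ (k + 1) ∈ ((I' ^ (k + 1)).map φ) ^ n := by
      rw [← Ideal.map_pow, ← pow_mul, mul_comm (k + 1) n, pow_mul, ← map_pow]
      exact Ideal.mem_map_of_mem _ (Ideal.pow_mem_pow ha _)
    refine Ideal.pow_le_pow_right ?_ (pow_mul I (k + 1 + 1) n ▸ Ideal.pow_right_mono h1 n h2)
    nlinarith
  · intro H
    have key : ∀ J : Ideal A', J.FG → J ≤ I' → ∃ k, (J ^ k).map φ ≤ I ^ (k + 1) := by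
      intro J hJ
      refine Submodule.fg_induction (motive := fun (J : Ideal A') _ => J ≤ I' → ∃ k, (J ^ k).map φ ≤ I ^ (k + 1)) ?_ ?_ J hJ
      · intro a ha
        obtain ⟨k, -, hk⟩ := H 1 le_rfl a (by rw [pow_one]; exact ha (Submodule.mem_span_singleton_self a))
        refine ⟨k, ?_⟩
        rw [show (Submodule.span A' {a} : Ideal A') = Ideal.span {a} from rfl, Ideal.span_singleton_pow, Ideal.map_span, Set.image_singleton, Ideal.span_singleton_le_iff_mem, map_pow]
        simpa using hk
      · intro J₁ J₂ _ _ h₁ h₂ hle'
        obtain ⟨hle₁, hle₂⟩ := sup_le_iff.1 hle'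
        obtain ⟨k₁, hk₁⟩ := h₁ hle₁
        obtain ⟨k₂, hk₂⟩ := h₂ hle₂
        refine ⟨k₁ + k₂, ?_⟩
        have hp : ∀ (J : Ideal A') (n : ℕ), J ≤ I' → (J ^ n).map φ ≤ I ^ n := fun J n hJ => by
          rw [Ideal.map_pow]; exact Ideal.pow_right_mono ((Ideal.map_mono hJ).trans hle) n
        have hsplit : ∀ (a b : ℕ), (J₁ ⊔ J₂) ^ (a + b) ≤ J₁ ^ a * (J₁ ⊔ J₂) ^ b ⊔ J₂ ^ b * (J₁ ⊔ J₂) ^ a := by
          intro a
          induction a with
          | zero => intro b; simp only [zero_add, pow_zero, one_mul]; exact le_sup_left
          | succ a iha =>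
            intro b
            induction b with
            | zero => simp only [add_zero, pow_zero, one_mul]; exact le_sup_right
            | succ b ihb =>
              rw [show a + 1 + (b + 1) = (a + (b + 1)) + 1 by omega, pow_succ', Ideal.sup_mul]
              refine sup_le ?_ ?_
              · refine (mul_le_mul_right (iha (b + 1)) J₁).trans ?_
                rw [Ideal.mul_sup, pow_succ' J₁, mul_assoc]
                refine sup_le_sup_left ?_ _
                rw [pow_succ' (J₁ ⊔ J₂) a, mul_left_comm]
                exact mul_le_mul_right (mul_le_mul_left le_sup_left _) _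
              · rw [show a + (b + 1) = a + 1 + b by omega]
                refine (mul_le_mul_right ihb J₂).trans ?_
                rw [Ideal.mul_sup, pow_succ' J₂, mul_assoc]
                refine sup_le_sup_right ?_ _
                rw [pow_succ' (J₁ ⊔ J₂) b, mul_left_comm]
                exact mul_le_mul_right (mul_le_mul_left le_sup_right _) _
        refine (Ideal.map_mono (hsplit k₁ k₂)).trans ?_
        rw [Ideal.map_sup, Ideal.map_mul, Ideal.map_mul]
        refine sup_le ?_ ?_
        · refine (Ideal.mul_mono hk₁ (hp _ _ hle')).trans ?_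
          rw [← pow_add]; exact Ideal.pow_le_pow_right (by omega)
        · refine (Ideal.mul_mono hk₂ (hp _ _ hle')).trans ?_
          rw [← pow_add]; exact Ideal.pow_le_pow_right (by omega)
    exact key I' hI' le_rfl

end Groth.Agent.S18390
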