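import Groth.Statements.S18391
import Mathlib

set_option autoImplicit false
universe u
open LVCorr

namespace Groth.Agent.S18391

/-- Let A be a normal (integrally closed) Noetherian domain and z an element of A such that the radical
of the principal ideal (z) is prime. Then there exist elements w, t of A and a natural number r,
with w not in the radical of (z), such that in the localization A[1/w] the ideal generated by z
equals the ideal generated by t^r and the ideal generated by t is prime. (The condition on w is the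
one the printed proof produces and the later use of the lemma needs.) -/
theorem result (A : Type u) [CommRing A] [IsDomain A]
    [IsNoetherianRing A] [IsIntegrallyClosed A] (z : A) (hz : (Ideal.span {z}).radical.IsPrime) :
    ∃ (w t : A) (r : ℕ), w ∉ (Ideal.span {z}).radical ∧
      Ideal.span {algebraMap A (Localization.Away w) z} =
        Ideal.span {algebraMap A (Localization.Away w) t ^ r} ∧
      (Ideal.span {algebraMap A (Localization.Away w) t}).IsPrime := by
  classical
  set P := (Ideal.span {z}).radical with hP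
  haveI : P.IsPrime := hz
  by_cases hz0 : z = 0
  · have hP0 : P = ⊥ := by
      rw [hP, hz0, Ideal.span_singleton_eq_bot.mpr rfl]
      exact nilradical_eq_zero A
    refine ⟨1, 0, 1, ?_, ?_, ?_⟩
    · rw [hP0]; simp
    · rw [hz0, pow_one]
    · haveI : IsDomain (Localization.Away (1 : A)) :=
        IsLocalization.isDomain_localization (powers_le_nonZeroDivisors_of_noZeroDivisors one_ne_zero)
      rw [map_zero, Ideal.span_singleton_eq_bot.mpr rfl]
      exact Ideal.isPrime_bot
  have hzP : z ∈ P := Ideal.le_radical (Ideal.mem_span_singleton_self z)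
  have hPne : P ≠ ⊥ := fun h => hz0 (Ideal.mem_bot.mp (h ▸ hzP))
  have hmin : P ∈ (Ideal.span {z}).minimalPrimes :=
    ⟨⟨inferInstance, Ideal.le_radical⟩, fun q hq _ => hq.1.radical_le_iff.mpr hq.2⟩
  have hht : P.height = 1 := by
    refine le_antisymm (Ideal.height_le_one_of_isPrincipal_of_mem_minimalPrimes _ _ hmin) ?_
    rw [Order.one_le_iff_pos]
    exact pos_iff_ne_zero.mpr fun h => hPne (by simpa [Ideal.height_eq_zero_iff, minimalPrimes, IsDomain.minimalPrimes_eq_singleton_bot] using h)
  let L := Localization.AtPrime P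
  haveI : IsIntegrallyClosed L := isIntegrallyClosed_of_isLocalization L P.primeCompl P.primeCompl_le_nonZeroDivisors
  have hdimL : ringKrullDim L = 1 := by rw [IsLocalization.AtPrime.ringKrullDim_eq_height P L, hht]; rfl
  haveI : Ring.KrullDimLE 1 L := Ring.krullDimLE_iff.mpr hdimL.le
  have hnf : ¬ IsField L := fun h => by
    rw [ringKrullDim_eq_zero_of_isField h] at hdimL
    exact zero_ne_one hdimL
  haveI : IsDiscreteValuationRing L := by
    suffices h3 : IsIntegrallyClosed L ∧ ∃! Q : Ideal L, Q ≠ ⊥ ∧ Q.IsPrime from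
      ((IsDiscreteValuationRing.TFAE L hnf).out 3 0).mp h3
    refine ⟨inferInstance, IsLocalRing.maximalIdeal L, ⟨?_, inferInstance⟩, ?_⟩
    · exact fun h => hnf (IsLocalRing.isField_iff_maximalIdeal_eq.mpr h)
    · rintro Q ⟨hQ, hQ'⟩
      haveI : (⊥ : Ideal L).IsPrime := Ideal.isPrime_bot
      exact IsLocalRing.eq_maximalIdeal (Ring.krullDimLE_one_iff_of_isPrime_bot.mp inferInstance Q hQ hQ')
  obtain ⟨π, hπ⟩ := IsDiscreteValuationRing.exists_irreducible L
  obtain ⟨t, s0, ht⟩ := IsLocalization.exists_mk'_eq P.primeCompl π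
  have hirr : Irreducible (algebraMap A L t) := by
    rw [← IsLocalization.mk'_spec L t s0, ht]
    exact (irreducible_mul_isUnit (IsLocalization.map_units L s0)).mpr hπ
  have htP : t ∈ P := by
    rw [← Localization.AtPrime.under_maximalIdeal (I := P)]
    exact hirr.not_isUnit
  have hmap : P.map (algebraMap A L) = Ideal.span {algebraMap A L t} := by
    rw [Localization.AtPrime.map_eq_maximalIdeal]
    exact (Irreducible.maximalIdeal_eq hirr)
  have hs : ∀ x ∈ P, ∃ s ∈ P.primeCompl, s * x ∈ Ideal.span {t} := by
    intro x hx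
    have h1 : algebraMap A L x ∈ (Ideal.span {t}).map (algebraMap A L) := by
      rw [Ideal.map_span, Set.image_singleton, ← hmap]
      exact Ideal.mem_map_of_mem _ hx
    exact (IsLocalization.algebraMap_mem_map_algebraMap_iff P.primeCompl L _ x).mp h1
  obtain ⟨S, hS⟩ := (IsNoetherian.noetherian P : P.FG)
  choose! sf hsf1 hsf2 using hs
  let s := ∏ x ∈ S, sf x
  have hsP : ∀ x ∈ S, x ∈ P := fun x hx => hS ▸ Ideal.subset_span hx
  have hsmem : s ∈ P.primeCompl := prod_mem fun x hx => hsf1 x (hsP x hx)
  have hsPt : ∀ x ∈ P, s * x ∈ Ideal.span {t} := by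
    intro x hx
    rw [← hS] at hx
    induction hx using Submodule.span_induction with
    | mem y hy =>
      obtain ⟨c, hc⟩ := Finset.dvd_prod_of_mem sf hy
      show (∏ x ∈ S, sf x) * y ∈ _
      rw [hc, mul_right_comm]
      exact Ideal.mul_mem_right _ _ (hsf2 y (hsP y hy))
    | zero => simp
    | add a b _ _ ha hb => rw [mul_add]; exact add_mem ha hb
    | smul c a _ ha => rw [smul_eq_mul, mul_left_comm]; exact Ideal.mul_mem_left _ _ ha
  obtain ⟨r, hr⟩ := IsDiscreteValuationRing.associated_pow_irreducible
    (show algebraMap A L z ≠ 0 from fun h => hz0 ((IsLocalization.injective L P.primeCompl_le_nonZeroDivisors) (by rw [h, map_zero]))) hirr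
  obtain ⟨u, hu⟩ := hr
  obtain ⟨b, s1, hbs⟩ := IsLocalization.exists_mk'_eq P.primeCompl (u : L)
  have hb : b ∈ P.primeCompl := by
    intro hbP
    have : IsUnit (IsLocalization.mk' L b s1) := hbs ▸ u.isUnit
    exact (IsLocalization.AtPrime.isUnit_mk'_iff L P b s1).mp this hbP
  have heq : z * b = (s1 : A) * t ^ r := by
    apply IsLocalization.injective L P.primeCompl_le_nonZeroDivisors
    rw [map_mul, map_mul, map_pow, ← hu, ← hbs, ← IsLocalization.mk'_spec L b s1]
    ring
  let w := s * b * s1
  have hw : w ∈ P.primeCompl := mul_mem (mul_mem hsmem hb) s1.2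
  let Aw := Localization.Away w
  have hwu : IsUnit (algebraMap A Aw w) := IsLocalization.map_units Aw (⟨w, Submonoid.mem_powers w⟩ : Submonoid.powers w)
  have hus : IsUnit (algebraMap A Aw s) := isUnit_of_dvd_unit (map_dvd _ ⟨b * s1, by ring⟩) hwu
  have hub : IsUnit (algebraMap A Aw b) := isUnit_of_dvd_unit (map_dvd _ ⟨s * s1, by ring⟩) hwu
  have hus1 : IsUnit (algebraMap A Aw s1) := isUnit_of_dvd_unit (map_dvd _ ⟨s * b, by ring⟩) hwu
  refine ⟨w, t, r, hw, ?_, ?_⟩
  · have := congrArg (fun x => Ideal.span ({algebraMap A Aw x} : Set Aw)) heq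
    simp only [map_mul, map_pow] at this
    rwa [Ideal.span_singleton_mul_right_unit hub, Ideal.span_singleton_mul_left_unit hus1] at this
  · have h1 : Ideal.span {algebraMap A Aw t} = P.map (algebraMap A Aw) := by
      refine le_antisymm ((Ideal.span_singleton_le_iff_mem _).mpr (Ideal.mem_map_of_mem _ htP)) (Ideal.map_le_iff_le_comap.mpr fun x hx => ?_)
      obtain ⟨c, hc⟩ := Ideal.mem_span_singleton'.mp (hsPt x hx)
      rw [Ideal.mem_comap, ← Ideal.unit_mul_mem_iff_mem _ hus, ← map_mul, ← hc, map_mul]
      exact Ideal.mul_mem_left _ _ (Ideal.mem_span_singleton_self _)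
    rw [h1]
    refine IsLocalization.isPrime_of_isPrime_disjoint (Submonoid.powers w) Aw P inferInstance ?_
    rw [Set.disjoint_left]
    rintro x ⟨n, rfl⟩ hx
    exact (pow_mem hw n) hx

end Groth.Agent.S18391
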