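import Groth.Statements.S18392
import Mathlib

set_option autoImplicit false
universe u
open LVCorr

namespace Groth.Agent.S18392

/-- Let A be a normal (integrally closed) Noetherian domain and z an element of A such that the radical
of (z) is prime. Then for every non-empty open subset V of Spec A contained in the basic open set
D(z) (that is, every non-empty open subset of Spec A[1/z]) there is an element x of A, not in the
radical of (z), such that the basic open set D(xz) = Spec A[1/xz] is contained in V. -/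
theorem result (A : Type u) [CommRing A]
    [IsDomain A] [IsNoetherianRing A] [IsIntegrallyClosed A] (z : A)
    (hz : (Ideal.span {z}).radical.IsPrime) (V : Set (PrimeSpectrum A)) (hV : IsOpen V)
    (hVz : V ⊆ (PrimeSpectrum.basicOpen z : Set (PrimeSpectrum A))) (hne : V.Nonempty) :
    ∃ x : A, x ∉ (Ideal.span {z}).radical ∧
      ((PrimeSpectrum.basicOpen (x * z) : TopologicalSpace.Opens (PrimeSpectrum A)) :
        Set (PrimeSpectrum A)) ⊆ V := by
  obtain ⟨J, hJ⟩ := (PrimeSpectrum.isClosed_iff_zeroLocus_ideal _).mp hV.isClosed_compl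
  set P := (Ideal.span {z}).radical with hPdef
  haveI : P.IsPrime := hz
  have hzP : z ∈ P := Ideal.le_radical (Ideal.mem_span_singleton_self z)
  obtain ⟨v, hv⟩ := hne
  have hPmin : P ∈ (Ideal.span {z}).minimalPrimes := by
    refine ⟨⟨hz, Ideal.le_radical⟩, fun q hq _ => ?_⟩
    exact hq.1.radical_le_iff.mpr hq.2
  have hht : P.height ≤ 1 := Ideal.height_le_one_of_isPrincipal_of_mem_minimalPrimes _ P hPmin
  haveI : P.FiniteHeight := P.finiteHeight_iff.mpr
    (Or.inr (ne_top_of_le_ne_top (by decide) hht))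
  have hJP : J ≤ P := by
    have h1 : (⟨P, hz⟩ : PrimeSpectrum A) ∈ Vᶜ := fun h => (hVz h) hzP
    rw [hJ] at h1
    exact h1
  have hfin : J.minimalPrimes.Finite := J.finite_minimalPrimes_of_isNoetherianRing
  have hJ0 : J ≠ ⊥ := by
    rintro rfl
    have : v ∈ Vᶜ := by rw [hJ]; simp [PrimeSpectrum.mem_zeroLocus]
    exact this hv
  classical
  have hex : ∀ Q ∈ hfin.toFinset.erase P, ∃ x ∈ Q, x ∉ P := by
    intro Q hQ
    obtain ⟨hne', hQ'⟩ := Finset.mem_erase.mp hQ
    rw [Set.Finite.mem_toFinset] at hQ'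
    haveI := hQ'.1.1
    by_contra! hle
    have := Ideal.height_strict_mono_of_isPrime_of_isPrime (lt_of_le_of_ne hle hne')
    have h0 := lt_of_lt_of_le this hht
    rw [Order.lt_one_iff, Ideal.height_eq_zero_iff_eq_bot] at h0
    exact hJ0 (le_bot_iff.mp (h0 ▸ hQ'.1.2))
  choose c hc hcP using hex
  refine ⟨∏ Q ∈ (hfin.toFinset.erase P).attach, c Q.1 Q.2, fun h => ?_, fun q hq => ?_⟩
  · obtain ⟨Q, -, hQ⟩ := (Ideal.IsPrime.prod_mem_iff).mp h
    exact hcP Q.1 Q.2 hQ
  · by_contra hqV
    have hq' : q ∈ Vᶜ := hqV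
    rw [hJ] at hq'
    obtain ⟨Q, hQ, hQq⟩ := Ideal.exists_minimalPrimes_le (J := q.asIdeal) hq'
    apply (show _ ∉ q.asIdeal from hq)
    by_cases h : Q = P
    · exact Ideal.mul_mem_left _ _ (hQq (h ▸ hzP))
    · have hQm : Q ∈ hfin.toFinset.erase P := Finset.mem_erase.mpr ⟨h, hfin.mem_toFinset.mpr hQ⟩
      refine Ideal.mul_mem_right _ _ (hQq ?_)
      exact Ideal.mem_of_dvd _ (Finset.dvd_prod_of_mem (fun Q : {x // x ∈ hfin.toFinset.erase P} => c Q.1 Q.2) (Finset.mem_attach _ ⟨Q, hQm⟩)) (hc Q hQm)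

end Groth.Agent.S18392
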