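import Groth.Statements.S18393
import Mathlib

set_option autoImplicit false
universe u v
open LVCorr

namespace Groth.Agent.S18393

/-- Stated for the underlying continuous maps. Let c₁, c₂ : C → X be continuous maps with C a Noetherian
topological space, let Z be a closed subset of X and B the closure in C of c₂⁻¹(Z) ∖ c₁⁻¹(Z). Call Z
locally invariant when every point x of Z has an open neighbourhood U such that every y in C with
c₂(y) ∈ Z ∩ U and c₁(y) ∈ U satisfies c₁(y) ∈ Z. Then Z is locally invariant if and only if for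
every irreducible subset T of B the closures of c₁(T) and of c₂(T) in X are disjoint. (The source
states this for a correspondence c = (c₁, c₂) : C → X × X of separated schemes of finite type over
an algebraically closed field and for the irreducible components of B; the condition for all
irreducible subsets of B is the same condition.) -/
theorem result {C : Type u} {X : Type v}
    [TopologicalSpace C] [TopologicalSpace X] [TopologicalSpace.NoetherianSpace C]
    (c₁ c₂ : C → X) (hc₁ : Continuous c₁) (hc₂ : Continuous c₂) (Z : Set X) (hZ : IsClosed Z) :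
    (∀ x ∈ Z, ∃ U : Set X, IsOpen U ∧ x ∈ U ∧
        ∀ y : C, c₂ y ∈ Z → c₂ y ∈ U → c₁ y ∈ U → c₁ y ∈ Z) ↔
      ∀ T : Set C, T ⊆ closure (c₂ ⁻¹' Z \ c₁ ⁻¹' Z) → IsIrreducible T →
        closure (c₁ '' T) ∩ closure (c₂ '' T) = ∅ := by
  set B := closure (c₂ ⁻¹' Z \ c₁ ⁻¹' Z) with hB
  constructor
  · intro h T hTB hT
    rw [Set.eq_empty_iff_forall_notMem]
    rintro z ⟨hz1, hz2⟩
    have hBZ : B ⊆ c₂ ⁻¹' Z := closure_minimal Set.diff_subset (hZ.preimage hc₂)
    have hzZ : z ∈ Z := by
      refine closure_minimal ?_ hZ hz2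
      rintro _ ⟨t, ht, rfl⟩
      exact hBZ (hTB ht)
    obtain ⟨U, hU, hzU, hU'⟩ := h z hzZ
    obtain ⟨_, h1, t1, ht1, rfl⟩ := mem_closure_iff.mp hz1 U hU hzU
    obtain ⟨_, h2, t2, ht2, rfl⟩ := mem_closure_iff.mp hz2 U hU hzU
    obtain ⟨t, ht, htt⟩ := hT.2 _ _ (hU.preimage hc₁) (hU.preimage hc₂) ⟨t1, ht1, h1⟩ ⟨t2, ht2, h2⟩
    obtain ⟨y, ⟨hy1, hy2⟩, hyZ, hyn⟩ := mem_closure_iff.mp (hTB ht) _
      ((hU.preimage hc₁).inter (hU.preimage hc₂)) htt
    exact hyn (hU' y hyZ hy2 hy1)
  · intro h x hx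
    obtain ⟨S, hfin, hclosed, hirr, hS⟩ :=
      TopologicalSpace.NoetherianSpace.exists_finite_set_isClosed_irreducible (isClosed_closure (s := c₂ ⁻¹' Z \ c₁ ⁻¹' Z))
    classical
    set F : Set C → Set X := fun T => if x ∈ closure (c₁ '' T) then closure (c₂ '' T) else closure (c₁ '' T) with hF
    refine ⟨(⋃ T ∈ S, F T)ᶜ, (hfin.isClosed_biUnion fun T _ => ?_).isOpen_compl, ?_, fun y hy hy2 hy1 => ?_⟩
    · simp only [hF]; split_ifs <;> exact isClosed_closure
    · simp only [Set.mem_compl_iff, Set.mem_iUnion, not_exists]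
      intro T hT hxT
      simp only [hF] at hxT
      split_ifs at hxT with hx1
      · have := h T (by rw [hB, hS]; exact Set.subset_sUnion_of_mem hT) (hirr T hT)
        exact this.le ⟨hx1, hxT⟩
      · exact hx1 hxT
    · by_contra hn
      have hyB : y ∈ B := subset_closure ⟨hy, hn⟩
      rw [hB, hS] at hyB
      obtain ⟨T, hT, hyT⟩ := hyB
      have e1 : c₁ y ∈ closure (c₁ '' T) := subset_closure ⟨y, hyT, rfl⟩
      have e2 : c₂ y ∈ closure (c₂ '' T) := subset_closure ⟨y, hyT, rfl⟩
      by_cases hx1 : x ∈ closure (c₁ '' T)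
      · exact hy2 (Set.mem_biUnion hT (by simp only [hF, if_pos hx1]; exact e2))
      · exact hy1 (Set.mem_biUnion hT (by simp only [hF, if_neg hx1]; exact e1))

end Groth.Agent.S18393
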