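import Groth.Statements.S18406
import Mathlib
import Groth.Agent.Lib.FlexInvolution

set_option autoImplicit false
universe u
open Cubic

namespace Groth.Agent.S18406

open MvPolynomial in
/-- Let f be a nonzero homogeneous cubic in three variables over ℂ whose plane curve is smooth (at every
nonzero zero of f some partial derivative is nonzero), and let v and v′ be flexes of the curve, that
is nonzero zeros of f through each of which some line meets the curve with multiplicity three (there
is a vector w linearly independent from the point with f(point + t·w) = t³·f(w) for every t). Then a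
projective automorphism of the curve carries the point of v to the point of v′: there are an
invertible matrix A whose substitution X_i ↦ Σ_j A_ij X_j multiplies f by a constant c, and a
constant d with A·v = d·v′. (The published statement gives more: a subgroup of the projective
automorphism group isomorphic to C₃ × C₃ acts simply transitively on the nine flexes; only
transitivity is stated here.) -/
theorem result (f : MvPolynomial (Fin 3) ℂ) (hf : f.IsHomogeneous 3)
    (hf0 : f ≠ 0) (hsm : ∀ v : Fin 3 → ℂ, v ≠ 0 → eval v f = 0 → ∃ i : Fin 3, eval v (pderiv i f) ≠ 0)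
    (v v' : Fin 3 → ℂ) (hv : v ≠ 0) (hv' : v' ≠ 0) (hfv : eval v f = 0) (hfv' : eval v' f = 0)
    (hflex : (∃ w : Fin 3 → ℂ, LinearIndependent ℂ ![v, w] ∧ ∀ t : ℂ, eval (v + t • w) f = t ^ 3 * eval w f))
    (hflex' : (∃ w : Fin 3 → ℂ, LinearIndependent ℂ ![v', w] ∧ ∀ t : ℂ, eval (v' + t • w) f = t ^ 3 * eval w f)) :
    ∃ (A : Matrix (Fin 3) (Fin 3) ℂ) (c d : ℂ), IsUnit A.det ∧
      aeval (fun i : Fin 3 => ∑ j : Fin 3, C (A i j) * X j) f = C c * f ∧ A.mulVec v = d • v' := by
  by_cases hvv : v' ∈ Submodule.span ℂ {v}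
  · obtain ⟨t, ht⟩ := Submodule.mem_span_singleton.1 hvv
    have ht0 : t ≠ 0 := fun h => hv' (by rw [← ht, h, zero_smul])
    refine ⟨1, 1, t⁻¹, by simp, ?_, ?_⟩
    · have e1 : (fun i : Fin 3 => ∑ j : Fin 3, C ((1 : Matrix (Fin 3) (Fin 3) ℂ) i j) * X j) = X := by
        funext i
        rw [Finset.sum_eq_single i]
        · simp
        · intro b _ hb; simp [Ne.symm hb]
        · simp
      rw [e1, aeval_X_left_apply, C_1, one_mul]
    · rw [Matrix.one_mulVec, ← ht, smul_smul, inv_mul_cancel₀ ht0, one_smul]
  obtain ⟨e'', he'', hE'', hfe'', hn1, hn2, hmem, hz⟩ :=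
    Groth.Agent.FlexInv.exists_third hf hsm hv hflex hfv hvv hflex' hfv'
  obtain ⟨M, A, hM, hA, hAA, hpres⟩ := Groth.Agent.FlexInv.exists_inv hf hsm he'' hE'' hfe''
  have hMv : M v ≠ 0 := fun h => by
    have h0 := hM v
    rw [h, mul_zero] at h0
    exact hn1 (Groth.Agent.FlexInv.mem_span_of_tangent hf hsm hv hflex hfv e''
      (by rwa [Groth.Agent.CubicPolar.swap12, Groth.Agent.CubicPolar.swap23]) hfe'')
  have hAv : A.mulVec v ∈ Submodule.span ℂ {v, v'} := by
    rw [hA]
    exact sub_mem (Submodule.subset_span (by simp)) (Submodule.smul_mem _ _ hmem)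
  rcases hz _ hAv (by rw [hpres, hfv]) with h | h | h
  · exfalso
    rw [hA] at h
    have h2 := sub_mem (Submodule.mem_span_singleton_self v) h
    rw [sub_sub_cancel] at h2
    exact hn1 ((Submodule.smul_mem_iff _ hMv).1 h2)
  · obtain ⟨d, hd⟩ := Submodule.mem_span_singleton.1 h
    refine ⟨A, 1, d, ?_, ?_, hd.symm⟩
    · exact IsUnit.of_mul_eq_one A.det (by rw [← Matrix.det_mul, hAA, Matrix.det_one])
    · apply MvPolynomial.funext
      intro u
      rw [aeval_def, eval₂_comp_left (eval u), map_mul, eval_C, one_mul]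
      have h1 : (eval u).comp (algebraMap ℂ (MvPolynomial (Fin 3) ℂ)) = RingHom.id ℂ := by
        ext x; simp
      have h3 : (⇑(eval u) ∘ fun i : Fin 3 => ∑ j : Fin 3, C (A i j) * X j) = A.mulVec u := by
        funext i; simp [Matrix.mulVec, dotProduct]
      rw [h1, h3]
      exact hpres u
  · exfalso
    rw [hA] at h
    have h2 := add_mem h (Submodule.smul_mem _ (M v) (Submodule.mem_span_singleton_self e''))
    rw [sub_add_cancel] at h2
    obtain ⟨t, ht⟩ := Submodule.mem_span_singleton.1 h2
    have ht0 : t ≠ 0 := fun h0 => hv (by rw [← ht, h0, zero_smul])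
    exact hn1 (Submodule.mem_span_singleton.2 ⟨t⁻¹, by rw [← ht, smul_smul, inv_mul_cancel₀ ht0, one_smul]⟩)

end Groth.Agent.S18406
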