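import Groth.Statements.S18409
import Mathlib
import Groth.Agent.Lib.Eckardt

set_option autoImplicit false
universe u
open Cubic

namespace Groth.Agent.S18409

open MvPolynomial in
/-- Let f be a nonzero homogeneous cubic in four variables over ℂ whose surface S = V_+(f) ⊂ P³ is
smooth (at every nonzero zero of f some partial derivative is nonzero); a line on S is a
2-dimensional subspace of ℂ⁴ on which f vanishes, and an Eckardt point of S is a nonzero vector
lying on three distinct lines on S. Let e and e′ be Eckardt points of S that are not proportional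
and let L be their span, a plane in ℂ⁴, i.e. the line of P³ through the two points. Then exactly one
of the two cases occurs: either f vanishes identically on L (the line lies on S), or L contains a
third Eckardt point e″, proportional to neither e nor e′, and every zero of f in L is proportional
to e, e′ or e″ (the line meets S in exactly three points, all Eckardt points). -/
theorem result (f : MvPolynomial (Fin 4) ℂ) (hf : f.IsHomogeneous 3)
    (hf0 : f ≠ 0) (hsm : ∀ v : Fin 4 → ℂ, v ≠ 0 → eval v f = 0 → ∃ i : Fin 4, eval v (pderiv i f) ≠ 0)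
    (e e' : Fin 4 → ℂ) (he : e ≠ 0) (he' : e' ∉ Submodule.span ℂ {e})
    (hE : (∃ U : Fin 3 → Submodule ℂ (Fin 4 → ℂ), Function.Injective U ∧
        ∀ i : Fin 3, Module.finrank ℂ ↥(U i) = 2 ∧ e ∈ U i ∧ ∀ u ∈ U i, eval u f = 0))
    (hE' : (∃ U : Fin 3 → Submodule ℂ (Fin 4 → ℂ), Function.Injective U ∧
        ∀ i : Fin 3, Module.finrank ℂ ↥(U i) = 2 ∧ e' ∈ U i ∧ ∀ u ∈ U i, eval u f = 0)) :
    Xor (∀ u ∈ Submodule.span ℂ {e, e'}, eval u f = 0)
      (∃ e'' : Fin 4 → ℂ, e'' ∈ Submodule.span ℂ {e, e'} ∧ e'' ∉ Submodule.span ℂ {e} ∧ e'' ∉ Submodule.span ℂ {e'} ∧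
        (∃ U : Fin 3 → Submodule ℂ (Fin 4 → ℂ), Function.Injective U ∧
        ∀ i : Fin 3, Module.finrank ℂ ↥(U i) = 2 ∧ e'' ∈ U i ∧ ∀ u ∈ U i, eval u f = 0) ∧
        ∀ u ∈ Submodule.span ℂ {e, e'}, eval u f = 0 →
          u ∈ Submodule.span ℂ {e} ∨ u ∈ Submodule.span ℂ {e'} ∨ u ∈ Submodule.span ℂ {e''}) := by
  rcases Groth.Agent.Eckardt.line_dichotomy hf hsm he hE he' hE' with h | h
  · refine Or.inl ⟨h, ?_⟩
    rintro ⟨e'', -, h1, h2, -, hz⟩
    have he'0 : e' ≠ 0 := fun hc => he' (hc ▸ zero_mem _)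
    have key : ∀ t : ℂ, t ≠ 0 → e + t • e' ∈ Submodule.span ℂ {e''} := fun t ht => by
      have hu : e + t • e' ∈ Submodule.span ℂ {e, e'} := add_mem (Submodule.subset_span (by simp))
        (Submodule.smul_mem _ t (Submodule.subset_span (by simp)))
      rcases hz _ hu (h _ hu) with h' | h' | h'
      · exfalso
        obtain ⟨s, hs⟩ := Submodule.mem_span_singleton.1 h'
        exact he' (Submodule.mem_span_singleton.2 ⟨t⁻¹ * (s - 1), by
          rw [mul_smul, sub_smul, hs, one_smul, add_sub_cancel_left, smul_smul,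
            inv_mul_cancel₀ ht, one_smul]⟩)
      · exfalso
        have hee : e ∈ Submodule.span ℂ {e'} := by
          have := sub_mem h' (Submodule.smul_mem _ t (Submodule.mem_span_singleton_self e'))
          rwa [add_sub_cancel_right] at this
        obtain ⟨s, hs⟩ := Submodule.mem_span_singleton.1 hee
        by_cases hs0 : s = 0
        · exact he (by rw [← hs, hs0, zero_smul])
        · exact he' (Submodule.mem_span_singleton.2 ⟨s⁻¹, by rw [← hs, smul_smul, inv_mul_cancel₀ hs0, one_smul]⟩)
      · exact h'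
    have hd : e' ∈ Submodule.span ℂ {e''} := by
      have := sub_mem (key 2 two_ne_zero) (key 1 one_ne_zero)
      rwa [show e + (2 : ℂ) • e' - (e + (1 : ℂ) • e') = e' by module] at this
    obtain ⟨s, hs⟩ := Submodule.mem_span_singleton.1 hd
    by_cases hs0 : s = 0
    · exact he'0 (by rw [← hs, hs0, zero_smul])
    · exact h2 (Submodule.mem_span_singleton.2 ⟨s⁻¹, by rw [← hs, smul_smul, inv_mul_cancel₀ hs0, one_smul]⟩)
  · obtain ⟨M, A, -, -, -, hA, -, hne1, hne2, hek, hz, hnot⟩ := h
    refine Or.inr ⟨⟨A.mulVec e', ?_, hne1, hne2, hek, hz⟩, hnot⟩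
    rw [hA]
    exact sub_mem (Submodule.subset_span (by simp)) (Submodule.smul_mem _ _ (Submodule.subset_span (by simp)))

end Groth.Agent.S18409
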