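import Groth.Statements.S18411
import Mathlib
import Groth.Agent.Lib.Eckardt

set_option autoImplicit false
universe u
open Cubic

namespace Groth.Agent.S18411

open MvPolynomial in
/-- Let f be a nonzero homogeneous cubic in four variables over ℂ whose surface S = V_+(f) ⊂ P³ is
smooth (at every nonzero zero of f some partial derivative is nonzero); a line on S is a
2-dimensional subspace of ℂ⁴ on which f vanishes, and an Eckardt point of S is a nonzero vector
lying on three distinct lines on S. Let e, e′, e″ be pairwise non-proportional Eckardt points of S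
spanning a single plane L = span(e, e′) of ℂ⁴ on which f does not vanish identically (three
collinear Eckardt points whose line is not on S), and let A, A′, A″ be their Eckardt involutions: an
involutory matrix A (A² = 1) whose +1-eigenspace is a hyperplane and with A·e = −e, such that the
substitution X_i ↦ Σ_j A_ij X_j multiplies f by a constant — that is, a projective involution
preserving S whose fixed locus is the disjoint union of a plane and the point of e, and likewise for
e′ and e″. Then the three involutions generate, as projective transformations, a group isomorphic to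
the symmetric group on three letters: the product A·A′ is not a scalar matrix, its cube is, and A″
is a scalar multiple of A·A′·A. -/
theorem result (f : MvPolynomial (Fin 4) ℂ) (hf : f.IsHomogeneous 3)
    (hf0 : f ≠ 0) (hsm : ∀ v : Fin 4 → ℂ, v ≠ 0 → eval v f = 0 → ∃ i : Fin 4, eval v (pderiv i f) ≠ 0)
    (e e' e'' : Fin 4 → ℂ) (he : e ≠ 0) (he' : e' ∉ Submodule.span ℂ {e})
    (he''1 : e'' ∉ Submodule.span ℂ {e}) (he''2 : e'' ∉ Submodule.span ℂ {e'}) (he''L : e'' ∈ Submodule.span ℂ {e, e'})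
    (hE : (∃ U : Fin 3 → Submodule ℂ (Fin 4 → ℂ), Function.Injective U ∧
        ∀ i : Fin 3, Module.finrank ℂ ↥(U i) = 2 ∧ e ∈ U i ∧ ∀ u ∈ U i, eval u f = 0))
    (hE' : (∃ U : Fin 3 → Submodule ℂ (Fin 4 → ℂ), Function.Injective U ∧
        ∀ i : Fin 3, Module.finrank ℂ ↥(U i) = 2 ∧ e' ∈ U i ∧ ∀ u ∈ U i, eval u f = 0))
    (hE'' : (∃ U : Fin 3 → Submodule ℂ (Fin 4 → ℂ), Function.Injective U ∧
        ∀ i : Fin 3, Module.finrank ℂ ↥(U i) = 2 ∧ e'' ∈ U i ∧ ∀ u ∈ U i, eval u f = 0))
    (hL : ¬ ∀ u ∈ Submodule.span ℂ {e, e'}, eval u f = 0)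
    (A A' A'' : Matrix (Fin 4) (Fin 4) ℂ)
    (hA : A * A = 1 ∧ Module.finrank ℂ ↥(LinearMap.ker (Matrix.toLin' A - LinearMap.id)) = 3 ∧
        A.mulVec e = -e ∧ ∃ c : ℂ, aeval (fun i : Fin 4 => ∑ j : Fin 4, C (A i j) * X j) f = C c * f)
    (hA' : A' * A' = 1 ∧ Module.finrank ℂ ↥(LinearMap.ker (Matrix.toLin' A' - LinearMap.id)) = 3 ∧
        A'.mulVec e' = -e' ∧ ∃ c : ℂ, aeval (fun i : Fin 4 => ∑ j : Fin 4, C (A' i j) * X j) f = C c * f)
    (hA'' : A'' * A'' = 1 ∧ Module.finrank ℂ ↥(LinearMap.ker (Matrix.toLin' A'' - LinearMap.id)) = 3 ∧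
        A''.mulVec e'' = -e'' ∧ ∃ c : ℂ, aeval (fun i : Fin 4 => ∑ j : Fin 4, C (A'' i j) * X j) f = C c * f) :
    (¬ ∃ c : ℂ, A * A' = c • (1 : Matrix (Fin 4) (Fin 4) ℂ)) ∧ (∃ c : ℂ, (A * A') ^ 3 = c • (1 : Matrix (Fin 4) (Fin 4) ℂ)) ∧
      ∃ c : ℂ, A'' = c • (A * A' * A) := by
  have he'0 : e' ≠ 0 := fun hc => he' (hc ▸ zero_mem _)
  have hswap : e ∉ Submodule.span ℂ {e'} := fun h => by
    obtain ⟨s, hs⟩ := Submodule.mem_span_singleton.1 h
    by_cases hs0 : s = 0
    · exact he (by rw [← hs, hs0, zero_smul])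
    · exact he' (Submodule.mem_span_singleton.2 ⟨s⁻¹, by rw [← hs, smul_smul, inv_mul_cancel₀ hs0, one_smul]⟩)
  rcases Groth.Agent.Eckardt.line_dichotomy hf hsm he hE he' hE' with h | h
  · exact absurd h hL
  obtain ⟨M, B, hB, huB, hpB, hBe', hM0, -, -, -, hz, -⟩ := h
  rcases Groth.Agent.Eckardt.line_dichotomy hf hsm he'0 hE' hswap hE with h | h
  · exact absurd (by rwa [Set.pair_comm] at h) hL
  obtain ⟨M', B', hB', huB', hpB', hB'e, hM'0, -, -, -, hz', -⟩ := h
  obtain rfl := huB A hA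
  obtain rfl := huB' A' hA'
  have hf'' := Groth.Agent.Eckardt.eval_self hf hE''
  have he''0 : e'' ≠ 0 := fun hc => he''1 (hc ▸ zero_mem _)
  obtain ⟨M'', B'', -, -, -, -, -, huB''⟩ := Groth.Agent.Eckardt.exists_inv hf hsm he''0 hE''
  have conj : ∀ (P Q : Matrix (Fin 4) (Fin 4) ℂ) (p q : Fin 4 → ℂ),
      Groth.Agent.Eckardt.IsInv f p P → Groth.Agent.Eckardt.IsInv f q Q →
      (∀ u, eval (P.mulVec u) f = eval u f) → (∀ u, eval (Q.mulVec u) f = eval u f) →
      e'' ∈ Submodule.span ℂ {P.mulVec q} → P * Q * P = B'' := by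
    intro P Q p q hP hQ hpP hpQ hmem
    obtain ⟨t, ht⟩ := Submodule.mem_span_singleton.1 hmem
    have hPP : ∀ u, P.mulVec (P.mulVec u) = u := fun u => by
      rw [Matrix.mulVec_mulVec, hP.1, Matrix.one_mulVec]
    refine huB'' _ ⟨?_, ?_, ?_, 1, ?_⟩
    · rw [show P * Q * P * (P * Q * P) = P * Q * (P * P) * Q * P by simp only [Matrix.mul_assoc],
        hP.1, mul_one, Matrix.mul_assoc P Q Q, hQ.1, mul_one, hP.1]
    · rw [← hQ.2.1]
      let L : (Fin 4 → ℂ) ≃ₗ[ℂ] (Fin 4 → ℂ) :=
        LinearEquiv.ofInvolutive (Matrix.toLin' P) (fun u => by simp [hPP])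
      have hk : LinearMap.ker (Matrix.toLin' (P * Q * P) - LinearMap.id) =
          (LinearMap.ker (Matrix.toLin' Q - LinearMap.id)).map L.toLinearMap := by
        ext u
        simp only [LinearMap.mem_ker, LinearMap.sub_apply, Matrix.toLin'_apply, LinearMap.id_apply,
          sub_eq_zero, Submodule.mem_map]
        constructor
        · intro h
          refine ⟨P.mulVec u, ?_, hPP u⟩
          have := congrArg (fun x => P.mulVec x) h
          rwa [← Matrix.mulVec_mulVec, ← Matrix.mulVec_mulVec, hPP] at this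
        · rintro ⟨x, hx, rfl⟩
          change (P * Q * P).mulVec (P.mulVec x) = P.mulVec x
          rw [← Matrix.mulVec_mulVec, hPP, ← Matrix.mulVec_mulVec, hx]
      rw [hk]
      exact (LinearEquiv.submoduleMap L _).finrank_eq.symm
    · rw [← ht, ← Matrix.mulVec_mulVec, ← Matrix.mulVec_mulVec, Matrix.mulVec_smul P, hPP,
        Matrix.mulVec_smul, hQ.2.2.1, Matrix.mulVec_smul, Matrix.mulVec_neg, smul_neg]
    · rw [Groth.Agent.Eckardt.aeval_eq_iff]
      intro u
      rw [← Matrix.mulVec_mulVec, ← Matrix.mulVec_mulVec, hpP, hpQ, hpP, one_mul]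
  have hm1 : e'' ∈ Submodule.span ℂ {A.mulVec e'} := by
    rcases hz e'' he''L hf'' with h | h | h
    · exact absurd h he''1
    · exact absurd h he''2
    · exact h
  have hm2 : e'' ∈ Submodule.span ℂ {A'.mulVec e} := by
    rcases hz' e'' (by rwa [Set.pair_comm]) hf'' with h | h | h
    · exact absurd h he''2
    · exact absurd h he''1
    · exact h
  have c1 := conj A A' e e' hA hA' hpB hpB' hm1
  have c2 := conj A' A e' e hA' hA hpB' hpB hm2
  have hA''eq : A'' = A * A' * A := by rw [huB'' A'' hA'', c1]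
  refine ⟨?_, ⟨1, ?_⟩, 1, by rw [one_smul]; exact hA''eq⟩
  · rintro ⟨c, hc⟩
    have h1 : A' = c • A := by
      have := congrArg (fun X => A * X) hc
      simpa [← Matrix.mul_assoc, hA.1] using this
    have h2 : A'.mulVec e = -c • e := by
      rw [h1, Matrix.smul_mulVec, hA.2.2.1, smul_neg, neg_smul]
    rw [hB'e] at h2
    have : M' e • e' = (1 + c) • e := by
      linear_combination (norm := module) -(1 : ℂ) • h2
    exact he' (Submodule.mem_span_singleton.2 ⟨(M' e)⁻¹ * (1 + c), by
      rw [mul_smul, ← this, smul_smul, inv_mul_cancel₀ hM'0, one_smul]⟩)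
  · rw [one_smul, show (A * A') ^ 3 = (A * A' * A) * (A' * A * A') by
      simp only [pow_succ, pow_zero, one_mul, Matrix.mul_assoc], c2, ← c1]
    rw [← hA''eq]
    exact hA''.1

end Groth.Agent.S18411
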