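import Groth.Statements.S18422
import Mathlib.Topology.Algebra.ClopenNhdofOne
import Mathlib.Data.Nat.Prime.Basic
import Mathlib.GroupTheory.Index

set_option autoImplicit false
set_option linter.all false
universe u v
open Pi1

namespace Groth.Agent.S18422

/-- Let p and l be distinct primes, G a profinite group (a compact totally disconnected topological
group) which is pro-p, meaning that every open normal subgroup of G has index a power of p, and H a
profinite group which is pro-l in the same sense. Then every continuous group homomorphism from G to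
H is trivial. -/
theorem result {p l : ℕ} (hp : p.Prime) (hl : l.Prime) (hpl : p ≠ l)
    (G : Type u) [Group G] [TopologicalSpace G] [IsTopologicalGroup G] [CompactSpace G]
    [TotallyDisconnectedSpace G]
    (H : Type v) [Group H] [TopologicalSpace H] [IsTopologicalGroup H] [CompactSpace H]
    [TotallyDisconnectedSpace H]
    (hG : ∀ U : OpenNormalSubgroup G, ∃ n : ℕ, U.toSubgroup.index = p ^ n)
    (hH : ∀ V : OpenNormalSubgroup H, ∃ n : ℕ, V.toSubgroup.index = l ^ n)
    (f : G →* H) (hf : Continuous f) (g : G) : f g = 1 := by
    by_contra hne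
    haveI : T1Space H := inferInstance
    obtain ⟨V, hV⟩ := ProfiniteGrp.exist_openNormalSubgroup_sub_open_nhds_of_one
      (G := H) (U := {f g}ᶜ) isOpen_compl_singleton (show (1 : H) ≠ f g from fun h => hne h.symm)
    haveI := V.isNormal'
    let U : OpenNormalSubgroup G :=
      { toOpenSubgroup := { toSubgroup := V.toSubgroup.comap f, isOpen' := V.isOpen'.preimage hf }
        isNormal' := inferInstanceAs (V.toSubgroup.comap f).Normal }
    obtain ⟨n, hn⟩ := hG U
    obtain ⟨m, hm⟩ := hH V
    let q : G →* H ⧸ V.toSubgroup := (QuotientGroup.mk' V.toSubgroup).comp f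
    have hk : q.ker = U.toSubgroup := by
      ext x
      exact QuotientGroup.eq_one_iff _
    have h1 : p ^ n ∣ l ^ m := by
      rw [← hn, ← hm, ← hk, Subgroup.index_ker]
      exact Subgroup.card_subgroup_dvd_card _
    have hco : Nat.Coprime (p ^ n) (l ^ m) := Nat.Coprime.pow n m ((Nat.coprime_primes hp hl).2 hpl)
    have hone : p ^ n = 1 := hco.eq_one_of_dvd h1
    have hg : g ∈ U.toSubgroup := by
      rw [Subgroup.index_eq_one.1 (hn.trans hone)]
      trivial
    exact hV hg rfl

end Groth.Agent.S18422
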