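import Groth.Statements.S18425
import Mathlib.CategoryTheory.Galois.IsFundamentalgroup
-- import your own Groth.Agent.* helpers here

set_option autoImplicit false
universe u
open Pi1

namespace Groth.Agent.S18425.Aux

open CategoryTheory PreGaloisCategory ProfiniteGrp ProfiniteCompletion

variable (G : Type u) [Group G]

abbrev C := completion (GrpCat.of G)

/-- The permutation representation of a finite `G`-set. -/
noncomputable def perm (X : Action FintypeCat.{u} G) : G →* Equiv.Perm X.V where
  toFun g := FintypeCat.equivEquivIso.symm (X.ρAut g)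
  map_one' := by rw [map_one]; rfl
  map_mul' a b := by rw [map_mul]; rfl

theorem perm_apply (X : Action FintypeCat.{u} G) (g : G) (v : X.V) :
    perm G X g v = (X.ρ g).hom v := rfl

instance (X : Action FintypeCat.{u} G) : Finite (Equiv.Perm X.V) := inferInstance

noncomputable def K (X : Action FintypeCat.{u} G) : FiniteIndexNormalSubgroup (GrpCat.of G) :=
  haveI : (perm G X).ker.FiniteIndex := Subgroup.finiteIndex_ker _
  { toSubgroup := (perm G X).ker }

theorem coh (x : C G) {m n : FiniteIndexNormalSubgroup (GrpCat.of G)} (h : m ≤ n) (g : G)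
    (hg : x.1 m = QuotientGroup.mk g) : x.1 n = QuotientGroup.mk g := by
  have := x.2 h.hom
  rw [← this, hg]
  rfl

noncomputable def act (X : Action FintypeCat.{u} G) : C G →* Equiv.Perm X.V where
  toFun x := QuotientGroup.kerLift (perm G X) (x.1 (K G X))
  map_one' := map_one (QuotientGroup.kerLift (perm G X))
  map_mul' x y := map_mul (QuotientGroup.kerLift (perm G X)) (x.1 (K G X)) (y.1 (K G X))

theorem act_eq (X : Action FintypeCat.{u} G) (x : C G) (g : G)
    (hg : x.1 (K G X) = QuotientGroup.mk g) : act G X x = perm G X g := by
  show QuotientGroup.kerLift (perm G X) (x.1 (K G X)) = _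
  rw [hg]
  rfl

noncomputable instance act' (X : Action FintypeCat.{u} G) :
    MulAction (C G) ((Action.forget FintypeCat.{u} G).obj X) :=
  MulAction.compHom X.V (act G X)

theorem smul_def (X : Action FintypeCat.{u} G) (x : C G)
    (v : (Action.forget FintypeCat.{u} G).obj X) : x • v = act G X x v := rfl

instance nat : IsNaturalSMul (Action.forget FintypeCat.{u} G) (C G) where
  naturality x X Y f v := by
    obtain ⟨g, hg⟩ := QuotientGroup.mk_surjective (x.1 (K G X ⊓ K G Y))
    have h1 := act_eq G X x g (coh G x inf_le_left g hg.symm)
    have h2 := act_eq G Y x g (coh G x inf_le_right g hg.symm)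
    show f.hom (act G X x v) = act G Y x (f.hom v)
    rw [h1, h2]
    show f.hom ((X.ρ g).hom v) = (Y.ρ g).hom (f.hom v)
    exact ConcreteCategory.congr_hom (f.comm g) v

theorem act_eta (X : Action FintypeCat.{u} G) (g : G) :
    act G X (etaFn (GrpCat.of G) g) = perm G X g := act_eq G X _ g rfl

theorem cont (X : Action FintypeCat.{u} G) (v : X.V) :
    IsLocallyConstant fun x : C G => act G X x v := by
  haveI : DiscreteTopology ((ProfiniteCompletion.diagram (GrpCat.of G)).obj (K G X)).toProfinite.toTop :=
    ⟨rfl⟩
  have h1 : Continuous fun x : C G => x.1 (K G X) :=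
    (continuous_apply (K G X)).comp continuous_subtype_val
  have h2 : IsLocallyConstant
      (fun q : ((ProfiniteCompletion.diagram (GrpCat.of G)).obj (K G X)).toProfinite.toTop =>
        QuotientGroup.kerLift (perm G X) q v) := IsLocallyConstant.of_discrete _
  exact h2.comp_continuous h1

instance fund : IsFundamentalGroup (Action.forget FintypeCat.{u} G) (C G) where
  transitive_of_isGalois X hX := ⟨fun a b => by
    haveI := hX
    have h := FintypeCat.Action.pretransitive_of_isConnected G X
    obtain ⟨g, hg⟩ := @MulAction.IsPretransitive.exists_smul_eq _ _ _ h a b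
    exact ⟨etaFn (GrpCat.of G) g, (by rw [smul_def, act_eta]; exact hg)⟩⟩
  continuous_smul X :=
    haveI : DiscreteTopology ((Action.forget FintypeCat.{u} G).obj X) := obj_discreteTopology _ X
    ⟨continuous_prod_of_discrete_right.2 fun v =>
      (show IsLocallyConstant fun x : C G => x • v from cont G X v).continuous⟩
  non_trivial' x h := by
    refine Subtype.ext (funext fun H => ?_)
    letI : Fintype (G ⧸ H.toSubgroup) := Fintype.ofFinite _
    let X : Action FintypeCat.{u} G := Action.FintypeCat.ofMulAction G (FintypeCat.of (G ⧸ H.toSubgroup))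
    obtain ⟨g, hg⟩ := QuotientGroup.mk_surjective (x.1 (K G X))
    have e1 := act_eq G X x g hg.symm
    have hle : K G X ≤ H := by
      intro k hk
      have : perm G X k = 1 := hk
      have h3 : ((k • ((1 : G) : G ⧸ H.toSubgroup)) : G ⧸ H.toSubgroup) = ((1 : G) : G ⧸ H.toSubgroup) :=
        Equiv.congr_fun this ((1 : G) : G ⧸ H.toSubgroup)
      have h4 : ((k * 1 : G) : G ⧸ H.toSubgroup) = ((1 : G) : G ⧸ H.toSubgroup) := h3
      rw [mul_one] at h4
      exact (QuotientGroup.eq_one_iff k).1 h4
    have h2 := h X ((1 : G) : G ⧸ H.toSubgroup)
    have h5 : act G X x ((1 : G) : G ⧸ H.toSubgroup) = ((1 : G) : G ⧸ H.toSubgroup) := h2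
    rw [e1] at h5
    have h4 : ((g * 1 : G) : G ⧸ H.toSubgroup) = ((1 : G) : G ⧸ H.toSubgroup) := h5
    rw [mul_one] at h4
    rw [coh G x hle g hg.symm]
    exact h4

theorem main :
    ∃ φ : (ProfiniteGrp.ProfiniteCompletion.completion (GrpCat.of G)) ≃ₜ* Aut (Action.forget FintypeCat.{u} G),
      ∀ (g : G) (X : Action FintypeCat.{u} G) (x : X.V),
        (φ (ProfiniteGrp.ProfiniteCompletion.etaFn (GrpCat.of G) g)).hom.app X x = (X.ρ g).hom x := by
  refine ⟨{ toMulEquiv := toAutMulEquiv (Action.forget FintypeCat.{u} G) (C G)
            continuous_toFun := (toAutMulEquiv_isHomeomorph _ _).continuous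
            continuous_invFun := (toAutHomeo (Action.forget FintypeCat.{u} G) (C G)).symm.continuous.congr ?_ },
    fun g X v => ?_⟩
  · intro a
    apply (toAutMulEquiv (Action.forget FintypeCat.{u} G) (C G)).injective
    show _ = (toAutMulEquiv (Action.forget FintypeCat.{u} G) (C G)) ((toAutMulEquiv _ _).symm a)
    rw [MulEquiv.apply_symm_apply]
    exact (toAutHomeo (Action.forget FintypeCat.{u} G) (C G)).apply_symm_apply a
  · show (toAut (Action.forget FintypeCat.{u} G) (C G) (etaFn (GrpCat.of G) g)).hom.app X v = _
    show act G X (etaFn (GrpCat.of G) g) v = _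
    rw [act_eta, perm_apply]

end Groth.Agent.S18425.Aux

namespace Groth.Agent.S18425

open CategoryTheory in
/-- In the case of a discrete group G, let F be the forgetful functor from the category of finite G-sets
to finite sets. Then the canonical homomorphism from G to Aut(F), letting g act on every finite
G-set, extends to an isomorphism of topological groups from the profinite completion of G (the limit
of the finite quotients G/U over normal subgroups U of finite index) onto Aut(F) with its profinite
topology. (The published statement is for an arbitrary topological group G, with finite G-sets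
carrying a continuous action and the completion taken over open normal subgroups of finite index;
this row is the case of a discrete group.) -/
theorem result (G : Type u) [Group G] :
    ∃ φ : (ProfiniteGrp.ProfiniteCompletion.completion (GrpCat.of G)) ≃ₜ* Aut (Action.forget FintypeCat.{u} G),
      ∀ (g : G) (X : Action FintypeCat.{u} G) (x : X.V),
        (φ (ProfiniteGrp.ProfiniteCompletion.etaFn (GrpCat.of G) g)).hom.app X x = (X.ρ g).hom x := by
  exact Aux.main G

end Groth.Agent.S18425
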