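import Groth.Statements.S18426
import Groth.Agent.Lib.H6.NormField

set_option autoImplicit false
set_option backward.isDefEq.respectTransparency.types false
set_option maxHeartbeats 1000000
open Groth.Agent AlgebraicGeometry CategoryTheory
set_option linter.all false
universe u
open Pi1

namespace Groth.Agent.S18426

open AlgebraicGeometry CategoryTheory CategoryTheory.Limits in
/-- Suppose X is an integral scheme that is Noetherian and normal, write K for its function field, and
take L to be a finite separable extension of K. Then the normalization of X in L, namely the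
relative normalization of the morphism Spec L → Spec K → X, is finite over X. (That this
normalization is a normal integral scheme with function field L is not restated.) -/
theorem result {X : Scheme.{u}} [IsIntegral X] [IsNoetherian X]
    (hX : Pi1.IsNormalScheme X) (L : Type u) [Field L] [Algebra X.functionField L] [FiniteDimensional X.functionField L]
    [Algebra.IsSeparable X.functionField L]
    [QuasiCompact (Spec.map (CommRingCat.ofHom (algebraMap X.functionField L)) ≫ X.fromSpecStalk (genericPoint X))]
    [QuasiSeparated (Spec.map (CommRingCat.ofHom (algebraMap X.functionField L)) ≫ X.fromSpecStalk (genericPoint X))] :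
    IsFinite (Spec.map (CommRingCat.ofHom (algebraMap X.functionField L)) ≫ X.fromSpecStalk (genericPoint X)).fromNormalization := by
  refine H6.NormField.isFinite _ fun U hUa hU => ?_
  haveI : Nonempty U := ⟨⟨_, hU⟩⟩
  haveI := functionField_isFractionRing_of_isAffineOpen X U hUa
  letI := (H6.NormField.ev (Spec.map (CommRingCat.ofHom (algebraMap X.functionField L)) ≫ X.fromSpecStalk (genericPoint X)) U hU).toAlgebra
  haveI : IsScalarTower Γ(X, U) X.functionField L := by
    refine IsScalarTower.of_algebraMap_eq fun a => ?_
    show H6.NormField.ev _ U hU a = _
    rw [H6.NormField.ev_fromSpecStalk _ (algebraMap X.functionField L) rfl U hU]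
    rfl
  haveI : IsNoetherianRing Γ(X, U) := IsLocallyNoetherian.component_noetherian ⟨U, hUa⟩
  haveI : IsIntegrallyClosed Γ(X, U) := by
    refine IsIntegrallyClosed.of_localization_maximal fun p _ hp => ?_
    let pt : PrimeSpectrum Γ(X, U) := ⟨p, hp.isPrime⟩
    have hx : hUa.fromSpec pt ∈ U := by
      have : hUa.fromSpec pt ∈ Set.range hUa.fromSpec := ⟨pt, rfl⟩
      rwa [hUa.range_fromSpec] at this
    letI : Algebra Γ(X, U) (X.presheaf.stalk (hUa.fromSpec pt)) := (X.presheaf.germ _ _ hx).hom.toAlgebra
    haveI : IsLocalization.AtPrime (X.presheaf.stalk (hUa.fromSpec pt)) p := hUa.isLocalization_stalk' pt hx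
    haveI := (hX (hUa.fromSpec pt)).2
    exact IsIntegrallyClosed.of_equiv (IsLocalization.algEquiv p.primeCompl (X.presheaf.stalk (hUa.fromSpec pt)) (Localization.AtPrime p)).toRingEquiv
  haveI : IsIntegralClosure (integralClosure Γ(X, U) L) Γ(X, U) L := integralClosure.isIntegralClosure Γ(X, U) L
  exact IsIntegralClosure.finite Γ(X, U) X.functionField L (integralClosure Γ(X, U) L)

end Groth.Agent.S18426
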