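import Groth.Statements.S18431
import Mathlib


set_option autoImplicit false
universe u
open SpinCurv

namespace Groth.Agent.S18431

/-- Let R be a Noetherian local ring in which the natural number r is invertible and let ξ, ζ ∈ R
satisfy ξ^r = 1 and ζ^r = 1. Then either ξ = ζ, or ξ - ζ is a unit of R. (Consequently an element of
R annihilated by ξ - ζ is zero unless ξ = ζ. In the published setting R is moreover complete; the
step does not use completeness.) -/
theorem result (R : Type u) [CommRing R] [IsNoetherianRing R] [IsLocalRing R]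
    (r : ℕ) (hr : IsUnit (r : R)) (ξ ζ : R) (hξ : ξ ^ r = 1) (hζ : ζ ^ r = 1) :
    ξ = ζ ∨ IsUnit (ξ - ζ) := by
  rcases Nat.eq_zero_or_pos r with rfl | hr0
  · simp at hr
  refine or_iff_not_imp_right.mpr fun hnu => ?_
  have hζu : IsUnit ζ := IsUnit.of_pow_eq_one hζ hr0.ne'
  have hm : IsLocalRing.residue R (ξ - ζ) = 0 :=
    (IsLocalRing.residue_eq_zero_iff _).mpr hnu
  rw [map_sub, sub_eq_zero] at hm
  have hu : IsUnit (∑ i ∈ Finset.range r, ξ ^ i * ζ ^ (r - 1 - i)) := by
    refine IsUnit.of_map (IsLocalRing.residue R) _ ?_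
    rw [map_sum]
    simp only [map_mul, map_pow, hm, ← pow_add]
    rw [Finset.sum_congr rfl (g := fun _ => IsLocalRing.residue R ζ ^ (r - 1))
      (fun i hi => by rw [Nat.add_sub_cancel' (by have := Finset.mem_range.mp hi; omega)]),
      Finset.sum_const, Finset.card_range, nsmul_eq_mul, ← map_natCast (IsLocalRing.residue R)]
    exact (hr.map _).mul ((hζu.map _).pow _)
  have := geom_sum₂_mul ξ ζ r
  rw [hξ, hζ, sub_self] at this
  exact sub_eq_zero.mp (hu.mul_right_eq_zero.mp this)

end Groth.Agent.S18431
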