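import Groth.Statements.S18457
import Mathlib

set_option autoImplicit false
open Finset
open Surf

namespace Groth.Agent.S18457

/-- In the Picard lattice of the plane blown up at n ≤ 8 points, with basis h, e_1, …, e_n, form h² = 1,
e_i² = −1, all other products 0, and anticanonical class D = 3h − Σ e_i, let d·h − Σ a_i e_i be a
class with all a_i ≥ 0 (the class of the strict transform of a degree-d plane curve having
multiplicity a_i at the i-th point) which is a (−2)-class orthogonal to D, that is d² − Σ a_i² = −2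
and 3d = Σ a_i. Then one of the following holds: d = 1 and every a_i is 0 or 1 with exactly three
equal to 1; d = 2 and every a_i is 0 or 1 with exactly six equal to 1; d = 3, n = 8, and one a_i
equals 2 while the remaining seven equal 1. The published statement is geometric: under the
general-position hypotheses on the points, no smooth rational curve on the blown-up plane is
orthogonal to D; this row is the lattice enumeration its proof carries out (a line through three of
the points, a conic through six, a cubic through all eight and singular at one). -/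
theorem result (n : ℕ) (hn : n ≤ 8)
    (d : ℤ) (a : Fin n → ℤ) (ha : ∀ i, 0 ≤ a i)
    (hsq : d ^ 2 - ∑ i, (a i) ^ 2 = -2) (hK : 3 * d = ∑ i, a i) :
    (d = 1 ∧ (∀ i, a i = 0 ∨ a i = 1) ∧ (Finset.univ.filter (fun i => a i = 1)).card = 3) ∨
      (d = 2 ∧ (∀ i, a i = 0 ∨ a i = 1) ∧ (Finset.univ.filter (fun i => a i = 1)).card = 6) ∨
      (d = 3 ∧ n = 8 ∧ ∃ j, a j = 2 ∧ ∀ i, i ≠ j → a i = 1) := by
  have hd : 0 ≤ d := by
    have : (0:ℤ) ≤ ∑ i, a i := Finset.sum_nonneg fun i _ => ha i
    linarith
  have hn' : (n:ℤ) ≤ 8 := by exact_mod_cast hn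
  have h2 : ∑ i, (a i) ^ 2 = d ^ 2 + 2 := by linarith
  have hcs : (∑ i, a i) ^ 2 ≤ ((Finset.univ : Finset (Fin n)).card : ℤ) * ∑ i, (a i) ^ 2 :=
    sq_sum_le_card_mul_sum_sq
  rw [Finset.card_univ, Fintype.card_fin, ← hK, h2] at hcs
  have hd4 : d ≤ 4 := by
    by_contra hd'
    push Not at hd'
    nlinarith [mul_le_mul_of_nonneg_right hn' (show (0:ℤ) ≤ d ^ 2 + 2 by positivity)]
  have hsq1 : ∀ i, 0 ≤ a i ^ 2 - a i := fun i => by nlinarith [ha i, Int.le_self_sq (a i)]
  have h01 : ∑ i, (a i ^ 2 - a i) = 0 → ∀ i, a i = 0 ∨ a i = 1 := by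
    intro hs i
    have := (Finset.sum_eq_zero_iff_of_nonneg (fun i _ => hsq1 i)).mp hs i (Finset.mem_univ i)
    rcases mul_eq_zero.mp (show a i * (a i - 1) = 0 by linear_combination this) with h | h
    · exact Or.inl h
    · right; linarith
  have hcard : (∀ i, a i = 0 ∨ a i = 1) →
      ((Finset.univ.filter (fun i => a i = 1)).card : ℤ) = ∑ i, a i := by
    intro hall
    rw [Finset.card_filter, Nat.cast_sum]
    exact Finset.sum_congr rfl fun i _ => by rcases hall i with h | h <;> simp [h]
  interval_cases d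
  · have hz := (Finset.sum_eq_zero_iff_of_nonneg (fun i _ => ha i)).mp (by linarith : ∑ i, a i = 0)
    have : ∑ i, (a i) ^ 2 = 0 := Finset.sum_eq_zero fun i hi => by simp [hz i hi]
    linarith
  · have hall := h01 (by rw [Finset.sum_sub_distrib]; linarith)
    exact Or.inl ⟨rfl, hall, by exact_mod_cast (hcard hall).trans hK.symm⟩
  · have hall := h01 (by rw [Finset.sum_sub_distrib]; linarith)
    exact Or.inr (Or.inl ⟨rfl, hall, by exact_mod_cast (hcard hall).trans hK.symm⟩)
  · have hs : ∑ i, (a i - 1) ^ 2 = (n:ℤ) - 7 := by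
      simp only [sub_sq, Finset.sum_add_distrib, Finset.sum_sub_distrib, one_pow, Finset.sum_const, Finset.card_univ, Fintype.card_fin, mul_one, ← Finset.mul_sum]
      simp
      linarith
    have hs1 : ∑ i, (a i - 1) = 9 - (n:ℤ) := by
      rw [Finset.sum_sub_distrib, Finset.sum_const, Finset.card_univ, Fintype.card_fin, nsmul_one]; linarith
    have hle : ∑ i, (a i - 1) ≤ ∑ i, (a i - 1) ^ 2 := Finset.sum_le_sum fun i _ => Int.le_self_sq _
    have hn8 : n = 8 := by omega
    subst hn8
    norm_num at hs
    norm_num [-Finset.sum_sub_distrib] at hs1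
    refine Or.inr (Or.inr ⟨rfl, rfl, ?_⟩)
    have hz : ∀ i, a i = 1 ∨ a i = 2 := by
      intro i
      have h0 := (Finset.sum_eq_zero_iff_of_nonneg (fun i _ => sub_nonneg.mpr (Int.le_self_sq (a i - 1)))).mp
        (by rw [Finset.sum_sub_distrib]; linarith : ∑ i, ((a i - 1) ^ 2 - (a i - 1)) = 0) i (Finset.mem_univ i)
      rcases mul_eq_zero.mp (show (a i - 1) * (a i - 2) = 0 by linear_combination h0) with h | h
      · left; linarith
      · right; linarith
    obtain ⟨j, hj⟩ : ∃ j, a j = 2 := by
      by_contra hcon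
      push Not at hcon
      have : ∑ i, (a i - 1) = 0 := Finset.sum_eq_zero fun i _ => by
        rcases hz i with h | h
        · linarith
        · exact absurd h (hcon i)
      linarith
    refine ⟨j, hj, fun i hij => (hz i).resolve_right fun h => ?_⟩
    have : ∑ k ∈ ({i, j} : Finset (Fin 8)), (a k - 1) ≤ ∑ k, (a k - 1) :=
      Finset.sum_le_univ_sum_of_nonneg fun k => by rcases hz k with h | h <;> linarith
    rw [Finset.sum_pair hij] at this
    linarith
  · exfalso
    have hn8 : n = 8 := by
      by_contra hne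
      have : (n:ℤ) ≤ 7 := by omega
      linarith
    subst hn8
    have hnn : ∀ i, 1 ≤ (2 * a i - 3) ^ 2 := fun i => by
      have : (2 * a i - 3) ≠ 0 := by omega
      nlinarith [Int.one_le_abs this, sq_abs (2 * a i - 3)]
    have hexp : ∑ i, (2 * a i - 3) ^ 2 = 4 * ∑ i, (a i) ^ 2 - 12 * ∑ i, a i + 72 := by
      rw [show (72:ℤ) = ∑ _i : Fin 8, 9 by simp, Finset.mul_sum, Finset.mul_sum, ← Finset.sum_sub_distrib, ← Finset.sum_add_distrib]
      exact Finset.sum_congr rfl fun i _ => by ring
    have hge : (8:ℤ) ≤ ∑ i, (2 * a i - 3) ^ 2 := by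
      simpa using Finset.sum_le_sum (s := Finset.univ) fun i _ => hnn i
    linarith

end Groth.Agent.S18457
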