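import Groth.Statements.S18467
import Mathlib

set_option autoImplicit false
universe u
open Hopf

namespace Groth.Agent.S18467

/-- Let p be a prime and R a commutative ring containing an element u with u(p − 1) = 1, and let χ be a
homomorphism from the group of units of ℤ/p to the group of units of R such that χ(m) − 1 is a unit
of R for every m ≠ 1. For 0 ≤ i < p − 1 put e_i = u · Σ_m χ(m)^{−i} [m] in the group algebra
R[(ℤ/p)ˣ]. Then the e_i are idempotents, e_i e_j = 0 for i ≠ j, and Σ_i e_i = 1. (The published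
statement is for algebras over the subring of the p-adic integers generated over ℤ by the values of
the Teichmüller character χ and by 1/(p(p − 1)); the hypotheses on R and χ here are the properties
of that situation which the computation uses, so the row is stated for every such pair.) -/
theorem result
    (p : ℕ) [Fact p.Prime] (R : Type u) [CommRing R] (u : R) (hu : u * ((p - 1 : ℕ) : R) = 1)
    (χ : (ZMod p)ˣ →* Rˣ) (hχ : ∀ m : (ZMod p)ˣ, m ≠ 1 → IsUnit ((χ m : R) - 1)) :
    CompleteOrthogonalIdempotents (fun i : Fin (p - 1) =>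
      u • ∑ m : (ZMod p)ˣ, ((χ m⁻¹ : Rˣ) : R) ^ (i : ℕ) • MonoidAlgebra.of R (ZMod p)ˣ m) := by
  classical
  haveI : NeZero p := ⟨(Fact.out : p.Prime).ne_zero⟩
  set G := (ZMod p)ˣ
  have hcard : Fintype.card G = p - 1 := ZMod.card_units p
  obtain ⟨g, hg⟩ := IsCyclic.exists_generator (α := G)
  have hord : orderOf g = p - 1 := by rw [orderOf_eq_card_of_forall_mem_zpowers hg, Nat.card_eq_fintype_card, hcard]
  let c : G → R := fun m => ((χ m⁻¹ : Rˣ) : R)
  have hc : ∀ a b, c (a * b) = c a * c b := fun a b => by simp [c, mul_inv_rev, mul_comm]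
  have horth : ∀ i j : Fin (p - 1), i ≠ j → ∑ m : G, c m ^ (i : ℕ) * ((χ m : Rˣ) : R) ^ (j : ℕ) = 0 := fun i j hij => by
    let φ : G → R := fun m => c m ^ (i : ℕ) * ((χ m : Rˣ) : R) ^ (j : ℕ)
    have hshift : ∑ m, φ m = φ g * ∑ m, φ m := by
      rw [Finset.mul_sum]
      refine (Fintype.sum_equiv (Equiv.mulLeft g) _ _ fun m => ?_).symm
      simp only [φ, Equiv.coe_mulLeft, hc, map_mul, Units.val_mul]; ring
    have hne : g⁻¹ ^ (i : ℕ) * g ^ (j : ℕ) ≠ 1 := by
      rw [inv_pow, Ne, inv_mul_eq_one]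
      intro h
      exact hij (Fin.ext (pow_injOn_Iio_orderOf (by rw [hord]; exact i.2) (by rw [hord]; exact j.2) h))
    have hu' := hχ _ hne
    have e : ((χ (g⁻¹ ^ (i : ℕ) * g ^ (j : ℕ)) : Rˣ) : R) = φ g := by simp [φ, c, map_pow]
    rw [e] at hu'
    exact hu'.mul_right_eq_zero.1 (by rw [sub_mul, one_mul, ← hshift, sub_self])
  refine CompleteOrthogonalIdempotents.iff_ortho_complete.2 ⟨?_, ?_⟩
  · intro i j hij
    show (u • ∑ m : G, c m ^ (i : ℕ) • MonoidAlgebra.of R G m) * (u • ∑ m : G, c m ^ (j : ℕ) • MonoidAlgebra.of R G m) = 0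
    rw [smul_mul_smul_comm, Finset.sum_mul_sum]
    have : ∀ m : G, ∑ n : G, c m ^ (i : ℕ) • MonoidAlgebra.of R G m * c n ^ (j : ℕ) • MonoidAlgebra.of R G n
        = ∑ k : G, (c m ^ (i : ℕ) * ((χ m : Rˣ) : R) ^ (j : ℕ) * c k ^ (j : ℕ)) • MonoidAlgebra.of R G k := fun m => by
      refine Fintype.sum_equiv (Equiv.mulLeft m) _ _ fun n => ?_
      simp only [Equiv.coe_mulLeft]
      rw [smul_mul_smul_comm, ← map_mul, hc, mul_pow]
      congr 1
      have : ((χ m : Rˣ) : R) * c m = 1 := by simp [c]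
      have h2 : ((χ m : Rˣ) : R) ^ (j : ℕ) * c m ^ (j : ℕ) = 1 := by rw [← mul_pow, this, one_pow]
      linear_combination (-(c m ^ (i : ℕ) * c n ^ (j : ℕ))) * h2
    rw [Finset.sum_congr rfl fun m _ => this m, Finset.sum_comm]
    simp_rw [← Finset.sum_smul, ← Finset.sum_mul, horth i j hij, zero_mul, zero_smul]
    simp
  · rw [← Finset.smul_sum, Finset.sum_comm]
    simp_rw [← Finset.sum_smul]
    rw [Finset.sum_eq_single 1]
    · have h1 : c 1 = 1 := by simp [c]
      show u • ((∑ i : Fin (p - 1), c 1 ^ (i : ℕ)) • MonoidAlgebra.of R G 1) = 1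
      simp only [h1, one_pow, Finset.sum_const, Finset.card_univ, Fintype.card_fin, nsmul_eq_mul, mul_one, map_one, smul_smul, hu, one_smul]
    · intro m _ hm
      have hu' := hχ m⁻¹ (by simpa using hm)
      have hz : ∑ i : Fin (p - 1), c m ^ (i : ℕ) = 0 := by
        rw [Fin.sum_univ_eq_sum_range (fun i => c m ^ i)]
        refine hu'.mul_left_eq_zero.1 ?_
        rw [show ((χ m⁻¹ : Rˣ) : R) = c m from rfl, geom_sum_mul]
        rw [show c m ^ (p - 1) = 1 by simp only [c, ← Units.val_pow_eq_pow_val, ← map_pow, ← hcard, pow_card_eq_one, map_one, Units.val_one]; rw [pow_card_eq_one, map_one, Units.val_one], sub_self]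
      show (∑ i : Fin (p - 1), c m ^ (i : ℕ)) • _ = 0
      rw [hz, zero_smul]
    · simp

end Groth.Agent.S18467
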