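import Groth.Statements.S18491
import Mathlib
import Groth.Agent.Lib.H8GrpEtale

set_option autoImplicit false
universe u
open CategoryTheory CategoryTheory.Limits AlgebraicGeometry MonObj
open GrpSch

namespace Groth.Agent.S18491

/-- Let S be a scheme and G an S-group scheme whose structure morphism is locally quasi-finite, of
finite type, flat and locally of finite presentation (a quasi-finite fppf group scheme). Suppose
that for every point s of S the fibre G_s, a finite group scheme over the residue field k(s), has
order non-zero in k(s): the rank of G_s → Spec k(s) at the point of Spec k(s) is not divisible by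
the characteristic. Then G → S is étale. -/
theorem result {S : Scheme.{u}} (G : Over S) [GrpObj G]
    [LocallyQuasiFinite G.hom] [QuasiCompact G.hom] [Flat G.hom] [LocallyOfFinitePresentation G.hom]
    (h : ∀ (s : S) (x : ↥(Spec (S.residueField s))),
      ((pullback.snd G.hom (S.fromSpecResidueField s)).finrank x : S.residueField s) ≠ 0) :
    Etale G.hom := by
  refine Groth.Agent.H8EtaleFibre.etale_of_fibres G.hom fun s => ?_
  let Gs := Red.bc (S.fromSpecResidueField s) G
  have : IsFinite Gs.hom := by
    have : LocallyQuasiFinite (Limits.pullback.snd G.hom (S.fromSpecResidueField s)) := inferInstance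
    have : QuasiCompact (Limits.pullback.snd G.hom (S.fromSpecResidueField s)) := inferInstance
    exact IsFinite.of_locallyQuasiFinite (Limits.pullback.snd G.hom (S.fromSpecResidueField s))
  exact Groth.Agent.H8GrpEtale.etale_field (S.residueField s) (Semifield.toIsField _) Gs
    (IsLocalRing.closedPoint _) (h s _)

end Groth.Agent.S18491
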