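import Groth.Statements.S18539
import Mathlib

set_option autoImplicit false
universe u v w
open CAlg

namespace Groth.Agent.S18539
set_option linter.style.haveILetI false
open TensorProduct Polynomial

/-- For a commutative ring R, R-modules M and N and elements r₁, r₂ of R such that r₁ is a
non-zero-divisor on N and r₂ is a non-zero-divisor on N/r₁N, the element r₁ is a non-zero-divisor on
the module Hom_R(M, N) and r₂ is a non-zero-divisor on Hom_R(M, N)/r₁Hom_R(M, N). (Weak regularity
on both sides: no condition that the quotient by (r₁, r₂) is nonzero, which would fail for M = 0.) -/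
theorem result
    (R : Type u) [CommRing R] (M : Type v) (N : Type w)
    [AddCommGroup M] [Module R M] [AddCommGroup N] [Module R N]
    (r₁ r₂ : R) (h : RingTheory.Sequence.IsWeaklyRegular N [r₁, r₂]) :
    RingTheory.Sequence.IsWeaklyRegular (M →ₗ[R] N) [r₁, r₂] := by
  obtain ⟨h1, h2⟩ := (RingTheory.Sequence.isWeaklyRegular_cons_iff N r₁ [r₂]).1 h
  obtain ⟨h2, -⟩ := (RingTheory.Sequence.isWeaklyRegular_cons_iff _ r₂ []).1 h2
  refine (RingTheory.Sequence.isWeaklyRegular_cons_iff _ r₁ [r₂]).2 ⟨fun f g hfg => LinearMap.ext fun m => h1 (congrArg (fun F : M →ₗ[R] N => F m) hfg), ?_⟩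
  refine (RingTheory.Sequence.isWeaklyRegular_cons_iff _ r₂ []).2 ⟨?_, RingTheory.Sequence.IsWeaklyRegular.nil _ _⟩
  rw [isSMulRegular_quotient_iff_mem_of_smul_mem] at h2 ⊢
  intro g hg
  simp only [Submodule.mem_smul_pointwise_iff_exists, Submodule.mem_top, true_and] at hg h2 ⊢
  obtain ⟨φ, hφ⟩ := hg
  choose ψ hψ using fun m => h2 (g m) ⟨φ m, congrArg (fun F : M →ₗ[R] N => F m) hφ⟩
  refine ⟨{ toFun := ψ, map_add' := fun a b => h1 (by simp [smul_add, hψ]), map_smul' := fun c a => h1 (by simp [smul_comm r₁, hψ]) }, LinearMap.ext hψ⟩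

end Groth.Agent.S18539
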