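import Groth.Statements.S18543
import Mathlib
import Groth.Agent.Lib.H8HopfFF
import Groth.Agent.Lib.H8AffDim

set_option autoImplicit false
universe u
open Hopf

namespace Groth.Agent.S18543

open TensorProduct WithConv

lemma span_points {k : Type u} [Field k] {A : Type u} [CommRing A] [Algebra k A] [Module.Finite k A]
    [Algebra.Etale k A] (K : Type u) [Field K] [IsAlgClosed K] [Algebra k K] :
    ∃ _ : Finite (A →ₐ[k] K),
      Submodule.span K (Set.range fun g : A →ₐ[k] K => g.toLinearMap) = ⊤ ∧
      LinearIndependent K (fun g : A →ₐ[k] K => g.toLinearMap) := by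
  classical
  have hli : LinearIndependent K (fun g : A →ₐ[k] K => g.toLinearMap) := by
    refine LinearIndependent.of_comp
      (LinearMap.ltoFun k A K K) ?_
    exact (linearIndependent_monoidHom A K).comp (fun g : A →ₐ[k] K => (g : A →* K))
      fun g g' h => AlgHom.ext fun a => DFunLike.congr_fun h a
  haveI : Module.Finite K (A →ₗ[k] K) := inferInstance
  haveI : Finite (A →ₐ[k] K) := hli.finite
  refine ⟨inferInstance, eq_top_iff.mpr fun φ _ => ?_, hli⟩
  haveI := Fintype.ofFinite (A →ₐ[k] K)
  haveI : Algebra.FormallyUnramified K (K ⊗[k] A) := inferInstance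
  haveI : IsReduced (K ⊗[k] A) := Algebra.FormallyUnramified.isReduced_of_field K _
  let Ψ : K ⊗[k] A →ₗ[K] ((A →ₐ[k] K) → K) := LinearMap.pi fun g => g.toLinearMap.liftBaseChange K
  have hΨ : Function.Injective Ψ := by
    rw [injective_iff_map_eq_zero]
    intro z hz
    refine IsReduced.eq_zero z (H8AffDim.isNilpotent_of_points (k := K) fun x => ?_)
    let g : A →ₐ[k] K := (x.restrictScalars k).comp Algebra.TensorProduct.includeRight
    have hx : ∀ w : K ⊗[k] A, x w = g.toLinearMap.liftBaseChange K w := fun w => by
      induction w using TensorProduct.induction_on with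
      | zero => simp
      | add a b ha hb => rw [map_add, map_add, ha, hb]
      | tmul c a =>
        rw [LinearMap.liftBaseChange_tmul, show (c ⊗ₜ[k] a : K ⊗[k] A) = c • ((1 : K) ⊗ₜ[k] a) by simp [smul_tmul'],
          map_smul]
        rfl
    rw [hx]
    exact congrFun hz g
  obtain ⟨p, hp⟩ := Ψ.exists_leftInverse_of_injective (LinearMap.ker_eq_bot.mpr hΨ)
  let L : ((A →ₐ[k] K) → K) →ₗ[K] K := φ.liftBaseChange K ∘ₗ p
  have hφ : φ = ∑ g : A →ₐ[k] K, L (Pi.single g 1) • g.toLinearMap := by
    refine LinearMap.ext fun a => ?_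
    have h1 : φ a = L (Ψ ((1 : K) ⊗ₜ[k] a)) := by
      show φ a = φ.liftBaseChange K (p (Ψ _))
      rw [show p (Ψ ((1 : K) ⊗ₜ[k] a)) = (1 : K) ⊗ₜ[k] a from LinearMap.congr_fun hp _]
      simp
    rw [h1, pi_eq_sum_univ' (Ψ ((1 : K) ⊗ₜ[k] a)), map_sum, LinearMap.sum_apply]
    refine Finset.sum_congr rfl fun g _ => ?_
    rw [map_smul, LinearMap.smul_apply, smul_eq_mul, smul_eq_mul, mul_comm]
    congr 1
    simp [Ψ]
  rw [hφ]
  exact Submodule.sum_mem _ fun g _ => Submodule.smul_mem _ _ (Submodule.subset_span ⟨g, rfl⟩)

lemma nilpotent_of_one {p : ℕ} [Fact p.Prime] {k : Type u} [Field k] [CharP k p] {A : Type u} [CommRing A]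
    [HopfAlgebra k A] [Coalgebra.IsCocomm k A] [Module.Finite k A] [Algebra.Etale k A] {n : ℕ}
    (hA : Module.finrank k A = p ^ n) (d : WithConv (A →ₗ[k] k)) (hd : d.ofConv 1 = 0) : d ^ p ^ n = 0 := by
  classical
  let K := AlgebraicClosure k
  obtain ⟨hfin, hspan, hli⟩ := span_points (k := k) (A := A) K
  haveI := Fintype.ofFinite (A →ₐ[k] K)
  haveI : CharP K p := charP_of_injective_algebraMap (algebraMap k K).injective p
  let P := WithConv (A →ₐ[k] K)
  let e : (A →ₐ[k] K) ≃ P := { toFun := toConv, invFun := ofConv, left_inv := fun _ => rfl, right_inv := fun _ => rfl }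
  have hunit : ∀ γ : P, IsUnit γ := fun γ =>
    IsUnit.of_mul_eq_one _ (H8HopfFF.mul_antipode_cancel γ.ofConv)
  haveI : Fintype P := Fintype.ofEquiv _ e
  have hcard : Fintype.card Pˣ = p ^ n := by
    have h1 : Fintype.card Pˣ = Fintype.card (A →ₐ[k] K) :=
      Fintype.card_congr ((Equiv.ofBijective (fun u : Pˣ => (u : P))
        ⟨Units.val_injective, fun γ => ⟨(hunit γ).unit, rfl⟩⟩).trans e.symm)
    have b := Module.Basis.mk hli hspan.ge
    rw [h1, ← hA, ← Module.finrank_eq_card_basis b, Module.finrank_linearMap, Module.finrank_self, mul_one]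
  have hpow : ∀ g : A →ₐ[k] K, (toConv g.toLinearMap : WithConv (A →ₗ[k] K)) ^ p ^ n = 1 := by
    intro g
    let M : P →* WithConv (A →ₗ[k] K) :=
      { toFun := fun γ => toConv γ.ofConv.toLinearMap
        map_one' := WithConv.ofConv_injective (by simpa using congrArg WithConv.ofConv (AlgHom.toLinearMap_convOne (R := k) (C := A) (A := K)))
        map_mul' := fun a b => AlgHom.toLinearMap_convMul a b }
    show M (toConv g) ^ p ^ n = 1
    rw [← map_pow, show (toConv g : P) = ((hunit (toConv g)).unit : P) from rfl, ← Units.val_pow_eq_pow_val,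
      ← hcard, pow_card_eq_one, Units.val_one, map_one]
  let T := WithConv (A →ₗ[k] K)
  let C : K →+* T :=
    { toFun := fun c => c • (1 : T)
      map_one' := one_smul _ _
      map_mul' := fun a b => by rw [smul_mul_smul_comm, one_mul]
      map_zero' := zero_smul _ _
      map_add' := fun a b => add_smul a b _ }
  haveI : Nontrivial T := ⟨⟨1, 0, fun h => by
    have := LinearMap.congr_fun (congrArg WithConv.ofConv h) (1 : A)
    simp [LinearMap.convOne_apply] at this⟩⟩
  haveI : CharP T p := charP_of_injective_ringHom C.injective p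
  let ι : WithConv (A →ₗ[k] k) →* T :=
    { toFun := fun x => toConv ((Algebra.linearMap k K) ∘ₗ x.ofConv)
      map_one' := WithConv.ofConv_injective (LinearMap.ext fun a => by simp [LinearMap.convOne_apply])
      map_mul' := fun x y => WithConv.ofConv_injective (LinearMap.ext fun a => by
        show algebraMap k K ((x * y).ofConv a) = (toConv (Algebra.linearMap k K ∘ₗ x.ofConv) * toConv (Algebra.linearMap k K ∘ₗ y.ofConv) : T).ofConv a
        simp only [LinearMap.convMul_def, WithConv.ofConv_toConv, LinearMap.comp_apply]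
        generalize CoalgebraStruct.comul (R := k) a = z
        induction z using TensorProduct.induction_on with
        | zero => simp
        | add p q hp hq => simp only [map_add, hp, hq]
        | tmul p q => simp) }
  have hι : Function.Injective ι := fun x y h => WithConv.ofConv_injective (LinearMap.ext fun a =>
    (algebraMap k K).injective (LinearMap.congr_fun (congrArg WithConv.ofConv h) a))
  refine hι ?_
  rw [map_pow]
  have hmem : (ι d).ofConv ∈ Submodule.span K (Set.range fun g : A →ₐ[k] K => g.toLinearMap) := hspan ▸ trivial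
  obtain ⟨c, hc⟩ := (Submodule.mem_span_range_iff_exists_fun K).mp hmem
  have hsum : ι d = ∑ g, c g • (toConv g.toLinearMap : T) := WithConv.ofConv_injective (by
    rw [WithConv.ofConv_sum]
    exact hc.symm.trans (Finset.sum_congr rfl fun g _ => rfl))
  have hc0 : ∑ g, c g = 0 := by
    have h1 := LinearMap.congr_fun hc (1 : A)
    rw [show (ι d).ofConv 1 = algebraMap k K (d.ofConv 1) from rfl, hd, map_zero] at h1
    simpa using h1
  rw [hsum, sum_pow_char_pow]
  simp only [smul_pow, hpow]
  rw [← Finset.sum_smul, ← sum_pow_char_pow, hc0, zero_pow (pow_ne_zero n (Fact.out : p.Prime).ne_zero), zero_smul]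
  exact WithConv.ofConv_injective (LinearMap.ext fun a => by simp [ι])

/-- Let p be a prime number, k a field of characteristic p and A a finite-dimensional commutative,
cocommutative Hopf algebra over k — the coordinate ring of a finite commutative group scheme G over
k — such that A is étale over k and dim_k A = p^n for some n (G is an étale group scheme of p-power
order). Then the Cartier dual A^∨ = Hom_k(A, k), with its convolution ring structure, is a local
ring; that is, the Cartier dual group scheme G^∨ = Spec A^∨ is infinitesimal (its underlying space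
is a single point). -/
theorem result (p : ℕ) [Fact p.Prime]
    (k : Type u) [Field k] [CharP k p] (A : Type u) [CommRing A] [HopfAlgebra k A] [Coalgebra.IsCocomm k A]
    [Module.Finite k A] [Algebra.Etale k A] (n : ℕ) (hA : Module.finrank k A = p ^ n) :
    IsLocalRing (CartDual.D k A) := by
  haveI : Nontrivial (CartDual.D k A) := ⟨⟨1, 0, fun h => by
    have := LinearMap.congr_fun (congrArg WithConv.ofConv h) (1 : A)
    simp [LinearMap.convOne_apply] at this⟩⟩
  refine IsLocalRing.of_isUnit_or_isUnit_one_sub_self fun a => ?_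
  have key : ∀ b : CartDual.D k A, b.ofConv 1 ≠ 0 → IsUnit b := by
    intro b hb
    have hc : ∀ x : k, (x • (1 : CartDual.D k A)).ofConv 1 = x := fun x => by
      simp [LinearMap.convOne_apply]
    have h1 : IsNilpotent (b - (b.ofConv 1) • (1 : CartDual.D k A)) :=
      ⟨p ^ n, nilpotent_of_one hA _ (by
        rw [WithConv.ofConv_sub, LinearMap.sub_apply, hc, sub_self])⟩
    have h2 : IsUnit ((b.ofConv 1) • (1 : CartDual.D k A)) :=
      IsUnit.of_mul_eq_one ((b.ofConv 1)⁻¹ • 1) (by rw [smul_mul_smul_comm, one_mul, mul_inv_cancel₀ hb, one_smul])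
    have := h1.isUnit_add_left_of_commute h2 (Commute.all _ _)
    rwa [add_sub_cancel] at this
  by_cases ha : a.ofConv 1 = 0
  · refine Or.inr (key _ ?_)
    rw [WithConv.ofConv_sub, LinearMap.sub_apply, ha, sub_zero]
    simp [LinearMap.convOne_apply]
  · exact Or.inl (key a ha)

end Groth.Agent.S18543
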