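import Groth.Statements.S18544
import Mathlib

set_option autoImplicit false
universe u
open CAlg

namespace Groth.Agent.S18544
open MvPolynomial

/-- Let F be an algebraically closed field of characteristic zero, n a natural number, and N a nonzero
polynomial over F in the n² matrix entries whose evaluation on n × n matrices is multiplicative,
N(xy) = N(x)·N(y) for all x, y (a norm form on the matrix algebra M_n(F) over F). Then N is a
natural power of the determinant: for some m, N(x) = det(x)^m for every matrix x. The published
statement concerns norm forms of any central simple algebra over a subfield; this row is the case of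
the full matrix algebra over an algebraically closed field, which is the case its proof treats. -/
theorem result (F : Type u) [Field F] [IsAlgClosed F]
    [CharZero F] (n : ℕ) (N : MvPolynomial (Fin n × Fin n) F) (hN : N ≠ 0)
    (hmul : ∀ x y : Matrix (Fin n) (Fin n) F,
      MvPolynomial.eval (fun ij : Fin n × Fin n => (x * y) ij.1 ij.2) N =
        MvPolynomial.eval (fun ij : Fin n × Fin n => x ij.1 ij.2) N * MvPolynomial.eval (fun ij : Fin n × Fin n => y ij.1 ij.2) N) :
    ∃ m : ℕ, ∀ x : Matrix (Fin n) (Fin n) F,
      MvPolynomial.eval (fun ij : Fin n × Fin n => x ij.1 ij.2) N = x.det ^ m := by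
  classical
  let φ : Matrix (Fin n) (Fin n) F → F := fun x => MvPolynomial.eval (fun ij : Fin n × Fin n => x ij.1 ij.2) N
  have hφ : ∀ x y, φ (x * y) = φ x * φ y := hmul
  obtain ⟨x0, hx0⟩ : ∃ x, φ x ≠ 0 := by
    by_contra h
    push Not at h
    exact hN (MvPolynomial.funext (fun v => by simpa using h (fun i j => v (i, j))))
  have h1 : φ 1 = 1 := by
    have := hφ x0 1; rw [mul_one] at this
    exact mul_left_cancel₀ hx0 (by rw [← this, mul_one])
  let φm : Matrix (Fin n) (Fin n) F →* F := ⟨⟨φ, h1⟩, hφ⟩
  -- restriction to a line is polynomial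
  have hline : ∀ A B : Matrix (Fin n) (Fin n) F, ∃ P : Polynomial F, ∀ s, P.eval s = φ (A + s • B) := by
    intro A B
    refine ⟨MvPolynomial.eval₂ Polynomial.C (fun ij => Polynomial.C (A ij.1 ij.2) + Polynomial.X * Polynomial.C (B ij.1 ij.2)) N, fun s => ?_⟩
    rw [← Polynomial.coe_evalRingHom, MvPolynomial.eval₂_comp_left]
    have hc : (Polynomial.evalRingHom s).comp Polynomial.C = RingHom.id F := by ext; simp
    rw [hc]
    simp only [φ, MvPolynomial.eval]
    congr 1
    · ext ij; simp only [Function.comp, map_add, map_mul, Polynomial.coe_evalRingHom, Polynomial.eval_C, Polynomial.eval_X, Matrix.add_apply, Matrix.smul_apply, smul_eq_mul]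
  have htr : ∀ t : Matrix.TransvectionStruct (Fin n) F, φ t.toMatrix = 1 := by
    intro t
    obtain ⟨P, hP⟩ := hline 1 (Matrix.single t.i t.j 1)
    have hP' : ∀ s, P.eval s = φ (Matrix.transvection t.i t.j s) := by
      intro s; rw [hP, Matrix.transvection, Matrix.smul_single, smul_eq_mul, mul_one]
    have hinv : P * P.comp (-Polynomial.X) = 1 := by
      refine Polynomial.funext fun s => ?_
      rw [Polynomial.eval_mul, Polynomial.eval_comp, Polynomial.eval_neg, Polynomial.eval_X, hP', hP', ← hφ,
        Matrix.transvection_mul_transvection_same t.i t.j t.hij, add_neg_cancel, Matrix.transvection_zero, h1,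
        Polynomial.eval_one]
    obtain ⟨c, -, hc⟩ := Polynomial.isUnit_iff.mp (IsUnit.of_mul_eq_one _ hinv)
    have h0 := hP' 0
    rw [Matrix.transvection_zero, h1, ← hc, Polynomial.eval_C] at h0
    have := hP' t.c
    rw [← hc, Polynomial.eval_C, h0] at this
    exact this.symm
  have hdiag1 : ∀ i : Fin n, ∃ m : ℕ, ∀ s : F, φ (Matrix.diagonal (Function.update 1 i s)) = s ^ m := by
    intro i
    obtain ⟨P, hP⟩ := hline (Matrix.diagonal (Function.update 1 i 0)) (Matrix.diagonal (Pi.single i 1))
    have hP' : ∀ s, P.eval s = φ (Matrix.diagonal (Function.update 1 i s)) := by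
      intro s; rw [hP, ← Matrix.diagonal_smul, Matrix.diagonal_add]
      congr 2
      ext k; by_cases hk : k = i
      · subst hk; simp
      · simp [hk]
    have hmulP : ∀ s t, P.eval (s * t) = P.eval s * P.eval t := by
      intro s t; rw [hP', hP', hP', ← hφ, Matrix.diagonal_mul_diagonal]
      congr 2; ext k; by_cases hk : k = i
      · subst hk; simp
      · simp [hk]
    have hP1 : P.eval 1 = 1 := by
      rw [hP']; rw [show Function.update (1 : Fin n → F) i 1 = 1 from Function.update_eq_self i _,
        Matrix.diagonal_one', h1]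
    have hPne : P ≠ 0 := by rintro rfl; simp at hP1
    refine ⟨P.natDegree, fun s => ?_⟩
    have e : P.comp (Polynomial.C s * Polynomial.X) = Polynomial.C (P.eval s) * P := by
      refine Polynomial.funext fun t => ?_
      simp [Polynomial.eval_comp, hmulP]
    have := congrArg (fun q => Polynomial.coeff q P.natDegree) e
    simp only [Polynomial.comp_C_mul_X_coeff, Polynomial.coeff_C_mul] at this
    rw [← hP']
    have hl : P.coeff P.natDegree ≠ 0 := Polynomial.leadingCoeff_ne_zero.mpr hPne
    exact (mul_right_cancel₀ hl (by rw [← this]; ring)).symm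
  choose mi hmi using hdiag1
  have hperm : ∀ i j, mi i = mi j := by
    intro i j
    have hcomm : ∀ σ : Equiv.Perm (Fin n), ∀ d : Fin n → F,
        φ (Matrix.diagonal (d ∘ σ)) = φ (Matrix.diagonal d) := by
      intro σ d
      have e : σ.permMatrix F * Matrix.diagonal d = Matrix.diagonal (d ∘ σ) * σ.permMatrix F := by
        ext a b
        by_cases hab : σ a = b <;> simp [Equiv.Perm.permMatrix, PEquiv.toMatrix_apply, Equiv.toPEquiv_apply, hab]
      have hu : φ (σ.permMatrix F) ≠ 0 := by
        intro h0
        have hi : σ.permMatrix F * Equiv.Perm.permMatrix F σ⁻¹ = 1 := by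
          simp [← Matrix.permMatrix_mul]
        have := congrArg φ hi
        rw [hφ, h0, zero_mul, h1] at this
        exact zero_ne_one this
      have := congrArg φ e
      rw [hφ, hφ] at this
      exact mul_right_cancel₀ hu (by rw [← this]; ring)
    have h2 : (2:F) ^ mi i = 2 ^ mi j := by
      rw [← hmi i 2, ← hmi j 2, ← hcomm (Equiv.swap i j) (Function.update 1 j 2)]
      congr 2
      ext k
      rcases eq_or_ne k i with rfl | hki
      · simp
      · rcases eq_or_ne k j with rfl | hkj
        · simp [hki, Ne.symm hki]
        · simp [hki, hkj, Equiv.swap_apply_of_ne_of_ne hki hkj]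
    have : ((2 ^ mi i : ℕ) : F) = ((2 ^ mi j : ℕ) : F) := by push_cast; exact h2
    exact Nat.pow_right_injective le_rfl (Nat.cast_injective this)
  obtain ⟨m, hm⟩ : ∃ m, ∀ i, mi i = m := by
    rcases isEmpty_or_nonempty (Fin n) with h | h
    · exact ⟨0, fun i => isEmptyElim i⟩
    · exact ⟨mi (Classical.arbitrary _), fun i => hperm _ _⟩
  refine ⟨m, fun x => ?_⟩
  show φm x = _
  obtain ⟨L, L', D, hx⟩ := Matrix.Pivot.exists_list_transvec_mul_diagonal_mul_list_transvec x
  have hL : ∀ L : List (Matrix.TransvectionStruct (Fin n) F), φm (L.map Matrix.TransvectionStruct.toMatrix).prod = 1 := by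
    intro L; induction L with
    | nil => simp
    | cons a t ih => rw [List.map_cons, List.prod_cons, map_mul, ih, mul_one]; exact htr a
  rw [hx, map_mul, map_mul, hL, hL, Matrix.det_mul, Matrix.det_mul, Matrix.TransvectionStruct.det_toMatrix_prod,
    Matrix.TransvectionStruct.det_toMatrix_prod, Matrix.det_diagonal, one_mul, mul_one, one_mul, mul_one]
  have hD : ∀ S : Finset (Fin n), φm (Matrix.diagonal (fun k => if k ∈ S then D k else 1)) = ∏ k ∈ S, D k ^ m := by
    intro S
    induction S using Finset.induction_on with
    | empty => simp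
    | insert a T ha ih =>
      rw [Finset.prod_insert ha, ← ih, ← hm a, ← hmi a (D a)]
      show φ _ = φ _ * φ _
      rw [← hφ, Matrix.diagonal_mul_diagonal]
      congr 2
      ext k; by_cases hk : k = a
      · subst hk; simp [ha]
      · simp [hk]
  have := hD Finset.univ
  simp only [Finset.mem_univ, if_true] at this
  rw [this, Finset.prod_pow]

end Groth.Agent.S18544
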