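import Groth.Statements.S18545
import Mathlib

set_option autoImplicit false
set_option backward.isDefEq.respectTransparency.types false
set_option maxHeartbeats 1000000
set_option linter.all false
universe u
open AbVar

namespace Groth.Agent.S18545
open Groth.Agent

/-- A step in the proof of Tate's isogeny result over finite fields, in linear-algebra form. Let K be a
field and V a K-vector space of finite dimension 2g carrying a nondegenerate alternating bilinear
form e. Let F be a K-subalgebra of End(V) which is isomorphic as a K-algebra to a finite product K ×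
⋯ × K and which is spanned over K by a set S of similitudes of e (for each s in S there is a nonzero
scalar c with e(s x, s y) = c·e(x, y) for all x, y). Let D be a set of endomorphisms of V such that
every F-stable isotropic subspace W of dimension g (a maximal isotropic subspace) is D-stable. Then
every F-stable isotropic subspace of V is D-stable. (In the application V is the rational ℓ-adic
Tate module of an abelian variety over a finite field with the Riemann form of a polarisation, F the
algebra generated by the Galois group, split for the chosen ℓ, and D the commutant of the image of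
the endomorphism algebra; the hypothesis on maximal isotropic subspaces is the step obtained from
the finiteness of isomorphism classes.) -/
theorem result (K : Type u) [Field K]
    (V : Type u) [AddCommGroup V] [Module K V] [FiniteDimensional K V] (g : ℕ) (hV : Module.finrank K V = 2 * g)
    (e : LinearMap.BilinForm K V) (he : e.IsAlt) (hnd : e.Nondegenerate)
    (F : Subalgebra K (Module.End K V)) (r : ℕ) (hF : Nonempty (F ≃ₐ[K] (Fin r → K)))
    (S : Set (Module.End K V)) (hS : Submodule.span K S = Subalgebra.toSubmodule F)
    (hsim : ∀ s ∈ S, ∃ c : K, c ≠ 0 ∧ ∀ x y : V, e (s x) (s y) = c * e x y)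
    (D : Set (Module.End K V))
    (hmax : ∀ W : Submodule K V, (∀ f ∈ F, ∀ w ∈ W, f w ∈ W) → (∀ x ∈ W, ∀ y ∈ W, e x y = 0) →
      Module.finrank K W = g → ∀ d ∈ D, ∀ w ∈ W, d w ∈ W)
    (W : Submodule K V) (hWF : ∀ f ∈ F, ∀ w ∈ W, f w ∈ W) (hWiso : ∀ x ∈ W, ∀ y ∈ W, e x y = 0) :
    ∀ d ∈ D, ∀ w ∈ W, d w ∈ W := by
  classical
  obtain ⟨φ⟩ := hF
  let P : Fin r → Module.End K V := fun i => (φ.symm (Pi.single i 1) : F)
  have hPF : ∀ i, P i ∈ F := fun i => (φ.symm (Pi.single i 1)).2
  have hsum : ∀ v : V, v = ∑ i, P i v := fun v => by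
    have h : (∑ i, φ.symm (Pi.single i 1) : F) = 1 := by
      rw [← map_sum, Finset.univ_sum_single (fun _ : Fin r => (1:K))]; exact map_one _
    have h2 := congrArg (fun f : F => (f : Module.End K V) v) h
    simp only [AddSubmonoidClass.coe_finset_sum, LinearMap.sum_apply, OneMemClass.coe_one, Module.End.one_apply] at h2
    exact h2.symm
  have heig : ∀ i, ∀ f : Module.End K V, ∀ hf : f ∈ F, ∀ v : V, f (P i v) = φ ⟨f, hf⟩ i • P i v := by
    intro i f hf v
    have h : (⟨f, hf⟩ : F) * φ.symm (Pi.single i 1) = φ ⟨f, hf⟩ i • φ.symm (Pi.single i 1) := by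
      apply φ.injective
      rw [map_mul, map_smul, AlgEquiv.apply_symm_apply]
      ext j
      by_cases hj : j = i
      · subst hj; simp
      · simp [hj]
    exact congrArg (fun g : F => (g : Module.End K V) v) h
  suffices key : ∀ n, ∀ W : Submodule K V, g - Module.finrank K W = n → (∀ f ∈ F, ∀ w ∈ W, f w ∈ W) →
      (∀ x ∈ W, ∀ y ∈ W, e x y = 0) → ∀ x : V,
      (∀ W' : Submodule K V, W ≤ W' → (∀ f ∈ F, ∀ w ∈ W', f w ∈ W') → (∀ x ∈ W', ∀ y ∈ W', e x y = 0) →
        Module.finrank K W' = g → x ∈ W') → x ∈ W by
    exact fun d hd w hw => key _ W rfl hWF hWiso (d w) fun W' hle hF' hiso hg => hmax W' hF' hiso hg d hd w (hle hw)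
  intro n
  induction n using Nat.strong_induction_on with
  | _ n ih =>
    intro W hn hWF hWiso x hx
    have hdim : Module.finrank K (e.orthogonal W) = 2 * g - Module.finrank K W := by
      rw [LinearMap.BilinForm.finrank_orthogonal hnd, hV]
    have hle : W ≤ e.orthogonal W := fun u hu w hw => hWiso w hw u hu
    have hWg : Module.finrank K W ≤ g := by
      have := Submodule.finrank_mono hle
      omega
    rcases hWg.lt_or_eq with hlt | heq
    swap
    · exact hx W le_rfl hWF hWiso heq
    -- the orthogonal is stable
    have hU : ∀ f ∈ F, ∀ u ∈ e.orthogonal W, f u ∈ e.orthogonal W := by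
      intro f hf u hu
      have hfS : f ∈ Submodule.span K S := hS ▸ hf
      clear hf
      induction hfS using Submodule.span_induction with
      | mem s hs =>
        intro w hw
        have hsF : s ∈ F := by
          show s ∈ Subalgebra.toSubmodule F
          rw [← hS]; exact Submodule.subset_span hs
        obtain ⟨c, hc, hcs⟩ := hsim s hs
        have hinj : Function.Injective s := by
          rw [← LinearMap.ker_eq_bot, LinearMap.ker_eq_bot']
          intro v hv
          refine hnd.1 v fun y => ?_
          have := hcs v y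
          rw [hv] at this
          simpa [hc] using this.symm
        let sW : W →ₗ[K] W := s.restrict (hWF s hsF)
        have : Function.Injective sW := fun a b h => Subtype.ext (hinj (congrArg Subtype.val h))
        obtain ⟨⟨w', hw'⟩, h'⟩ := LinearMap.surjective_of_injective this ⟨w, hw⟩
        have h'' : s w' = w := congrArg Subtype.val h'
        rw [← h'', hcs, hu w' hw', mul_zero]
      | zero => exact Submodule.zero_mem _
      | add a b _ _ ha hb => exact Submodule.add_mem _ ha hb
      | smul c a _ ha => exact Submodule.smul_mem _ c ha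
    have step : ∀ i, ∀ u ∈ e.orthogonal W, P i u ∉ W → x ∈ W ⊔ K ∙ P i u := by
      intro i u hu hnot
      have hy : P i u ∈ e.orthogonal W := hU _ (hPF i) u hu
      have hsF : ∀ f ∈ F, ∀ w ∈ W ⊔ K ∙ P i u, f w ∈ W ⊔ K ∙ P i u := by
        intro f hf w hw
        obtain ⟨a, ha, b, hb, rfl⟩ := Submodule.mem_sup.1 hw
        obtain ⟨c, rfl⟩ := Submodule.mem_span_singleton.1 hb
        rw [map_add, map_smul, heig i f hf, smul_smul]
        exact Submodule.add_mem_sup (hWF f hf a ha) (Submodule.smul_mem _ _ (Submodule.mem_span_singleton_self _))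
      have hiso' : ∀ a ∈ W ⊔ K ∙ P i u, ∀ b ∈ W ⊔ K ∙ P i u, e a b = 0 := by
        intro a ha b hb
        obtain ⟨a1, ha1, a2, ha2, rfl⟩ := Submodule.mem_sup.1 ha
        obtain ⟨b1, hb1, b2, hb2, rfl⟩ := Submodule.mem_sup.1 hb
        obtain ⟨c, rfl⟩ := Submodule.mem_span_singleton.1 ha2
        obtain ⟨d, rfl⟩ := Submodule.mem_span_singleton.1 hb2
        simp [hWiso a1 ha1 b1 hb1, hy a1 ha1, he.isRefl _ _ (hy b1 hb1), he.eq_of_add_add_eq_zero, he (P i u)]
      have hlt' : Module.finrank K W < Module.finrank K ↥(W ⊔ K ∙ P i u) :=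
        Submodule.finrank_lt_finrank_of_lt (lt_of_le_of_ne le_sup_left fun h => hnot (h ▸ Submodule.mem_sup_right (Submodule.mem_span_singleton_self _)))
      exact ih _ (by omega) _ rfl hsF hiso' x fun W' h1 h2 h3 h4 => hx W' (le_sup_left.trans h1) h2 h3 h4
    obtain ⟨i, u, hu, hi⟩ : ∃ i, ∃ u ∈ e.orthogonal W, P i u ∉ W := by
      by_contra hno
      push Not at hno
      have : e.orthogonal W ≤ W := fun u hu => by rw [hsum u]; exact W.sum_mem fun i _ => hno i u hu
      have := Submodule.finrank_mono this
      omega
    obtain ⟨j, v, hv, hj⟩ : ∃ j, ∃ v ∈ e.orthogonal W, P j v ∉ W ⊔ K ∙ P i u := by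
      by_contra hno
      push Not at hno
      have : e.orthogonal W ≤ W ⊔ K ∙ P i u := fun u hu => by rw [hsum u]; exact Submodule.sum_mem _ fun i _ => hno i u hu
      have h1 := (Submodule.finrank_mono this).trans (Submodule.finrank_add_le_finrank_add_finrank _ _)
      have h2 : Module.finrank K (K ∙ P i u) ≤ 1 := by
        simpa using finrank_span_le_card (R := K) ({P i u} : Set V)
      omega
    by_contra hxW
    obtain ⟨a, ha, b, hb, hab⟩ := Submodule.mem_sup.1 (step i u hu hi)
    obtain ⟨a', ha', b', hb', hab'⟩ := Submodule.mem_sup.1 (step j v hv fun h => hj (Submodule.mem_sup_left h))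
    obtain ⟨c, rfl⟩ := Submodule.mem_span_singleton.1 hb'
    rcases eq_or_ne c 0 with rfl | hc
    · apply hxW; rw [← hab']; simpa using ha'
    · apply hj
      have : c • P j v ∈ W ⊔ K ∙ P i u := by
        have : c • P j v = (a - a') + b := by rw [sub_add_eq_add_sub, hab, ← hab', add_sub_cancel_left]
        rw [this]
        exact Submodule.add_mem_sup (W.sub_mem ha ha') hb
      exact (Submodule.smul_mem_iff _ hc).1 this

end Groth.Agent.S18545
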