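import Groth.Statements.S18580
import Mathlib

set_option autoImplicit false
set_option backward.isDefEq.respectTransparency.types false
universe u
open EtBase

namespace Groth.Agent.S18580

open AlgebraicGeometry CategoryTheory in
/-- Let Y be a connected scheme and f : X ⟶ Y a separated morphism that is unramified (locally of finite
type and formally unramified). Then the sections of f correspond bijectively to the connected
components of X mapping isomorphically onto Y: there is a bijection from the set of sections s of f
to the set of open subschemes U of X whose underlying set is a connected component of X and for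
which U ⟶ X ⟶ Y is an isomorphism, sending s to its image. In particular every section is an
isomorphism onto a connected component of X and is determined by its image. (A connected component
mapping isomorphically onto Y is the image of a section, hence open, so restricting to open
components loses nothing. The published statement also assumes Y Noetherian; that hypothesis plays
no role and is omitted.) -/
theorem result {X Y : Scheme.{u}} (f : X ⟶ Y)
    [FormallyUnramified f] [LocallyOfFiniteType f] [IsSeparated f] [ConnectedSpace Y] :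
    ∃ e : {s : Y ⟶ X // s ≫ f = 𝟙 Y} ≃
        {U : X.Opens // (∃ x : X, (U : Set X) = connectedComponent x) ∧ IsIso (U.ι ≫ f)},
      ∀ s : {s : Y ⟶ X // s ≫ f = 𝟙 Y}, ((e s).1 : Set X) = Set.range s.1 := by
  classical
  have hoi : ∀ s : Y ⟶ X, s ≫ f = 𝟙 Y → IsOpenImmersion s ∧ IsClosedImmersion s := fun s hs => by
    haveI : IsClosedImmersion (s ≫ f) := by rw [hs]; infer_instance
    haveI : IsOpenImmersion (s ≫ f) := by rw [hs]; infer_instance
    refine ⟨?_, IsClosedImmersion.of_comp s f⟩
    haveI : MorphismProperty.HasOfPostcompProperty @IsOpenImmersion (@FormallyUnramified ⊓ @LocallyOfFiniteType : MorphismProperty Scheme.{u}) :=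
      MorphismProperty.hasOfPostcompProperty_iff_le_diagonal.2 fun _ _ g ⟨h1, h2⟩ => by
        haveI := h1; haveI := h2
        show IsOpenImmersion (Limits.pullback.diagonal g)
        infer_instance
    exact MorphismProperty.of_postcomp @IsOpenImmersion s f (W' := @FormallyUnramified ⊓ @LocallyOfFiniteType) ⟨inferInstance, inferInstance⟩ inferInstance
  have key : ∀ s : {s : Y ⟶ X // s ≫ f = 𝟙 Y}, ∃ U : {U : X.Opens // (∃ x : X, (U : Set X) = connectedComponent x) ∧ IsIso (U.ι ≫ f)}, (U.1 : Set X) = Set.range s.1 := fun s => by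
    obtain ⟨ho, hc⟩ := hoi s.1 s.2
    haveI := ho; haveI := hc
    refine ⟨⟨s.1.opensRange, ⟨s.1 (Classical.arbitrary Y), ?_⟩, ?_⟩, rfl⟩
    · show Set.range s.1 = _
      refine Set.Subset.antisymm ?_ ?_
      · exact (isPreconnected_range s.1.continuous).subset_connectedComponent ⟨_, rfl⟩
      · exact IsClopen.connectedComponent_subset ⟨s.1.isClosedEmbedding.isClosed_range, s.1.isOpenEmbedding.isOpen_range⟩ ⟨_, rfl⟩
    · haveI : IsIso (s.1.isoOpensRange.hom ≫ s.1.opensRange.ι ≫ f) := by
        rw [← Category.assoc, Scheme.Hom.isoOpensRange_hom_ι, s.2]; infer_instance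
      exact IsIso.of_isIso_comp_left s.1.isoOpensRange.hom _
  choose e he using key
  let g : {U : X.Opens // (∃ x : X, (U : Set X) = connectedComponent x) ∧ IsIso (U.ι ≫ f)} → {s : Y ⟶ X // s ≫ f = 𝟙 Y} := fun U =>
    haveI := U.2.2
    ⟨inv (U.1.ι ≫ f) ≫ U.1.ι, by rw [Category.assoc, IsIso.inv_hom_id]⟩
  have hgr : ∀ U, Set.range (g U).1 = (U.1 : Set X) := fun U => by
    haveI := U.2.2
    show Set.range (inv (U.1.ι ≫ f) ≫ U.1.ι) = _
    rw [show ⇑(inv (U.1.ι ≫ f) ≫ U.1.ι) = ⇑U.1.ι ∘ ⇑(inv (U.1.ι ≫ f)) from rfl, Set.range_comp, Set.range_eq_univ.2 (inv (U.1.ι ≫ f)).surjective, Set.image_univ]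
    exact U.1.range_ι
  refine ⟨⟨e, g, fun s => ?_, fun U => Subtype.ext (SetLike.coe_injective ((he _).trans (hgr U)))⟩, he⟩
  have := (e s).2.2
  obtain ⟨ho, hc⟩ := hoi s.1 s.2
  haveI := ho
  apply Subtype.ext
  show inv ((e s).1.ι ≫ f) ≫ (e s).1.ι = s.1
  rw [IsIso.inv_comp_eq, Category.assoc]
  let l := IsOpenImmersion.lift s.1 (e s).1.ι (by rw [Scheme.Opens.range_ι, he])
  have hl : l ≫ s.1 = (e s).1.ι := IsOpenImmersion.lift_fac _ _ _
  rw [← hl, Category.assoc, reassoc_of% s.2]

end Groth.Agent.S18580
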