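import Groth.Statements.S18587
import Mathlib
import Groth.Agent.Lib.H6.WittDisjoint

set_option autoImplicit false
set_option backward.isDefEq.respectTransparency.types false
set_option maxHeartbeats 1000000
set_option linter.all false
universe u
open CAlg

namespace Groth.Agent.S18587
open Groth.Agent

/-- Affine form with D = 0: let p be a prime, ℓ ≥ 1 an integer not divisible by p and n ≥ 1. Let A → B
be an injective ring homomorphism of integral domains of characteristic p such that B is spanned as
an A-module by finitely many elements y with y ^ ℓ in the image of A (a weakly ℓ-cyclic extension).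
Then for every p-typical Witt vector ζ over B in the image of the n-fold Verschiebung there is a
nonzero a in A such that the product of the Teichmüller representative of (the image of) a with ζ
lies in the ideal of W(B) generated by the images of the n-fold Verschiebungs of Witt vectors over
A. (This is the case D = 0 of the published statement, written for the coordinate rings; the
published statement allows a twist by a real Weil divisor D and assumes the rings excellent and
normal, hypotheses which the case D = 0 does not use.) -/
theorem result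
    (p : ℕ) [Fact p.Prime] (ℓ n : ℕ) (hℓ : 0 < ℓ) (hpℓ : ¬ p ∣ ℓ) (hn : 0 < n)
    (A B : Type u) [CommRing A] [CommRing B] [IsDomain A] [IsDomain B] [Algebra A B]
    [CharP A p] [CharP B p] (hinj : Function.Injective (algebraMap A B))
    (y : Finset B) (hspan : Submodule.span A (y : Set B) = ⊤)
    (hpow : ∀ b ∈ y, b ^ ℓ ∈ Set.range (algebraMap A B))
    (ζ : WittVector p B)
    (hζ : ∃ η : WittVector p B, (⇑(WittVector.verschiebung : WittVector p B →+ WittVector p B))^[n] η = ζ) :
    ∃ a : A, a ≠ 0 ∧ WittVector.teichmuller p (algebraMap A B a) * ζ ∈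
      Ideal.span (Set.range (fun x : WittVector p A =>
        WittVector.map (algebraMap A B) ((⇑(WittVector.verschiebung : WittVector p A →+ WittVector p A))^[n] x))) := by
    classical
    obtain ⟨η, rfl⟩ := hζ
    let Y : Finset B := y.filter (· ≠ 0)
    have hY : Submodule.span A (Y : Set B) = ⊤ := by
      rw [← hspan]
      refine le_antisymm (Submodule.span_mono fun z hz => (Finset.mem_filter.1 hz).1) (Submodule.span_le.2 fun z hz => ?_)
      by_cases h0 : z = 0
      · rw [h0]; exact zero_mem _
      · exact Submodule.subset_span (Finset.mem_filter.2 ⟨hz, h0⟩)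
    have hα' : ∀ b : B, ∃ α : A, b ∈ Y → b ^ ℓ = algebraMap A B α ∧ α ≠ 0 := by
      intro b
      by_cases hb : b ∈ Y
      · obtain ⟨α, hα⟩ := hpow b (Finset.mem_filter.1 hb).1
        refine ⟨α, fun _ => ⟨hα.symm, fun h0 => (Finset.mem_filter.1 hb).2 ?_⟩⟩
        rw [h0, map_zero] at hα
        exact eq_zero_of_pow_eq_zero hα.symm
      · exact ⟨0, fun h => absurd h hb⟩
    choose α hα using hα'
    let a : A := ∏ b ∈ Y, α b
    have ha : a ≠ 0 := Finset.prod_ne_zero_iff.2 fun b hb => (hα b hb).2
    have hs : ∀ i : ℕ, ∃ s j : ℕ, s < ℓ + 1 ∧ j ≤ p ^ (n + i) ∧ s * p ^ (n + i) = 1 + j * ℓ := by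
      intro i
      have hP : 0 < p ^ (n + i) := pow_pos (Fact.out : p.Prime).pos _
      rcases (show ℓ = 1 ∨ 1 < ℓ by omega) with rfl | hl
      · exact ⟨1, p ^ (n + i) - 1, by omega, by omega, by omega⟩
      · have hcop : Nat.Coprime (p ^ (n + i)) ℓ :=
          Nat.Coprime.pow_left _ ((Fact.out : p.Prime).coprime_iff_not_dvd.2 hpℓ)
        obtain ⟨m, hm, hm'⟩ := Nat.exists_mul_mod_eq_one_of_coprime hcop hl
        refine ⟨m, p ^ (n + i) * m / ℓ, by omega, ?_, ?_⟩
        · exact Nat.div_le_of_le_mul (by rw [mul_comm ℓ]; exact Nat.mul_le_mul_left _ hm.le)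
        · have := Nat.div_add_mod (p ^ (n + i) * m) ℓ
          rw [hm', mul_comm (p ^ (n + i)) m] at this
          rw [mul_comm (p ^ (n + i)) m, mul_comm (_ / ℓ) ℓ]
          omega
    choose s j hsl hjP hsj using hs
    have hc : ∀ b ∈ Y, ∀ i, ∃ c : A, algebraMap A B (a ^ p ^ (n + i)) * b = algebraMap A B c * b ^ (s i * p ^ (n + i)) := by
      intro b hb i
      refine ⟨(∏ z ∈ Y.erase b, α z) ^ p ^ (n + i) * α b ^ (p ^ (n + i) - j i), ?_⟩
      have hab : a = α b * ∏ z ∈ Y.erase b, α z := (Finset.mul_prod_erase Y α hb).symm
      rw [hsj, pow_add b 1, pow_one b, mul_comm (j i) ℓ, pow_mul, (hα b hb).1, map_mul, map_pow, hab, map_pow, map_mul, mul_pow, map_pow]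
      have e : algebraMap A B (α b) ^ p ^ (n + i) = algebraMap A B (α b) ^ (p ^ (n + i) - j i) * algebraMap A B (α b) ^ (j i) := by
        rw [← pow_add, Nat.sub_add_cancel (hjP i)]
      rw [e]
      ring
    choose! c hc using hc
    obtain ⟨g, hg⟩ := H6.WittDisjoint.exists_decomp Y hY η
    have hVmap : ∀ (x : WittVector p A), (⇑(WittVector.verschiebung : WittVector p B →+ WittVector p B))^[n]
        (WittVector.map (algebraMap A B) x) =
        WittVector.map (algebraMap A B) ((⇑(WittVector.verschiebung : WittVector p A →+ WittVector p A))^[n] x) := by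
      intro x
      clear hn hg hc c hsj hjP hsl s j
      induction n with
      | zero => rfl
      | succ n ih => rw [Function.iterate_succ_apply', Function.iterate_succ_apply', WittVector.map_verschiebung, ← ih]
    refine ⟨a, ha, ?_⟩
    rw [mul_comm, WittVector.iterate_verschiebung_mul_left, H6.WittDisjoint.frobenius_iterate_teichmuller, mul_comm, hg,
      Finset.mul_sum, H6.WittDisjoint.verschiebung_iterate_sum]
    refine Ideal.sum_mem _ fun b hb => ?_
    have hsplit : WittVector.teichmuller p (algebraMap A B a ^ p ^ n) * WittVector.mk p (fun i => g b i • b) =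
        ∑ t ∈ Finset.range (ℓ + 1), WittVector.map (algebraMap A B) (WittVector.mk p fun i => if s i = t then c b i * g b i else 0) *
          (⇑(WittVector.frobenius : WittVector p B →+* WittVector p B))^[n] (WittVector.teichmuller p (b ^ t)) := by
      simp only [H6.WittDisjoint.frobenius_iterate_teichmuller]
      have e : ∀ t, WittVector.map (algebraMap A B) (WittVector.mk p fun i => if s i = t then c b i * g b i else 0) *
          WittVector.teichmuller p ((b ^ t) ^ p ^ n) =
          WittVector.mk p fun i => if s i = t then algebraMap A B (g b i) * (algebraMap A B (c b i) * b ^ (t * p ^ (n + i))) else 0 := by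
        intro t
        ext i
        rw [mul_comm, H6.WittDisjoint.coeff_teichmuller_mul, WittVector.map_coeff, WittVector.coeff_mk, WittVector.coeff_mk]
        split_ifs
        · rw [map_mul, ← pow_mul, ← pow_mul, ← pow_add, mul_comm t, mul_comm (p ^ (n + i))]
          ring
        · simp
      rw [Finset.sum_congr rfl fun t _ => e t, H6.WittDisjoint.sum_disjoint]
      · ext i
        rw [H6.WittDisjoint.coeff_teichmuller_mul, WittVector.coeff_mk, WittVector.coeff_mk, Finset.sum_ite_eq,
          if_pos (Finset.mem_range.2 (hsl i)), Algebra.smul_def, ← hc b hb i, ← pow_mul, ← pow_add, map_pow]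
        ring
      · intro i x _ z _ hx hz
        have hx' : s i = x := by by_contra h; exact hx (if_neg h)
        have hz' : s i = z := by by_contra h; exact hz (if_neg h)
        rw [← hx', ← hz']
    rw [hsplit, H6.WittDisjoint.verschiebung_iterate_sum]
    refine Ideal.sum_mem _ fun t _ => ?_
    rw [← WittVector.iterate_verschiebung_mul_left, hVmap]
    exact Ideal.mul_mem_right _ _ (Ideal.subset_span ⟨_, rfl⟩)

end Groth.Agent.S18587
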