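import Groth.Statements.S18589
import Mathlib

set_option autoImplicit false
open CAlg

namespace Groth.Agent.S18589
open MvPolynomial WittVector

/-- For a prime p and every natural number n, the n-th Witt addition polynomial over the integers (the
polynomial S_n with (x + y)_n = S_n(x_0, y_0, …, x_n, y_n) for p-typical Witt vectors x, y) is
weighted homogeneous of weighted degree p ^ n for the grading in which the variables x_i and y_i
have weight p ^ i. -/
theorem result (p : ℕ) [Fact p.Prime] (n : ℕ) :
    MvPolynomial.IsWeightedHomogeneous (fun i : Fin 2 × ℕ => p ^ i.2) (WittVector.wittAdd p n) (p ^ n) := by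
  let w : Fin 2 × ℕ → ℕ := fun i => p ^ i.2
  suffices h : IsWeightedHomogeneous w (wittStructureRat p (X 0 + X 1 : MvPolynomial (Fin 2) ℚ) n) (p ^ n) by
    intro d hd
    apply h
    have h1 := map_wittStructureInt p (X 0 + X 1 : MvPolynomial (Fin 2) ℤ) n
    rw [map_add, map_X, map_X] at h1
    rw [← h1, coeff_map]
    exact fun h0 => hd (show MvPolynomial.coeff d (wittStructureInt p (X 0 + X 1) n) = 0 from Int.cast_injective (α := ℚ) (by simpa using h0))
  induction n using Nat.strong_induction_on with
  | _ n ih =>
    rw [wittStructureRat_rec]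
    have hC : ∀ (r : ℚ) (φ : MvPolynomial (Fin 2 × ℕ) ℚ) (m : ℕ), IsWeightedHomogeneous w φ m → IsWeightedHomogeneous w (C r * φ) m := fun r φ m h => by
      simpa using (isWeightedHomogeneous_C w r).mul h
    refine hC _ _ _ (IsWeightedHomogeneous.sub ?_ ?_)
    · have hW : ∀ b : Fin 2, IsWeightedHomogeneous w (rename (fun i => (b, i)) (wittPolynomial p ℚ n)) (p ^ n) := by
        intro b
        rw [wittPolynomial_eq_sum_C_mul_X_pow, map_sum]
        refine IsWeightedHomogeneous.sum _ _ _ fun i hi => ?_
        rw [map_mul, map_pow, map_pow, map_pow, rename_C, rename_X, ← map_pow]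
        refine hC _ _ _ ?_
        have h2 := (isWeightedHomogeneous_X ℚ w (b, i)).pow (p ^ (n - i))
        have h3 : i ≤ n := Nat.lt_succ_iff.1 (Finset.mem_range.1 hi)
        rwa [show p ^ (n - i) • w (b, i) = p ^ n by simp [w, ← pow_add, Nat.sub_add_cancel h3]] at h2
      rw [map_add, bind₁_X_right, bind₁_X_right]
      exact (hW 0).add (hW 1)
    · refine IsWeightedHomogeneous.sum _ _ _ fun i hi => ?_
      refine hC _ _ _ ?_
      have h2 := (ih i (Finset.mem_range.1 hi)).pow (p ^ (n - i))
      have h3 : i ≤ n := (Finset.mem_range.1 hi).le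
      rwa [show p ^ (n - i) • p ^ i = p ^ n by simp [← pow_add, Nat.sub_add_cancel h3]] at h2

end Groth.Agent.S18589
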