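import Groth.Statements.S18590
import Mathlib
import Groth.Agent.Lib.H2WittTeich

set_option autoImplicit false
universe u
open CAlg

namespace Groth.Agent.S18590
set_option linter.style.haveILetI false

/-- Let p be a prime, A a commutative ring, K a commutative A-algebra of characteristic p and M_0, M_1,
M_2, … A-submodules of K with M_i · M_j ⊆ M_(i+j) for all i, j. Then the subset of the ring W(K) of
p-typical Witt vectors consisting of the vectors whose n-th coordinate lies in M_(p^n) for every n
is closed under addition and under multiplication by the image of W(A) under W of the structure map;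
in other words it is a W(A)-submodule of W(K). (The published statement is the case of an integral
normal noetherian scheme X of characteristic p with function field K, an affine open subset U with
coordinate ring A, and M_k the module of sections over U of the divisorial sheaf of k·D for a real
Weil divisor D on X; these form such a multiplicative family, and the subset is then the module of
sections over U of the Witt divisorial sheaf of D inside W(K). Only the two stated properties of
that family enter.) -/
theorem result
    (p : ℕ) [Fact p.Prime] (A K : Type u) [CommRing A] [CommRing K] [Algebra A K] [CharP K p]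
    (M : ℕ → Submodule A K)
    (hmul : ∀ (i j : ℕ) (a b : K), a ∈ M i → b ∈ M j → a * b ∈ M (i + j)) :
    (∀ φ ψ : WittVector p K, (∀ n : ℕ, φ.coeff n ∈ M (p ^ n)) → (∀ n : ℕ, ψ.coeff n ∈ M (p ^ n)) →
        ∀ n : ℕ, (φ + ψ).coeff n ∈ M (p ^ n)) ∧
      (∀ (x : WittVector p A) (φ : WittVector p K), (∀ n : ℕ, φ.coeff n ∈ M (p ^ n)) →
        ∀ n : ℕ, (WittVector.map (algebraMap A K) x * φ).coeff n ∈ M (p ^ n)) := by
  classical
  let T : Subring (Polynomial K) :=
    { carrier := {f | f.coeff 0 ∈ (algebraMap A K).range ∧ ∀ i, 0 < i → f.coeff i ∈ M i}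
      one_mem' := ⟨by simp, fun i hi => by simp [Polynomial.coeff_one, hi.ne']⟩
      zero_mem' := ⟨by simp, fun i _ => by simp⟩
      add_mem' := fun {f g} hf hg => ⟨by rw [Polynomial.coeff_add]; exact add_mem hf.1 hg.1,
        fun i hi => by rw [Polynomial.coeff_add]; exact add_mem (hf.2 i hi) (hg.2 i hi)⟩
      neg_mem' := fun {f} hf => ⟨by rw [Polynomial.coeff_neg]; exact neg_mem hf.1,
        fun i hi => by rw [Polynomial.coeff_neg]; exact neg_mem (hf.2 i hi)⟩
      mul_mem' := fun {f g} hf hg => ⟨by rw [Polynomial.mul_coeff_zero]; exact mul_mem hf.1 hg.1, fun i hi => by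
        rw [Polynomial.coeff_mul]
        refine sum_mem fun ab hab => ?_
        obtain ⟨a, b⟩ := ab
        rw [Finset.HasAntidiagonal.mem_antidiagonal] at hab
        simp only at hab ⊢
        rcases Nat.eq_zero_or_pos a with ha | ha
        · obtain ⟨c, hc⟩ := hf.1
          subst ha
          rw [← hc, ← Algebra.smul_def]
          exact (M b).smul_mem c (hg.2 b (by omega)) |> fun h => by rwa [show b = i by omega] at h ⊢
        rcases Nat.eq_zero_or_pos b with hb | hb
        · obtain ⟨c, hc⟩ := hg.1
          subst hb
          rw [← hc, mul_comm, ← Algebra.smul_def, show i = a by omega]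
          exact (M a).smul_mem c (hf.2 a ha)
        · exact hab ▸ hmul a b _ _ (hf.2 a ha) (hg.2 b hb)⟩ }
  have hlift : ∀ φ : WittVector p K, (∀ n : ℕ, φ.coeff n ∈ M (p ^ n)) →
      ∃ w : WittVector p T, WittVector.map T.subtype w = WittVector.teichmuller p (Polynomial.X : Polynomial K) * WittVector.map Polynomial.C φ := by
    intro φ hφ
    refine ⟨WittVector.mk p fun n => ⟨Polynomial.monomial (p ^ n) (φ.coeff n), ?_, fun i hi => ?_⟩, ?_⟩
    · rw [Polynomial.coeff_monomial, if_neg (pow_ne_zero _ (Fact.out : p.Prime).ne_zero)]; exact zero_mem _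
    · rw [Polynomial.coeff_monomial]
      split_ifs with h
      · exact h ▸ hφ n
      · exact zero_mem _
    · refine WittVector.ext fun n => ?_
      rw [WittVector.map_coeff, Groth.Agent.H2WittTeich.teichmuller_mul_coeff, WittVector.map_coeff, ← Polynomial.C_mul_X_pow_eq_monomial.symm.trans (Polynomial.X_pow_mul (n := p ^ n)).symm]
      simp [Polynomial.X_pow_mul, Polynomial.C_mul_X_pow_eq_monomial]
  have hout : ∀ (φ : WittVector p K) (w : WittVector p T),
      WittVector.map T.subtype w = WittVector.teichmuller p (Polynomial.X : Polynomial K) * WittVector.map Polynomial.C φ →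
      ∀ n, φ.coeff n ∈ M (p ^ n) := by
    intro φ w hw n
    have h := congrArg (fun z : WittVector p (Polynomial K) => (z.coeff n).coeff (p ^ n)) hw
    simp only [WittVector.map_coeff, Groth.Agent.H2WittTeich.teichmuller_mul_coeff, Polynomial.X_pow_mul,
      Polynomial.coeff_C_mul, Polynomial.coeff_X_pow, if_true, mul_one] at h
    rw [← h]
    exact (w.coeff n).2.2 (p ^ n) (pow_pos (Fact.out : p.Prime).pos _)
  refine ⟨fun φ ψ hφ hψ => ?_, fun x φ hφ => ?_⟩
  · obtain ⟨a, ha⟩ := hlift φ hφ
    obtain ⟨b, hb⟩ := hlift ψ hψ
    exact hout (φ + ψ) (a + b) (by rw [map_add, map_add, ha, hb, mul_add])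
  · obtain ⟨a, ha⟩ := hlift φ hφ
    refine hout _ (WittVector.mk p (fun m => (⟨Polynomial.C (algebraMap A K (x.coeff m)), by simp, fun i hi => by simp [Polynomial.coeff_C, hi.ne']⟩ : T)) * a) ?_
    have hc : WittVector.map T.subtype (WittVector.mk p (fun m => (⟨Polynomial.C (algebraMap A K (x.coeff m)), by simp, fun i hi => by simp [Polynomial.coeff_C, hi.ne']⟩ : T))) = WittVector.map Polynomial.C (WittVector.map (algebraMap A K) x) :=
      WittVector.ext fun m => by simp [WittVector.map_coeff]
    rw [map_mul, hc, ha, map_mul, mul_left_comm]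

end Groth.Agent.S18590
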