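import Groth.Statements.S18614
import Mathlib


set_option autoImplicit false
universe u v
open LinTop

namespace Groth.Agent.S18614

/-- Let k be a field carrying the discrete topology and M a separated topological k-module with a
k-linear topology (the open k-submodules form a basis of neighbourhoods of zero and M is a
topological additive group). For a closed submodule M₁, the perpendicular of the perpendicular of
M₁, both taken with respect to the pairing of M with its continuous dual (the continuous k-linear
maps M → k), is M₁ itself: an element killed by every continuous functional vanishing on M₁ belongs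
to M₁. -/
theorem result (k : Type u) (M : Type v) [Field k]
    [TopologicalSpace k] [DiscreteTopology k] [AddCommGroup M] [Module k M] [TopologicalSpace M]
    [IsTopologicalAddGroup M] [IsLinearTopology k M] [T2Space M]
    (M₁ : Submodule k M) (hM₁ : IsClosed (M₁ : Set M)) (x : M)
    (hx : ∀ φ : M →L[k] k, (∀ m ∈ M₁, φ m = 0) → φ x = 0) : x ∈ M₁ := by
  by_contra hne
  obtain ⟨U, hU, hUsub⟩ := (IsLinearTopology.hasBasis_open_submodule k).mem_iff.1
    ((hM₁.isOpen_compl.preimage (continuous_const_add x)).mem_nhds (by simpa using hne : (0 : M) ∈ (x + ·) ⁻¹' (M₁ : Set M)ᶜ))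
  have hx' : x ∉ M₁ ⊔ U := fun h => by
    obtain ⟨a, ha, b, hb, rfl⟩ := Submodule.mem_sup.1 h
    exact hUsub (neg_mem hb) (by simpa using ha)
  obtain ⟨f, hfx, hf⟩ := Submodule.exists_dual_map_eq_bot_of_notMem hx' inferInstance
  replace hf : ∀ m ∈ M₁ ⊔ U, f m = 0 := fun m hm => (Submodule.mem_bot _).1 (hf ▸ Submodule.mem_map_of_mem hm)
  refine hfx (hx ⟨f, ?_⟩ fun m hm => hf m (Submodule.mem_sup_left hm))
  refine continuous_of_continuousAt_zero f.toAddMonoidHom fun V hV => ?_
  refine Filter.mem_map.2 (Filter.mem_of_superset (hU.mem_nhds (zero_mem _)) fun u hu => ?_)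
  have : f u = 0 := hf u (Submodule.mem_sup_right hu)
  simpa [this] using mem_of_mem_nhds hV

end Groth.Agent.S18614
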