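import Groth.Statements.S18615
import Mathlib


set_option autoImplicit false
universe u v
open LinTop

namespace Groth.Agent.S18615

/-- Let k be a field carrying the discrete topology and M a separated topological k-module with a
k-linear topology (open k-submodules form a basis of neighbourhoods of zero, M a topological
additive group). For closed submodules M₁ ⊆ M₂ there is a short exact sequence 0 → M₂^⊥ → M₁^⊥ →
(M₂/M₁)^* → 0 of plain k-modules, where ⊥ denotes the annihilator in the continuous dual of M and *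
the continuous dual. Stated here as its one non-formal part, surjectivity on the right: every
continuous functional on M₂ (subspace topology) that vanishes on M₁ is the restriction of a
continuous functional on M vanishing on M₁ (continuous functionals on M₂/M₁ being the continuous
functionals on M₂ that kill M₁). -/
theorem result (k : Type u) (M : Type v) [Field k]
    [TopologicalSpace k] [DiscreteTopology k] [AddCommGroup M] [Module k M] [TopologicalSpace M]
    [IsTopologicalAddGroup M] [IsLinearTopology k M] [T2Space M]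
    (M₁ M₂ : Submodule k M) (h₁₂ : M₁ ≤ M₂) (hM₁ : IsClosed (M₁ : Set M))
    (hM₂ : IsClosed (M₂ : Set M)) (ψ : M₂ →L[k] k)
    (hψ : ∀ m : M₂, (m : M) ∈ M₁ → ψ m = 0) :
    ∃ φ : M →L[k] k, (∀ m ∈ M₁, φ m = 0) ∧ ∀ m : M₂, φ (m : M) = ψ m := by
  have hker : IsOpen ((ψ : M₂ → k) ⁻¹' {0}) := (isOpen_discrete _).preimage ψ.continuous
  obtain ⟨V, hV, hVeq⟩ := isOpen_induced_iff.1 hker
  obtain ⟨U, hU, hUsub⟩ := (IsLinearTopology.hasBasis_open_submodule k).mem_iff.1
    (hV.mem_nhds (show (0 : M) ∈ V from (Set.ext_iff.1 hVeq (0 : M₂)).2 (map_zero ψ)))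
  let q : M₂ →ₗ[k] M ⧸ (M₁ ⊔ U) := (M₁ ⊔ U).mkQ.comp M₂.subtype
  have hle : LinearMap.ker q ≤ LinearMap.ker (ψ : M₂ →ₗ[k] k) := by
    intro m hm
    have hm' : (m : M) ∈ M₁ ⊔ U := by simpa [q] using hm
    obtain ⟨a, ha, b, hb, hab⟩ := Submodule.mem_sup.1 hm'
    have hb2 : b ∈ M₂ := by
      have := sub_mem m.2 (h₁₂ ha)
      rwa [← hab, add_sub_cancel_left] at this
    have hm2 : m = ⟨a, h₁₂ ha⟩ + ⟨b, hb2⟩ := Subtype.ext hab.symm
    have hψb : ψ ⟨b, hb2⟩ = 0 := (Set.ext_iff.1 hVeq ⟨b, hb2⟩).1 (hUsub hb)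
    rw [LinearMap.mem_ker, ContinuousLinearMap.coe_coe, hm2, map_add, hψ _ ha, hψb, add_zero]
  obtain ⟨g, hg⟩ := LinearMap.exists_extend (((LinearMap.ker q).liftQ (ψ : M₂ →ₗ[k] k) hle).comp q.quotKerEquivRange.symm.toLinearMap)
  let φ : M →ₗ[k] k := g.comp (M₁ ⊔ U).mkQ
  have hφ0 : ∀ u ∈ M₁ ⊔ U, φ u = 0 := fun u hu => by
    show g ((M₁ ⊔ U).mkQ u) = 0
    rw [Submodule.mkQ_apply, (Submodule.Quotient.mk_eq_zero _).2 hu, map_zero]
  refine ⟨⟨φ, ?_⟩, fun m hm => hφ0 m (Submodule.mem_sup_left hm), fun m => ?_⟩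
  · refine continuous_of_continuousAt_zero φ.toAddMonoidHom fun W hW => ?_
    refine Filter.mem_map.2 (Filter.mem_of_superset (hU.mem_nhds (zero_mem _)) fun u hu => ?_)
    simpa [hφ0 u (Submodule.mem_sup_right hu)] using mem_of_mem_nhds hW
  · have := LinearMap.congr_fun hg ⟨q m, m, rfl⟩
    simp only [LinearMap.comp_apply, Submodule.coe_subtype, LinearEquiv.coe_coe, LinearMap.quotKerEquivRange_symm_apply_image] at this
    exact this

end Groth.Agent.S18615
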