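import Groth.Statements.S18635
import Groth.Agent.Lib.H1GrInjDim
import Mathlib

set_option autoImplicit false
universe u
open GrLC

namespace Groth.Agent.S18635

section aux
open CategoryTheory Abelian
open Groth.Agent.GrStarBasic Groth.Agent.H1GrInjDim

variable {R : Type u} [CommRing R] [IsNoetherianRing R] {𝒜 : ℤ → AddSubgroup R} [GradedRing 𝒜]
variable {M : Type u} [AddCommGroup M] [Module R M] {ℳ : ℤ → AddSubgroup M} [DirectSum.Decomposition ℳ]
  [SetLike.GradedSMul 𝒜 ℳ]

theorem isAssociated_of_ann {q : Ideal R} (hq : q.IsPrime) {t : M} (h : ∀ r : R, r ∈ q ↔ r • t = 0) :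
    q ∈ associatedPrimes R M :=
  (isAssociatedPrime_iff).mpr ⟨hq, t, Submodule.ext fun r => by
    rw [h, Submodule.mem_colon_singleton, Submodule.mem_bot]⟩

include ℳ in
/-- if the core is not associated, every element killed by the core is killed by something outside `p` -/
theorem exists_killer (p : Ideal R) [p.IsPrime]
    (hass : (p.homogeneousCore 𝒜).toIdeal ∉ associatedPrimes R M) (t : M)
    (ht : ∀ r ∈ (p.homogeneousCore 𝒜).toIdeal, r • t = 0) : ∃ s ∉ p, s • t = 0 := by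
  classical
  have h1 : ∀ g, ∃ s ∉ p, s • pr ℳ g t = 0 := by
    intro g
    by_contra hno
    push_neg at hno
    refine hass (isAssociated_of_ann ((‹p.IsPrime›).homogeneousCore) (t := pr ℳ g t) fun r => ⟨fun hr => ?_, fun hr => ?_⟩)
    · rw [← sum_pr 𝒜 r, Finset.sum_smul]
      refine Finset.sum_eq_zero fun i _ => ?_
      have h2 := pr_smul_left 𝒜 ℳ (pr_mem 𝒜 i r) t (g + i)
      rw [ht (pr 𝒜 i r) ((p.homogeneousCore 𝒜).isHomogeneous i hr), map_zero, add_sub_cancel_right] at h2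
      exact h2.symm
    · rw [← sum_pr 𝒜 r]
      refine Submodule.sum_mem _ fun i _ => ?_
      have h2 := pr_smul_right 𝒜 ℳ (pr_mem ℳ g t) r (i + g)
      rw [hr, map_zero, add_sub_cancel_right] at h2
      exact Ideal.mem_homogeneousCore_of_homogeneous_of_mem ⟨i, pr_mem 𝒜 i r⟩
        (by by_contra hc; exact hno _ hc h2.symm)
  choose s hs hs0 using h1
  refine ⟨∏ g ∈ (DirectSum.decompose ℳ t).support, s g, fun hm => ?_, ?_⟩
  · obtain ⟨g, -, hg⟩ := (‹p.IsPrime›.prod_mem_iff).mp hm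
    exact hs g hg
  · calc _ = ∑ g ∈ (DirectSum.decompose ℳ t).support, (∏ g ∈ (DirectSum.decompose ℳ t).support, s g) • pr ℳ g t := by
          rw [← Finset.smul_sum, sum_pr]
      _ = 0 := ?_
    refine Finset.sum_eq_zero fun g hg => ?_
    obtain ⟨d, hd⟩ := Finset.dvd_prod_of_mem s hg
    rw [hd, mul_comm, mul_smul, hs0, smul_zero]

theorem ext_one_prime (hM : GrLC.IsStarInj 𝒜 ℳ)
    (hno : ∀ p : Ideal R, p.IsPrime → ¬ p.IsHomogeneous 𝒜 → (p.homogeneousCore 𝒜).toIdeal ∉ associatedPrimes R M) :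
    ∀ p : Ideal R, p.IsPrime → Subsingleton (E (ModuleCat.of R M) (R ⧸ p) 1) := by
  intro p
  induction p using WellFoundedGT.induction with
  | ind p ih =>
    intro hp
    by_cases hh : p.IsHomogeneous 𝒜
    · exact ext_homogeneous hM p hh 0
    haveI := hp
    obtain ⟨x, hx, hxq, s, hs, hsP⟩ := exists_pair 𝒜 p hh
    set q := (p.homogeneousCore 𝒜).toIdeal with hqdef
    have hqp : q.IsPrime := hp.homogeneousCore
    obtain ⟨g, hg, hgk⟩ := exists_to_prime p x hx q (Ideal.toIdeal_homogeneousCore_le 𝒜 p) s hsP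
    have hS := LinearMap.shortExact_shortComplexKer hg
    haveI := ext_homogeneous hM q (p.homogeneousCore 𝒜).isHomogeneous 0
    have hT := mul_shortExact (R ⧸ q) x (regular_quotient hqp hxq)
    -- classes on the model are killed by elements outside `p`
    have hmodel : ∀ b : E (ModuleCat.of R M) ((R ⧸ q) ⧸ LinearMap.range (LinearMap.lsmul R (R ⧸ q) x)) 1,
        ∃ t ∉ p, t • b = 0 := by
      intro b
      obtain ⟨a, ha⟩ := Ext.contravariant_sequence_exact₃ hT (ModuleCat.of R M) b (Subsingleton.elim _ _) (show 1 + 0 = 1 from rfl)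
      obtain ⟨φ, rfl⟩ := (Ext.mk₀_bijective _ _).2 a
      obtain ⟨t, ht, ht0⟩ := exists_killer (ℳ := ℳ) p (hno p hp hh) (φ.hom (Submodule.Quotient.mk 1)) fun r hr => by
        rw [← map_smul, ← Submodule.Quotient.mk_smul, smul_eq_mul, mul_one,
          (Submodule.Quotient.mk_eq_zero q).mpr hr, map_zero]
      refine ⟨t, ht, ?_⟩
      have h0 : t • φ = 0 := ModuleCat.hom_ext (Submodule.linearMap_qext _ (LinearMap.ext_ring ht0))
      rw [← ha, ← Ext.comp_smul, ← Ext.mk₀_smul, h0, Ext.mk₀_zero, Ext.comp_zero]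
    refine subsingleton_of_forall_eq 0 fun y => ?_
    obtain ⟨t, ht, ht0⟩ := hmodel ((Ext.mk₀ g.shortComplexKer.g).comp y (zero_add 1))
    rw [← Ext.comp_smul] at ht0
    obtain ⟨z, hz⟩ := Ext.contravariant_sequence_exact₃ hS (ModuleCat.of R M) (t • y) ht0 (show 1 + 0 = 1 from rfl)
    have h0 : (s • 𝟙 g.shortComplexKer.X₁) = 0 := ModuleCat.hom_ext (LinearMap.ext fun k => Subtype.ext (hgk k.1 k.2))
    have hkill : (s * t) • y = 0 := by
      rw [mul_smul]
      refine (congrArg (s • ·) hz.symm).trans ?_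
      show s • hS.extClass.comp z _ = 0
      rw [← Ext.comp_smul, ← smul_eq g.shortComplexKer.X₁ 0 s z, h0, Ext.mk₀_zero, Ext.zero_comp, Ext.comp_zero]
    have hst : s * t ∉ p := fun h => (hp.mem_or_mem h).elim hs ht
    haveI := vanish_coker (M := ModuleCat.of R M) hst 1 (fun Q hQ hlt => ih Q hlt hQ)
    exact inj_smul (R ⧸ p) (s * t) (regular_quotient hp hst) 1 y hkill

/-- an element with prime homogeneous annihilator cannot be divisible by a nonhomogeneous element -/
theorem not_divisible {q : Ideal R} (hq : q.IsPrime) {d : ℤ} {y : M} (hy : y ∈ ℳ d)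
    (hann : ∀ r, r • y = 0 → r ∈ q) {x : R} {z : M} (hz : ∀ r ∈ q, ∀ g, r • pr ℳ g z = 0)
    (hx : ∃ i j, i ≠ j ∧ pr 𝒜 i x ∉ q ∧ pr 𝒜 j x ∉ q) (hxz : x • z = y) : False := by
  classical
  let T0 : AddSubgroup M :=
    { carrier := {t | ∃ a, SetLike.IsHomogeneousElem 𝒜 a ∧ a ∉ q ∧ a • t = 0}
      add_mem' := by
        rintro u v ⟨a, ha, haq, hau⟩ ⟨b, hb, hbq, hbv⟩
        refine ⟨a * b, ha.mul hb, fun h => (hq.mem_or_mem h).elim haq hbq, ?_⟩
        rw [smul_add, mul_smul, mul_smul, hbv, smul_zero, add_zero, smul_comm, hau, smul_zero]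
      zero_mem' := ⟨1, SetLike.isHomogeneousElem_one 𝒜, hq.one_notMem, smul_zero _⟩
      neg_mem' := by
        rintro u ⟨a, ha, haq, hau⟩
        exact ⟨a, ha, haq, by rw [smul_neg, hau, neg_zero]⟩ }
  have hsmul : ∀ (a : R), ∀ t ∈ T0, a • t ∈ T0 := fun a t ⟨b, hb, hbq, hbt⟩ =>
    ⟨b, hb, hbq, by rw [smul_comm, hbt, smul_zero]⟩
  have hy0 : y ∉ T0 := fun ⟨a, _, haq, ha0⟩ => haq (hann a ha0)
  let X := (DirectSum.decompose 𝒜 x).support.filter (fun i => pr 𝒜 i x ∉ q)
  let G := (DirectSum.decompose ℳ z).support.filter (fun g => pr ℳ g z ∉ T0)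
  have hX : ∀ i, pr 𝒜 i x ∉ q → i ∈ X := fun i hi => by
    refine Finset.mem_filter.mpr ⟨DFinsupp.mem_support_iff.mpr fun h0 => hi ?_, hi⟩
    show ((DirectSum.decompose 𝒜 x i : 𝒜 i) : R) ∈ q
    rw [h0]; exact zero_mem q
  have hG : ∀ g, pr ℳ g z ∉ T0 → g ∈ G := fun g hg => by
    refine Finset.mem_filter.mpr ⟨DFinsupp.mem_support_iff.mpr fun h0 => hg ?_, hg⟩
    show ((DirectSum.decompose ℳ z g : ℳ g) : M) ∈ T0
    rw [h0]; exact zero_mem T0
  -- an extremal pair of degrees gives the degree of `y`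
  have key : ∀ (i₀ g₀ : ℤ), i₀ ∈ X → g₀ ∈ G → (∀ i ∈ X, ∀ g ∈ G, i + g = i₀ + g₀ → i = i₀) → d = i₀ + g₀ := by
    intro i₀ g₀ hi hg huniq
    by_contra hne
    have h1 : pr ℳ (i₀ + g₀) (x • z) ∈ T0 := by
      rw [hxz, pr_ne ℳ hy hne]; exact zero_mem T0
    rw [← sum_pr 𝒜 x, Finset.sum_smul, map_sum,
      ← Finset.add_sum_erase _ _ ((Finset.mem_filter.mp hi).1)] at h1
    have hrest : ∑ i ∈ (DirectSum.decompose 𝒜 x).support.erase i₀, pr ℳ (i₀ + g₀) (pr 𝒜 i x • z) ∈ T0 := by
      refine sum_mem fun i hi' => ?_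
      rw [pr_smul_left 𝒜 ℳ (pr_mem 𝒜 i x)]
      by_cases hiX : pr 𝒜 i x ∈ q
      · rw [hz _ hiX]; exact zero_mem T0
      · refine hsmul _ _ (by_contra fun hgT => ?_)
        exact (Finset.mem_erase.mp hi').1 (huniq i (hX i hiX) _ (hG _ hgT) (by ring))
    have h2 := (AddSubgroup.add_mem_cancel_right T0 hrest).mp h1
    rw [pr_smul_left 𝒜 ℳ (pr_mem 𝒜 i₀ x), add_sub_cancel_left] at h2
    obtain ⟨a, ⟨j, ha⟩, haq, ha0⟩ := h2
    refine (Finset.mem_filter.mp hg).2 ⟨a * pr 𝒜 i₀ x, SetLike.IsHomogeneousElem.mul ⟨j, ha⟩ ⟨i₀, pr_mem 𝒜 i₀ x⟩,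
      fun h => (hq.mem_or_mem h).elim haq (Finset.mem_filter.mp hi).2, ?_⟩
    rw [mul_smul, ha0]
  obtain ⟨i, j, hij, hi, hj⟩ := hx
  have hXne : X.Nonempty := ⟨i, hX i hi⟩
  have hGne : G.Nonempty := by
    by_contra hG0
    refine hy0 ?_
    rw [← hxz]
    refine hsmul x z ?_
    rw [← sum_pr ℳ z]
    exact sum_mem fun g _ => by_contra fun h => hG0 ⟨g, hG g h⟩
  have e1 := key (X.max' hXne) (G.max' hGne) (X.max'_mem _) (G.max'_mem _) (fun a ha b hb he => by
    have := X.le_max' a ha; have := G.le_max' b hb; omega)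
  have e2 := key (X.min' hXne) (G.min' hGne) (X.min'_mem _) (G.min'_mem _) (fun a ha b hb he => by
    have := X.min'_le a ha; have := G.min'_le b hb; omega)
  have h3 := X.min'_lt_max' (hX i hi) (hX j hj) hij
  have h4 := G.min'_le _ (G.max'_mem hGne)
  omega

end aux

/-- Let R be a commutative Noetherian ℤ-graded ring and M a *injective graded R-module (an injective
object of the category of graded R-modules). Then M fails to be injective as an ordinary R-module —
equivalently, since a *injective graded module has ordinary injective dimension at most 1, its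
ordinary injective dimension is exactly 1 — if and only if there is a prime ideal p of R which is
not graded and whose graded core p* (the largest graded ideal contained in p, itself a prime) is an
associated prime of M. -/
theorem result (R : Type u) [CommRing R] [IsNoetherianRing R] (𝒜 : ℤ → AddSubgroup R) [GradedRing 𝒜] (M : Type u) [AddCommGroup M] [Module R M] (ℳ : ℤ → AddSubgroup M) [DirectSum.Decomposition ℳ] [SetLike.GradedSMul 𝒜 ℳ] (hM : GrLC.IsStarInj 𝒜 ℳ) : ¬ Module.Injective R M ↔ ∃ p : Ideal R, p.IsPrime ∧ ¬ Ideal.IsHomogeneous 𝒜 p ∧ (Ideal.homogeneousCore 𝒜 p).toIdeal ∈ associatedPrimes R M := by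
  classical
  constructor
  · intro hnot
    by_contra hno
    push_neg at hno
    refine hnot (Module.Baer.injective fun J f => ?_)
    haveI := Groth.Agent.H1GrInjDim.vanish_of_primes (M := ModuleCat.of R M) J 1
      (fun Q hQ _ => ext_one_prime hM (fun p hp hh => hno p hp hh) Q hQ) (R ⧸ J) fun r hr x => by
        obtain ⟨y, rfl⟩ := Ideal.Quotient.mk_surjective x
        exact Ideal.Quotient.eq_zero_iff_mem.mpr (Ideal.mul_mem_right y J hr)
    have hT := Groth.Agent.GorensteinQuotient.shortExact_mk (J : Submodule R R).subtype (J : Submodule R R).mkQ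
      (Submodule.injective_subtype _) (Submodule.mkQ_surjective _) (LinearMap.exact_subtype_mkQ _)
    obtain ⟨y, hy⟩ := CategoryTheory.Abelian.Ext.contravariant_sequence_exact₁ hT (ModuleCat.of R M)
      (CategoryTheory.Abelian.Ext.mk₀ (ModuleCat.ofHom f)) (show 1 + 0 = 1 from rfl)
      (Subsingleton.elim (α := Groth.Agent.H1GrInjDim.E (ModuleCat.of R M) (R ⧸ J) 1) _ _)
    obtain ⟨h, rfl⟩ := (CategoryTheory.Abelian.Ext.mk₀_bijective _ _).2 y
    rw [CategoryTheory.Abelian.Ext.mk₀_comp_mk₀] at hy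
    have he := (CategoryTheory.Abelian.Ext.mk₀_bijective _ _).1 hy
    exact ⟨h.hom, fun r hr => LinearMap.congr_fun (congrArg ModuleCat.Hom.hom he) ⟨r, hr⟩⟩
  · rintro ⟨p, hp, hh, hass⟩ hinj
    haveI := hp
    set q := (p.homogeneousCore 𝒜).toIdeal with hqdef
    obtain ⟨hqp, t, ht⟩ := isAssociatedPrime_iff.mp hass
    have ht' : ∀ r, r ∈ q ↔ r • t = 0 := fun r =>
      (SetLike.ext_iff.mp ht r).trans (by rw [Submodule.mem_colon_singleton, Submodule.mem_bot])
    have hcomp : ∀ r ∈ q, ∀ (u : M), (∀ a ∈ q, a • u = 0) → ∀ g, r • Groth.Agent.GrStarBasic.pr ℳ g u = 0 := by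
      intro r hr u hu g
      rw [← Groth.Agent.GrStarBasic.sum_pr 𝒜 r, Finset.sum_smul]
      refine Finset.sum_eq_zero fun i _ => ?_
      have h2 := Groth.Agent.GrStarBasic.pr_smul_left 𝒜 ℳ (Groth.Agent.GrStarBasic.pr_mem 𝒜 i r) u (g + i)
      rw [hu (Groth.Agent.GrStarBasic.pr 𝒜 i r) ((p.homogeneousCore 𝒜).isHomogeneous i hr), map_zero, add_sub_cancel_right] at h2
      exact h2.symm
    -- a homogeneous component with the same annihilator
    obtain ⟨d, hd⟩ : ∃ d, ∀ r, r • Groth.Agent.GrStarBasic.pr ℳ d t = 0 → r ∈ q := by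
      by_contra hno
      push_neg at hno
      choose r hr0 hrq using hno
      have hprod : (∏ g ∈ (DirectSum.decompose ℳ t).support, r g) ∈ q := by
        rw [ht']
        calc _ = ∑ g ∈ (DirectSum.decompose ℳ t).support, (∏ g ∈ (DirectSum.decompose ℳ t).support, r g) •
              Groth.Agent.GrStarBasic.pr ℳ g t := by rw [← Finset.smul_sum, Groth.Agent.GrStarBasic.sum_pr]
          _ = 0 := ?_
        refine Finset.sum_eq_zero fun g hg => ?_
        obtain ⟨c, hc⟩ := Finset.dvd_prod_of_mem r hg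
        rw [hc, mul_comm, mul_smul, hr0, smul_zero]
      obtain ⟨g, -, hg⟩ := (hqp.prod_mem_iff).mp hprod
      exact hrq g hg
    set y := Groth.Agent.GrStarBasic.pr ℳ d t with hy
    obtain ⟨x, hx, hxq, -⟩ := Groth.Agent.H1GrInjDim.exists_pair 𝒜 p hh
    let μ : (R ⧸ q) →ₗ[R] R ⧸ q := LinearMap.lsmul R (R ⧸ q) x
    let φ : (R ⧸ q) →ₗ[R] M := Submodule.liftQ q (LinearMap.toSpanSingleton R M y) fun r hr =>
      LinearMap.mem_ker.mpr (hcomp r hr t (fun a ha => (ht' a).mp ha) d)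
    obtain ⟨ψ, hψ⟩ := hinj.out μ (Groth.Agent.H1GrInjDim.regular_quotient hqp hxq) φ
    have hxz : x • ψ (Submodule.Quotient.mk 1) = y := by
      rw [← map_smul]
      exact (hψ (Submodule.Quotient.mk 1)).trans (one_smul R y)
    refine not_divisible (𝒜 := 𝒜) hqp (Groth.Agent.GrStarBasic.pr_mem ℳ d t) hd
      (fun r hr g => hcomp r hr _ (fun a ha => ?_) g) ?_ hxz
    · rw [← map_smul, ← Submodule.Quotient.mk_smul, smul_eq_mul, mul_one,
        (Submodule.Quotient.mk_eq_zero q).mpr ha, map_zero]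
    · by_contra hno
      push_neg at hno
      refine hxq ?_
      rw [← Groth.Agent.GrStarBasic.sum_pr 𝒜 x]
      refine Submodule.sum_mem _ fun i hi => by_contra fun hiq => hiq ?_
      refine Ideal.mem_homogeneousCore_of_homogeneous_of_mem ⟨i, Groth.Agent.GrStarBasic.pr_mem 𝒜 i x⟩ ?_
      have hx' := hx
      rw [← Groth.Agent.GrStarBasic.sum_pr 𝒜 x, ← Finset.add_sum_erase _ _ hi] at hx'
      refine (Ideal.add_mem_iff_left p ?_).mp hx'
      exact Submodule.sum_mem _ fun j hj => Ideal.toIdeal_homogeneousCore_le 𝒜 p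
        (hno i j (Finset.ne_of_mem_erase hj).symm hiq)

end Groth.Agent.S18635
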