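import Groth.Statements.S18637
import Groth.Agent.Lib.GrStarPrime
import Mathlib

set_option autoImplicit false
universe u
open GrLC

namespace Groth.Agent.S18637

section aux
open Groth.Agent.GrStarBasic

variable {R : Type u} [CommRing R] {𝒜 : ℤ → AddSubgroup R} [GradedRing 𝒜]
  {E' : Type u} [AddCommGroup E'] [Module R E'] {𝓔 : ℤ → AddSubgroup E'} [DirectSum.Decomposition 𝓔]
  [SetLike.GradedSMul 𝒜 𝓔]

/-- every linear map from a finitely generated homogeneous ideal to a *injective extends -/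
theorem exists_eval (hI : GrLC.IsStarInj 𝒜 𝓔) (P : Submodule R R) (hP : P.IsHomogeneous 𝒜) (hfg : P.FG)
    (f : ↥P →ₗ[R] E') : ∃ x : E', ∀ r : ↥P, (r : R) • x = f r := by
  classical
  letI := (subGr_isInternal 𝒜 hP).chooseDecomposition
  haveI : SetLike.GradedSMul 𝒜 (subGr 𝒜 P) := ⟨fun {i j a x} ha hx => smul_mem 𝒜 𝒜 ha hx⟩
  let F0 : ℤ → (↥P →+ E') := fun d => (DirectSum.toAddMonoid fun i =>
    ((pr 𝓔 (i + d)).comp (f.toAddMonoidHom.comp (subGr 𝒜 P i).subtype))).comp
      (DirectSum.decomposeAddEquiv (subGr 𝒜 P)).toAddMonoidHom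
  have hF0 : ∀ d i (x : ↥P), x ∈ subGr 𝒜 P i → F0 d x = pr 𝓔 (i + d) (f x) := by
    intro d i x hx
    show DirectSum.toAddMonoid _ (DirectSum.decompose (subGr 𝒜 P) x) = _
    rw [DirectSum.decompose_of_mem (subGr 𝒜 P) hx, DirectSum.toAddMonoid_of]
    rfl
  have hlin : ∀ d (a : R) (x : ↥P), F0 d (a • x) = a • F0 d x := by
    intro d a x
    induction x using DirectSum.Decomposition.inductionOn (subGr 𝒜 P) with
    | zero => rw [smul_zero, map_zero, smul_zero]
    | add x y hx hy => rw [smul_add, map_add, hx, hy, map_add, smul_add]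
    | @homogeneous j x =>
      induction a using DirectSum.Decomposition.inductionOn 𝒜 with
      | zero => rw [zero_smul, map_zero, zero_smul]
      | add a b ha hb => rw [add_smul, map_add, ha, hb, add_smul]
      | @homogeneous i a =>
        rw [hF0 d (i + j) _ (smul_mem 𝒜 (subGr 𝒜 P) a.2 x.2), hF0 d j _ x.2, map_smul,
          pr_smul_left 𝒜 𝓔 a.2, show i + j + d - i = j + d by ring]
  let F : ℤ → (↥P →ₗ[R] E') := fun d => { toFun := F0 d, map_add' := map_add (F0 d), map_smul' := hlin d }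
  have hval : ∀ d, ∃ x : E', ∀ r : ↥P, (r : R) • x = F d r := by
    intro d
    have hg : GrLC.IsGrHom (shMod 𝒜 (subGr 𝒜 P) (-d)).gr 𝓔 (F d) := by
      intro g x hx
      have hx' : x ∈ subGr 𝒜 P (g + -d) := hx
      show F0 d x ∈ 𝓔 g
      rw [hF0 d _ x hx', neg_add_cancel_right]
      exact pr_mem 𝓔 g _
    obtain ⟨h, -, he⟩ := hI (shMod 𝒜 (subGr 𝒜 P) (-d)) (shMod 𝒜 𝒜 (-d)) P.subtype (fun g x hx => hx)
      P.injective_subtype (F d) hg
    let h' : R →ₗ[R] E' := h
    refine ⟨h' 1, fun r => ?_⟩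
    rw [← map_smul, smul_eq_mul, mul_one]
    exact LinearMap.congr_fun he r
  choose x hx using hval
  have hsum : ∀ r : ↥P, ∃ T : Finset ℤ, ∀ T', T ⊆ T' → ∑ d ∈ T', F d r = f r := by
    intro r
    induction r using DirectSum.Decomposition.inductionOn (subGr 𝒜 P) with
    | zero => exact ⟨∅, fun T' _ => by simp⟩
    | add a b ha hb =>
      obtain ⟨S, hS⟩ := ha
      obtain ⟨T, hT⟩ := hb
      exact ⟨S ∪ T, fun T' h => by
        rw [map_add, ← hS T' (Finset.union_subset_left h), ← hT T' (Finset.union_subset_right h),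
          ← Finset.sum_add_distrib]
        simp⟩
    | @homogeneous i y =>
      refine ⟨((DirectSum.decompose 𝓔 (f y)).support).image (fun g => g - i), fun T' h => ?_⟩
      have h1 : ∀ d, F d (y : ↥P) = pr 𝓔 (i + d) (f y) := fun d => hF0 d i _ y.2
      rw [Finset.sum_congr rfl fun d _ => h1 d]
      rw [← Finset.sum_subset h (fun d _ hd => ?_)]
      · rw [Finset.sum_image fun a _ b _ e => sub_left_inj.mp e]
        simp only [add_sub_cancel]
        exact sum_pr 𝓔 _
      · by_contra hne
        exact hd (Finset.mem_image.mpr ⟨i + d, DFinsupp.mem_support_iff.mpr fun h0 => hne (by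
          show ((DirectSum.decompose 𝓔 (f y) (i + d) : 𝓔 (i + d)) : E') = 0
          rw [h0]; rfl), by ring⟩)
  haveI : Module.Finite R ↥P := Module.Finite.iff_fg.mpr hfg
  obtain ⟨s, hs⟩ := (Module.Finite.fg_top : (⊤ : Submodule R ↥P).FG)
  choose T hT using hsum
  refine ⟨∑ d ∈ s.biUnion T, x d, fun r => ?_⟩
  have heq : ∑ d ∈ s.biUnion T, F d = f := LinearMap.ext_on hs fun a ha => by
    rw [LinearMap.sum_apply]
    exact hT a _ (Finset.subset_biUnion_of_mem T ha)
  rw [Finset.smul_sum, Finset.sum_congr rfl fun d _ => hx d r]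
  exact (LinearMap.sum_apply _ _ r).symm.trans (LinearMap.congr_fun heq r)

end aux

/-- Let R be a commutative Noetherian ℤ-graded ring and m a maximal ideal of R which is graded. If e :
R/m → E is a *injective envelope of R/m in the category of graded R-modules (E graded and
*injective, e degree-preserving and injective, every nonzero graded submodule of E meeting the
image), then e is an injective hull of R/m as an ordinary R-module: E is an injective R-module and e
is an essential injection. -/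
theorem result (R : Type u) [CommRing R] [IsNoetherianRing R] (𝒜 : ℤ → AddSubgroup R) [GradedRing 𝒜] (m : HomogeneousIdeal 𝒜) [m.toIdeal.IsMaximal] (E' : Type u) [AddCommGroup E'] [Module R E'] (𝓔 : ℤ → AddSubgroup E') [DirectSum.Decomposition 𝓔] [SetLike.GradedSMul 𝒜 𝓔] (e : (R ⧸ m.toIdeal) →ₗ[R] E') (he : GrLC.IsStarInjHull 𝒜 (GrLC.quotGr 𝒜 m) 𝓔 e) : InjHull.IsInjectiveHull e := by
  classical
  have hmax : m.toIdeal.IsMaximal := inferInstance
  haveI := hmax.isPrime
  have hgam := Groth.Agent.GrStarPrime.gam_eq_top (𝒜 := 𝒜) m he.toIsStarEss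
  have hsoc : ∀ y : E', (∀ r ∈ m.toIdeal, r • y = 0) → y ∈ LinearMap.range e := by
    intro y hy
    rw [← Groth.Agent.GrStarBasic.sum_pr 𝓔 y]
    refine Submodule.sum_mem _ fun g _ => ?_
    set z := Groth.Agent.GrStarBasic.pr 𝓔 g y with hz
    have hzm : ∀ r ∈ m.toIdeal, r • z = 0 := by
      intro r hr
      rw [← Groth.Agent.GrStarBasic.sum_pr 𝒜 r, Finset.sum_smul]
      refine Finset.sum_eq_zero fun i _ => ?_
      have h1 := Groth.Agent.GrStarBasic.pr_smul_left 𝒜 𝓔 (Groth.Agent.GrStarBasic.pr_mem 𝒜 i r) y (g + i)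
      rw [hy (Groth.Agent.GrStarBasic.pr 𝒜 i r) (m.isHomogeneous i hr), map_zero, add_sub_cancel_right] at h1
      exact h1.symm
    by_cases h0 : z = 0
    · rw [h0]; exact zero_mem _
    have hQ : (R ∙ z).IsHomogeneous 𝓔 := fun i w hw => by
      obtain ⟨r, rfl⟩ := Submodule.mem_span_singleton.mp hw
      show Groth.Agent.GrStarBasic.pr 𝓔 i (r • z) ∈ _
      rw [Groth.Agent.GrStarBasic.pr_smul_right 𝒜 𝓔 (Groth.Agent.GrStarBasic.pr_mem 𝓔 g y)]
      exact Submodule.smul_mem _ _ (Submodule.mem_span_singleton_self z)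
    obtain ⟨w, hw, hw0⟩ := Submodule.exists_mem_ne_zero_of_ne_bot
      (he.essential _ hQ (by rwa [ne_eq, Submodule.span_singleton_eq_bot]))
    obtain ⟨hw1, hwr⟩ := hw
    obtain ⟨r, rfl⟩ := Submodule.mem_span_singleton.mp hw1
    have hrm : r ∉ m.toIdeal := fun hr => hw0 (hzm r hr)
    obtain ⟨c, b, hb, hcb⟩ := hmax.exists_inv hrm
    have : z = c • r • z := by
      conv_lhs => rw [← one_smul R z, ← hcb, add_smul, hzm b hb, add_zero, mul_smul]
    rw [this]
    exact Submodule.smul_mem _ _ hwr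
  refine ⟨⟨he.injective, fun Q hQ => ?_⟩, ?_⟩
  · obtain ⟨x, hx, hx0⟩ := Submodule.exists_mem_ne_zero_of_ne_bot hQ
    have hxg : ∃ n : ℕ, ∀ r ∈ m.toIdeal ^ n, r • x = 0 := hgam.ge (show x ∈ ⊤ from trivial)
    have hpos : Nat.find hxg ≠ 0 := fun h => hx0 (by
      have := Nat.find_spec hxg 1 (by rw [h, pow_zero, Ideal.one_eq_top]; exact Submodule.mem_top)
      rwa [one_smul] at this)
    obtain ⟨j, hj⟩ : ∃ j, Nat.find hxg = j + 1 := ⟨Nat.find hxg - 1, by omega⟩
    have h1 := Nat.find_min hxg (show j < Nat.find hxg by omega)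
    push_neg at h1
    obtain ⟨r, hr, hrx⟩ := h1
    intro hbot
    refine hrx ((Submodule.mem_bot R).mp (hbot ▸ ⟨Q.smul_mem r hx, hsoc _ fun a ha => ?_⟩))
    rw [← mul_smul]
    exact Nat.find_spec hxg _ (by rw [hj, pow_succ, mul_comm a r]; exact Ideal.mul_mem_mul hr ha)
  · have hmfg : (m.toIdeal : Submodule R R).FG := IsNoetherian.noetherian _
    have main : ∀ (J : Ideal R) (c : ℕ), m.toIdeal ^ c ≤ J → ∀ f : ↥J →ₗ[R] E',
        ∃ x : E', ∀ r : ↥J, (r : R) • x = f r := by
      intro J
      induction J using WellFoundedGT.induction with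
      | ind J ih =>
        intro c hc f
        by_cases hJ : J = ⊤
        · subst hJ
          refine ⟨f ⟨1, trivial⟩, fun r => ?_⟩
          rw [← map_smul]
          congr 1
          exact Subtype.ext (mul_one _)
        · have hex : ∃ j, m.toIdeal ^ j ≤ J := ⟨c, hc⟩
          have hpos : Nat.find hex ≠ 0 := fun h => hJ (top_le_iff.mp (by
            have := Nat.find_spec hex
            rwa [h, pow_zero, Ideal.one_eq_top] at this))
          obtain ⟨j, hj⟩ : ∃ j, Nat.find hex = j + 1 := ⟨Nat.find hex - 1, by omega⟩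
          obtain ⟨a, ha, haJ⟩ := SetLike.not_le_iff_exists.mp (Nat.find_min hex (show j < Nat.find hex by omega))
          have hma : ∀ r ∈ m.toIdeal, r • a ∈ J := fun r hr => Nat.find_spec hex (by
            rw [hj, pow_succ, smul_eq_mul, mul_comm r a]; exact Ideal.mul_mem_mul ha hr)
          have hout : ∀ r : R, r • a ∈ J → r ∈ m.toIdeal := fun r hr => by
            by_contra hrm
            obtain ⟨u, b, hb, hub⟩ := hmax.exists_inv hrm
            refine haJ ?_
            rw [← one_mul a, ← hub, add_mul, mul_assoc]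
            exact add_mem (J.mul_mem_left u hr) (hma b hb)
          let g : ↥(m.toIdeal : Submodule R R) →ₗ[R] E' :=
            f ∘ₗ (((LinearMap.toSpanSingleton R R a) ∘ₗ (m.toIdeal : Submodule R R).subtype).codRestrict J
              fun r => hma r.1 r.2)
          obtain ⟨y, hy⟩ := exists_eval he.starInj (m.toIdeal : Submodule R R) m.isHomogeneous hmfg g
          have hy' : ∀ (r : R) (hr : r • a ∈ J), r • y = f ⟨r • a, hr⟩ := fun r hr => hy ⟨r, hout r hr⟩
          have H : ∀ r : R, r • a = 0 → RingHom.id R r • y = 0 := fun r hr => by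
            show r • y = 0
            rw [hy' r (by rw [hr]; exact zero_mem J)]
            exact (congrArg f (Subtype.ext hr : (⟨r • a, _⟩ : ↥J) = 0)).trans (map_zero f)
          let f₀ : R →ₗ.[R] E' := ⟨J, f⟩
          let p := LinearPMap.mkSpanSingleton' a y H
          have hcompat : ∀ (u : f₀.domain) (v : p.domain), (u : R) = v → f₀ u = p v := by
            rintro ⟨u, hu⟩ ⟨v, hv⟩ huv
            obtain ⟨r, rfl⟩ := Submodule.mem_span_singleton.mp hv
            change u = r • a at huv
            subst huv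
            rw [LinearPMap.mkSpanSingleton'_apply]
            exact (hy' r hu).symm
          have hlt : J < J ⊔ Ideal.span {a} :=
            lt_of_le_of_ne le_sup_left fun h => haJ (h.ge (Ideal.mem_sup_right (Ideal.mem_span_singleton_self a)))
          obtain ⟨x, hx⟩ := ih (J ⊔ Ideal.span {a}) hlt c (hc.trans le_sup_left) (f₀.sup p hcompat).toFun
          refine ⟨x, fun r => ?_⟩
          have h2 := hx ⟨r.1, Ideal.mem_sup_left r.2⟩
          refine h2.trans ?_
          show f₀.sup p hcompat _ = f r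
          exact (LinearPMap.sup_apply hcompat r 0 ⟨r.1, Ideal.mem_sup_left r.2⟩ (by simp)).trans
            (by rw [LinearPMap.map_zero, add_zero]; rfl)
    refine Module.Baer.injective fun J f => ?_
    haveI : Module.Finite R ↥J := Module.Finite.iff_fg.mpr (IsNoetherian.noetherian J)
    obtain ⟨s, hs⟩ := (Module.Finite.fg_top : (⊤ : Submodule R ↥J).FG)
    have hgs : ∀ a : ↥J, ∃ n : ℕ, ∀ r ∈ m.toIdeal ^ n, r • f a = 0 := fun a => hgam.ge (show f a ∈ ⊤ from trivial)
    choose n hn using hgs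
    set k := s.sup n
    have hk : ∀ r ∈ m.toIdeal ^ k, ∀ a : ↥J, r • f a = 0 := fun r hr a => by
      have ha : a ∈ Submodule.span R (s : Set ↥J) := hs.symm ▸ trivial
      induction ha using Submodule.span_induction with
      | mem b hb => exact hn b r (Ideal.pow_le_pow_right (Finset.le_sup hb) hr)
      | zero => rw [map_zero, smul_zero]
      | add b b' _ _ h h' => rw [map_add, smul_add, h, h', add_zero]
      | smul t b _ h => rw [map_smul, smul_comm, h, smul_zero]
    obtain ⟨c, hc⟩ := Ideal.exists_pow_inf_eq_pow_smul (N := (J : Submodule R R)) m.toIdeal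
    have hzero : ∀ a : ↥J, (a : R) ∈ m.toIdeal ^ (k + c) → f a = 0 := fun a ha => by
      have h1 : (a : R) ∈ m.toIdeal ^ (k + c) • (⊤ : Submodule R R) ⊓ J := ⟨by simpa using ha, a.2⟩
      rw [hc (k + c) (by omega), Nat.add_sub_cancel] at h1
      have h2 : a ∈ (m.toIdeal ^ k) • (⊤ : Submodule R ↥J) := by
        have h3 : (a : R) ∈ ((m.toIdeal ^ k) • (⊤ : Submodule R ↥J)).map J.subtype := by
          rw [Submodule.map_smul'', Submodule.map_subtype_top]
          exact Submodule.smul_mono le_rfl inf_le_right h1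
        obtain ⟨b, hb, hba⟩ := h3
        rwa [show b = a from Subtype.ext hba] at hb
      refine Submodule.smul_induction_on h2 (fun r hr b _ => ?_) fun u v hu hv => ?_
      · rw [map_smul]; exact hk r hr b
      · rw [map_add, hu, hv, add_zero]
    let f₀ : R →ₗ.[R] E' := ⟨J, f⟩
    let f₁ : R →ₗ.[R] E' := ⟨m.toIdeal ^ (k + c), 0⟩
    have hcompat : ∀ (u : f₀.domain) (v : f₁.domain), (u : R) = v → f₀ u = f₁ v := fun u v huv =>
      hzero u (huv ▸ v.2)
    obtain ⟨x, hx⟩ := main (J ⊔ m.toIdeal ^ (k + c)) (k + c) le_sup_right (f₀.sup f₁ hcompat).toFun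
    refine ⟨LinearMap.toSpanSingleton R E' x, fun r hr => ?_⟩
    refine (hx ⟨r, Ideal.mem_sup_left hr⟩).trans ?_
    show f₀.sup f₁ hcompat _ = _
    exact (LinearPMap.sup_apply hcompat ⟨r, hr⟩ 0 ⟨r, Ideal.mem_sup_left hr⟩ (by simp)).trans
      (by rw [LinearPMap.map_zero, add_zero]; rfl)

end Groth.Agent.S18637
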