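import Groth.Statements.S18647
import Groth.Prelude.Def_GrSeg
import Groth.Agent.Lib.SegreBilinear
import Mathlib
import Groth.Agent.Lib.GrSegreDim

set_option autoImplicit false
universe u
open Groth.Agent.GrSegreDim
open scoped TensorProduct
open DirectSum Groth.Agent.SegreBilinear
open scoped TensorProduct
open GrSegre

namespace Groth.Agent.S18647

/-- Let R and S be graded rings defined over a field k with dim R = r ≥ 1 and dim S = s ≥ 1. Then the
Segre product T = R # S has Krull dimension r + s − 1. Here a graded ring defined over k is a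
commutative k-algebra of finite type, graded in nonnegative degrees by k-subspaces with degree-zero
part k·1; the Segre product T = R # S = ⊕_n R_n ⊗_k S_n (graded by T_n = R_n ⊗_k S_n) is presented
abstractly as a graded k-algebra T with an injective k-algebra homomorphism ψ : T → R ⊗_k S carrying
T_n onto the k-span of the elementary tensors a ⊗ b with a ∈ R_n, b ∈ S_n, for every n. -/
theorem result (k : Type u) [Field k] (R : Type u) [CommRing R] [Algebra k R] (𝒜 : ℤ → Submodule k R) [GradedAlgebra 𝒜] (hposR : ∀ n : ℤ, n < 0 → 𝒜 n = ⊥) (h0R : 𝒜 0 = Submodule.span k {(1 : R)}) [Algebra.FiniteType k R] (S : Type u) [CommRing S] [Algebra k S] (ℬ : ℤ → Submodule k S) [GradedAlgebra ℬ] (hposS : ∀ n : ℤ, n < 0 → ℬ n = ⊥) (h0S : ℬ 0 = Submodule.span k {(1 : S)}) [Algebra.FiniteType k S] (T : Type u) [CommRing T] [Algebra k T] (𝒯 : ℤ → Submodule k T) [GradedAlgebra 𝒯] (ψ : T →ₐ[k] TensorProduct k R S) (hψ : Function.Injective ψ) (hdegT : ∀ n : ℤ, (𝒯 n).map ψ.toLinearMap = Submodule.span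 k {x : TensorProduct k R S | ∃ a ∈ 𝒜 n, ∃ b ∈ ℬ n, x = a ⊗ₜ[k] b}) (r s : ℕ) (hr : ringKrullDim R = r) (hs : ringKrullDim S = s) (h1r : 1 ≤ r) (h1s : 1 ≤ s) : ringKrullDim T = ((r + s - 1 : ℕ) : WithBot ℕ∞) := by
  classical
  obtain ⟨d, hd, c, e, hc, he, f, g, hf, hg, hR, hS⟩ := exists_systems 𝒜 ℬ hposR h0R hposS h0S r s hr.le hs.le
  obtain ⟨t, ht⟩ := exists_t 𝒜 ℬ 𝒯 ψ hdegT f g hf hg
  obtain ⟨rfl, hfi⟩ := independent_of_goodSys 𝒜 hc f hr hR
  obtain ⟨rfl, hgi⟩ := independent_of_goodSys ℬ he g hs hS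
  haveI := ring_finite 𝒜 ℬ 𝒯 ψ hψ hdegT hd f g hf hg t ht hR hS
  let B := Algebra.adjoin k (Set.range fun q : Fin c × Fin e => t q.1 q.2)
  let P0 := MvPolynomial (Fin c ⊕ Fin e) k
  let K := FractionRing P0
  let Z := MvPolynomial (Fin (c + e - 1)) k
  let X0 : Fin c → P0 := fun i => MvPolynomial.X (Sum.inl i)
  let Y0 : Fin e → P0 := fun j => MvPolynomial.X (Sum.inr j)
  let z0 : Fin (c + e - 1) → P0 := bil (conv k c e) X0 Y0
  let zT : Fin (c + e - 1) → T := fun l => ∑ i, ∑ j, algebraMap k T (conv k c e l i j) * t i j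
  let Φ : P0 →ₐ[k] R ⊗[k] S :=
    MvPolynomial.aeval (Sum.elim (fun i => f i ⊗ₜ[k] (1 : S)) (fun j => (1 : R) ⊗ₜ[k] g j))
  have hXv : ∀ q, Φ (MvPolynomial.X q) =
      Sum.elim (fun i => f i ⊗ₜ[k] (1 : S)) (fun j => (1 : R) ⊗ₜ[k] g j) q := fun q => MvPolynomial.aeval_X _ q
  have hΦX : ∀ i j, Φ (X0 i * Y0 j) = ψ (t i j) := fun i j => by
    rw [map_mul, hXv, hXv, ht, Sum.elim_inl, Sum.elim_inr, Algebra.TensorProduct.tmul_mul_tmul, one_mul, mul_one]
  have hΦz : ∀ l, Φ (z0 l) = ψ (zT l) := fun l => by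
    simp only [z0, zT, bil, map_sum, map_mul, AlgHom.commutes]
    simp only [← map_mul, hΦX]
  have hΦinj : Function.Injective Φ := by
    have e1 : Φ = (Algebra.TensorProduct.map (MvPolynomial.aeval f) (MvPolynomial.aeval g)).comp
        (MvPolynomial.tensorEquivSum k (Fin c) (Fin e) k).symm.toAlgHom := by
      refine MvPolynomial.algHom_ext fun q => ?_
      rw [hXv, AlgHom.comp_apply]
      rcases q with i | j
      · rw [show (MvPolynomial.tensorEquivSum k (Fin c) (Fin e) k).symm.toAlgHom (MvPolynomial.X (Sum.inl i)) =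
          MvPolynomial.X i ⊗ₜ 1 from (AlgEquiv.symm_apply_eq _).mpr (by simp)]
        simp
      · rw [show (MvPolynomial.tensorEquivSum k (Fin c) (Fin e) k).symm.toAlgHom (MvPolynomial.X (Sum.inr j)) =
          1 ⊗ₜ MvPolynomial.X j from (AlgEquiv.symm_apply_eq _).mpr (by simp)]
        simp
    rw [e1, AlgHom.coe_comp]
    refine Function.Injective.comp ?_ (MvPolynomial.tensorEquivSum k (Fin c) (Fin e) k).symm.injective
    exact TensorProduct.map_injective_of_flat_flat _ _ hfi hgi
  letI : Algebra Z T := (MvPolynomial.aeval zT : Z →ₐ[k] T).toRingHom.toAlgebra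
  have hcomm : ∀ p : Z, ψ (algebraMap Z T p) = Φ (MvPolynomial.aeval z0 p) := fun p => by
    show ψ (MvPolynomial.aeval zT p) = _
    rw [← AlgHom.comp_apply, ← AlgHom.comp_apply Φ, MvPolynomial.comp_aeval, MvPolynomial.comp_aeval]
    simp only [hΦz]
  -- injectivity
  have hinjZ : Function.Injective (algebraMap Z T) := by
    refine (injective_iff_map_eq_zero _).mpr fun p hp => ?_
    have h0 : MvPolynomial.aeval z0 p = 0 := hΦinj (by rw [← hcomm, hp, map_zero, map_zero])
    let L := AlgebraicClosure k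
    have hL := algebraicIndependent_conv (k := L) h1r h1s
    refine MvPolynomial.map_injective (algebraMap k L) (algebraMap k L).injective ?_
    rw [map_zero]
    refine (algebraicIndependent_iff.mp hL) _ ?_
    rw [MvPolynomial.aeval_map_algebraMap]
    let ι : P0 →ₐ[k] MvPolynomial (Fin c ⊕ Fin e) L :=
      MvPolynomial.mapAlgHom (Algebra.ofId k L)
    have := congrArg ι h0
    rw [map_zero, ← AlgHom.comp_apply, MvPolynomial.comp_aeval] at this
    rw [← this]
    congr 2
    funext l
    have hι : ∀ q, ι (MvPolynomial.X q) = MvPolynomial.X q := fun q => MvPolynomial.map_X _ q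
    simp only [z0, X0, Y0, map_bil, Function.comp_def, hι]
    simp [bil, conv, apply_ite]
  -- integrality of the generators
  have hgen : ∀ i j, IsIntegral Z (t i j) := by
    intro i j
    letI : Algebra Z K := ((algebraMap P0 K).comp (MvPolynomial.aeval z0 : Z →ₐ[k] P0).toRingHom).toAlgebra
    obtain ⟨p, hp, hpe⟩ := isIntegral_of_nondeg (R := Z) (conv k c e) (nondeg_conv k c e)
      (fun i => algebraMap P0 K (X0 i)) (fun j => algebraMap P0 K (Y0 j))
      (fun a => ⟨MvPolynomial.C a, by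
        show algebraMap P0 K (MvPolynomial.aeval z0 (MvPolynomial.C a)) = _
        rw [MvPolynomial.aeval_C, ← IsScalarTower.algebraMap_apply]⟩)
      (fun l => ⟨MvPolynomial.X l, by
        show algebraMap P0 K (MvPolynomial.aeval z0 (MvPolynomial.X l)) = _
        rw [MvPolynomial.aeval_X]
        exact (map_bil (IsScalarTower.toAlgHom k P0 K) _ _ _ l)⟩) i j
    refine ⟨p, hp, hψ ?_⟩
    have h1 : Polynomial.eval₂ (MvPolynomial.aeval z0 : Z →ₐ[k] P0).toRingHom (X0 i * Y0 j) p = 0 := by
      refine IsFractionRing.injective P0 K ?_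
      rw [Polynomial.hom_eval₂, map_zero, map_mul]
      exact hpe
    have h2 := congrArg Φ.toRingHom h1
    rw [Polynomial.hom_eval₂, map_zero] at h2
    rw [map_zero, ← AlgHom.coe_toRingHom, Polynomial.hom_eval₂, show (ψ : T →+* R ⊗[k] S).comp (algebraMap Z T) =
      Φ.toRingHom.comp (MvPolynomial.aeval z0 : Z →ₐ[k] P0).toRingHom from RingHom.ext hcomm]
    show Polynomial.eval₂ _ (ψ (t i j)) p = 0
    rw [← hΦX]
    exact h2
  haveI : IsScalarTower k Z T := IsScalarTower.of_algebraMap_eq fun a => by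
    show _ = MvPolynomial.aeval zT (algebraMap k Z a)
    rw [AlgHom.commutes]
  let C : Subalgebra k T := (integralClosure Z T).restrictScalars k
  have hBC : B ≤ C := Algebra.adjoin_le (by rintro _ ⟨⟨i, j⟩, rfl⟩; exact hgen i j)
  haveI : Algebra.IsIntegral Z T := by
    refine ⟨fun x => ?_⟩
    obtain ⟨p, hp, hpe⟩ := Algebra.IsIntegral.isIntegral (R := B) x
    exact isIntegral_trans (R := Z) (A := integralClosure Z T) x
      ⟨p.map ((Subalgebra.inclusion hBC).toRingHom : B →+* integralClosure Z T), hp.map _, by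
        erw [Polynomial.eval₂_map]; exact hpe⟩
  have hZ : ringKrullDim Z = ((c + e - 1 : ℕ) : WithBot ℕ∞) := by
    rw [MvPolynomial.ringKrullDim_of_isNoetherianRing, ringKrullDim_eq_zero_of_field, Nat.card_fin, zero_add]
  exact le_antisymm (hZ ▸ dim_le_of_integral (A := Z) (B := T)) (hZ ▸ dim_le_of_integral_injective hinjZ)

end Groth.Agent.S18647
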