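import Groth.Statements.S18653
import Groth.Agent.Lib.GrStarBasic
import Mathlib

set_option autoImplicit false
universe u
open GrLC

namespace Groth.Agent.S18653

/-- Let R be a graded ring defined over an algebraically closed field k which is an integral domain of
dimension one. Then R is isomorphic to a semigroup ring (the subring of k[T] spanned by the
monomials T^h, h in an additive submonoid H of ℕ); moreover, if R is generated over k by R_1, then R
is a polynomial ring k[T]. Here a graded ring defined over k is a commutative k-algebra of finite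
type graded in nonnegative degrees by k-subspaces with degree-zero part k·1; the isomorphisms
asserted are ring isomorphisms. -/
theorem result (k : Type u) [Field k] [IsAlgClosed k] (R : Type u) [CommRing R] [IsDomain R] [Algebra k R] (𝒜 : ℤ → Submodule k R) [GradedAlgebra 𝒜] (hpos : ∀ n : ℤ, n < 0 → 𝒜 n = ⊥) (h0 : 𝒜 0 = Submodule.span k {(1 : R)}) [Algebra.FiniteType k R] (h1 : ringKrullDim R = 1) : (∃ H : AddSubmonoid ℕ, Nonempty (R ≃+* AddMonoidAlgebra k H)) ∧ (Ideal.span (⋃ n ∈ Set.Ioi (0 : ℤ), (𝒜 n : Set R)) = Ideal.span ((𝒜 1 : Submodule k R) : Set R) → Nonempty (R ≃+* Polynomial k)) := by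
  classical
  haveI : IsNoetherianRing R := Algebra.FiniteType.isNoetherianRing k R
  -- a homogeneous element of positive degree
  obtain ⟨n₀, hn₀, a, ha, ha0⟩ : ∃ n : ℤ, 0 < n ∧ ∃ a ∈ 𝒜 n, a ≠ 0 := by
    by_contra hno
    push_neg at hno
    have hall : ∀ r : R, r ∈ Submodule.span k {(1 : R)} := by
      intro r
      induction r using DirectSum.Decomposition.inductionOn 𝒜 with
      | zero => exact zero_mem _
      | add p q hp hq => exact add_mem hp hq
      | @homogeneous i x =>
        rcases lt_trichotomy i 0 with hi | hi | hi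
        · have : (x : R) ∈ (⊥ : Submodule k R) := hpos i hi ▸ x.2
          rw [(Submodule.mem_bot k).mp this]; exact zero_mem _
        · subst hi; exact h0 ▸ x.2
        · rw [hno i hi x x.2]; exact zero_mem _
    have hf : IsField R := by
      have hs : Function.Surjective (algebraMap k R) := fun r => by
        obtain ⟨c, hc⟩ := Submodule.mem_span_singleton.mp (hall r)
        exact ⟨c, by rw [Algebra.algebraMap_eq_smul_one, hc]⟩
      exact MulEquiv.isField (Field.toIsField k)
        (RingEquiv.ofBijective (algebraMap k R) ⟨(algebraMap k R).injective, hs⟩).symm.toMulEquiv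
    rw [ringKrullDim_eq_zero_of_isField hf] at h1
    exact zero_ne_one h1
  -- a maximal ideal meeting no piece
  have hnu : ¬ IsUnit (1 + a) := by
    intro hu
    obtain ⟨b, hb⟩ := hu.exists_right_inv
    have hb0 : b ≠ 0 := fun h => by simp [h] at hb
    have hne : ((DirectSum.decompose 𝒜 b).support).Nonempty := by
      rw [Finset.nonempty_iff_ne_empty, ne_eq, DFinsupp.support_eq_empty]
      exact fun h => hb0 ((DirectSum.decompose 𝒜).injective (h.trans (DirectSum.decompose_zero 𝒜).symm))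
    set j := (DirectSum.decompose 𝒜 b).support.max' hne
    have hj : GrStarBasic.pr 𝒜 j b ≠ 0 := fun h =>
      DFinsupp.mem_support_iff.mp ((DirectSum.decompose 𝒜 b).support.max'_mem hne) (Subtype.ext h)
    have hzero : ∀ i, j < i → GrStarBasic.pr 𝒜 i b = 0 := fun i hi => by
      by_contra hi0
      exact absurd ((DirectSum.decompose 𝒜 b).support.le_max' i
        (DFinsupp.mem_support_iff.mpr fun h => hi0 (congrArg Subtype.val h))) (not_le.mpr hi)
    have h2 := congrArg (GrStarBasic.pr 𝒜 (n₀ + j)) hb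
    have hjn : 0 ≤ j := by
      by_contra hneg
      have : GrStarBasic.pr 𝒜 j b ∈ (⊥ : Submodule k R) := hpos j (not_le.mp hneg) ▸ GrStarBasic.pr_mem 𝒜 j b
      exact hj ((Submodule.mem_bot k).mp this)
    rw [add_mul, one_mul, map_add, hzero _ (by omega), zero_add, ← smul_eq_mul,
      GrStarBasic.pr_smul_left 𝒜 𝒜 ha, add_sub_cancel_left,
      GrStarBasic.pr_ne 𝒜 (SetLike.one_mem_graded 𝒜) (by omega)] at h2
    exact hj ((mul_eq_zero.mp h2).resolve_left ha0)
  obtain ⟨m, hm, ham⟩ := exists_max_ideal_of_mem_nonunits hnu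
  haveI := hm.isPrime
  have hcore : (m.homogeneousCore 𝒜).toIdeal = ⊥ := by
    haveI hcp : (m.homogeneousCore 𝒜).toIdeal.IsPrime := hm.isPrime.homogeneousCore
    by_contra hne
    have hne' : (m.homogeneousCore 𝒜).toIdeal < m := lt_of_le_of_ne (Ideal.toIdeal_homogeneousCore_le 𝒜 m) fun he => by
      have h1' : GrStarBasic.pr 𝒜 0 (1 + a) ∈ (m.homogeneousCore 𝒜).toIdeal :=
        (m.homogeneousCore 𝒜).isHomogeneous 0 (he.symm ▸ ham)
      rw [map_add, GrStarBasic.pr_same 𝒜 (SetLike.one_mem_graded 𝒜), GrStarBasic.pr_ne 𝒜 ha hn₀.ne', add_zero] at h1'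
      exact hcp.ne_top ((Ideal.eq_top_iff_one _).mpr h1')
    haveI : (⊥ : Ideal R).IsPrime := Ideal.isPrime_bot
    have e1 := Ideal.height_add_one_le_of_lt_of_isPrime (bot_lt_iff_ne_bot.mpr hne)
    have e2 := Ideal.height_add_one_le_of_lt_of_isPrime hne'
    have e3 := Ideal.height_le_ringKrullDim_of_ne_top hm.ne_top
    rw [h1] at e3
    have e4 : m.height ≤ 1 := by exact_mod_cast e3
    have e5 : (1 : ℕ∞) ≤ (m.homogeneousCore 𝒜).toIdeal.height := le_add_self.trans e1
    have e6 : (2 : ℕ∞) ≤ 1 := ((add_le_add e5 le_rfl).trans e2).trans e4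
    exact absurd e6 (by decide)
  letI := Ideal.Quotient.field m
  haveI : Module.Finite k (R ⧸ m) := finite_of_finite_type_of_isJacobsonRing k (R ⧸ m)
  let e := RingEquiv.ofBijective (algebraMap k (R ⧸ m)) IsAlgClosed.algebraMap_bijective_of_isIntegral
  let χ : R →ₐ[k] k :=
    { (e.symm.toRingHom.comp (Ideal.Quotient.mk m)) with
      commutes' := fun c => e.symm_apply_apply c }
  have hχ : ∀ (n : ℤ) (x : R), x ∈ 𝒜 n → χ x = 0 → x = 0 := fun n x hx h => by
    have h' : Ideal.Quotient.mk m x = 0 := e.symm.map_eq_zero_iff.mp h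
    have := Ideal.mem_homogeneousCore_of_homogeneous_of_mem ⟨n, hx⟩ (Ideal.Quotient.eq_zero_iff_mem.mp h')
    replace this : x ∈ (m.homogeneousCore 𝒜).toIdeal := this
    rw [hcore] at this
    exact this
  let H : AddSubmonoid ℕ :=
    { carrier := {n | ∃ x ∈ 𝒜 (n : ℤ), χ x = 1}
      zero_mem' := ⟨1, SetLike.one_mem_graded 𝒜, map_one χ⟩
      add_mem' := by
        rintro p q ⟨x, hx, hx1⟩ ⟨y, hy, hy1⟩
        exact ⟨x * y, by simpa using SetLike.mul_mem_graded hx hy, by rw [map_mul, hx1, hy1, mul_one]⟩ }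
  choose ε hεm hε1 using fun n : H => n.2
  let εh : Multiplicative H →* R :=
    { toFun := fun n => ε n.toAdd
      map_one' := sub_eq_zero.mp (hχ 0 _ (Submodule.sub_mem _ (hεm 0) (SetLike.one_mem_graded 𝒜))
        (by rw [map_sub, hε1, map_one χ, sub_self]))
      map_mul' := fun p q => sub_eq_zero.mp (hχ ((p.toAdd + q.toAdd : H) : ℕ) _
        (Submodule.sub_mem _ (hεm _) (by simpa using SetLike.mul_mem_graded (hεm p.toAdd) (hεm q.toAdd)))
        (by rw [map_sub, hε1, map_mul χ, hε1, hε1, mul_one, sub_self])) }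
  let φ : AddMonoidAlgebra k H →ₐ[k] R := AddMonoidAlgebra.lift k R H εh
  have hφ : ∀ (n : H) (c : k), φ (AddMonoidAlgebra.single n c) = c • ε n := fun n c => by
    simp [φ, AddMonoidAlgebra.lift_single, εh]
  have hpiece : ∀ (i : ℤ) (x : R), x ∈ 𝒜 i → x ≠ 0 → ∃ n : H, ((n : ℕ) : ℤ) = i ∧ x = χ x • ε n := by
    intro i x hx hx0
    have hi : 0 ≤ i := by
      by_contra hneg
      exact hx0 ((Submodule.mem_bot k).mp (hpos i (not_le.mp hneg) ▸ hx))
    have hχ0 : χ x ≠ 0 := fun h => hx0 (hχ i x hx h)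
    have hn : ((i.toNat : ℕ) : ℤ) = i := Int.toNat_of_nonneg hi
    have hmem : i.toNat ∈ H := ⟨(χ x)⁻¹ • x, hn.symm ▸ Submodule.smul_mem _ _ hx, by
      rw [map_smul, smul_eq_mul, inv_mul_cancel₀ hχ0]⟩
    refine ⟨⟨i.toNat, hmem⟩, hn, sub_eq_zero.mp (hχ i _ (Submodule.sub_mem _ hx (Submodule.smul_mem _ _ ?_)) ?_)⟩
    · have := hεm ⟨i.toNat, hmem⟩
      rwa [hn] at this
    · rw [map_sub, map_smul, hε1, smul_eq_mul, mul_one, sub_self]
  have hφc : ∀ (f : AddMonoidAlgebra k H) (n : H), GrStarBasic.pr 𝒜 ((n : ℕ) : ℤ) (φ f) = f.coeff n • ε n := by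
    intro f n
    induction f using AddMonoidAlgebra.induction_linear with
    | zero => simp
    | add f g hf hg => rw [map_add, map_add, hf, hg]; simp [add_smul]
    | single p c =>
      rw [hφ]
      have hm' : c • ε p ∈ 𝒜 ((p : ℕ) : ℤ) := Submodule.smul_mem _ _ (hεm p)
      by_cases hp : p = n
      · subst hp; rw [GrStarBasic.pr_same 𝒜 hm']; simp
      · rw [GrStarBasic.pr_ne 𝒜 hm' (fun he => hp (Subtype.ext (by exact_mod_cast he)))]
        simp [Finsupp.single_eq_of_ne (Ne.symm hp)]
  have hbij : Function.Bijective φ := by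
    refine ⟨(injective_iff_map_eq_zero φ).mpr fun f hf => ?_, fun r => ?_⟩
    · ext n
      have h2 := hφc f n
      rw [hf, map_zero] at h2
      have h3 := congrArg χ h2
      rw [map_zero, map_smul, hε1, smul_eq_mul, mul_one] at h3
      exact h3.symm
    · show r ∈ φ.range
      induction r using DirectSum.Decomposition.inductionOn 𝒜 with
      | zero => exact zero_mem _
      | add p q hp hq => exact add_mem hp hq
      | @homogeneous i x =>
        by_cases hx0 : (x : R) = 0
        · rw [hx0]; exact zero_mem _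
        obtain ⟨n, -, hn⟩ := hpiece i x x.2 hx0
        exact ⟨AddMonoidAlgebra.single n (χ (x : R)), (hφ _ _).trans hn.symm⟩
  refine ⟨⟨H, ⟨(RingEquiv.ofBijective φ hbij).symm⟩⟩, fun hstd => ?_⟩
  have h1H : 1 ∈ H := by
    by_contra hnot
    have hR1 : ((𝒜 1 : Submodule k R) : Set R) ⊆ {0} := fun x hx => by
      by_contra hx0
      obtain ⟨n, hn, -⟩ := hpiece 1 x hx hx0
      exact hnot ((show (n : ℕ) = 1 by exact_mod_cast hn) ▸ n.2)
    have hmem : a ∈ Ideal.span ((𝒜 1 : Submodule k R) : Set R) :=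
      hstd ▸ Ideal.subset_span (Set.mem_iUnion₂.mpr ⟨n₀, hn₀, ha⟩)
    have hle : Ideal.span ((𝒜 1 : Submodule k R) : Set R) ≤ ⊥ := Ideal.span_le.mpr fun y hy => hR1 hy
    exact ha0 (hle hmem)
  have hall : ∀ n : ℕ, n ∈ H := fun n => by simpa using AddSubmonoid.nsmul_mem H h1H n
  have hH : H = ⊤ := eq_top_iff.mpr fun n _ => hall n
  let u : H ≃+ ℕ := (AddEquiv.addSubmonoidCongr hH).trans AddSubmonoid.topEquiv
  exact ⟨(RingEquiv.ofBijective φ hbij).symm.trans ((AddMonoidAlgebra.mapDomainRingEquiv k u).trans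
    (Polynomial.toFinsuppIso k).symm)⟩

end Groth.Agent.S18653
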