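import Groth.Statements.S18654
import Groth.Agent.Lib.GrStarBasic
import Groth.Agent.Lib.H2Depth
import Mathlib

set_option autoImplicit false
universe u
open GrLC

namespace Groth.Agent.S18654

/-- Let R be a graded ring defined over a field k = R_0 which is Cohen–Macaulay and generated over k by
R_1, with dim R ≥ 1, and write H(n, R) = dim_k R_n. Then H(n + 1, R) ≥ H(n, R) for every integer n.
Here 'graded ring defined over a field' means R = ⊕_{n ≥ 0} R_n is Noetherian with R_0 a field, and
m = R_+ is its unique graded maximal ideal. -/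
theorem result (R : Type u) [CommRing R] [LocCoh.IsCohenMacaulayRing R] (𝒜 : ℤ → AddSubgroup R) [GradedRing 𝒜] (hpos : ∀ n : ℤ, n < 0 → 𝒜 n = ⊥) (h0 : IsField (GrLC.deg0 𝒜)) (hstd : Ideal.span (⋃ n ∈ Set.Ioi (0 : ℤ), (𝒜 n : Set R)) = Ideal.span ((𝒜 1 : AddSubgroup R) : Set R)) (h1 : 1 ≤ ringKrullDim R) (n : ℤ) : Module.finrank (GrLC.deg0 𝒜) (GrLC.comp 𝒜 𝒜 n) ≤ Module.finrank (GrLC.deg0 𝒜) (GrLC.comp 𝒜 𝒜 (n + 1)) := by
  classical
  let k := GrLC.deg0 𝒜
  letI : Field ↥(GrLC.deg0 𝒜) := h0.toField
  set m : Ideal R := Ideal.span (⋃ n ∈ Set.Ioi (0 : ℤ), (𝒜 n : Set R)) with hmdef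
  -- degree zero plus `m`
  have hdec : ∀ r : R, r - Groth.Agent.GrStarBasic.pr 𝒜 0 r ∈ m := by
    intro r
    induction r using DirectSum.Decomposition.inductionOn 𝒜 with
    | zero => simp
    | add a b ha hb => rw [map_add, add_sub_add_comm]; exact add_mem ha hb
    | @homogeneous i a =>
      rcases lt_trichotomy i 0 with hi | hi | hi
      · have : (a : R) ∈ (⊥ : AddSubgroup R) := hpos i hi ▸ a.2
        rw [AddSubgroup.mem_bot] at this
        simp [this]
      · subst hi
        rw [Groth.Agent.GrStarBasic.pr_same 𝒜 a.2, sub_self]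
        exact zero_mem _
      · rw [Groth.Agent.GrStarBasic.pr_ne 𝒜 a.2 (by omega), sub_zero]
        exact Ideal.subset_span (Set.mem_iUnion₂.mpr ⟨i, hi, a.2⟩)
  have hunit : ∀ a : R, a ∈ 𝒜 0 → a ≠ 0 → IsUnit a := fun a ha ha0 => by
    have h : IsUnit (⟨a, ha⟩ : ↥(GrLC.deg0 𝒜)) := IsUnit.mk0 _ fun h => ha0 (congrArg Subtype.val h)
    exact h.map (GrLC.deg0 𝒜).subtype
  have hsplit : ∀ q : Ideal R, q ≠ ⊤ → q.IsHomogeneous 𝒜 → q ≤ m := fun q hq hqh r hr => by
    have h0r : Groth.Agent.GrStarBasic.pr 𝒜 0 r = 0 := by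
      by_contra hne
      exact hq (Ideal.eq_top_of_isUnit_mem _ (hqh 0 hr) (hunit _ (Groth.Agent.GrStarBasic.pr_mem 𝒜 0 r) hne))
    simpa [h0r] using hdec r
  -- generators in degree one
  obtain ⟨s, hs, hsm⟩ := (Submodule.fg_span_iff_fg_span_finset_subset (R := R) (M := R)
    ((𝒜 1 : AddSubgroup R) : Set R)).mp (IsNoetherian.noetherian _)
  have hsm' : m = Ideal.span (s : Set R) := hstd.trans hsm
  let x : Fin s.card → R := fun i => (s.equivFin.symm i : R)
  have hx : ∀ i, x i ∈ 𝒜 1 := fun i => hs (s.equivFin.symm i).2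
  have hxs : ∀ y ∈ s, ∃ i, x i = y := fun y hy => ⟨s.equivFin ⟨y, hy⟩, by simp [x]⟩
  -- the pieces are finite dimensional
  have hfin : ∀ n : ℤ, Module.Finite ↥(GrLC.deg0 𝒜) ↥(GrLC.comp 𝒜 𝒜 n) := by
    suffices key : ∀ (N : ℕ) (n : ℤ), n < N → (GrLC.comp 𝒜 𝒜 n).FG from
      fun n => Module.Finite.iff_fg.mpr (key (n.toNat + 1) n (by omega))
    intro N
    induction N with
    | zero =>
      intro n hn
      have : GrLC.comp 𝒜 𝒜 n = ⊥ := (Submodule.eq_bot_iff _).mpr fun y hy => by
        have : y ∈ (⊥ : AddSubgroup R) := hpos n (by omega) ▸ (show y ∈ 𝒜 n from hy)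
        exact AddSubgroup.mem_bot.mp this
      rw [this]; exact Submodule.fg_bot
    | succ N ih =>
      intro n hn
      rcases eq_or_ne n 0 with rfl | hn0
      · refine ⟨{1}, le_antisymm (Submodule.span_le.mpr ?_) fun y hy => ?_⟩
        · simp only [Finset.coe_singleton, Set.singleton_subset_iff]
          exact SetLike.one_mem_graded 𝒜
        · have h : y ∈ Submodule.span ↥(GrLC.deg0 𝒜) ({1} : Set R) := Submodule.mem_span_singleton.mpr ⟨⟨y, hy⟩, mul_one y⟩
          simpa using h
      rcases lt_or_ge n 0 with hneg | hpos'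
      · exact ih n (by omega)
      have hle : GrLC.comp 𝒜 𝒜 n = ⨆ i, (GrLC.comp 𝒜 𝒜 (n - 1)).map
          (LinearMap.mulLeft ↥(GrLC.deg0 𝒜) (x i)) := by
        refine le_antisymm (fun y hy => ?_) (iSup_le fun i => Submodule.map_le_iff_le_comap.mpr fun z hz => ?_)
        · have hym : y ∈ m := Ideal.subset_span (Set.mem_iUnion₂.mpr ⟨n, (show (0 : ℤ) < n by omega), hy⟩)
          have hgoal : Groth.Agent.GrStarBasic.pr 𝒜 n y ∈ ⨆ i, (GrLC.comp 𝒜 𝒜 (n - 1)).map
              (LinearMap.mulLeft ↥(GrLC.deg0 𝒜) (x i)) := by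
            clear hy
            rw [hsm'] at hym
            suffices h : ∀ c, Groth.Agent.GrStarBasic.pr 𝒜 n (c * y) ∈ ⨆ i, (GrLC.comp 𝒜 𝒜 (n - 1)).map
                (LinearMap.mulLeft ↥(GrLC.deg0 𝒜) (x i)) by simpa using h 1
            induction hym using Submodule.span_induction with
            | mem z hz =>
              intro c
              obtain ⟨i, rfl⟩ := hxs z hz
              rw [← smul_eq_mul, Groth.Agent.GrStarBasic.pr_smul_right 𝒜 𝒜 (hx i)]
              refine Submodule.mem_iSup_of_mem i ⟨_, Groth.Agent.GrStarBasic.pr_mem 𝒜 (n - 1) c, ?_⟩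
              exact mul_comm _ _
            | zero => intro c; rw [mul_zero, map_zero]; exact zero_mem _
            | add a b _ _ ha hb => intro c; rw [mul_add, map_add]; exact add_mem (ha c) (hb c)
            | smul d a _ ha => intro c; rw [smul_eq_mul, ← mul_assoc]; exact ha _
          rwa [Groth.Agent.GrStarBasic.pr_same 𝒜 hy] at hgoal
        · show x i * z ∈ 𝒜 n
          have := SetLike.mul_mem_graded (A := 𝒜) (hx i) hz
          rwa [add_sub_cancel] at this
      rw [hle]
      exact Submodule.fg_iSup _ fun i => (ih (n - 1) (by omega)).map _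
  -- `(0 : m) = 0`
  have hnzd : ∀ c : R, (∀ r ∈ m, c * r = 0) → c = 0 := by
    intro c hc
    by_contra hc0
    have hm1 : m ≠ ⊤ := fun h => hc0 (by simpa using hc 1 (h ▸ Submodule.mem_top))
    have hmmax : m.IsMaximal := by
      refine ⟨⟨hm1, fun J hJ => ?_⟩⟩
      obtain ⟨r, hrJ, hrm⟩ := SetLike.exists_of_lt hJ
      have hr0 : Groth.Agent.GrStarBasic.pr 𝒜 0 r ≠ 0 := fun h => hrm (by simpa [h] using hdec r)
      refine Ideal.eq_top_of_isUnit_mem _ ?_ (hunit _ (Groth.Agent.GrStarBasic.pr_mem 𝒜 0 r) hr0)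
      have := J.sub_mem hrJ (hJ.le (hdec r))
      rwa [sub_sub_cancel] at this
    haveI := hmmax.isPrime
    haveI := LocCoh.IsCohenMacaulayRing.isCohenMacaulayLocalRing_localization (R := R) m
    have hdimne : ringKrullDim (Localization.AtPrime m) ≠ 0 := by
      rw [IsLocalization.AtPrime.ringKrullDim_eq_height m]
      intro hh
      have hht : m.height = 0 := by exact_mod_cast hh
      have hmin : m ∈ minimalPrimes R := Ideal.height_eq_zero_iff.mp hht
      have hall : ∀ q : Ideal R, q.IsPrime → q = m := by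
        intro q hq
        obtain ⟨p, hp, hpq⟩ := Ideal.exists_minimalPrimes_le (I := (⊥ : Ideal R)) (J := q) bot_le
        have hph : p.IsHomogeneous 𝒜 := by
          have h1 : (p.homogeneousCore 𝒜).toIdeal.IsPrime := hp.1.1.homogeneousCore
          have h2 := hp.2 ⟨h1, bot_le⟩ (Ideal.toIdeal_homogeneousCore_le 𝒜 p)
          have h3 : (p.homogeneousCore 𝒜).toIdeal = p := le_antisymm (Ideal.toIdeal_homogeneousCore_le 𝒜 p) h2
          rw [← h3]
          exact (p.homogeneousCore 𝒜).isHomogeneous
        have hpm : p ≤ m := hsplit p hp.1.1.ne_top hph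
        have hmp : m ≤ p := hmin.2 ⟨hp.1.1, bot_le⟩ hpm
        exact (hmmax.eq_of_le hq.ne_top (hmp.trans hpq)).symm
      haveI : Ring.KrullDimLE 0 R := Ring.KrullDimLE.mk₀ fun q hq => hall q hq ▸ hmmax
      have h' : ringKrullDim R ≤ 0 := Ring.krullDimLE_iff.mp inferInstance
      exact absurd (h1.trans h') (by decide)
    have hreg : Groth.Agent.H2Depth.HasReg (IsLocalRing.maximalIdeal (Localization.AtPrime m))
        (Localization.AtPrime m) 1 := by
      refine (Groth.Agent.H2Depth.hasReg_iff_le_idealDepth ?_).2 ?_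
      · rw [Ideal.smul_eq_mul, Ideal.mul_top]
        exact (IsLocalRing.maximalIdeal.isMaximal _).ne_top
      · have := LocCoh.IsCohenMacaulayLocalRing.supportDim_eq_depth (R := Localization.AtPrime m)
        rw [Module.supportDim_self_eq_ringKrullDim] at this
        by_contra hlt
        have hd0 : LocCoh.depth (Localization.AtPrime m) (Localization.AtPrime m) = 0 := ENat.lt_one_iff_eq_zero.mp (not_le.mp hlt)
        rw [hd0] at this
        exact hdimne (by simpa using this)
    obtain ⟨rs, hlen, hrs, hmem⟩ := hreg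
    obtain ⟨t, rfl⟩ := List.length_eq_one_iff.mp hlen
    have ht : IsSMulRegular (Localization.AtPrime m) t := ((RingTheory.Sequence.isWeaklyRegular_cons_iff _ _ _).mp hrs).1
    have hc1 : algebraMap R (Localization.AtPrime m) c = 0 := by
      refine ht ?_
      show t * algebraMap R _ c = t • (0 : Localization.AtPrime m)
      rw [smul_zero]
      have htm : t ∈ IsLocalRing.maximalIdeal (Localization.AtPrime m) := hmem t (List.mem_singleton_self t)
      rw [← Localization.AtPrime.map_eq_maximalIdeal] at htm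
      have hle : m.map (algebraMap R (Localization.AtPrime m)) ≤
          (Submodule.span (Localization.AtPrime m) {algebraMap R (Localization.AtPrime m) c}).annihilator := by
        refine Ideal.map_le_iff_le_comap.mpr fun r hr => ?_
        rw [Ideal.mem_comap, Submodule.mem_annihilator_span_singleton, smul_eq_mul, ← map_mul, mul_comm, hc r hr, map_zero]
      exact (Submodule.mem_annihilator_span_singleton _ _).mp (hle htm)
    obtain ⟨⟨u, hu⟩, huc⟩ := (IsLocalization.map_eq_zero_iff m.primeCompl _ c).mp hc1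
    change u * c = 0 at huc
    have hu0 : Groth.Agent.GrStarBasic.pr 𝒜 0 u ≠ 0 := fun h => hu (by simpa [h] using hdec u)
    refine hc0 ((hunit _ (Groth.Agent.GrStarBasic.pr_mem 𝒜 0 u) hu0).mul_right_eq_zero.mp ?_)
    have h2 := hc _ (hdec u)
    rwa [mul_sub, mul_comm c u, huc, zero_sub, neg_eq_zero, mul_comm] at h2
  -- the generic element
  let F : Polynomial R := ∑ i : Fin s.card, Polynomial.C (x i) * Polynomial.X ^ (i : ℕ)
  have hFc : ∀ i : Fin s.card, F.coeff i = x i := fun i => by
    simp [F, Polynomial.finset_sum_coeff, Polynomial.coeff_X_pow, Fin.val_inj]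
  have hF : F ∈ nonZeroDivisors (Polynomial R) := Polynomial.mem_nonZeroDivisors_iff.mpr fun a ha => by
    refine hnzd a fun r hr => ?_
    rw [hsm'] at hr
    induction hr using Submodule.span_induction with
    | mem z hz =>
      obtain ⟨i, rfl⟩ := hxs z hz
      have := congrArg (fun p => Polynomial.coeff p i) ha
      simpa [hFc] using this
    | zero => rw [mul_zero]
    | add b b' _ _ hb hb' => rw [mul_add, hb, hb', add_zero]
    | smul d b _ hb => rw [smul_eq_mul, mul_left_comm, hb, mul_zero]
  have hFmem : ∀ j, F.coeff j ∈ 𝒜 1 := fun j => by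
    rw [Polynomial.finset_sum_coeff]
    refine sum_mem fun i _ => ?_
    rw [Polynomial.coeff_C_mul, Polynomial.coeff_X_pow]
    split_ifs with h
    · rw [mul_one]; exact hx i
    · rw [mul_zero]; exact zero_mem _
  haveI := hfin n
  haveI := hfin (n + 1)
  have main : ∀ D : ℕ, D * Module.finrank ↥(GrLC.deg0 𝒜) ↥(GrLC.comp 𝒜 𝒜 n) ≤
      (D + s.card) * Module.finrank ↥(GrLC.deg0 𝒜) ↥(GrLC.comp 𝒜 𝒜 (n + 1)) := by
    intro D
    let G : (Fin D → ↥(GrLC.comp 𝒜 𝒜 n)) → Polynomial R := fun a => ∑ i : Fin D, Polynomial.monomial (i : ℕ) (a i : R)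
    have hGc : ∀ a (j : Fin D), (G a).coeff j = a j := fun a j => by
      simp [G, Polynomial.finset_sum_coeff, Polynomial.coeff_monomial, Fin.val_inj]
    have hGmem : ∀ a j, (G a).coeff j ∈ 𝒜 n := fun a j => by
      simp only [G, Polynomial.finset_sum_coeff, Polynomial.coeff_monomial]
      refine sum_mem fun i _ => ?_
      split_ifs with h
      · exact (a i).2
      · exact zero_mem _
    have hmem : ∀ a j, (F * G a).coeff j ∈ 𝒜 (n + 1) := fun a j => by
      rw [Polynomial.coeff_mul]
      refine sum_mem fun p _ => ?_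
      have := SetLike.mul_mem_graded (A := 𝒜) (hFmem p.1) (hGmem a p.2)
      rwa [add_comm 1 n] at this
    let L : (Fin D → ↥(GrLC.comp 𝒜 𝒜 n)) →ₗ[↥(GrLC.deg0 𝒜)] (Fin (D + s.card) → ↥(GrLC.comp 𝒜 𝒜 (n + 1))) :=
      { toFun := fun a j => ⟨(F * G a).coeff j, hmem a j⟩
        map_add' := fun a b => funext fun j => Subtype.ext (by
          simp [G, Finset.sum_add_distrib, mul_add])
        map_smul' := fun c a => funext fun j => Subtype.ext (by
          have : G (c • a) = Polynomial.C (c : R) * G a := by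
            simp only [G, Finset.mul_sum, Polynomial.C_mul_monomial]
            rfl
          show (F * G (c • a)).coeff j = (c : R) * (F * G a).coeff j
          rw [this, mul_left_comm, Polynomial.coeff_C_mul]) }
    have hL : Function.Injective L := (injective_iff_map_eq_zero L).mpr fun a ha => by
      have h0' : F * G a = 0 := Polynomial.ext fun j => by
        rw [Polynomial.coeff_zero]
        by_cases hj : j < D + s.card
        · exact congrArg Subtype.val (congrFun ha ⟨j, hj⟩)
        · rw [Polynomial.coeff_mul]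
          refine Finset.sum_eq_zero fun p hp => ?_
          replace hp := Finset.HasAntidiagonal.mem_antidiagonal.mp hp
          by_cases h1 : p.1 < s.card
          · have : (G a).coeff p.2 = 0 := by
              simp only [G, Polynomial.finset_sum_coeff, Polynomial.coeff_monomial]
              refine Finset.sum_eq_zero fun i _ => if_neg ?_
              have := i.isLt; omega
            rw [this, mul_zero]
          · have : F.coeff p.1 = 0 := by
              simp only [F, Polynomial.finset_sum_coeff, Polynomial.coeff_C_mul, Polynomial.coeff_X_pow]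
              refine Finset.sum_eq_zero fun i _ => by
                rw [if_neg (by have := i.isLt; omega), mul_zero]
            rw [this, zero_mul]
      have hG : G a = 0 := hF.1 _ h0'
      exact funext fun j => Subtype.ext (by simpa [hG] using (hGc a j).symm)
    have := LinearMap.finrank_le_finrank_of_injective hL
    simpa [Module.finrank_pi_fintype] using this
  by_contra hlt
  have h := main (s.card * Module.finrank ↥(GrLC.deg0 𝒜) ↥(GrLC.comp 𝒜 𝒜 (n + 1)) + 1)
  set A := Module.finrank ↥(GrLC.deg0 𝒜) ↥(GrLC.comp 𝒜 𝒜 n)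
  set B := Module.finrank ↥(GrLC.deg0 𝒜) ↥(GrLC.comp 𝒜 𝒜 (n + 1))
  have hAB : B + 1 ≤ A := by omega
  have := Nat.mul_le_mul_left (s.card * B + 1) hAB
  nlinarith

end Groth.Agent.S18654
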