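import Groth.Statements.S18656
import Groth.Agent.Lib.GrStarRegLE
import Groth.Agent.Lib.GrStarKoszul
import Groth.Agent.Lib.H2LCCd
import Groth.Agent.Lib.GrStarAcyclic
import Mathlib

set_option autoImplicit false
universe u
open GrLC

namespace Groth.Agent.S18656

open Groth.Agent.GrStarBasic Groth.Agent.GrStarHull Groth.Agent.GrStarPrime Groth.Agent.GrStarVan Groth.Agent.GrStarLES
open Groth.Agent.GrStarKoszul in
/-- shifts of the ring mapping onto the span of finitely many forms of degree one -/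
theorem exists_cover {R : Type u} [CommRing R] [IsNoetherianRing R] {𝒜 : ℤ → AddSubgroup R} [GradedRing 𝒜]
    (a : HomogeneousIdeal 𝒜) {r : ℕ} {n : ℤ} (h : Van a (bundle 𝒜 𝒜) r (n - 1)) :
    ∀ t : Finset R, (∀ x ∈ t, x ∈ 𝒜 1) → ∃ (Y : GrLC.GMod.{u} 𝒜) (φ : Y.carrier →ₗ[R] R),
      GrLC.IsGrHom Y.gr 𝒜 φ ∧ Van a Y r n ∧ LinearMap.range φ = Ideal.span (t : Set R) := by
  classical
  intro t
  induction t using Finset.induction_on with
  | empty =>
    intro _
    exact ⟨zMod (bundle 𝒜 𝒜), 0, fun g x _ => zero_mem _, van_of_subsingleton r n,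
      by rw [LinearMap.range_zero, Finset.coe_empty, Ideal.span_empty]⟩
  | insert x t hx ih =>
    intro ht
    obtain ⟨Y, φ, hφ, hY, hran⟩ := ih fun z hz => ht z (Finset.mem_insert_of_mem hz)
    let S := shMod 𝒜 (bundle 𝒜 𝒜).gr (-1)
    let μ : S.carrier →ₗ[R] R := mulMap (bundle 𝒜 𝒜) x
    let ψ : (prodMod S Y).carrier →ₗ[R] R := LinearMap.coprod μ φ
    refine ⟨prodMod S Y, ψ, fun g v hv => ?_, van_prod ((van_shift (-1)).mpr (by rwa [← sub_eq_add_neg])) hY, ?_⟩
    · exact add_mem (mulMap_gr (bundle 𝒜 𝒜) (ht x (Finset.mem_insert_self x t)) g v.1 hv.1) (hφ g v.2 hv.2)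
    · refine (LinearMap.range_coprod μ φ).trans ?_
      rw [hran, Finset.coe_insert, Ideal.span_insert]
      congr 1
      ext z
      rw [Ideal.mem_span_singleton']
      constructor
      · rintro ⟨(c : R), rfl⟩
        exact ⟨c, mul_comm c x⟩
      · rintro ⟨(c : R), rfl⟩
        exact ⟨c, mul_comm x c⟩


/-- Let R be a graded ring defined over a field k = R_0, generated over k by R_1, of dimension r ≥ 1,
and let a(R) be its a-invariant. Then the homogeneous piece H^r_m(R)_n is nonzero for every n ≤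
a(R). Here 'graded ring defined over a field' means R = ⊕_{n ≥ 0} R_n is Noetherian with R_0 a
field, and m = R_+ is its unique graded maximal ideal. The a-invariant a(R) is the largest degree in
which the graded local cohomology H^n_m(R) (n = dim R, m = R_+), computed from a *injective
resolution of R in the graded category, is nonzero. -/
theorem result (R : Type u) [CommRing R] [IsNoetherianRing R] (𝒜 : ℤ → AddSubgroup R) [GradedRing 𝒜] (hpos : ∀ n : ℤ, n < 0 → 𝒜 n = ⊥) (h0 : IsField (GrLC.deg0 𝒜)) (m : HomogeneousIdeal 𝒜) (hm : GrLC.IsStarLocal 𝒜 m) (hmsp : m.toIdeal = Ideal.span (⋃ n ∈ Set.Ioi (0 : ℤ), (𝒜 n : Set R))) (hstd : Ideal.span (⋃ n ∈ Set.Ioi (0 : ℤ), (𝒜 n : Set R)) = Ideal.span ((𝒜 1 : AddSubgroup R) : Set R)) (r : ℕ) (hr : ringKrullDim R = r) (h1 : 1 ≤ r) (I : GrLC.StarInjRes 𝒜 𝒜) (a : ℤ) (ha : GrLC.endDeg (I.Hgr m r) = ((a : WithTop ℤ) : WithBot (WithTop ℤ))) (n : ℤ) (hn : n ≤ a) : I.Hcomp m r n ≠ ⊥ := by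
  classical
  have hm1 : m.toIdeal = Ideal.span ((𝒜 1 : AddSubgroup R) : Set R) := hmsp.trans hstd
  have hbig : ∀ (X : GrLC.GMod.{u} 𝒜) (g : ℤ), Van m X (r + 1) g := by
    intro X g E
    obtain ⟨φ⟩ := Groth.Agent.GrStarAcyclic.exists_H_equiv E m (r + 1)
    haveI := Groth.Agent.H2LC.subsingleton_of_supportDim_lt (I := m.toIdeal) (M := X.carrier) (i := r + 1)
      (lt_of_le_of_lt (Module.supportDim_le_ringKrullDim R X.carrier) (by rw [hr]; exact_mod_cast r.lt_succ_self))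
    haveI := φ.subsingleton
    exact (AddSubgroup.eq_bot_iff_forall _).mpr fun x _ => Subsingleton.elim x 0
  have step : ∀ g : ℤ, Van m (bundle 𝒜 𝒜) r (g - 1) → Van m (bundle 𝒜 𝒜) r g := by
    intro g hg
    obtain ⟨t, htsub, ht⟩ := (Submodule.fg_span_iff_fg_span_finset_subset ((𝒜 1 : AddSubgroup R) : Set R)).mp
      (show (Ideal.span ((𝒜 1 : AddSubgroup R) : Set R)).FG from IsNoetherian.noetherian _)
    replace ht : Ideal.span (t : Set R) = m.toIdeal := by rw [hm1]; exact ht.symm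
    obtain ⟨Y, φ, hφ, hY, hran⟩ := exists_cover m hg t fun x hx => htsub hx
    have hφh : (LinearMap.ker φ).IsHomogeneous Y.gr := ker_homogeneous hφ
    let φ₀ : Y.carrier →ₗ[R] (bundle 𝒜 𝒜).carrier := φ
    let P : Submodule R (bundle 𝒜 𝒜).carrier := LinearMap.range φ₀
    have hP : P.IsHomogeneous (bundle 𝒜 𝒜).gr := range_homogeneous (closure_pieces Y.gr) (f := φ₀) hφ
    have hPm : ∀ z : R, (z : (bundle 𝒜 𝒜).carrier) ∈ P ↔ z ∈ m.toIdeal := fun z => by
      rw [← ht, ← hran]; exact Iff.rfl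
    let A := subMod 𝒜 (bundle 𝒜 𝒜).gr hP
    let φ' : Y.carrier →ₗ[R] A.carrier := φ₀.rangeRestrict
    have hA : Van m A r g := by
      refine van_right (A := subMod 𝒜 Y.gr hφh) (f := (LinearMap.ker φ).subtype) (g := φ')
        (subtype_grHom 𝒜 Y.gr hφh) (fun j y hy => hφ j y hy) Subtype.val_injective ?_ ?_ hY (hbig _ g)
      · exact LinearMap.surjective_rangeRestrict φ₀
      · intro y
        exact ⟨fun h => ⟨⟨y, congrArg Subtype.val h⟩, rfl⟩, fun ⟨z, hz⟩ => Subtype.ext (by rw [← hz]; exact z.2)⟩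
    refine van_middle (C := quoMod 𝒜 (bundle 𝒜 𝒜).gr hP) (f := P.subtype) (g := P.mkQ)
      (subtype_grHom 𝒜 (bundle 𝒜 𝒜).gr hP) (mkQ_grHom 𝒜 (bundle 𝒜 𝒜).gr hP) Subtype.val_injective
      (Submodule.mkQ_surjective _) (LinearMap.exact_subtype_mkQ _) hA ?_
    obtain ⟨r', rfl⟩ : ∃ r', r = r' + 1 := ⟨r - 1, by omega⟩
    exact van_of_torsion (fun z => Groth.Agent.GrStarKoszul.mem_gam_quot hP
      (fun b hb x => (hPm _).mpr (Ideal.mul_mem_right _ _ hb)) z) r' g
  intro hbot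
  have hn' : Van m (bundle 𝒜 𝒜) r n := (Groth.Agent.GrStarRegLE.hcomp_iff I m r n).mp hbot
  have up : ∀ k : ℕ, Van m (bundle 𝒜 𝒜) r (n + k) := by
    intro k
    induction k with
    | zero => simpa using hn'
    | succ k ih => exact step _ (by rwa [show n + ((k + 1 : ℕ) : ℤ) - 1 = n + k by omega])
  have hall : ∀ g, n ≤ g → I.Hgr m r g = ⊥ := fun g hg => by
    obtain ⟨k, rfl⟩ : ∃ k : ℕ, g = n + k := ⟨(g - n).toNat, by omega⟩
    exact (van_iff' I).mp (up k)
  have hle : GrLC.endDeg (I.Hgr m r) ≤ (((a - 1 : ℤ) : WithTop ℤ) : WithBot (WithTop ℤ)) := by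
    refine Groth.Agent.GrStarRegLE.endDeg_le_iff.mpr fun g hg => hall g (by omega)
  rw [ha, WithBot.coe_le_coe, WithTop.coe_le_coe] at hle
  omega

end Groth.Agent.S18656
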