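import Groth.Statements.S18668
import Groth.Agent.Lib.LSectRing

set_option autoImplicit false
universe u
open GrSect

namespace Groth.Agent.S18668

/-- Let X be a complete smooth curve of genus g ≥ 1 over an algebraically closed field k, P a closed
point, R = R_{X,P} = ⊕_{n ≥ 0} H^0(X, O_X(nP)) and H = H_{X,P} its Weierstrass semigroup. For any
nonzero t of degree one in R, t is prime in R and the quotient R/tR is isomorphic to k[H], the
semigroup algebra of H. Here the complete smooth curve X over the algebraically closed field k is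
given by its function field K/k (a function field of one variable in which k is algebraically
closed), the closed point P by a place of K/k, g ≥ 1 is the genus, H^0(X, O_X(nP)) = L(nP), and
R_{X,P} = ⊕_{n ≥ 0} L(nP)·T^n is realised as the k-subalgebra of K[T] of polynomials whose
coefficient of T^n lies in L(nP); the Weierstrass semigroup H_{X,P} is the set of n ≥ 0 with ℓ(nP) =
ℓ((n−1)P) + 1. The isomorphism is stated as a k-algebra isomorphism with the semigroup algebra of
the additive submonoid of ℕ generated by H_{X,P} (which is H_{X,P} itself). -/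
theorem result (k : Type u) [Field k] [IsAlgClosed k] (K : Type u) [Field K] [Algebra k K] (hK : FunFld.IsFunctionField k K) (hg : 1 ≤ FunFld.genus k K) (P : FunFld.Place k K) (t : ↥(W4c6gradedringsgw.sectRing (Finsupp.single P 1 : FunFld.Divisor k K))) (a : K) (ha : a ≠ 0) (ht : (t : Polynomial K) = Polynomial.C a * Polynomial.X) : Prime t ∧ Nonempty ((↥(W4c6gradedringsgw.sectRing (Finsupp.single P 1 : FunFld.Divisor k K)) ⧸ Ideal.span {t}) ≃ₐ[k] AddMonoidAlgebra k ↥(AddSubmonoid.closure (W4c6gradedringsgw.poleOrders P))) := by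
  open Groth.Agent.FF FunFld Polynomial W4c6gradedringsgw Groth.Agent.LSectRing in
  classical
  set H := poleOrders P with hH
  let R := sectRing (Finsupp.single P 1 : FunFld.Divisor k K)
  have hmemR : ∀ p : K[X], p ∈ R ↔ ∀ n : ℕ, p.coeff n ∈ LP P (n : ℤ) := fun p => by
    refine forall_congr' fun n => ?_
    rw [smul_single_one]
  have hL0 : LP P 0 = LinearMap.range (Algebra.linearMap k K) := by
    rw [LP, Finsupp.single_zero, L_zero hK]
  have hS : ∀ n : ℕ, n ∈ AddSubmonoid.closure H ↔ n ∈ H := fun n => by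
    refine ⟨fun h => ?_, fun h => AddSubmonoid.subset_closure h⟩
    exact AddSubmonoid.closure_le (S := ⟨⟨H, fun ha hb => add_mem_poleOrders hK P ha hb⟩, zero_mem_poleOrders hK P⟩).2 le_rfl h
  obtain ⟨lam, hlam⟩ := exists_lead hK P
  have hlam0 : ∀ n, lam n 0 = 0 := fun n => ((hlam n 0 (zero_mem _)).1).2 (zero_mem _)
  let Ψ₀ : R → k[X] := fun p => ∑ n ∈ (p : K[X]).support, monomial n (lam n ((p : K[X]).coeff n))
  have hcoeff : ∀ (p : R) (n : ℕ), (Ψ₀ p).coeff n = lam n ((p : K[X]).coeff n) := fun p n => by
    simp only [Ψ₀, finsetSum_coeff, coeff_monomial, Finset.sum_ite_eq', mem_support_iff]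
    split_ifs with h
    · rfl
    · rw [not_not.1 h, hlam0]
  have hsum : ∀ (n : ℕ) {ι : Type} (s : Finset ι) (f : ι → K), (∀ i ∈ s, f i ∈ LP P (n : ℤ)) →
      lam n (∑ i ∈ s, f i) = ∑ i ∈ s, lam n (f i) := by
    intro n ι s f hf
    induction s using Finset.induction_on with
    | empty => simp [hlam0]
    | insert i s hi ih =>
      rw [Finset.sum_insert hi, Finset.sum_insert hi, ← ih fun j hj => hf j (Finset.mem_insert_of_mem hj)]
      exact (hlam n _ (hf i (Finset.mem_insert_self i s))).2.1 _ (Submodule.sum_mem _ fun j hj => hf j (Finset.mem_insert_of_mem hj))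
  have hconst : ∀ c : k, lam 0 (algebraMap k K c) = c := fun c =>
    (hlam 0 0 (zero_mem _)).2.2.2 c
  let Ψ : R →ₐ[k] k[X] :=
    { toFun := Ψ₀
      map_one' := Polynomial.ext fun n => by
        rw [hcoeff, OneMemClass.coe_one, coeff_one, coeff_one]
        split_ifs with h
        · rw [h, ← map_one (algebraMap k K), hconst]
        · exact hlam0 n
      map_mul' := fun p q => Polynomial.ext fun n => by
        rw [hcoeff, coeff_mul, MulMemClass.coe_mul, coeff_mul, hsum]
        · refine Finset.sum_congr rfl fun x hx => ?_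
          rw [hcoeff, hcoeff, ← Finset.HasAntidiagonal.mem_antidiagonal.1 hx]
          exact (hlam _ _ ((hmemR _).1 p.2 x.1)).2.2.1 _ _ ((hmemR _).1 q.2 x.2)
        · intro x hx
          rw [← Finset.HasAntidiagonal.mem_antidiagonal.1 hx, Nat.cast_add]
          exact mul_mem_LP P ((hmemR _).1 p.2 x.1) ((hmemR _).1 q.2 x.2)
      map_zero' := Polynomial.ext fun n => by rw [hcoeff, ZeroMemClass.coe_zero, coeff_zero, hlam0, coeff_zero]
      map_add' := fun p q => Polynomial.ext fun n => by
        rw [hcoeff, coeff_add, hcoeff, hcoeff, AddMemClass.coe_add, coeff_add]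
        exact (hlam _ _ ((hmemR _).1 p.2 n)).2.1 _ ((hmemR _).1 q.2 n)
      commutes' := fun c => Polynomial.ext fun n => by
        rw [hcoeff, Subalgebra.coe_algebraMap, Polynomial.algebraMap_apply, Polynomial.algebraMap_apply, coeff_C, coeff_C]
        split_ifs with h
        · rw [h, hconst]; rfl
        · exact hlam0 n }
  have hΨ : ∀ (p : R) (n : ℕ), (Ψ p).coeff n = lam n ((p : K[X]).coeff n) := hcoeff
  obtain ⟨a₀, rfl⟩ : a ∈ LinearMap.range (Algebra.linearMap k K) := by
    rw [← hL0]
    have h1 := (hmemR _).1 t.2 1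
    rw [ht, coeff_C_mul, coeff_X_one, mul_one, Nat.cast_one] at h1
    have h2 : LP P ((1 : ℕ) : ℤ) = LP P 0 := by
      refine (LP_eq_of_not_mem hK P (fun h => ?_)).symm
      rw [mem_poleOrders_iff] at h
      have h1 := ell_le_deg_of_genus_pos hK hg (D := Finsupp.single P ((1 : ℕ) : ℤ)) (by rw [deg_single' hK]; simp)
      rw [deg_single' hK] at h1
      rw [show (((1 : ℕ) : ℤ) - 1) = 0 from rfl, Finsupp.single_zero, ell_zero hK] at h
      omega
    rw [Nat.cast_one] at h2
    exact h2 ▸ h1
  have ha0 : a₀ ≠ 0 := fun h => ha (by simp [h])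
  have hker : RingHom.ker Ψ = Ideal.span {t} := by
    refine le_antisymm (fun p hp => ?_) ((Ideal.span_singleton_le_iff_mem _).2 (Polynomial.ext fun n => ?_))
    · have hp' : ∀ n : ℕ, (p : K[X]).coeff n ∈ LP P ((n : ℤ) - 1) := fun n => by
        refine ((hlam n _ ((hmemR _).1 p.2 n)).1).1 ?_
        rw [← hΨ, RingHom.mem_ker.1 hp, coeff_zero]
      refine Ideal.mem_span_singleton.2 ⟨a₀⁻¹ • ⟨divX (p : K[X]), (hmemR _).2 fun n => ?_⟩, Subtype.ext ?_⟩
      · rw [MulMemClass.coe_mul, ht, Subalgebra.coe_smul, Algebra.linearMap_apply]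
        have hp0 : (p : K[X]).coeff 0 = 0 := by
          have h := hp' 0
          rw [LP, L_eq_bot_of_deg_neg hK (by rw [deg_single' hK]; simp)] at h
          exact (Submodule.mem_bot k).1 h
        conv_lhs => rw [← X_mul_divX_add (p : K[X]), hp0, map_zero, add_zero]
        rw [Algebra.smul_def, Polynomial.algebraMap_apply, mul_assoc, ← mul_assoc X (C _) (divX _), mul_comm X (C _),
          mul_assoc, ← mul_assoc, ← map_mul, ← map_mul, mul_inv_cancel₀ ha0, map_one, map_one, one_mul]
      · rw [coeff_divX]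
        simpa using hp' (n + 1)
    · rw [hΨ, ht, coeff_C_mul, coeff_X, coeff_zero]
      split_ifs with h
      · subst h
        have hm : algebraMap k K a₀ ∈ LP P ((1 : ℕ) : ℤ) := LP_mono P (by omega) (hL0 ▸ LinearMap.mem_range_self _ a₀ : algebraMap k K a₀ ∈ LP P 0)
        refine ((hlam 1 _ (by rw [mul_one]; exact hm)).1).2 ?_
        rw [mul_one, show ((1 : ℕ) : ℤ) - 1 = 0 from rfl, hL0]
        exact LinearMap.mem_range_self _ a₀
      · rw [mul_zero]; exact hlam0 n
  have ht0 : t ≠ 0 := fun h => by
    have := congrArg (fun p : K[X] => p.coeff 1) (show ((t : R) : K[X]) = 0 by rw [h]; rfl)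
    simp [ht, ha0] at this
  refine ⟨(Ideal.span_singleton_prime ht0).1 (hker ▸ RingHom.ker_isPrime _), ?_⟩
  let ι : AddMonoidAlgebra k ↥(AddSubmonoid.closure H) →ₐ[k] k[X] :=
    AddMonoidAlgebra.lift k k[X] _ { toFun := fun s => X ^ (s.toAdd : ↥(AddSubmonoid.closure H)).1, map_one' := pow_zero _, map_mul' := fun s s' => pow_add _ _ _ }
  have hι : ∀ (s : ↥(AddSubmonoid.closure H)) (c : k), ι (AddMonoidAlgebra.single s c) = monomial s.1 c := fun s c => by
    simp [ι, ← C_mul_X_pow_eq_monomial, Algebra.smul_def]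
  have hιc : ∀ (f : AddMonoidAlgebra k ↥(AddSubmonoid.closure H)) (s : ↥(AddSubmonoid.closure H)), (ι f).coeff s.1 = f.coeff s := by
    intro f s
    induction f using AddMonoidAlgebra.induction_linear with
    | zero => simp
    | add x y hx hy => simp [hx, hy]
    | single s' c =>
      rw [hι, coeff_monomial, AddMonoidAlgebra.coeff_single, Finsupp.single_apply]
      simp only [Subtype.ext_iff]
  have hιinj : Function.Injective ι := fun f g h => AddMonoidAlgebra.ext (Finsupp.ext fun s => by rw [← hιc, ← hιc, h])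
  have hrange : Ψ.range = ι.range := by
    refine le_antisymm ?_ ?_
    · rintro _ ⟨p, rfl⟩
      show Ψ₀ p ∈ ι.range
      refine Subalgebra.sum_mem _ fun n _ => ?_
      by_cases hn : n ∈ H
      · exact ⟨AddMonoidAlgebra.single ⟨n, (hS n).2 hn⟩ (lam n ((p : K[X]).coeff n)), hι _ _⟩
      · rw [((hlam n _ ((hmemR _).1 p.2 n)).1).2 ((LP_eq_of_not_mem hK P hn).symm ▸ (hmemR _).1 p.2 n), map_zero]
        exact zero_mem _
    · rintro _ ⟨f, rfl⟩
      change ι f ∈ Ψ.range
      induction f using AddMonoidAlgebra.induction_linear with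
      | zero => rw [map_zero]; exact zero_mem _
      | add x y hx hy => rw [map_add]; exact add_mem hx hy
      | single s c =>
        rw [hι]
        obtain ⟨e, he, he0, heo⟩ := exists_top hK P ((hS _).1 s.2)
        have hne : lam s.1 e ≠ 0 := fun h => top_not_mem hK P he0 heo (((hlam _ _ he).1).1 h)
        have hm : monomial s.1 e ∈ R := (hmemR _).2 fun m => by
          rw [coeff_monomial]
          split_ifs with h
          · exact h ▸ he
          · exact zero_mem _
        refine ⟨(c * (lam s.1 e)⁻¹) • ⟨_, hm⟩, ?_⟩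
        change Ψ _ = _
        rw [map_smul]
        refine Polynomial.ext fun m => ?_
        rw [coeff_smul, hΨ, coeff_monomial, coeff_monomial, smul_eq_mul]
        split_ifs with h
        · subst h; rw [inv_mul_cancel_right₀ hne]
        · rw [hlam0, mul_zero]
  exact ⟨((Ideal.quotientEquivAlgOfEq k hker.symm).trans (Ideal.quotientKerEquivRange Ψ)).trans
    ((Subalgebra.equivOfEq _ _ hrange).trans (AlgEquiv.ofInjective ι hιinj).symm)⟩

end Groth.Agent.S18668
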