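import Groth.Statements.S18670
import Mathlib
import Groth.Agent.Lib.FunFldD

set_option autoImplicit false
universe u
open GrSect

namespace Groth.Agent.S18670

section
open Groth.Agent.FF FunFld Polynomial W4c6gradedringsgw
variable {k : Type u} [Field k] [IsAlgClosed k] {K : Type u} [Field K] [Algebra k K]
  (hK : FunFld.IsFunctionField k K) (P : FunFld.Place k K)

/-- `L(nP)` -/
noncomputable abbrev LP (n : ℤ) : Submodule k K := FunFld.L (Finsupp.single P n)

theorem smul_single_one (n : ℤ) : n • (Finsupp.single P 1 : FunFld.Divisor k K) = Finsupp.single P n := by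
  simp

theorem mem_poleOrders_iff (n : ℕ) :
    n ∈ poleOrders P ↔ FunFld.ell (Finsupp.single P (n : ℤ)) = FunFld.ell (Finsupp.single P ((n : ℤ) - 1)) + 1 := by
  show _ = _ ↔ _
  rw [smul_single_one, smul_single_one]

theorem LP_mono {a b : ℤ} (h : a ≤ b) : LP P a ≤ LP P b := L_mono (Finsupp.single_le_single.2 h)

theorem mul_mem_LP {a b : ℤ} {x y : K} (hx : x ∈ LP P a) (hy : y ∈ LP P b) : x * y ∈ LP P (a + b) := by
  have := mul_mem_L hx hy
  rwa [← Finsupp.single_add] at this

include hK in
theorem LP_eq_of_not_mem {n : ℕ} (h : n ∉ poleOrders P) : LP P ((n : ℤ) - 1) = LP P (n : ℤ) := by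
  rw [mem_poleOrders_iff] at h
  have h1 := ell_le_pred_add_one hK (Finsupp.single P (n : ℤ)) P
  rw [← Finsupp.single_sub] at h1
  haveI := finiteDimensional_L hK (Finsupp.single P (n : ℤ))
  have hle := LP_mono P (show (n : ℤ) - 1 ≤ n by omega)
  refine Submodule.eq_of_le_of_finrank_le hle ?_
  show FunFld.ell _ ≤ FunFld.ell _
  omega

include hK in
theorem exists_top {n : ℕ} (h : n ∈ poleOrders P) : ∃ f ∈ LP P (n : ℤ), f ≠ 0 ∧ P.ord f = -(n : ℤ) := by
  rw [mem_poleOrders_iff] at h
  refine exists_ord_of_not_gap hK fun he => ?_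
  rw [FunFld.ell, he] at h
  exact (Nat.succ_ne_self _ h.symm)

include hK in
theorem top_not_mem {n : ℕ} {f : K} (hf0 : f ≠ 0) (hf : P.ord f = -(n : ℤ)) : f ∉ LP P ((n : ℤ) - 1) := by
  intro h
  have h1 := h P
  rw [Finsupp.single_eq_same, val_le_exp_iff (hx := hf0), hf] at h1
  omega

include hK in
theorem exists_sub {n : ℕ} {f : K} (hfm : f ∈ LP P (n : ℤ)) (hf0 : f ≠ 0) (hf : P.ord f = -(n : ℤ))
    {a : K} (ha : a ∈ LP P (n : ℤ)) : ∃ c : k, a - c • f ∈ LP P ((n : ℤ) - 1) := by
  classical
  have hv : P.1 f = WithZero.exp (n : ℤ) := by rw [val_eq_exp (hx := hf0), hf, neg_neg]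
  have h1 : P.1 (a / f) ≤ 1 := by
    rw [map_div₀, hv]
    refine div_le_one_of_le₀ ?_ zero_le'
    simpa using ha P
  obtain ⟨c, hc⟩ := exists_const hK h1
  refine ⟨c, fun Q => ?_⟩
  have hmem : a - c • f ∈ LP P (n : ℤ) := sub_mem ha (Submodule.smul_mem _ c hfm)
  rcases eq_or_ne Q P with rfl | hQ
  · rw [Finsupp.single_eq_same, le_exp_pred_iff, show a - c • f = (a / f - algebraMap k K c) * f by
      rw [sub_mul, div_mul_cancel₀ _ hf0, Algebra.smul_def], map_mul, hv]
    calc Q.1 (a / f - algebraMap k K c) * WithZero.exp (n : ℤ) < 1 * WithZero.exp (n : ℤ) :=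
          mul_lt_mul_of_pos_right hc WithZero.exp_pos
      _ = _ := one_mul _
  · have := hmem Q
    rwa [Finsupp.single_eq_of_ne hQ] at this ⊢

include hK in
theorem mem_poleOrders_two_genus (hg : 1 ≤ FunFld.genus k K) {n : ℕ} (hn : 2 * FunFld.genus k K ≤ n) : n ∈ poleOrders P := by
  rw [mem_poleOrders_iff]
  have h1 := ell_le_pred_add_one hK (Finsupp.single P (n : ℤ)) P
  have h2 := ell_sub_single_lt hK hg (D := Finsupp.single P (n : ℤ)) (Or.inl (by rw [deg_single' hK]; omega)) P
  rw [← Finsupp.single_sub] at h1 h2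
  omega

end

/-- Let X be a complete smooth curve of genus g ≥ 1 over an algebraically closed field k, P a closed
point, R = R_{X,P} and H = H_{X,P}. Then emb(R) = emb(H) + 1, where emb(R) = ν(R_+) is the minimal
number of generators of the irrelevant ideal R_+ (the embedding dimension of the local ring of R at
R_+) and emb(H) is the number of minimal generators of the numerical semigroup H. (The published
item also gives the multiplicity m(R) = m(H); only the embedding-dimension assertion is stated
here.) Here the complete smooth curve X over the algebraically closed field k is given by its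
function field K/k (a function field of one variable in which k is algebraically closed), the closed
point P by a place of K/k, g ≥ 1 is the genus, H^0(X, O_X(nP)) = L(nP), and R_{X,P} = ⊕_{n ≥ 0}
L(nP)·T^n is realised as the k-subalgebra of K[T] of polynomials whose coefficient of T^n lies in
L(nP); the Weierstrass semigroup H_{X,P} is the set of n ≥ 0 with ℓ(nP) = ℓ((n−1)P) + 1. The
irrelevant ideal is the kernel of the constant-coefficient map R → K. -/
theorem result (k : Type u) [Field k] [IsAlgClosed k] (K : Type u) [Field K] [Algebra k K] (hK : FunFld.IsFunctionField k K) (hg : 1 ≤ FunFld.genus k K) (P : FunFld.Place k K) : (RingHom.ker (Polynomial.constantCoeff.comp (W4c6gradedringsgw.sectRing (Finsupp.single P 1 : FunFld.Divisor k K)).val.toRingHom)).spanFinrank = Set.ncard (W4c6gradedringsgw.minGens (W4c6gradedringsgw.poleOrders P)) + 1 := by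
  open Groth.Agent.FF FunFld Polynomial W4c6gradedringsgw in
  classical
  set H := poleOrders P with hH
  set R := sectRing (Finsupp.single P 1 : FunFld.Divisor k K) with hR
  have hmemR : ∀ p : K[X], p ∈ R ↔ ∀ n : ℕ, p.coeff n ∈ LP P (n : ℤ) := fun p => by
    refine forall_congr' fun n => ?_
    rw [smul_single_one]
  have hL0 : LP P 0 = LinearMap.range (Algebra.linearMap k K) := by
    rw [LP, Finsupp.single_zero, L_zero hK]
  have h1H : 1 ∉ H := fun h => by
    rw [hH, mem_poleOrders_iff] at h
    have h1 := ell_le_deg_of_genus_pos hK hg (D := Finsupp.single P ((1 : ℕ) : ℤ)) (by rw [deg_single' hK]; simp)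
    rw [deg_single' hK] at h1
    rw [show (((1 : ℕ) : ℤ) - 1) = 0 from rfl, Finsupp.single_zero, ell_zero hK] at h
    omega
  have hfin : (minGens H).Finite := (Set.finite_Iic (4 * FunFld.genus k K)).subset fun h hh => by
    by_contra hlt
    rw [Set.mem_Iic, not_le] at hlt
    exact hh.2.2 _ (mem_poleOrders_two_genus hK P hg le_rfl) (h - 2 * FunFld.genus k K)
      (mem_poleOrders_two_genus hK P hg (by omega)) (by omega) (by omega) (by omega)
  let G := hfin.toFinset
  have hG : ∀ h, h ∈ G ↔ h ∈ minGens H := fun h => hfin.mem_toFinset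
  have hex : ∀ n : ℕ, ∃ f : K, f ∈ LP P (n : ℤ) ∧ (n ∈ H → f ≠ 0 ∧ P.ord f = -(n : ℤ)) := fun n => by
    by_cases h : n ∈ H
    · obtain ⟨f, hf⟩ := exists_top hK P h
      exact ⟨f, hf.1, fun _ => hf.2⟩
    · exact ⟨0, zero_mem _, fun h' => absurd h' h⟩
  choose F hF hF' using hex
  have hmono : ∀ (n : ℕ) (a : K), a ∈ LP P (n : ℤ) → monomial n a ∈ R := fun n a ha => (hmemR _).2 fun m => by
    rw [coeff_monomial]
    split_ifs with h
    · exact h ▸ ha
    · exact zero_mem _
  let mo : ∀ (n : ℕ) (a : K), a ∈ LP P (n : ℤ) → R := fun n a ha => ⟨monomial n a, hmono n a ha⟩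
  have hone : (1 : K) ∈ LP P ((1 : ℕ) : ℤ) := LP_mono P (by omega) (one_mem_L_single P)
  let T : R := mo 1 1 hone
  let φ : R →+* K := Polynomial.constantCoeff.comp R.val.toRingHom
  let gen : Option G → R := fun j => j.elim T fun h => mo h (F h) (hF h)
  have hgenI : ∀ j, gen j ∈ RingHom.ker φ := by
    rintro (_ | ⟨h, hh⟩) <;> rw [RingHom.mem_ker]
    · show (monomial 1 (1 : K)).coeff 0 = 0
      simp
    · show (monomial h (F h)).coeff 0 = 0
      rw [coeff_monomial, if_neg ((hG h).1 hh).2.1]
  have hclaim : ∀ (n : ℕ), 1 ≤ n → ∀ (a : K) (ha : a ∈ LP P (n : ℤ)), mo n a ha ∈ Ideal.span (Set.range gen) := by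
    intro n
    induction n using Nat.strong_induction_on with
    | _ n ih =>
      intro hn a ha
      have hlow : ∀ (b : K) (hb : b ∈ LP P (n : ℤ)), b ∈ LP P ((n : ℤ) - 1) → mo n b hb ∈ Ideal.span (Set.range gen) := by
        intro b hb hb'
        have hb'' : b ∈ LP P (((n - 1 : ℕ)) : ℤ) := by rwa [Nat.cast_sub hn, Nat.cast_one]
        have e : mo n b hb = gen none * mo (n - 1) b hb'' := Subtype.ext (by
          show monomial n b = monomial 1 (1 : K) * monomial (n - 1) b
          rw [monomial_mul_monomial, one_mul, Nat.add_sub_cancel' hn])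
        rw [e]
        exact Ideal.mul_mem_right _ _ (Ideal.subset_span (Set.mem_range_self _))
      by_cases hnH : n ∈ H
      · obtain ⟨e, hem, he0, heo, hespan⟩ : ∃ e : K, ∃ hem : e ∈ LP P (n : ℤ), e ≠ 0 ∧ P.ord e = -(n : ℤ) ∧ mo n e hem ∈ Ideal.span (Set.range gen) := by
          by_cases hmin : n ∈ minGens H
          · exact ⟨F n, hF n, (hF' n hnH).1, (hF' n hnH).2, Ideal.subset_span ⟨some ⟨n, (hG n).2 hmin⟩, rfl⟩⟩
          · obtain ⟨x, hx, y, hy, hx0, hy0, hxy⟩ : ∃ x ∈ H, ∃ y ∈ H, x ≠ 0 ∧ y ≠ 0 ∧ x + y = n := by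
              by_contra hcon
              push Not at hcon
              exact hmin ⟨hnH, by omega, fun x hx y hy hx0 hy0 => hcon x hx y hy hx0 hy0⟩
            have hm : F x * F y ∈ LP P (n : ℤ) := by
              rw [← hxy, Nat.cast_add]; exact mul_mem_LP P (hF x) (hF y)
            refine ⟨F x * F y, hm, mul_ne_zero (hF' x hx).1 (hF' y hy).1, ?_, ?_⟩
            · rw [ord_mul (hx := (hF' x hx).1) (hy := (hF' y hy).1), (hF' x hx).2, (hF' y hy).2, ← hxy]
              push_cast; ring
            · have e : mo n _ hm = mo x (F x) (hF x) * mo y (F y) (hF y) := Subtype.ext (by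
                show monomial n _ = monomial x (F x) * monomial y (F y)
                rw [monomial_mul_monomial, hxy])
              rw [e]
              exact Ideal.mul_mem_right _ _ (ih x (by omega) (by omega) _ (hF x))
        obtain ⟨c, hc⟩ := exists_sub hK P hem he0 heo ha
        have e : mo n a ha = c • mo n e hem + mo n (a - c • e) (sub_mem ha (Submodule.smul_mem _ c hem)) := Subtype.ext (by
          show monomial n a = c • monomial n e + monomial n (a - c • e)
          rw [smul_monomial, ← map_add, add_sub_cancel])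
        rw [e]
        exact add_mem (Submodule.smul_of_tower_mem _ c hespan) (hlow _ (sub_mem ha (Submodule.smul_mem _ c hem)) hc)
      · exact hlow a ha ((LP_eq_of_not_mem hK P hnH).symm ▸ ha)
  have hspan : RingHom.ker φ = Ideal.span (Set.range gen) := by
    refine le_antisymm (fun p hp => ?_) (Ideal.span_le.2 (Set.range_subset_iff.2 hgenI))
    have hp0 : (p : K[X]).coeff 0 = 0 := hp
    have e : p = ∑ n ∈ (p : K[X]).support, mo n ((p : K[X]).coeff n) ((hmemR _).1 p.2 n) := Subtype.ext (by
      rw [AddSubmonoidClass.coe_finsetSum]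
      exact (p : K[X]).as_sum_support)
    rw [e]
    exact Ideal.sum_mem _ fun n hn => hclaim n (Nat.one_le_iff_ne_zero.2 fun h => (mem_support_iff.1 hn) (h ▸ hp0)) _ ((hmemR _).1 p.2 n)
  let d : Option G → ℕ := fun j => j.elim 1 Subtype.val
  let M : Option G → Submodule k K := fun j => j.elim ⊥ fun h => LP P ((h.1 : ℤ) - 1)
  let ψ : R →ₗ[k] (∀ j, K ⧸ M j) := LinearMap.pi fun j =>
    ((M j).mkQ ∘ₗ (Polynomial.lcoeff K (d j)).restrictScalars k) ∘ₗ R.val.toLinearMap
  have hψ : ∀ r x : R, x ∈ RingHom.ker φ → ∃ c : k, ψ (r * x) = c • ψ x := by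
    intro r x hx
    obtain ⟨c, hc⟩ : (r : K[X]).coeff 0 ∈ LinearMap.range (Algebra.linearMap k K) := hL0 ▸ (by simpa using (hmemR _).1 r.2 0)
    refine ⟨c, funext fun j => (Submodule.Quotient.eq _).2 ?_⟩
    show ((r : K[X]) * (x : K[X])).coeff (d j) - c • (x : K[X]).coeff (d j) ∈ M j
    have hx0 : (x : K[X]).coeff 0 = 0 := hx
    rw [coeff_mul, ← Finset.add_sum_erase _ _ (show (0, d j) ∈ Finset.HasAntidiagonal.antidiagonal (d j) by simp), Algebra.smul_def,
      show algebraMap k K c = (r : K[X]).coeff 0 from hc, add_sub_cancel_left]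
    refine Submodule.sum_mem _ fun q hq => ?_
    obtain ⟨hq1, hq2⟩ := Finset.mem_erase.1 hq
    rw [Finset.HasAntidiagonal.mem_antidiagonal] at hq2
    rcases Nat.eq_zero_or_pos q.2 with h2 | h2
    · rw [h2, hx0, mul_zero]; exact zero_mem _
    have h1 : 1 ≤ q.1 := Nat.one_le_iff_ne_zero.2 fun h => hq1 (Prod.ext h (by dsimp; omega))
    have ha := (hmemR _).1 r.2 q.1
    have hb := (hmemR _).1 x.2 q.2
    rcases j with _ | ⟨h, hh⟩
    · change q.1 + q.2 = 1 at hq2; omega
    · change q.1 + q.2 = h at hq2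
      show _ ∈ LP P ((h : ℤ) - 1)
      by_cases ha' : q.1 ∈ H
      · by_cases hb' : q.2 ∈ H
        · exact absurd hq2 (((hG h).1 hh).2.2 _ ha' _ hb' (by omega) (by omega))
        · rw [show (h : ℤ) - 1 = (q.1 : ℤ) + ((q.2 : ℤ) - 1) by omega]
          exact mul_mem_LP P ha ((LP_eq_of_not_mem hK P hb').symm ▸ hb)
      · rw [show (h : ℤ) - 1 = ((q.1 : ℤ) - 1) + (q.2 : ℤ) by omega]
        exact mul_mem_LP P ((LP_eq_of_not_mem hK P ha').symm ▸ ha) hb
  have hψgen : ∀ i j : Option G, i ≠ j → ψ (gen i) j = 0 := by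
    intro i j hij
    show (M j).mkQ ((gen i : K[X]).coeff (d j)) = 0
    have hd : ∀ h : G, (h : ℕ) ≠ 1 := fun h e => h1H (e ▸ ((hG _).1 h.2).1)
    rcases i with _ | i <;> rcases j with _ | j
    · exact absurd rfl hij
    · show (M _).mkQ ((monomial 1 (1 : K)).coeff j.1) = 0
      rw [coeff_monomial, if_neg (Ne.symm (hd j)), map_zero]
    · show (M _).mkQ ((monomial i.1 (F i.1)).coeff 1) = 0
      rw [coeff_monomial, if_neg (hd i), map_zero]
    · show (M _).mkQ ((monomial i.1 (F i.1)).coeff j.1) = 0
      rw [coeff_monomial, if_neg (fun e => hij (congrArg some (Subtype.ext e))), map_zero]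
  have hψne : ∀ j : Option G, ψ (gen j) j ≠ 0 := by
    intro j h0
    change (M j).mkQ ((gen j : K[X]).coeff (d j)) = 0 at h0
    rw [Submodule.mkQ_apply, Submodule.Quotient.mk_eq_zero] at h0
    rcases j with _ | j
    · change (monomial 1 (1 : K)).coeff 1 ∈ (⊥ : Submodule k K) at h0
      simp at h0
    · change (monomial j.1 (F j.1)).coeff j.1 ∈ LP P ((j.1 : ℤ) - 1) at h0
      rw [coeff_monomial, if_pos rfl] at h0
      exact top_not_mem hK P (hF' _ ((hG _).1 j.2).1).1 (hF' _ ((hG _).1 j.2).1).2 h0
  have hli : LinearIndependent k (fun j => ψ (gen j)) := by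
    refine Fintype.linearIndependent_iff.2 fun c hc j => ?_
    have h0 := congrFun hc j
    rw [Finset.sum_apply, Finset.sum_eq_single j (fun i _ hij => by rw [Pi.smul_apply, hψgen i j hij, smul_zero]) (by simp),
      Pi.smul_apply, Pi.zero_apply] at h0
    exact (smul_eq_zero.1 h0).resolve_right (hψne j)
  have hcard : Fintype.card (Option G) = Set.ncard (minGens H) + 1 := by
    rw [Fintype.card_option, Fintype.card_coe, Set.ncard_eq_toFinset_card _ hfin]
  show (RingHom.ker φ).spanFinrank = _
  rw [← hcard]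
  refine le_antisymm ?_ ?_
  · rw [hspan]
    refine (Submodule.spanFinrank_span_le_ncard_of_finite (Set.finite_range gen)).trans ?_
    rw [← Nat.card_coe_set_eq, ← Nat.card_eq_fintype_card]
    exact Nat.card_le_card_of_surjective _ Set.rangeFactorization_surjective
  · have hfg : (RingHom.ker φ).FG := hspan ▸ ⟨Finset.univ.image gen, by simp⟩
    set s := (RingHom.ker φ).generators with hs
    have hsfin : s.Finite := Submodule.FG.finite_generators hfg
    have himage : ∀ x ∈ RingHom.ker φ, ψ x ∈ Submodule.span k (ψ '' s) := by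
      intro x hx
      rw [← Submodule.span_generators (RingHom.ker φ), ← hs] at hx
      refine (Submodule.span_induction (p := fun y _ => y ∈ RingHom.ker φ ∧ ψ y ∈ Submodule.span k (ψ '' s))
        (fun y hy => ⟨Submodule.span_generators (RingHom.ker φ) ▸ Submodule.subset_span hy, Submodule.subset_span (Set.mem_image_of_mem _ hy)⟩)
        ⟨zero_mem _, by rw [map_zero]; exact zero_mem _⟩
        (fun a b _ _ ha hb => ⟨add_mem ha.1 hb.1, by rw [map_add]; exact add_mem ha.2 hb.2⟩)
        (fun a b _ hb => ⟨Submodule.smul_mem _ a hb.1, ?_⟩) hx).2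
      obtain ⟨c, hc⟩ := hψ a b hb.1
      rw [smul_eq_mul, hc]
      exact Submodule.smul_mem _ c hb.2
    haveI : Fintype (ψ '' s : Set _) := (hsfin.image ψ).fintype
    have hle : Submodule.span k (Set.range fun j => ψ (gen j)) ≤ Submodule.span k (ψ '' s) :=
      Submodule.span_le.2 (Set.range_subset_iff.2 fun j => himage _ (hgenI j))
    haveI := FiniteDimensional.span_of_finite k (hsfin.image ψ)
    calc Fintype.card (Option G) = Module.finrank k (Submodule.span k (Set.range fun j => ψ (gen j))) :=
          (finrank_span_eq_card hli).symm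
      _ ≤ Module.finrank k (Submodule.span k (ψ '' s)) := Submodule.finrank_mono hle
      _ ≤ (ψ '' s).toFinset.card := finrank_span_le_card _
      _ ≤ s.ncard := by rw [← Set.ncard_eq_toFinset_card']; exact Set.ncard_image_le hsfin
      _ = _ := Submodule.FG.generators_ncard hfg

end Groth.Agent.S18670
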