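import Groth.Statements.S18672
import Groth.Prelude.Def_GrSeg
import Groth.Prelude.Def_GrLC
import Groth.Prelude.Def_CAlg
import Groth.Agent.Lib.GrSegreDim
import Groth.Agent.Lib.GrSegreModuleDim
import Mathlib
import Groth.Agent.Lib.GrSegreStd

set_option autoImplicit false
universe u
open Groth.Agent.GrSegreDim Groth.Agent.GrSegreModuleDim
open Groth.Agent.GrSegreStd
open scoped TensorProduct
open DirectSum
open GrLC

namespace Groth.Agent.S18672

/-- Let R be a graded ring defined over a field k = R_0 which is Cohen–Macaulay and generated over k by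
R_1 (the standing hypotheses of this section; only generation in degree one is used), q ≥ 1, R' =
R^(q), and a an integer. Then the Veronese submodule [R(a)]^(q) = ⊕_j R_{a+jq} is generated over R'
by its piece R(a)_n = R_{a+n}, where n is the smallest multiple of q with n + a ≥ 0. Here 'graded
ring defined over a field' means R = ⊕_{n ≥ 0} R_n is Noetherian with R_0 a field, and m = R_+ is
its unique graded maximal ideal. The Veronese subring R^(q) = ⊕_j R_{jq}, regraded by (R^(q))_j =
R_{jq}, is presented abstractly as a ℤ-graded ring R' with an injective ring homomorphism φ : R' → R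
carrying R'_j onto R_{jq} for every j. The module [R(a)]^(q) is presented as a graded R'-module M'
with an injective additive map g : M' → R, semilinear over φ, carrying M'_j onto R_{a+jq} for every
j; with n = j₀q, the conclusion is that the R'-span of M'_{j₀} is all of M'. -/
theorem result (R : Type u) [CommRing R] [LocCoh.IsCohenMacaulayRing R] (𝒜 : ℤ → AddSubgroup R) [GradedRing 𝒜] (hpos : ∀ n : ℤ, n < 0 → 𝒜 n = ⊥) (h0 : IsField (GrLC.deg0 𝒜)) (hstd : Ideal.span (⋃ n ∈ Set.Ioi (0 : ℤ), (𝒜 n : Set R)) = Ideal.span ((𝒜 1 : AddSubgroup R) : Set R)) (q : ℕ) (hq : 0 < q) (R' : Type u) [CommRing R'] (𝒜' : ℤ → AddSubgroup R') [GradedRing 𝒜'] (φ : R' →+* R) (hφ : Function.Injective φ) (hdeg : ∀ j : ℤ, (𝒜' j).map (φ : R' →+ R) = 𝒜 (j * q)) (a : ℤ) (M' : Type u) [AddCommGroup M'] [Module R' M'] (ℳ' : ℤ → AddSubgroup M') [DirectSum.Decomposition ℳ'] [SetLike.GradedSMul 𝒜' ℳ'] (g : M' →ₛₗ[φ] R) (hg : Function.Injective g) (hgdeg : ∀ j : ℤ, (ℳ' j).map (g : M' →+ R) = 𝒜 (a + j * q)) (j₀ : ℤ)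 (hj₀ : 0 ≤ a + j₀ * q) (hj₀' : a + (j₀ - 1) * q < 0) : Submodule.span R' ((ℳ' j₀ : AddSubgroup M') : Set M') = ⊤ := by
  classical
  rw [eq_top_iff]
  intro m _
  induction m using DirectSum.Decomposition.inductionOn ℳ' with
  | zero => exact zero_mem _
  | add x y hx hy => exact add_mem (hx trivial) (hy trivial)
  | @homogeneous j x =>
    have hx : g (x : M') ∈ 𝒜 (a + j * q) := hgdeg j ▸ AddSubgroup.mem_map.mpr ⟨_, x.2, rfl⟩
    by_cases hj : j₀ ≤ j
    · obtain ⟨i, rfl⟩ : ∃ i : ℕ, j = j₀ + i := ⟨(j - j₀).toNat, by omega⟩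
      have hx' : g (x : M') ∈ 𝒜 ((a + j₀ * q) + ((i * q : ℕ) : ℤ)) := by
        convert hx using 2; push_cast; ring
      obtain ⟨w, hw, e⟩ : ∃ w ∈ Submodule.span R' ((ℳ' j₀ : AddSubgroup M') : Set M'), g w = g (x : M') := by
        refine piece_add_induction 𝒜 hstd (i * q) hj₀
          (p := fun r => ∃ w ∈ Submodule.span R' ((ℳ' j₀ : AddSubgroup M') : Set M'), g w = r)
          ⟨0, zero_mem _, map_zero g⟩ ?_ ?_ hx'
        · rintro _ _ ⟨u, hu, rfl⟩ ⟨w, hw, rfl⟩
          exact ⟨u + w, add_mem hu hw, map_add g u w⟩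
        · intro r hr y hy
          rw [show ((i * q : ℕ) : ℤ) = (i : ℤ) * q by push_cast; ring, ← hdeg] at hr
          obtain ⟨r', -, rfl⟩ := AddSubgroup.mem_map.mp hr
          rw [← hgdeg] at hy
          obtain ⟨y', hy', rfl⟩ := AddSubgroup.mem_map.mp hy
          exact ⟨r' • y', Submodule.smul_mem _ _ (Submodule.subset_span hy'), map_smulₛₗ g r' y'⟩
      exact hg e ▸ hw
    · have hneg : a + j * q < 0 := by nlinarith [show j ≤ j₀ - 1 by omega]
      have hz : g (x : M') = g 0 := by
        rw [map_zero]; exact AddSubgroup.mem_bot.mp ((hpos _ hneg).le hx)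
      rw [hg hz]; exact zero_mem _

end Groth.Agent.S18672
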