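import Groth.Statements.S18792
-- import your own Groth.Agent.* helpers here

set_option autoImplicit false
universe u
open DefMod

namespace Groth.Agent.S18792

/-- Let A be an associative unital algebra over ℚ, let a ∈ A be nilpotent and let b ∈ A. Then the
commutator map x ↦ a x − x a is a nilpotent ℚ-linear endomorphism of A, and exp(a) b exp(−a) =
exp(ad a)(b), where exp is the finite exponential series of a nilpotent element and ad a is the
commutator map. (The published statement takes A an algebra over an arbitrary commutative ring; the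
factorials in the exponential series require the rationals to act, so A is taken to be a ℚ-algebra
here. The intermediate double-sum expansion printed between the two sides is not restated.) -/
theorem result {A : Type u} [Ring A] [Algebra ℚ A] (a b : A)
    (ha : IsNilpotent a) :
    IsNilpotent (LinearMap.mulLeft ℚ a - LinearMap.mulRight ℚ a) ∧
      IsNilpotent.exp a * b * IsNilpotent.exp (-a) =
        IsNilpotent.exp (LinearMap.mulLeft ℚ a - LinearMap.mulRight ℚ a) b := by
  have hc : Commute (Algebra.lmul ℚ A a) (-(LinearMap.mulRight ℚ a)) :=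
    ((LinearMap.commute_mulLeft_right a a)).neg_right
  have hL : IsNilpotent (Algebra.lmul ℚ A a) := ha.map _
  have hR : IsNilpotent (-(LinearMap.mulRight ℚ a)) := by
    obtain ⟨k, hk⟩ := ha
    refine IsNilpotent.neg ⟨k, ?_⟩
    rw [LinearMap.pow_mulRight, hk]
    ext x; simp
  have hsub : LinearMap.mulLeft ℚ a - LinearMap.mulRight ℚ a =
      Algebra.lmul ℚ A a + -(LinearMap.mulRight ℚ a) := by
    rw [sub_eq_add_neg]; rfl
  refine ⟨hsub ▸ hc.isNilpotent_add hL hR, ?_⟩
  rw [hsub, IsNilpotent.exp_add_of_commute hc hL hR, Module.End.mul_apply,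
    ← IsNilpotent.map_exp ha (Algebra.lmul ℚ A)]
  obtain ⟨k, hk⟩ := ha.neg
  have hneg : -(LinearMap.mulRight ℚ a) = LinearMap.mulRight ℚ (-a) := by ext x; simp
  have hk' : (-(LinearMap.mulRight ℚ a)) ^ k = 0 := by
    rw [hneg, LinearMap.pow_mulRight, hk]; ext x; simp
  rw [IsNilpotent.exp_eq_sum hk', IsNilpotent.exp_eq_sum hk]
  simp [Finset.mul_sum, hneg, LinearMap.pow_mulRight, LinearMap.sum_apply, mul_assoc]

end Groth.Agent.S18792
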