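import Groth.Statements.S18793
import Mathlib

set_option autoImplicit false
set_option backward.isDefEq.respectTransparency.types false
set_option maxHeartbeats 1000000
set_option linter.all false
universe u v w w'
open DefMod

namespace Groth.Agent.S18793
open Groth.Agent

/-- Let E be a nonzero left module over an associative algebra D over a field K of characteristic zero,
whose D-linear endomorphisms are exactly the scalars of K. Let R be an Artinian local K-algebra with
residue field K, and let F carry commuting R- and D-module structures (a left module over R ⊗_K D)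
with F flat over R, together with a D-linear map θ : F → E that is semilinear over the augmentation
R → K, surjective, and whose kernel is m_R F (so θ induces an isomorphism K ⊗_R F ≅ E; that is, (F,
θ) is a deformation of E over R). Then every endomorphism of F that is both R-linear and D-linear is
multiplication by a unique element of R. (The published statement adds that the automorphisms of (F,
θ) are then exactly the elements 1 + m_R of R; that consequence is stated separately.) -/
theorem result
    {K : Type u} [Field K] [CharZero K]
    {D : Type v} [Ring D] [Algebra K D]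
    {E : Type w} [AddCommGroup E] [Module K E] [Module D E] [IsScalarTower K D E] [Nontrivial E]
    (hE : ∀ ψ : E →ₗ[D] E, ∃ c : K, ∀ y : E, ψ y = c • y)
    (R : ArtFun.Art K K)
    {F : Type w'} [AddCommGroup F] [Module K F] [Module R F] [Module D F]
    [IsScalarTower K R F] [IsScalarTower K D F] [SMulCommClass R D F] [Module.Flat R F]
    (θ : F →ₗ[D] E) (hθ : ∀ (r : R) (x : F), θ (r • x) = R.res r • θ x)
    (hsurj : Function.Surjective θ)
    (hker : ∀ x : F, θ x = 0 ↔ x ∈ IsLocalRing.maximalIdeal R • (⊤ : Submodule R F))
    (φ : F →ₗ[R] F) (hφ : ∀ (d : D) (x : F), φ (d • x) = d • φ x) :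
    ∃! r : R, ∀ x : F, φ x = r • x := by
    classical
    let m := IsLocalRing.maximalIdeal R
    have hres : ∀ r : R, r ∈ m ↔ R.res r = 0 := by
      have hk : (RingHom.ker R.res.toRingHom).IsMaximal := RingHom.ker_isMaximal_of_surjective _ R.res_surjective
      intro r
      rw [show m = RingHom.ker R.res.toRingHom from (IsLocalRing.eq_maximalIdeal hk).symm]
      rfl
    have hresK : ∀ c : K, R.res (algebraMap K R c) = c := fun c => by
      rw [AlgHom.commutes]; rfl
    obtain ⟨N, hN⟩ := IsArtinianRing.isNilpotent_jacobson_bot (R := R)
    rw [IsLocalRing.jacobson_eq_maximalIdeal ⊥ bot_ne_top, Ideal.zero_eq_bot] at hN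
    have hK : ∀ (c : K) (x : F), θ (c • x) = c • θ x := fun c x => by
      rw [← algebraMap_smul R c x, hθ, hresK]
    let bE := Module.Free.chooseBasis K E
    choose g hg using fun i => hsurj (bE i)
    have hspan : Submodule.span R (Set.range g) = ⊤ := by
      rw [eq_top_iff]
      have step : ∀ n, (⊤ : Submodule R F) ≤ Submodule.span R (Set.range g) ⊔ (m ^ n) • ⊤ := by
        intro n
        induction n with
        | zero => simp
        | succ n ih =>
          refine ih.trans (sup_le le_sup_left ?_)
          have h1 : (⊤ : Submodule R F) ≤ Submodule.span R (Set.range g) ⊔ m • ⊤ := by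
            intro x _
            let y : F := (bE.repr (θ x)).sum fun i c => c • g i
            have hy : θ y = θ x := by
              simp only [y, Finsupp.sum, map_sum, hK, hg]
              exact bE.linearCombination_repr (θ x)
            rw [← add_sub_cancel y x]
            refine Submodule.add_mem_sup (Submodule.sum_mem _ fun i _ => ?_) ((hker _).1 ?_)
            · show bE.repr (θ x) i • g i ∈ _
              rw [← algebraMap_smul R]
              exact Submodule.smul_mem _ _ (Submodule.subset_span ⟨i, rfl⟩)
            · rw [map_sub, hy, sub_self]
          calc (m ^ n) • (⊤ : Submodule R F) ≤ (m ^ n) • (Submodule.span R (Set.range g) ⊔ m • ⊤) := smul_mono_right _ h1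
            _ ≤ Submodule.span R (Set.range g) ⊔ (m ^ (n + 1)) • ⊤ := by
              rw [Submodule.smul_sup, pow_succ, Submodule.mul_smul]
              exact sup_le_sup_right Submodule.smul_le_right _
      have := step N
      rwa [hN, Submodule.bot_smul, sup_bot_eq] at this
    have hli : LinearIndependent R g := by
      rw [linearIndependent_iff']
      intro t a hsum i hi
      obtain ⟨k, c, y, hc, hcy⟩ := Module.Flat.isTrivialRelation_of_sum_smul_eq_zero (f := fun j : t => a j) (x := fun j : t => g j)
        (by rw [← hsum, Finset.univ_eq_attach, Finset.sum_attach t (fun j => a j • g j)])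
      let Cb : (t → K) →ₗ[K] (Fin k → K) := LinearMap.pi fun l => ∑ j, R.res (c j l) • LinearMap.proj j
      have hCb : Function.Injective Cb := by
        rw [← LinearMap.ker_eq_bot, LinearMap.ker_eq_bot']
        intro v hv
        have h1 : ∑ j : t, v j • bE (j : _) = 0 := by
          simp only [← hg, hc, map_sum, hθ, Finset.smul_sum, smul_smul]
          rw [Finset.sum_comm]
          refine Finset.sum_eq_zero fun l _ => ?_
          rw [← Finset.sum_smul]
          have h2 := congrFun hv l
          simp only [Cb, LinearMap.pi_apply, LinearMap.sum_apply, LinearMap.smul_apply, LinearMap.proj_apply, smul_eq_mul, Pi.zero_apply] at h2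
          simp only [mul_comm (v _)]
          rw [h2, zero_smul]
        exact funext (Fintype.linearIndependent_iff.1 (bE.linearIndependent.comp _ Subtype.val_injective) v h1)
      obtain ⟨G, hG⟩ := LinearMap.exists_leftInverse_of_injective Cb (LinearMap.ker_eq_bot.2 hCb)
      let Cm : Matrix t (Fin k) R := Matrix.of c
      let Gm : Matrix (Fin k) t R := Matrix.of fun l j => algebraMap K R (G (Pi.single l 1) j)
      have hP : (Cm * Gm).map R.res = 1 := by
        ext j' j
        have h3 := congrFun (LinearMap.congr_fun hG (Pi.single j' 1)) j
        rw [LinearMap.comp_apply, LinearMap.id_apply] at h3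
        rw [pi_eq_sum_univ' (Cb (Pi.single j' 1))] at h3
        simp only [map_sum, map_smul, Finset.sum_apply, Pi.smul_apply, smul_eq_mul] at h3
        rw [Matrix.one_apply, Matrix.map_apply, Matrix.mul_apply, map_sum]
        simp only [Cm, Gm, Matrix.of_apply, map_mul, hresK]
        refine Eq.trans ?_ (h3.trans ?_)
        · refine Finset.sum_congr rfl fun l _ => ?_
          simp [Cb, Pi.single_apply]
        · rw [Pi.single_apply]; simp only [eq_comm]
      have hdet : IsUnit (Cm * Gm).det := by
        by_contra hu
        have h4 := (hres _).1 hu
        rw [AlgHom.map_det, AlgHom.mapMatrix_apply, hP, Matrix.det_one] at h4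
        exact one_ne_zero h4
      have h5 : Matrix.vecMul (fun j : t => a j) (Cm * Gm) = 0 := by
        rw [← Matrix.vecMul_vecMul]
        have : Matrix.vecMul (fun j : t => a j) Cm = 0 := funext fun l => hcy l
        rw [this, Matrix.zero_vecMul]
      have h6 := congrArg (fun v => Matrix.vecMul v (Cm * Gm)⁻¹) h5
      simp only [Matrix.vecMul_vecMul, Matrix.mul_nonsing_inv _ hdet, Matrix.vecMul_one, Matrix.zero_vecMul] at h6
      exact congrFun h6 ⟨i, hi⟩
    let b := Module.Basis.mk hli hspan.ge
    have hb : ∀ i, b i = g i := fun i => Module.Basis.mk_apply _ _ i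
    obtain ⟨i0⟩ : Nonempty (Module.Free.ChooseBasisIndex K E) := bE.index_nonempty
    have hcoord : ∀ (I : Ideal R) (x : F), x ∈ I • (⊤ : Submodule R F) ↔ ∀ i, b.repr x i ∈ I := by
      intro I x
      constructor
      · intro hx
        refine Submodule.smul_induction_on hx (fun r hr y _ i => ?_) (fun y z hy hz i => ?_)
        · rw [map_smul, Finsupp.smul_apply, smul_eq_mul]; exact I.mul_mem_right _ hr
        · rw [map_add, Finsupp.add_apply]; exact I.add_mem (hy i) (hz i)
      · intro hx
        rw [← b.linearCombination_repr x, Finsupp.linearCombination_apply]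
        exact Submodule.sum_mem _ fun i _ => Submodule.smul_mem_smul (hx i) Submodule.mem_top
    have key : ∀ n, ∃ r : R, ∀ x, φ x - r • x ∈ (m ^ n) • (⊤ : Submodule R F) := by
      intro n
      induction n with
      | zero => exact ⟨0, fun x => by simp⟩
      | succ n ih =>
        obtain ⟨r, hr⟩ := ih
        let ψ : F →ₗ[R] F := φ - r • LinearMap.id
        have hψ : ∀ x, ψ x ∈ (m ^ n) • (⊤ : Submodule R F) := hr
        have hψd : ∀ (d : D) x, ψ (d • x) = d • ψ x := fun d x => by
          simp only [ψ, LinearMap.sub_apply, LinearMap.smul_apply, LinearMap.id_apply, hφ, smul_sub, smul_comm r d x]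
        let s := b.repr (ψ (b i0)) i0
        refine ⟨r + s, fun x => ?_⟩
        have hent : ∀ j k, b.repr (ψ (b k)) j - (if j = k then s else 0) ∈ m ^ (n + 1) := by
          intro j k
          by_contra hnot
          obtain ⟨ℓ, hℓ0, hℓ⟩ := Submodule.exists_dual_map_eq_bot_of_notMem
            (p := (m ^ (n + 1)).restrictScalars K) hnot inferInstance
          have hℓm : ∀ z ∈ m ^ (n + 1), ℓ z = 0 := fun z hz => by
            have : ℓ z ∈ ((m ^ (n + 1)).restrictScalars K).map ℓ := ⟨z, hz, rfl⟩
            rw [hℓ] at this
            exact this
          let L : F → E := fun y => (b.repr y).sum fun i a => ℓ a • bE i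
          have hLadd : ∀ y z, L (y + z) = L y + L z := fun y z => by
            simp only [L, map_add]
            exact Finsupp.sum_add_index' (by simp) (by simp [add_smul])
          have hLlin : ∀ y, L y = bE.repr.symm (Finsupp.mapRange ℓ (map_zero ℓ) (b.repr y)) := fun y => by
            rw [Module.Basis.repr_symm_apply, Finsupp.linearCombination_apply, Finsupp.sum_mapRange_index (by simp)]
          have hLsmul : ∀ a ∈ m ^ n, ∀ y, L (a • y) = ℓ a • θ y := by
            intro a ha y
            conv_rhs => rw [← b.linearCombination_repr y, Finsupp.linearCombination_apply, Finsupp.sum, map_sum, Finset.smul_sum]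
            simp only [L, map_smul]
            rw [Finsupp.sum_of_support_subset _ Finsupp.support_smul _ (by simp)]
            refine Finset.sum_congr rfl fun i _ => ?_
            rw [Finsupp.smul_apply, smul_eq_mul, hθ, hb, hg, smul_smul]
            congr 1
            have h7 : b.repr y i - algebraMap K R (R.res (b.repr y i)) ∈ m := by
              rw [hres, map_sub, hresK, sub_self]
            have h8 := hℓm _ (pow_succ m n ▸ Ideal.mul_mem_mul ha h7)
            rw [mul_sub, map_sub, sub_eq_zero] at h8
            rw [h8, mul_comm a, ← Algebra.smul_def, map_smul, smul_eq_mul, mul_comm]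
          have hL0 : ∀ y ∈ (m ^ (n + 1)) • (⊤ : Submodule R F), L y = 0 := fun y hy =>
            Finset.sum_eq_zero fun i _ => by simp only [hℓm _ ((hcoord _ y).1 hy i), zero_smul]
          have hLd : ∀ (d : D), ∀ y ∈ (m ^ n) • (⊤ : Submodule R F), L (d • y) = d • L y := by
            intro d y hy
            refine Submodule.smul_induction_on hy (fun a ha z _ => ?_) (fun y z h1 h2 => ?_)
            · rw [← smul_comm a d z, hLsmul a ha, hLsmul a ha, map_smul, smul_comm]
            · rw [smul_add, hLadd, hLadd, h1, h2, smul_add]
          have hwd : ∀ x y, θ x = θ y → L (ψ x) = L (ψ y) := by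
            intro x y hxy
            have h9 : ψ (x - y) ∈ (m ^ (n + 1)) • (⊤ : Submodule R F) := by
              have : x - y ∈ m • (⊤ : Submodule R F) := (hker _).1 (by rw [map_sub, hxy, sub_self])
              refine Submodule.smul_induction_on this (fun a ha z _ => ?_) (fun u v hu hv => ?_)
              · rw [map_smul, pow_succ', Submodule.mul_smul]
                exact Submodule.smul_mem_smul ha (hψ z)
              · rw [map_add]; exact add_mem hu hv
            have := hLadd (ψ y) (ψ (x - y))
            rw [← map_add, add_sub_cancel, hL0 _ h9, add_zero] at this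
            exact this
          let Ψ : E →ₗ[D] E :=
            { toFun := fun e => L (ψ (hsurj e).choose)
              map_add' := fun e e' => by
                rw [← hLadd, ← map_add]
                exact hwd _ _ (by rw [map_add, (hsurj (e + e')).choose_spec, (hsurj e).choose_spec, (hsurj e').choose_spec])
              map_smul' := fun d e => by
                rw [RingHom.id_apply, ← hLd d _ (hψ _), ← hψd]
                exact hwd _ _ (by rw [map_smul, (hsurj (d • e)).choose_spec, (hsurj e).choose_spec]) }
          obtain ⟨c, hc⟩ := hE Ψ
          have hjk : ∀ j k, ℓ (b.repr (ψ (b k)) j) = if j = k then c else 0 := by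
            intro j k
            have h1 : L (ψ (b k)) = c • bE k := by
              rw [← hc, hwd (b k) (hsurj (bE k)).choose (by rw [(hsurj (bE k)).choose_spec, hb, hg])]
              rfl
            rw [hLlin] at h1
            have h2 := congrArg (fun e => bE.repr e j) h1
            simpa [LinearEquiv.apply_symm_apply, Finsupp.single_apply, eq_comm] using h2
          apply hℓ0
          rw [map_sub, apply_ite ℓ, map_zero, hjk]
          have hs : ℓ s = c := by rw [show s = b.repr (ψ (b i0)) i0 from rfl, hjk, if_pos rfl]
          rw [hs]
          split_ifs <;> simp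
        have h10 : ∀ k, ψ (b k) - s • b k ∈ (m ^ (n + 1)) • (⊤ : Submodule R F) := fun k => (hcoord _ _).2 fun j => by
          rw [map_sub, map_smul, b.repr_self, Finsupp.sub_apply, Finsupp.smul_apply, Finsupp.single_apply, smul_eq_mul]
          simpa [mul_ite, eq_comm] using hent j k
        have h11 : φ x - (r + s) • x = ψ x - s • x := by
          simp only [ψ, LinearMap.sub_apply, LinearMap.smul_apply, LinearMap.id_apply, add_smul]; abel
        rw [h11]
        have h12 : Submodule.comap (ψ - s • LinearMap.id) ((m ^ (n + 1)) • ⊤) = ⊤ := by
          refine top_le_iff.1 (b.span_eq.ge.trans (Submodule.span_le.2 ?_))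
          rintro _ ⟨k, rfl⟩
          exact h10 k
        exact (show x ∈ Submodule.comap (ψ - s • LinearMap.id) ((m ^ (n + 1)) • ⊤) by rw [h12]; trivial)
    obtain ⟨r, hr⟩ := key N
    have hfin : ∀ x, φ x = r • x := fun x => by
      have := hr x
      rw [hN, Submodule.bot_smul, Submodule.mem_bot] at this
      exact sub_eq_zero.1 this
    refine ⟨r, hfin, fun r' hr' => ?_⟩
    have := congrArg (fun z => b.repr z i0) ((hr' (b i0)).symm.trans (hfin (b i0)))
    simpa using this

end Groth.Agent.S18793
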