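import Groth.Statements.S18794
import Mathlib

set_option autoImplicit false
set_option backward.isDefEq.respectTransparency.types false
set_option maxHeartbeats 1000000
set_option linter.all false
universe u v w
open scoped TensorProduct
open DefMod

namespace Groth.Agent.S18794
open Groth.Agent

/-- Let E be a left module over an associative algebra D over a field K of characteristic zero. For a
field extension L of K, the base change L ⊗_K E is a module over L ⊗_K D, i.e. an L-vector space
with a commuting action of D; call it irreducible when it is nonzero and its only L-subspaces stable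
under every element of D are 0 and the whole space. Then E is absolutely irreducible (its base
change to an algebraic closure of K is irreducible) if and only if L ⊗_K E is irreducible for every
finite extension L of K. (Finite extensions are taken in the universe of K.) -/
theorem result
    {K : Type u} [Field K] [CharZero K]
    {D : Type v} [Ring D] [Algebra K D]
    {E : Type w} [AddCommGroup E] [Module K E] [Module D E] [IsScalarTower K D E] :
    (Nontrivial (AlgebraicClosure K ⊗[K] E) ∧ ∀ N : Submodule (AlgebraicClosure K) (AlgebraicClosure K ⊗[K] E), (∀ (d : D) (x : AlgebraicClosure K ⊗[K] E), x ∈ N → (DistribSMul.toLinearMap K E d).baseChange (AlgebraicClosure K) x ∈ N) → N = ⊥ ∨ N = ⊤) ↔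
      ∀ (L : Type u) [Field L] [Algebra K L] [FiniteDimensional K L],
        (Nontrivial (L ⊗[K] E) ∧ ∀ N : Submodule (L) (L ⊗[K] E), (∀ (d : D) (x : L ⊗[K] E), x ∈ N → (DistribSMul.toLinearMap K E d).baseChange (L) x ∈ N) → N = ⊥ ∨ N = ⊤) := by
    classical
    have hmk : ∀ (L : Type u) [Field L] [Algebra K L] (e : E), (1 : L) ⊗ₜ[K] e = 0 → e = 0 := by
      intro L _ _ e he
      have hi := Module.Flat.rTensor_preserves_injective_linearMap (M := E) (Algebra.linearMap K L)
        (algebraMap K L).injective
      have : (Algebra.linearMap K L).rTensor E ((1 : K) ⊗ₜ[K] e) = 0 := by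
        simpa [LinearMap.rTensor_tmul, Algebra.linearMap_apply] using he
      rw [← map_zero ((Algebra.linearMap K L).rTensor E)] at this
      simpa using congrArg (TensorProduct.lid K E) (hi this)
    have hnt : ∀ (L : Type u) [Field L] [Algebra K L], Nontrivial (L ⊗[K] E) ↔ Nontrivial E := by
      intro L _ _
      constructor
      · intro hL
        by_contra h
        rw [not_nontrivial_iff_subsingleton] at h
        obtain ⟨x, y, hxy⟩ := hL
        exact hxy (Subsingleton.elim x y)
      · intro hE
        obtain ⟨e, he⟩ := exists_ne (0 : E)
        exact ⟨(1 : L) ⊗ₜ[K] e, 0, fun h => he (hmk L e h)⟩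
    have hsmul : ∀ (L : Type u) [Field L] [Algebra K L] (σ : L →ₐ[K] AlgebraicClosure K) (c : L) (x : L ⊗[K] E),
        σ.toLinearMap.rTensor E (c • x) = σ c • σ.toLinearMap.rTensor E x := by
      intro L _ _ σ c x
      induction x using TensorProduct.induction_on with
      | zero => simp
      | tmul a e => simp [TensorProduct.smul_tmul', map_mul]
      | add a b ha hb => simp [ha, hb]
    have hcomm : ∀ (L : Type u) [Field L] [Algebra K L] (σ : L →ₐ[K] AlgebraicClosure K) (d : D) (x : L ⊗[K] E),
        σ.toLinearMap.rTensor E ((DistribSMul.toLinearMap K E d).baseChange L x) =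
          (DistribSMul.toLinearMap K E d).baseChange (AlgebraicClosure K) (σ.toLinearMap.rTensor E x) := by
      intro L _ _ σ d x
      induction x using TensorProduct.induction_on with
      | zero => simp
      | tmul a e => simp
      | add a b ha hb => simp [ha, hb]
    constructor
    · rintro ⟨hN, hirr⟩ L _ _ _
      refine ⟨(hnt L).2 ((hnt _).1 hN), fun N hNst => ?_⟩
      let σ : L →ₐ[K] AlgebraicClosure K := IsAlgClosed.lift
      let m := σ.toLinearMap.rTensor E
      let N' : Submodule (AlgebraicClosure K) (AlgebraicClosure K ⊗[K] E) := Submodule.span _ (m '' N)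
      have hst : ∀ (d : D) (x), x ∈ N' → (DistribSMul.toLinearMap K E d).baseChange (AlgebraicClosure K) x ∈ N' := by
        intro d x hx
        induction hx using Submodule.span_induction with
        | mem y hy =>
          obtain ⟨z, hz, rfl⟩ := hy
          exact Submodule.subset_span ⟨_, hNst d z hz, hcomm L σ d z⟩
        | zero => simp
        | add a b _ _ ha hb => rw [map_add]; exact N'.add_mem ha hb
        | smul c a _ ha => rw [map_smul]; exact N'.smul_mem c ha
      rcases hirr N' hst with h | h
      · left
        rw [eq_bot_iff]
        intro z hz
        have hz' : m z ∈ N' := Submodule.subset_span ⟨z, hz, rfl⟩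
        rw [h, Submodule.mem_bot] at hz'
        rw [Submodule.mem_bot]
        exact Module.Flat.rTensor_preserves_injective_linearMap σ.toLinearMap σ.toRingHom.injective
          (hz'.trans (map_zero m).symm)
      · right
        by_contra hne
        obtain ⟨f, hf0, hfN⟩ := Submodule.exists_dual_map_eq_bot_of_lt_top (lt_top_iff_ne_top.2 hne) inferInstance
        have hfN' : ∀ z ∈ N, f z = 0 := fun z hz => by
          have : f z ∈ Submodule.map f N := ⟨z, hz, rfl⟩
          rw [hfN] at this
          exact (Submodule.mem_bot L).1 this
        let g' : AlgebraicClosure K ⊗[K] E →ₗ[AlgebraicClosure K] AlgebraicClosure K :=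
          TensorProduct.AlgebraTensorModule.lift (LinearMap.toSpanSingleton (AlgebraicClosure K) _
            (σ.toLinearMap.comp ((f.restrictScalars K).comp (TensorProduct.mk K L E 1))))
        have hg : ∀ z, g' (m z) = σ (f z) := by
          intro z
          induction z using TensorProduct.induction_on with
          | zero => simp
          | tmul a e =>
            have : a ⊗ₜ[K] e = a • ((1 : L) ⊗ₜ[K] e) := by simp [TensorProduct.smul_tmul']
            conv_rhs => rw [this, map_smul]
            simp [g', m, map_mul]
          | add a b ha hb => simp [ha, hb]
        have hle : N' ≤ LinearMap.ker g' := by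
          rw [Submodule.span_le]
          rintro _ ⟨z, hz, rfl⟩
          simp [hg, hfN' z hz]
        rw [h, top_le_iff, LinearMap.ker_eq_top] at hle
        apply hf0
        refine LinearMap.ext fun z => ?_
        have := hg z
        rw [hle, LinearMap.zero_apply] at this
        exact σ.toRingHom.injective (by simpa using this.symm)
    · intro h
      refine ⟨(hnt _).2 ((hnt K).1 (h K).1), fun N hNst => ?_⟩
      by_contra hne
      push Not at hne
      obtain ⟨x, hxN, hx0⟩ := (Submodule.ne_bot_iff N).1 hne.1
      obtain ⟨S, hS⟩ := TensorProduct.exists_finset x
      let L : IntermediateField K (AlgebraicClosure K) :=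
        IntermediateField.adjoin K ((S.image Prod.fst : Finset (AlgebraicClosure K)) : Set (AlgebraicClosure K))
      haveI : FiniteDimensional K L :=
        IntermediateField.finiteDimensional_adjoin fun c _ => (AlgebraicClosure.isAlgebraic K).isAlgebraic c |>.isIntegral
      let σ : L →ₐ[K] AlgebraicClosure K := L.val
      let m := σ.toLinearMap.rTensor E
      let NL : Submodule L (L ⊗[K] E) :=
        { carrier := {y | m y ∈ N}
          add_mem' := fun {a b} ha hb => by
            show m (a + b) ∈ N
            rw [map_add]; exact N.add_mem ha hb
          zero_mem' := by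
            show m 0 ∈ N
            rw [map_zero]; exact N.zero_mem
          smul_mem' := fun c a ha => by
            show m (c • a) ∈ N
            rw [hsmul]; exact N.smul_mem _ ha }
      have hst : ∀ (d : D) (y : L ⊗[K] E), y ∈ NL → (DistribSMul.toLinearMap K E d).baseChange L y ∈ NL := by
        intro d y hy
        show m _ ∈ N
        rw [hcomm]
        exact hNst d _ hy
      let y : L ⊗[K] E := ∑ i ∈ S.attach, (⟨i.1.1, IntermediateField.subset_adjoin K _ (by
        simp only [Finset.coe_image, Set.mem_image, Finset.mem_coe]; exact ⟨i.1, i.2, rfl⟩)⟩ : L) ⊗ₜ[K] i.1.2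
      have hy : m y = x := by
        rw [hS, map_sum, ← Finset.sum_attach S]
        rfl
      rcases (h L).2 NL hst with hb | ht
      · have : y ∈ NL := by show m y ∈ N; rw [hy]; exact hxN
        rw [hb, Submodule.mem_bot] at this
        rw [this, map_zero] at hy
        exact hx0 hy.symm
      · apply hne.2
        rw [eq_top_iff]
        intro z _
        induction z using TensorProduct.induction_on with
        | zero => exact N.zero_mem
        | tmul a e =>
          have he : ((1 : L) ⊗ₜ[K] e) ∈ NL := by rw [ht]; trivial
          have he' : m ((1 : L) ⊗ₜ[K] e) ∈ N := he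
          have := N.smul_mem a he'
          simpa [m, σ, TensorProduct.smul_tmul'] using this
        | add a b ha hb => exact N.add_mem (ha trivial) (hb trivial)

end Groth.Agent.S18794
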