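import Groth.Statements.S18795
import Mathlib.LinearAlgebra.Eigenspace.Minpoly
import Mathlib.FieldTheory.IsAlgClosed.AlgebraicClosure
import Mathlib.LinearAlgebra.Dual.Lemmas

set_option autoImplicit false
set_option backward.isDefEq.respectTransparency.types false
universe u v w
open scoped TensorProduct
open DefMod

namespace Groth.Agent.S18795

/-- Let E be a left module over an associative algebra D over a field K of characteristic zero. Assume
that the D-linear endomorphisms of E form a finite-dimensional K-vector space, that E has a finite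
presentation over D, and that E is absolutely irreducible: its base change K̄ ⊗_K E to an algebraic
closure K̄ of K is nonzero and its only K̄-subspaces stable under every element of D are 0 and the
whole space. Then End_D(E) = K: every D-linear endomorphism of E is multiplication by a scalar from
K. -/
theorem result
    {K : Type u} [Field K] [CharZero K]
    {D : Type v} [Ring D] [Algebra K D]
    {E : Type w} [AddCommGroup E] [Module K E] [Module D E] [IsScalarTower K D E]
    [Module.Finite K (E →ₗ[D] E)] [Module.FinitePresentation D E]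
    (habs : (Nontrivial (AlgebraicClosure K ⊗[K] E) ∧ ∀ N : Submodule (AlgebraicClosure K) (AlgebraicClosure K ⊗[K] E), (∀ (d : D) (x : AlgebraicClosure K ⊗[K] E), x ∈ N → (DistribSMul.toLinearMap K E d).baseChange (AlgebraicClosure K) x ∈ N) → N = ⊥ ∨ N = ⊤))
    (φ : E →ₗ[D] E) : ∃ c : K, ∀ x : E, φ x = c • x := by
  obtain ⟨hnt, habs⟩ := habs
  let L := AlgebraicClosure K
  obtain ⟨p, hpm, hp0⟩ := (IsIntegral.of_finite K (show Module.End D E from φ))
  let T : Module.End L (L ⊗[K] E) := (φ.restrictScalars K).baseChange L
  let ρ : Module.End D E →ₐ[K] Module.End L (L ⊗[K] E) :=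
    (Module.End.baseChangeHom K L E).comp
      { toFun := fun f => f.restrictScalars K, map_one' := rfl, map_mul' := fun _ _ => rfl, map_zero' := rfl,
        map_add' := fun _ _ => rfl, commutes' := fun c => LinearMap.ext fun x => rfl }
  have hT : Polynomial.aeval T (p.map (algebraMap K L)) = 0 := by
    rw [Polynomial.aeval_map_algebraMap]
    change Polynomial.aeval (ρ φ) p = 0
    rw [Polynomial.aeval_algHom_apply, Polynomial.aeval_def, hp0, map_zero]
  have hq : IsIntegral L T := ⟨p.map (algebraMap K L), hpm.map _, hT⟩
  obtain ⟨lam, hlam⟩ := IsAlgClosed.exists_root (minpoly L T) (minpoly.degree_pos hq).ne'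
  obtain ⟨r, hr⟩ := Polynomial.dvd_iff_isRoot.2 hlam
  have hrne : Polynomial.aeval T r ≠ 0 := by
    intro h
    have hr0 : r ≠ 0 := fun h0 => minpoly.ne_zero hq (by rw [hr, h0, mul_zero])
    have h1 := minpoly.degree_le_of_ne_zero L T hr0 h
    rw [hr, Polynomial.degree_mul, Polynomial.degree_X_sub_C] at h1
    have h2 : r.degree < 1 + r.degree := by
      rw [Polynomial.degree_eq_natDegree hr0]
      exact_mod_cast Nat.lt_one_add_iff.2 le_rfl
    exact absurd h1 (not_le.2 h2)
  obtain ⟨y, hy⟩ : ∃ y, Polynomial.aeval T r y ≠ 0 := by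
    by_contra hne
    push_neg at hne
    exact hrne (LinearMap.ext hne)
  have hev : T (Polynomial.aeval T r y) = lam • Polynomial.aeval T r y := by
    have := congrArg (fun f : Module.End L (L ⊗[K] E) => f y) (minpoly.aeval L T)
    rw [hr, map_mul, map_sub, Polynomial.aeval_X, Polynomial.aeval_C] at this
    simpa [sub_eq_zero, Module.algebraMap_end_apply] using this
  let N : Submodule L (L ⊗[K] E) := LinearMap.ker (T - lam • LinearMap.id)
  have hcomm : ∀ (d : D) (x : L ⊗[K] E), T ((DistribSMul.toLinearMap K E d).baseChange L x) =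
      (DistribSMul.toLinearMap K E d).baseChange L (T x) := by
    intro d x
    induction x using TensorProduct.induction_on with
    | zero => simp
    | tmul a e => simp [T]
    | add a b ha hb => simp [map_add, ha, hb]
  rcases habs N (fun d x hx => by
    simp only [N, LinearMap.mem_ker, LinearMap.sub_apply, LinearMap.smul_apply, LinearMap.id_apply, sub_eq_zero] at hx ⊢
    rw [hcomm, hx, map_smul]) with hN | hN
  · exact absurd ((Submodule.eq_bot_iff N).1 hN _ (by simp [N, hev])) hy
  · obtain ⟨g, hg⟩ : ∃ g : L →ₗ[K] K, g 1 = 1 := by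
      obtain ⟨g, hg⟩ := LinearMap.exists_rightInverse_of_surjective (R := K) (M := K) (P := K) LinearMap.id (by simp)
      obtain ⟨h, hh⟩ := Module.Projective.exists_dual_ne_zero K (one_ne_zero (α := L))
      exact ⟨(h 1)⁻¹ • h, by simp [inv_mul_cancel₀ hh]⟩
    refine ⟨g lam, fun x => ?_⟩
    have hx : T ((1 : L) ⊗ₜ[K] x) = lam • ((1 : L) ⊗ₜ[K] x) := by
      have : (1 : L) ⊗ₜ[K] x ∈ N := hN ▸ Submodule.mem_top
      simpa [N, sub_eq_zero] using this
    rw [LinearMap.baseChange_tmul, TensorProduct.smul_tmul', smul_eq_mul, mul_one] at hx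
    have := congrArg (fun z => TensorProduct.lid K E (g.rTensor E z)) hx
    simpa [hg] using this

end Groth.Agent.S18795
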