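import Groth.Statements.S18796
import Mathlib

set_option autoImplicit false
set_option backward.isDefEq.respectTransparency.types false
set_option maxHeartbeats 1000000
set_option linter.all false
universe u v w w' u'
open scoped TensorProduct
open DefMod

namespace Groth.Agent.S18796
open Groth.Agent

/-- Let K be a field of characteristic zero, D an associative K-algebra, E a left D-module that is
finitely presented over D, F a left D-module and P a commutative K-algebra. The canonical P-linear
map Φ : P ⊗_K Hom_D(E, F) → Hom_P(P ⊗_K E, P ⊗_K F), determined by p ⊗ f ↦ p · (1_P ⊗ f), is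
injective, and its image consists exactly of the P-linear maps that commute with the action of every
element of D; in other words Φ identifies P ⊗_K Hom_D(E, F) with the module of homomorphisms P ⊗_K E
→ P ⊗_K F over P ⊗_K D. The map Φ is pinned here by its values on pure tensors. -/
theorem result
    {K : Type u} [Field K] [CharZero K]
    {D : Type v} [Ring D] [Algebra K D]
    {E : Type w} [AddCommGroup E] [Module K E] [Module D E] [IsScalarTower K D E]
    [Module.FinitePresentation D E]
    {F : Type w'} [AddCommGroup F] [Module K F] [Module D F] [IsScalarTower K D F]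
    (P : Type u') [CommRing P] [Algebra K P]
    (Φ : P ⊗[K] (E →ₗ[D] F) →ₗ[P] (P ⊗[K] E →ₗ[P] P ⊗[K] F))
    (hΦ : ∀ (p : P) (f : E →ₗ[D] F), Φ (p ⊗ₜ[K] f) = p • (f.restrictScalars K).baseChange P) :
    Function.Injective Φ ∧
      ∀ g : P ⊗[K] E →ₗ[P] P ⊗[K] F,
        g ∈ LinearMap.range Φ ↔
          ∀ d : D, g ∘ₗ (DistribSMul.toLinearMap K E d).baseChange P =
            (DistribSMul.toLinearMap K F d).baseChange P ∘ₗ g := by
    classical
    let b := Module.Free.chooseBasis K P
    let cF := TensorProduct.equivFinsuppOfBasisLeft (R := K) (N := F) b
    let cH := TensorProduct.equivFinsuppOfBasisLeft (R := K) (N := (E →ₗ[D] F)) b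
    have hcoord : ∀ y i (e : E), cF (Φ y (1 ⊗ₜ[K] e)) i = cH y i e := by
      intro y i e
      induction y using TensorProduct.induction_on with
      | zero => simp
      | tmul p f =>
        rw [hΦ, LinearMap.smul_apply, LinearMap.baseChange_tmul, TensorProduct.smul_tmul', smul_eq_mul, mul_one]
        simp [cF, cH]
      | add y z hy hz => simp only [map_add, LinearMap.add_apply, Finsupp.add_apply, hy, hz]
    have hnat : ∀ (h : F →ₗ[K] F) (z : P ⊗[K] F) i, cF (h.baseChange P z) i = h (cF z i) := by
      intro h z i
      induction z using TensorProduct.induction_on with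
      | zero => simp
      | tmul p f => simp [cF]
      | add y z hy hz => simp only [map_add, Finsupp.add_apply, hy, hz]
    refine ⟨fun y z h => cH.injective ?_, fun g => ⟨?_, fun hg => ?_⟩⟩
    · refine Finsupp.ext fun i => LinearMap.ext fun e => ?_
      rw [← hcoord, ← hcoord, h]
    · rintro ⟨y, rfl⟩ d
      refine LinearMap.ext fun x => ?_
      simp only [LinearMap.comp_apply]
      induction y using TensorProduct.induction_on with
      | zero => simp
      | tmul p f =>
        rw [hΦ, LinearMap.smul_apply, LinearMap.smul_apply, map_smul]
        congr 1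
        induction x using TensorProduct.induction_on with
        | zero => simp
        | tmul q e => simp [LinearMap.baseChange_tmul]
        | add u v hu hv => simp only [map_add, hu, hv]
      | add u v hu hv => simp only [map_add, LinearMap.add_apply, hu, hv]
    · let G₀ : _ → E → F := fun i e => cF (g (1 ⊗ₜ[K] e)) i
      let G : Module.Free.ChooseBasisIndex K P → (E →ₗ[D] F) := fun i =>
        { toFun := G₀ i
          map_add' := fun e e' => by simp [G₀, TensorProduct.tmul_add]
          map_smul' := fun d e => by
            have h1 := congrArg (fun q => q (1 ⊗ₜ[K] e)) (hg d)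
            simp only [LinearMap.comp_apply, LinearMap.baseChange_tmul] at h1
            show G₀ i (d • e) = d • G₀ i e
            show cF (g (1 ⊗ₜ[K] (DistribSMul.toLinearMap K E d e))) i = _
            rw [h1, hnat]
            rfl }
      obtain ⟨s, hs⟩ := Module.Finite.fg_top (R := D) (M := E)
      let J := s.biUnion fun e => (cF (g (1 ⊗ₜ[K] e))).support
      have hJ : ∀ i, G i ≠ 0 → i ∈ J := by
        intro i hi
        by_contra hiJ
        apply hi
        refine LinearMap.ext_on (R := D) hs fun e he => ?_
        show G₀ i e = 0
        by_contra h
        exact hiJ (Finset.mem_biUnion.2 ⟨e, he, Finsupp.mem_support_iff.2 h⟩)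
      refine ⟨cH.symm (Finsupp.onFinset J G hJ), LinearMap.ext fun x => ?_⟩
      induction x using TensorProduct.induction_on with
      | zero => simp
      | tmul p e =>
        rw [show p ⊗ₜ[K] e = p • ((1 : P) ⊗ₜ[K] e) by rw [TensorProduct.smul_tmul', smul_eq_mul, mul_one], map_smul, map_smul]
        congr 1
        refine cF.injective (Finsupp.ext fun i => ?_)
        rw [hcoord, LinearEquiv.apply_symm_apply]
        rfl
      | add u v hu hv => simp only [map_add, hu, hv]

end Groth.Agent.S18796
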