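import Groth.Statements.S18802
import Mathlib.LinearAlgebra.Basis.VectorSpace
import Mathlib.Algebra.Module.Projective
import Mathlib.LinearAlgebra.FreeModule.Basic
import Mathlib.Algebra.Algebra.Tower
import Mathlib.Tactic.Abel
-- import your own Groth.Agent.* helpers here

set_option autoImplicit false
set_option backward.isDefEq.respectTransparency.types false
universe u v w w' w''
open DefMod

namespace Groth.Agent.S18802

/-- Let K be a field of characteristic zero, D an associative K-algebra and E, F left D-modules. A
K-linear map s : D → Hom_K(E, F) with s(ab)(e) = a s(b)(e) + s(a)(b e) (a derivation into the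
bimodule Hom_K(E, F), i.e. a Hochschild 1-cocycle) defines the twisted sum F ⊕_s E = F × E with a ·
(f, e) = (a f + s(a) e, a e), an extension of E by F. Every extension of left D-modules 0 → F → Q →
E → 0 arises this way: there are such an s and a D-linear isomorphism Q ≅ F ⊕_s E carrying the given
map F → Q to the inclusion f ↦ (f, 0) and compatible with the two projections onto E. (Together with
the splitting criterion this identifies derivations modulo principal derivations with Ext¹_D(E, F);
the compatibility of that identification with addition and scalars is not restated.) -/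
theorem result
    {K : Type u} [Field K] [CharZero K]
    {D : Type v} [Ring D] [Algebra K D]
    {E : Type w} [AddCommGroup E] [Module K E] [Module D E] [IsScalarTower K D E]
    {F : Type w'} [AddCommGroup F] [Module K F] [Module D F] [IsScalarTower K D F]
    {Q : Type w''} [AddCommGroup Q] [Module D Q]
    (i : F →ₗ[D] Q) (p : Q →ₗ[D] E) (hi : Function.Injective i) (hp : Function.Surjective p)
    (hex : Function.Exact i p) :
    ∃ (s : D →ₗ[K] E →ₗ[K] F) (hs : W4c6defoisocp1.IsHomDerivation s) (Φ : Q ≃ₗ[D] W4c6defoisocp1.TwistExt s hs),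
      (∀ f : F, Φ (i f) = W4c6defoisocp1.TwistExt.inl f) ∧ ∀ q : Q, W4c6defoisocp1.TwistExt.snd (Φ q) = p q := by
  letI : Module K Q := Module.compHom Q (algebraMap K D)
  haveI : IsScalarTower K D Q := IsScalarTower.of_algebraMap_smul fun c x => rfl
  let iK : F →ₗ[K] Q := i.restrictScalars K
  let pK : Q →ₗ[K] E := p.restrictScalars K
  obtain ⟨σ, hσ⟩ := LinearMap.exists_rightInverse_of_surjective pK (LinearMap.range_eq_top.2 hp)
  have hpσ : ∀ e, p (σ e) = e := fun e => congrArg (fun t : E →ₗ[K] E => t e) hσ
  choose r hr using fun q => (hex (q - σ (p q))).1 (by rw [map_sub, hpσ, sub_self])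
  have hcomm : ∀ (c : K) (a : D) (x : Q), a • c • x = c • a • x := fun c a x => by
    rw [← algebraMap_smul D c (a • x), ← algebraMap_smul D c x, smul_smul, smul_smul, Algebra.commutes]
  let s : D →ₗ[K] E →ₗ[K] F := LinearMap.mk₂ K (fun a e => r (a • σ e))
    (fun a b e => hi (by rw [map_add, hr, hr, hr, add_smul, map_add, map_add]; abel))
    (fun c a e => hi (by
      rw [show i (c • r (a • σ e)) = c • i (r (a • σ e)) from iK.map_smul c _, hr, hr, smul_assoc, smul_sub,
        show p (c • a • σ e) = c • p (a • σ e) from pK.map_smul c _, map_smul]))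
    (fun a e e' => hi (by rw [map_add i, hr, hr, hr, map_add σ, smul_add, map_add p, map_add σ]; abel))
    (fun c a e => hi (by
      rw [show i (c • r (a • σ e)) = c • i (r (a • σ e)) from iK.map_smul c _, hr, hr, map_smul, hcomm, smul_sub,
        show p (c • a • σ e) = c • p (a • σ e) from pK.map_smul c _, map_smul]))
  have hs : W4c6defoisocp1.IsHomDerivation s := fun a b e => hi (by
    change i (r ((a * b) • σ e)) = i (a • r (b • σ e) + r (a • σ (b • e)))
    rw [map_add i, map_smul i, hr, hr, hr, map_smul p, map_smul p, map_smul p, hpσ, hpσ, smul_sub, mul_smul, mul_smul]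
    abel)
  let Φ : Q →ₗ[D] W4c6defoisocp1.TwistExt s hs :=
    { toFun := fun q => W4c6defoisocp1.TwistExt.mk (r q, p q)
      map_add' := fun x y => W4c6defoisocp1.TwistExt.ext
        (hi (by simp only [W4c6defoisocp1.TwistExt.val_mk, W4c6defoisocp1.TwistExt.val_add, Prod.fst_add, map_add, hr]; abel))
        (map_add p x y)
      map_smul' := fun a x => W4c6defoisocp1.TwistExt.ext
        (hi (by
          change i (r (a • x)) = i (a • r x + r (a • σ (p x)))
          rw [map_add i, map_smul i, hr, hr, hr, map_smul p, map_smul p, hpσ, smul_sub]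
          abel))
        (map_smul p a x) }
  refine ⟨s, hs, LinearEquiv.ofBijective Φ ⟨fun x y hxy => ?_, fun z => ?_⟩, fun f => ?_, fun q => rfl⟩
  · have h1 : r x = r y := congrArg Prod.fst hxy
    have h2 : p x = p y := congrArg Prod.snd hxy
    have := congrArg i h1
    rw [hr, hr, h2] at this
    exact sub_left_injective this
  · refine ⟨i (W4c6defoisocp1.TwistExt.val z).1 + σ (W4c6defoisocp1.TwistExt.val z).2, W4c6defoisocp1.TwistExt.ext (hi ?_) ?_⟩
    · change i (r _) = _
      rw [hr, map_add, (hex _).2 ⟨_, rfl⟩, hpσ, zero_add, add_sub_cancel_right]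
    · change p _ = _
      rw [map_add, (hex _).2 ⟨_, rfl⟩, hpσ, zero_add]
  · refine W4c6defoisocp1.TwistExt.ext (hi ?_) ?_
    · change i (r (i f)) = i f
      rw [hr, (hex _).2 ⟨_, rfl⟩, map_zero, sub_zero]
    · exact (hex _).2 ⟨_, rfl⟩

end Groth.Agent.S18802
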