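import Groth.Statements.S18803
-- import your own Groth.Agent.* helpers here

set_option autoImplicit false
set_option backward.isDefEq.respectTransparency.types false
universe u v w w'
open DefMod

namespace Groth.Agent.S18803

/-- Let K be a field of characteristic zero, D an associative K-algebra, E and F left D-modules, and s :
D → Hom_K(E, F) a K-linear map with s(ab)(e) = a s(b)(e) + s(a)(b e). The twisted sum F ⊕_s E (that
is F × E with a · (f, e) = (a f + s(a) e, a e)) is a trivial extension of E by F — there is a
D-linear isomorphism F ⊕_s E ≅ F × E with the direct-sum module structure, carrying the inclusion f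
↦ (f, 0) to itself and compatible with the second projections — if and only if s is principal:
s(a)(e) = a σ(e) − σ(a e) for some K-linear σ : E → F (a Hochschild 1-coboundary). -/
theorem result
    {K : Type u} [Field K] [CharZero K]
    {D : Type v} [Ring D] [Algebra K D]
    {E : Type w} [AddCommGroup E] [Module K E] [Module D E] [IsScalarTower K D E]
    {F : Type w'} [AddCommGroup F] [Module K F] [Module D F] [IsScalarTower K D F]
    (s : D →ₗ[K] E →ₗ[K] F) (hs : W4c6defoisocp1.IsHomDerivation s) :
    (∃ Ψ : W4c6defoisocp1.TwistExt s hs ≃ₗ[D] F × E,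
        (∀ f : F, Ψ (W4c6defoisocp1.TwistExt.inl f) = (f, 0)) ∧ ∀ x : W4c6defoisocp1.TwistExt s hs, (Ψ x).2 = W4c6defoisocp1.TwistExt.snd x) ↔
      W4c6defoisocp1.IsPrincipal s := by
  constructor
  · rintro ⟨Ψ, hΨ, hΨ2⟩
    let v : E → W4c6defoisocp1.TwistExt s hs := fun e => W4c6defoisocp1.TwistExt.mk (0, e)
    have hv : ∀ a e, a • v e = W4c6defoisocp1.TwistExt.inl (s a e) + v (a • e) := fun a e =>
      W4c6defoisocp1.TwistExt.ext (by simp [v]) (by simp [v])
    have key : ∀ a e, a • (Ψ (v e)).1 = s a e + (Ψ (v (a • e))).1 := fun a e => by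
      have := congrArg (fun z : F × E => z.1) (congrArg Ψ (hv a e))
      simp only [map_smul, map_add, hΨ, Prod.smul_fst, Prod.fst_add] at this
      exact this
    refine ⟨{ toFun := fun e => (Ψ (v e)).1, map_add' := fun e e' => ?_, map_smul' := fun c e => ?_ }, fun a e => ?_⟩
    · have : v (e + e') = v e + v e' := W4c6defoisocp1.TwistExt.ext (by simp [v]) (by simp [v])
      change (Ψ (v (e + e'))).1 = _
      rw [this, map_add]
      rfl
    · have h0 : s (algebraMap K D c) e = 0 := by
        rw [Algebra.algebraMap_eq_smul_one, map_smul, W4c6defoisocp1.TwistExt.map_one_eq_zero hs]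
        simp
      have := key (algebraMap K D c) e
      rw [h0, zero_add, algebraMap_smul, algebraMap_smul] at this
      exact this.symm
    · change s a e = a • (Ψ (v e)).1 - (Ψ (v (a • e))).1
      rw [key, add_sub_cancel_right]
  · rintro ⟨σ, hσ⟩
    refine ⟨{ toFun := fun x => ((W4c6defoisocp1.TwistExt.val x).1 + σ (W4c6defoisocp1.TwistExt.val x).2, (W4c6defoisocp1.TwistExt.val x).2), invFun := fun y => W4c6defoisocp1.TwistExt.mk (y.1 - σ y.2, y.2), map_add' := fun x y => ?_, map_smul' := fun a x => ?_, left_inv := fun x => ?_, right_inv := fun y => ?_ }, fun f => ?_, fun x => rfl⟩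
    · refine Prod.ext ?_ rfl
      simp only [W4c6defoisocp1.TwistExt.val_add, Prod.fst_add, Prod.snd_add, map_add]
      abel
    · refine Prod.ext ?_ rfl
      simp only [W4c6defoisocp1.TwistExt.val_smul, hσ, RingHom.id_apply, Prod.smul_fst, smul_add]
      abel
    · exact W4c6defoisocp1.TwistExt.ext (by simp) (by simp)
    · exact Prod.ext (by simp) (by simp)
    · exact Prod.ext (by simp) (by simp)

end Groth.Agent.S18803
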