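import Groth.Statements.S18808
import Mathlib
import Groth.Agent.Lib.H8Coeff

set_option autoImplicit false
universe u v v' w w' x
open TensorProduct
open HopfRep

namespace Groth.Agent.S18808

/-- Let k be a field, i : C → D an injective morphism of k-coalgebras and V a right D-comodule with
coaction ρ. Call a D-subcomodule K of V admissible when the induced coaction of V/K, namely ρ
followed by the projection V ⊗ D → (V/K) ⊗ D, takes all its values in the image of (V/K) ⊗ C → (V/K)
⊗ D (so that V/K comes from a C-comodule). Then there is a least admissible D-subcomodule of V: V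
has a largest quotient D-comodule coming from C, through which every D-comodule map from V to a
comodule coming from C factors. (The source states this for left comodules over the coordinate
bialgebras of an affine monoid scheme and its open schematically dense group of units, as the
existence of a universal map from a representation of the unit group to a representation of the
monoid; it uses that assumption only through the injectivity of the restriction map.) -/
theorem result (k : Type u) [Field k]
    (C : Type v) [AddCommGroup C] [Module k C] [Coalgebra k C]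
    (D : Type v') [AddCommGroup D] [Module k D] [Coalgebra k D]
    (i : C →ₗc[k] D) (hi : Function.Injective i)
    (V : Type w) [AddCommGroup V] [Module k V] [HopfRep.Comod k D V] :
    ∃ K : Submodule k V, HopfRep.IsSubcomod (k := k) (A := D) K ∧
      (∀ v : V, K.mkQ.rTensor D (HopfRep.Comod.coact (k := k) (A := D) v) ∈
        LinearMap.range ((i : C →ₗ[k] D).lTensor (V ⧸ K))) ∧
      ∀ K' : Submodule k V, HopfRep.IsSubcomod (k := k) (A := D) K' →
        (∀ v : V, K'.mkQ.rTensor D (HopfRep.Comod.coact (k := k) (A := D) v) ∈
          LinearMap.range ((i : C →ₗ[k] D).lTensor (V ⧸ K'))) → K ≤ K' := by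
  have cond : ∀ K' : Submodule k V, (∀ v : V, K'.mkQ.rTensor D (HopfRep.Comod.coact (k := k) (A := D) v) ∈
        LinearMap.range ((i : C →ₗ[k] D).lTensor (V ⧸ K'))) ↔
      ∀ g : D →ₗ[k] k, (g ∘ₗ (i : C →ₗ[k] D) = 0) → ∀ v, Groth.Agent.H8Comod.act V (WithConv.toConv g) v ∈ K' := by
    intro K'
    have hr : LinearMap.range ((i : C →ₗ[k] D).lTensor (V ⧸ K')) = LinearMap.range ((LinearMap.range (i : C →ₗ[k] D)).subtype.lTensor (V ⧸ K')) := by
      conv_lhs => rw [← LinearMap.subtype_comp_codRestrict (i : C →ₗ[k] D) _ (LinearMap.mem_range_self (i : C →ₗ[k] D)), LinearMap.lTensor_comp]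
      exact LinearMap.range_comp_of_range_eq_top _ (LinearMap.range_eq_top.mpr (LinearMap.lTensor_surjective _ (LinearMap.surjective_rangeRestrict _)))
    simp only [hr, Groth.Agent.H8Comod.mem_range_lTensor_iff, Groth.Agent.H8Comod.contr_rTensor, Submodule.mkQ_apply, Submodule.Quotient.mk_eq_zero]
    constructor
    · exact fun h g hg v => h v g fun d ⟨c, hc⟩ => hc ▸ LinearMap.congr_fun hg c
    · exact fun h v g hg => h g (LinearMap.ext fun c => hg _ ⟨c, rfl⟩) v
  refine ⟨⨅ K' : {K' : Submodule k V // HopfRep.IsSubcomod (k := k) (A := D) K' ∧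
    ∀ g : D →ₗ[k] k, (g ∘ₗ (i : C →ₗ[k] D) = 0) → ∀ v, Groth.Agent.H8Comod.act V (WithConv.toConv g) v ∈ K'}, K'.1, ?_, ?_, ?_⟩
  · exact Groth.Agent.H8Comod.isSubcomod_iff.mpr fun f u hu => (Submodule.mem_iInf _).mpr fun K' =>
      Groth.Agent.H8Comod.isSubcomod_iff.mp K'.2.1 f u ((Submodule.mem_iInf _).mp hu K')
  · exact (cond _).mpr fun g hg v => (Submodule.mem_iInf _).mpr fun K' => K'.2.2 g hg v
  · exact fun K' hK' h => iInf_le_of_le ⟨K', hK', (cond K').mp h⟩ le_rfl

end Groth.Agent.S18808
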