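import Groth.Statements.S18810
import Mathlib
import Groth.Agent.Lib.H8Cosemisimple

set_option autoImplicit false
universe u v v' w w' x
open TensorProduct
open HopfRep

namespace Groth.Agent.S18810

/-- Let k be a field, C a k-coalgebra, V a right C-comodule and (S_j) a family of simple C-comodules
which are pairwise non-isomorphic (for j ≠ j' no k-linear isomorphism S_j ≃ S_j' commutes with the
coactions). For each j let V[j] be the isotypic component of type S_j: the sum of the images of all
comodule maps S_j → V (equivalently of all simple subcomodules of V isomorphic to S_j, a nonzero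
such map being injective). Then the family j ↦ V[j] is independent, so that the socle of V is the
direct sum of its isotypic components. (The source states this for representations of an affine
monoid scheme over k, i.e. left comodules over its coordinate bialgebra; the row is the
right-comodule form over any coalgebra.) -/
theorem result (k : Type u) [Field k]
    (C : Type v) [AddCommGroup C] [Module k C] [Coalgebra k C]
    (V : Type w) [AddCommGroup V] [Module k V] [HopfRep.Comod k C V]
    {ι : Type x} (S : ι → Type w') [∀ j, AddCommGroup (S j)] [∀ j, Module k (S j)]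
    [∀ j, HopfRep.Comod k C (S j)] (hS : ∀ j, HopfRep.IsSimpleComod k C (S j))
    (hne : ∀ j j', j ≠ j' → ∀ e : S j ≃ₗ[k] S j', ¬ Hoch.IsComodHom C (e : S j →ₗ[k] S j')) :
    iSupIndep (fun j => ⨆ f : {f : S j →ₗ[k] V // Hoch.IsComodHom C f}, LinearMap.range f.1) := by
  intro j
  rw [disjoint_iff]
  by_contra h
  have hsub : HopfRep.IsSubcomod (k := k) (A := C) (⨆ j', ⨆ (_ : j' ≠ j), ⨆ f : {f : S j' →ₗ[k] V // Hoch.IsComodHom C f}, LinearMap.range f.1) :=
    Groth.Agent.H8Comod.isSubcomod_iSup fun j' => Groth.Agent.H8Comod.isSubcomod_iSup fun _ =>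
      Groth.Agent.H8Comod.isSubcomod_iSup fun f => Groth.Agent.H8Comod.isSubcomod_range f.2
  have hsub' : HopfRep.IsSubcomod (k := k) (A := C) (⨆ f : {f : S j →ₗ[k] V // Hoch.IsComodHom C f}, LinearMap.range f.1) :=
    Groth.Agent.H8Comod.isSubcomod_iSup fun f => Groth.Agent.H8Comod.isSubcomod_range f.2
  obtain ⟨N, hN, hle⟩ := Groth.Agent.H8Comod.exists_simple_le (Groth.Agent.H8Comod.isSubcomod_inf hsub' hsub) h
  obtain ⟨-, g, hg, hginj, hgr⟩ := Groth.Agent.H8Comod.exists_iso_of_le_iSup (fun _ : {f : S j →ₗ[k] V // Hoch.IsComodHom C f} => S j)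
    (fun _ => hS j) (fun f => f.1) (fun f => f.2) N hN (hle.trans inf_le_left)
  have hle2 : Groth.Agent.H8Comod.toK k C V N ≤ ⨆ p : (Σ j' : {j' // j' ≠ j}, {f : S j'.1 →ₗ[k] V // Hoch.IsComodHom C f}), LinearMap.range p.2.1 :=
    (hle.trans inf_le_right).trans (iSup₂_le fun j' hj' => iSup_le fun f =>
      le_iSup_of_le (⟨⟨j', hj'⟩, f⟩ : Σ j' : {j' // j' ≠ j}, {f : S j'.1 →ₗ[k] V // Hoch.IsComodHom C f}) le_rfl)
  obtain ⟨⟨⟨j', hj'⟩, _⟩, g', hg', hginj', hgr'⟩ := Groth.Agent.H8Comod.exists_iso_of_le_iSup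
    (fun p : (Σ j' : {j' // j' ≠ j}, {f : S j'.1 →ₗ[k] V // Hoch.IsComodHom C f}) => S p.1.1)
    (fun p => hS p.1.1) (fun p => p.2.1) (fun p => p.2.2) N hN hle2
  let e : S j' ≃ₗ[k] S j := (LinearEquiv.ofInjective g' hginj').trans
    ((LinearEquiv.ofEq _ _ (hgr'.trans hgr.symm)).trans (LinearEquiv.ofInjective g hginj).symm)
  have he : ∀ w, g (e w) = g' w := fun w =>
    congrArg Subtype.val ((LinearEquiv.ofInjective g hginj).apply_symm_apply
      ((LinearEquiv.ofEq _ _ (hgr'.trans hgr.symm)) ((LinearEquiv.ofInjective g' hginj') w)))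
  refine hne j' j hj' e (Groth.Agent.H8Comod.isComodHom_iff.mpr fun f w => hginj ?_)
  simp only [LinearEquiv.coe_coe]
  rw [he, Groth.Agent.H8Comod.isComodHom_iff.mp hg', Groth.Agent.H8Comod.isComodHom_iff.mp hg, he]

end Groth.Agent.S18810
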