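import Groth.Statements.S18813
import Mathlib
import Groth.Agent.Lib.H8Reductive

set_option autoImplicit false
universe u
open scoped TensorProduct
open HopfRep

namespace Groth.Agent.S18813
open TensorProduct in
theorem lr_baseChange (k K A : Type u) [Field k] [Field K]
    [Algebra k K] [CommRing A] [HopfAlgebra k A] :
    HopfRep.IsLinearlyReductive k A ↔ HopfRep.IsLinearlyReductive K (K ⊗[k] A) := by
  rw [H8Reductive.lr_iff_integral, H8Reductive.lr_iff_integral]
  constructor
  · rintro ⟨α, hα, h1⟩
    let β : K ⊗[k] A →ₗ[K] K := (AlgebraTensorModule.rid k K K).toLinearMap ∘ₗ α.baseChange K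
    have hβ : ∀ (c : K) (a : A), β (c ⊗ₜ a) = α a • c := fun c a => by simp [β]
    refine ⟨β, fun z => ?_, ?_⟩
    · induction z using TensorProduct.induction_on with
      | zero => simp
      | tmul c a =>
        have key : ∀ w : A ⊗[k] A, TensorProduct.lid K (K ⊗[k] A)
            (β.rTensor (K ⊗[k] A) (AlgebraTensorModule.tensorTensorTensorComm k K k K K K A A (((1 : K) ⊗ₜ[K] c) ⊗ₜ[k] w))) =
            c ⊗ₜ[k] TensorProduct.lid k A (α.rTensor A w) := by
          intro w
          induction w using TensorProduct.induction_on with
          | zero => simp
          | tmul x y =>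
            simp [hβ, Algebra.smul_def]
            rw [← Algebra.smul_def, ← Algebra.smul_def, TensorProduct.smul_tmul]
          | add x y hx hy => simp only [tmul_add, map_add, hx, hy]
        rw [TensorProduct.comul_tmul, CommSemiring.comul_apply, key, hα, hβ,
          Algebra.TensorProduct.one_def, TensorProduct.tmul_smul, TensorProduct.smul_tmul', TensorProduct.smul_tmul']
        simp
      | add x y hx hy => simp only [map_add, add_smul, hx, hy]
    · rw [Algebra.TensorProduct.one_def, hβ, h1, one_smul]
  · rintro ⟨β, hβ, h1⟩
    obtain ⟨φ, hφ⟩ := (LinearMap.toSpanSingleton k K 1).exists_leftInverse_of_injective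
      (LinearMap.ker_eq_bot.mpr fun a b h => (algebraMap k K).injective (by simpa [Algebra.algebraMap_eq_smul_one] using h))
    have hφ1 : φ 1 = 1 := by simpa using LinearMap.congr_fun hφ 1
    let α : A →ₗ[k] k := φ ∘ₗ β.restrictScalars k ∘ₗ TensorProduct.mk k K A 1
    refine ⟨α, fun a => ?_, by simp [α, ← Algebra.TensorProduct.one_def, h1, hφ1]⟩
    let g : K ⊗[k] A →ₗ[k] A := (TensorProduct.lid k A).toLinearMap ∘ₗ φ.rTensor A
    have key : ∀ w : A ⊗[k] A, g (TensorProduct.lid K (K ⊗[k] A)
        (β.rTensor (K ⊗[k] A) (AlgebraTensorModule.tensorTensorTensorComm k K k K K K A A (((1 : K) ⊗ₜ[K] (1 : K)) ⊗ₜ[k] w)))) =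
        TensorProduct.lid k A (α.rTensor A w) := by
      intro w
      induction w using TensorProduct.induction_on with
      | zero => simp
      | tmul x y => simp [g, α, smul_tmul']
      | add x y hx hy => simp only [tmul_add, map_add, hx, hy]
    have h := congrArg g (hβ ((1 : K) ⊗ₜ a))
    rw [TensorProduct.comul_tmul, CommSemiring.comul_apply, key] at h
    rw [h]
    simp [g, α, Algebra.TensorProduct.one_def, smul_tmul']

/-- Let k be a field, K a field extension of k and A a commutative Hopf algebra over k, the coordinate
ring of an affine group scheme G (no finiteness assumed). Then G is linearly reductive (every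
finite-dimensional A-comodule is semisimple) if and only if the base change G_K is (every
finite-dimensional comodule over the K-Hopf algebra K ⊗_k A is semisimple). (The source phrases both
sides as semisimplicity of all representations, which over a field is equivalent to semisimplicity
of the finite-dimensional ones since every comodule is the union of its finite-dimensional
subcomodules.) -/
theorem result (k K A : Type u) [Field k] [Field K]
    [Algebra k K] [CommRing A] [HopfAlgebra k A] :
    HopfRep.IsLinearlyReductive k A ↔ HopfRep.IsLinearlyReductive K (K ⊗[k] A) := by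
  exact lr_baseChange k K A

end Groth.Agent.S18813
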