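import Groth.Statements.S18814
import Mathlib
import Groth.Agent.Lib.H8Comod

set_option autoImplicit false
universe u v v' w w'
open TensorProduct
open HopfRep

namespace Groth.Agent.S18814

/-- Let k be a field, C and D commutative bialgebras over k (coordinate rings of affine monoid schemes M
and N) and V a k-vector space carrying a right C-comodule structure with coaction ρ_C : V → V ⊗ C
and a right D-comodule structure with coaction ρ_D : V → V ⊗ D which commute: (ρ_C ⊗ id_D) ∘ ρ_D and
(ρ_D ⊗ id_C) ∘ ρ_C agree in V ⊗ C ⊗ D after reassociating and swapping the last two factors (the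
actions of M and N on V commute). Assume V is semisimple as a D-comodule. Then for every simple
D-comodule S the isotypic component of V of type S, the sum of the images of all D-comodule maps S →
V, is a C-subcomodule of V. (The source works with left comodules; this is the right-comodule form.) -/
theorem result (k : Type u) [Field k]
    (C : Type v) [CommRing C] [Bialgebra k C] (D : Type v') [CommRing D] [Bialgebra k D]
    (V : Type w) [AddCommGroup V] [Module k V] [HopfRep.Comod k C V] [HopfRep.Comod k D V]
    (hcomm : (TensorProduct.assoc k V C D).toLinearMap ∘ₗ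
        (HopfRep.Comod.coact (k := k) (A := C) (V := V)).rTensor D ∘ₗ HopfRep.Comod.coact (k := k) (A := D) =
      (TensorProduct.comm k D C).toLinearMap.lTensor V ∘ₗ (TensorProduct.assoc k V D C).toLinearMap ∘ₗ
        (HopfRep.Comod.coact (k := k) (A := D) (V := V)).rTensor C ∘ₗ HopfRep.Comod.coact (k := k) (A := C))
    (hV : HopfRep.IsSemisimpleComod k D V)
    (S : Type w') [AddCommGroup S] [Module k S] [HopfRep.Comod k D S] (hS : HopfRep.IsSimpleComod k D S) :
    HopfRep.IsSubcomod (k := k) (A := C)
      (⨆ f : {f : S →ₗ[k] V // Hoch.IsComodHom D f}, LinearMap.range f.1) := by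
  have hc : ∀ (f : Groth.Agent.H8Comod.DualAlg k C) (g : Groth.Agent.H8Comod.DualAlg k D) (v : V),
      Groth.Agent.H8Comod.act V f (Groth.Agent.H8Comod.act V g v) = Groth.Agent.H8Comod.act V g (Groth.Agent.H8Comod.act V f v) := by
    intro f g v
    have h := congrArg (fun L => ((TensorProduct.rid k V).toLinearMap ∘ₗ ((TensorProduct.lid k k).toLinearMap ∘ₗ TensorProduct.map f.ofConv g.ofConv).lTensor V) (L v)) hcomm
    simp only [LinearMap.comp_apply, LinearEquiv.coe_coe] at h
    simp only [Groth.Agent.H8Comod.act_apply]
    have k1 : ∀ z : TensorProduct k V D, Groth.Agent.H8Comod.contr V f.ofConv (HopfRep.Comod.coact (k := k) (A := C) (Groth.Agent.H8Comod.contr V g.ofConv z)) =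
        (TensorProduct.rid k V) ((((TensorProduct.lid k k).toLinearMap ∘ₗ TensorProduct.map f.ofConv g.ofConv)).lTensor V
          (TensorProduct.assoc k V C D ((HopfRep.Comod.coact (k := k) (A := C) (V := V)).rTensor D z))) := by
      intro z
      induction z using TensorProduct.induction_on with
      | zero => simp
      | tmul a q =>
        simp only [Groth.Agent.H8Comod.contr_tmul, map_smul, LinearMap.rTensor_tmul]
        generalize HopfRep.Comod.coact (k := k) (A := C) a = w
        induction w using TensorProduct.induction_on with
        | zero => simp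
        | tmul p r => simp [smul_smul, mul_comm]
        | add p r hp hr => simp only [map_add, smul_add, TensorProduct.add_tmul, hp, hr]
      | add p q hp hq => simp only [map_add, hp, hq]
    have k2 : ∀ z : TensorProduct k V C, Groth.Agent.H8Comod.contr V g.ofConv (HopfRep.Comod.coact (k := k) (A := D) (Groth.Agent.H8Comod.contr V f.ofConv z)) =
        (TensorProduct.rid k V) ((((TensorProduct.lid k k).toLinearMap ∘ₗ TensorProduct.map f.ofConv g.ofConv)).lTensor V
          ((TensorProduct.comm k D C).toLinearMap.lTensor V (TensorProduct.assoc k V D C ((HopfRep.Comod.coact (k := k) (A := D) (V := V)).rTensor C z)))) := by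
      intro z
      induction z using TensorProduct.induction_on with
      | zero => simp
      | tmul a q =>
        simp only [Groth.Agent.H8Comod.contr_tmul, map_smul, LinearMap.rTensor_tmul]
        generalize HopfRep.Comod.coact (k := k) (A := D) a = w
        induction w using TensorProduct.induction_on with
        | zero => simp
        | tmul p r => simp [smul_smul, mul_comm]
        | add p r hp hr => simp only [map_add, smul_add, TensorProduct.add_tmul, hp, hr]
      | add p q hp hq => simp only [map_add, hp, hq]
    rw [k1, k2]
    exact h
  refine Groth.Agent.H8Comod.isSubcomod_iff.mpr fun f u hu => ?_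
  refine Submodule.iSup_induction _ (motive := fun x => Groth.Agent.H8Comod.act V f x ∈ _) hu ?_ (by simp) fun a b ha hb => by rw [map_add]; exact add_mem ha hb
  rintro ⟨φ, hφ⟩ _ ⟨s, rfl⟩
  refine Submodule.mem_iSup_of_mem ⟨Groth.Agent.H8Comod.act V f ∘ₗ φ, ?_⟩ ⟨s, rfl⟩
  refine Groth.Agent.H8Comod.isComodHom_iff.mpr fun g x => ?_
  simp only [LinearMap.comp_apply]
  rw [Groth.Agent.H8Comod.isComodHom_iff.mp hφ, hc]

end Groth.Agent.S18814
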