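import Groth.Statements.S18819
import Mathlib
import Groth.Agent.Lib.H8Cosemisimple

set_option autoImplicit false
universe u v w w'
open TensorProduct
open HopfRep

namespace Groth.Agent.S18819

/-- Let k be a field, C a k-coalgebra and V a right C-comodule which is the sum of finitely many simple
subcomodules, given as the images of comodule maps g_i : K_i → V (i < n) from simple comodules K_i.
If S is a simple comodule and f : S → V a nonzero comodule map (so that its image is a simple
subcomodule of V), then S is isomorphic as a comodule to some K_i: there is a k-linear isomorphism S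
≃ K_i commuting with the coactions. (The source states this for representations of an affine monoid
scheme over k with the subrepresentations given as subspaces; here the simple subcomodules are
presented as images of maps from simple comodules.) -/
theorem result (k : Type u) [Field k]
    (C : Type v) [AddCommGroup C] [Module k C] [Coalgebra k C]
    (V : Type w) [AddCommGroup V] [Module k V] [HopfRep.Comod k C V]
    {n : ℕ} (K : Fin n → Type w') [∀ i, AddCommGroup (K i)] [∀ i, Module k (K i)] [∀ i, HopfRep.Comod k C (K i)]
    (hK : ∀ i, HopfRep.IsSimpleComod k C (K i)) (g : ∀ i, K i →ₗ[k] V) (hg : ∀ i, Hoch.IsComodHom C (g i))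
    (hsum : (⨆ i, LinearMap.range (g i)) = ⊤)
    (S : Type w') [AddCommGroup S] [Module k S] [HopfRep.Comod k C S] (hS : HopfRep.IsSimpleComod k C S)
    (f : S →ₗ[k] V) (hf : Hoch.IsComodHom C f) (hf0 : f ≠ 0) :
    ∃ (i : Fin n) (e : S ≃ₗ[k] K i), Hoch.IsComodHom C (e : S →ₗ[k] K i) := by
  obtain ⟨N, hN⟩ := Groth.Agent.H8Comod.exists_ofK (Groth.Agent.H8Comod.isSubcomod_range hf)
  have hinj : Function.Injective f := by
    rcases hS.2 _ (Groth.Agent.H8Comod.isSubcomod_ker hf) with h | h
    · exact LinearMap.ker_eq_bot.mp h
    · exact absurd (LinearMap.ker_eq_top.mp h) hf0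
  have hNs : letI := Groth.Agent.H8Comod.dualModule (k := k) (C := C) V; IsSimpleModule (Groth.Agent.H8Comod.DualAlg k C) N := by
    refine (Groth.Agent.H8Comod.isSimple_sub_iff N).mpr ?_
    rw [hN]
    refine ⟨fun h => hf0 (LinearMap.range_eq_bot.mp h), fun U hU hle => ?_⟩
    rcases hS.2 _ (Groth.Agent.H8Comod.isSubcomod_comap hf hU) with h | h
    · left; exact (Submodule.eq_bot_iff _).mpr fun x hx => by
        obtain ⟨y, rfl⟩ := hle hx
        have : y ∈ U.comap f := hx
        rw [h, Submodule.mem_bot] at this; simp [this]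
    · right; refine le_antisymm hle ?_
      rintro _ ⟨y, rfl⟩; exact (h.symm ▸ Submodule.mem_top : y ∈ U.comap f)
  obtain ⟨i, j, hj, hjinj, hjr⟩ := Groth.Agent.H8Comod.exists_iso_of_le_iSup K hK g hg N hNs (by rw [hsum]; exact le_top)
  let e : S ≃ₗ[k] K i := (LinearEquiv.ofInjective f hinj).trans
    ((LinearEquiv.ofEq _ _ (hjr.trans hN).symm).trans (LinearEquiv.ofInjective j hjinj).symm)
  have he : ∀ w, j (e w) = f w := fun w =>
    congrArg Subtype.val ((LinearEquiv.ofInjective j hjinj).apply_symm_apply
      ((LinearEquiv.ofEq _ _ (hjr.trans hN).symm) ((LinearEquiv.ofInjective f hinj) w)))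
  refine ⟨i, e, Groth.Agent.H8Comod.isComodHom_iff.mpr fun φ w => hjinj ?_⟩
  simp only [LinearEquiv.coe_coe]
  rw [he, Groth.Agent.H8Comod.isComodHom_iff.mp hf, Groth.Agent.H8Comod.isComodHom_iff.mp hj, he]

end Groth.Agent.S18819
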