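import Groth.Statements.S18823
import Mathlib
import Groth.Agent.Lib.H8Coincidence

set_option autoImplicit false
universe u
open CategoryTheory MonoidalCategory CartesianMonoidalCategory AlgebraicGeometry
open AlgGrp

namespace Groth.Agent.S18823

/-- Let k be a field, X a separated k-scheme, M a k-scheme (in the source a monoid k-scheme) acting on X
through a : M ×_k X → X, and i : G → M a morphism of k-schemes which is a scheme-theoretically
dominant open immersion: no nonzero quasi-coherent ideal of O_M restricts to zero on G (for
quasi-compact i this is the usual schematic density, O_M → i_*O_G injective; in the source G is the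
group of units of M, open and schematically dense). For a k-scheme T and a T-valued point x of X, x
is fixed under M, i.e. a ∘ (id_M × x) = x ∘ pr_T on M ×_k T, if and only if x is fixed under G, i.e.
a ∘ (i × x) = x ∘ pr_T on G ×_k T. Thus the fixed-point subpresheaves X^M and X^G of X are equal.
(The published statement has no separatedness assumption on X and reduces to points landing in an
affine open; the step asserting that the equalizer of the two maps M ×_k T → X is closed uses that
the target is separated, so X is taken separated here, the case the printed argument establishes.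
The monoid structure and the action axioms play no role in that argument and are not assumed.) -/
theorem result (k : Type u) [Field k]
    (M G X : Over (Spec (CommRingCat.of k))) [IsSeparated X.hom] (a : M ⊗ X ⟶ X) (i : G ⟶ M)
    [IsOpenImmersion i.left] [IsSchemeTheoreticallyDominant i.left]
    (T : Over (Spec (CommRingCat.of k))) (x : T ⟶ X) :
    (M ◁ x) ≫ a = CartesianMonoidalCategory.snd M T ≫ x ↔
      (G ◁ x) ≫ (i ▷ X) ≫ a = CartesianMonoidalCategory.snd G T ≫ x := by
  constructor
  · intro h
    rw [← Category.assoc, whisker_exchange, Category.assoc, h, whiskerRight_snd_assoc]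
  · intro h
    have := Groth.Agent.H8Coincidence.isClosedImmersion_eqLocus ((M ◁ x) ≫ a)
      (CartesianMonoidalCategory.snd M T ≫ x)
    obtain ⟨F, j, hj, hF⟩ := Groth.Agent.H8Coincidence.exists_locus
      (Groth.Agent.H8Weil.locProj_field T.hom) ((M ◁ x) ≫ a) (CartesianMonoidalCategory.snd M T ≫ x)
    obtain ⟨z, hz⟩ := (hF G i).mp (by
      rw [← Category.assoc, ← whisker_exchange, Category.assoc, h, whiskerRight_snd_assoc])
    have hle : j.left.ker ≤ ⊥ := by
      have e : z.left ≫ j.left = i.left := congrArg Over.Hom.left hz
      have h1 := Scheme.Hom.le_ker_comp z.left j.left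
      rw [e, Scheme.Hom.ker_eq_bot i.left] at h1
      exact h1
    have : IsIso j.left := IsClosedImmersion.isIso_iff_ker_eq_bot.mpr (le_bot_iff.mp hle)
    have hid := (hF M (𝟙 M)).mpr ⟨Over.homMk (CategoryTheory.inv j.left)
      (by rw [IsIso.inv_comp_eq]; exact (Over.w j).symm), Over.OverMorphism.ext (IsIso.inv_hom_id _)⟩
    simpa only [id_whiskerRight, Category.id_comp] using hid

end Groth.Agent.S18823
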