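import Groth.Statements.S18829
import Mathlib
import Groth.Agent.S18813
import Groth.Agent.Lib.H8Reductive

set_option autoImplicit false
universe u
open scoped TensorProduct
open HopfRep

namespace Groth.Agent.S18829

/-- Let k be a field and A a finitely generated commutative Hopf algebra over k, the coordinate ring of
an affine algebraic group T. Suppose T is a torus: for some algebraically closed field extension K
of k the base change K ⊗_k A is isomorphic as a K-bialgebra to the group algebra over K of a free
abelian group ℤ^n (T_K is a split torus of rank n). Then T is linearly reductive in the sense that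
every finite-dimensional A-comodule is semisimple. (The source's definition of a torus asks for such
an isomorphism over every algebraically closed extension; one suffices for the printed argument. The
source's notion of a linearly reductive algebraic group also includes smoothness of T over k, which
this row does not assert.) -/
theorem result (k K A : Type u) [Field k] [Field K]
    [Algebra k K] [IsAlgClosed K] [CommRing A] [HopfAlgebra k A] [Algebra.FiniteType k A] (n : ℕ)
    (e : (K ⊗[k] A) ≃ₐc[K] MonoidAlgebra K (Multiplicative (Fin n → ℤ))) :
    HopfRep.IsLinearlyReductive k A := by
  rw [Groth.Agent.S18813.result k K A, H8Reductive.lr_iff_integral]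
  obtain ⟨α, hα, h1⟩ := H8Reductive.exists_integral_of_diagonalizable
    (k := K) (A := MonoidAlgebra K (Multiplicative (Fin n → ℤ))) (by
      rw [HopfRep.IsDiagonalizable, eq_top_iff]
      rintro x -
      induction x using MonoidAlgebra.induction_linear with
      | zero => exact zero_mem _
      | add x y hx hy => exact add_mem hx hy
      | single m r =>
        rw [show MonoidAlgebra.single m r = r • MonoidAlgebra.single m (1 : K) by simp]
        exact Submodule.smul_mem _ _ (Submodule.subset_span ⟨by simp, by simp⟩))
  refine ⟨α ∘ₗ (e : K ⊗[k] A →ₗ[K] _), fun a => ?_, by simp [h1]⟩
  apply EquivLike.injective e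
  have hc := CoalgHomClass.map_comp_comul_apply e a
  have key : ∀ w, e (TensorProduct.lid K (K ⊗[k] A) ((α ∘ₗ (e : K ⊗[k] A →ₗ[K] _)).rTensor _ w)) =
      TensorProduct.lid K _ (α.rTensor _ (TensorProduct.map (e : K ⊗[k] A →ₗ[K] _) (e : K ⊗[k] A →ₗ[K] _) w)) := by
    intro w
    induction w using TensorProduct.induction_on with
    | zero => simp
    | tmul x y => simp
    | add x y hx hy => simp only [map_add, hx, hy]
  rw [key]
  refine (congrArg (fun z => TensorProduct.lid K _ (α.rTensor _ z)) hc).trans ((hα _).trans ?_)
  simp

end Groth.Agent.S18829
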