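import Groth.Statements.S18864
import Mathlib

set_option autoImplicit false
universe u v w
open HopfRep

namespace Groth.Agent.S18864

/-- Let k be a field and G = lim G_i a pro-algebraic group scheme over k, so that G = Spec A with A the
direct limit of the Hopf algebras A_i of the affine group schemes G_i of finite type; assume
moreover that the maps A_i → A are injective, so that A is the directed union of the A_i, here given
as injective bialgebra maps A_i → A with directed, jointly covering images. Then every homomorphism
from G to an affine group scheme H = Spec B of finite type over k factors through some projection G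
→ G_i: every bialgebra map f : B → A with B finitely generated as a k-algebra is the composite of
A_i → A with a bialgebra map B → A_i for some i. (The published statement allows arbitrary
transition maps in the system; this row assumes each A_i → A injective, the case the printed
argument treats. The source also states the pro-finite variant with H finite, which is the case of
finite-dimensional A_i and B; finite generation of the A_i is not used.) -/
theorem result (k : Type u) [Field k]
    (A : Type v) [CommRing A] [HopfAlgebra k A] {ι : Type v} (Aι : ι → Type v)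
    [∀ i, CommRing (Aι i)] [∀ i, HopfAlgebra k (Aι i)] (emb : ∀ i, Aι i →ₐc[k] A)
    (hinj : ∀ i, Function.Injective (emb i))
    (hdir : ∀ i j, ∃ l, Set.range (emb i) ⊆ Set.range (emb l) ∧ Set.range (emb j) ⊆ Set.range (emb l))
    (hcov : ∀ a : A, ∃ i, a ∈ Set.range (emb i))
    (B : Type w) [CommRing B] [HopfAlgebra k B] [Algebra.FiniteType k B] (f : B →ₐc[k] A) :
    ∃ (i : ι) (g : B →ₐc[k] Aι i), (emb i).comp g = f := by
  classical
  obtain ⟨s, hs⟩ := (Algebra.FiniteType.out : (⊤ : Subalgebra k B).FG)
  obtain ⟨i, hi⟩ : ∃ i, ∀ b ∈ s, f b ∈ Set.range (emb i) := by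
    clear hs
    induction s using Finset.induction_on with
    | empty => obtain ⟨i, -⟩ := hcov 0; exact ⟨i, by simp⟩
    | insert b t _ ih =>
      obtain ⟨i, hi⟩ := ih
      obtain ⟨j, hj⟩ := hcov (f b)
      obtain ⟨l, h1, h2⟩ := hdir i j
      exact ⟨l, fun c hc => by
        rcases Finset.mem_insert.mp hc with rfl | hc
        · exact h2 hj
        · exact h1 (hi c hc)⟩
  let e : Aι i →ₐ[k] A := (emb i : Aι i →ₐ[k] A)
  have hle : ∀ b : B, f b ∈ e.range := by
    intro b
    have : (⊤ : Subalgebra k B) ≤ e.range.comap (f : B →ₐ[k] A) := by
      rw [← hs, Algebra.adjoin_le_iff]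
      exact fun c hc => hi c hc
    exact this Algebra.mem_top
  let g : B →ₐ[k] Aι i :=
    (AlgEquiv.ofInjective e (hinj i)).symm.toAlgHom.comp ((f : B →ₐ[k] A).codRestrict e.range hle)
  have hg : ∀ b, emb i (g b) = f b := fun b =>
    congrArg Subtype.val ((AlgEquiv.ofInjective e (hinj i)).apply_symm_apply _)
  have heg : e.comp g = (f : B →ₐ[k] A) := AlgHom.ext hg
  refine ⟨i, BialgHom.ofAlgHom g ?_ ?_, DFunLike.ext _ _ hg⟩
  · refine AlgHom.ext fun b => ?_
    show Bialgebra.counitAlgHom k (Aι i) (g b) = Bialgebra.counitAlgHom k B b
    rw [← AlgHom.congr_fun (BialgHom.counitAlgHom_comp (emb i)) (g b), AlgHom.comp_apply,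
      show ((emb i : Aι i →ₐ[k] A) (g b)) = f b from hg b]
    exact AlgHom.congr_fun (BialgHom.counitAlgHom_comp f) b
  · refine AlgHom.ext fun b => ?_
    have hinj2 : Function.Injective (TensorProduct.map e.toLinearMap e.toLinearMap) := by
      rw [← LinearMap.rTensor_comp_lTensor]
      exact (Module.Flat.rTensor_preserves_injective_linearMap _ (hinj i)).comp
        (Module.Flat.lTensor_preserves_injective_linearMap _ (hinj i))
    apply hinj2
    show TensorProduct.map e.toLinearMap e.toLinearMap (TensorProduct.map g.toLinearMap g.toLinearMap (CoalgebraStruct.comul (R := k) b)) =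
      TensorProduct.map e.toLinearMap e.toLinearMap (CoalgebraStruct.comul (R := k) (g b))
    rw [TensorProduct.map_map, show e.toLinearMap ∘ₗ g.toLinearMap = (f : B →ₐ[k] A).toLinearMap from LinearMap.ext hg]
    refine (CoalgHomClass.map_comp_comul_apply f b).trans ?_
    rw [← hg b]
    exact (CoalgHomClass.map_comp_comul_apply (emb i) (g b)).symm

end Groth.Agent.S18864
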