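import Groth.Statements.S18887
import Mathlib

set_option autoImplicit false
set_option backward.isDefEq.respectTransparency.types false
set_option maxHeartbeats 1000000
set_option linter.all false
universe u v
open DblCov

namespace Groth.Agent.S18887
open Groth.Agent

/-- Let A be a commutative ring in which 2 is invertible and B a commutative A-algebra which is free of
rank 2 as an A-module and whose trace form tr : B → A has kernel free of rank 1 over A. Then σ(b) =
tr(b) − b defines an A-algebra endomorphism σ of B with σ ≠ id and σ ∘ σ = id, and the elements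
fixed by σ are exactly the image of A in B. -/
theorem result {A : Type u} {B : Type v} [CommRing A] [CommRing B]
    [Algebra A B] (h2 : IsUnit (2 : A)) [Module.Free A B] [Module.Finite A B]
    (hrk : Module.finrank A B = 2)
    [Module.Free A (LinearMap.ker (Algebra.trace A B))]
    (hker : Module.finrank A (LinearMap.ker (Algebra.trace A B)) = 1) :
    ∃ σ : B →ₐ[A] B, (∀ b : B, σ b = algebraMap A B (Algebra.trace A B b) - b) ∧
      σ ≠ AlgHom.id A B ∧ σ.comp σ = AlgHom.id A B ∧
      ∀ b : B, σ b = b ↔ b ∈ Set.range (algebraMap A B) := by
    classical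
    obtain ⟨two', h2'⟩ := h2.exists_left_inv
    have hA : Nontrivial A := by
      by_contra h
      rw [not_nontrivial_iff_subsingleton] at h
      rw [Module.finrank_subsingleton] at hrk
      simp at hrk
    have ht : ∀ a : A, Algebra.trace A B (algebraMap A B a) = 2 * a := fun a => by
      rw [Algebra.trace_algebraMap, hrk]; simp [two_mul, two_nsmul]
    have hsq : ∀ b : B, Algebra.trace A B b = 0 → ∃ c : A, b * b = algebraMap A B c := by
      intro b hb
      let φ : Module.End A B := Algebra.lmul A B b
      have h := φ.aeval_self_charpoly
      have hdeg : φ.charpoly.natDegree = 2 := by rw [φ.charpoly_natDegree, hrk]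
      have h1 : φ.charpoly.coeff 1 = 0 := by
        have h' : LinearMap.trace A B φ = -φ.charpoly.coeff 1 := by
          rw [LinearMap.trace_eq_matrix_trace A (Module.Free.chooseBasis A B), ← LinearMap.charpoly_toMatrix φ (Module.Free.chooseBasis A B)]
          haveI : Nonempty (Module.Free.ChooseBasisIndex A B) := by
            rw [← Fintype.card_pos_iff, ← Module.finrank_eq_card_chooseBasisIndex, hrk]; norm_num
          rw [Matrix.trace_eq_neg_charpoly_coeff, ← Module.finrank_eq_card_chooseBasisIndex, hrk]
        rw [show φ = Algebra.lmul A B b from rfl] at h'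
        have hb' : LinearMap.trace A B (Algebra.lmul A B b) = 0 := hb
        rw [hb'] at h'
        exact neg_eq_zero.1 h'.symm
      rw [Polynomial.aeval_eq_sum_range, hdeg, Finset.sum_range_succ, Finset.sum_range_succ, Finset.sum_range_one, h1] at h
      have hm : φ.charpoly.coeff 2 = 1 := by
        have := φ.charpoly_monic.coeff_natDegree
        rwa [hdeg] at this
      rw [hm] at h
      have := congr($h (1 : B))
      simp [φ, pow_two] at this
      exact ⟨-φ.charpoly.coeff 0, by rw [map_neg, eq_neg_iff_add_eq_zero, Algebra.algebraMap_eq_smul_one, add_comm]; exact this⟩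
    have hmul : ∀ b b' : B, Algebra.trace A B b = 0 → Algebra.trace A B b' = 0 → ∃ c : A, b * b' = algebraMap A B c := by
      intro b b' hb hb'
      obtain ⟨c, hc⟩ := hsq (b + b') (by rw [map_add, hb, hb', add_zero])
      obtain ⟨c1, hc1⟩ := hsq b hb
      obtain ⟨c2, hc2⟩ := hsq b' hb'
      refine ⟨two' * (c - c1 - c2), ?_⟩
      rw [map_mul, map_sub, map_sub, ← hc, ← hc1, ← hc2]
      have : algebraMap A B two' * 2 = 1 := by rw [← map_ofNat (algebraMap A B) 2, ← map_mul, h2', map_one]
      linear_combination (-(b * b')) * this
    let s : B → B := fun b => algebraMap A B (Algebra.trace A B b) - b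
    have hdec : ∀ b : B, ∃ (a : A) (e : B), Algebra.trace A B e = 0 ∧ b = algebraMap A B a + e := fun b =>
      ⟨two' * Algebra.trace A B b, b - algebraMap A B (two' * Algebra.trace A B b), by
        rw [map_sub, ht, ← mul_assoc, mul_comm 2 two', h2', one_mul, sub_self], by abel⟩
    have hs : ∀ (a : A) (e : B), Algebra.trace A B e = 0 → s (algebraMap A B a + e) = algebraMap A B a - e := by
      intro a e he
      simp only [s, map_add, ht, he, add_zero, two_mul]
      ring
    have hsa : ∀ a : A, s (algebraMap A B a) = algebraMap A B a := fun a => by
      simpa using hs a 0 (map_zero _)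
    let σ : B →ₐ[A] B :=
      { toFun := s
        map_one' := by simpa using hsa 1
        map_mul' := fun x y => by
          obtain ⟨a, e, he, rfl⟩ := hdec x
          obtain ⟨a', e', he', rfl⟩ := hdec y
          obtain ⟨c, hc⟩ := hmul e e' he he'
          have : (algebraMap A B a + e) * (algebraMap A B a' + e') = algebraMap A B (a * a' + c) + (a • e' + a' • e) := by
            rw [map_add, map_mul, ← hc, Algebra.smul_def, Algebra.smul_def]; ring
          rw [hs a e he, hs a' e' he', this, hs _ _ (by rw [map_add, map_smul, map_smul, he, he', smul_zero, smul_zero, add_zero]),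
            map_add, map_mul, ← hc, Algebra.smul_def, Algebra.smul_def]
          ring
        map_zero' := by simp [s]
        map_add' := fun x y => by simp only [s, map_add]; ring
        commutes' := hsa }
    refine ⟨σ, fun b => rfl, fun h => ?_, AlgHom.ext fun b => ?_, fun b => ⟨fun h => ?_, ?_⟩⟩
    · have hk : ∀ e : LinearMap.ker (Algebra.trace A B), e = 0 := fun e => by
        have h' : s e.1 = e.1 := congr($h e.1)
        simp only [s, show Algebra.trace A B e.1 = 0 from e.2, map_zero, zero_sub] at h'
        have : algebraMap A B two' * 2 = 1 := by rw [← map_ofNat (algebraMap A B) 2, ← map_mul, h2', map_one]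
        exact Subtype.ext (by rw [ZeroMemClass.coe_zero]; linear_combination (-(algebraMap A B two')) * h' - e.1 * this)
      haveI : Subsingleton (LinearMap.ker (Algebra.trace A B)) := ⟨fun x y => (hk x).trans (hk y).symm⟩
      rw [Module.finrank_zero_of_subsingleton] at hker
      simp at hker
    · obtain ⟨a, e, he, rfl⟩ := hdec b
      show s (s _) = _
      rw [hs a e he, sub_eq_add_neg, hs a (-e) (by rw [map_neg, he, neg_zero]), sub_neg_eq_add]
      rfl
    · refine ⟨two' * Algebra.trace A B b, ?_⟩
      have h' : algebraMap A B (Algebra.trace A B b) - b = b := h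
      have : algebraMap A B two' * 2 = 1 := by rw [← map_ofNat (algebraMap A B) 2, ← map_mul, h2', map_one]
      rw [map_mul]
      linear_combination (algebraMap A B two') * h' + b * this
    · rintro ⟨a, rfl⟩; exact hsa a

end Groth.Agent.S18887
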