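import Groth.Statements.S18890
import Mathlib

set_option autoImplicit false
universe u v w w'
open CAlg

namespace Groth.Agent.S18890
open scoped TensorProduct
open CategoryTheory
set_option linter.style.haveILetI false

/-- Let R be a commutative ring, G a finite group whose order is invertible in R, M an R-module with an
R-linear action ρ of G and N an arbitrary R-module. Then the natural map M^G ⊗_R N → M ⊗_R N induced
by the inclusion of the invariants is injective, and its image is the submodule of invariants of M
⊗_R N under the action ρ ⊗ 1 (G acting on the first factor). (The source lets G be a group of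
R-automorphisms of M; a possibly non-faithful linear action changes nothing.) -/
theorem result {R : Type u} [CommRing R]
    {G : Type v} [Group G] [Finite G] (hG : IsUnit ((Nat.card G : ℕ) : R))
    {M : Type w} {N : Type w'} [AddCommGroup M] [Module R M] [AddCommGroup N] [Module R N]
    (ρ : Representation R G M) :
    Function.Injective (LinearMap.rTensor N ρ.invariants.subtype) ∧
      LinearMap.range (LinearMap.rTensor N ρ.invariants.subtype) =
        (ρ.tprod (Representation.trivial R G N)).invariants := by
  classical
  haveI := Fintype.ofFinite G
  haveI : Invertible (Fintype.card G : R) := (by rwa [Nat.card_eq_fintype_card] at hG : IsUnit (Fintype.card G : R)).invertible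
  let e := ρ.averageMap
  let e' : M →ₗ[R] ρ.invariants := LinearMap.codRestrict _ e (fun m => ρ.averageMap_invariant m)
  have he : e' ∘ₗ ρ.invariants.subtype = LinearMap.id := LinearMap.ext fun x => Subtype.ext (ρ.averageMap_id x x.2)
  refine ⟨Function.LeftInverse.injective (g := e'.rTensor N) fun z => by rw [← LinearMap.rTensor_comp_apply, he, LinearMap.rTensor_id, LinearMap.id_apply], le_antisymm ?_ fun z hz => ?_⟩
  · rintro _ ⟨z, rfl⟩ g
    induction z using TensorProduct.induction_on with
    | zero => simp
    | tmul m n => simp [(m.2 : ∀ g, ρ g m = m) g]
    | add a b ha hb => rw [map_add, map_add, ha, hb]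
  · refine ⟨e'.rTensor N z, ?_⟩
    rw [← LinearMap.rTensor_comp_apply, show ρ.invariants.subtype ∘ₗ e' = ρ.averageMap from rfl]
    have : ∀ y : M ⊗[R] N, ρ.averageMap.rTensor N y = (ρ.tprod (Representation.trivial R G N)).averageMap y := by
      intro y
      induction y using TensorProduct.induction_on with
      | zero => simp
      | tmul m n => simp [Representation.averageMap, GroupAlgebra.average, map_sum, LinearMap.sum_apply, TensorProduct.sum_tmul, TensorProduct.smul_tmul']
      | add a b ha hb => rw [map_add, map_add, ha, hb]
    rw [this]
    exact (ρ.tprod _).averageMap_id z hz

end Groth.Agent.S18890
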