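import Groth.Statements.S18899
import Mathlib
import Groth.Agent.Lib.H2FiniteAlgClosed

set_option autoImplicit false
universe u v w
open CAlg

namespace Groth.Agent.S18899
open scoped TensorProduct
open Polynomial
set_option linter.style.haveILetI false

/-- Let A be a commutative ring on which a finite group G acts by ring automorphisms, with ring of
invariants A^G, and let K be a field. If two ring homomorphisms f₁, f₂ : A → K have the same
restriction to A^G, then f₂ = f₁ ∘ γ for some γ ∈ G. -/
theorem result {A : Type u} [CommRing A] {G : Type v} [Group G] [Finite G]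
    [MulSemiringAction G A] {K : Type w} [Field K] (f₁ f₂ : A →+* K)
    (h : ∀ a : A, (∀ g : G, g • a = a) → f₁ a = f₂ a) :
    ∃ γ : G, ∀ a : A, f₂ a = f₁ (γ • a) := by
  classical
  haveI := Fintype.ofFinite G
  by_contra hcon
  push Not at hcon
  choose a ha using hcon
  let e := Fintype.equivFin G
  let P : A[X] := ∑ γ : G, Polynomial.monomial (e γ : ℕ) (a γ)
  let N : A[X][X] := ∏ γ : G, (X - C (γ • P))
  have hinv : ∀ i j, ∀ g : G, g • ((N.coeff i).coeff j) = (N.coeff i).coeff j := by
    intro i j g
    have hN : g • N = N := by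
      show MulSemiringAction.toRingHom G A[X][X] g N = N
      rw [map_prod]
      refine Fintype.prod_equiv (Equiv.mulLeft g) _ _ fun γ => ?_
      show g • (X - C (γ • P)) = X - C ((g * γ) • P)
      rw [smul_sub, Polynomial.smul_X, Polynomial.smul_C, mul_smul]
    conv_rhs => rw [← hN]
    rw [Polynomial.coeff_smul, Polynomial.coeff_smul]
  have hmap : N.map (Polynomial.mapRingHom f₁) = N.map (Polynomial.mapRingHom f₂) := by
    ext i j
    simp only [Polynomial.coeff_map, Polynomial.coe_mapRingHom]
    exact h _ (hinv i j)
  have heval : (N.map (Polynomial.mapRingHom f₂)).eval (P.map f₂) = 0 := by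
    simp only [N, Polynomial.map_prod, Polynomial.eval_prod]
    refine Finset.prod_eq_zero (Finset.mem_univ 1) ?_
    simp
  rw [← hmap] at heval
  simp only [N, Polynomial.map_prod, Polynomial.eval_prod, Finset.prod_eq_zero_iff] at heval
  obtain ⟨γ, -, hγ⟩ := heval
  simp only [Polynomial.map_sub, Polynomial.map_X, Polynomial.map_C, Polynomial.eval_sub, Polynomial.eval_X, Polynomial.eval_C, sub_eq_zero, Polynomial.coe_mapRingHom] at hγ
  apply ha γ
  have hc : ∀ γ : G, P.coeff (e γ : ℕ) = a γ := fun γ => by
    simp [P, Polynomial.finsetSum_coeff, Polynomial.coeff_monomial, Fin.val_inj]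
  have := congrArg (fun Q => Polynomial.coeff Q (e γ : ℕ)) hγ
  simpa [Polynomial.coeff_map, Polynomial.coeff_smul, hc] using this

end Groth.Agent.S18899
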