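import Groth.Statements.S1890
import Mathlib

set_option autoImplicit false
set_option backward.isDefEq.respectTransparency.types false
universe u
open CategoryTheory CategoryTheory.Limits AlgebraicGeometry
open Grpd

namespace Groth.Agent.S1890

/-- Take a quasi-compact immersion j : V → Spec A and an element f ∈ A such that j⁻¹(D(f)) is affine and
j(V) ∩ V(f) is closed in Spec A. Then V is affine. -/
theorem result (A : Type u) [CommRing A] (V : Scheme.{u}) (j : V ⟶ Spec (CommRingCat.of A)) [IsImmersion j] [QuasiCompact j] (f : A) (haff : IsAffineOpen (j ⁻¹ᵁ PrimeSpectrum.basicOpen f)) (hcl : IsClosed (Set.range ⇑j ∩ PrimeSpectrum.zeroLocus {f})) : IsAffine V := by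
  have hR := j.isLocallyClosed_range
  have hW : IsClosed (closure (Set.range j) \ Set.range j) := by
    obtain ⟨O, Z, hO, hZ, hE⟩ := hR
    have : closure (Set.range j) \ Set.range j = closure (Set.range j) \ O := by
      ext x
      constructor
      · rintro ⟨hx, hn⟩
        refine ⟨hx, fun hO' => hn ?_⟩
        rw [hE]
        exact ⟨hO', closure_minimal (hE ▸ Set.inter_subset_right) hZ hx⟩
      · rintro ⟨hx, hn⟩
        exact ⟨hx, fun h => hn (hE ▸ h).1⟩
    rw [this]
    exact isClosed_closure.sdiff hO
  obtain ⟨IW, hIW⟩ := (PrimeSpectrum.isClosed_iff_zeroLocus_ideal _).1 hW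
  obtain ⟨IC, hIC⟩ := (PrimeSpectrum.isClosed_iff_zeroLocus_ideal _).1 hcl
  have htop : IW ⊔ IC = ⊤ := by
    rw [← PrimeSpectrum.zeroLocus_empty_iff_eq_top, PrimeSpectrum.zeroLocus_sup, ← hIW, ← hIC]
    exact Set.eq_empty_iff_forall_notMem.2 fun x hx => hx.1.2 hx.2.1
  obtain ⟨g, hg, h, hh, hgh⟩ := Submodule.mem_sup.1 (show (1 : A) ∈ IW ⊔ IC by rw [htop]; trivial)
  let φ := ((Scheme.ΓSpecIso (CommRingCat.of A)).inv ≫ j.appTop).hom
  have hb : ∀ a : A, V.basicOpen (φ a) = j ⁻¹ᵁ PrimeSpectrum.basicOpen a := fun a =>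
    ((congrArg (j ⁻¹ᵁ ·) (basicOpen_eq_of_affine a).symm).trans (Scheme.preimage_basicOpen j _)).symm
  refine isAffine_of_isAffineOpen_basicOpen ({φ g, φ h} : Set Γ(V, ⊤)) ?_ ?_
  · rw [Ideal.eq_top_iff_one, ← map_one φ, ← hgh, map_add]
    exact Ideal.add_mem _ (Ideal.subset_span (Or.inl rfl)) (Ideal.subset_span (Or.inr rfl))
  · intro a ha
    rcases ha with rfl | rfl
    · rw [hb]
      let D : (Spec (CommRingCat.of A)).Opens := PrimeSpectrum.basicOpen g
      haveI : IsAffine (D : Scheme.{u}) := IsAffineOpen.Spec_basicOpen (R := CommRingCat.of A) g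
      haveI : IsClosedImmersion (j ∣_ D) := by
        refine IsClosedImmersion.of_isPreimmersion _ ?_
        rw [show Set.range (j ∣_ D) = Subtype.val ⁻¹' closure (Set.range j) from ?_]
        · exact isClosed_closure.preimage continuous_subtype_val
        · ext ⟨x, hx⟩
          constructor
          · rintro ⟨y, hy⟩
            exact subset_closure ⟨y.1, (morphismRestrict_base_coe j _ y).symm.trans (congrArg Subtype.val hy)⟩
          · intro hc
            by_contra hn
            refine hx ?_
            have : x ∈ PrimeSpectrum.zeroLocus (IW : Set A) := by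
              rw [← hIW]
              refine ⟨hc, ?_⟩
              rintro ⟨y, rfl⟩
              exact hn ⟨⟨y, hx⟩, Subtype.ext (morphismRestrict_base_coe j _ _)⟩
            exact this hg
      exact isAffine_of_isAffineHom (j ∣_ D)
    · rw [show V.basicOpen (φ h) = V.basicOpen ((V.presheaf.map (homOfLE (le_top : j ⁻¹ᵁ PrimeSpectrum.basicOpen f ≤ ⊤)).op).hom (φ h)) from ?_]
      · exact haff.basicOpen _
      · rw [Scheme.basicOpen_res]
        refine le_antisymm (le_inf ?_ le_rfl) inf_le_right
        rw [hb]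
        intro x hx
        by_contra hn
        have : j x ∈ PrimeSpectrum.zeroLocus (IC : Set A) := by
          rw [← hIC]
          exact ⟨⟨x, rfl⟩, Set.singleton_subset_iff.2 (not_not.1 hn)⟩
        exact hx (this hh)

end Groth.Agent.S1890
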