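import Groth.Statements.S18928
import Mathlib

set_option autoImplicit false
universe u
open DPow

namespace Groth.Agent.S18928

/-- Let B be a commutative ring, I an ideal of B with a divided power structure, p a prime, r a natural
number, b an element of B and δ an element of I. Then (b + δ)^(p^r) − b^(p^r) lies in the ideal p^r
I. (The source states this for a divided power thickening over the Witt vectors of length n and 0 ≤
r ≤ n; neither restriction is used.) -/
theorem result {B : Type u} [CommRing B] {I : Ideal B}
    (hI : DividedPowers I) (p : ℕ) [Fact p.Prime] (r : ℕ) (b δ : B) (hδ : δ ∈ I) :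
    (b + δ) ^ (p ^ r) - b ^ (p ^ r) ∈ Ideal.span {((p : B) ^ r)} * I := by
  have hp := (Fact.out : p.Prime)
  rw [add_comm b δ, add_pow, Finset.sum_range_succ']
  simp only [pow_zero, Nat.sub_zero, one_mul, Nat.choose_zero_right, Nat.cast_one, mul_one, add_sub_cancel_right]
  refine Ideal.sum_mem _ fun i hi => ?_
  clear hi
  obtain ⟨c, hc⟩ : p ^ r ∣ (p ^ r).descFactorial (i + 1) := by
    rw [Nat.descFactorial_succ]
    induction i with
    | zero => simp
    | succ i ih => rw [Nat.descFactorial_succ]; exact Dvd.dvd.mul_left ih _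
  have hfac : ((i + 1).factorial : B) * hI.dpow (i + 1) δ = δ ^ (i + 1) := hI.factorial_mul_dpow_eq_pow hδ
  have : δ ^ (i + 1) * b ^ (p ^ r - (i + 1)) * ((p ^ r).choose (i + 1) : B) =
      (p : B) ^ r * ((c : B) * b ^ (p ^ r - (i + 1)) * hI.dpow (i + 1) δ) := by
    rw [Nat.descFactorial_eq_factorial_mul_choose] at hc
    have hc' : ((i + 1).factorial : B) * ((p ^ r).choose (i + 1) : B) = (p : B) ^ r * c := by exact_mod_cast congrArg (Nat.cast (R := B)) hc
    rw [← hfac]
    linear_combination (b ^ (p ^ r - (i + 1)) * hI.dpow (i + 1) δ) * hc'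
  rw [this]
  exact Ideal.mul_mem_mul (Ideal.mem_span_singleton_self _) (Ideal.mul_mem_left _ _ (hI.dpow_mem (Nat.succ_ne_zero i) hδ))

end Groth.Agent.S18928
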