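import Groth.Statements.S18936
import Mathlib
import Groth.Agent.Lib.H2Decay

set_option autoImplicit false
universe u
open CAlg

namespace Groth.Agent.S18936
open scoped TensorProduct
set_option linter.style.haveILetI false

/-- Let A be a Noetherian commutative ring, q a prime ideal of A and f an element of A whose image in
the localization A_q is a non-zero-divisor. Then there is an element b of A not in q such that the
image of f in A[1/b] is a non-zero-divisor. -/
theorem result {A : Type u} [CommRing A] [IsNoetherianRing A]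
    (q : Ideal A) [q.IsPrime] (f : A)
    (hf : algebraMap A (Localization.AtPrime q) f ∈ nonZeroDivisors (Localization.AtPrime q)) :
    ∃ b : A, b ∉ q ∧ algebraMap A (Localization.Away b) f ∈ nonZeroDivisors (Localization.Away b) := by
  classical
  let K : Ideal A := LinearMap.ker (LinearMap.mulLeft A f)
  obtain ⟨g, hg⟩ := IsNoetherian.noetherian K
  have key : ∀ a ∈ g, ∃ b : A, b ∉ q ∧ b * a = 0 := by
    intro a ha
    have hfa : f * a = 0 := (hg ▸ Submodule.subset_span ha : a ∈ K)
    have h0 : algebraMap A (Localization.AtPrime q) a = 0 :=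
      mem_nonZeroDivisors_iff.1 hf |>.1 _ (by rw [← map_mul, hfa, map_zero])
    obtain ⟨⟨b, hb⟩, h⟩ := (IsLocalization.map_eq_zero_iff q.primeCompl _ a).1 h0
    exact ⟨b, hb, h⟩
  choose! b hb hb0 using key
  refine ⟨∏ a ∈ g, b a, fun h => ?_, ?_⟩
  · obtain ⟨a, ha, h'⟩ := Ideal.IsPrime.prod_mem_iff.1 h
    exact hb a ha h'
  have hK : ∀ a ∈ K, (∏ a ∈ g, b a) * a = 0 := by
    intro a ha
    rw [← hg] at ha
    induction ha using Submodule.span_induction with
    | mem c hc => rw [← Finset.prod_erase_mul g b hc, mul_assoc, hb0 c hc, mul_zero]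
    | zero => exact mul_zero _
    | add c d _ _ hc hd => rw [mul_add, hc, hd, add_zero]
    | smul r c _ hc => rw [smul_eq_mul, mul_left_comm, hc, mul_zero]
  rw [mem_nonZeroDivisors_iff_right]
  intro z hz
  obtain ⟨⟨a, s⟩, hs⟩ := IsLocalization.surj (Submonoid.powers (∏ a ∈ g, b a)) z
  have h1 : algebraMap A (Localization.Away (∏ a ∈ g, b a)) (f * a) = 0 := by
    rw [map_mul, ← hs, ← mul_assoc, mul_comm _ z, hz, zero_mul]
  obtain ⟨⟨_, k, rfl⟩, hk⟩ := (IsLocalization.map_eq_zero_iff (Submonoid.powers (∏ a ∈ g, b a)) _ _).1 h1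
  have h2 := hK ((∏ a ∈ g, b a) ^ k * a) (by
    show f * ((∏ a ∈ g, b a) ^ k * a) = 0
    rw [mul_left_comm]; exact hk)
  rw [← IsUnit.mul_left_eq_zero (IsLocalization.map_units _ s), hs]
  refine (IsLocalization.map_eq_zero_iff (Submonoid.powers (∏ a ∈ g, b a)) _ _).2 ⟨⟨_, k + 1, rfl⟩, ?_⟩
  show (∏ a ∈ g, b a) ^ (k + 1) * a = 0
  rw [pow_succ', mul_assoc]
  exact h2

end Groth.Agent.S18936
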