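import Groth.Statements.S18943
import Mathlib

set_option autoImplicit false
open scoped ContDiff
open CInfGerm

namespace Groth.Agent.S18943

/-- Let f be an infinitely differentiable real-valued function on the real line with f(0) = 0. Then f(x)
= x·g(x) for an infinitely differentiable function g. (The source phrases this for germs at 0: the
maximal ideal of the local ring of germs of smooth functions at the origin is generated by the
coordinate t; the global form stated here is what its argument, smooth extension of f(x)/x across 0,
gives.) -/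
theorem result (f : ℝ → ℝ) (hf : ContDiff ℝ ∞ f) (h0 : f 0 = 0) :
    ∃ g : ℝ → ℝ, ContDiff ℝ ∞ g ∧ ∀ x : ℝ, f x = x * g x := by
  have hd : ∀ k : ℕ, ContDiff ℝ ∞ (deriv^[k] f) := fun k => by
    induction k with
    | zero => exact hf
    | succ k ih => rw [Function.iterate_succ_apply']; exact (contDiff_infty_iff_deriv.1 ih).2
  let G : ℕ → ℝ → ℝ := fun k x => ∫ t in (0:ℝ)..1, t ^ k * (deriv^[k + 1] f) (t * x)
  have hcont : ∀ (k : ℕ) (x : ℝ), Continuous fun t : ℝ => t ^ k * (deriv^[k + 1] f) (t * x) := fun k x => by
    have := (hd (k + 1)).continuous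
    fun_prop
  have hG : ∀ (k : ℕ) (x : ℝ), HasDerivAt (G k) (G (k + 1) x) x := fun k x => by
    have hc : Continuous (deriv^[k + 1 + 1] f) := (hd (k + 1 + 1)).continuous
    obtain ⟨M, hM⟩ := (isCompact_Icc (a := -(|x| + 1)) (b := |x| + 1)).exists_bound_of_continuousOn hc.continuousOn
    refine (intervalIntegral.hasDerivAt_integral_of_dominated_loc_of_deriv_le (μ := MeasureTheory.volume) (bound := fun _ => M)
      (F' := fun y t => t ^ (k + 1) * (deriv^[k + 1 + 1] f) (t * y)) (Metric.ball_mem_nhds x one_pos)
      (Filter.Eventually.of_forall fun y => (hcont k y).aestronglyMeasurable) ((hcont k x).intervalIntegrable _ _)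
      (hcont (k + 1) x).aestronglyMeasurable ?_ intervalIntegrable_const ?_).2
    · refine Filter.Eventually.of_forall fun t ht y hy => ?_
      rw [Set.uIoc_of_le zero_le_one] at ht
      have hy' : |y| ≤ |x| + 1 := by
        have h1 := abs_sub_abs_le_abs_sub y x
        have h2 : |y - x| < 1 := by simpa [Real.dist_eq] using hy
        linarith
      have hty : |t * y| ≤ |x| + 1 := by
        rw [abs_mul, abs_of_pos ht.1]
        exact (mul_le_of_le_one_left (abs_nonneg y) ht.2).trans hy'
      rw [norm_mul, norm_pow, Real.norm_eq_abs, abs_of_pos ht.1]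
      exact (mul_le_of_le_one_left (norm_nonneg _) (pow_le_one₀ ht.1.le ht.2)).trans (hM _ (abs_le.1 hty))
    · refine Filter.Eventually.of_forall fun t _ y _ => ?_
      have h1 : HasDerivAt (deriv^[k + 1] f) ((deriv^[k + 1 + 1] f) (t * y)) (t * y) := by
        rw [Function.iterate_succ_apply' deriv (k + 1)]
        exact ((hd (k + 1)).differentiable (by simp) (t * y)).hasDerivAt
      have h2 := (h1.comp y ((hasDerivAt_id y).const_mul t)).const_mul (t ^ k)
      refine h2.congr_deriv ?_
      ring
  have hsm : ∀ (n : ℕ) (k : ℕ), ContDiff ℝ n (G k) := by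
    intro n
    induction n with
    | zero => exact fun k => contDiff_zero.2 (continuous_iff_continuousAt.2 fun x => (hG k x).continuousAt)
    | succ n ih =>
      intro k
      rw [Nat.cast_succ, contDiff_succ_iff_deriv]
      refine ⟨fun x => (hG k x).differentiableAt, fun h => absurd h (by simp), ?_⟩
      rw [show deriv (G k) = G (k + 1) from funext fun x => (hG k x).deriv]
      exact ih (k + 1)
  refine ⟨G 0, contDiff_infty.2 fun n => hsm n 0, fun x => ?_⟩
  have h2 : ∫ t in (0:ℝ)..1, deriv f (t * x) * x = f (1 * x) - f (0 * x) :=
    intervalIntegral.integral_eq_sub_of_hasDerivAt (f := fun t => f (t * x)) (fun t _ => by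
      simpa [Function.comp_def] using ((hf.differentiable (by simp)) (t * x)).hasDerivAt.comp t ((hasDerivAt_id t).mul_const x))
      (((contDiff_infty_iff_deriv.1 hf).2.continuous.comp (continuous_id.mul continuous_const)).mul continuous_const |>.intervalIntegrable _ _)
  rw [intervalIntegral.integral_mul_const, one_mul, zero_mul, h0, sub_zero] at h2
  rw [← h2, mul_comm]
  simp [G]

end Groth.Agent.S18943
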