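import Groth.Statements.S18946
import Mathlib

set_option autoImplicit false
universe u
open scoped BigOperators
open InvQ

namespace Groth.Agent.S18946

/-- Let k be an algebraically closed field of characteristic zero and n a natural number, and let the
torus of (n+1)-tuples of units of k with product 1 act on the polynomial ring k[t_0, ..., t_n] by
rescaling each variable t_i by the i-th unit. A polynomial is fixed by every such rescaling if and
only if it lies in the k-subalgebra generated by the product t_0 t_1 ... t_n. (This is the
computation of the ring of functions on affine (n+1)-space invariant under the maximal diagonal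
torus of the special linear group, identified with the polynomial ring in the single coordinate t =
t_0 ... t_n of the line it maps to by the product map; invariance is tested on k-valued points of
the torus, which over an infinite field is the same as invariance under the group scheme.) -/
theorem result
    (k : Type u) [Field k] [IsAlgClosed k] [CharZero k] (n : ℕ)
    (f : MvPolynomial (Fin (n + 1)) k) :
    (∀ σ : Fin (n + 1) → kˣ, ∏ i, (σ i : k) = 1 →
        MvPolynomial.aeval (fun i => MvPolynomial.C (σ i : k) * MvPolynomial.X i) f = f) ↔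
      f ∈ Algebra.adjoin k ({∏ i : Fin (n + 1), MvPolynomial.X i} : Set (MvPolynomial (Fin (n + 1)) k)) := by
  classical
  have hmon : ∀ (σ : Fin (n + 1) → kˣ) (d : Fin (n + 1) →₀ ℕ) (c : k),
      MvPolynomial.aeval (fun i => MvPolynomial.C (σ i : k) * MvPolynomial.X i) (MvPolynomial.monomial d c) =
        MvPolynomial.monomial d ((∏ i, (σ i : k) ^ d i) * c) := by
    intro σ d c
    rw [MvPolynomial.aeval_monomial, MvPolynomial.algebraMap_eq, Finsupp.prod_fintype _ _ (fun i => pow_zero _)]
    simp only [mul_pow, Finset.prod_mul_distrib, ← map_pow, ← map_prod]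
    rw [← mul_assoc, ← MvPolynomial.C_mul, mul_comm c]
    rw [show (∏ i, (MvPolynomial.X i : MvPolynomial (Fin (n + 1)) k) ^ d i) = MvPolynomial.monomial d 1 by
      rw [← MvPolynomial.prod_X_pow_eq_monomial]
      exact (Finset.prod_subset (Finset.subset_univ _) fun i _ hi => by
        rw [Finsupp.notMem_support_iff.mp hi, pow_zero]).symm, MvPolynomial.C_mul_monomial, mul_one]
  constructor
  · intro h
    rw [f.as_sum]
    refine sum_mem fun d hd => ?_
    have hne : f.coeff d ≠ 0 := MvPolynomial.mem_support_iff.mp hd
    have hσ : ∀ σ : Fin (n + 1) → kˣ, ∏ i, (σ i : k) = 1 → (∏ i, (σ i : k) ^ d i) = 1 := by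
      intro σ hs
      have h2 := congrArg (MvPolynomial.coeff d) (h σ hs)
      conv_lhs at h2 => rw [f.as_sum]
      simp only [map_sum, hmon, MvPolynomial.coeff_sum, MvPolynomial.coeff_monomial] at h2
      rw [Finset.sum_ite_eq', if_pos hd] at h2
      exact mul_right_cancel₀ hne (h2.trans (one_mul _).symm)
    have heq : ∀ i, d i = d 0 := by
      intro i
      by_cases hi : i = 0
      · rw [hi]
      let t : kˣ := Units.mk0 2 two_ne_zero
      let σ : Fin (n + 1) → kˣ := Function.update (Function.update (fun _ => 1) i t) 0 t⁻¹
      have hp : ∀ g : Fin (n + 1) → k, (∀ j, j ≠ i → j ≠ 0 → g j = 1) → ∏ j, g j = g i * g 0 := by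
        intro g hg
        rw [← Finset.prod_pair hi]
        exact (Finset.prod_subset (Finset.subset_univ _) fun j _ hj => by
          simp only [Finset.mem_insert, Finset.mem_singleton, not_or] at hj
          exact hg j hj.1 hj.2).symm
      have hσi : σ i = t := by simp [σ, hi]
      have hσ0 : σ 0 = t⁻¹ := by simp [σ]
      have hσo : ∀ j, j ≠ i → j ≠ 0 → σ j = 1 := fun j h1 h2 => by simp [σ, h1, h2]
      have hs : ∏ j, (σ j : k) = 1 := by
        rw [hp _ fun j h1 h2 => by rw [hσo j h1 h2, Units.val_one], hσi, hσ0, ← Units.val_mul, mul_inv_cancel, Units.val_one]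
      have h3 := hσ σ hs
      rw [hp _ fun j h1 h2 => by rw [hσo j h1 h2, Units.val_one, one_pow], hσi, hσ0] at h3
      simp only [t, Units.val_inv_eq_inv_val, Units.val_mk0, inv_pow] at h3
      rw [mul_inv_eq_one₀ (pow_ne_zero _ two_ne_zero)] at h3
      have h4 : ((2 ^ d i : ℕ) : k) = ((2 ^ d 0 : ℕ) : k) := by push_cast; exact h3
      exact Nat.pow_right_injective le_rfl (Nat.cast_injective h4)
    have e : MvPolynomial.monomial d (f.coeff d) = MvPolynomial.C (f.coeff d) * (∏ i, MvPolynomial.X i) ^ d 0 := by
      rw [MvPolynomial.monomial_eq, Finsupp.prod_fintype _ _ (fun i => pow_zero _), ← Finset.prod_pow]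
      simp only [heq]
    rw [e]
    refine Subalgebra.mul_mem _ ?_ (Subalgebra.pow_mem _ (Algebra.subset_adjoin (Set.mem_singleton _)) _)
    rw [← MvPolynomial.algebraMap_eq]
    exact Subalgebra.algebraMap_mem _ _
  · intro h σ hs
    refine Algebra.adjoin_induction (p := fun x _ => MvPolynomial.aeval (fun i => MvPolynomial.C (σ i : k) * MvPolynomial.X i) x = x)
      ?_ (fun r => by simp [MvPolynomial.algebraMap_eq]) (fun x y _ _ hx hy => by rw [map_add, hx, hy])
      (fun x y _ _ hx hy => by rw [map_mul, hx, hy]) h
    rintro x rfl
    rw [map_prod]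
    simp only [MvPolynomial.aeval_X, Finset.prod_mul_distrib, ← map_prod, hs, map_one, one_mul]

end Groth.Agent.S18946
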