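import Groth.Statements.S18948
import Mathlib.Tactic.Group

set_option autoImplicit false
universe u v
open CExt

namespace Groth.Agent.S18948

/-- Let f : E → G be a surjective homomorphism of groups whose kernel is central in E, and let x ∈ E.
Then f maps the conjugacy class of x bijectively onto the conjugacy class of f(x) if and only if
every element of G commuting with f(x) is the image of some element of E commuting with x. (In the
source E → G is the central extension, with kernel the roots of unity, attached to a Brauer class of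
the classifying stack of a finite tame étale group scheme, and a conjugacy class of E mapping
bijectively onto a given class of G is a marking; the equivalence is stated here for an arbitrary
central extension of abstract groups.) -/
theorem result {E : Type u} {G : Type v} [Group E] [Group G]
    (f : E →* G) (hf : Function.Surjective f) (hker : f.ker ≤ Subgroup.center E) (x : E) :
    Set.BijOn f (MulAction.orbit (ConjAct E) x) (MulAction.orbit (ConjAct G) (f x)) ↔
      ∀ g : G, g * f x = f x * g → ∃ e : E, f e = g ∧ e * x = x * e := by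
  constructor
  · intro h g hg
    obtain ⟨e, rfl⟩ := hf g
    refine ⟨e, rfl, ?_⟩
    have h1 : ConjAct.toConjAct e • x = x := by
      refine h.injOn (MulAction.mem_orbit _ _) (MulAction.mem_orbit_self _) ?_
      rw [ConjAct.smul_def, ConjAct.ofConjAct_toConjAct, map_mul, map_mul, map_inv, hg,
        mul_inv_cancel_right]
    rw [ConjAct.smul_def, ConjAct.ofConjAct_toConjAct, mul_inv_eq_iff_eq_mul] at h1
    exact h1
  · intro h
    refine ⟨?_, ?_, ?_⟩
    · rintro _ ⟨c, rfl⟩
      refine ⟨ConjAct.toConjAct (f (ConjAct.ofConjAct c)), ?_⟩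
      simp [ConjAct.smul_def]
    · rintro _ ⟨c, rfl⟩ _ ⟨d, rfl⟩ hcd
      simp only [ConjAct.smul_def, map_mul, map_inv] at hcd
      set e₁ := ConjAct.ofConjAct c
      set e₂ := ConjAct.ofConjAct d
      have hg : f (e₂⁻¹ * e₁) * f x = f x * f (e₂⁻¹ * e₁) := by
        rw [map_mul, map_inv]
        have := congrArg (fun z => (f e₂)⁻¹ * z * f e₁) hcd
        simpa [mul_assoc] using this
      obtain ⟨e, he, hex⟩ := h _ hg
      have hz : e⁻¹ * (e₂⁻¹ * e₁) ∈ f.ker := by simp [MonoidHom.mem_ker, ← he]
      have hzx := Subgroup.mem_center_iff.1 (hker hz) x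
      simp only [ConjAct.smul_def]
      have h2 : e₂⁻¹ * e₁ * x = x * (e₂⁻¹ * e₁) :=
        calc e₂⁻¹ * e₁ * x = e * (e⁻¹ * (e₂⁻¹ * e₁) * x) := by group
          _ = e * (x * (e⁻¹ * (e₂⁻¹ * e₁))) := by rw [hzx]
          _ = e * x * (e⁻¹ * (e₂⁻¹ * e₁)) := by group
          _ = x * e * (e⁻¹ * (e₂⁻¹ * e₁)) := by rw [hex]
          _ = x * (e₂⁻¹ * e₁) := by group
      change e₁ * x * e₁⁻¹ = e₂ * x * e₂⁻¹
      calc e₁ * x * e₁⁻¹ = e₂ * (e₂⁻¹ * e₁ * x) * e₁⁻¹ := by group
        _ = e₂ * (x * (e₂⁻¹ * e₁)) * e₁⁻¹ := by rw [h2]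
        _ = e₂ * x * e₂⁻¹ := by group
    · rintro _ ⟨c, rfl⟩
      obtain ⟨e, he⟩ := hf (ConjAct.ofConjAct c)
      refine ⟨ConjAct.toConjAct e • x, MulAction.mem_orbit _ _, ?_⟩
      simp [ConjAct.smul_def, he]

end Groth.Agent.S18948
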