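import Groth.Statements.S18949
import Mathlib.Tactic.Group

set_option autoImplicit false
universe u v
open CExt

namespace Groth.Agent.S18949

/-- Automorphisms over the base: let f : E → G be a surjective homomorphism of groups with central
kernel A. For every homomorphism χ : G → A the map e ↦ χ(f(e)) · e is an endomorphism of E over G
which is the identity on A; and every endomorphism α of E with f ∘ α = f and α equal to the identity
on A is of this form for exactly one χ. (In the source this identifies the automorphisms of a
central extension fixing its kernel with Hom(G, A), for extensions of profinite étale group schemes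
over a field; stated here for abstract groups.) -/
theorem result {E : Type u} {G : Type v} [Group E] [Group G]
    (f : E →* G) (hf : Function.Surjective f) (hker : f.ker ≤ Subgroup.center E) :
    (∀ χ : G →* f.ker, ∃ α : E →* E, f.comp α = f ∧ (∀ a ∈ f.ker, α a = a) ∧
        ∀ e : E, α e = (χ (f e) : E) * e) ∧
      ∀ α : E →* E, f.comp α = f → (∀ a ∈ f.ker, α a = a) →
        ∃! χ : G →* f.ker, ∀ e : E, α e = (χ (f e) : E) * e := by
  have hz : ∀ (a : f.ker) (e : E), (a : E) * e = e * a := fun a e =>
    (Subgroup.mem_center_iff.1 (hker a.2) e).symm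
  constructor
  · intro χ
    refine ⟨MonoidHom.mk' (fun e => (χ (f e) : E) * e) ?_, ?_, ?_, fun e => rfl⟩
    · intro e e'
      simp only [map_mul, Subgroup.coe_mul]
      rw [mul_assoc (χ (f e) : E) e, ← mul_assoc e (χ (f e') : E), ← hz (χ (f e')) e]
      simp only [mul_assoc]
    · ext e
      simp [show f ((χ (f e) : E)) = 1 from (χ (f e)).2]
    · intro a ha
      have : f a = 1 := ha
      simp [this]
  · intro α hα hαA
    have hcomm : ∀ e, f (α e) = f e := fun e => DFunLike.congr_fun hα e
    let d : E →* f.ker := MonoidHom.mk' (fun e => ⟨α e * e⁻¹, by simp [MonoidHom.mem_ker, hcomm]⟩) (by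
      intro e e'
      apply Subtype.ext
      have h := hz ⟨α e' * e'⁻¹, by simp [MonoidHom.mem_ker, hcomm]⟩ e⁻¹
      simp only [Subgroup.coe_mul, map_mul, mul_inv_rev]
      calc α e * α e' * (e'⁻¹ * e⁻¹) = α e * (α e' * e'⁻¹ * e⁻¹) := by group
        _ = α e * (e⁻¹ * (α e' * e'⁻¹)) := by rw [h]
        _ = α e * e⁻¹ * (α e' * e'⁻¹) := by group)
    have hd : f.ker ≤ d.ker := fun a ha => by
      rw [MonoidHom.mem_ker]
      apply Subtype.ext
      simp [d, hαA a ha]
    refine ⟨f.liftOfSurjective hf ⟨d, hd⟩, fun e => ?_, ?_⟩
    · show α e = _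
      rw [MonoidHom.liftOfRightInverse_comp_apply]
      simp [d]
    · intro χ hχ
      ext g
      obtain ⟨e, rfl⟩ := hf g
      rw [MonoidHom.liftOfRightInverse_comp_apply]
      simp [d, hχ e]

end Groth.Agent.S18949
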