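import Groth.Statements.S18951
-- import your own Groth.Agent.* helpers here

set_option autoImplicit false
set_option backward.isDefEq.respectTransparency.types false
universe u
open OrbPic

namespace Groth.Agent.S18951

/-- Let G be a group and C ⊆ G a subset that generates G. Then the projection (χ, w) ↦ w from the group
of geometric partial orbifold line bundles with respect to C to functions G → ℚ is injective, its
image contains every conjugation-invariant integer-valued function vanishing at 1 and outside C, and
the group is torsion-free. (The source works with the geometric points of a tame finite étale group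
scheme, characters with values in roots of unity and weights on conjugacy classes of the Tate twist;
here these are identified with a group, homomorphisms to ℚ/ℤ and class functions as the source does
after choosing roots of unity. The case C = G ∖ {1} is the statement for full orbifold line
bundles.) -/
theorem result (G : Type u) [Group G] (C : Set G)
    (hC : Subgroup.closure C = ⊤) :
    Set.InjOn (fun p : (Additive G →+ W4c6brauerbgmalle.QmodZ) × (G → ℚ) => p.2) (W4c6brauerbgmalle.picOrb G C) ∧
      (∀ w ∈ W4c6brauerbgmalle.intWeights G C, ((0 : Additive G →+ W4c6brauerbgmalle.QmodZ), w) ∈ W4c6brauerbgmalle.picOrb G C) ∧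
      ∀ (n : ℕ) (p : (Additive G →+ W4c6brauerbgmalle.QmodZ) × (G → ℚ)), p ∈ W4c6brauerbgmalle.picOrb G C → n ≠ 0 →
        n • p = 0 → p = 0 := by
  have hinj : Set.InjOn (fun p : (Additive G →+ W4c6brauerbgmalle.QmodZ) × (G → ℚ) => p.2) (W4c6brauerbgmalle.picOrb G C) := by
    rintro p ⟨-, -, -, hp⟩ q ⟨-, -, -, hq⟩ (h : p.2 = q.2)
    refine Prod.ext (AddMonoidHom.ext fun a => ?_) h
    obtain ⟨g, rfl⟩ := Additive.ofMul.surjective a
    have hmem : g ∈ Subgroup.closure C := hC ▸ Subgroup.mem_top _
    induction hmem using Subgroup.closure_induction with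
    | mem g hg => rw [← hp g hg, ← hq g hg, h]
    | one => simp
    | mul x y _ _ hx hy => rw [ofMul_mul, map_add, map_add, hx, hy]
    | inv x _ hx => rw [ofMul_inv, map_neg, map_neg, hx]
  refine ⟨hinj, fun w ⟨h1, h2, h3, h4⟩ => ⟨h1, h2, h3, fun g _ => ?_⟩, fun n p hp hn h => hinj hp (zero_mem _) ?_⟩
  · obtain ⟨m, hm⟩ := h4 g
    change W4c6brauerbgmalle.toQmodZ (w g) = 0
    rw [hm]
    exact (QuotientAddGroup.eq_zero_iff _).2 (AddSubgroup.mem_zmultiples_iff.2 ⟨m, by simp⟩)
  · funext g
    have h0 := congrFun (congrArg Prod.snd h) g
    simp only [Prod.smul_snd, Pi.smul_apply, Prod.snd_zero, Pi.zero_apply, nsmul_eq_mul, mul_eq_zero,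
      Nat.cast_eq_zero] at h0
    exact h0.resolve_left hn

end Groth.Agent.S18951
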