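import Groth.Statements.S18953
-- import your own Groth.Agent.* helpers here

set_option autoImplicit false
set_option backward.isDefEq.respectTransparency.types false
universe u v
open OrbPic

namespace Groth.Agent.S18953

/-- Let G₁ and G₂ be groups with subsets C₁ ⊆ G₁ and C₂ ⊆ G₂, and let C ⊆ G₁ × G₂ be the union of C₁ ×
{1} and {1} × C₂. Restricting the character and the weight along the two inclusions G₁ → G₁ × G₂ and
G₂ → G₁ × G₂ is a bijection from the geometric partial orbifold line bundles of G₁ × G₂ with respect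
to C onto pairs of geometric partial orbifold line bundles of G₁ with respect to C₁ and of G₂ with
respect to C₂. (As in the source after a choice of roots of unity, each group stands for the
geometric points of a tame finite étale group scheme, characters are homomorphisms to ℚ/ℤ and
weights are class functions; the source states the Galois-equivariant version, which follows by
taking invariants.) -/
theorem result (G₁ : Type u) (G₂ : Type v) [Group G₁] [Group G₂] (C₁ : Set G₁) (C₂ : Set G₂) :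
    Set.BijOn
      (fun p : (Additive (G₁ × G₂) →+ W4c6brauerbgmalle.QmodZ) × (G₁ × G₂ → ℚ) =>
        ((p.1.comp (MonoidHom.toAdditive (MonoidHom.inl G₁ G₂)), fun g => p.2 (g, 1)),
          (p.1.comp (MonoidHom.toAdditive (MonoidHom.inr G₁ G₂)), fun g => p.2 (1, g))))
      (W4c6brauerbgmalle.picOrb (G₁ × G₂) ((fun g => (g, (1 : G₂))) '' C₁ ∪ (fun g => ((1 : G₁), g)) '' C₂))
      ((W4c6brauerbgmalle.picOrb G₁ C₁ : Set _) ×ˢ (W4c6brauerbgmalle.picOrb G₂ C₂ : Set _)) := by
  classical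
  set C : Set (G₁ × G₂) := (fun g => (g, (1 : G₂))) '' C₁ ∪ (fun g => ((1 : G₁), g)) '' C₂
  have hsplit : ∀ (χ : Additive (G₁ × G₂) →+ W4c6brauerbgmalle.QmodZ) (x : G₁ × G₂),
      χ (Additive.ofMul x) = χ (Additive.ofMul (x.1, 1)) + χ (Additive.ofMul (1, x.2)) := fun χ x => by
    rw [← map_add, ← ofMul_mul, Prod.mk_mul_mk, mul_one, one_mul]
  refine ⟨?_, ?_, ?_⟩
  · rintro p ⟨h1, h2, h3, h4⟩
    constructor
    · refine ⟨h1, fun g hg => ?_, fun g h => ?_, fun g hg => h4 (g, 1) (Or.inl ⟨g, hg, rfl⟩)⟩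
      · change p.2 (g, 1) = 0
        by_cases hg1 : g = 1
        · subst hg1; exact h1
        refine h2 _ ?_
        rintro (⟨a, ha, e⟩ | ⟨a, -, e⟩)
        · exact hg (by have h' : a = g := congrArg Prod.fst e; exact h' ▸ ha)
        · exact hg1 (congrArg Prod.fst e).symm
      · simpa using h3 (g, 1) (h, 1)
    · refine ⟨h1, fun g hg => ?_, fun g h => ?_, fun g hg => h4 (1, g) (Or.inr ⟨g, hg, rfl⟩)⟩
      · change p.2 (1, g) = 0
        by_cases hg1 : g = 1
        · subst hg1; exact h1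
        refine h2 _ ?_
        rintro (⟨a, -, e⟩ | ⟨a, ha, e⟩)
        · exact hg1 (congrArg Prod.snd e).symm
        · exact hg (by have h' : a = g := congrArg Prod.snd e; exact h' ▸ ha)
      · simpa using h3 (1, g) (1, h)
  · rintro p ⟨hp1, hp2, -, -⟩ q ⟨hq1, hq2, -, -⟩ h
    have e1 := congrArg (fun r => r.1.1) h
    have e2 := congrArg (fun r => r.2.1) h
    have w1 := congrArg (fun r => r.1.2) h
    have w2 := congrArg (fun r => r.2.2) h
    refine Prod.ext (AddMonoidHom.ext fun a => ?_) (funext fun x => ?_)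
    · change p.1 (Additive.ofMul a.toMul) = q.1 (Additive.ofMul a.toMul)
      rw [hsplit p.1, hsplit q.1]
      exact congrArg₂ (· + ·) (DFunLike.congr_fun e1 (Additive.ofMul a.toMul.1))
        (DFunLike.congr_fun e2 (Additive.ofMul a.toMul.2))
    · by_cases hx : x ∈ C
      · rcases hx with ⟨a, -, rfl⟩ | ⟨a, -, rfl⟩
        · exact congrFun w1 a
        · exact congrFun w2 a
      · rw [hp2 x hx, hq2 x hx]
  · rintro ⟨⟨χ₁, w₁⟩, ⟨χ₂, w₂⟩⟩ ⟨⟨a1, a2, a3, a4⟩, ⟨b1, b2, b3, b4⟩⟩
    simp only at a1 a2 a3 a4 b1 b2 b3 b4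
    let w : G₁ × G₂ → ℚ := fun x => if x.2 = 1 then w₁ x.1 else if x.1 = 1 then w₂ x.2 else 0
    let χ : Additive (G₁ × G₂) →+ W4c6brauerbgmalle.QmodZ :=
      χ₁.comp (MonoidHom.toAdditive (MonoidHom.fst G₁ G₂)) + χ₂.comp (MonoidHom.toAdditive (MonoidHom.snd G₁ G₂))
    have hχ : ∀ x, χ (Additive.ofMul x) = χ₁ (Additive.ofMul x.1) + χ₂ (Additive.ofMul x.2) := fun x => rfl
    refine ⟨(χ, w), ⟨?_, fun x hx => ?_, fun x h => ?_, ?_⟩, ?_⟩
    · simp [w, a1]
    · simp only [w]
      split_ifs with h h'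
      · exact a2 _ fun hc => hx (Or.inl ⟨x.1, hc, Prod.ext rfl h.symm⟩)
      · exact b2 _ fun hc => hx (Or.inr ⟨x.2, hc, Prod.ext h'.symm rfl⟩)
      · rfl
    · simp only [w, Prod.fst_mul, Prod.snd_mul, Prod.fst_inv, Prod.snd_inv, a3, b3, conj_eq_one_iff]
    · rintro _ (⟨g, hg, rfl⟩ | ⟨g, hg, rfl⟩)
      · simp [w, hχ, a4 g hg]
      · by_cases h : g = 1
        · subst h; simp [w, hχ, a1]
        · simp [w, hχ, h, b4 g hg]
    · refine Prod.ext (Prod.ext (AddMonoidHom.ext fun a => ?_) (funext fun g => ?_)) (Prod.ext (AddMonoidHom.ext fun a => ?_) (funext fun g => ?_))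
      · change χ₁ a + χ₂ (Additive.ofMul 1) = χ₁ a
        rw [ofMul_one, map_zero, add_zero]
      · simp [w]
      · change χ₁ (Additive.ofMul 1) + χ₂ a = χ₂ a
        rw [ofMul_one, map_zero, zero_add]
      · by_cases h : g = 1
        · subst h; simp [w, a1, b1]
        · simp [w, h]

end Groth.Agent.S18953
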