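import Groth.Statements.S18960
import Mathlib

set_option autoImplicit false
set_option backward.isDefEq.respectTransparency.types false
set_option maxHeartbeats 1000000
set_option linter.all false
universe w' w v u
open CategoryTheory Limits
open CatLim

namespace Groth.Agent.S18960
open Groth.Agent

/-- Let C be a category and T an endofunctor of C; let C(T) be the category whose objects are pairs (X,
u) with u : T X → X an isomorphism and whose morphisms (X, u) → (Y, w) are the morphisms X → Y
compatible with u and w — the full subcategory of T-algebras with invertible structure map — and let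
π : C(T) → C be the forgetful functor. If T preserves colimits of shape J then π creates colimits of
shape J. (The source assumes T preserves all small colimits and concludes for all small shapes; the
argument is shape by shape.) -/
theorem result {C : Type u} [Category.{v} C] (T : C ⥤ C)
    (J : Type w) [Category.{w'} J] [PreservesColimitsOfShape J T] :
    Nonempty (CreatesColimitsOfShape J
      ((ObjectProperty.ι (fun A : Endofunctor.Algebra T => IsIso A.str)) ⋙ Endofunctor.Algebra.forget T)) := by
  constructor
  constructor
  intro K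
  haveI hK : ∀ j, IsIso (K.obj j).obj.str := fun j => (K.obj j).property
  apply createsColimitOfReflectsIso
  intro c t
  let tT := isColimitOfPreserves T t
  let x : ∀ j, (K.obj j).obj.a ⟶ c.pt := fun j => c.ι.app j
  have hx : ∀ j, c.ι.app j = x j := fun j => rfl
  have hnat : ∀ {i j} (g : i ⟶ j), T.map (K.map g).hom.f ≫ (K.obj j).obj.str = (K.obj i).obj.str ≫ (K.map g).hom.f := fun g => (K.map g).hom.h
  have hc : ∀ {i j} (g : i ⟶ j), (K.map g).hom.f ≫ x j = x i := fun {i j} g => by rw [← hx i, ← hx j]; exact c.w g
  let d1 : Cocone ((K ⋙ (ObjectProperty.ι (fun A : Endofunctor.Algebra T => IsIso A.str)) ⋙ Endofunctor.Algebra.forget T) ⋙ T) :=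
    { pt := c.pt
      ι := { app := fun j => (K.obj j).obj.str ≫ x j
             naturality := fun i j g => by
               simp only [Functor.comp_map, Functor.const_obj_map]
               erw [Category.comp_id, ← Category.assoc, hnat g, Category.assoc, hc g] } }
  let s : T.obj c.pt ⟶ c.pt := tT.desc d1
  let d2 : Cocone (K ⋙ (ObjectProperty.ι (fun A : Endofunctor.Algebra T => IsIso A.str)) ⋙ Endofunctor.Algebra.forget T) :=
    { pt := T.obj c.pt
      ι := { app := fun j => (@inv _ _ _ _ (K.obj j).obj.str (hK j)) ≫ T.map (x j)
             naturality := fun i j g => by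
               simp only [Functor.comp_map, Functor.const_obj_map]
               erw [Category.comp_id, IsIso.eq_inv_comp, ← Category.assoc, ← hnat g, Category.assoc, IsIso.hom_inv_id_assoc, ← T.map_comp, hc g] } }
  let s' : c.pt ⟶ T.obj c.pt := t.desc d2
  have hs1 : ∀ j, T.map (x j) ≫ s = (K.obj j).obj.str ≫ x j := fun j => tT.fac d1 j
  have hs2 : ∀ j, x j ≫ s' = inv (K.obj j).obj.str ≫ T.map (x j) := fun j => t.fac d2 j
  haveI hiso : IsIso s := ⟨s', tT.hom_ext fun j => by
      show T.map (c.ι.app j) ≫ s ≫ s' = T.map (c.ι.app j) ≫ 𝟙 _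
      rw [hx j]
      erw [← Category.assoc, hs1, Category.assoc, hs2, IsIso.hom_inv_id_assoc, Category.comp_id]
      all_goals rfl,
    t.hom_ext fun j => by
      rw [hx j]
      erw [← Category.assoc, hs2, Category.assoc, hs1, IsIso.inv_hom_id_assoc, Category.comp_id]⟩
  let P : (ObjectProperty.FullSubcategory (fun A : Endofunctor.Algebra T => IsIso A.str)) := ⟨⟨c.pt, s⟩, hiso⟩
  let app : ∀ j, K.obj j ⟶ P := fun j => ObjectProperty.homMk { f := x j, h := hs1 j }
  let L : Cocone K := Cocone.mk P ⟨app, fun i j g => by
    ext
    show (K.map g).hom.f ≫ x j = x i ≫ 𝟙 _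
    rw [hc g, Category.comp_id]⟩
  refine LiftsToColimit.mk (LiftableCocone.mk L (Cocone.ext (Iso.refl _) (fun j => (Category.comp_id _).trans (hx j).symm))) ?_
  let ext' := fun (e : Cocone K) => (Cocone.mk e.pt.obj.a ⟨fun j => (e.ι.app j).hom.f, fun i j g => by
        show (K.map g).hom.f ≫ (e.ι.app j).hom.f = (e.ι.app i).hom.f ≫ 𝟙 _
        rw [Category.comp_id, ← e.w g]; rfl⟩ : Cocone (K ⋙ (ObjectProperty.ι (fun A : Endofunctor.Algebra T => IsIso A.str)) ⋙ Endofunctor.Algebra.forget T))
  have hf : ∀ e j, x j ≫ t.desc (ext' e) = (e.ι.app j).hom.f := fun e j => t.fac (ext' e) j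
  exact {
    desc := fun e => ObjectProperty.homMk {
      f := t.desc (ext' e)
      h := tT.hom_ext fun j => by
        show T.map (c.ι.app j) ≫ T.map (t.desc (ext' e)) ≫ _ = T.map (c.ι.app j) ≫ s ≫ _
        rw [hx j]
        erw [← T.map_comp_assoc, hf, ← Category.assoc (T.map (x j)) s, hs1, Category.assoc, hf]
        exact (e.ι.app j).hom.h }
    fac := fun e j => by ext; exact hf e j
    uniq := fun e m hm => by
      ext
      refine t.uniq (ext' e) m.hom.f fun j => ?_
      rw [hx j]
      exact congrArg (fun k => k.hom.f) (hm j) }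

end Groth.Agent.S18960
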