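import Groth.Statements.S18961
import Mathlib

set_option autoImplicit false
universe u
open BBDec

namespace Groth.Agent.S18961

open scoped DirectSum

section Grading

variable {A B : Type u} [CommRing A] [CommRing B] [Algebra A B] (𝒜 : ℕ → Submodule A B) [GradedAlgebra 𝒜]

abbrev Ip : Ideal B := (HomogeneousIdeal.irrelevant 𝒜).toIdeal

noncomputable def pl (d : ℕ) : B →ₗ[A] B where
  toFun x := (DirectSum.decompose 𝒜 x d : B)
  map_add' x y := by simp
  map_smul' a x := by simp only [DirectSum.decompose_smul]; rfl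

theorem mem_II {b : B} : b ∈ (Ip 𝒜) ↔ pl 𝒜 0 b = 0 := Iff.rfl

theorem pl_same {d : ℕ} {b : B} (hb : b ∈ 𝒜 d) : pl 𝒜 d b = b :=
  DirectSum.decompose_of_mem_same 𝒜 hb

theorem pl_ne {d e : ℕ} {b : B} (hb : b ∈ 𝒜 d) (hne : d ≠ e) : pl 𝒜 e b = 0 :=
  DirectSum.decompose_of_mem_ne 𝒜 hb hne

theorem pl_mem (d : ℕ) (b : B) : pl 𝒜 d b ∈ 𝒜 d := SetLike.coe_mem _

theorem sum_pl (b : B) (T : Finset ℕ) (hT : ∀ d, d ∉ T → pl 𝒜 d b = 0) :
    ∑ d ∈ T, pl 𝒜 d b = b := by
  classical
  conv_rhs => rw [← DirectSum.sum_support_decompose 𝒜 b]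
  symm
  refine Finset.sum_subset_zero_on_sdiff ?_ ?_ (fun _ _ => rfl)
  · intro d hd
    by_contra h
    exact (DFinsupp.mem_support_iff.mp hd) (Subtype.ext (hT d h))
  · intro d hd
    have := (Finset.mem_sdiff.mp hd).2
    rw [DFinsupp.notMem_support_iff] at this
    exact congrArg Subtype.val this

theorem pl_mem_II (d : ℕ) {b : B} (hb : b ∈ (Ip 𝒜)) : pl 𝒜 d b ∈ (Ip 𝒜) := by
  rw [mem_II] at hb ⊢
  rcases eq_or_ne d 0 with rfl | h
  · rw [pl_same 𝒜 (pl_mem 𝒜 0 b), hb]
  · exact pl_ne 𝒜 (pl_mem 𝒜 d b) h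

theorem mem_II_of_mem {d : ℕ} {b : B} (hd : d ≠ 0) (hb : b ∈ 𝒜 d) : b ∈ (Ip 𝒜) :=
  (mem_II 𝒜).mpr (pl_ne 𝒜 hb hd)

/-- Products of irrelevant elements have components built from lower degrees. -/
theorem pl_mul_mem {S : Submodule A B} {d : ℕ} {a b : B} (ha : a ∈ (Ip 𝒜)) (hb : b ∈ (Ip 𝒜))
    (h : ∀ i j, i < d → j < d → ∀ x ∈ 𝒜 i, ∀ y ∈ 𝒜 j, x ∈ (Ip 𝒜) → y ∈ (Ip 𝒜) → x * y ∈ S) :
    pl 𝒜 d (a * b) ∈ S := by
  classical
  have e : a * b = ∑ i ∈ (DirectSum.decompose 𝒜 a).support,
      ∑ j ∈ (DirectSum.decompose 𝒜 b).support, pl 𝒜 i a * pl 𝒜 j b := by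
    conv_lhs => rw [← DirectSum.sum_support_decompose 𝒜 a, ← DirectSum.sum_support_decompose 𝒜 b]
    rw [Finset.sum_mul_sum]
    rfl
  rw [e, map_sum]
  refine Submodule.sum_mem _ fun i _ => ?_
  rw [map_sum]
  refine Submodule.sum_mem _ fun j _ => ?_
  have hmul : pl 𝒜 i a * pl 𝒜 j b ∈ 𝒜 (i + j) :=
    SetLike.mul_mem_graded (pl_mem 𝒜 i a) (pl_mem 𝒜 j b)
  by_cases hij : i + j = d
  · subst hij
    rw [pl_same 𝒜 hmul]
    rcases eq_or_ne i 0 with rfl | hi
    · rw [(mem_II 𝒜).mp ha, zero_mul]; exact S.zero_mem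
    rcases eq_or_ne j 0 with rfl | hj
    · rw [(mem_II 𝒜).mp hb, mul_zero]; exact S.zero_mem
    exact h i j (by omega) (by omega) _ (pl_mem 𝒜 i a) _ (pl_mem 𝒜 j b) (pl_mem_II 𝒜 i ha) (pl_mem_II 𝒜 j hb)
  · rw [pl_ne 𝒜 hmul hij]; exact S.zero_mem

theorem pl_mem_sq {d : ℕ} {x : B} (hx : x ∈ ((Ip 𝒜)) ^ 2) : pl 𝒜 d x ∈ ((Ip 𝒜)) ^ 2 := by
  rw [pow_two] at hx ⊢
  refine Submodule.mul_induction_on hx (fun a ha b hb => ?_) (fun x y hx hy => ?_)
  · exact pl_mul_mem (S := (((Ip 𝒜)) * (Ip 𝒜)).restrictScalars A) 𝒜 ha hb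
      fun _ _ _ _ x _ y _ hx hy => Ideal.mul_mem_mul hx hy
  · rw [map_add]; exact add_mem hx hy

noncomputable def plI (d : ℕ) : (Ip 𝒜) →ₗ[A] (Ip 𝒜) where
  toFun x := ⟨pl 𝒜 d (x : B), pl_mem_II 𝒜 d x.2⟩
  map_add' x y := Subtype.ext (map_add (pl 𝒜 d) (x : B) (y : B))
  map_smul' a x := Subtype.ext ((pl 𝒜 d).map_smul a (x : B))

/-- Graded lifts of a basis of the cotangent module. -/
theorem exists_lifts (h0 : ∀ b ∈ 𝒜 0, ∃ a, algebraMap A B a = b) {ι : Type*} [Finite ι] (e : Module.Basis ι A ((Ip 𝒜)).Cotangent) :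
    ∃ z : ι → (Ip 𝒜), (∀ i, ((Ip 𝒜)).toCotangent (z i) = e i) ∧
      Algebra.adjoin A (Set.range fun i => (z i : B)) = ⊤ := by
  classical
  let T : (Ip 𝒜) →ₗ[A] ((Ip 𝒜)).Cotangent := ((Ip 𝒜)).toCotangent.restrictScalars A
  have hTs : Function.Surjective T := ((Ip 𝒜)).toCotangent_surjective
  let s : ((Ip 𝒜)).Cotangent →ₗ[A] (Ip 𝒜) := e.constr ℕ fun i => (hTs (e i)).choose
  have hs : ∀ m, T (s m) = m := by
    intro m
    have : T.comp s = LinearMap.id := e.ext fun i => by
      simp only [LinearMap.comp_apply, s, Module.Basis.constr_basis, LinearMap.id_apply]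
      exact (hTs (e i)).choose_spec
    exact LinearMap.congr_fun this m
  let π : ℕ → ((Ip 𝒜)).Cotangent →ₗ[A] ((Ip 𝒜)).Cotangent := fun d => T.comp ((plI 𝒜 d).comp s)
  have hπ : ∀ d x, π d (T x) = T (plI 𝒜 d x) := by
    intro d x
    refine (((Ip 𝒜)).toCotangent_eq).mpr ?_
    have h1 : ((s (T x) : (Ip 𝒜)) : B) - x ∈ ((Ip 𝒜)) ^ 2 := (((Ip 𝒜)).toCotangent_eq).mp (hs (T x))
    have h2 := pl_mem_sq (d := d) 𝒜 h1
    rw [map_sub] at h2
    exact h2
  have := Fintype.ofFinite ι
  let D : Finset ℕ := Finset.univ.biUnion fun i => (DirectSum.decompose 𝒜 ((s (e i) : (Ip 𝒜)) : B)).support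
  have hD : ∀ i d, d ∉ D → plI 𝒜 d (s (e i)) = 0 := by
    intro i d hd
    refine Subtype.ext ?_
    have : d ∉ (DirectSum.decompose 𝒜 ((s (e i) : (Ip 𝒜)) : B)).support := fun h =>
      hd (Finset.mem_biUnion.mpr ⟨i, Finset.mem_univ _, h⟩)
    rw [DFinsupp.notMem_support_iff] at this
    change ((DirectSum.decompose 𝒜 ((s (e i) : Ip 𝒜) : B) d : 𝒜 d) : B) = 0
    rw [this]; rfl
  let σ : ((Ip 𝒜)).Cotangent →ₗ[A] (Ip 𝒜) := ∑ d ∈ D, (plI 𝒜 d).comp (s.comp (π d))
  have hσT : ∀ i, T (σ (e i)) = e i := by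
    intro i
    simp only [σ, LinearMap.sum_apply, map_sum, LinearMap.comp_apply]
    calc ∑ d ∈ D, T (plI 𝒜 d (s (π d (e i)))) = ∑ d ∈ D, T (plI 𝒜 d (s (e i))) := by
          refine Finset.sum_congr rfl fun d _ => ?_
          change π d (π d (e i)) = π d (e i)
          conv_lhs => arg 2; change T (plI 𝒜 d (s (e i)))
          rw [hπ]
          change T _ = T _
          congr 1
          exact Subtype.ext (pl_same 𝒜 (pl_mem 𝒜 d _))
      _ = T (s (e i)) := by
          rw [← map_sum]
          congr 1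
          refine Subtype.ext ?_
          rw [AddSubmonoidClass.coe_finsetSum]
          exact sum_pl 𝒜 _ D fun d hd => congrArg Subtype.val (hD i d hd)
      _ = e i := hs _
  have hσT' : ∀ m, T (σ m) = m := fun m =>
    LinearMap.congr_fun (e.ext hσT : T.comp σ = LinearMap.id) m
  refine ⟨fun i => σ (e i), hσT, ?_⟩
  set C := Algebra.adjoin A (Set.range fun i => ((σ (e i) : (Ip 𝒜)) : B))
  have hσmem : ∀ m, ((σ m : (Ip 𝒜)) : B) ∈ C := by
    intro m
    rw [← e.sum_repr m, map_sum, AddSubmonoidClass.coe_finsetSum]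
    refine sum_mem fun i _ => ?_
    rw [map_smul, Submodule.coe_smul_of_tower]
    exact C.smul_mem (Algebra.subset_adjoin ⟨i, rfl⟩) _
  have key : ∀ d, ∀ b ∈ 𝒜 d, b ∈ C := by
    intro d
    induction d using Nat.strong_induction_on with
    | _ d ih =>
      intro b hb
      rcases eq_or_ne d 0 with rfl | hd
      · obtain ⟨a, rfl⟩ := h0 b hb
        exact C.algebraMap_mem a
      let bI : (Ip 𝒜) := ⟨b, mem_II_of_mem 𝒜 hd hb⟩
      have hne : ∀ d', d' ≠ d → π d' (T bI) = 0 := by
        intro d' h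
        rw [hπ, show plI 𝒜 d' bI = 0 from Subtype.ext (pl_ne 𝒜 hb h.symm), map_zero]
      have hc : ((σ (T bI) : (Ip 𝒜)) : B) ∈ 𝒜 d := by
        simp only [σ, LinearMap.sum_apply, LinearMap.comp_apply, AddSubmonoidClass.coe_finsetSum]
        refine Submodule.sum_mem _ fun d' _ => ?_
        rcases eq_or_ne d' d with rfl | h
        · exact pl_mem 𝒜 d' _
        · rw [hne d' h, map_zero, map_zero]; exact Submodule.zero_mem _
      have hsq : b - ((σ (T bI) : (Ip 𝒜)) : B) ∈ ((Ip 𝒜)) ^ 2 :=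
        (((Ip 𝒜)).toCotangent_eq).mp (hσT' (T bI)).symm
      have h1 : pl 𝒜 d (b - ((σ (T bI) : (Ip 𝒜)) : B)) ∈ C.toSubmodule := by
        rw [pow_two] at hsq
        refine Submodule.mul_induction_on hsq (fun a ha c hc => ?_) (fun x y hx hy => ?_)
        · exact pl_mul_mem 𝒜 ha hc fun i j hi hj x hx y hy _ _ =>
            C.mul_mem (ih i hi x hx) (ih j hj y hy)
        · rw [map_add]; exact Submodule.add_mem _ hx hy
      rw [pl_same 𝒜 (Submodule.sub_mem _ hb hc), Subalgebra.mem_toSubmodule] at h1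
      have := C.add_mem h1 (hσmem (T bI))
      rwa [sub_add_cancel] at this
  refine eq_top_iff.mpr fun b _ => ?_
  rw [← DirectSum.sum_support_decompose 𝒜 b]
  exact sum_mem fun d _ => key d _ (SetLike.coe_mem _)

end Grading

section Poly

variable {A : Type u} [CommRing A] {σ : Type*}

theorem eq_zero_of_mul_eq_self {j f : MvPolynomial σ A} (hj : MvPolynomial.constantCoeff j = 0)
    (h : j * f = f) : f = 0 := by
  classical
  suffices ∀ n, ∀ d : σ →₀ ℕ, d.degree = n → f.coeff d = 0 from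
    MvPolynomial.ext _ _ fun d => by rw [this _ d rfl, MvPolynomial.coeff_zero]
  intro n
  induction n using Nat.strong_induction_on with
  | _ n ih =>
    intro d hd
    rw [← h, MvPolynomial.coeff_mul]
    refine Finset.sum_eq_zero fun x hx => ?_
    rw [Finset.HasAntidiagonal.mem_antidiagonal] at hx
    rcases eq_or_ne x.1 0 with h1 | h1
    · rw [h1, ← MvPolynomial.constantCoeff_eq, hj, zero_mul]
    · rw [ih x.2.degree ?_ x.2 rfl, mul_zero]
      rw [← hd, ← hx, map_add]
      have : x.1.degree ≠ 0 := fun h0 => h1 (by simpa [Finsupp.degree_eq_zero_iff] using h0)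
      omega

theorem mem_vars_iff (f : MvPolynomial σ A) :
    f ∈ Ideal.span (Set.range (MvPolynomial.X (R := A) : σ → _)) ↔
      MvPolynomial.constantCoeff f = 0 := by
  have h := MvPolynomial.mem_pow_idealOfVars_iff' 1 f
  rw [pow_one] at h
  refine h.trans ⟨fun H => H 0 (by simp), fun H x hx => ?_⟩
  rw [(Finsupp.degree_eq_zero_iff x).mp (by omega)]
  exact H

/-- Linear part decomposition. -/
theorem exists_linear [Fintype σ] {f : MvPolynomial σ A}
    (hf : f ∈ Ideal.span (Set.range (MvPolynomial.X (R := A) : σ → _))) :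
    ∃ c : σ → A, f - ∑ i, MvPolynomial.C (c i) * MvPolynomial.X i ∈
      (Ideal.span (Set.range (MvPolynomial.X (R := A) : σ → _))) ^ 2 := by
  obtain ⟨g, hg⟩ := (Ideal.mem_span_range_iff_exists_fun).mp hf
  refine ⟨fun i => MvPolynomial.constantCoeff (g i), ?_⟩
  rw [← hg, ← Finset.sum_sub_distrib]
  refine sum_mem fun i _ => ?_
  rw [← sub_mul, pow_two]
  refine Ideal.mul_mem_mul ?_ (Ideal.subset_span ⟨i, rfl⟩)
  exact (mem_vars_iff _).mpr (by simp)

end Poly

section Smooth

variable {A B P : Type u} [CommRing A] [CommRing B] [CommRing P] [Algebra A B] [Algebra A P]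
  [IsNoetherianRing P]

theorem exists_annihilator (φ : P →ₐ[A] B) (hφ : Function.Surjective φ) (J : Ideal P)
    (hK : RingHom.ker φ ≤ J ^ 2) (Q : Ideal P) [Q.IsPrime] (hJQ : J ≤ Q)
    (hfs : ∀ (Q' : Ideal B) [Q'.IsPrime], Q'.comap φ = Q →
      Algebra.FormallySmooth A (Localization.AtPrime Q'))
    {f : P} (hf : φ f = 0) : ∃ u, u ∉ Q ∧ u * f = 0 := by
  let g : P →+* B := φ.toRingHom
  have hg : Function.Surjective g := hφ
  have hkQ : RingHom.ker g ≤ Q := fun x hx => hJQ (Ideal.pow_le_self two_ne_zero (hK hx))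
  have hprime : (Q.map g).IsPrime := Ideal.map_isPrime_of_surjective hg hkQ
  have hcomap : (Q.map g).comap g = Q := by
    rw [Ideal.comap_map_of_surjective g hg, sup_eq_left]
    exact hkQ
  have := hfs (Q.map g) hcomap
  have hM : Q.primeCompl.map g = (Q.map g).primeCompl := by
    ext b
    constructor
    · rintro ⟨a, ha, rfl⟩ hb
      exact ha (hcomap ▸ hb : a ∈ Q)
    · intro hb
      obtain ⟨a, rfl⟩ := hg b
      exact ⟨a, fun ha => hb (Ideal.mem_map_of_mem g ha), rfl⟩
  have : IsLocalization (Q.primeCompl.map g) (Localization.AtPrime (Q.map g)) := by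
    rw [hM]; infer_instance
  let ψr : Localization.AtPrime Q →+* Localization.AtPrime (Q.map g) :=
    IsLocalization.map _ g Q.primeCompl.le_comap_map
  let ψ : Localization.AtPrime Q →ₐ[A] Localization.AtPrime (Q.map g) :=
    { ψr with
      commutes' := fun a => by
        change ψr (algebraMap A (Localization.AtPrime Q) a) = _
        rw [IsScalarTower.algebraMap_apply A P (Localization.AtPrime Q), IsLocalization.map_eq]
        change algebraMap B _ (φ (algebraMap A P a)) = _
        rw [φ.commutes, ← IsScalarTower.algebraMap_apply] }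
  have hψ : Function.Surjective ψ :=
    IsLocalization.map_surjective_of_surjective _ _ _ hg
  set K' : Ideal (Localization.AtPrime Q) := RingHom.ker ψ with hK'
  set J' : Ideal (Localization.AtPrime Q) := J.map (algebraMap P (Localization.AtPrime Q)) with hJ'
  have hKJ : K' ≤ J' ^ 2 := by
    intro x hx
    obtain ⟨a, s, rfl⟩ := IsLocalization.exists_mk'_eq Q.primeCompl x
    change ψr _ = 0 at hx
    rw [IsLocalization.map_mk', IsLocalization.mk'_eq_zero_iff] at hx
    obtain ⟨⟨_, t, ht, rfl⟩, h⟩ := hx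
    change g t * g a = 0 at h
    rw [← map_mul] at h
    have h2 : algebraMap P (Localization.AtPrime Q) (t * a) ∈ J' ^ 2 := by
      rw [hJ', ← Ideal.map_pow]
      exact Ideal.mem_map_of_mem _ (hK h)
    rw [IsLocalization.mk'_eq_mul_mk'_one]
    refine Ideal.mul_mem_right _ _ ?_
    rw [map_mul] at h2
    exact (Ideal.unit_mul_mem_iff_mem _ (IsLocalization.map_units _ ⟨t, ht⟩)).mp h2
  let q : Localization.AtPrime Q →ₐ[A] Localization.AtPrime Q ⧸ K' ^ 2 := Ideal.Quotient.mkₐ A _
  let ψ2 : Localization.AtPrime Q ⧸ K' ^ 2 →ₐ[A] Localization.AtPrime (Q.map g) :=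
    Ideal.Quotient.liftₐ _ ψ fun a ha => Ideal.pow_le_self two_ne_zero ha
  have hψ2 : Function.Surjective ψ2 := fun b => by
    obtain ⟨a, rfl⟩ := hψ b
    exact ⟨q a, rfl⟩
  have hnil : IsNilpotent (RingHom.ker ψ2) := by
    refine ⟨2, ?_⟩
    have h : RingHom.ker ψ2 ≤ K'.map (Ideal.Quotient.mk (K' ^ 2)) := by
      intro x hx
      obtain ⟨a, rfl⟩ := Ideal.Quotient.mk_surjective x
      exact Ideal.mem_map_of_mem _ (show ψ a = 0 from hx)
    refine eq_bot_iff.mpr ((Ideal.pow_right_mono h 2).trans ?_)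
    rw [← Ideal.map_pow, Ideal.map_quotient_self]
  let σ := Algebra.FormallySmooth.liftOfSurjective (AlgHom.id A _) ψ2 hψ2 hnil
  have hσ : ∀ x, ψ2 (σ x) = x := fun x =>
    Algebra.FormallySmooth.liftOfSurjective_apply (AlgHom.id A _) ψ2 hψ2 hnil x
  let G : Localization.AtPrime Q →ₐ[A] Localization.AtPrime Q ⧸ K' ^ 2 := σ.comp ψ
  have hG : ∀ x, G x - q x ∈ K'.map (Ideal.Quotient.mk (K' ^ 2)) := by
    intro x
    obtain ⟨a, ha⟩ := Ideal.Quotient.mk_surjective (σ (ψ x))
    have h1 : ψ a = ψ x := by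
      have := hσ (ψ x)
      rw [← ha] at this
      exact this
    have : G x - q x = Ideal.Quotient.mk (K' ^ 2) (a - x) := by
      rw [map_sub, ha]; rfl
    rw [this]
    exact Ideal.mem_map_of_mem _ (show ψ (a - x) = 0 by rw [map_sub, h1, sub_self])
  have hd : ∀ x ∈ J' ^ 2, G x - q x ∈ (J' * K').map (Ideal.Quotient.mk (K' ^ 2)) := by
    intro x hx
    rw [pow_two] at hx
    refine Submodule.mul_induction_on hx (fun a ha b hb => ?_) (fun x y hx hy => ?_)
    · rw [Ideal.map_mul]
      have ha' : q a ∈ J'.map (Ideal.Quotient.mk (K' ^ 2)) := Ideal.mem_map_of_mem _ ha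
      have hb' : q b ∈ J'.map (Ideal.Quotient.mk (K' ^ 2)) := Ideal.mem_map_of_mem _ hb
      have e : G (a * b) - q (a * b) =
          (G a - q a) * (G b - q b) + q b * (G a - q a) + q a * (G b - q b) := by
        rw [map_mul, map_mul]; ring
      rw [e]
      refine add_mem (add_mem ?_ ?_) ?_
      · have h2 : (G a - q a) * (G b - q b) ∈
            K'.map (Ideal.Quotient.mk (K' ^ 2)) * K'.map (Ideal.Quotient.mk (K' ^ 2)) :=
          Ideal.mul_mem_mul (hG a) (hG b)
        rw [← Ideal.map_mul, ← pow_two, Ideal.map_quotient_self, Ideal.mem_bot] at h2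
        rw [h2]
        exact zero_mem _
      · exact Ideal.mul_mem_mul hb' (hG a)
      · exact Ideal.mul_mem_mul ha' (hG b)
    · rw [map_add, map_add, add_sub_add_comm]
      exact add_mem hx hy
  have hle : K' ≤ J' • K' := by
    intro x hx
    have h1 := hd x (hKJ hx)
    have h2 : G x = 0 := by
      change σ (ψ x) = 0
      rw [show ψ x = 0 from hx, map_zero]
    rw [h2, zero_sub, neg_mem_iff] at h1
    have h3 : x ∈ (J' * K') ⊔ K' ^ 2 := by
      have : x ∈ ((J' * K').map (Ideal.Quotient.mk (K' ^ 2))).comap (Ideal.Quotient.mk (K' ^ 2)) := h1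
      rwa [Ideal.comap_map_of_surjective _ Ideal.Quotient.mk_surjective, ← RingHom.ker_eq_comap_bot,
        Ideal.mk_ker] at this
    refine (sup_le le_rfl ?_ : J' * K' ⊔ K' ^ 2 ≤ J' * K') h3
    rw [pow_two]
    exact Ideal.mul_mono_left (hKJ.trans (Ideal.pow_le_self two_ne_zero))
  have hJmax : J' ≤ IsLocalRing.maximalIdeal (Localization.AtPrime Q) := by
    rw [hJ', ← Localization.AtPrime.map_eq_maximalIdeal]
    exact Ideal.map_mono hJQ
  have : IsNoetherianRing (Localization.AtPrime Q) :=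
    IsLocalization.isNoetherianRing Q.primeCompl _ inferInstance
  have hbot : K' = ⊥ := Submodule.eq_bot_of_le_smul_of_le_jacobson_bot J' K'
    (IsNoetherian.noetherian K') hle
    (hJmax.trans (IsLocalRing.jacobson_eq_maximalIdeal ⊥ bot_ne_top).ge)
  have hfK : algebraMap P (Localization.AtPrime Q) f ∈ K' := by
    change ψr _ = 0
    rw [IsLocalization.map_eq, show g f = 0 from hf, map_zero]
  rw [hbot, Ideal.mem_bot, IsLocalization.map_eq_zero_iff Q.primeCompl] at hfK
  obtain ⟨⟨u, hu⟩, huf⟩ := hfK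
  exact ⟨u, hu, huf⟩

end Smooth


/-- Let k be a field, A a finitely generated k-algebra and B a finitely generated A-algebra graded by
the natural numbers as an A-algebra, with degree-zero part equal to the image of A and A → B
injective; let B₊ be the irrelevant ideal. So Spec B → Spec A is the retraction of an affine scheme
with an action of the multiplicative monoid of the affine line onto its fixed-point scheme, with
zero section cut out by B₊; this is the affine-local graded form, for that monoid, of the published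
statement, which covers any Kempf monoid M with unit group G and a k-scheme X locally of finite
type, and concludes that the retraction X⁺ → X^G is an affine-space bundle near a fixed point at
whose section value it is smooth. Assume that A → B is smooth at every prime ideal containing B₊ and
that B₊/B₊² is a free A-module of finite rank. Then B is isomorphic, as an A-algebra, to the
polynomial ring over A in (rank of B₊/B₊²) variables. (The published statement also makes the
isomorphism equivariant for a suitable linear action when G is linearly reductive; only the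
existence of an A-algebra isomorphism is stated here. Freeness of the conormal module holds after
shrinking the base, which is how the published proof reaches this situation.) -/
theorem result (k : Type u) [Field k]
    (A B : Type u) [CommRing A] [CommRing B] [Algebra k A] [Algebra k B] [Algebra A B] [IsScalarTower k A B]
    [Algebra.FiniteType k A] [Algebra.FiniteType A B] (𝒜 : ℕ → Submodule A B) [GradedAlgebra 𝒜]
    (h0 : ∀ b : B, b ∈ 𝒜 0 ↔ b ∈ Set.range (algebraMap A B)) (hinj : Function.Injective (algebraMap A B))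
    (hsm : ∀ (P : Ideal B) [P.IsPrime], (HomogeneousIdeal.irrelevant 𝒜).toIdeal ≤ P → Algebra.IsSmoothAt A P)
    [Module.Free A (HomogeneousIdeal.irrelevant 𝒜).toIdeal.Cotangent]
    [Module.Finite A (HomogeneousIdeal.irrelevant 𝒜).toIdeal.Cotangent] :
    Nonempty (B ≃ₐ[A]
      MvPolynomial (Fin (Module.finrank A (HomogeneousIdeal.irrelevant 𝒜).toIdeal.Cotangent)) A) := by
  haveI : IsNoetherianRing A := Algebra.FiniteType.isNoetherianRing k A
  set r := Module.finrank A (HomogeneousIdeal.irrelevant 𝒜).toIdeal.Cotangent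
  rcases subsingleton_or_nontrivial A with hA | hA
  · haveI : Subsingleton B := Module.subsingleton A B
    haveI : Subsingleton (MvPolynomial (Fin r) A) := Module.subsingleton A _
    exact ⟨{ toFun := fun _ => 0, invFun := fun _ => 0,
             left_inv := fun _ => Subsingleton.elim _ _, right_inv := fun _ => Subsingleton.elim _ _,
             map_mul' := fun _ _ => Subsingleton.elim _ _, map_add' := fun _ _ => Subsingleton.elim _ _,
             commutes' := fun _ => Subsingleton.elim _ _ }⟩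
  let e := Module.finBasis A (HomogeneousIdeal.irrelevant 𝒜).toIdeal.Cotangent
  obtain ⟨z, hz, hgen⟩ := exists_lifts 𝒜 (fun b hb => (h0 b).mp hb) e
  let φ : MvPolynomial (Fin r) A →ₐ[A] B := MvPolynomial.aeval fun i => (z i : B)
  have hφ : Function.Surjective φ := by
    rw [← AlgHom.range_eq_top, ← hgen, Algebra.adjoin_range_eq_range_aeval]
  set J : Ideal (MvPolynomial (Fin r) A) :=
    Ideal.span (Set.range (MvPolynomial.X (R := A) : Fin r → _)) with hJ
  have hJI : J.map φ ≤ Ip 𝒜 := by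
    rw [hJ, Ideal.map_span, Ideal.span_le]
    rintro _ ⟨_, ⟨i, rfl⟩, rfl⟩
    simp only [φ, MvPolynomial.aeval_X, SetLike.mem_coe]
    exact (z i).2
  have hC : ∀ a, pl 𝒜 0 (algebraMap A B a) = algebraMap A B a := fun a =>
    pl_same 𝒜 ((h0 _).mpr ⟨a, rfl⟩)
  have hiff : ∀ f, φ f ∈ Ip 𝒜 ↔ f ∈ J := by
    intro f
    refine ⟨fun h => ?_, fun h => hJI (Ideal.mem_map_of_mem _ h)⟩
    have h1 : f - MvPolynomial.C (MvPolynomial.constantCoeff f) ∈ J :=
      (mem_vars_iff _).mpr (by simp)
    have h2 := (mem_II 𝒜).mp (sub_mem h (hJI (Ideal.mem_map_of_mem φ h1)))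
    rw [← map_sub, sub_sub_cancel, MvPolynomial.algHom_C, hC, map_eq_zero_iff _ hinj] at h2
    exact (mem_vars_iff _).mpr h2
  have hK : RingHom.ker φ ≤ J ^ 2 := by
    intro f hf
    have hfJ : f ∈ J := (hiff f).mp (by rw [show φ f = 0 from hf]; exact zero_mem _)
    obtain ⟨c, hc⟩ := exists_linear hfJ
    have h1 : φ (∑ i, MvPolynomial.C (c i) * MvPolynomial.X i) ∈ (Ip 𝒜) ^ 2 := by
      have h2 : φ (f - ∑ i, MvPolynomial.C (c i) * MvPolynomial.X i) ∈ (Ip 𝒜) ^ 2 := by
        have := Ideal.mem_map_of_mem φ hc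
        rw [Ideal.map_pow] at this
        exact Ideal.pow_right_mono hJI 2 this
      rw [map_sub, show φ f = 0 from hf, zero_sub, neg_mem_iff] at h2
      exact h2
    have h2 : ∑ i, c i • e i = 0 := by
      have h3 : (Ip 𝒜).toCotangent (∑ i, c i • z i) = 0 := by
        rw [Ideal.toCotangent_eq_zero, AddSubmonoidClass.coe_finsetSum]
        convert h1 using 1
        rw [map_sum]
        refine Finset.sum_congr rfl fun i _ => ?_
        rw [map_mul, MvPolynomial.algHom_C, Submodule.coe_smul_of_tower, Algebra.smul_def]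
        simp only [φ, MvPolynomial.aeval_X]
      rw [map_sum] at h3
      rw [← h3]
      refine Finset.sum_congr rfl fun i _ => ?_
      rw [LinearMap.map_smul_of_tower, hz]
    have hc0 : ∀ i, c i = 0 := Fintype.linearIndependent_iff.mp e.linearIndependent c h2
    simpa [hc0] using hc
  have hker : RingHom.ker φ = ⊥ := by
    rw [eq_bot_iff]
    intro f hf
    let N : Ideal (MvPolynomial (Fin r) A) :=
      { carrier := {u | u * f = 0}
        zero_mem' := zero_mul f
        add_mem' := fun {a b} (ha : a * f = 0) (hb : b * f = 0) => show (a + b) * f = 0 by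
          rw [add_mul, ha, hb, add_zero]
        smul_mem' := fun c {a} (ha : a * f = 0) => show c * a * f = 0 by rw [mul_assoc, ha, mul_zero] }
    have htop : N ⊔ J = ⊤ := by
      by_contra hne
      obtain ⟨Q, hQ, hle⟩ := Ideal.exists_le_maximal _ hne
      obtain ⟨u, hu, huf⟩ := exists_annihilator φ hφ J hK Q (le_sup_right.trans hle)
        (fun Q' _ hQ' => hsm Q' fun b hb => by
          obtain ⟨g, rfl⟩ := hφ b
          have : g ∈ Q := hle (Ideal.mem_sup_right ((hiff g).mp hb))
          rw [← hQ'] at this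
          exact this) (f := f) hf
      exact hu (hle (Ideal.mem_sup_left huf))
    obtain ⟨a, ha, j, hj, haj⟩ :=
      Submodule.mem_sup.mp (htop.symm ▸ Submodule.mem_top : (1 : MvPolynomial (Fin r) A) ∈ N ⊔ J)
    refine (Ideal.mem_bot).mpr (eq_zero_of_mul_eq_self ((mem_vars_iff j).mp hj) ?_)
    have ha' : a * f = 0 := ha
    linear_combination f * haj - ha'
  exact ⟨(AlgEquiv.ofBijective φ ⟨(RingHom.injective_iff_ker_eq_bot φ).mpr hker, hφ⟩).symm⟩

end Groth.Agent.S18961
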