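import Mathlib
import Groth.Statements.S18962


set_option autoImplicit false
universe u
open BBDec

namespace Groth.Agent.S18962

set_option maxHeartbeats 400000

open scoped TensorProduct

theorem formallyEtale_of_bijective_mapBaseChange (R S T : Type u) [CommRing R] [CommRing S] [CommRing T]
    [Algebra R S] [Algebra S T] [Algebra R T] [IsScalarTower R S T] [Algebra.FormallySmooth R T]
    (h : Function.Bijective (KaehlerDifferential.mapBaseChange R S T)) : Algebra.FormallyEtale S T := by
  have h1 : Subsingleton (Ω[T⁄S]) := by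
    refine ⟨fun x y => ?_⟩
    suffices hh : ∀ x : Ω[T⁄S], x = 0 by rw [hh x, hh y]
    intro x
    obtain ⟨w, rfl⟩ := KaehlerDifferential.map_surjective R S T x
    obtain ⟨v, rfl⟩ := h.2 w
    exact (KaehlerDifferential.exact_mapBaseChange_map R S T).apply_apply_eq_zero v
  have h2 : Subsingleton (Algebra.H1Cotangent S T) := by
    refine ⟨fun x y => ?_⟩
    suffices hh : ∀ x : Algebra.H1Cotangent S T, x = 0 by rw [hh x, hh y]
    intro x
    have h3 : Algebra.H1Cotangent.δ R S T x = 0 :=
      h.1 (((Algebra.H1Cotangent.exact_δ_mapBaseChange R S T).apply_apply_eq_zero x).trans (map_zero _).symm)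
    obtain ⟨w, rfl⟩ := ((Algebra.H1Cotangent.exact_map_δ R S T) x).mp h3
    haveI : Subsingleton (Algebra.H1Cotangent R T) := inferInstance
    rw [Subsingleton.elim w 0, map_zero]
  haveI : Algebra.FormallySmooth S T := (Algebra.formallySmooth_iff S T).mpr ⟨inferInstance, h2⟩
  haveI : Algebra.FormallyUnramified S T := (Algebra.formallyUnramified_iff S T).mpr h1
  exact .of_formallyUnramified_and_formallySmooth

/-- Derivative of `x` along a section. -/
noncomputable def secDer {A B : Type u} [CommRing A] [CommRing B] [Algebra A B] (σ : B →ₐ[A] A) :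
    Derivation A B (RingHom.ker σ).Cotangent :=
  Derivation.mk'
    { toFun := fun x => (RingHom.ker σ).toCotangent ⟨x - algebraMap A B (σ x), by simp⟩
      map_add' := fun x y => by
        rw [← map_add]; exact congrArg _ (Subtype.ext (by simp; ring))
      map_smul' := fun a x => by
        rw [RingHom.id_apply, ← LinearMap.map_smul_of_tower]
        exact congrArg _ (Subtype.ext (by simp [Algebra.smul_def, mul_sub])) }
    (fun x y => by
      show (RingHom.ker σ).toCotangent _ = x • (RingHom.ker σ).toCotangent _ + y • (RingHom.ker σ).toCotangent _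
      rw [← map_smul, ← map_smul, ← map_add, Ideal.toCotangent_eq]
      have e : x * y - algebraMap A B (σ (x * y)) - (x * (y - algebraMap A B (σ y)) + y * (x - algebraMap A B (σ x))) =
          -((x - algebraMap A B (σ x)) * (y - algebraMap A B (σ y))) := by
        rw [map_mul, map_mul]; ring
      simp only [Submodule.coe_add, Submodule.coe_smul, smul_eq_mul]
      rw [e, pow_two]
      exact neg_mem (Ideal.mul_mem_mul (by simp) (by simp)))

theorem secDer_apply {A B : Type u} [CommRing A] [CommRing B] [Algebra A B] (σ : B →ₐ[A] A)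
    (b : RingHom.ker σ) : secDer σ (b : B) = (RingHom.ker σ).toCotangent b := by
  show (RingHom.ker σ).toCotangent _ = _
  refine congrArg _ (Subtype.ext ?_)
  simp [RingHom.mem_ker.mp b.2]

theorem smul_cotangent {A B : Type u} [CommRing A] [CommRing B] [Algebra A B] (σ : B →ₐ[A] A)
    (b : B) (m : (RingHom.ker σ).Cotangent) : b • m = σ b • m := by
  obtain ⟨m, rfl⟩ := (RingHom.ker σ).toCotangent_surjective m
  rw [← algebraMap_smul B (σ b), ← map_smul, ← map_smul, Ideal.toCotangent_eq]
  simp only [Submodule.coe_smul, smul_eq_mul, ← sub_mul]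
  rw [pow_two]
  exact Ideal.mul_mem_mul (by simp) m.2

/-- The square of the kernel of a section has differentials in `ker • Ω`. -/
theorem D_sq_mem {A B : Type u} [CommRing A] [CommRing B] [Algebra A B] {T : Type u} [CommRing T] [Algebra B T]
    [Algebra A T] (J : Ideal B) (K : Ideal T) (hJK : J.map (algebraMap B T) ≤ K) {e : B} (he : e ∈ J ^ 2) :
    KaehlerDifferential.D A T (algebraMap B T e) ∈ K • (⊤ : Submodule T Ω[T⁄A]) := by
  rw [pow_two] at he
  refine Submodule.mul_induction_on he (fun u hu v hv => ?_) (fun u v hu hv => ?_)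
  · rw [map_mul, Derivation.leibniz]
    exact add_mem (Submodule.smul_mem_smul (hJK (Ideal.mem_map_of_mem _ hu)) trivial)
      (Submodule.smul_mem_smul (hJK (Ideal.mem_map_of_mem _ hv)) trivial)
  · rw [map_add, map_add]; exact add_mem hu hv

/-- Let A be a commutative ring (the base V = Spec A) and B₁, B₂ commutative A-algebras (V-schemes X₁,
X₂) with A-algebra maps σ₁ : B₁ → A and σ₂ : B₂ → A (sections s₁, s₂ of the structure maps, closed
immersions with ideals b₁ = ker σ₁, b₂ = ker σ₂), and let B₂ → B₁ be an A-algebra map (a V-morphism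
f : X₁ → X₂) with σ₁ ∘ (B₂ → B₁) = σ₂ (f s₁ = s₂). Assume B₁ is finitely presented over A and smooth
over A at every prime containing b₁ (r₁ smooth along s₁(V)), B₂ is of finite type over A, and the
induced map b₂/b₂² → b₁/b₁² of conormal modules is bijective. Then B₂ → B₁ is étale at every prime
of B₁ containing b₁ (f étale along s₁(V)). (The published statement puts no finiteness condition on
B₂ over A, and in that generality the conclusion fails: over a field k, the square-zero extension of
k[x] by k[x, 1/x] mapping onto k[y] by x ↦ y, with the zero sections, satisfies every other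
hypothesis and is not étale at the origin. Here B₂ is assumed of finite type over A.) -/
theorem result (A B₁ B₂ : Type u)
    [CommRing A] [CommRing B₁] [CommRing B₂] [Algebra A B₁] [Algebra A B₂] [Algebra B₂ B₁]
    [IsScalarTower A B₂ B₁] [Algebra.FinitePresentation A B₁] [Algebra.FiniteType A B₂]
    (σ₁ : B₁ →ₐ[A] A) (σ₂ : B₂ →ₐ[A] A) (hσ : σ₁.comp (IsScalarTower.toAlgHom A B₂ B₁) = σ₂)
    (hle : RingHom.ker σ₂ ≤ (RingHom.ker σ₁).comap (IsScalarTower.toAlgHom A B₂ B₁))
    (hcot : Function.Bijective
      (Ideal.mapCotangent (RingHom.ker σ₂) (RingHom.ker σ₁) (IsScalarTower.toAlgHom A B₂ B₁) hle))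
    (hsm : ∀ (P : Ideal B₁) [P.IsPrime], RingHom.ker σ₁ ≤ P → Algebra.IsSmoothAt A P)
    (P : Ideal B₁) [P.IsPrime] (hP : RingHom.ker σ₁ ≤ P) : Algebra.IsEtaleAt B₂ P := by
  classical
  let φ : B₂ →ₐ[A] B₁ := IsScalarTower.toAlgHom A B₂ B₁
  have hσ' : ∀ y, σ₁ (algebraMap B₂ B₁ y) = σ₂ y := fun y => AlgHom.congr_fun hσ y
  let T := Localization.AtPrime P
  let amT := algebraMap B₁ T
  haveI hsmT : Algebra.FormallySmooth A T := hsm P hP
  haveI : Algebra.EssFiniteType A B₁ := inferInstance
  haveI : Module.Free T Ω[T⁄A] := Module.free_of_flat_of_isLocalRing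
  haveI : Module.FinitePresentation T Ω[T⁄A] := Module.finitePresentation_of_projective T _
  have hPm : P.map amT = IsLocalRing.maximalIdeal T := Localization.AtPrime.map_eq_maximalIdeal
  let v : RingHom.ker σ₂ → Ω[T⁄A] := fun b => KaehlerDifferential.D A T (amT (algebraMap B₂ B₁ b))
  have hv : Submodule.span T (Set.range v) = ⊤ := by
    refine top_le_iff.mp (Submodule.le_of_le_smul_of_le_jacobson_bot Module.Finite.fg_top
      (IsLocalRing.maximalIdeal_le_jacobson ⊥) ?_)
    let loc := KaehlerDifferential.map A A B₁ T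
    have hloc : Submodule.span T (Set.range loc) = ⊤ := by
      refine top_le_iff.mp fun w _ => ?_
      obtain ⟨⟨w', s⟩, hw⟩ := IsLocalizedModule.surj P.primeCompl loc w
      obtain ⟨u, hu⟩ := (IsLocalization.map_units T s).exists_left_inv
      have hw' : amT s • w = loc w' := (algebraMap_smul T (s : B₁) w).trans hw
      rw [← one_smul T w, ← hu, mul_smul, hw']
      exact Submodule.smul_mem _ _ (Submodule.subset_span ⟨w', rfl⟩)
    refine hloc.symm.le.trans (Submodule.span_le.mpr ?_)
    rintro _ ⟨w, rfl⟩
    have hw : w ∈ Submodule.span B₁ (Set.range (KaehlerDifferential.D A B₁)) := by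
      rw [KaehlerDifferential.span_range_derivation]; trivial
    induction hw using Submodule.span_induction with
    | mem x hx =>
      obtain ⟨x, rfl⟩ := hx
      rw [SetLike.mem_coe, KaehlerDifferential.map_D]
      let b₁ : RingHom.ker σ₁ := ⟨x - algebraMap A B₁ (σ₁ x), by simp⟩
      obtain ⟨c, hc⟩ := hcot.2 ((RingHom.ker σ₁).toCotangent b₁)
      obtain ⟨⟨y, hy⟩, rfl⟩ := (RingHom.ker σ₂).toCotangent_surjective c
      rw [Ideal.mapCotangent_toCotangent, Ideal.toCotangent_eq] at hc
      have e : amT x = amT (algebraMap B₂ B₁ y) - amT (algebraMap B₂ B₁ y - b₁.1) + algebraMap A T (σ₁ x) := by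
        rw [IsScalarTower.algebraMap_apply A B₁ T, ← map_sub, ← map_add]
        congr 1
        simp [b₁]
      rw [show algebraMap B₁ T x = amT x from rfl, e, map_add, map_sub, Derivation.map_algebraMap, add_zero]
      refine sub_mem (Submodule.mem_sup_left (Submodule.subset_span ⟨⟨y, hy⟩, rfl⟩)) (Submodule.mem_sup_right ?_)
      exact D_sq_mem (A := A) (T := T) (RingHom.ker σ₁) _ ((Ideal.map_mono hP).trans hPm.le) hc
    | zero => rw [map_zero]; exact zero_mem _
    | add x y _ _ hx hy => rw [map_add]; exact add_mem hx hy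
    | smul c x _ hx => rw [map_smul, ← algebraMap_smul T c]; exact Submodule.smul_mem _ _ hx
  obtain ⟨κ, a, bas, hbas⟩ := Module.exists_basis_of_span_of_flat v hv
  haveI : Finite κ := Module.Finite.finite_basis bas
  haveI : Fintype κ := Fintype.ofFinite κ
  let z : κ → RingHom.ker σ₂ := a
  -- the key relation in the conormal module
  have hrel : ∀ b : RingHom.ker σ₂, ∃ (c : A) (α : κ → A), algebraMap A B₁ c ∉ P ∧
      c • (b : B₂) - ∑ j, α j • (z j : B₂) ∈ RingHom.ker σ₂ ^ 2 := by
    intro b
    obtain ⟨d, hd⟩ := IsLocalization.exist_integer_multiples_of_finite P.primeCompl (fun j => bas.repr (v b) j)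
    choose β hβ using hd
    let loc := KaehlerDifferential.map A A B₁ T
    let w0 := KaehlerDifferential.D A B₁ (algebraMap B₂ B₁ b)
    let w := fun j => KaehlerDifferential.D A B₁ (algebraMap B₂ B₁ (z j))
    have h1 : loc ((d : B₁) • w0) = loc (∑ j, β j • w j) := by
      rw [map_smul, map_sum, show loc w0 = v b from KaehlerDifferential.map_D _ _ _ _ _]
      conv_lhs => rw [← bas.sum_repr (v b), Finset.smul_sum]
      refine Finset.sum_congr rfl fun j _ => ?_
      rw [map_smul, show loc (w j) = v (z j) from KaehlerDifferential.map_D _ _ _ _ _, hbas, ← algebraMap_smul T (β j),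
        ← algebraMap_smul T (d : B₁), smul_smul]
      congr 1
      exact (hβ j).trans (Algebra.smul_def _ _) |>.symm
    obtain ⟨u, hu⟩ := (IsLocalizedModule.eq_iff_exists P.primeCompl loc).mp h1
    let L := (secDer σ₁).liftKaehlerDifferential
    have hL : ∀ y : RingHom.ker σ₂, L (KaehlerDifferential.D A B₁ (algebraMap B₂ B₁ y)) =
        (Ideal.mapCotangent (RingHom.ker σ₂) (RingHom.ker σ₁) (IsScalarTower.toAlgHom A B₂ B₁) hle) ((RingHom.ker σ₂).toCotangent y) := by
      intro y
      rw [Derivation.liftKaehlerDifferential_comp_D, Ideal.mapCotangent_toCotangent]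
      exact secDer_apply σ₁ ⟨algebraMap B₂ B₁ y, hle y.2⟩
    have h2 := congrArg L hu
    simp only [Submonoid.smul_def, map_smul, map_sum, Finset.smul_sum, smul_smul, w0, w, hL, smul_cotangent σ₁] at h2
    simp only [← map_smul, ← map_sum] at h2
    have h3 := hcot.1 h2
    simp only [← algebraMap_smul B₂ (σ₁ _), ← map_smul, ← map_sum] at h3
    rw [Ideal.toCotangent_eq] at h3
    refine ⟨σ₁ ((u : B₁) * (d : B₁)), fun j => σ₁ ((u : B₁) * β j), fun h => ?_, ?_⟩
    · have h4 : (u : B₁) * (d : B₁) - algebraMap A B₁ (σ₁ ((u : B₁) * (d : B₁))) ∈ P := hP (by simp)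
      have h5 := add_mem h4 h
      rw [sub_add_cancel] at h5
      exact (P.primeCompl.mul_mem u.2 d.2) h5
    · simpa [Algebra.smul_def] using h3
  -- the affine space
  let C := MvPolynomial κ A
  let χ : C →ₐ[A] B₂ := MvPolynomial.aeval fun j => (z j : B₂)
  letI : Algebra C B₂ := χ.toRingHom.toAlgebra
  letI : Algebra C B₁ := ((algebraMap B₂ B₁).comp χ.toRingHom).toAlgebra
  haveI : IsScalarTower A C B₂ := .of_algebraMap_eq fun x => (χ.commutes x).symm
  haveI : IsScalarTower C B₂ B₁ := .of_algebraMap_eq fun x => rfl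
  haveI : IsScalarTower A C B₁ := .of_algebraMap_eq fun x => by
    rw [IsScalarTower.algebraMap_apply A B₂ B₁, IsScalarTower.algebraMap_apply A C B₂]; rfl
  haveI : IsScalarTower A C T := .of_algebraMap_eq fun x => by
    rw [IsScalarTower.algebraMap_apply A B₁ T, IsScalarTower.algebraMap_apply A C B₁,
      ← IsScalarTower.algebraMap_apply C B₁ T]
  haveI : Algebra.FormallyEtale C T := by
    refine formallyEtale_of_bijective_mapBaseChange A C T ?_
    let B0 := (KaehlerDifferential.mvPolynomialBasis A κ).baseChange T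
    have : KaehlerDifferential.mapBaseChange A C T = (B0.equiv bas (Equiv.refl κ)).toLinearMap := by
      refine B0.ext fun j => ?_
      rw [LinearEquiv.coe_coe, Module.Basis.equiv_apply, Equiv.refl_apply, hbas, Module.Basis.baseChange_apply,
        KaehlerDifferential.mvPolynomialBasis_apply, KaehlerDifferential.mapBaseChange_tmul, one_smul,
        KaehlerDifferential.map_D, IsScalarTower.algebraMap_apply C B₁ T]
      simp [v, amT, z, RingHom.algebraMap_toAlgebra, χ]
      rw [MvPolynomial.aeval_X]
    rw [this]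
    exact (B0.equiv bas (Equiv.refl κ)).bijective
  let q : Ideal B₂ := P.comap (algebraMap B₂ B₁)
  let S₂ := Localization.AtPrime q
  have hq : RingHom.ker σ₂ ≤ q := fun y hy => hP (hle hy)
  have hqm : q.map (algebraMap B₂ S₂) = IsLocalRing.maximalIdeal S₂ := Localization.AtPrime.map_eq_maximalIdeal
  haveI : Algebra.EssFiniteType A B₂ := inferInstance
  haveI : IsScalarTower A C S₂ := .of_algebraMap_eq fun x => by
    rw [IsScalarTower.algebraMap_apply A B₂ S₂, IsScalarTower.algebraMap_apply A C B₂,
      ← IsScalarTower.algebraMap_apply C B₂ S₂]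
  haveI : Algebra.EssFiniteType C S₂ := Algebra.EssFiniteType.of_comp A C S₂
  haveI : Algebra.FormallyUnramified C S₂ := by
    have hle' : (⊤ : Submodule S₂ Ω[S₂⁄C]) ≤ IsLocalRing.maximalIdeal S₂ • ⊤ := by
      let loc := KaehlerDifferential.map C C B₂ S₂
      intro x _
      obtain ⟨⟨x', s⟩, hx⟩ := IsLocalizedModule.surj q.primeCompl loc x
      obtain ⟨u, hu⟩ := (IsLocalization.map_units S₂ s).exists_left_inv
      have hx1 : algebraMap B₂ S₂ s • x = loc x' := (algebraMap_smul S₂ (s : B₂) x).trans hx
      rw [← one_smul S₂ x, ← hu, mul_smul, hx1]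
      refine Submodule.smul_mem _ _ ?_
      have hx' : x' ∈ Submodule.span B₂ (Set.range (KaehlerDifferential.D C B₂)) := by
        rw [KaehlerDifferential.span_range_derivation]; trivial
      clear hx hx1
      induction hx' using Submodule.span_induction with
      | mem y hy =>
        obtain ⟨y, rfl⟩ := hy
        rw [KaehlerDifferential.map_D]
        let b : RingHom.ker σ₂ := ⟨y - algebraMap A B₂ (σ₂ y), by simp⟩
        obtain ⟨c, α, hc, hcb⟩ := hrel b
        have hzero : ∀ (r : A) (j : κ), KaehlerDifferential.D C S₂ (algebraMap B₂ S₂ (r • (z j : B₂))) = 0 := by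
          intro r j
          have : algebraMap B₂ S₂ (r • (z j : B₂)) = algebraMap C S₂ (r • MvPolynomial.X j) := by
            rw [IsScalarTower.algebraMap_apply C B₂ S₂]
            congr 1
            simp [RingHom.algebraMap_toAlgebra, χ]
            rw [MvPolynomial.aeval_X]
          rw [this, Derivation.map_algebraMap]
        have h6 : KaehlerDifferential.D C S₂ (algebraMap B₂ S₂ (c • (b : B₂))) ∈ IsLocalRing.maximalIdeal S₂ • (⊤ : Submodule S₂ Ω[S₂⁄C]) := by
          have e : c • (b : B₂) = (c • (b : B₂) - ∑ j, α j • (z j : B₂)) + ∑ j, α j • (z j : B₂) := by ring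
          rw [e, map_add, map_add, map_sum, map_sum, Finset.sum_eq_zero (fun j _ => hzero (α j) j), add_zero]
          exact D_sq_mem (RingHom.ker σ₂) _ ((Ideal.map_mono hq).trans hqm.le) hcb
        have hcu : IsUnit (algebraMap B₂ S₂ (algebraMap A B₂ c)) := IsLocalization.map_units S₂
          (⟨algebraMap A B₂ c, fun h => hc (by rw [IsScalarTower.algebraMap_apply A B₂ B₁]; exact h)⟩ : q.primeCompl)
        have hconst : ∀ r : A, KaehlerDifferential.D C S₂ (algebraMap B₂ S₂ (algebraMap A B₂ r)) = 0 := by
          intro r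
          rw [IsScalarTower.algebraMap_apply A C B₂, ← IsScalarTower.algebraMap_apply C B₂ S₂, Derivation.map_algebraMap]
        rw [Algebra.smul_def, map_mul, Derivation.leibniz, hconst, smul_zero, add_zero] at h6
        obtain ⟨ci, hci⟩ := hcu.exists_left_inv
        have h7 := Submodule.smul_mem _ ci h6
        rw [smul_smul, hci, one_smul] at h7
        simpa [b, hconst] using h7
      | zero => rw [map_zero]; exact zero_mem _
      | add y y' _ _ hy hy' => rw [map_add]; exact add_mem hy hy'
      | smul r y _ hy => rw [map_smul, ← algebraMap_smul S₂ r]; exact Submodule.smul_mem _ _ hy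
    have := Submodule.eq_bot_of_le_smul_of_le_jacobson_bot _ _ Module.Finite.fg_top hle'
      (IsLocalRing.maximalIdeal_le_jacobson ⊥)
    exact (Algebra.formallyUnramified_iff C S₂).mpr ⟨fun x y => by
      have hx : x ∈ (⊤ : Submodule S₂ Ω[S₂⁄C]) := trivial
      have hy : y ∈ (⊤ : Submodule S₂ Ω[S₂⁄C]) := trivial
      rw [this, Submodule.mem_bot] at hx hy
      rw [hx, hy]⟩
  letI : Algebra S₂ T := (Localization.localRingHom q P (algebraMap B₂ B₁) rfl).toAlgebra
  haveI : IsScalarTower B₂ S₂ T := .of_algebraMap_eq fun x => by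
    rw [RingHom.algebraMap_toAlgebra, Localization.localRingHom_to_map, ← IsScalarTower.algebraMap_apply]
  haveI : IsScalarTower C S₂ T := .of_algebraMap_eq fun x => by
    rw [IsScalarTower.algebraMap_apply C B₂ S₂, ← IsScalarTower.algebraMap_apply B₂ S₂ T,
      IsScalarTower.algebraMap_apply C B₁ T, IsScalarTower.algebraMap_apply C B₂ B₁,
      ← IsScalarTower.algebraMap_apply B₂ B₁ T]
  haveI : Algebra.FormallyEtale S₂ T := Algebra.FormallyEtale.of_restrictScalars (R := C)
  haveI : Algebra.FormallyEtale B₂ S₂ := Algebra.FormallyEtale.of_isLocalization q.primeCompl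
  exact Algebra.FormallyEtale.comp B₂ S₂ T

end Groth.Agent.S18962
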