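import Groth.Statements.S19004
import Mathlib

set_option autoImplicit false
open GIT

namespace Groth.Agent.S19004

/-- For the group PGL(n) acting on the space of n × n matrices the T-quotient is (P^{n−1})^n with Chow
ring ℚ[t_1,…,t_n]/(t_1^n,…,t_n^n), the class c_top(g/t) is the product of all roots t_i − t_j (i ≠
j), and the computation in the proof shows that this product equals n!·t_1^{n−1}⋯t_n^{n−1} in that
ring. Stated here as the equivalent coefficient identity in ℤ[t_1,…,t_n]: the coefficient of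
t_1^{n−1}⋯t_n^{n−1} in the product over ordered pairs i ≠ j of (t_i − t_j) is n!. -/
theorem result (n : ℕ) :
    MvPolynomial.coeff (Finsupp.equivFunOnFinite.symm (fun _ : Fin n => n - 1))
      (∏ i : Fin n, ∏ j ∈ Finset.univ.erase i, (MvPolynomial.X i - MvPolynomial.X j : MvPolynomial (Fin n) ℤ)) = (n.factorial : ℤ) := by
  classical
  set A : MvPolynomial (Fin n) ℤ := ∏ i : Fin n, ∏ j ∈ Finset.Ioi i, (MvPolynomial.X i - MvPolynomial.X j) with hA
  set B : MvPolynomial (Fin n) ℤ := ∏ i : Fin n, ∏ j ∈ Finset.Ioi i, (MvPolynomial.X j - MvPolynomial.X i) with hB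
  have hsplit : (∏ i : Fin n, ∏ j ∈ Finset.univ.erase i, (MvPolynomial.X i - MvPolynomial.X j : MvPolynomial (Fin n) ℤ)) = A * B := by
    have : ∀ i : Fin n, Finset.univ.erase i = Finset.Ioi i ∪ Finset.Iio i := fun i => by
      ext j; simp [lt_or_lt_iff_ne, ne_comm]
    simp only [this, Finset.prod_union (Finset.disjoint_left.mpr fun x h1 h2 => (lt_asymm (Finset.mem_Ioi.mp h1)) (Finset.mem_Iio.mp h2)), Finset.prod_mul_distrib]
    congr 1
    rw [hB, Finset.prod_comm' (t' := Finset.univ) (s' := fun j => Finset.Ioi j)]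
    simp
  have hdB : B = (Matrix.vandermonde (fun i => (MvPolynomial.X i : MvPolynomial (Fin n) ℤ))).det := (Matrix.det_vandermonde _).symm
  have hdA : A = (Matrix.projVandermonde (fun _ => (1 : MvPolynomial (Fin n) ℤ)) (fun i => MvPolynomial.X i)).det := by
    rw [Matrix.det_projVandermonde]; simp [hA]
  have hmono : ∀ (σ : Equiv.Perm (Fin n)) (g : Fin n → ℕ), (∏ i, (MvPolynomial.X (σ i) : MvPolynomial (Fin n) ℤ) ^ g i) = MvPolynomial.monomial (Finsupp.equivFunOnFinite.symm fun j => g (σ⁻¹ j)) 1 := by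
    intro σ g
    rw [← Equiv.prod_comp σ⁻¹, MvPolynomial.monomial_eq]
    simp [Finsupp.prod_fintype]
  rw [hsplit, hdA, hdB, Matrix.det_apply, Matrix.det_apply, Finset.sum_mul_sum]
  simp only [Matrix.projVandermonde_apply, Matrix.vandermonde_apply, one_pow, one_mul, hmono, smul_mul_smul_comm, MvPolynomial.monomial_mul, MvPolynomial.coeff_sum, MvPolynomial.coeff_smul, MvPolynomial.coeff_monomial]
  have hkey : ∀ σ τ : Equiv.Perm (Fin n), ((Finsupp.equivFunOnFinite.symm fun j => ((Fin.rev (σ⁻¹ j)) : ℕ)) + (Finsupp.equivFunOnFinite.symm fun j => ((τ⁻¹ j : Fin n) : ℕ)) = Finsupp.equivFunOnFinite.symm (fun _ : Fin n => n - 1)) ↔ τ = σ := by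
    intro σ τ
    constructor
    · intro h
      apply inv_injective
      ext j
      have := DFunLike.congr_fun h j
      simp [Fin.val_rev] at this
      show ((τ⁻¹ : Equiv.Perm (Fin n)) j : ℕ) = _
      have h2 := ((σ⁻¹ : Equiv.Perm (Fin n)) j).isLt
      simp only [Equiv.Perm.inv_def] at *
      omega
    · rintro rfl
      ext j
      have h2 := ((τ⁻¹ : Equiv.Perm (Fin n)) j).isLt
      simp [Fin.val_rev]
      simp only [Equiv.Perm.inv_def] at *
      omega
  simp only [hkey]
  simp [Finset.sum_ite_eq', ← mul_smul, Fintype.card_perm]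

end Groth.Agent.S19004
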