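import Groth.Statements.S19005
import Mathlib

set_option autoImplicit false
open scoped TensorProduct
open K2Cent

namespace Groth.Agent.S19005

/-- For abelian groups X and M and ε in M with 2ε = 0 (in the source X is the character group of a split
torus and ε is the class of −1 among the units), the map x ↦ (x ⊗ x, −(x ⊗ ε)) into (X ⊗ X) × (X ⊗
M) is quadratic over ℤ, i.e. it underlies an integer quadratic map with exactly these values. -/
theorem result (X M : Type*) [AddCommGroup X]
    [AddCommGroup M] (ε : M) (hε : 2 • ε = 0) :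
    ∃ R : QuadraticMap ℤ X (TensorProduct ℤ X X × TensorProduct ℤ X M),
      ∀ x : X, R x = (x ⊗ₜ[ℤ] x, -(x ⊗ₜ[ℤ] ε)) := by
  let Q1 : QuadraticMap ℤ X (TensorProduct ℤ X X) :=
    LinearMap.BilinMap.toQuadraticMap (TensorProduct.mk ℤ X X)
  let Q2 : QuadraticMap ℤ X (TensorProduct ℤ X M) :=
    { toFun := fun x => -(x ⊗ₜ[ℤ] ε)
      toFun_smul := by
        intro a x
        have h2 : (2:ℤ) • ε = 0 := by rw [show (2:ℤ) = ((2:ℕ):ℤ) from rfl, natCast_zsmul]; exact hε
        obtain ⟨c, hc⟩ : (2:ℤ) ∣ a * a - a := by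
          have h := Int.even_mul_succ_self (a-1)
          rw [show (a-1) * (a-1+1) = a*a - a by ring] at h
          exact even_iff_two_dvd.mp h
        have h3 : (x ⊗ₜ[ℤ] ((a * a - a) • ε)) = (0 : TensorProduct ℤ X M) := by
          rw [hc, mul_comm, mul_smul, h2, smul_zero, TensorProduct.tmul_zero]
        rw [TensorProduct.tmul_smul, sub_smul, sub_eq_zero] at h3
        show -((a • x) ⊗ₜ[ℤ] ε) = (a * a) • -(x ⊗ₜ[ℤ] ε)
        rw [← TensorProduct.smul_tmul', smul_neg, h3]
      exists_companion' := ⟨0, fun x y => by simp [TensorProduct.add_tmul]; abel⟩ }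
  exact ⟨(LinearMap.inl ℤ _ _).compQuadraticMap Q1 + (LinearMap.inr ℤ _ _).compQuadraticMap Q2,
    fun x => by simp [Q1, Q2]; rfl⟩

end Groth.Agent.S19005
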