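import Groth.Statements.S19006
import Mathlib

set_option autoImplicit false
universe u v w x
open RootD

namespace Groth.Agent.S19006

/-- For a root pairing over an integral domain of characteristic zero, a quadratic form Q on the
coweight module N with polar form B, and a root α with coroot α^∨, the form Q is invariant under the
reflection attached to α acting on N if and only if B(y, α^∨) = ⟨α, y⟩ Q(α^∨) for all y in N. (The
source states this for integer-valued forms on the cocharacter lattice of a split reductive group;
here the form takes values in the base ring of the pairing.) -/
theorem result {ι : Type u} {R : Type v} {M : Type w} {N : Type x} [CommRing R] [IsDomain R] [CharZero R]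
    [AddCommGroup M] [Module R M] [AddCommGroup N] [Module R N] (P : RootPairing ι R M N)
    (Q : QuadraticMap R N R) (j : ι) :
    (∀ y : N, Q (P.coreflection j y) = Q y) ↔
      ∀ y : N, QuadraticMap.polar Q y (P.coroot j) = P.root' j y * Q (P.coroot j) := by
  have hB : ∀ (y : N) (a : R), Q (y + a • P.coroot j) = Q y + a * a * Q (P.coroot j) + a * QuadraticMap.polar Q y (P.coroot j) := fun y a => by
    rw [QuadraticMap.map_add (⇑Q) y (a • P.coroot j), Q.map_smul, QuadraticMap.polar_smul_right, smul_eq_mul, smul_eq_mul]
  have hc : ∀ y : N, Q (P.coreflection j y) = Q y + P.root' j y * P.root' j y * Q (P.coroot j) - P.root' j y * QuadraticMap.polar Q y (P.coroot j) := fun y => by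
    rw [RootPairing.coreflection_apply, sub_eq_add_neg, ← neg_smul, hB]
    ring
  constructor
  · intro h y
    by_cases ha : P.root' j y = 0
    · rw [ha, zero_mul]
      have h1 := h (y + P.coroot j)
      have h2 : P.root' j (y + P.coroot j) = 2 := by rw [map_add, ha, zero_add]; exact P.root_coroot_two j
      rw [hc, h2, QuadraticMap.polar_add_left, QuadraticMap.polar_self] at h1
      have : (2 : R) * QuadraticMap.polar Q y (P.coroot j) = 0 := by
        rw [two_smul] at h1
        linear_combination -h1
      exact (mul_eq_zero.1 this).resolve_left two_ne_zero
    · have h1 := h y
      rw [hc] at h1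
      apply mul_left_cancel₀ ha
      linear_combination -h1
  · intro h y
    rw [hc, h]
    ring

end Groth.Agent.S19006
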