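import Groth.Statements.S19008
import Mathlib

set_option autoImplicit false
set_option backward.isDefEq.respectTransparency.types false
set_option maxHeartbeats 1000000
set_option linter.all false
universe u v w x
open RootD

namespace Groth.Agent.S19008
open Groth.Agent

/-- Let P be a finite reduced crystallographic root pairing over an integral domain of characteristic
zero and b a base (simple roots α_i, i in the support of b), with Cartan integers a_ij = ⟨α_i,
α_j^∨⟩. An integer-valued bilinear form C on the lattice with basis the simple coroots is an integer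
matrix C_ij = C(α_i^∨, α_j^∨), and the component of the last map of the complex at the pair (i, j),
i ≠ j, is C ↦ C(α_i^∨, α_j^∨) + C(α_j^∨, s_j(α_i^∨)) = C_ij + C_ji − a_ji C_jj; the pairs (i, j) and
(j, i) index the same component exactly when α_i and α_j are orthogonal. This map is surjective: for
every family of integers d_ij (i ≠ j in the support) with d_ij = d_ji whenever a_ij = 0 there is an
integer matrix C with C_ij + C_ji − a_ji C_jj = d_ij for all i ≠ j in the support. -/
theorem result {ι : Type u} {R : Type v} {M : Type w} {N : Type x} [CommRing R] [IsDomain R] [CharZero R]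
    [AddCommGroup M] [Module R M] [AddCommGroup N] [Module R N] (P : RootPairing ι R M N)
    [Finite ι] [P.IsCrystallographic] [P.IsReduced] (b : P.Base) (d : ι → ι → ℤ)
    (hd : ∀ i ∈ b.support, ∀ j ∈ b.support, i ≠ j → P.pairingIn ℤ i j = 0 → d i j = d j i) :
    ∃ C : ι → ι → ℤ, ∀ i ∈ b.support, ∀ j ∈ b.support, i ≠ j →
      C i j + C j i - P.pairingIn ℤ j i * C j j = d i j := by
    classical
    cases nonempty_fintype ι
    let B := P.posRootForm ℤ
    let a : ι → ι → ℤ := fun i j => P.pairingIn ℤ i j
    let len : ι → ℤ := fun i => B.rootLength i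
    have hlen : ∀ i, 0 < len i := fun i => B.rootLength_pos i
    have hswap : ∀ i j, a j i * len i = a i j * len j := fun i j => B.pairingIn_mul_eq_pairingIn_mul_swap i j
    have hz : ∀ i j, a i j = 0 → a j i = 0 := fun i j h => by
      have := hswap i j
      rw [h, zero_mul] at this
      exact (mul_eq_zero.1 this).resolve_right (hlen i).ne'
    let r : ι → P.rootSpan ℤ := fun i => P.rootSpanMem ℤ i
    have h2 : ∀ i j, 2 * B.posForm (r i) (r j) = a i j * len j := fun i j => by
      apply FaithfulSMul.algebraMap_injective ℤ R
      show algebraMap ℤ R (2 * B.posForm (r i) (r j)) = algebraMap ℤ R (P.pairingIn ℤ i j * B.rootLength j)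
      rw [map_mul, map_mul, B.algebraMap_posForm, P.algebraMap_pairingIn, B.algebraMap_rootLength, map_ofNat]
      exact B.toInvariantForm.two_mul_apply_root_root i j
    have hdiag : ∀ i, B.posForm (r i) (r i) = len i := fun i => rfl
    have hleaf : ∀ T : Finset ι, T ⊆ b.support → T.Nonempty → ∃ i ∈ T, -1 ≤ ∑ j ∈ T.erase i, a i j := by
      intro T hT hne
      by_contra hcon
      push Not at hcon
      let c : ι → ℤ := fun i => ∏ k ∈ T.erase i, len k
      have hc : ∀ i, 0 < c i := fun i => Finset.prod_pos fun k _ => hlen k
      have hcl : ∀ i ∈ T, c i * len i = ∏ k ∈ T, len k := fun i hi => by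
        rw [mul_comm]; exact Finset.mul_prod_erase T len hi
      let v : P.rootSpan ℤ := ∑ i ∈ T, c i • r i
      have hv : v ≠ 0 := by
        intro hv
        obtain ⟨i₀, hi₀⟩ := hne
        have hli := linearIndependent_iff'.1 b.linearIndependentInt (T.subtype (· ∈ b.support)) (fun i => c i.1)
          (by rw [Finset.sum_subtype_of_mem (fun i => c i • r i) fun i hi => hT hi]; exact hv) ⟨i₀, hT hi₀⟩ (by simpa using hi₀)
        exact (hc i₀).ne' hli
      have hpos := P.posRootForm_posForm_pos_of_ne_zero ℤ hv
      have hexp : 2 * B.posForm v v = ∑ i ∈ T, c i * ∑ j ∈ T, c j * (a i j * len j) := by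
        simp only [v, map_sum, map_smul, LinearMap.sum_apply, LinearMap.smul_apply, smul_eq_mul,
          Finset.mul_sum, ← h2]
        rw [Finset.sum_comm]
        exact Finset.sum_congr rfl fun i _ => Finset.sum_congr rfl fun j _ => by ring
      have hle : 2 * B.posForm v v ≤ 0 := by
        rw [hexp]
        refine Finset.sum_nonpos fun i hi => mul_nonpos_of_nonneg_of_nonpos (hc i).le ?_
        rw [← Finset.add_sum_erase T _ hi]
        have hii : a i i = 2 := by simp [a]
        have h1 : ∑ j ∈ T.erase i, c j * (a i j * len j) = (∏ k ∈ T, len k) * ∑ j ∈ T.erase i, a i j := by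
          rw [Finset.mul_sum]
          refine Finset.sum_congr rfl fun j hj => ?_
          rw [← hcl j (Finset.mem_of_mem_erase hj)]; ring
        rw [h1, hii, show c i * (2 * len i) = (c i * len i) * 2 by ring, hcl i hi, ← mul_add]
        exact mul_nonpos_of_nonneg_of_nonpos (Finset.prod_pos fun k _ => hlen k).le (by linarith [hcon i hi])
      have hpos' : 0 < B.posForm v v := hpos
      linarith
    have solve : ∀ T : Finset ι, T ⊆ b.support → ∃ y : ι → ℤ, ∀ i ∈ T, ∀ j ∈ T, i ≠ j →
        a j i * y j - a i j * y i = d j i - d i j := by
      intro T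
      induction T using Finset.strongInduction with
      | H T ih =>
        intro hT
        by_cases hne : T.Nonempty
        · obtain ⟨i, hi, hsum⟩ := hleaf T hT hne
          obtain ⟨y, hy⟩ := ih (T.erase i) (Finset.erase_ssubset hi) ((Finset.erase_subset i T).trans hT)
          have hnp : ∀ j ∈ T.erase i, a i j ≤ 0 := fun j hj =>
            b.pairingIn_le_zero_of_ne (Finset.ne_of_mem_erase hj).symm (hT hi) (hT (Finset.mem_of_mem_erase hj))
          have key : ∃ z, ∀ j ∈ T.erase i, a j i * y j - a i j * z = d j i - d i j := by
            by_cases hex : ∃ j ∈ T.erase i, a i j ≠ 0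
            · obtain ⟨j, hj, hj0⟩ := hex
              have hsp := Finset.add_sum_erase (T.erase i) (a i) hj
              have hrest : ∑ k ∈ (T.erase i).erase j, a i k ≤ 0 :=
                Finset.sum_nonpos fun k hk => hnp k (Finset.mem_of_mem_erase hk)
              have hj1 : a i j = -1 := by have := hnp j hj; omega
              refine ⟨d j i - d i j - a j i * y j, fun k hk => ?_⟩
              by_cases hkj : k = j
              · subst hkj; rw [hj1]; ring
              · have hk0 : a i k = 0 := by
                  have h1 := Finset.add_sum_erase ((T.erase i).erase j) (a i) (Finset.mem_erase.2 ⟨hkj, hk⟩)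
                  have h3 : ∑ x ∈ ((T.erase i).erase j).erase k, a i x ≤ 0 :=
                    Finset.sum_nonpos fun x hx => hnp x (Finset.mem_of_mem_erase (Finset.mem_of_mem_erase hx))
                  have := hnp k hk; omega
                have h4 := hd i (hT hi) k (hT (Finset.mem_of_mem_erase hk)) (Finset.ne_of_mem_erase hk).symm hk0
                rw [hz i k hk0, hk0, h4]; ring
            · push Not at hex
              refine ⟨0, fun k hk => ?_⟩
              have h4 := hd i (hT hi) k (hT (Finset.mem_of_mem_erase hk)) (Finset.ne_of_mem_erase hk).symm (hex k hk)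
              rw [hz i k (hex k hk), hex k hk, h4]; ring
          obtain ⟨z, hzz⟩ := key
          refine ⟨Function.update y i z, fun p hp q hq hpq => ?_⟩
          by_cases hpi : p = i
          · subst hpi
            rw [Function.update_self, Function.update_of_ne hpq.symm]
            exact hzz q (Finset.mem_erase.2 ⟨hpq.symm, hq⟩)
          · by_cases hqi : q = i
            · subst hqi
              rw [Function.update_self, Function.update_of_ne hpi]
              have := hzz p (Finset.mem_erase.2 ⟨hpi, hp⟩)
              linarith
            · rw [Function.update_of_ne hpi, Function.update_of_ne hqi]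
              exact hy p (Finset.mem_erase.2 ⟨hpi, hp⟩) q (Finset.mem_erase.2 ⟨hqi, hq⟩) hpq
        · exact ⟨0, fun i hi => (hne ⟨i, hi⟩).elim⟩
    obtain ⟨y, hy⟩ := solve b.support subset_rfl
    let e := Fintype.equivFin ι
    refine ⟨fun i j => if i = j then y i else if e i < e j then d i j + a j i * y j else 0, fun i hi j hj hij => ?_⟩
    have hne : e i ≠ e j := fun h => hij (e.injective h)
    simp only [if_neg hij, if_neg hij.symm, ite_true]
    show _ - a j i * y j = d i j
    rcases lt_or_gt_of_ne hne with h | h
    · rw [if_pos h, if_neg h.asymm]; ring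
    · rw [if_neg h.asymm, if_pos h]
      have := hy i hi j hj hij
      linarith

end Groth.Agent.S19008
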