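import Groth.Statements.S19019
import Mathlib

set_option autoImplicit false
open scoped ComplexOrder
open Toeplitz

namespace Groth.Agent.S19019

open scoped ComplexOrder Matrix

/-- Let A be an m × m complex Hermitian Toeplitz matrix, with entries A i j = t (j - i) constant along
diagonals, and let f(y) = Σ_{-m < k < m} t k · exp(i k y) be the trigonometric polynomial attached
to it. If f has positive real part at every real y outside a countable set, then A is positive
definite (hence nondegenerate). (The source also states the mirror case: f negative off a countable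
set gives A negative definite, which is this statement for -A.) -/
theorem result
    (m : ℕ) (t : ℤ → ℂ) (A : Matrix (Fin m) (Fin m) ℂ)
    (hA : ∀ i j : Fin m, A i j = t ((j : ℤ) - (i : ℤ))) (hH : A.IsHermitian)
    (hpos : Set.Countable {y : ℝ | ¬ 0 < (∑ k ∈ Finset.Ioo (-(m : ℤ)) (m : ℤ),
        t k * Complex.exp (Complex.I * (k : ℂ) * (y : ℂ))).re}) :
    A.PosDef := by
  classical
  refine Matrix.PosDef.of_dotProduct_mulVec_pos hH fun x hx => ?_
  let P : ℝ → ℂ := fun y => ∑ k ∈ Finset.Ioo (-(m : ℤ)) (m : ℤ), t k * Complex.exp (Complex.I * (k : ℂ) * (y : ℂ))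
  let q : ℝ → ℂ := fun y => ∑ l : Fin m, x l * Complex.exp (Complex.I * (-(l : ℤ) : ℤ) * (y : ℂ))
  set Q := star x ⬝ᵥ (A.mulVec x) with hQ
  have hQim : Q.im = 0 := hH.im_star_dotProduct_mulVec_self x
  have hint : ∀ n : ℤ, (∫ y in (0 : ℝ)..(2 * Real.pi), Complex.exp (Complex.I * (n : ℂ) * (y : ℂ))) = if n = 0 then (2 * Real.pi : ℂ) else 0 := by
    intro n
    split_ifs with h
    · subst h; simp
    · rw [integral_exp_mul_complex (mul_ne_zero Complex.I_ne_zero (Int.cast_ne_zero.2 h))]
      have : Complex.exp (Complex.I * (n : ℂ) * ((2 * Real.pi : ℝ) : ℂ)) = 1 := by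
        rw [← Complex.exp_int_mul_two_pi_mul_I n]; congr 1; push_cast; ring
      rw [this]; simp
  have hexp : ∀ y : ℝ, P y * (starRingEnd ℂ (q y) * q y) =
      ∑ i : Fin m, ∑ j : Fin m, ∑ k ∈ Finset.Ioo (-(m : ℤ)) (m : ℤ),
        (t k * starRingEnd ℂ (x i) * x j) * Complex.exp (Complex.I * ((k + i - j : ℤ) : ℂ) * (y : ℂ)) := by
    intro y
    simp only [P, q, map_sum]
    rw [Finset.sum_mul_sum, Finset.mul_sum]
    refine Finset.sum_congr rfl fun i _ => ?_
    rw [Finset.mul_sum]
    refine Finset.sum_congr rfl fun j _ => ?_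
    rw [Finset.sum_mul]
    refine Finset.sum_congr rfl fun k _ => ?_
    rw [map_mul, ← Complex.exp_conj, map_mul, map_mul, Complex.conj_I, Complex.conj_ofReal, map_intCast,
      show Complex.I * ((k + (i : ℕ) - (j : ℕ) : ℤ) : ℂ) * (y : ℂ) = Complex.I * (k : ℂ) * y + ((-Complex.I) * ((-((i : ℕ) : ℤ) : ℤ) : ℂ) * y + Complex.I * ((-((j : ℕ) : ℤ) : ℤ) : ℂ) * y) by push_cast; ring,
      Complex.exp_add, Complex.exp_add]
    ring
  have hcont : Continuous fun y => P y * (starRingEnd ℂ (q y) * q y) := by
    simp only [P, q]; fun_prop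
  have hI : (∫ y in (0 : ℝ)..(2 * Real.pi), P y * (starRingEnd ℂ (q y) * q y)) = (2 * Real.pi : ℂ) * Q := by
    simp only [hexp]
    rw [intervalIntegral.integral_finsetSum]
    swap
    · intro i _; exact Continuous.intervalIntegrable (by fun_prop) _ _
    rw [hQ, dotProduct, Finset.mul_sum]
    refine Finset.sum_congr rfl fun i _ => ?_
    rw [intervalIntegral.integral_finsetSum]
    swap
    · intro i _; exact Continuous.intervalIntegrable (by fun_prop) _ _
    rw [Matrix.mulVec, dotProduct, Finset.mul_sum, Finset.mul_sum]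
    refine Finset.sum_congr rfl fun j _ => ?_
    rw [intervalIntegral.integral_finsetSum]
    swap
    · intro i _; exact Continuous.intervalIntegrable (by fun_prop) _ _
    simp only [intervalIntegral.integral_const_mul, hint]
    rw [Finset.sum_eq_single ((j : ℤ) - (i : ℤ))]
    · rw [if_pos (by ring), hA, Pi.star_apply, RCLike.star_def]; ring
    · intro k _ hk; rw [if_neg (by omega), mul_zero]
    · intro hn; exact absurd (Finset.mem_Ioo.2 ⟨by omega, by omega⟩) hn
  let f : ℝ → ℝ := fun y => (P y).re * Complex.normSq (q y)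
  have hf : Continuous f := by simp only [f, P, q]; fun_prop
  have hre : (∫ y in (0 : ℝ)..(2 * Real.pi), f y) = 2 * Real.pi * Q.re := by
    have h := Complex.reCLM.intervalIntegral_comp_comm (hcont.intervalIntegrable (μ := MeasureTheory.volume) (0 : ℝ) (2 * Real.pi))
    rw [hI] at h
    have e : ∀ y, Complex.reCLM (P y * (starRingEnd ℂ (q y) * q y)) = f y := fun y => by
      rw [Complex.conj_mul', Complex.reCLM_apply, ← Complex.ofReal_pow, Complex.re_mul_ofReal, Complex.sq_norm]
    simp only [e] at h
    rw [h, Complex.reCLM_apply, show (2 * Real.pi : ℂ) = ((2 * Real.pi : ℝ) : ℂ) by push_cast; ring, Complex.re_ofReal_mul]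
  have hd : Dense {y : ℝ | ¬ 0 < (P y).re}ᶜ := hpos.dense_compl ℝ
  have hnn : ∀ y, 0 ≤ (P y).re := fun y =>
    hd.induction (P := fun y => 0 ≤ (P y).re) (fun z hz => (not_not.1 hz : 0 < (P z).re).le)
      (isClosed_le continuous_const (by simp only [P]; fun_prop)) y
  obtain ⟨c, hc, hfc⟩ : ∃ c ∈ Set.Ioo (0 : ℝ) 1, 0 < f c := by
    by_contra hcon
    push Not at hcon
    let S : Set ℝ := Set.Ioo (0 : ℝ) 1 \ {y : ℝ | ¬ 0 < (P y).re}
    have hS : S.Infinite := fun hfin => (Cardinal.Real.Ioo_countable_iff (x := (0:ℝ)) (y := 1)).not.2 (by norm_num)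
      ((hfin.countable.union hpos).mono fun y hy => (Classical.em (y ∈ {y : ℝ | ¬ 0 < (P y).re})).elim Or.inr fun h => Or.inl ⟨hy, h⟩)
    let p : Polynomial ℂ := ∑ l : Fin m, Polynomial.C (x l) * Polynomial.X ^ (l : ℕ)
    have hp : p = 0 := by
      refine Polynomial.eq_zero_of_infinite_isRoot p (Set.Infinite.mono ?_ (hS.image (f := fun y : ℝ => Complex.exp (-Complex.I * (y : ℂ))) ?_))
      · rintro _ ⟨y, hy, rfl⟩
        have h0 : q y = 0 := by
          have h1 : f y ≤ 0 := hcon y hy.1
          have h2 : 0 < (P y).re := not_not.1 hy.2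
          by_contra h
          exact absurd (mul_pos h2 (Complex.normSq_pos.2 h)) (not_lt.2 h1)
        show p.eval _ = 0
        rw [← h0]
        simp only [p, q, Polynomial.eval_finsetSum, Polynomial.eval_mul, Polynomial.eval_C, Polynomial.eval_pow, Polynomial.eval_X]
        refine Finset.sum_congr rfl fun l _ => ?_
        rw [← Complex.exp_nat_mul]; congr 2; push_cast; ring
      · intro a ha b hb hab
        obtain ⟨n, hn⟩ := Complex.exp_eq_exp_iff_exists_int.1 hab
        have h1 := congrArg Complex.im hn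
        simp at h1
        have h2 := ha.1; have h3 := hb.1
        simp only [Set.mem_Ioo] at h2 h3
        have hn0 : n = 0 := by
          by_contra hne
          have : (1 : ℝ) ≤ |(n : ℝ)| := by exact_mod_cast Int.one_le_abs hne
          have hpi := Real.pi_gt_three
          rcases le_abs.1 this with h | h <;> nlinarith
        subst hn0
        simpa using hn
    refine hx (funext fun l => ?_)
    have h := congrArg (fun r : Polynomial ℂ => r.coeff (l : ℕ)) hp
    simp only [p, Polynomial.finsetSum_coeff, Polynomial.coeff_C_mul, Polynomial.coeff_X_pow, mul_ite, mul_one, mul_zero, Polynomial.coeff_zero] at h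
    rw [Finset.sum_eq_single l (fun b _ hb => if_neg fun he => hb (Fin.ext he.symm)) (by simp), if_pos rfl] at h
    exact h
  have hpos2 : 0 < ∫ y in (0 : ℝ)..(2 * Real.pi), f y :=
    intervalIntegral.integral_pos (by positivity) hf.continuousOn
      (fun y _ => mul_nonneg (hnn y) (Complex.normSq_nonneg _))
      ⟨c, ⟨hc.1.le, by linarith [hc.2, Real.pi_gt_three]⟩, hfc⟩
  rw [hre] at hpos2
  refine Complex.lt_def.2 ⟨?_, by simp [hQim]⟩
  simpa using pos_of_mul_pos_right hpos2 (by positivity)

end Groth.Agent.S19019
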