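import Groth.Statements.S19021
import Mathlib
import Groth.Agent.Lib.BinomGram

set_option autoImplicit false
open Toeplitz

namespace Groth.Agent.S19021

/-- For natural numbers n and m, the m × m integer Toeplitz matrix with (i, j) entry (-1)^(i+j) ·
C(2n+1, n+1+i-j) (the binomial coefficient being 0 outside the range 0 ≤ n+1+i-j ≤ 2n+1;
equivalently s_k = (-1)^k C(2n+1, n+k+1) on the diagonal i - j = k for -n-1 ≤ k ≤ n and zero beyond)
is nondegenerate: its determinant is nonzero (m = 0 is the empty matrix, of determinant 1). -/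
theorem result (n m : ℕ) :
    (Matrix.of fun i j : Fin m =>
        (-1 : ℤ) ^ ((i : ℕ) + (j : ℕ)) *
          (if (j : ℕ) ≤ (i : ℕ) then (Nat.choose (2 * n + 1) (n + 1 + ((i : ℕ) - (j : ℕ))) : ℤ)
            else (Nat.choose (2 * n + 1) (n + ((j : ℕ) - (i : ℕ))) : ℤ))).det ≠ 0 := by
  set A : Matrix (Fin m) (Fin m) ℤ := Matrix.of fun i j : Fin m =>
    (-1 : ℤ) ^ ((i : ℕ) + (j : ℕ)) *
      (if (j : ℕ) ≤ (i : ℕ) then (Nat.choose (2 * n + 1) (n + 1 + ((i : ℕ) - (j : ℕ))) : ℤ)
        else (Nat.choose (2 * n + 1) (n + ((j : ℕ) - (i : ℕ))) : ℤ)) with hA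
  intro hdet
  obtain ⟨v, hv, hAv⟩ := Matrix.exists_mulVec_eq_zero_iff.2 hdet
  let w : Fin m → ℝ := fun i => (v i : ℝ)
  let G : Matrix (Fin m) (Fin m) ℝ := Matrix.of fun i j : Fin m =>
    (-1 : ℝ) ^ ((i : ℕ) + (j : ℕ)) * ((2 * (n + 1)).choose (n + 1 + Nat.dist i j) : ℝ)
  have hw : w ≠ 0 := fun h => hv (funext fun i => by
    have := congrFun h i
    simpa [w] using this)
  have hG : ∀ i j, G i j = (A i j : ℝ) + (A j i : ℝ) := by
    have key : ∀ i j : Fin m, (i : ℕ) < j → G i j = (A i j : ℝ) + (A j i : ℝ) := fun i j h => by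
      simp only [G, hA, Matrix.of_apply]
      rw [if_neg (by omega), if_pos h.le, Nat.dist_eq_sub_of_le h.le, add_comm (j : ℕ) (i : ℕ)]
      rw [show 2 * (n + 1) = 2 * n + 1 + 1 by ring,
        show n + 1 + ((j : ℕ) - i) = (n + ((j : ℕ) - i)) + 1 by omega, Nat.choose_succ_succ]
      push_cast
      ring
    intro i j
    rcases lt_trichotomy (i : ℕ) j with h | h | h
    · exact key i j h
    · obtain rfl := Fin.ext h
      simp only [G, hA, Matrix.of_apply]
      rw [if_pos le_rfl, Nat.dist_self, Nat.sub_self, add_zero, show 2 * (n + 1) = 2 * n + 1 + 1 by ring,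
        Nat.choose_succ_succ, show (2 * n + 1).choose (n + 1) = (2 * n + 1).choose n from
          Nat.choose_symm_of_eq_add (by omega)]
      push_cast
      ring
    · have := key j i h
      simp only [G, Matrix.of_apply] at this ⊢
      rw [Nat.dist_comm, add_comm (i : ℕ), this, add_comm]
  have hpos := (Groth.Agent.BinomGram.posDef (n + 1) m).dotProduct_mulVec_pos hw
  have hz : ∀ i, ∑ j, (A i j : ℝ) * w j = 0 := fun i => by
    have := congrFun hAv i
    simp only [Matrix.mulVec, dotProduct, Pi.zero_apply] at this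
    simp only [w]
    exact_mod_cast this
  refine hpos.ne' ?_
  change dotProduct (star w) (Matrix.mulVec G w) = 0
  simp only [star_trivial, dotProduct, Matrix.mulVec, hG, add_mul, Finset.sum_add_distrib, hz, zero_add,
    Finset.mul_sum]
  rw [Finset.sum_comm]
  refine Finset.sum_eq_zero fun i _ => ?_
  calc ∑ j, w j * ((A i j : ℝ) * w i) = w i * ∑ j, (A i j : ℝ) * w j := by
        rw [Finset.mul_sum]; exact Finset.sum_congr rfl fun j _ => by ring
    _ = 0 := by rw [hz, mul_zero]

end Groth.Agent.S19021
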