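import Groth.Statements.S19033
import Groth.Agent.Lib.LabGraphBI

set_option autoImplicit false
universe u
open LabGraph

namespace Groth.Agent.S19033

open LabGraph in
/-- Let X be a quasi-wp-stable curve of genus g ≥ 2 over an algebraically closed field, encoded by a
weighted multigraph: vertices are the irreducible components C_v, with the weight w v and the loops
at v chosen so that w v plus the number of loops at v is the arithmetic genus of C_v; two distinct
components are joined by one edge for each node and by two edges for each tacnode at which they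
meet. For a set Y of vertices (a subcurve) canDeg Y is then deg_Y ω_X = 2 g_Y − 2 + k_Y and cut Y is
k_Y, the length of the intersection of Y with its complementary subcurve; a vertex is exceptional
(weight zero, loopless, exactly two edges to other vertices) exactly when C_v is an exceptional
component; the twist of the indicator function of Y is the multidegree Σ_{C ⊆ Y} C of the degree
class group construction; and the graph is a connected quasistable graph. Let d, d' be properly
balanced multidegrees of the same total degree D (each satisfies the Basic Inequality 2·|K·d_Y −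
D·canDeg Y| ≤ cut Y·K for every Y, where K = 2g − 2 = canDeg of the whole graph, and takes the value
1 on every exceptional vertex), with d strictly balanced: for every nonempty proper Y with d_Y equal
to the upper extreme, i.e. 2(K·d_Y − D·canDeg Y) = K·cut Y, every edge with exactly one endpoint in
Y has an exceptional endpoint. Suppose d' = d + Σ_i twist(1_{Z_i}) for nested vertex sets Z_1 ⊆ ⋯ ⊆
Z_m, each with d at its upper extreme, such that for j < i no edge joins a vertex of Z_j to a vertex
outside Z_i. Then d = d'. (The source assumes only that d − d' lies in the lattice generated by the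
multidegrees of the components and takes the existence of such a nested family from an earlier paper
it cites without proof; this row carries that description as its hypothesis.) -/
theorem result {V E : Type u} [Fintype V] [Fintype E]
    [DecidableEq V] [DecidableEq E] (ends : E → V × V) (w : V → ℕ) (hX : IsQuasistableGraph ends w)
    (hg : 2 ≤ genus ends w) (d d' : V → ℤ) (hD : ∑ v, d v = ∑ v, d' v)
    (hBI : SatisfiesBI ends w d) (hBI' : SatisfiesBI ends w d')
    (hone : ∀ v : V, IsExceptional ends w v → d v = 1) (hone' : ∀ v : V, IsExceptional ends w v → d' v = 1)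
    (hstrict : ∀ Y : Finset V, Y.Nonempty → Y ≠ Finset.univ →
      2 * (canDeg ends w Finset.univ * (∑ v ∈ Y, d v) - (∑ v, d v) * canDeg ends w Y)
          = (cut ends Y : ℤ) * canDeg ends w Finset.univ →
      ∀ e : E, (((ends e).1 ∈ Y ∧ (ends e).2 ∉ Y) ∨ ((ends e).1 ∉ Y ∧ (ends e).2 ∈ Y)) →
        (IsExceptional ends w (ends e).1 ∨ IsExceptional ends w (ends e).2))
    (m : ℕ) (Z : Fin m → Finset V) (hmono : ∀ i j : Fin m, i ≤ j → Z i ⊆ Z j)
    (hext : ∀ i : Fin m, 2 * (canDeg ends w Finset.univ * (∑ v ∈ Z i, d v) - (∑ v, d v) * canDeg ends w (Z i))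
          = (cut ends (Z i) : ℤ) * canDeg ends w Finset.univ)
    (hsep : ∀ i j : Fin m, j < i → ∀ e : E,
      ¬ (((ends e).1 ∈ Z j ∧ (ends e).2 ∉ Z i) ∨ ((ends e).2 ∈ Z j ∧ (ends e).1 ∉ Z i)))
    (hsum : ∀ v : V, d' v = d v + ∑ i : Fin m, twist ends (fun u => if u ∈ Z i then (1 : ℤ) else 0) v) :
    d = d' := by
  let φ : V → ℤ := fun u => ∑ i : Fin m, if u ∈ Z i then (1 : ℤ) else 0
  have htw : ∀ v, ∑ i : Fin m, twist ends (fun u => if u ∈ Z i then (1 : ℤ) else 0) v = twist ends φ v := by
    intro v
    unfold twist
    simp only [φ]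
    rw [Finset.sum_comm]
    refine Finset.sum_congr rfl fun e _ => ?_
    rw [Finset.sum_add_distrib, ← Finset.sum_sub_distrib, ← Finset.sum_sub_distrib]
    congr 1 <;> split_ifs <;> simp
  have hK : 0 < canDeg ends w Finset.univ := by rw [LabGraphBI.canDeg_univ]; omega
  have hflat : ∀ v, IsExceptional ends w v → ∀ e, ((ends e).1 = v ∨ (ends e).2 = v) → φ (ends e).1 = φ (ends e).2 := by
    intro v hv
    obtain ⟨e₁, e₂, hne, hS⟩ := Finset.card_eq_two.1 hv.2.2
    have hinc : ∀ e, ((ends e).1 = v ∨ (ends e).2 = v) ↔ (e = e₁ ∨ e = e₂) := by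
      intro e
      have := Finset.ext_iff.1 hS e
      simp only [Finset.mem_filter, Finset.mem_univ, true_and, Finset.mem_singleton, Finset.mem_insert] at this
      rw [← this]
      have hl := hv.2.1 e
      constructor
      · rintro (h | h)
        · exact Or.inl ⟨h, fun h' => hl (Prod.ext h h')⟩
        · exact Or.inr ⟨fun h' => hl (Prod.ext h' h), h⟩
      · rintro (⟨h, -⟩ | ⟨-, h⟩)
        · exact Or.inl h
        · exact Or.inr h
    let oth : E → V := fun e => if (ends e).1 = v then (ends e).2 else (ends e).1
    have hoth : ∀ e, ((ends e).1 = v ∨ (ends e).2 = v) → oth e ≠ v ∧ ∀ g : V → ℤ,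
        LabGraphBI.dl ends g e * LabGraphBI.dl ends g e = (g v - g (oth e)) * (g v - g (oth e)) ∧
        LabGraphBI.dl ends (LabGraphBI.ind {v}) e * LabGraphBI.dl ends g e = g v - g (oth e) := by
      intro e he
      have hl := hv.2.1 e
      by_cases h : (ends e).1 = v
      · have h' : (ends e).2 ≠ v := fun h' => hl (Prod.ext h h')
        simp only [oth, if_pos h]
        exact ⟨h', fun g => by simp [LabGraphBI.dl, LabGraphBI.ind, h, h']⟩
      · have h' := he.resolve_left h
        simp only [oth, if_neg h]
        exact ⟨h, fun g => by simp [LabGraphBI.dl, LabGraphBI.ind, h, h']; ring⟩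
    have o1 := hoth e₁ ((hinc e₁).2 (Or.inl rfl))
    have o2 := hoth e₂ ((hinc e₂).2 (Or.inr rfl))
    have hsumv : ∀ g : V → ℤ, twist ends g v = -((g v - g (oth e₁)) + (g v - g (oth e₂))) := by
      intro g
      rw [LabGraphBI.twist_eq, Finset.sum_eq_add e₁ e₂ hne, (o1.2 g).2, (o2.2 g).2]
      · intro e _ he
        have : ¬ ((ends e).1 = v ∨ (ends e).2 = v) := fun h => by rcases (hinc e).1 h with rfl | rfl <;> tauto
        push Not at this
        simp [LabGraphBI.dl, LabGraphBI.ind, this.1, this.2]
      all_goals exact fun h => absurd (Finset.mem_univ _) h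
    have h0 : twist ends φ v = 0 := by
      have h1 := hsum v
      rw [htw, hone v hv, hone' v hv] at h1
      linarith
    rw [hsumv] at h0
    have key : ∀ a b : V, (a = oth e₁ ∧ b = oth e₂) ∨ (a = oth e₂ ∧ b = oth e₁) → φ a ≤ φ v := by
      intro a b hab
      by_contra hlt
      rw [not_le] at hlt
      have hb : φ b < φ v := by rcases hab with ⟨rfl, rfl⟩ | ⟨rfl, rfl⟩ <;> linarith
      obtain ⟨i, hia, hiv⟩ : ∃ i, a ∈ Z i ∧ v ∉ Z i := by
        by_contra! h
        refine not_lt.2 (Finset.sum_le_sum fun i _ => ?_) hlt
        by_cases ha : a ∈ Z i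
        · simp [ha, h i ha]
        · simp only [if_neg ha]; split_ifs <;> norm_num
      have hib : b ∉ Z i := by
        intro hb'
        refine not_lt.2 (Finset.sum_le_sum fun j _ => ?_) hb
        by_cases hj : v ∈ Z j
        · have : i ≤ j := le_of_not_ge fun hji => hiv (hmono j i hji hj)
          simp [hj, hmono i j this hb']
        · simp only [if_neg hj]; split_ifs <;> norm_num
      have hBI2 := (LabGraphBI.satisfiesBI_iff d).1 hBI (insert v (Z i))
      have hexc : LabGraphBI.exc ends w d (insert v (Z i)) =
          LabGraphBI.exc ends w d (Z i) + 2 * canDeg ends w Finset.univ := by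
        have hc : ∀ e, (ends e).1 = v ∨ (ends e).2 = v ↔ e = e₁ ∨ e = e₂ := hinc
        have hend : endCount ends Finset.univ v = 2 := by
          unfold endCount
          rw [Finset.sum_eq_add e₁ e₂ hne]
          · rcases (hinc e₁).2 (Or.inl rfl) with h | h <;> rcases (hinc e₂).2 (Or.inr rfl) with h' | h' <;>
            · have l1 := hv.2.1 e₁
              have l2 := hv.2.1 e₂
              simp [Prod.ext_iff, h, h'] at l1 l2 ⊢
              simp [l1, l2]
          · intro e _ he
            have : ¬ ((ends e).1 = v ∨ (ends e).2 = v) := fun h => by rcases (hinc e).1 h with rfl | rfl <;> tauto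
            push Not at this
            simp [this.1, this.2]
          all_goals exact fun h => absurd (Finset.mem_univ _) h
        unfold LabGraphBI.exc canDeg
        rw [Finset.sum_insert hiv, Finset.sum_insert hiv, hone v hv, hv.1, hend]
        push_cast
        ring
      have hcut : (cut ends (insert v (Z i)) : ℤ) = cut ends (Z i) := by
        have hsplit : ∀ e, e ≠ e₁ ∧ e ≠ e₂ →
            LabGraphBI.dl ends (LabGraphBI.ind (insert v (Z i))) e = LabGraphBI.dl ends (LabGraphBI.ind (Z i)) e := by
          intro e he
          have : ¬ ((ends e).1 = v ∨ (ends e).2 = v) := fun h => by rcases (hinc e).1 h with h | h <;> tauto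
          push Not at this
          simp [LabGraphBI.dl, LabGraphBI.ind, this.1, this.2]
        rw [LabGraphBI.cut_eq, LabGraphBI.cut_eq, ← sub_eq_zero, ← Finset.sum_sub_distrib,
          Finset.sum_eq_add e₁ e₂ hne, (o1.2 _).1, (o2.2 _).1, (o1.2 _).1, (o2.2 _).1]
        · rcases hab with ⟨rfl, rfl⟩ | ⟨rfl, rfl⟩ <;>
            simp [LabGraphBI.ind, hia, hiv, hib, o1.1, o2.1]
        · intro e _ he; rw [hsplit e he, sub_self]
        all_goals exact fun h => absurd (Finset.mem_univ _) h
      have h3 := hext i
      rw [hexc, hcut] at hBI2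
      unfold LabGraphBI.exc at hBI2
      linarith
    have ha := key _ _ (Or.inl ⟨rfl, rfl⟩)
    have hb := key _ _ (Or.inr ⟨rfl, rfl⟩)
    intro e he
    rcases (hinc e).1 he with rfl | rfl
    · by_cases h : (ends e).1 = v
      · simp only [oth, if_pos h] at ha hb h0
        rw [h]; linarith
      · have h' := he.resolve_left h
        simp only [oth, if_neg h] at ha hb h0
        rw [h']; linarith
    · by_cases h : (ends e).1 = v
      · simp only [oth, if_pos h] at ha hb h0
        rw [h]; linarith
      · have h' := he.resolve_left h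
        simp only [oth, if_neg h] at ha hb h0
        rw [h']; linarith
  have hconst : ∀ e, φ (ends e).1 = φ (ends e).2 := by
    intro e
    by_contra hne
    obtain ⟨i, hi⟩ : ∃ i, ¬ ((ends e).1 ∈ Z i ↔ (ends e).2 ∈ Z i) := by
      by_contra! h
      exact hne (Finset.sum_congr rfl fun i _ => by simp [h i])
    have hcr : ((ends e).1 ∈ Z i ∧ (ends e).2 ∉ Z i) ∨ ((ends e).1 ∉ Z i ∧ (ends e).2 ∈ Z i) := by tauto
    have hne' : (Z i).Nonempty := by rcases hcr with ⟨h, -⟩ | ⟨-, h⟩ <;> exact ⟨_, h⟩
    have huniv : Z i ≠ Finset.univ := by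
      intro h; rw [h] at hcr; simp at hcr
    rcases hstrict (Z i) hne' huniv (hext i) e hcr with h | h
    · exact hne (hflat _ h e (Or.inl rfl))
    · exact hne (hflat _ h e (Or.inr rfl))
  funext v
  rw [hsum v, htw]
  unfold twist
  simp [hconst]

end Groth.Agent.S19033
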