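import Groth.Statements.S19034
import Groth.Agent.Lib.LabGraphBI

set_option autoImplicit false
universe u
open LabGraph

namespace Groth.Agent.S19034

open LabGraph in
/-- Let σ : Z → X be the contraction of some exceptional components of a quasi-wp-stable curve Z of
genus g ≥ 2 onto a quasi-wp-stable curve X, and d a properly balanced multidegree on X; then the
pull-back d̃ of d to Z (d̃_W = d_{σ(W)} when σ(W) is a curve, d̃ = 0 on contracted components) is
balanced. Encode Z by its weighted multigraph (vertices = irreducible components, weight plus number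
of loops = arithmetic genus of the component, one edge per node and two per tacnode joining distinct
components; canDeg Y = deg_Y ω_Z, cut Y = k_Y, K = canDeg of all vertices = 2g − 2; exceptional
vertex = exceptional component), and let S be the set of contracted components, each an exceptional
vertex. The components of X are the vertices outside S; for a set W of them, the subcurve σ(W) of X
has deg ω_X equal to canDeg Ŵ and k equal to cut Ŵ, where Ŵ is W together with the vertices of S all
of whose edges end in W, and the exceptional components of X are the exceptional vertices outside S.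
So the hypotheses below say that d̃ vanishes on S and that d = d̃|_{V∖S} is properly balanced on X
(Basic Inequality 2·|K·d_W − D·canDeg Ŵ| ≤ cut Ŵ·K for every W disjoint from S, D the total degree,
and value 1 on exceptional vertices outside S); the conclusion is the Basic Inequality for d̃ on Z,
for every set of vertices. -/
theorem result {V E : Type u} [Fintype V] [Fintype E]
    [DecidableEq V] [DecidableEq E] (ends : E → V × V) (w : V → ℕ) (hZ : IsQuasistableGraph ends w)
    (hg : 2 ≤ genus ends w) (S : Finset V) (hS : ∀ v ∈ S, IsExceptional ends w v)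
    (dt : V → ℤ) (hzero : ∀ v ∈ S, dt v = 0)
    (hBI : ∀ W : Finset V, Disjoint W S →
      2 * |canDeg ends w Finset.univ * (∑ v ∈ W, dt v) - (∑ v, dt v) * canDeg ends w (Finset.univ.filter (fun v : V => v ∈ W ∨ (v ∈ S ∧ ∀ e : E, ((ends e).1 = v → (ends e).2 ∈ W) ∧ ((ends e).2 = v → (ends e).1 ∈ W))))|
        ≤ (cut ends (Finset.univ.filter (fun v : V => v ∈ W ∨ (v ∈ S ∧ ∀ e : E, ((ends e).1 = v → (ends e).2 ∈ W) ∧ ((ends e).2 = v → (ends e).1 ∈ W)))) : ℤ) * canDeg ends w Finset.univ)
    (hone : ∀ v : V, v ∉ S → IsExceptional ends w v → dt v = 1) :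
    SatisfiesBI ends w dt := by
  rw [LabGraphBI.satisfiesBI_iff]
  intro Y
  classical
  set W := Y \ S with hW
  set What := Finset.univ.filter (fun v : V => v ∈ W ∨ (v ∈ S ∧ ∀ e : E, ((ends e).1 = v → (ends e).2 ∈ W) ∧ ((ends e).2 = v → (ends e).1 ∈ W))) with hWhat
  have hdis : Disjoint W S := Finset.sdiff_disjoint
  have hz : ∀ v ∈ S, canDeg ends w {v} = 0 := by
    intro v hv
    obtain ⟨h1, h2, h3⟩ := hS v hv
    have : endCount ends Finset.univ v = cut ends {v} := by
      unfold endCount cut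
      rw [Finset.card_filter]
      refine Finset.sum_congr rfl fun e _ => ?_
      have := h2 e
      by_cases a : (ends e).1 = v <;> by_cases b : (ends e).2 = v <;> simp [Prod.ext_iff, a, b] at this ⊢
    unfold canDeg
    rw [Finset.sum_singleton, h1, this, h3]
    norm_num
  have hsum : ∀ (f : V → ℤ) (X : Finset V), (∀ v ∈ S, f v = 0) → W ⊆ X → (∀ x ∈ X, x ∈ W ∨ x ∈ S) →
      ∑ v ∈ X, f v = ∑ v ∈ W, f v := fun f X hf h1 h2 =>
    (Finset.sum_subset h1 fun x hx hxW => hf x ((h2 x hx).resolve_left hxW)).symm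
  have hY1 : W ⊆ Y := Finset.sdiff_subset
  have hY2 : ∀ x ∈ Y, x ∈ W ∨ x ∈ S := fun x hx => by
    by_cases h : x ∈ S
    · exact Or.inr h
    · exact Or.inl (Finset.mem_sdiff.2 ⟨hx, h⟩)
  have hW1 : W ⊆ What := fun x hx => Finset.mem_filter.2 ⟨Finset.mem_univ _, Or.inl hx⟩
  have hW2 : ∀ x ∈ What, x ∈ W ∨ x ∈ S := fun x hx => ((Finset.mem_filter.1 hx).2).imp id And.left
  have hc : ∀ v ∈ S, (fun v => (2 * (w v : ℤ) - 2 + (endCount ends Finset.univ v : ℤ))) v = 0 := fun v hv => by
    have := hz v hv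
    rwa [canDeg, Finset.sum_singleton] at this
  have hcan : canDeg ends w Y = canDeg ends w What :=
    (hsum _ Y hc hY1 hY2).trans (hsum _ What hc hW1 hW2).symm
  have hexc : LabGraphBI.exc ends w dt Y ≤ (cut ends What : ℤ) * canDeg ends w Finset.univ := by
    refine le_trans ?_ (hBI W hdis)
    unfold LabGraphBI.exc
    rw [hcan, hsum dt Y hzero hY1 hY2]
    exact mul_le_mul_of_nonneg_left (le_abs_self _) (by norm_num)
  refine hexc.trans (mul_le_mul_of_nonneg_right ?_ (by rw [LabGraphBI.canDeg_univ]; omega))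
  have hnoSS : ∀ e, ¬ ((ends e).1 ∈ S ∧ (ends e).2 ∈ S) := fun e h =>
    hZ.2 e (fun hh => (hS _ h.1).2.1 e (Prod.ext rfl hh.symm)) ⟨hS _ h.1, hS _ h.2⟩
  let g : Finset V → E → ℤ := fun X e => LabGraphBI.dl ends (LabGraphBI.ind X) e * LabGraphBI.dl ends (LabGraphBI.ind X) e
  have hpart : ∀ X, (cut ends X : ℤ) =
      (∑ e, if (ends e).1 ∉ S ∧ (ends e).2 ∉ S then g X e else 0) +
        ∑ v ∈ S, ∑ e, if (ends e).1 = v ∨ (ends e).2 = v then g X e else 0 := by
    intro X
    rw [LabGraphBI.cut_eq, Finset.sum_comm, ← Finset.sum_add_distrib]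
    refine Finset.sum_congr rfl fun e _ => ?_
    have := hnoSS e
    by_cases h1 : (ends e).1 ∈ S
    · have h2 : (ends e).2 ∉ S := fun h2 => this ⟨h1, h2⟩
      rw [if_neg (fun h => h.1 h1), zero_add, Finset.sum_eq_single (ends e).1]
      · simp [g]
      · intro v hv hne
        rw [if_neg]; rintro (h | h)
        · exact hne h.symm
        · exact h2 (h ▸ hv)
      · exact fun h => absurd h1 h
    · by_cases h2 : (ends e).2 ∈ S
      · rw [if_neg (fun h => h.2 h2), zero_add, Finset.sum_eq_single (ends e).2]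
        · simp [g]
        · intro v hv hne
          rw [if_neg]; rintro (h | h)
          · exact h1 (h ▸ hv)
          · exact hne h.symm
        · exact fun h => absurd h2 h
      · rw [if_pos ⟨h1, h2⟩, Finset.sum_eq_zero, add_zero]
        intro v hv
        rw [if_neg]; rintro (h | h)
        · exact h1 (h ▸ hv)
        · exact h2 (h ▸ hv)
  have hmem : ∀ X, W ⊆ X → (∀ x ∈ X, x ∈ W ∨ x ∈ S) → ∀ x, x ∉ S → (x ∈ X ↔ x ∈ W) := fun X h1 h2 x hx =>
    ⟨fun h => (h2 x h).resolve_right hx, fun h => h1 h⟩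
  rw [hpart, hpart]
  refine add_le_add (le_of_eq (Finset.sum_congr rfl fun e _ => ?_)) (Finset.sum_le_sum fun v hv => ?_)
  · by_cases h : (ends e).1 ∉ S ∧ (ends e).2 ∉ S
    · simp only [if_pos h, g, LabGraphBI.dl, LabGraphBI.ind, hmem _ hW1 hW2 _ h.1, hmem _ hW1 hW2 _ h.2,
        hmem _ hY1 hY2 _ h.1, hmem _ hY1 hY2 _ h.2]
    · simp only [if_neg h]
  obtain ⟨e₁, e₂, hne, he⟩ := Finset.card_eq_two.1 (hS v hv).2.2
  have hl := (hS v hv).2.1
  have hinc : ∀ e, ((ends e).1 = v ∨ (ends e).2 = v) ↔ (e = e₁ ∨ e = e₂) := by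
    intro e
    have := Finset.ext_iff.1 he e
    simp only [Finset.mem_filter, Finset.mem_univ, true_and, Finset.mem_singleton, Finset.mem_insert] at this
    rw [← this]
    have hl := hl e
    constructor
    · rintro (h | h)
      · exact Or.inl ⟨h, fun h' => hl (Prod.ext h h')⟩
      · exact Or.inr ⟨fun h' => hl (Prod.ext h' h), h⟩
    · rintro (⟨h, -⟩ | ⟨-, h⟩)
      · exact Or.inl h
      · exact Or.inr h
  have hsum2 : ∀ X, (∑ e, if (ends e).1 = v ∨ (ends e).2 = v then g X e else 0) = g X e₁ + g X e₂ := by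
    intro X
    rw [← Finset.sum_filter, show Finset.univ.filter (fun e => (ends e).1 = v ∨ (ends e).2 = v) = {e₁, e₂} by
      ext e; simp [hinc], Finset.sum_pair hne]
  rw [hsum2, hsum2]
  let oth : E → V := fun e => if (ends e).1 = v then (ends e).2 else (ends e).1
  have hg : ∀ e, ((ends e).1 = v ∨ (ends e).2 = v) → oth e ∉ S ∧
      ∀ X, g X e = if (v ∈ X ↔ oth e ∈ X) then 0 else 1 := by
    intro e he'
    have := hl e
    have hno := hnoSS e
    by_cases h : (ends e).1 = v
    · simp only [oth, if_pos h]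
      refine ⟨fun h2 => hno ⟨h ▸ hv, h2⟩, fun X => ?_⟩
      by_cases a : v ∈ X <;> by_cases b : (ends e).2 ∈ X <;> simp [g, LabGraphBI.dl, LabGraphBI.ind, h, a, b]
    · have h' := he'.resolve_left h
      simp only [oth, if_neg h]
      refine ⟨fun h2 => hno ⟨h2, h' ▸ hv⟩, fun X => ?_⟩
      by_cases a : v ∈ X <;> by_cases b : (ends e).1 ∈ X <;> simp [g, LabGraphBI.dl, LabGraphBI.ind, h', a, b]
  obtain ⟨n1, g1⟩ := hg e₁ ((hinc e₁).2 (Or.inl rfl))
  obtain ⟨n2, g2⟩ := hg e₂ ((hinc e₂).2 (Or.inr rfl))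
  have hvW : v ∈ What ↔ oth e₁ ∈ W ∧ oth e₂ ∈ W := by
    have hvnW : v ∉ W := Finset.disjoint_right.1 hdis hv
    simp only [hWhat, Finset.mem_filter, Finset.mem_univ, true_and, hvnW, false_or, hv]
    constructor
    · intro h
      have : ∀ e, ((ends e).1 = v ∨ (ends e).2 = v) → oth e ∈ W := fun e he' => by
        by_cases a : (ends e).1 = v
        · simp only [oth, if_pos a]; exact (h e).1 a
        · simp only [oth, if_neg a]; exact (h e).2 (he'.resolve_left a)
      exact ⟨this e₁ ((hinc e₁).2 (Or.inl rfl)), this e₂ ((hinc e₂).2 (Or.inr rfl))⟩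
    · intro h e
      refine ⟨fun a => ?_, fun a => ?_⟩
      · rcases (hinc e).1 (Or.inl a) with rfl | rfl <;> simp only [oth, if_pos a] at h
        · exact h.1
        · exact h.2
      · have a' : (ends e).1 ≠ v := fun a' => hl e (Prod.ext a' a)
        rcases (hinc e).1 (Or.inr a) with rfl | rfl <;> simp only [oth, if_neg a'] at h
        · exact h.1
        · exact h.2
  rw [g1, g2, g1, g2]
  simp only [hmem _ hW1 hW2 _ n1, hmem _ hW1 hW2 _ n2, hmem _ hY1 hY2 _ n1, hmem _ hY1 hY2 _ n2, hvW]
  by_cases a : oth e₁ ∈ W <;> by_cases b : oth e₂ ∈ W <;> by_cases c : v ∈ Y <;> simp [a, b, c]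

end Groth.Agent.S19034
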