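import Groth.Statements.S19036
import Mathlib

set_option autoImplicit false
universe u
open Instab

namespace Groth.Agent.S19036

open CategoryTheory AlgebraicGeometry in
/-- Let f : X → Y be a morphism of schemes which is locally of finite presentation, and for which the
valuative criterion holds (every valuative square over a valuation ring has exactly one lift). When
X has only finitely many irreducible components, the morphism f is quasi-compact. (The source states
this for algebraic spaces and adds that f is then proper; universal closedness follows from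
quasi-compactness and the existence part by the standard criterion, and separatedness from the
uniqueness part once f is quasi-separated. Only the scheme case and the quasi-compactness conclusion
are stated here.) -/
theorem result
    {X Y : Scheme.{u}} (f : X ⟶ Y) [LocallyOfFinitePresentation f]
    (hf : ValuativeCriterion f) (hX : (irreducibleComponents ↥X).Finite) :
    QuasiCompact f := by
  classical
  rw [quasiCompact_iff_forall_isAffineOpen]
  intro U hU
  let C : X.Opens := f ⁻¹ᵁ U
  let A : X → Set X := fun η => {x | x ∈ C ∧ η ⤳ x}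
  have hA : ∀ η, IsCompact (A η) := by
    intro η
    by_cases hne : A η = ∅
    · rw [hne]; exact isCompact_empty
    have hηC : η ∈ C := by
      obtain ⟨y, hy, hyη⟩ := Set.nonempty_iff_ne_empty.mpr hne
      exact hyη.mem_open C.2 hy
    let ev : ∀ W : X.Opens, η ∈ W → Γ(X, W) →+* X.residueField η := fun W hW => (X.evaluation W η hW).hom
    let T : Γ(Y, U) →+* X.residueField η := (ev C hηC).comp (f.appLE U C le_rfl).hom
    have hT : ∀ (W : X.Opens) (hWC : W ≤ C) (hηW : η ∈ W) (r : Γ(Y, U)), ev W hηW (f.appLE U W hWC r) = T r := by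
      intro W hWC hηW r
      have h : f.appLE U W hWC ≫ X.evaluation W η hηW = f.appLE U C le_rfl ≫ X.evaluation C η hηC := by
        rw [← Scheme.germ_residue, ← Scheme.germ_residue, ← Scheme.Hom.appLE_map f (le_refl _) (homOfLE hWC).op,
          Category.assoc, TopCat.Presheaf.germ_res_assoc]
      exact congrArg (fun g : Γ(Y, U) ⟶ X.residueField η => g.hom r) h
    have hfrom : ∀ (W : X.Opens) (hW : IsAffineOpen W) (hηW : η ∈ W),
        Spec.map (X.evaluation W η hηW) ≫ hW.fromSpec = X.fromSpecResidueField η := by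
      intro W hW hηW
      rw [← Scheme.germ_residue, Spec.map_comp, Category.assoc, Scheme.fromSpecResidueField,
        ← hW.fromSpecStalk_eq_fromSpecStalk hηW]
      rfl
    -- uniqueness of centres
    have key : ∀ (V : ValuationSubring (X.residueField η)) (hTV : ∀ r, T r ∈ V),
        ∃ c : X, η ⤳ c ∧ c ∈ C ∧
          (∀ (W : X.Opens), IsAffineOpen W → W ≤ C → ∀ hηW : η ∈ W, (∀ b, ev W hηW b ∈ V) → c ∈ W) ∧
          (∀ (W : X.Opens), IsAffineOpen W → c ∈ W → ∀ (hηW : η ∈ W) (b : Γ(X, W)), ev W hηW b ∈ V) ∧
          (∀ (x : X) (h : η ⤳ x), x ∈ C → (∀ (hs : ∀ s, (X.presheaf.stalkSpecializes h ≫ X.residue η).hom s ∈ V),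
            IsLocalHom ((X.presheaf.stalkSpecializes h ≫ X.residue η).hom.codRestrict V.toSubring hs) → c = x)) := by
      intro V hTV
      obtain ⟨W0, hW0, hηW0, hW0C⟩ := exists_isAffineOpen_mem_and_subset hηC
      let τ : Γ(Y, U) ⟶ CommRingCat.of V := CommRingCat.ofHom (T.codRestrict V.toSubring hTV)
      have hw : X.fromSpecResidueField η ≫ f =
          Spec.map (CommRingCat.ofHom (algebraMap V (X.residueField η))) ≫ Spec.map τ ≫ hU.fromSpec := by
        rw [← hfrom W0 hW0 hηW0, Category.assoc, ← IsAffineOpen.SpecMap_appLE_fromSpec f hU hW0 hW0C,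
          ← Spec.map_comp_assoc, ← Spec.map_comp_assoc]
        congr 2
        ext r
        exact hT W0 hW0C hηW0 r
      let S : ValuativeCommSq f :=
        { R := V, K := X.residueField η, i₁ := X.fromSpecResidueField η, i₂ := Spec.map τ ≫ hU.fromSpec, commSq := ⟨hw⟩ }
      obtain ⟨huniq⟩ := hf S
      let L : S.commSq.LiftStruct := huniq.default
      let c : X := L.l (IsLocalRing.closedPoint V)
      have hlift : ∀ (W : X.Opens) (hW : IsAffineOpen W) (hWC : W ≤ C) (hηW : η ∈ W) (hb : ∀ b, ev W hηW b ∈ V),
          L.l = Spec.map (CommRingCat.ofHom ((ev W hηW).codRestrict V.toSubring hb)) ≫ hW.fromSpec := by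
        intro W hW hWC hηW hb
        let L' : S.commSq.LiftStruct :=
          { l := Spec.map (CommRingCat.ofHom ((ev W hηW).codRestrict V.toSubring hb)) ≫ hW.fromSpec
            fac_left := by
              show Spec.map _ ≫ _ ≫ hW.fromSpec = X.fromSpecResidueField η
              rw [← hfrom W hW hηW, ← Spec.map_comp_assoc]
              rfl
            fac_right := by
              show (Spec.map _ ≫ hW.fromSpec) ≫ f = Spec.map τ ≫ hU.fromSpec
              rw [Category.assoc, ← IsAffineOpen.SpecMap_appLE_fromSpec f hU hW hWC, ← Spec.map_comp_assoc]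
              congr 2
              ext r
              exact hT W hWC hηW r }
        exact congrArg CommSq.LiftStruct.l (huniq.uniq L').symm
      refine ⟨c, ?_, ?_, ?_, ?_, ?_⟩
      · have h1 : X.fromSpecResidueField η (IsLocalRing.closedPoint (X.residueField η)) =
            L.l (Spec.map (CommRingCat.ofHom (algebraMap V (X.residueField η))) (IsLocalRing.closedPoint (X.residueField η))) := by
          rw [← Scheme.Hom.comp_apply, L.fac_left]
        rw [Scheme.fromSpecResidueField_apply] at h1
        rw [h1]
        exact (IsLocalRing.specializes_closedPoint (Spec.map (CommRingCat.ofHom (algebraMap V (X.residueField η)))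
          (IsLocalRing.closedPoint (X.residueField η)))).map L.l.continuous
      · show f (L.l _) ∈ U
        rw [← Scheme.Hom.comp_apply, L.fac_right]
        have : hU.fromSpec (Spec.map τ (IsLocalRing.closedPoint V)) ∈ Set.range hU.fromSpec := ⟨_, rfl⟩
        rw [hU.range_fromSpec] at this
        exact this
      · intro W hW hWC hηW hb
        show L.l _ ∈ W
        rw [hlift W hW hWC hηW hb]
        have : ∀ q, hW.fromSpec q ∈ W := fun q => by
          have : hW.fromSpec q ∈ Set.range hW.fromSpec := ⟨_, rfl⟩
          rwa [hW.range_fromSpec] at this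
        exact this _
      · intro W hW hc hηW b
        have hrange : Set.range L.l ⊆ Set.range hW.fromSpec := by
          rw [hW.range_fromSpec]
          rintro _ ⟨q, rfl⟩
          exact ((IsLocalRing.specializes_closedPoint q).map L.l.continuous).mem_open W.2 hc
        let g := IsOpenImmersion.lift hW.fromSpec L.l hrange
        let ψ : Γ(X, W) ⟶ CommRingCat.of V := Spec.preimage g
        have h1 : Spec.map (ψ ≫ CommRingCat.ofHom (algebraMap V (X.residueField η))) = Spec.map (X.evaluation W η hηW) := by
          rw [← cancel_mono hW.fromSpec, hfrom W hW hηW, Spec.map_comp, Category.assoc, Spec.map_preimage,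
            IsOpenImmersion.lift_fac]
          exact L.fac_left
        have h2 := congrArg (fun g : Γ(X, W) ⟶ X.residueField η => g.hom b) (Spec.map_injective h1)
        show (X.evaluation W η hηW).hom b ∈ V
        rw [← h2]
        exact (ψ.hom b).2
      · intro x h hxC hs hloc
        obtain ⟨W, hW, hxW, hWC⟩ := exists_isAffineOpen_mem_and_subset hxC
        have hηW : η ∈ W := h.mem_open W.2 hxW
        have hev : ∀ b, ev W hηW b = (X.presheaf.stalkSpecializes h ≫ X.residue η).hom (X.presheaf.germ W x hxW b) := by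
          intro b
          have h1 : X.presheaf.germ W x hxW ≫ X.presheaf.stalkSpecializes h ≫ X.residue η = X.evaluation W η hηW := by
            rw [TopCat.Presheaf.germ_stalkSpecializes_assoc]
            rfl
          exact congrArg (fun g : Γ(X, W) ⟶ X.residueField η => g.hom b) h1.symm
        have hb : ∀ b, ev W hηW b ∈ V := fun b => by rw [hev]; exact hs _
        show L.l _ = x
        rw [hlift W hW hWC hηW hb]
        let σ : X.presheaf.stalk x ⟶ CommRingCat.of V :=
          CommRingCat.ofHom ((X.presheaf.stalkSpecializes h ≫ X.residue η).hom.codRestrict V.toSubring hs)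
        have h2 : CommRingCat.ofHom ((ev W hηW).codRestrict V.toSubring hb) = X.presheaf.germ W x hxW ≫ σ := by
          ext b
          exact hev b
        rw [h2, Spec.map_comp, Category.assoc, Scheme.Hom.comp_apply]
        have h3 : Spec.map σ (IsLocalRing.closedPoint V) = IsLocalRing.closedPoint (X.presheaf.stalk x) :=
          @IsLocalRing.comap_closedPoint _ _ _ _ _ _ σ.hom hloc
        rw [h3, show Spec.map (X.presheaf.germ W x hxW) ≫ hW.fromSpec = X.fromSpecStalk x from
          hW.fromSpecStalk_eq_fromSpecStalk hxW, Scheme.fromSpecStalk_closedPoint]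
    -- dominating valuation rings
    have hchoose : ∀ x : X, x ∈ A η → ∃ V : ValuationSubring (X.residueField η), (∀ r, T r ∈ V) ∧
        ∃ hTV : ∀ r, T r ∈ V, (key V hTV).choose = x := by
      rintro x ⟨hxC, h⟩
      obtain ⟨V, hV, hloc⟩ := IsLocalRing.exists_factor_valuationRing (X.presheaf.stalkSpecializes h ≫ X.residue η).hom
      have hTV : ∀ r, T r ∈ V := by
        intro r
        have h1 : X.presheaf.germ C x hxC ≫ X.presheaf.stalkSpecializes h ≫ X.residue η = X.evaluation C η hηC := by
          rw [TopCat.Presheaf.germ_stalkSpecializes_assoc]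
          rfl
        have h2 : T r = (X.presheaf.stalkSpecializes h ≫ X.residue η).hom (X.presheaf.germ C x hxC (f.appLE U C le_rfl r)) :=
          congrArg (fun g : Γ(X, C) ⟶ X.residueField η => g.hom (f.appLE U C le_rfl r)) h1.symm
        rw [h2]
        exact hV _
      exact ⟨V, hTV, hTV, (key V hTV).choose_spec.2.2.2.2 x h hxC hV hloc⟩
    choose Vx hVT hVT' hVc using hchoose
    rw [isCompact_iff_ultrafilter_le_nhds]
    intro 𝒰 h𝒰
    have hA𝒰 : A η ∈ 𝒰 := Filter.le_principal_iff.mp h𝒰
    let mem : X.residueField η → Set X := fun a => {x | ∃ h : x ∈ A η, a ∈ Vx x h}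
    have hmem : ∀ (a : X.residueField η), (∀ x (h : x ∈ A η), a ∈ Vx x h) → mem a ∈ 𝒰 := fun a ha =>
      Filter.mem_of_superset hA𝒰 fun x hx => ⟨hx, ha x hx⟩
    let V0 : ValuationSubring (X.residueField η) :=
      { carrier := {a | mem a ∈ 𝒰}
        mul_mem' := fun {a b} ha hb => Filter.mem_of_superset (Filter.inter_mem ha hb)
          fun x ⟨⟨h, h1⟩, ⟨_, h2⟩⟩ => ⟨h, mul_mem h1 h2⟩
        add_mem' := fun {a b} ha hb => Filter.mem_of_superset (Filter.inter_mem ha hb)
          fun x ⟨⟨h, h1⟩, ⟨_, h2⟩⟩ => ⟨h, add_mem h1 h2⟩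
        one_mem' := hmem 1 fun x h => one_mem _
        zero_mem' := hmem 0 fun x h => zero_mem _
        neg_mem' := fun {a} ha => Filter.mem_of_superset ha fun x ⟨h, h1⟩ => ⟨h, neg_mem h1⟩
        mem_or_inv_mem' := fun a => by
          rcases Ultrafilter.mem_or_compl_mem 𝒰 (mem a) with h | h
          · exact .inl h
          · refine .inr (Filter.mem_of_superset (Filter.inter_mem hA𝒰 h) ?_)
            rintro x ⟨hx, hxn⟩
            exact ⟨hx, ((Vx x hx).mem_or_inv_mem a).resolve_left fun h' => hxn ⟨hx, h'⟩⟩ }
    have hT0 : ∀ r, T r ∈ V0 := fun r => hmem _ fun x h => hVT x h r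
    obtain ⟨hc1, hc2, hc3, hc4, -⟩ := (key V0 hT0).choose_spec
    refine ⟨(key V0 hT0).choose, ⟨hc2, hc1⟩, fun O hO => ?_⟩
    obtain ⟨O', hO'O, hO'open, hcO'⟩ := mem_nhds_iff.mp hO
    obtain ⟨W, hW, hcW, hWsub⟩ := exists_isAffineOpen_mem_and_subset
      (show (key V0 hT0).choose ∈ C ⊓ ⟨O', hO'open⟩ from ⟨hc2, hcO'⟩)
    have hWC : W ≤ C := fun y hy => (hWsub hy).1
    have hηW : η ∈ W := hc1.mem_open W.2 hcW
    -- the section ring maps into `V0`
    letI := (f.appLE U W hWC).hom.toAlgebra
    obtain ⟨gens, hgens⟩ : (⊤ : Subalgebra Γ(Y, U) Γ(X, W)).FG := (f.finiteType_appLE hU hW hWC).out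
    have hb0 : ∀ b, ev W hηW b ∈ V0 := by
      intro b
      exact hc4 W hW hcW hηW b
    have hfin : {x | ∃ h : x ∈ A η, ∀ g ∈ gens, ev W hηW g ∈ Vx x h} ∈ 𝒰 := by
      have : (⋂ g ∈ gens, mem (ev W hηW g)) ∩ A η ∈ 𝒰 :=
        Filter.inter_mem ((Filter.biInter_finset_mem gens).mpr fun g _ => hb0 g) hA𝒰
      refine Filter.mem_of_superset this ?_
      rintro x ⟨hx, hxA⟩
      exact ⟨hxA, fun g hg => (Set.mem_iInter₂.mp hx g hg).2⟩
    refine Filter.mem_of_superset hfin ?_
    rintro x ⟨hxA, hx⟩
    apply hO'O
    refine (hWsub ?_).2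
    have hall : ∀ b, ev W hηW b ∈ Vx x hxA := by
      intro b
      have hb : b ∈ Algebra.adjoin Γ(Y, U) (gens : Set Γ(X, W)) := hgens ▸ Algebra.mem_top
      induction hb using Algebra.adjoin_induction with
      | mem g hg => exact hx g hg
      | algebraMap r => rw [show algebraMap Γ(Y, U) Γ(X, W) r = f.appLE U W hWC r from rfl, hT W hWC hηW r]; exact hVT x hxA r
      | add a c _ _ ha hc => rw [map_add]; exact add_mem ha hc
      | mul a c _ _ ha hc => rw [map_mul]; exact mul_mem ha hc
    have := (key (Vx x hxA) (hVT' x hxA)).choose_spec.2.2.1 W hW hWC hηW hall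
    rwa [hVc x hxA] at this
  haveI := hX.fintype
  have hcov : (C : Set X) = ⋃ Z ∈ hX.toFinset, ⋃ η ∈ {η | IsGenericPoint η Z}, A η := by
    ext x
    simp only [Set.Finite.mem_toFinset, Set.mem_iUnion, exists_prop]
    constructor
    · intro hx
      obtain ⟨Z, hZ, hxZ⟩ : ∃ Z ∈ irreducibleComponents X, x ∈ Z :=
        ⟨irreducibleComponent x, irreducibleComponent_mem_irreducibleComponents x, mem_irreducibleComponent⟩
      refine ⟨Z, hZ, hZ.1.genericPoint, hZ.1.isGenericPoint_genericPoint (isClosed_of_mem_irreducibleComponents Z hZ), hx, ?_⟩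
      exact (hZ.1.isGenericPoint_genericPoint (isClosed_of_mem_irreducibleComponents Z hZ)).specializes hxZ
    · rintro ⟨Z, hZ, η, hη, hx, -⟩
      exact hx
  show IsCompact (C : Set X)
  rw [hcov]
  refine hX.toFinset.isCompact_biUnion fun Z _ => ?_
  exact (Set.Subsingleton.finite fun a ha b hb => ha.eq hb).isCompact_biUnion fun η _ => hA η

end Groth.Agent.S19036
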