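import Groth.Statements.S19092
import Mathlib

set_option autoImplicit false
universe u
open FrobAlg

namespace Groth.Agent.S19092

/-- Let p be a prime and A a commutative ring of characteristic p whose absolute Frobenius a ↦ a^p is a
finite ring homomorphism. Then the same holds for every quotient and every localization of A: for
every ideal I of A such that A ⧸ I has characteristic p (every proper ideal) the absolute Frobenius
of A ⧸ I is finite, and for every submonoid S of A and every localization B of A at S of
characteristic p (every nonzero localization) the absolute Frobenius of B is finite. -/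
theorem result (p : ℕ) [Fact p.Prime]
    (A : Type u) [CommRing A] [CharP A p] (hF : (frobenius A p).Finite) :
    (∀ (I : Ideal A) [CharP (A ⧸ I) p], (frobenius (A ⧸ I) p).Finite) ∧
      ∀ (S : Submonoid A) (B : Type u) [CommRing B] [Algebra A B] [IsLocalization S B] [CharP B p],
        (frobenius B p).Finite := by
  classical
  have hfin : @Module.Finite A A _ _ (frobenius A p).toModule := hF
  letI : Module A A := (frobenius A p).toModule
  obtain ⟨s, hs⟩ : ∃ s : Finset A, ∀ a : A, ∃ c : A → A, a = ∑ x ∈ s, (c x) ^ p * x := by
    obtain ⟨s, hs⟩ := @Module.Finite.fg_top A A _ _ (frobenius A p).toModule hfin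
    refine ⟨s, fun a => ?_⟩
    obtain ⟨c, -, hc⟩ := (@Submodule.mem_span_finset A A _ _ (frobenius A p).toModule s a).1 (by rw [hs]; exact trivial)
    exact ⟨c, hc.symm⟩
  have key : ∀ (B : Type u) [CommRing B] [CharP B p] (π : A →+* B),
      (∀ b : B, ∃ (a : A) (t : B), b = t ^ p * π a) → (frobenius B p).Finite := by
    intro B _ _ π h
    letI : Module B B := (frobenius B p).toModule
    show @Module.Finite B B _ _ (frobenius B p).toModule
    refine ⟨⟨s.image π, ?_⟩⟩
    rw [eq_top_iff]
    rintro b -
    obtain ⟨a, t, rfl⟩ := h b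
    obtain ⟨c, rfl⟩ := hs a
    rw [map_sum, Finset.mul_sum]
    refine Submodule.sum_mem _ fun x hx => ?_
    rw [map_mul, map_pow, ← mul_assoc, ← mul_pow]
    exact Submodule.smul_mem _ (t * π (c x)) (Submodule.subset_span (Finset.mem_image_of_mem π hx))
  refine ⟨fun I _ => key _ (Ideal.Quotient.mk I) fun b => ?_, fun S B _ _ _ _ => key B (algebraMap A B) fun b => ?_⟩
  · obtain ⟨a, rfl⟩ := Ideal.Quotient.mk_surjective b
    exact ⟨a, 1, by rw [one_pow, one_mul]⟩
  · obtain ⟨⟨a, t⟩, rfl⟩ := IsLocalization.mk'_surjective S b
    have hp := (Fact.out : p.Prime).one_le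
    refine ⟨a * (t : A) ^ (p - 1), IsLocalization.mk' B 1 t, ?_⟩
    have ht : IsLocalization.mk' B 1 t * algebraMap A B t = 1 := by rw [IsLocalization.mk'_spec, map_one]
    show IsLocalization.mk' B a t = _
    rw [map_mul, map_pow, IsLocalization.mk'_eq_mul_mk'_one (M := S) a t]
    conv_rhs => rw [show p = p - 1 + 1 by omega, pow_succ, show p - 1 + 1 - 1 = p - 1 by omega]
    have e : IsLocalization.mk' B 1 t ^ (p - 1) * algebraMap A B t ^ (p - 1) = 1 := by rw [← mul_pow, ht, one_pow]
    linear_combination -(algebraMap A B a * IsLocalization.mk' B 1 t) * e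

end Groth.Agent.S19092
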