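import Groth.Statements.S19094
import Mathlib

set_option autoImplicit false
universe u
open FrobAlg

namespace Groth.Agent.S19094


section helpers

/-- Frobenius bases pass to fraction fields. -/
theorem frac (A F : Type*) [CommRing A] [IsDomain A] [Field F] [Algebra A F] [IsFractionRing A F] (p : ℕ) (hp : 0 < p)
    {ι : Type*} [Fintype ι] (β : ι → A)
    (hdec : ∀ f : A, ∃ g : ι → A, f = ∑ i, g i ^ p * β i)
    (hind : ∀ g : ι → A, ∑ i, g i ^ p * β i = 0 → ∀ i, g i = 0) :
    (∀ z : F, ∃ g : ι → F, z = ∑ i, g i ^ p * algebraMap A F (β i)) ∧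
    (∀ g : ι → F, ∑ i, g i ^ p * algebraMap A F (β i) = 0 → ∀ i, g i = 0) := by
  classical
  constructor
  · intro z
    obtain ⟨n, d, hd, rfl⟩ := IsFractionRing.div_surjective (A := A) z
    have hd0 : algebraMap A F d ≠ 0 := IsFractionRing.to_map_ne_zero_of_mem_nonZeroDivisors hd
    obtain ⟨g, hg⟩ := hdec (n * d ^ (p - 1))
    refine ⟨fun i => algebraMap A F (g i) / algebraMap A F d, ?_⟩
    have h2 := congrArg (algebraMap A F) hg
    simp only [map_mul, map_pow, map_sum] at h2
    have h3 : algebraMap A F n / algebraMap A F d =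
        (algebraMap A F n * algebraMap A F d ^ (p - 1)) / algebraMap A F d ^ p := by
      have : algebraMap A F d ^ p = algebraMap A F d * algebraMap A F d ^ (p - 1) := by
        rw [← pow_succ', Nat.sub_add_cancel hp]
      rw [div_eq_div_iff hd0 (pow_ne_zero _ hd0), this]
      ring
    rw [h3, h2, Finset.sum_div]
    refine Finset.sum_congr rfl fun a _ => ?_
    rw [div_pow, div_mul_eq_mul_div]
  · intro g hg i
    obtain ⟨b, hb⟩ := IsLocalization.exist_integer_multiples_of_finite (nonZeroDivisors A) g
    choose y hy using hb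
    have hb0 : algebraMap A F (b : A) ≠ 0 := IsFractionRing.to_map_ne_zero_of_mem_nonZeroDivisors b.2
    have hy' : ∀ a, algebraMap A F (y a) = algebraMap A F b * g a :=
      fun a => (hy a).trans (Algebra.smul_def _ _)
    have h0 : ∑ a, y a ^ p * β a = 0 := by
      apply IsFractionRing.injective A F
      have h1 : ∑ a, algebraMap A F b ^ p * (g a ^ p * algebraMap A F (β a)) = 0 := by
        rw [← Finset.mul_sum, hg, mul_zero]
      rw [map_sum, map_zero, ← h1]
      refine Finset.sum_congr rfl fun a _ => ?_
      rw [map_mul, map_pow, hy', mul_pow, mul_assoc]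
    have := hy' i
    rw [hind y h0 i, map_zero] at this
    exact (mul_eq_zero.mp this.symm).resolve_left hb0

/-- A Frobenius basis computes the degree over the p-th powers. -/
theorem finrank_of (F : Type*) [Field F] (p : ℕ) [Fact p.Prime] [CharP F p] {ι : Type*} [Fintype ι] (β : ι → F)
    (hdec : ∀ f : F, ∃ g : ι → F, f = ∑ i, g i ^ p * β i)
    (hind : ∀ g : ι → F, ∑ i, g i ^ p * β i = 0 → ∀ i, g i = 0) :
    Module.finrank (frobenius F p).fieldRange F = Fintype.card ι := by
  let L := (frobenius F p).fieldRange
  have hli : LinearIndependent L β := by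
    rw [Fintype.linearIndependent_iff]
    intro c hc
    choose x hx using fun a => (c a).2
    intro a
    have h0 : ∑ i, x i ^ p * β i = 0 := by
      rw [← hc]
      refine Finset.sum_congr rfl fun i _ => ?_
      show _ = (c i : F) * β i
      rw [← hx i]
      rfl
    refine Subtype.ext ((hx a).symm.trans ?_)
    rw [hind x h0 a, map_zero]
    rfl
  have hsp : ⊤ ≤ Submodule.span L (Set.range β) := by
    intro z _
    obtain ⟨g, rfl⟩ := hdec z
    refine Submodule.sum_mem _ fun i _ => ?_
    exact Submodule.smul_mem _ (⟨g i ^ p, g i, rfl⟩ : L) (Submodule.subset_span ⟨i, rfl⟩)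
  rw [Module.finrank_eq_card_basis (Module.Basis.mk hli hsp)]

theorem coeff_pow_char (k : Type*) [Field k] (p : ℕ) [Fact p.Prime] [CharP k p] (g : PowerSeries k) (N : ℕ) :
    PowerSeries.coeff N (g ^ p) = if p ∣ N then PowerSeries.coeff (N / p) g ^ p else 0 := by
  haveI : ExpChar k p := ExpChar.prime (Fact.out : p.Prime)
  have hp : p ≠ 0 := (Fact.out : p.Prime).ne_zero
  have h : PowerSeries.map (frobenius k p) (PowerSeries.expand p hp g) = g ^ p :=
    MvPowerSeries.map_frobenius_expand p hp
  rw [← h, PowerSeries.coeff_map, PowerSeries.coeff_expand]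
  split_ifs with hd
  · rw [frobenius_def]
  · rw [map_zero]

theorem powerSeries_basis (k : Type*) [Field k] [PerfectField k] (p : ℕ) [Fact p.Prime] [CharP k p] :
    (∀ f : PowerSeries k, ∃ g : Fin p → PowerSeries k, f = ∑ i, g i ^ p * PowerSeries.X ^ (i : ℕ)) ∧
    (∀ g : Fin p → PowerSeries k, ∑ i, g i ^ p * PowerSeries.X ^ (i : ℕ) = 0 → ∀ i, g i = 0) := by
  haveI : ExpChar k p := ExpChar.prime (Fact.out : p.Prime)
  haveI : PerfectRing k p := PerfectField.toPerfectRing p
  have hp := (Fact.out : p.Prime).pos
  have hsum : ∀ (g : Fin p → PowerSeries k) (n : ℕ) (j : Fin p),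
      PowerSeries.coeff (p * n + (j : ℕ)) (∑ i, g i ^ p * PowerSeries.X ^ (i : ℕ)) =
        PowerSeries.coeff n (g j) ^ p := by
    intro g n j
    rw [map_sum, Finset.sum_eq_single j ?_ (by simp)]
    · rw [PowerSeries.coeff_mul_X_pow, coeff_pow_char, if_pos (dvd_mul_right _ _), Nat.mul_div_cancel_left _ hp]
    · intro i _ hij
      rw [PowerSeries.coeff_mul_X_pow']
      split_ifs with hle
      · rw [coeff_pow_char, if_neg]
        rintro ⟨c, hc⟩
        apply hij
        apply Fin.ext
        have h1 : p * n + (j : ℕ) = p * c + (i : ℕ) := by omega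
        have h2 := congrArg (· % p) h1
        simp only [Nat.mul_add_mod, Nat.mod_eq_of_lt i.2, Nat.mod_eq_of_lt j.2] at h2
        exact h2.symm
      · rfl
  constructor
  · intro f
    choose r hr using fun c : k => (bijective_frobenius k p).2 c
    refine ⟨fun j => PowerSeries.mk fun n => r (PowerSeries.coeff (p * n + (j : ℕ)) f), ?_⟩
    ext N
    have hN : N = p * (N / p) + ((⟨N % p, Nat.mod_lt _ hp⟩ : Fin p) : ℕ) := (Nat.div_add_mod N p).symm
    rw [hN, hsum, PowerSeries.coeff_mk, ← frobenius_def, hr]
  · intro g hg j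
    ext n
    have := hsum g n j
    rw [hg, map_zero] at this
    rw [map_zero]
    exact eq_zero_of_pow_eq_zero this.symm

open MvPolynomial in
theorem poly_basis (F : Type*) [Field F] (p : ℕ) [Fact p.Prime] [CharP F p] (r : ℕ) {ι : Type*} [Fintype ι] (β : ι → F)
    (hdec : ∀ f : F, ∃ g : ι → F, f = ∑ i, g i ^ p * β i)
    (hind : ∀ g : ι → F, ∑ i, g i ^ p * β i = 0 → ∀ i, g i = 0) :
    (∀ f : MvPolynomial (Fin r) F, ∃ g : ι × (Fin r → Fin p) → MvPolynomial (Fin r) F,
      f = ∑ a, g a ^ p * (C (β a.1) * ∏ i, X i ^ (a.2 i : ℕ))) ∧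
    (∀ g : ι × (Fin r → Fin p) → MvPolynomial (Fin r) F,
      ∑ a, g a ^ p * (C (β a.1) * ∏ i, X i ^ (a.2 i : ℕ)) = 0 → ∀ a, g a = 0) := by
  classical
  haveI : ExpChar F p := ExpChar.prime (Fact.out : p.Prime)
  have hp : 0 < p := (Fact.out : p.Prime).pos
  constructor
  · intro f
    induction f using MvPolynomial.induction_on' with
    | add f f' hf hf' =>
      obtain ⟨g, rfl⟩ := hf
      obtain ⟨g', rfl⟩ := hf'
      refine ⟨fun a => g a + g' a, ?_⟩
      rw [← Finset.sum_add_distrib]
      refine Finset.sum_congr rfl fun a _ => ?_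
      rw [add_pow_char (p := p), add_mul]
    | monomial d c =>
      obtain ⟨c', hc'⟩ := hdec c
      let a₀ : Fin r → Fin p := fun i => ⟨d i % p, Nat.mod_lt _ hp⟩
      refine ⟨fun a => if a.2 = a₀ then C (c' a.1) * ∏ i, X i ^ (d i / p) else 0, ?_⟩
      rw [Fintype.sum_prod_type]
      conv_rhs =>
        enter [2, i]
        rw [Finset.sum_eq_single a₀ (fun a _ ha => by simp [ha, zero_pow hp.ne']) (by simp)]
      simp only [if_true]
      rw [MvPolynomial.monomial_eq, hc', map_sum, Finset.sum_mul]
      refine Finset.sum_congr rfl fun j _ => ?_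
      rw [Finsupp.prod_fintype _ _ fun i => pow_zero _, map_mul, map_pow, mul_pow, ← Finset.prod_pow,
        show ∀ A B D E : MvPolynomial (Fin r) F, A * B * (D * E) = A * D * (B * E) from fun A B D E => by ring,
        ← Finset.prod_mul_distrib]
      congr 1
      refine Finset.prod_congr rfl fun i _ => ?_
      rw [← pow_mul, ← pow_add, mul_comm, Nat.div_add_mod]
  · intro g h a
    ext d
    rw [coeff_zero]
    let D : Fin r →₀ ℕ := p • d + Finsupp.equivFunOnFinite.symm fun i => (a.2 i : ℕ)
    have hmon : ∀ b : ι × (Fin r → Fin p), (C (β b.1) * ∏ i, (X i : MvPolynomial (Fin r) F) ^ (b.2 i : ℕ)) =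
        monomial (Finsupp.equivFunOnFinite.symm fun i => (b.2 i : ℕ)) (β b.1) := fun b => by
      rw [monomial_eq, Finsupp.prod_fintype _ _ fun i => pow_zero _]
      rfl
    have hpow : ∀ f : MvPolynomial (Fin r) F, f ^ p = ∑ u ∈ f.support, monomial (p • u) (f.coeff u ^ p) := fun f => by
      conv_lhs => rw [f.as_sum]
      rw [sum_pow_char (p := p)]
      exact Finset.sum_congr rfl fun u _ => by rw [monomial_pow]
    have h1 := congrArg (coeff D) h
    rw [coeff_zero, coeff_sum] at h1
    have hterm : ∀ b, coeff D (g b ^ p * (C (β b.1) * ∏ i, X i ^ (b.2 i : ℕ))) =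
        if b.2 = a.2 then (g b).coeff d ^ p * β b.1 else 0 := by
      intro b
      rw [hmon, hpow, Finset.sum_mul, coeff_sum]
      simp only [monomial_mul, coeff_monomial]
      have hiff : ∀ u, p • u + (Finsupp.equivFunOnFinite.symm fun i => (b.2 i : ℕ)) = D ↔ (b.2 = a.2 ∧ u = d) := by
        intro u
        refine ⟨fun hu => ?_, fun ⟨h1, h2⟩ => by rw [h1, h2]⟩
        have hi : ∀ i, p * u i + b.2 i = p * d i + a.2 i := fun i => by
          have := congrArg (fun z : Fin r →₀ ℕ => z i) hu
          simpa [D] using this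
        have hb : b.2 = a.2 := funext fun i => Fin.ext (by
          have := congrArg (· % p) (hi i)
          simpa [Nat.add_mod, Nat.mod_eq_of_lt (b.2 i).2, Nat.mod_eq_of_lt (a.2 i).2] using this)
        refine ⟨hb, Finsupp.ext fun i => ?_⟩
        have := hi i
        rw [hb] at this
        exact Nat.eq_of_mul_eq_mul_left hp (Nat.add_right_cancel this)
      simp only [hiff]
      by_cases hb : b.2 = a.2
      · simp only [hb, true_and, Finset.sum_ite_eq', if_true, MvPolynomial.mem_support_iff]
        by_cases hd : (g b).coeff d = 0 <;> simp [hd, zero_pow hp.ne']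
      · simp [hb]
    rw [Finset.sum_congr rfl fun b _ => hterm b, Fintype.sum_prod_type] at h1
    simp only [Finset.sum_ite_eq', Finset.mem_univ, if_true] at h1
    exact hind (fun i => (g (i, a.2)).coeff d) h1 a.1

/-- The degree over p-th powers is invariant under finite extensions. -/
theorem finrank_tower (Fs K : Type*) [Field Fs] [Field K] [Algebra Fs K] [FiniteDimensional Fs K]
    (p : ℕ) [Fact p.Prime] [CharP Fs p] [CharP K p] :
    Module.finrank (frobenius K p).fieldRange K = Module.finrank (frobenius Fs p).fieldRange Fs := by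
  let F' := (frobenius Fs p).fieldRange
  let L := (frobenius K p).fieldRange
  let ιF : F' →+* L :=
    { toFun := fun x => ⟨algebraMap Fs K x, by
        obtain ⟨y, hy⟩ := x.2
        exact ⟨algebraMap Fs K y, by rw [← hy, frobenius_def, frobenius_def, map_pow]⟩⟩
      map_one' := Subtype.ext (by simp), map_mul' := fun _ _ => Subtype.ext (by simp),
      map_zero' := Subtype.ext (by simp), map_add' := fun _ _ => Subtype.ext (by simp) }
  letI : Algebra F' L := ιF.toAlgebra
  haveI : IsScalarTower F' L K := IsScalarTower.of_algebraMap_eq fun _ => rfl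
  have hd : Module.finrank F' L = Module.finrank Fs K := by
    let a : Fs ≃+* F' := RingEquiv.ofBijective (frobenius Fs p).rangeRestrictField
      ⟨(frobenius Fs p).rangeRestrictField.injective, fun ⟨_, y, hy⟩ => ⟨y, Subtype.ext hy⟩⟩
    let b : K ≃+* L := RingEquiv.ofBijective (frobenius K p).rangeRestrictField
      ⟨(frobenius K p).rangeRestrictField.injective, fun ⟨_, y, hy⟩ => ⟨y, Subtype.ext hy⟩⟩
    refine (Algebra.finrank_eq_of_equiv_equiv a b (RingHom.ext fun x => Subtype.ext ?_)).symm
    show algebraMap Fs K (frobenius Fs p x) = frobenius K p (algebraMap Fs K x)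
    rw [frobenius_def, frobenius_def, map_pow]
  have h1 := Module.finrank_mul_finrank F' L K
  have h2 := Module.finrank_mul_finrank F' Fs K
  rw [hd] at h1
  rw [← h2, mul_comm (Module.finrank F' Fs)] at h1
  exact Nat.eq_of_mul_eq_mul_left Module.finrank_pos h1

end helpers

/-- Let p be a prime, k a finite field of characteristic p and K a finitely generated field extension of
the Laurent series field k((t)) of finite transcendence degree d. Then [K : K^p] = p^(d+1), where
K^p ⊆ K is the subfield of p-th powers (the image of the Frobenius). The case of interest is the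
residue field of a generic point of a projective strictly semistable scheme of relative dimension d
over k[[t]], which is such an extension. -/
theorem result (p : ℕ) [Fact p.Prime]
    (k : Type u) [Field k] [Finite k] [CharP k p]
    (K : Type u) [Field K] [Algebra (LaurentSeries k) K] [CharP K p]
    (hfg : (⊤ : IntermediateField (LaurentSeries k) K).FG)
    (d : ℕ) (hd : Algebra.trdeg (LaurentSeries k) K = d) :
    Module.finrank (↥(frobenius K p).fieldRange) K = p ^ (d + 1) := by
  classical
  haveI : CharP (LaurentSeries k) p := (algebraMap (LaurentSeries k) K).charP (RingHom.injective _) p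
  -- the Frobenius basis of the Laurent series field
  obtain ⟨hd1, hi1⟩ := powerSeries_basis k p
  obtain ⟨hd2, hi2⟩ := frac (PowerSeries k) (LaurentSeries k) p (Fact.out : p.Prime).pos
    (fun i : Fin p => (PowerSeries.X : PowerSeries k) ^ (i : ℕ)) hd1 hi1
  obtain ⟨hd3, hi3⟩ := poly_basis (LaurentSeries k) p d _ hd2 hi2
  -- a transcendence basis
  obtain ⟨s, hs⟩ := exists_isTranscendenceBasis (LaurentSeries k) K
  have hcard : Cardinal.mk s = d := hs.cardinalMk_eq_trdeg.trans hd
  obtain ⟨es⟩ : Nonempty (Fin d ≃ s) := by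
    rw [← Cardinal.lift_mk_eq'.{0, u}]
    simp [hcard]
  let x : Fin d → K := fun i => (es i : K)
  have hx : IsTranscendenceBasis (LaurentSeries k) x := hs.comp_equiv es
  let E := IntermediateField.adjoin (LaurentSeries k) (Set.range x)
  haveI : Algebra.IsAlgebraic E K := hx.isAlgebraic_field
  haveI : FiniteDimensional E K := by
    obtain ⟨t, ht⟩ := hfg
    have hadj : IntermediateField.adjoin E (t : Set K) = ⊤ := by
      refine top_le_iff.mp fun y _ => ?_
      have h1 : IntermediateField.adjoin (LaurentSeries k) (t : Set K) ≤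
          (IntermediateField.adjoin E (t : Set K)).restrictScalars (LaurentSeries k) :=
        IntermediateField.adjoin_le_iff.mpr (IntermediateField.subset_adjoin E _)
      exact h1 (ht ▸ IntermediateField.mem_top)
    haveI := IntermediateField.finiteDimensional_adjoin (K := E) (L := K) (S := (t : Set K))
      fun y _ => Algebra.IsIntegral.isIntegral y
    rw [hadj] at this
    exact IntermediateField.topEquiv.toLinearEquiv.finiteDimensional
  haveI : CharP E p := (algebraMap E K).charP (RingHom.injective _) p
  rw [finrank_tower E K p]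
  let P := MvPolynomial (Fin d) (LaurentSeries k)
  letI : Algebra P E := (hx.1.aevalEquivField.toAlgHom.toRingHom.comp (algebraMap P (FractionRing P))).toAlgebra
  haveI : IsFractionRing P E := by
    let ψ : FractionRing P ≃ₐ[P] E :=
      AlgEquiv.ofRingEquiv (f := hx.1.aevalEquivField.toRingEquiv) fun y => rfl
    exact IsLocalization.isLocalization_of_algEquiv (nonZeroDivisors _) ψ
  obtain ⟨hd4, hi4⟩ := frac P E p (Fact.out : p.Prime).pos _ hd3 hi3
  rw [finrank_of E p _ hd4 hi4, Fintype.card_prod, Fintype.card_fun, Fintype.card_fin, Fintype.card_fin, pow_succ,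
    mul_comm]

end Groth.Agent.S19094
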