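import Groth.Statements.S19106
import Mathlib

set_option autoImplicit false
open HilbD

namespace Groth.Agent.S19106

/-- Let μ be a non-empty Young diagram, V the number of its cells, E the number of unordered pairs of
cells sharing a side (a cell together with the cell immediately below it, or immediately to its
right, both in μ) and Q the number of 2 × 2 blocks of cells of μ (cells c such that the cell
diagonally below-right of c is in μ, the other two corners being in μ automatically). Then V − E + Q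
− 1 = 0, stated as V + Q = E + 1 in the naturals. (The empty diagram, for which the count reads 0 −
0 + 0 − 1, is excluded.) -/
theorem result (μ : YoungDiagram) (hμ : μ ≠ ⊥) :
    μ.cells.card + (μ.cells.filter (fun c => (c.1 + 1, c.2 + 1) ∈ μ)).card =
      (μ.cells.filter (fun c => (c.1 + 1, c.2) ∈ μ)).card + (μ.cells.filter (fun c => (c.1, c.2 + 1) ∈ μ)).card + 1 := by
  classical
  set C := μ.cells with hC
  let f1 : ℕ × ℕ → ℕ × ℕ := fun c => (c.1 + 1, c.2)
  let f2 : ℕ × ℕ → ℕ × ℕ := fun c => (c.1, c.2 + 1)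
  let f3 : ℕ × ℕ → ℕ × ℕ := fun c => (c.1 + 1, c.2 + 1)
  have img : ∀ (f : ℕ × ℕ → ℕ × ℕ), Function.Injective f → (∀ c, c ≤ f c) → ∀ T : Finset (ℕ × ℕ),
      (∀ x, x ∈ T ↔ x ∈ C ∧ ∃ c, f c = x) → (C.filter fun c => f c ∈ μ).card = T.card := by
    intro f hf hle T hT
    rw [← Finset.card_image_of_injective _ hf]
    congr 1
    ext x
    rw [Finset.mem_image, hT]
    constructor
    · rintro ⟨c, hc, rfl⟩
      exact ⟨(YoungDiagram.mem_cells _).2 (Finset.mem_filter.1 hc).2, c, rfl⟩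
    · rintro ⟨hx, c, rfl⟩
      exact ⟨c, Finset.mem_filter.2 ⟨(YoungDiagram.mem_cells _).2 (μ.isLowerSet (hle c) hx), (YoungDiagram.mem_cells _).1 hx⟩, rfl⟩
  have e1 := img f1 (fun a b h => by simpa [f1, Prod.ext_iff] using h) (fun c => ⟨Nat.le_succ _, le_rfl⟩) (C.filter fun x => 1 ≤ x.1) (fun x => by
    rw [Finset.mem_filter]
    refine and_congr_right fun _ => ⟨fun h => ⟨(x.1 - 1, x.2), ?_⟩, ?_⟩
    · exact Prod.ext (Nat.succ_pred_eq_of_pos h) rfl
    · rintro ⟨c, rfl⟩; simp [f1])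
  have e2 := img f2 (fun a b h => by simpa [f2, Prod.ext_iff] using h) (fun c => ⟨le_rfl, Nat.le_succ _⟩) (C.filter fun x => 1 ≤ x.2) (fun x => by
    rw [Finset.mem_filter]
    refine and_congr_right fun _ => ⟨fun h => ⟨(x.1, x.2 - 1), ?_⟩, ?_⟩
    · exact Prod.ext rfl (Nat.succ_pred_eq_of_pos h)
    · rintro ⟨c, rfl⟩; simp [f2])
  have e3 := img f3 (fun a b h => by simpa [f3, Prod.ext_iff] using h) (fun c => ⟨Nat.le_succ _, Nat.le_succ _⟩) ((C.filter fun x => 1 ≤ x.1) ∩ (C.filter fun x => 1 ≤ x.2)) (fun x => by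
    simp only [Finset.mem_inter, Finset.mem_filter]
    constructor
    · rintro ⟨⟨h, h1⟩, -, h2⟩
      exact ⟨h, (x.1 - 1, x.2 - 1), Prod.ext (Nat.succ_pred_eq_of_pos h1) (Nat.succ_pred_eq_of_pos h2)⟩
    · rintro ⟨h, c, rfl⟩; simp [f3, h])
  show C.card + (C.filter fun c => f3 c ∈ μ).card = (C.filter fun c => f1 c ∈ μ).card + (C.filter fun c => f2 c ∈ μ).card + 1
  rw [e1, e2, e3, ← Finset.card_union_add_card_inter (C.filter fun x => 1 ≤ x.1) (C.filter fun x => 1 ≤ x.2)]
  have h00 : ((0, 0) : ℕ × ℕ) ∈ C := by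
    obtain ⟨c, hc⟩ : C.Nonempty := by
      rw [Finset.nonempty_iff_ne_empty]
      exact fun h => hμ (YoungDiagram.ext (by rw [← hC, h]; rfl))
    exact μ.isLowerSet (show ((0, 0) : ℕ × ℕ) ≤ c from ⟨Nat.zero_le _, Nat.zero_le _⟩) hc
  have : (C.filter fun x => 1 ≤ x.1) ∪ (C.filter fun x => 1 ≤ x.2) = C.erase (0, 0) := by
    ext ⟨a, b⟩
    simp only [Finset.mem_union, Finset.mem_filter, Finset.mem_erase, ne_eq, Prod.mk.injEq]
    constructor
    · rintro (⟨h, h'⟩ | ⟨h, h'⟩) <;> exact ⟨by omega, h⟩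
    · rintro ⟨h, h'⟩
      rcases Nat.eq_zero_or_pos a with h0 | h0
      · exact Or.inr ⟨h', by omega⟩
      · exact Or.inl ⟨h', h0⟩
  rw [this, Finset.card_erase_of_mem h00]
  have := Finset.card_pos.2 ⟨_, h00⟩
  omega

end Groth.Agent.S19106
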