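import Groth.Statements.S19155
import Groth.Agent.Lib.RootBase

set_option autoImplicit false
open RootPairing
open RootD

namespace Groth.Agent.S19155

/-- Let P be a root datum (root pairing over ℤ with finitely many roots, roots in M), S a system of
positive roots, Γ a non-trivial totally ordered commutative group and f : M → Γ additive. Call f
dominant when f(α) ≥ 0 for every positive root α. Then the dominant maps form a fundamental domain
for the Weyl group W acting on Hom(M, Γ) through M: there is w ∈ W with f ∘ w dominant, and if f and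
f ∘ w are both dominant (w ∈ W) then f ∘ w = f. -/
theorem result {ι M N : Type*} [AddCommGroup M] [AddCommGroup N]
    (P : RootPairing ι ℤ M N) [Finite ι] (S : Set ι) (hS : RootD.IsPosSys P S)
    {Γ : Type*} [AddCommGroup Γ] [LinearOrder Γ] [IsOrderedAddMonoid Γ] [Nontrivial Γ] (f : M →+ Γ) :
    (∃ g : P.Aut, g ∈ P.weylGroup ∧ ∀ i ∈ S, 0 ≤ f (RootPairing.Equiv.weightHom P g (P.root i))) ∧
    (∀ g : P.Aut, g ∈ P.weylGroup → (∀ i ∈ S, 0 ≤ f (P.root i)) →
      (∀ i ∈ S, 0 ≤ f (RootPairing.Equiv.weightHom P g (P.root i))) →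
      ∀ m : M, f (RootPairing.Equiv.weightHom P g m) = f m) := by
  constructor
  · obtain ⟨g, hg, hsub⟩ := RootLib.exists_img_subset_closed hS (T := {k | 0 ≤ f (P.root k)})
      (fun i => by simp only [Set.mem_setOf_eq, RootLib.root_nr, map_neg, Left.nonneg_neg_iff]; exact le_total _ _)
      (fun i j k hi hj h => by simp only [Set.mem_setOf_eq] at hi hj ⊢; rw [h, map_add]; exact add_nonneg hi hj)
    refine ⟨g, RootLib.closure_le_weylGroup _ hg, fun i hi => ?_⟩
    have h2 : 0 ≤ f (P.root (g • i)) := hsub ⟨i, hi, rfl⟩
    rw [RootLib.root_smul] at h2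
    exact h2
  · intro g hg hf hfg m
    have hΔ := RootLib.isSimpleSys_simples hS
    have hpos := RootLib.posOf_simples hS
    show f (g • m) = f m
    have hfg' : ∀ i ∈ S, 0 ≤ f (g • P.root i) := hfg
    clear hfg
    revert hfg'
    refine RootLib.exists_word_induction hΔ hg (Q := fun g => (∀ i ∈ S, 0 ≤ f (g • P.root i)) → f (g • m) = f m) (by simp) ?_
    intro g' a _ ha hga ih hfg
    have hz : f (g' • P.root a) = 0 := by
      refine le_antisymm ?_ (by rw [← RootLib.root_smul]; exact hf _ (hpos ▸ hga))
      have := hfg a ha.1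
      rwa [mul_smul, ← RootLib.root_smul (RootPairing.Equiv.reflection P a), RootLib.refl_smul_self,
        RootLib.root_nr, smul_neg, map_neg, Left.nonneg_neg_iff] at this
    have hlin : ∀ x : M, f ((g' * RootPairing.Equiv.reflection P a) • x) = f (g' • x) := fun x => by
      rw [mul_smul, RootPairing.Equiv.reflection_smul, P.reflection_apply, smul_sub, map_sub, smul_comm g',
        map_zsmul, hz, smul_zero, sub_zero]
    rw [hlin]
    exact ih fun i hi => by rw [← hlin]; exact hfg i hi

end Groth.Agent.S19155
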