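import Groth.Statements.S19156
import Groth.Agent.Lib.RootBase

set_option autoImplicit false
open RootPairing
open RootD

namespace Groth.Agent.S19156

/-- Let P be a root datum (root pairing over ℤ with finitely many roots indexed by ι), S a system of
positive roots, Γ a non-trivial totally ordered commutative group and f : M → Γ additive. Then f is
dominant (non-negative on the positive roots) if and only if, for every w in the Weyl group, f − f ∘
w is a combination m ↦ Σ_{α ∈ S} ⟨m, α∨⟩ c_α of the positive coroots with coefficients c_α ≥ 0 in Γ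
(f ∘ w is strongly dominated by f); and f is dominant if and only if f(w m) ≤ f(m) for every w ∈ W
and every dominant weight m (weak dominance). -/
theorem result {ι M N : Type*} [AddCommGroup M] [AddCommGroup N]
    (P : RootPairing ι ℤ M N) [Fintype ι] (S : Set ι) (hS : RootD.IsPosSys P S)
    {Γ : Type*} [AddCommGroup Γ] [LinearOrder Γ] [IsOrderedAddMonoid Γ] [Nontrivial Γ] (f : M →+ Γ) :
    ((∀ i ∈ S, 0 ≤ f (P.root i)) ↔
      ∀ g : P.Aut, g ∈ P.weylGroup → ∃ c : ι → Γ, (∀ i, 0 ≤ c i) ∧ (∀ i, i ∉ S → c i = 0) ∧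
        ∀ m : M, f m - f (RootPairing.Equiv.weightHom P g m) = ∑ i, (P.coroot' i m) • c i) ∧
    ((∀ i ∈ S, 0 ≤ f (P.root i)) ↔
      ∀ g : P.Aut, g ∈ P.weylGroup → ∀ m : M, (∀ i ∈ S, 0 ≤ P.coroot' i m) →
        f (RootPairing.Equiv.weightHom P g m) ≤ f m) := by
  classical
  have hΔ := RootLib.isSimpleSys_simples hS
  have hpos := RootLib.posOf_simples hS
  have hcomb : (∀ i ∈ S, 0 ≤ f (P.root i)) → ∀ g : P.Aut, g ∈ P.weylGroup → ∃ c : ι → Γ, (∀ i, 0 ≤ c i) ∧ (∀ i, i ∉ S → c i = 0) ∧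
      ∀ m : M, f m - f (g • m) = ∑ i, (P.coroot' i m) • c i := by
    intro hf g hg
    refine RootLib.exists_word_induction hΔ hg (Q := fun g => ∃ c : ι → Γ, (∀ i, 0 ≤ c i) ∧ (∀ i, i ∉ S → c i = 0) ∧
      ∀ m : M, f m - f (g • m) = ∑ i, (P.coroot' i m) • c i) ⟨0, fun _ => le_rfl, fun _ _ => rfl, by simp⟩ ?_
    rintro g' a - ha hga ⟨c, hc1, hc2, hc3⟩
    have hpa : 0 ≤ f (P.root (g' • a)) := hf _ (hpos ▸ hga)
    refine ⟨c + Pi.single a (f (P.root (g' • a))), fun i => ?_, fun i hi => ?_, fun m => ?_⟩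
    · by_cases h : i = a
      · subst h; simpa using add_nonneg (hc1 i) hpa
      · simpa [h] using hc1 i
    · have : i ≠ a := fun h => hi (h ▸ ha.1)
      simp [this, hc2 i hi]
    · rw [mul_smul, RootPairing.Equiv.reflection_smul, P.reflection_apply, smul_sub, map_sub, smul_comm g',
        map_zsmul, ← RootLib.root_smul]
      simp only [Pi.add_apply, smul_add, Finset.sum_add_distrib, ← hc3]
      rw [Finset.sum_eq_single a] <;> simp +contextual
      abel
  obtain ⟨m₀, hm₀⟩ := RootLib.exists_regular_dominant hS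
  have hweak : (∀ g : P.Aut, g ∈ P.weylGroup → ∀ m : M, (∀ i ∈ S, 0 ≤ P.coroot' i m) → f (g • m) ≤ f m) →
      ∀ i ∈ S, 0 ≤ f (P.root i) := by
    intro h i hi
    have h1 := h _ (P.reflection_mem_weylGroup i) m₀ fun t ht => (hm₀ t ht).le
    rw [RootPairing.Equiv.reflection_smul, P.reflection_apply, map_sub, map_zsmul, sub_le_self_iff] at h1
    by_contra hneg
    have h2 := zsmul_pos (neg_pos.2 (not_le.1 hneg)) (hm₀ i hi)
    rw [zsmul_neg, neg_pos] at h2
    exact absurd h1 (not_le.2 h2)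
  have hto : (∀ g : P.Aut, g ∈ P.weylGroup → ∃ c : ι → Γ, (∀ i, 0 ≤ c i) ∧ (∀ i, i ∉ S → c i = 0) ∧
      ∀ m : M, f m - f (g • m) = ∑ i, (P.coroot' i m) • c i) →
      ∀ g : P.Aut, g ∈ P.weylGroup → ∀ m : M, (∀ i ∈ S, 0 ≤ P.coroot' i m) → f (g • m) ≤ f m := by
    intro h g hg m hm
    obtain ⟨c, hc1, hc2, hc3⟩ := h g hg
    rw [← sub_nonneg, hc3]
    refine Finset.sum_nonneg fun i _ => ?_
    by_cases hi : i ∈ S
    · exact zsmul_nonneg (hc1 i) (hm i hi)
    · simp [hc2 i hi]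
  exact ⟨⟨hcomb, fun h => hweak (hto h)⟩, ⟨fun h => hto (hcomb h), hweak⟩⟩

end Groth.Agent.S19156
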