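import Groth.Statements.S19158
import Mathlib

set_option autoImplicit false
set_option backward.isDefEq.respectTransparency.types false
set_option maxHeartbeats 1000000
set_option linter.all false
universe u v w
open FiltMod

namespace Groth.Agent.S19158
open Groth.Agent

/-- In affine form, let Γ be a non-trivial totally ordered commutative group, R a commutative ring and
(M_a) a finite family of finitely generated projective R-modules, each carrying a non-increasing
Γ-indexed family of submodules F_a; give M = Π_a M_a the family F^γ = Π_a F_a^γ. Then F is split by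
a Γ-grading of M (an internal direct sum decomposition M = ⊕_γ G_γ with F^γ = Σ_{η ≥ γ} G_η for all
γ) if and only if each F_a is split by a Γ-grading of M_a. (The published statement is for finite
locally free sheaves on a scheme, where a filtration counts as split when it is split by a grading
locally on the scheme; this row is the affine case, in which that is the same as being split by one
global grading.) -/
theorem result
    {Γ : Type w} [AddCommGroup Γ] [LinearOrder Γ] [IsOrderedAddMonoid Γ] [Nontrivial Γ]
    {R : Type u} [CommRing R] {A : Type v} [Fintype A] (M : A → Type v) [∀ a, AddCommGroup (M a)] [∀ a, Module R (M a)]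
    [∀ a, Module.Finite R (M a)] [∀ a, Module.Projective R (M a)]
    (F : ∀ a, Γ → Submodule R (M a)) (hF : ∀ a, Antitone (F a)) :
    (∃ G : Γ → Submodule R (∀ a, M a), DirectSum.IsInternal G ∧
        ∀ γ, Submodule.pi Set.univ (fun a => F a γ) = ⨆ η ∈ Set.Ici γ, G η) ↔
    ∀ a, ∃ G : Γ → Submodule R (M a), DirectSum.IsInternal G ∧ ∀ γ, F a γ = ⨆ η ∈ Set.Ici γ, G η := by
    classical
    have hpi : ∀ {I : Type w} (p : I → Prop) (N : I → ∀ a, Submodule R (M a)),
        Submodule.pi Set.univ (fun a => ⨆ (i) (_ : p i), N i a) = ⨆ (i) (_ : p i), Submodule.pi Set.univ (N i) := by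
      intro I p N
      refine le_antisymm (fun x hx => ?_) (iSup₂_le fun i hi x hx a _ => Submodule.mem_iSup_of_mem i (Submodule.mem_iSup_of_mem hi (hx a trivial)))
      rw [← Finset.univ_sum_single x]
      refine Submodule.sum_mem _ fun a _ => ?_
      have h : Submodule.map (LinearMap.single R M a) (⨆ (i) (_ : p i), N i a) ≤ ⨆ (i) (_ : p i), Submodule.pi Set.univ (N i) := by
        simp only [Submodule.map_iSup]
        refine iSup₂_mono fun i hi => ?_
        rintro _ ⟨y, hy, rfl⟩ b _
        by_cases hb : b = a
        · subst hb; simpa using hy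
        · simp [Pi.single_eq_of_ne hb]
      exact h ⟨x a, hx a trivial, rfl⟩
    constructor
    · rintro ⟨G, hG, hFG⟩ a
      let π : ∀ γ, (∀ a, M a) →ₗ[R] G γ := fun γ =>
        DFinsupp.lapply γ ∘ₗ (LinearEquiv.ofBijective (DirectSum.coeLinearMap G) hG).symm.toLinearMap
      have πne : ∀ γ η, η ≠ γ → ∀ x ∈ G η, π γ x = 0 := fun γ η h x hx => hG.ofBijective_coeLinearMap_of_mem_ne h hx
      have πeq : ∀ γ, ∀ x ∈ G γ, (π γ x : ∀ a, M a) = x := fun γ x hx =>
        congrArg Subtype.val (hG.ofBijective_coeLinearMap_of_mem hx)
      have hGF : ∀ γ, G γ ≤ Submodule.pi Set.univ (fun a => F a γ) := fun γ => by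
        rw [hFG]; exact le_iSup₂_of_le γ (le_refl γ) le_rfl
      let P : Γ → Submodule R (∀ a, M a) := fun γ => ⨆ η ∈ Set.Ioi γ, G η
      have hP : ∀ γ, P γ = Submodule.pi Set.univ (fun a => ⨆ η ∈ Set.Ioi γ, F a η) := fun γ => by
        rw [hpi (fun η => η ∈ Set.Ioi γ) (fun η a => F a η)]
        refine le_antisymm (iSup₂_mono fun η _ => hGF η) (iSup₂_le fun η hη => ?_)
        rw [hFG]
        exact iSup₂_le fun η' hη' => le_iSup₂_of_le η' (lt_of_lt_of_le hη hη') le_rfl
      have πP : ∀ γ, P γ ≤ LinearMap.ker (π γ) := fun γ => iSup₂_le fun η hη x hx => πne γ η (ne_of_gt hη) x hx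
      have Psplit : ∀ γ, ∀ x ∈ Submodule.pi Set.univ (fun a => F a γ), x - (π γ x : ∀ a, M a) ∈ P γ := by
        intro γ x hx
        rw [hFG] at hx
        have : (⨆ η ∈ Set.Ici γ, G η) ≤ Submodule.comap (LinearMap.id - (G γ).subtype ∘ₗ π γ) (P γ) := by
          refine iSup₂_le fun η hη z hz => ?_
          show z - (π γ z : ∀ a, M a) ∈ P γ
          rcases eq_or_lt_of_le (Set.mem_Ici.1 hη) with h | h
          · subst h; rw [πeq γ z hz, sub_self]; exact zero_mem _
          · rw [πne γ η (ne_of_gt h) z hz, Submodule.coe_zero, sub_zero]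
            exact Submodule.mem_iSup_of_mem η (Submodule.mem_iSup_of_mem h hz)
        exact this hx
      have single_mem : ∀ (N : ∀ b, Submodule R (M b)) y, y ∈ N a → Pi.single a y ∈ Submodule.pi Set.univ N := by
        intro N y hy b _
        by_cases hb : b = a
        · subst hb; simpa using hy
        · simp [Pi.single_eq_of_ne hb]
      let s : Γ → (M a →ₗ[R] M a) := fun γ => LinearMap.proj a ∘ₗ (G γ).subtype ∘ₗ π γ ∘ₗ LinearMap.single R M a
      let H : Γ → Submodule R (M a) := fun γ => Submodule.map (s γ) (F a γ)
      let Fg : Γ → Submodule R (M a) := fun γ => ⨆ η ∈ Set.Ioi γ, F a η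
      have sF : ∀ γ y, s γ y ∈ F a γ := fun γ y => hGF γ (π γ (Pi.single a y)).2 a trivial
      have ssub : ∀ γ, ∀ y ∈ F a γ, y - s γ y ∈ Fg γ := fun γ y hy => by
        have h := Psplit γ _ (single_mem (fun b => F b γ) y hy)
        rw [hP] at h
        have := h a trivial
        simpa [s, Fg] using this
      have skill : ∀ γ, ∀ y ∈ Fg γ, s γ y = 0 := fun γ y hy => by
        have h : Pi.single a y ∈ P γ := by rw [hP]; exact single_mem (fun b => ⨆ η ∈ Set.Ioi γ, F b η) y hy
        show (π γ (Pi.single a y) : ∀ a, M a) a = 0
        rw [show π γ (Pi.single a y) = 0 from πP γ h]; rfl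
      have sidem : ∀ γ, ∀ y ∈ H γ, s γ y = y := by
        rintro γ _ ⟨y, hy, rfl⟩
        have := skill γ _ (ssub γ y hy)
        rw [map_sub, sub_eq_zero] at this
        exact this.symm
      obtain ⟨gens, hgens⟩ := (Module.Finite.fg_top : (⊤ : Submodule R (∀ a, M a)).FG)
      let e := LinearEquiv.ofBijective (DirectSum.coeLinearMap G) hG
      let S : Finset Γ := gens.biUnion fun x => DFinsupp.support (e.symm x)
      have hS : ∀ γ, γ ∉ S → π γ = 0 := fun γ hγ => LinearMap.ext_on hgens fun x hx => by
        show e.symm x γ = 0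
        by_contra h
        exact hγ (Finset.mem_biUnion.2 ⟨x, hx, DFinsupp.mem_support_iff.2 h⟩)
      have hGS : ∀ γ, γ ∉ S → G γ = ⊥ := fun γ hγ => by
        rw [Submodule.eq_bot_iff]
        intro x hx
        rw [← πeq γ x hx, hS γ hγ]; rfl
      have hFgS : ∀ γ, Fg γ ≤ ⨆ η ∈ S.filter (γ < ·), F a η := by
        intro γ
        refine iSup₂_le fun η hη y hy => ?_
        have h := single_mem (fun b => F b η) y hy
        rw [hFG] at h
        have hle : (⨆ η' ∈ Set.Ici η, G η') ≤ ⨆ η' ∈ S.filter (γ < ·), Submodule.pi Set.univ (fun b => F b η') := by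
          refine iSup₂_le fun η' hη' => ?_
          by_cases h' : η' ∈ S
          · exact (hGF η').trans (le_iSup₂_of_le η' (Finset.mem_filter.2 ⟨h', lt_of_lt_of_le hη hη'⟩) le_rfl)
          · rw [hGS η' h']; exact bot_le
        have := hle h
        rw [← hpi] at this
        simpa using this a trivial
      have main : ∀ n γ, (S.filter (γ < ·)).card = n → F a γ ≤ ⨆ η ∈ Set.Ici γ, H η := by
        intro n
        induction n using Nat.strong_induction_on with
        | _ n ih =>
          intro γ hn y hy
          rw [show y = s γ y + (y - s γ y) by abel]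
          refine add_mem (Submodule.mem_iSup_of_mem γ (Submodule.mem_iSup_of_mem (le_refl γ) ⟨y, hy, rfl⟩)) ?_
          have hle : (⨆ η ∈ S.filter (γ < ·), F a η) ≤ ⨆ η ∈ Set.Ici γ, H η := by
            refine iSup₂_le fun η hη => ?_
            rw [Finset.mem_filter] at hη
            refine (ih _ ?_ η rfl).trans (iSup₂_le fun η' hη' => le_iSup₂_of_le η' (hη.2.le.trans hη') le_rfl)
            rw [← hn]
            refine Finset.card_lt_card ⟨fun z hz => ?_, fun hsub => ?_⟩
            · rw [Finset.mem_filter] at hz ⊢
              exact ⟨hz.1, hη.2.trans hz.2⟩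
            · exact lt_irrefl η (Finset.mem_filter.1 (hsub (Finset.mem_filter.2 ⟨hη.1, hη.2⟩))).2
          exact hle (hFgS γ (ssub γ y hy))
      have hsplit : ∀ γ, F a γ = ⨆ η ∈ Set.Ici γ, H η := fun γ =>
        le_antisymm (main _ γ rfl) (iSup₂_le fun η hη => by rintro _ ⟨y, _, rfl⟩; exact hF a hη (sF η y))
      refine ⟨H, (DirectSum.isInternal_submodule_iff_iSupIndep_and_iSup_eq_top H).2 ⟨?_, ?_⟩, hsplit⟩
      · rw [iSupIndep_iff_finsetSum_eq_zero_imp_eq_zero]
        intro t v hv h0
        induction t using Finset.induction_on_min with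
        | empty => simp
        | insert m t hm ih =>
          have hnot : m ∉ t := fun h => lt_irrefl m (hm m h)
          rw [Finset.sum_insert hnot] at h0
          have hrest : ∑ i ∈ t, v i ∈ Fg m := Submodule.sum_mem _ fun i hi => by
            obtain ⟨y, _, e⟩ := hv i (Finset.mem_insert_of_mem hi)
            exact Submodule.mem_iSup_of_mem i (Submodule.mem_iSup_of_mem (hm i hi) (e ▸ sF i y))
          have hvm : v m = 0 := by
            have := congrArg (s m) h0
            rw [map_add, skill m _ hrest, add_zero, sidem m _ (hv m (Finset.mem_insert_self _ _)), map_zero] at this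
            exact this
          intro i hi
          rcases Finset.mem_insert.1 hi with rfl | hi
          · exact hvm
          · exact ih (fun j hj => hv j (Finset.mem_insert_of_mem hj)) (by rwa [hvm, zero_add] at h0) i hi
      · refine top_unique fun y _ => ?_
        by_cases hSn : S.Nonempty
        · let γ₀ := S.min' hSn
          have hall : (⊤ : Submodule R (∀ a, M a)) ≤ Submodule.pi Set.univ (fun b => F b γ₀) := by
            rw [← ((DirectSum.isInternal_submodule_iff_iSupIndep_and_iSup_eq_top G).1 hG).2, hFG]
            refine iSup_le fun η => ?_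
            by_cases h : η ∈ S
            · exact le_iSup₂_of_le η (S.min'_le η h) le_rfl
            · rw [hGS η h]; exact bot_le
          have hy : y ∈ F a γ₀ := by simpa using hall (Submodule.mem_top : Pi.single a y ∈ ⊤) a trivial
          rw [hsplit] at hy
          exact iSup₂_le (fun η _ => le_iSup H η) hy
        · have h0 : (Pi.single a y : ∀ b, M b) = 0 := by
            have hall : (⊤ : Submodule R (∀ a, M a)) ≤ ⊥ := by
              rw [← ((DirectSum.isInternal_submodule_iff_iSupIndep_and_iSup_eq_top G).1 hG).2]
              exact iSup_le fun η => (hGS η fun h => hSn ⟨η, h⟩).le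
            exact hall Submodule.mem_top
          rw [show y = 0 by simpa using congrFun h0 a]
          exact zero_mem _
    · intro h
      choose G hG hFG using h
      refine ⟨fun γ => Submodule.pi Set.univ fun a => G a γ, (DirectSum.isInternal_submodule_iff_iSupIndep_and_iSup_eq_top _).2 ⟨?_, ?_⟩, fun γ => ?_⟩
      · rw [iSupIndep_iff_finsetSum_eq_zero_imp_eq_zero]
        intro t v hv h0 i hi
        funext a
        have hind := ((DirectSum.isInternal_submodule_iff_iSupIndep_and_iSup_eq_top (G a)).1 (hG a)).1
        rw [iSupIndep_iff_finsetSum_eq_zero_imp_eq_zero] at hind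
        refine hind t (fun j => v j a) (fun j hj => hv j hj a trivial) ?_ i hi
        rw [← Finset.sum_apply, h0]; rfl
      · have h := hpi (I := Γ) (fun _ => True) (fun γ a => G a γ)
        simp only [iSup_pos] at h
        rw [← h]
        refine top_unique fun x _ a _ => ?_
        show x a ∈ ⨆ γ, G a γ
        rw [((DirectSum.isInternal_submodule_iff_iSupIndep_and_iSup_eq_top (G a)).1 (hG a)).2]
        trivial
      · rw [← hpi (fun η => η ∈ Set.Ici γ) (fun η a => G a η)]
        simp only [hFG]

end Groth.Agent.S19158
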