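import Mathlib
import Groth.Statements.S19160
-- import your own Groth.Agent.* helpers here

set_option autoImplicit false
open scoped TensorProduct
universe u
open PureMod

namespace Groth.Agent.S19160

/-- (2) ⇒ (3): in affine form, let R be a commutative ring and i : A → B an R-linear map such that for
every commutative R-algebra R' the base change R' ⊗ A → R' ⊗ B is injective (the pull-back of i to
every affine scheme over Spec R is a monomorphism). Then F ⊗ A → F ⊗ B is injective for every
R-module F, i.e. i is universally injective (pure). (Modules and algebras are taken in the universe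
of R.) -/
theorem result (R : Type u) [CommRing R]
    (A B : Type u) [AddCommGroup A] [Module R A] [AddCommGroup B] [Module R B] (i : A →ₗ[R] B)
    (h : ∀ (R' : Type u) [CommRing R'] [Algebra R R'], Function.Injective (i.baseChange R'))
    (F : Type u) [AddCommGroup F] [Module R F] :
    Function.Injective (i.lTensor F) := by
  letI : Module Rᵐᵒᵖ F := Module.compHom F ((RingHom.id R).fromOpposite mul_comm)
  haveI : IsCentralScalar R F := ⟨fun r m => rfl⟩
  have h1 : Function.Injective (i.lTensor (TrivSqZeroExt R F)) := h (TrivSqZeroExt R F)
  let s : F →ₗ[R] TrivSqZeroExt R F := TrivSqZeroExt.inrHom R F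
  let p : TrivSqZeroExt R F →ₗ[R] F := TrivSqZeroExt.sndHom R F
  have hs : Function.Injective (s.rTensor A) := Function.LeftInverse.injective (g := p.rTensor A) fun x => by
    rw [← LinearMap.comp_apply, ← LinearMap.rTensor_comp, show p ∘ₗ s = LinearMap.id from LinearMap.ext fun y => TrivSqZeroExt.snd_inr R y, LinearMap.rTensor_id]
    rfl
  intro x y hxy
  apply hs
  apply h1
  have key : ∀ z, i.lTensor (TrivSqZeroExt R F) (s.rTensor A z) = s.rTensor B (i.lTensor F z) := fun z => by
    rw [← LinearMap.comp_apply, ← LinearMap.comp_apply, LinearMap.lTensor_comp_rTensor, LinearMap.rTensor_comp_lTensor]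
  rw [key, key, hxy]

end Groth.Agent.S19160
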