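import Groth.Statements.S5452
import Groth.Agent.Lib.RootFun

set_option autoImplicit false
open RootPairing
open scoped Pointwise
open RootD

namespace Groth.Agent.S5452

/-- The Weyl group of a root datum acts faithfully on the set of roots. -/
theorem result {ι M N : Type*} [AddCommGroup M] [AddCommGroup N]
    (P : RootPairing ι ℤ M N) [Finite ι] :
    Function.Injective P.weylGroupToPerm := by
  obtain ⟨Δ, hΔ⟩ := RootLib.exists_simpleSys P
  refine (injective_iff_map_eq_one _).2 fun g hg => Subtype.ext ?_
  refine RootLib.eq_one_of_img_eq hΔ g.2 ?_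
  have key : ∀ i : ι, (g : P.Aut) • i = i := fun i => congrFun (congrArg (fun e : ι ≃ ι => (e : ι → ι)) hg) i
  simp [RootLib.img, key]

end Groth.Agent.S5452
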