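import Groth.Statements.S19161
import Groth.Agent.Lib.RootBase
import Groth.Agent.S19156
import Groth.Agent.S5452

set_option autoImplicit false
open RootPairing
open RootD

namespace Groth.Agent.S19161

/-- Let P be a root datum (root pairing over ℤ, finitely many roots), S a system of positive roots, W
the Weyl group, Γ a non-trivial totally ordered commutative group and f₁, f₂ : M → Γ additive maps
which are dominant (f_i(α) ≥ 0 for α ∈ S). Then f₁ ≤ f₂ in the weak dominance order (f₁(m) ≤ f₂(m)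
for every dominant weight m, i.e. every m with ⟨m, α∨⟩ ≥ 0 for all α ∈ S) if and only if, for every
non-empty finite W-stable subset X ⊆ M, the maximum of f₁ on X is at most the maximum of f₂ on X.
(The source phrases the right-hand side through W-invariant elements x of ℕ[M] and the largest
element of the support of f_i(x) in ℤ[Γ]; for ℕ-coefficients that largest element is the maximum of
f_i over the support of x.) -/
theorem result {ι M N : Type*} [AddCommGroup M] [AddCommGroup N]
    (P : RootPairing ι ℤ M N) [Finite ι] (S : Set ι) (hS : RootD.IsPosSys P S)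
    {Γ : Type*} [AddCommGroup Γ] [LinearOrder Γ] [IsOrderedAddMonoid Γ] [Nontrivial Γ] (f₁ f₂ : M →+ Γ)
    (hf₁ : ∀ i ∈ S, 0 ≤ f₁ (P.root i)) (hf₂ : ∀ i ∈ S, 0 ≤ f₂ (P.root i)) :
    (∀ m : M, (∀ i ∈ S, 0 ≤ P.coroot' i m) → f₁ m ≤ f₂ m) ↔
    ∀ (X : Finset M) (hX : X.Nonempty), (∀ g : P.Aut, g ∈ P.weylGroup → ∀ m ∈ X, RootPairing.Equiv.weightHom P g m ∈ X) →
      X.sup' hX f₁ ≤ X.sup' hX f₂ := by
  classical
  letI := Fintype.ofFinite ι
  have hW : ∀ (f : M →+ Γ), (∀ i ∈ S, 0 ≤ f (P.root i)) → ∀ g : P.Aut, g ∈ P.weylGroup → ∀ m : M,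
      (∀ i ∈ S, 0 ≤ P.coroot' i m) → f (g • m) ≤ f m := fun f hf => (Groth.Agent.S19156.result P S hS f).2.1 hf
  constructor
  · intro h X hX hstab
    refine Finset.sup'_le _ _ fun x hx => ?_
    obtain ⟨g, hg, hdom⟩ := RootLib.exists_dominant_conj hS x
    have hgx : g • x ∈ X := hstab g hg x hx
    calc f₁ x = f₁ (g⁻¹ • (g • x)) := by rw [inv_smul_smul]
      _ ≤ f₁ (g • x) := hW f₁ hf₁ _ (Subgroup.inv_mem _ hg) _ hdom
      _ ≤ f₂ (g • x) := h _ hdom
      _ ≤ X.sup' hX f₂ := Finset.le_sup' _ hgx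
  · intro h m hm
    obtain ⟨Δ, hΔ⟩ := RootLib.exists_simpleSys P
    haveI : Finite P.weylGroup := Finite.of_injective _ (Groth.Agent.S5452.result P)
    haveI : Fintype P.weylGroup := Fintype.ofFinite _
    let X : Finset M := Finset.univ.image (fun g : P.weylGroup => (g : P.Aut) • m)
    have hX : X.Nonempty := Finset.univ_nonempty.image _
    have h1 := h X hX (fun g hg x hx => by
      obtain ⟨w, -, rfl⟩ := Finset.mem_image.1 hx
      exact Finset.mem_image.2 ⟨⟨g, hg⟩ * w, Finset.mem_univ _, mul_smul _ _ _⟩)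
    have h2 : f₁ m ≤ X.sup' hX f₁ := Finset.le_sup' (f := f₁) (b := m) (Finset.mem_image.2 ⟨(1 : P.weylGroup), Finset.mem_univ _, one_smul _ _⟩)
    have h3 : X.sup' hX f₂ ≤ f₂ m := Finset.sup'_le _ _ fun x hx => by
      obtain ⟨w, -, rfl⟩ := Finset.mem_image.1 hx
      exact hW f₂ hf₂ _ w.2 m hm
    exact h2.trans (h1.trans h3)

end Groth.Agent.S19161
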