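import Groth.Statements.S19171
import Mathlib

set_option autoImplicit false
set_option backward.isDefEq.respectTransparency.types false
set_option maxHeartbeats 1000000
set_option linter.all false
universe u v
open ProCompl

namespace Groth.Agent.S19171
open Groth.Agent

open Topology in
/-- Let B be a Hausdorff, locally compact, totally disconnected topological abelian group generated as a
group by a compact subset, and let i : A → B be an injective continuous homomorphism inducing the
topology of A from that of B (a strict injection) whose image is closed. Then every character χ : A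
→ ℚ/ℤ with open kernel extends along i to a character ψ : B → ℚ/ℤ with open kernel; with ℚ/ℤ
discrete this says that restriction B^D → A^D of continuous characters is surjective, i.e. the dual
of a topological exact sequence 0 → A → B → C → 0 with such B, strict closed i and open p is a short
exact sequence 0 → C^D → B^D → A^D → 0. -/
theorem result
    {A : Type u} {B : Type v} [AddCommGroup A] [TopologicalSpace A] [IsTopologicalAddGroup A]
    [AddCommGroup B] [TopologicalSpace B] [IsTopologicalAddGroup B]
    [T2Space B] [LocallyCompactSpace B] [TotallyDisconnectedSpace B]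
    (hcg : ∃ K : Set B, IsCompact K ∧ AddSubgroup.closure K = ⊤)
    (i : A →+ B) (hi : Continuous i) (hinj : Function.Injective i) (hind : IsInducing i)
    (hcl : IsClosed (Set.range i))
    (χ : A →+ ℚ ⧸ AddSubgroup.zmultiples (1 : ℚ)) (hχ : IsOpen (χ.ker : Set A)) :
    ∃ ψ : B →+ ℚ ⧸ AddSubgroup.zmultiples (1 : ℚ), IsOpen (ψ.ker : Set B) ∧ ψ.comp i = χ := by
    classical
    obtain ⟨O, hO, hOeq⟩ := hind.isOpen_iff.1 hχ
    have h0O : (0 : B) ∈ O := by
      have : (0 : A) ∈ i ⁻¹' O := by rw [hOeq]; exact zero_mem χ.ker
      simpa using this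
    obtain ⟨K, hKnhds, hKO, hKc⟩ := local_compact_nhds (hO.mem_nhds h0O)
    obtain ⟨W, hWcl, hW0, hWK⟩ := loc_compact_Haus_tot_disc_of_zero_dim.exists_subset_of_mem_open
      (mem_interior_iff_mem_nhds.2 hKnhds) isOpen_interior
    have hWc : IsCompact W := hKc.of_isClosed_subset hWcl.1 (hWK.trans interior_subset)
    obtain ⟨V, hV, hWV⟩ := compact_open_separated_add_right hWc hWcl.2 subset_rfl
    have hV' : V ∩ -V ∈ nhds (0 : B) := Filter.inter_mem hV (by
      have := (continuous_neg.tendsto (0 : B))
      rw [neg_zero] at this
      exact this hV)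
    let U := AddSubgroup.closure (V ∩ -V)
    have hUW : ∀ u ∈ U, ∀ w ∈ W, w + u ∈ W := by
      intro u hu
      induction hu using AddSubgroup.closure_induction'' with
      | mem x hx => exact fun w hw => hWV (Set.add_mem_add hw hx.1)
      | neg_mem x hx => exact fun w hw => hWV (Set.add_mem_add hw hx.2)
      | zero => intro w hw; simpa using hw
      | add x y _ _ hx hy => intro w hw; rw [← add_assoc]; exact hy _ (hx w hw)
    have hUO : (U : Set B) ⊆ O := fun u hu => by
      have := hUW u hu 0 hW0
      rw [zero_add] at this
      exact hKO (interior_subset (hWK this))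
    have hUopen : IsOpen (U : Set B) := AddSubgroup.isOpen_of_mem_nhds U
      (Filter.mem_of_superset hV' AddSubgroup.subset_closure)
    let q := QuotientAddGroup.mk' U
    let j : A ⧸ (U.comap i) →+ B ⧸ U := QuotientAddGroup.map (U.comap i) U i le_rfl
    have hj : Function.Injective j := by
      rw [injective_iff_map_eq_zero]
      intro x hx
      obtain ⟨a, rfl⟩ := QuotientAddGroup.mk_surjective x
      exact (QuotientAddGroup.eq_zero_iff a).2 ((QuotientAddGroup.eq_zero_iff (i a)).1 hx)
    let χ' : A ⧸ (U.comap i) →+ ℚ ⧸ AddSubgroup.zmultiples (1 : ℚ) := QuotientAddGroup.lift _ χ (fun a ha => by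
      have : a ∈ i ⁻¹' O := hUO ha
      rw [hOeq] at this
      exact this)
    obtain ⟨h, hh⟩ := Module.Baer.extension_property_addMonoidHom
      (Module.Baer.of_divisible (ℚ ⧸ AddSubgroup.zmultiples (1 : ℚ))) j hj χ'
    refine ⟨h.comp q, AddSubgroup.isOpen_mono (H₁ := U) (fun u hu => ?_) hUopen, ?_⟩
    · show h (q u) = 0
      rw [show q u = 0 from (QuotientAddGroup.eq_zero_iff u).2 hu, map_zero]
    · ext a
      exact DFunLike.congr_fun hh (a : A ⧸ U.comap i)

end Groth.Agent.S19171
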