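import Mathlib
import Groth.Statements.S19183
-- import your own Groth.Agent.* helpers here

set_option autoImplicit false
universe u
open CAlg

namespace Groth.Agent.S19183

/-- Let A be a non-zero commutative ring and f ∈ A a non-zero-divisor. The fibre product A ×_{A/(f)} A
of two copies of A over A/(f) — the A-submodule of A × A of pairs (x, y) with x − y ∈ (f), which is
the coordinate ring of two copies of Spec A glued along the Cartier divisor f = 0 — is a free
A-module of rank 2. (This is what makes the gluing of two copies of a curve along an effective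
Cartier divisor finite locally free of degree 2 over the curve.) -/
theorem result (A : Type u) [CommRing A] [Nontrivial A]
    (f : A) (hf : f ∈ nonZeroDivisors A) :
    Module.Free A (Submodule.comap (LinearMap.fst A A A - LinearMap.snd A A A) (Ideal.span ({f} : Set A))) ∧
      Module.finrank A (Submodule.comap (LinearMap.fst A A A - LinearMap.snd A A A) (Ideal.span ({f} : Set A))) = 2 := by
  let K := Submodule.comap (LinearMap.fst A A A - LinearMap.snd A A A) (Ideal.span ({f} : Set A))
  let φ : A × A →ₗ[A] A × A :=
    LinearMap.prod (LinearMap.fst A A A + f • LinearMap.snd A A A) (LinearMap.fst A A A)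
  have hK : LinearMap.range φ = K := by
    ext ⟨a, b⟩
    simp only [LinearMap.mem_range, K, Submodule.mem_comap, LinearMap.sub_apply, LinearMap.fst_apply, LinearMap.snd_apply, Ideal.mem_span_singleton]
    constructor
    · rintro ⟨⟨c, d⟩, h⟩
      simp only [φ, LinearMap.prod_apply, Function.prod_apply, Prod.mk.injEq, LinearMap.add_apply, LinearMap.smul_apply, LinearMap.fst_apply, LinearMap.snd_apply, smul_eq_mul] at h
      exact ⟨d, by rw [← h.1, ← h.2]; ring⟩
    · rintro ⟨d, hd⟩
      refine ⟨(b, d), ?_⟩
      simp only [φ, LinearMap.prod_apply, Function.prod_apply, Prod.mk.injEq, LinearMap.add_apply, LinearMap.smul_apply, LinearMap.fst_apply, LinearMap.snd_apply, smul_eq_mul]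
      exact ⟨by rw [← hd]; ring, trivial⟩
  have hφ : Function.Injective φ := by
    rintro ⟨a, b⟩ ⟨c, d⟩ h
    simp only [φ, LinearMap.prod_apply, Function.prod_apply, Prod.mk.injEq, LinearMap.add_apply, LinearMap.smul_apply, LinearMap.fst_apply, LinearMap.snd_apply, smul_eq_mul] at h
    obtain ⟨h1, rfl⟩ := h
    rw [add_right_inj] at h1
    exact Prod.ext rfl (mul_cancel_left_mem_nonZeroDivisors hf |>.1 h1)
  let e : (A × A) ≃ₗ[A] K := (LinearEquiv.ofInjective φ hφ).trans (LinearEquiv.ofEq _ _ hK)
  haveI : Module.Free A K := Module.Free.of_equiv e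
  exact ⟨inferInstance, by rw [← e.finrank_eq]; simp⟩

end Groth.Agent.S19183
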