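import Groth.Statements.S19186
import Mathlib

set_option autoImplicit false
universe u
open OneMot

namespace Groth.Agent.S19186

/-- Let p and ℓ be distinct prime numbers, r and n natural numbers, and f : A → B a homomorphism of
abelian groups whose kernel and cokernel are annihilated by p^r (f a = 0 implies p^r • a = 0, and
every p^r • b lies in the image of f). Then f induces a bijection between the ℓ^n-torsion subgroups
of A and B and a bijection A/ℓ^n A → B/ℓ^n B. Spelled out without quotients: every ℓ^n-torsion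
element of B has exactly one ℓ^n-torsion preimage; an element of A whose image is an ℓ^n-multiple is
itself an ℓ^n-multiple; and every element of B is the sum of an image and an ℓ^n-multiple. -/
theorem result {A B : Type u} [AddCommGroup A] [AddCommGroup B] (f : A →+ B) (p ℓ r n : ℕ) (hp : p.Prime) (hl : ℓ.Prime) (hne : ℓ ≠ p) (hker : ∀ a : A, f a = 0 → p ^ r • a = 0) (hcoker : ∀ b : B, ∃ a : A, f a = p ^ r • b) : (∀ b : B, ℓ ^ n • b = 0 → ∃! a : A, ℓ ^ n • a = 0 ∧ f a = b) ∧ (∀ a : A, (∃ b' : B, f a = ℓ ^ n • b') → ∃ a' : A, a = ℓ ^ n • a') ∧ (∀ b : B, ∃ (a : A) (b' : B), b = f a + ℓ ^ n • b') := by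
  have hco : IsCoprime ((p ^ r : ℕ) : ℤ) ((ℓ ^ n : ℕ) : ℤ) :=
    Int.isCoprime_iff_gcd_eq_one.2 (by
      rw [Int.gcd_natCast_natCast]
      exact Nat.Coprime.pow r n ((Nat.coprime_primes hp hl).2 (Ne.symm hne)))
  obtain ⟨u, v, huv⟩ := hco
  have key : ∀ (M : Type u) [AddCommGroup M] (x : M), u • (p ^ r • x) + v • (ℓ ^ n • x) = x := fun M _ x => by
    rw [← natCast_zsmul x (p ^ r), ← natCast_zsmul x (ℓ ^ n), ← mul_smul, ← mul_smul, ← add_smul, huv, one_smul]
  have hinj : ∀ a : A, ℓ ^ n • a = 0 → f a = 0 → a = 0 := fun a h1 h2 => by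
    rw [← key A a, h1, hker a h2, smul_zero, smul_zero, add_zero]
  refine ⟨fun b hb => ?_, fun a ha => ?_, fun b => ?_⟩
  · obtain ⟨a, ha⟩ := hcoker b
    have h1 : f (u • a) = b := by
      rw [map_zsmul, ha]
      conv_rhs => rw [← key B b, hb, smul_zero, add_zero]
    have hk : p ^ r • (ℓ ^ n • (u • a)) = 0 := hker _ (by rw [map_nsmul, h1, hb])
    refine ⟨u • (p ^ r • (u • a)), ⟨?_, ?_⟩, fun a' ha' => ?_⟩
    · rw [smul_comm (ℓ ^ n) u, smul_comm (ℓ ^ n) (p ^ r), hk, smul_zero]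
    · rw [map_zsmul, map_nsmul, h1]
      conv_rhs => rw [← key B b, hb, smul_zero, add_zero]
    · refine sub_eq_zero.1 (hinj _ ?_ ?_)
      · rw [smul_sub, ha'.1, smul_comm (ℓ ^ n) u, smul_comm (ℓ ^ n) (p ^ r), hk, smul_zero, sub_zero]
      · rw [map_sub, ha'.2, map_zsmul, map_nsmul, h1, sub_eq_zero]
        conv_lhs => rw [← key B b, hb, smul_zero, add_zero]
  · obtain ⟨b', hb'⟩ := ha
    obtain ⟨a', ha'⟩ := hcoker b'
    have hk : p ^ r • (p ^ r • a - ℓ ^ n • a') = 0 := hker _ (by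
      rw [map_sub, map_nsmul, map_nsmul, hb', ha', smul_comm, sub_self])
    refine ⟨u • (u • (p ^ r • a')) + u • (p ^ r • (v • a)) + v • a, ?_⟩
    rw [smul_sub, sub_eq_zero] at hk
    conv_lhs => rw [← key A a, ← key A (p ^ r • a), hk]
    simp only [smul_add, ← natCast_zsmul, smul_smul]
    module
  · obtain ⟨a, ha⟩ := hcoker b
    exact ⟨u • a, v • b, by rw [map_zsmul, ha, smul_comm (ℓ ^ n) v b]; exact (key B b).symm⟩

end Groth.Agent.S19186
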