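import Mathlib
import Groth.Statements.S19196
-- import your own Groth.Agent.* helpers here

set_option autoImplicit false
universe u
open RelS1

namespace Groth.Agent.S19196

/-- Let R be a Noetherian commutative ring and N a finitely generated R-module which fails Serre's
condition (S_1), in the sense that some associated prime of N is not a minimal prime of the
annihilator of N. Then there exist an element a of R lying in no minimal prime of the annihilator of
N and a nonzero element b of N with a • b = 0; thus the basic open set D(a) meets the support of N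
densely while restriction to it is not injective on N. -/
theorem result (R N : Type u) [CommRing R] [IsNoetherianRing R]
    [AddCommGroup N] [Module R N] [Module.Finite R N]
    (h : ¬ associatedPrimes R N ⊆ (Module.annihilator R N).minimalPrimes) :
    ∃ (a : R) (b : N), (∀ P ∈ (Module.annihilator R N).minimalPrimes, a ∉ P) ∧ b ≠ 0 ∧ a • b = 0 := by
  classical
  obtain ⟨P, hP, hPn⟩ := Set.not_subset.1 h
  have hfin := Ideal.finite_minimalPrimes_of_isNoetherianRing R (Module.annihilator R N)
  have hass := isAssociatedPrime_iff.1 hP
  haveI := hass.1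
  obtain ⟨b, hb⟩ := hass.2
  have hann : Module.annihilator R N ≤ P := fun r hr => by
    rw [hb, Submodule.mem_colon_singleton, Submodule.mem_bot]
    exact Module.mem_annihilator.1 hr b
  have hns : ¬ ((P : Set R) ⊆ ⋃ q ∈ (↑hfin.toFinset : Set (Ideal R)), (q : Set R)) := by
    rw [Ideal.subset_union_prime ⊥ ⊥ (fun q hq _ _ => (hfin.mem_toFinset.1 hq).1.1)]
    rintro ⟨q, hq, hPq⟩
    have hq' := hfin.mem_toFinset.1 hq
    exact hPn ((le_antisymm hPq (hq'.2 ⟨hass.1, hann⟩ hPq)) ▸ hq')
  obtain ⟨a, haP, ha⟩ := Set.not_subset.1 hns
  refine ⟨a, b, fun q hq hqa => ha (Set.mem_biUnion (Finset.mem_coe.2 (hfin.mem_toFinset.2 hq)) hqa), fun h0 => ?_, ?_⟩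
  · apply hass.1.ne_top
    rw [hb, h0]
    exact (eq_top_iff.2 fun r _ => by simp [Submodule.mem_colon_singleton])
  · have : a ∈ P := haP
    rw [hb, Submodule.mem_colon_singleton, Submodule.mem_bot] at this
    exact this

end Groth.Agent.S19196
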