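import Groth.Statements.S19212
import Mathlib
import Groth.Agent.Lib.KaehlerLift

set_option autoImplicit false
universe u v
open TensorProduct
open DiagIdeal

namespace Groth.Agent.S19212

/-- Let k be an algebraically closed field of characteristic zero and A a smooth k-algebra which is a
domain. Let the symmetric group on three letters permute the factors of A ⊗ A ⊗ A (it is generated
by the swap of the first two factors and the swap of the last two), let r : A ⊗ (A ⊗ A) → A ⊗ A be
the k-linear map a ⊗ b ⊗ c ↦ ab ⊗ c, and let D : A ⊗ A → Ω_{A/k} be the k-linear map a ⊗ b ↦ 2a·db −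
b·da. Then an element y of A ⊗ A satisfies D y = 0 if and only if y = r x for some x fixed by both
swaps, and D is surjective. (This is exactness at the last two places of the four-term right
resolution of the invariants of the ideal of the big diagonal on the symmetric cube of X = Spec A,
namely invariant functions on X³, then functions on X × X through restriction to a diagonal, then
one-forms on X; exactness at the first two places is immediate. The published statement is the sheaf
version on the symmetric cube of a smooth complex variety of any dimension; an algebraically closed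
field of characteristic zero is used here.) -/
theorem result (k : Type u) [Field k] [IsAlgClosed k] [CharZero k]
    (A : Type v) [CommRing A] [Algebra k A] [Algebra.Smooth k A] [IsDomain A]
    (r : A ⊗[k] (A ⊗[k] A) →ₗ[k] A ⊗[k] A)
    (hr : ∀ a b c : A, r (a ⊗ₜ[k] (b ⊗ₜ[k] c)) = (a * b) ⊗ₜ[k] c)
    (D : A ⊗[k] A →ₗ[k] Ω[A⁄k])
    (hD : ∀ a b : A, D (a ⊗ₜ[k] b) = (2 : A) • (a • KaehlerDifferential.D k A b) - b • KaehlerDifferential.D k A a) :
    (∀ y : A ⊗[k] A, D y = 0 ↔ ∃ x : A ⊗[k] (A ⊗[k] A),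
        TensorProduct.leftComm k A A A x = x ∧
        LinearMap.lTensor A (TensorProduct.comm k A A).toLinearMap x = x ∧ r x = y) ∧
    Function.Surjective D := by
  set d := KaehlerDifferential.D k A with hd
  let s1 : A ⊗[k] (A ⊗[k] A) →ₗ[k] A ⊗[k] (A ⊗[k] A) := (TensorProduct.leftComm k A A A).toLinearMap
  let s2 : A ⊗[k] (A ⊗[k] A) →ₗ[k] A ⊗[k] (A ⊗[k] A) :=
    LinearMap.lTensor A (TensorProduct.comm k A A).toLinearMap
  let Fx : Submodule k (A ⊗[k] (A ⊗[k] A)) :=
    LinearMap.ker (s1 - LinearMap.id) ⊓ LinearMap.ker (s2 - LinearMap.id)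
  have hFx : ∀ x, x ∈ Fx ↔ TensorProduct.leftComm k A A A x = x ∧
      LinearMap.lTensor A (TensorProduct.comm k A A).toLinearMap x = x := fun x => by
    simp [Fx, s1, s2, sub_eq_zero]
  let R : Submodule k (A ⊗[k] A) := Fx.map r
  let S : A ⊗[k] (A ⊗[k] A) →ₗ[k] A ⊗[k] (A ⊗[k] A) :=
    LinearMap.id + s1 + s2 + s1 ∘ₗ s2 + s2 ∘ₗ s1 + s1 ∘ₗ s2 ∘ₗ s1
  have hS : ∀ a b c : A, S (a ⊗ₜ[k] (b ⊗ₜ[k] c)) = a ⊗ₜ[k] (b ⊗ₜ[k] c) + b ⊗ₜ[k] (a ⊗ₜ[k] c) +
      a ⊗ₜ[k] (c ⊗ₜ[k] b) + c ⊗ₜ[k] (a ⊗ₜ[k] b) + b ⊗ₜ[k] (c ⊗ₜ[k] a) + c ⊗ₜ[k] (b ⊗ₜ[k] a) :=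
    fun a b c => by simp [S, s1, s2]
  have hSmem : ∀ a b c : A, S (a ⊗ₜ[k] (b ⊗ₜ[k] c)) ∈ Fx := fun a b c => by
    rw [hFx, hS]
    constructor
    · simp only [map_add, TensorProduct.leftComm_tmul]; abel
    · simp only [map_add, LinearMap.lTensor_tmul, LinearEquiv.coe_coe, TensorProduct.comm_tmul]; abel
  let q := R.mkQ
  have hrel : ∀ a b c : A,
      q ((a * b) ⊗ₜ[k] c + (a * c) ⊗ₜ[k] b + (b * c) ⊗ₜ[k] a) = 0 := fun a b c => by
    refine (Submodule.Quotient.mk_eq_zero R).2
      ⟨(1 / 2 : k) • S (a ⊗ₜ[k] (b ⊗ₜ[k] c)), Fx.smul_mem _ (hSmem a b c), ?_⟩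
    rw [map_smul, hS]
    simp only [map_add, hr, mul_comm b a, mul_comm c a, mul_comm c b]
    module
  let E : A →ₗ[k] A →ₗ[k] (A ⊗[k] A) ⧸ R :=
    ((2 : k) • TensorProduct.mk k A A + (TensorProduct.mk k A A).flip).compr₂ q
  have hE0 : ∀ a b : A, E a b = (2 : k) • q (a ⊗ₜ[k] b) + q (b ⊗ₜ[k] a) := fun a b => by simp [E]
  have hE : ∀ a b c : A, E a (b * c) = E (a * b) c + E (a * c) b := fun a b c => by
    have h0 := hrel a b c
    have h1 := hrel a (b * c) 1
    have h2 := hrel c (a * b) 1
    have h3 := hrel b (a * c) 1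
    simp only [mul_one, map_add, show c * (a * b) = a * (b * c) by ring,
      show b * (a * c) = a * (b * c) by ring] at h0 h1 h2 h3
    simp only [hE0]
    linear_combination (norm := module) (2 : k) • h1 - h2 - h3 - h0
  obtain ⟨Φ, hΦ⟩ := Groth.Agent.KLift.exists_lift E hE
  have h2smul : ∀ (z : Ω[A⁄k]), (2 : A) • z = (2 : k) • z := fun z => by
    rw [two_smul, two_smul]
  have hΦD : ∀ y, Φ (D y) = (3 : k) • q y := fun y => by
    induction y using TensorProduct.induction_on with
    | zero => simp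
    | tmul a b =>
      rw [hD, h2smul, map_sub, map_smul, hΦ, hΦ, hE0, hE0]
      module
    | add a b ha hb => rw [map_add, map_add, map_add, ha, hb, smul_add]
  refine ⟨fun y => ⟨fun hy => ?_, ?_⟩, ?_⟩
  · have h3 := hΦD y
    rw [hy, map_zero, eq_comm, smul_eq_zero] at h3
    obtain ⟨x, hx, hxy⟩ := (Submodule.Quotient.mk_eq_zero R).1 (h3.resolve_left (by norm_num))
    exact ⟨x, ((hFx x).1 hx).1, ((hFx x).1 hx).2, hxy⟩
  · rintro ⟨x, hx1, hx2, rfl⟩
    have hsix : S x = (6 : k) • x := by
      have e1 : s1 x = x := hx1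
      have e2 : s2 x = x := hx2
      simp only [S, LinearMap.add_apply, LinearMap.comp_apply, LinearMap.id_apply, e1, e2]
      module
    have hzero : ∀ z, D (r (S z)) = 0 := fun z => by
      induction z using TensorProduct.induction_on with
      | zero => simp
      | tmul a bc =>
        induction bc using TensorProduct.induction_on with
        | zero => simp
        | tmul b c =>
          rw [hS]
          simp only [map_add, hr, hD, Derivation.leibniz]
          module
        | add u v hu hv => rw [TensorProduct.tmul_add, map_add, map_add, map_add, hu, hv, add_zero]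
      | add u v hu hv => rw [map_add, map_add, map_add, hu, hv, add_zero]
    have h6 := hzero x
    rw [hsix, map_smul, map_smul, smul_eq_zero] at h6
    exact h6.resolve_left (by norm_num)
  · intro w
    refine Groth.Agent.KLift.mem_of_smul_D (LinearMap.range D) (fun a b => ?_) w
    refine ⟨(1 / 3 : k) • ((2 : k) • (a ⊗ₜ[k] b) + b ⊗ₜ[k] a), ?_⟩
    rw [map_smul, map_add, map_smul, hD, hD, h2smul, h2smul]
    generalize a • KaehlerDifferential.D k A b = X
    generalize b • KaehlerDifferential.D k A a = Y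
    module

end Groth.Agent.S19212
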