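import Groth.Statements.S19213
import Mathlib
import Groth.Agent.Lib.KaehlerLift

set_option autoImplicit false
universe u v
open TensorProduct
open DiagIdeal

namespace Groth.Agent.S19213

/-- Let k be an algebraically closed field of characteristic zero and A a smooth k-algebra which is a
domain. Let r₁₂, r₂₃ : A ⊗ (A ⊗ A) → A ⊗ A be the k-linear maps a ⊗ u ⊗ v ↦ au ⊗ v and a ⊗ u ⊗ v ↦
uv ⊗ a (restriction to the diagonal of factors 1, 2, resp. 2, 3, the repeated coordinate written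
first), let m : A ⊗ A → A be multiplication, and let ψ : (A ⊗ A) × (A ⊗ A) → Ω_{A/k} be the k-linear
map with ψ(a ⊗ u, b ⊗ v) = 2a·du − v·db. Then for p, q in A ⊗ A with m p = m q one has ψ(p, q) = 0
if and only if (p, q) = (r₁₂ x, r₂₃ x) for some x fixed by the swap of the last two tensor factors;
and every element of Ω_{A/k} is ψ(p, q) for some pair with m p = m q. (This is exactness at the last
two places of the right resolution, on the symmetric cube of X = Spec A, of the invariants of the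
ideal of the big diagonal under the transposition of the last two factors; exactness at the first
two places is immediate. The published statement is the sheaf version for a smooth complex variety
of any dimension; an algebraically closed field of characteristic zero is used here.) -/
theorem result (k : Type u) [Field k] [IsAlgClosed k] [CharZero k]
    (A : Type v) [CommRing A] [Algebra k A] [Algebra.Smooth k A] [IsDomain A]
    (r₁₂ r₂₃ : A ⊗[k] (A ⊗[k] A) →ₗ[k] A ⊗[k] A)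
    (h₁₂ : ∀ a u v : A, r₁₂ (a ⊗ₜ[k] (u ⊗ₜ[k] v)) = (a * u) ⊗ₜ[k] v)
    (h₂₃ : ∀ a u v : A, r₂₃ (a ⊗ₜ[k] (u ⊗ₜ[k] v)) = (u * v) ⊗ₜ[k] a)
    (ψ : (A ⊗[k] A) × (A ⊗[k] A) →ₗ[k] Ω[A⁄k])
    (hψ : ∀ a u b v : A, ψ (a ⊗ₜ[k] u, b ⊗ₜ[k] v) =
      (2 : A) • (a • KaehlerDifferential.D k A u) - v • KaehlerDifferential.D k A b) :
    (∀ p q : A ⊗[k] A, LinearMap.mul' k A p = LinearMap.mul' k A q →
      (ψ (p, q) = 0 ↔ ∃ x : A ⊗[k] (A ⊗[k] A),
        LinearMap.lTensor A (TensorProduct.comm k A A).toLinearMap x = x ∧ r₁₂ x = p ∧ r₂₃ x = q)) ∧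
    (∀ ω : Ω[A⁄k], ∃ p q : A ⊗[k] A, LinearMap.mul' k A p = LinearMap.mul' k A q ∧ ψ (p, q) = ω) := by
  set d := KaehlerDifferential.D k A with hd
  let s2 : A ⊗[k] (A ⊗[k] A) →ₗ[k] A ⊗[k] (A ⊗[k] A) :=
    LinearMap.lTensor A (TensorProduct.comm k A A).toLinearMap
  let Fx : Submodule k (A ⊗[k] (A ⊗[k] A)) := LinearMap.ker (s2 - LinearMap.id)
  have hFx : ∀ x, x ∈ Fx ↔ LinearMap.lTensor A (TensorProduct.comm k A A).toLinearMap x = x :=
    fun x => by simp [Fx, s2, sub_eq_zero]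
  let R : Submodule k ((A ⊗[k] A) × (A ⊗[k] A)) := Fx.map (r₁₂.prod r₂₃)
  let q := R.mkQ
  have hrel : ∀ a u v : A, q ((a * u) ⊗ₜ[k] v + (a * v) ⊗ₜ[k] u, (2 : k) • ((u * v) ⊗ₜ[k] a)) = 0 :=
    fun a u v => by
    refine (Submodule.Quotient.mk_eq_zero R).2 ⟨a ⊗ₜ[k] (u ⊗ₜ[k] v) + a ⊗ₜ[k] (v ⊗ₜ[k] u), ?_, ?_⟩
    · rw [SetLike.mem_coe, hFx]
      simp only [map_add, LinearMap.lTensor_tmul, LinearEquiv.coe_coe, TensorProduct.comm_tmul]
      abel
    · simp only [map_add, LinearMap.prod_apply, Function.prod_apply, h₁₂, h₂₃, mul_comm v u]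
      ext <;> simp [two_smul]
  let P : A ⊗[k] A →ₗ[k] _ := q ∘ₗ LinearMap.inl k (A ⊗[k] A) (A ⊗[k] A)
  let Z : A ⊗[k] A →ₗ[k] _ := q ∘ₗ LinearMap.inr k (A ⊗[k] A) (A ⊗[k] A)
  have hsplit : ∀ s t : A ⊗[k] A, q (s, t) = P s + Z t := fun s t => by
    simp [P, Z, ← map_add]
  have hrel' : ∀ a u v : A,
      P ((a * u) ⊗ₜ[k] v) + P ((a * v) ⊗ₜ[k] u) + (2 : k) • Z ((u * v) ⊗ₜ[k] a) = 0 := fun a u v => by
    rw [← map_add, ← map_smul, ← hsplit]
    exact hrel a u v
  let E : A →ₗ[k] A →ₗ[k] ((A ⊗[k] A) × (A ⊗[k] A)) ⧸ R :=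
    (TensorProduct.mk k A A - ((LinearMap.mul k A).compr₂ ((TensorProduct.mk k A A).flip 1))).compr₂ P
  have hE0 : ∀ a u : A, E a u = P (a ⊗ₜ[k] u) - P ((a * u) ⊗ₜ[k] 1) := fun a u => by simp [E]
  have hE : ∀ a u v : A, E a (u * v) = E (a * u) v + E (a * v) u := fun a u v => by
    have h0 := hrel' a u v
    have h1 := hrel' a (u * v) 1
    simp only [mul_one] at h1
    simp only [hE0, show a * u * v = a * (u * v) by ring, show a * v * u = a * (u * v) by ring]
    linear_combination (norm := module) h1 - h0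
  obtain ⟨Φ, hΦ⟩ := Groth.Agent.KLift.exists_lift E hE
  have h2smul : ∀ (z : Ω[A⁄k]), (2 : A) • z = (2 : k) • z := fun z => by rw [two_smul, two_smul]
  have hψ1 : ∀ a u : A, ψ (a ⊗ₜ[k] u, 0) = (2 : k) • (a • d u) := fun a u => by
    simpa [h2smul] using hψ a u 0 0
  have hψ2 : ∀ b v : A, ψ (0, b ⊗ₜ[k] v) = - (v • d b) := fun b v => by
    simpa using hψ 0 0 b v
  have key1 : ∀ s : A ⊗[k] A, (2 : k) • P s =
      (2 : k) • P (LinearMap.mul' k A s ⊗ₜ[k] (1 : A)) + Φ (ψ (s, 0)) := fun s => by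
    induction s using TensorProduct.induction_on with
    | zero => rw [map_zero, map_zero, TensorProduct.zero_tmul, map_zero, smul_zero, ← Prod.zero_eq_mk,
        map_zero, map_zero, add_zero]
    | tmul a u =>
      rw [hψ1, map_smul, hΦ, hE0, LinearMap.mul'_apply]
      module
    | add s t hs ht =>
      rw [show ((s + t, 0) : (A ⊗[k] A) × (A ⊗[k] A)) = (s, 0) + (t, 0) by simp, map_add ψ, map_add Φ,
        map_add, map_add, TensorProduct.add_tmul, map_add, smul_add, smul_add, hs, ht]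
      abel
  have key2 : ∀ t : A ⊗[k] A, (2 : k) • Z t =
      - (2 : k) • P (LinearMap.mul' k A t ⊗ₜ[k] (1 : A)) + Φ (ψ (0, t)) := fun t => by
    induction t using TensorProduct.induction_on with
    | zero => rw [map_zero, map_zero, TensorProduct.zero_tmul, map_zero, smul_zero, smul_zero,
        ← Prod.zero_eq_mk, map_zero, map_zero, add_zero]
    | tmul b v =>
      have h := hrel' v b 1
      simp only [mul_one, mul_comm v b] at h
      rw [hψ2, map_neg, hΦ, hE0, LinearMap.mul'_apply, mul_comm v b]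
      linear_combination (norm := module) h
    | add s t hs ht =>
      rw [show ((0, s + t) : (A ⊗[k] A) × (A ⊗[k] A)) = (0, s) + (0, t) by simp, map_add ψ, map_add Φ,
        map_add, map_add, TensorProduct.add_tmul, map_add, smul_add, smul_add, hs, ht]
      abel
  refine ⟨fun s t hst => ⟨fun h0 => ?_, ?_⟩, fun w => ?_⟩
  · have hz : q (s, t) = 0 := by
      have h' : Φ (ψ (s, 0)) + Φ (ψ (0, t)) = 0 := by
        rw [← map_add, ← map_add, Prod.mk_add_mk, add_zero, zero_add, h0, map_zero]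
      have : (2 : k) • q (s, t) = 0 := by
        rw [hsplit, smul_add, key1, key2, hst]
        linear_combination (norm := module) h'
      rw [← one_smul k (q (s, t)), ← inv_mul_cancel₀ (two_ne_zero' k), mul_smul, this, smul_zero]
    obtain ⟨x, hx, hxy⟩ := (Submodule.Quotient.mk_eq_zero R).1 hz
    exact ⟨x, (hFx x).1 hx, congrArg Prod.fst hxy, congrArg Prod.snd hxy⟩
  · rintro ⟨x, hx, rfl, rfl⟩
    have hzero : ∀ z, ψ (r₁₂ (z + s2 z), r₂₃ (z + s2 z)) = 0 := by
      suffices h : ψ ∘ₗ (r₁₂.prod r₂₃) ∘ₗ (LinearMap.id + s2) = 0 from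
        fun z => LinearMap.congr_fun h z
      refine TensorProduct.ext' fun a uv => ?_
      induction uv using TensorProduct.induction_on with
      | zero => rw [TensorProduct.tmul_zero, map_zero, map_zero]
      | tmul u v =>
        have e : (r₁₂.prod r₂₃) ((LinearMap.id + s2 : A ⊗[k] (A ⊗[k] A) →ₗ[k] _) (a ⊗ₜ[k] (u ⊗ₜ[k] v))) =
            ((a * u) ⊗ₜ[k] v, (u * v) ⊗ₜ[k] a) + ((a * v) ⊗ₜ[k] u, (v * u) ⊗ₜ[k] a) := by
          simp [s2, h₁₂, h₂₃]
        rw [LinearMap.comp_apply, LinearMap.comp_apply, e, map_add, hψ, hψ, LinearMap.zero_apply]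
        simp only [Derivation.leibniz]
        module
      | add u v hu hv => rw [TensorProduct.tmul_add, map_add, hu, hv]; simp
    have h2 := hzero x
    rw [show s2 x = x from hx, ← two_smul k x, map_smul, map_smul, ← Prod.smul_mk, map_smul,
      smul_eq_zero] at h2
    exact h2.resolve_left (by norm_num)
  · refine Groth.Agent.KLift.mem_of_smul_D
      ((LinearMap.ker ((LinearMap.mul' k A) ∘ₗ LinearMap.fst k (A ⊗[k] A) (A ⊗[k] A) -
        (LinearMap.mul' k A) ∘ₗ LinearMap.snd k (A ⊗[k] A) (A ⊗[k] A))).map ψ) (fun a b => ?_) w |>.elim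
      (fun st hst => ⟨st.1, st.2, sub_eq_zero.1 hst.1, hst.2⟩)
    refine ⟨((1 / 2 : k) • (a ⊗ₜ[k] b - (a * b) ⊗ₜ[k] (1 : A)), 0), ?_, ?_⟩
    · simp
    · rw [show (((1 / 2 : k) • (a ⊗ₜ[k] b - (a * b) ⊗ₜ[k] (1 : A)), 0) : (A ⊗[k] A) × (A ⊗[k] A)) =
        (1 / 2 : k) • ((a ⊗ₜ[k] b, 0) - ((a * b) ⊗ₜ[k] (1 : A), 0)) by simp, map_smul, map_sub, hψ1, hψ1]
      simp [d]

end Groth.Agent.S19213
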