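import Groth.Statements.S19216
import Mathlib

set_option autoImplicit false
universe u
open SymRep

namespace Groth.Agent.S19216

/-- Let k be a field of characteristic zero and r, s ≥ 1. Realise the standard representation of the
symmetric group on a finite set T as the hyperplane of functions T → k with sum zero, the group
acting by precomposition with the inverse. Then the standard representation of the symmetric group
of Fin r ⊕ Fin s, restricted to the subgroup S_r × S_s, is isomorphic to the direct sum of the
standard representations of S_r and of S_s and of a one-dimensional trivial representation: there is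
a k-linear map E from functions on Fin r ⊕ Fin s to triples (function on Fin r, function on Fin s,
scalar), compatible with the actions of S_r × S_s (trivial on the scalar), which maps the sum-zero
hyperplane bijectively onto the product of the two sum-zero hyperplanes and k. (The published
statement is over the complex numbers; a field of characteristic zero is used here. The published
statement also gives the analogous decomposition for any number of blocks, which follows by
induction; only the two-block case is stated here.) -/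
theorem result (k : Type u) [Field k] [CharZero k]
    (r s : ℕ) (hr : 1 ≤ r) (hs : 1 ≤ s) :
    ∃ E : (Fin r ⊕ Fin s → k) →ₗ[k] (Fin r → k) × (Fin s → k) × k,
      (∀ (σ : Equiv.Perm (Fin r)) (τ : Equiv.Perm (Fin s)) (f : Fin r ⊕ Fin s → k),
        E (f ∘ ⇑(Equiv.sumCongr σ τ).symm) = ((E f).1 ∘ ⇑σ.symm, (E f).2.1 ∘ ⇑τ.symm, (E f).2.2)) ∧
      Set.BijOn E {f | ∑ i, f i = 0}
        ({g : Fin r → k | ∑ i, g i = 0} ×ˢ ({h : Fin s → k | ∑ i, h i = 0} ×ˢ Set.univ)) := by
  have hr0 : (r : k) ≠ 0 := Nat.cast_ne_zero.2 (by omega)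
  have hs0 : (s : k) ≠ 0 := Nat.cast_ne_zero.2 (by omega)
  let E : (Fin r ⊕ Fin s → k) →ₗ[k] (Fin r → k) × (Fin s → k) × k :=
    { toFun := fun f => (fun i => f (.inl i) - (∑ j, f (.inl j)) / r, fun i => f (.inr i) - (∑ j, f (.inr j)) / s, ∑ j, f (.inl j))
      map_add' := fun f g => by
        refine Prod.ext (funext fun i => ?_) (Prod.ext (funext fun i => ?_) ?_) <;>
          simp [Finset.sum_add_distrib, add_div] <;> ring
      map_smul' := fun c f => by
        refine Prod.ext (funext fun i => ?_) (Prod.ext (funext fun i => ?_) ?_) <;>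
          simp [← Finset.mul_sum, mul_sub, mul_div_assoc] }
  refine ⟨E, fun σ τ f => ?_, fun f hf => ⟨?_, ?_, trivial⟩, fun f hf g hg h => ?_, ?_⟩
  · refine Prod.ext (funext fun i => ?_) (Prod.ext (funext fun i => ?_) ?_)
    · show f (.inl (σ.symm i)) - (∑ j, f (.inl (σ.symm j))) / r = f (.inl (σ.symm i)) - (∑ j, f (.inl j)) / r
      rw [Equiv.sum_comp σ.symm (fun j => f (.inl j))]
    · show f (.inr (τ.symm i)) - (∑ j, f (.inr (τ.symm j))) / s = f (.inr (τ.symm i)) - (∑ j, f (.inr j)) / s
      rw [Equiv.sum_comp τ.symm (fun j => f (.inr j))]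
    · show (∑ j, f (.inl (σ.symm j))) = ∑ j, f (.inl j)
      exact Equiv.sum_comp σ.symm (fun j => f (.inl j))
  · show ∑ i, (f (.inl i) - (∑ j, f (.inl j)) / r) = 0
    rw [Finset.sum_sub_distrib, Finset.sum_const, Finset.card_univ, Fintype.card_fin, nsmul_eq_mul, mul_div_cancel₀ _ hr0, sub_self]
  · show ∑ i, (f (.inr i) - (∑ j, f (.inr j)) / s) = 0
    rw [Finset.sum_sub_distrib, Finset.sum_const, Finset.card_univ, Fintype.card_fin, nsmul_eq_mul, mul_div_cancel₀ _ hs0, sub_self]
  · simp only [Set.mem_setOf_eq, Fintype.sum_sum_type] at hf hg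
    have h3 : (∑ j, f (.inl j)) = ∑ j, g (.inl j) := congrArg (fun x => x.2.2) h
    have h4 : (∑ j, f (.inr j)) = ∑ j, g (.inr j) := by linear_combination hf - hg - h3
    funext i
    rcases i with i | i
    · have h1 : f (.inl i) - _ = g (.inl i) - _ := congrFun (congrArg (fun x => x.1) h) i
      rwa [h3, sub_left_inj] at h1
    · have h1 : f (.inr i) - _ = g (.inr i) - _ := congrFun (congrArg (fun x => x.2.1) h) i
      rwa [h4, sub_left_inj] at h1
  · rintro ⟨g, h, c⟩ ⟨hg, hh, -⟩
    refine ⟨Sum.elim (fun i => g i + c / r) (fun i => h i - c / s), ?_, ?_⟩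
    · simp only [Set.mem_setOf_eq, Fintype.sum_sum_type, Sum.elim_inl, Sum.elim_inr, Finset.sum_add_distrib, Finset.sum_sub_distrib, Finset.sum_const, Finset.card_univ, Fintype.card_fin, nsmul_eq_mul, mul_div_cancel₀ _ hr0, mul_div_cancel₀ _ hs0]
      rw [show ∑ i, g i = 0 from hg, show ∑ i, h i = 0 from hh]; ring
    · have e1 : ∑ j, (g j + c / r) = c := by
        rw [Finset.sum_add_distrib, show ∑ i, g i = 0 from hg, Finset.sum_const, Finset.card_univ, Fintype.card_fin, nsmul_eq_mul, mul_div_cancel₀ _ hr0, zero_add]
      have e2 : ∑ j, (h j - c / s) = -c := by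
        rw [Finset.sum_sub_distrib, show ∑ i, h i = 0 from hh, Finset.sum_const, Finset.card_univ, Fintype.card_fin, nsmul_eq_mul, mul_div_cancel₀ _ hs0, zero_sub]
      refine Prod.ext (funext fun i => ?_) (Prod.ext (funext fun i => ?_) ?_)
      · show (g i + c / r) - (∑ j, (g j + c / r)) / r = g i
        rw [e1]; ring
      · show (h i - c / s) - (∑ j, (h j - c / s)) / s = h i
        rw [e2]; ring
      · exact e1

end Groth.Agent.S19216
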