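import Groth.Statements.S19224
import Mathlib

set_option autoImplicit false
open GalCoh

namespace Groth.Agent.S19224

/-- Let Q be a finite group such that H^3(Q, ℤ) = 0 for the trivial action, and let k be a separably
closed field of characteristic p ≥ 0 with p not dividing the order of Q. Then H^2(Q, k^×) = 0, where
Q acts trivially on the units of k. (Groups and fields are taken in the lowest universe, as integral
coefficients in the group-cohomology library require.) -/
theorem result (Q : Type) [Group Q] [Finite Q]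
    (hQ : Subsingleton (groupCohomology (Rep.trivial ℤ Q ℤ) 3)) (k : Type) [Field k] [IsSepClosed k]
    (p : ℕ) [CharP k p] (hp : ¬ p ∣ Nat.card Q) :
    Subsingleton (groupCohomology (Rep.trivial ℤ Q (Additive kˣ)) 2) := by
  classical
  haveI : Fintype Q := Fintype.ofFinite Q
  set n := Nat.card Q with hn
  have hiff : ∀ (A : Rep.{0} ℤ Q) (m : ℕ), Subsingleton (groupCohomology A (m + 1)) ↔
      ∀ z : (Fin (m + 1) → Q) → A, inhomogeneousCochains.d A (m + 1) z = 0 →
        ∃ y : (Fin m → Q) → A, inhomogeneousCochains.d A m y = z := by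
    intro A m
    rw [← ModuleCat.isZero_iff_subsingleton]
    show CategoryTheory.Limits.IsZero ((groupCohomology.inhomogeneousCochains A).homology (m + 1)) ↔ _
    rw [← HomologicalComplex.exactAt_iff_isZero_homology,
      (groupCohomology.inhomogeneousCochains A).exactAt_iff' m (m + 1) (m + 1 + 1) (by simp) (by simp),
      CategoryTheory.ShortComplex.moduleCat_exact_iff]
    simp only [HomologicalComplex.shortComplexFunctor'_obj_f, HomologicalComplex.shortComplexFunctor'_obj_g,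
      HomologicalComplex.sc', groupCohomology.inhomogeneousCochains.d_def, CochainComplex.of.d,
      ↓reduceDIte, CategoryTheory.eqToHom_refl, CategoryTheory.Category.comp_id]
    exact ⟨fun h z hz => h z hz, fun h z hz => h z hz⟩
  -- formulas for the trivial action
  have hd1 : ∀ {M : Type} [AddCommGroup M] (f : (Fin 1 → Q) → M) (g : Fin 2 → Q),
      (inhomogeneousCochains.d (Rep.trivial ℤ Q M) 1 f : (Fin 2 → Q) → M) g
        = f ![g 1] - f ![g 0 * g 1] + f ![g 0] := by
    intro M _ f g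
    rw [inhomogeneousCochains.d_hom_apply, Fin.sum_univ_two]
    have e1 : (fun i : Fin 1 => g i.succ) = ![g 1] := by funext i; fin_cases i; rfl
    have e2 : Fin.contractNth (0 : Fin 2) (· * ·) g = ![g 0 * g 1] := by funext i; fin_cases i; rfl
    have e3 : Fin.contractNth (1 : Fin 2) (· * ·) g = ![g 0] := by funext i; fin_cases i; rfl
    rw [e1, e2, e3]
    simp [sub_eq_add_neg, add_assoc]
  have hd2 : ∀ {M : Type} [AddCommGroup M] (f : (Fin 2 → Q) → M) (a b c : Q),
      (inhomogeneousCochains.d (Rep.trivial ℤ Q M) 2 f : (Fin 3 → Q) → M) ![a, b, c]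
        = f ![b, c] - f ![a * b, c] + f ![a, b * c] - f ![a, b] := by
    intro M _ f a b c
    rw [inhomogeneousCochains.d_hom_apply, Fin.sum_univ_three]
    have e1 : (fun i : Fin 2 => ![a, b, c] i.succ) = ![b, c] := by funext i; fin_cases i <;> rfl
    have e2 : Fin.contractNth (0 : Fin 3) (· * ·) ![a, b, c] = ![a * b, c] := by funext i; fin_cases i <;> rfl
    have e3 : Fin.contractNth (1 : Fin 3) (· * ·) ![a, b, c] = ![a, b * c] := by funext i; fin_cases i <;> rfl
    have e4 : Fin.contractNth (2 : Fin 3) (· * ·) ![a, b, c] = ![a, b] := by funext i; fin_cases i <;> rfl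
    rw [e1, e2, e3, e4]
    simp [sub_eq_add_neg, add_assoc]
  -- averaging kills by the order
  have havg : ∀ {M : Type} [AddCommGroup M] (z : (Fin 2 → Q) → M),
      inhomogeneousCochains.d (Rep.trivial ℤ Q M) 2 z = 0 →
        ∃ b : (Fin 1 → Q) → M, ∀ g,
          (inhomogeneousCochains.d (Rep.trivial ℤ Q M) 1 b : (Fin 2 → Q) → M) g = n • z g := by
    intro M _ z hz
    refine ⟨fun g => ∑ j, z ![g 0, j], fun g => ?_⟩
    have hg : g = ![g 0, g 1] := by funext i; fin_cases i <;> rfl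
    have hsum : ∑ j, (z ![g 1, j] - z ![g 0 * g 1, j] + z ![g 0, g 1 * j] - z ![g 0, g 1]) = 0 := by
      refine Finset.sum_eq_zero (fun j _ => ?_)
      rw [← hd2, hz]; rfl
    have hperm : ∑ j, z ![g 0, g 1 * j] = ∑ j, z ![g 0, j] :=
      Equiv.sum_comp (Equiv.mulLeft (g 1)) (fun j => z ![g 0, j])
    rw [Finset.sum_sub_distrib, Finset.sum_add_distrib, Finset.sum_sub_distrib,
      hperm, Finset.sum_const,
      Finset.card_univ, ← Nat.card_eq_fintype_card, ← hn, sub_eq_zero] at hsum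
    rw [hd1]
    conv_rhs => rw [hg]
    rw [← hsum]
    simp
  have hnk : (n : k) ≠ 0 := fun h => hp ((CharP.cast_eq_zero_iff k p n).mp h)
  haveI : NeZero (n : k) := ⟨hnk⟩
  have hdiv : ∀ a : Additive kˣ, ∃ b : Additive kˣ, n • b = a := by
    intro a
    obtain ⟨x, hx⟩ := IsSepClosed.exists_pow_nat_eq ((Additive.toMul a : kˣ) : k) n
    have hx0 : x ≠ 0 := fun h => (Additive.toMul a).ne_zero (by
      rw [← hx, h, zero_pow (Nat.card_pos (α := Q)).ne'])
    exact ⟨Additive.ofMul (Units.mk0 x hx0), by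
      rw [← ofMul_pow]; exact Additive.toMul.injective (Units.ext hx)⟩
  rw [hiff _ 1]
  intro z hz
  obtain ⟨b, hb⟩ := havg z hz
  choose c hc using fun g => hdiv (b g)
  let z' : (Fin 2 → Q) → Additive kˣ := z - inhomogeneousCochains.d (Rep.trivial ℤ Q (Additive kˣ)) 1 c
  have hz'n : ∀ g, n • z' g = 0 := by
    intro g
    have e1 := hb g
    rw [hd1, ← hc, ← hc, ← hc] at e1
    show n • ((z g : Additive kˣ) - _) = 0
    refine (smul_sub (A := Additive kˣ) n _ _).trans ?_
    rw [hd1, smul_add, smul_sub]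
    exact sub_eq_zero.mpr e1.symm
  have hdd : ∀ {M : Type} [AddCommGroup M] (m : ℕ) (f : (Fin m → Q) → M),
      inhomogeneousCochains.d (Rep.trivial ℤ Q M) (m + 1)
        (inhomogeneousCochains.d (Rep.trivial ℤ Q M) m f) = 0 := fun m f =>
    congrArg (fun φ => (CategoryTheory.ConcreteCategory.hom φ) f)
      (groupCohomology.inhomogeneousCochains.d_comp_d m (Rep.trivial ℤ Q _))
  have hz'c : inhomogeneousCochains.d (Rep.trivial ℤ Q (Additive kˣ)) 2 z' = 0 := by
    show inhomogeneousCochains.d (Rep.trivial ℤ Q (Additive kˣ)) 2 (z - _) = 0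
    rw [map_sub, hz, hdd, sub_self]
  haveI : NeZero n := ⟨(Nat.card_pos (α := Q)).ne'⟩
  obtain ⟨⟨ζ, hζn⟩, hgen⟩ := IsCyclic.exists_generator (α := rootsOfUnity n k)
  have hval : ∀ g, ∃ i : ℤ, ζ ^ i = Additive.toMul (z' g) := by
    intro g
    have hmem : Additive.toMul (z' g) ∈ rootsOfUnity n k := by
      rw [mem_rootsOfUnity, ← toMul_nsmul, hz'n]; rfl
    obtain ⟨i, hi⟩ := Subgroup.mem_zpowers_iff.mp (hgen ⟨_, hmem⟩)
    exact ⟨i, by simpa using congrArg Subtype.val hi⟩
  choose Z hZ using hval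
  let φ : ℤ →+ Additive kˣ := zmultiplesHom _ (Additive.ofMul ζ)
  have hφ : ∀ i : ℤ, φ i = Additive.ofMul (ζ ^ i) := fun i => by simp [φ, ← ofMul_zpow]
  have hnat : ∀ (m : ℕ) (f : (Fin m → Q) → ℤ) (g : Fin (m + 1) → Q),
      φ ((inhomogeneousCochains.d (Rep.trivial ℤ Q ℤ) m f : (Fin (m + 1) → Q) → ℤ) g) =
        (inhomogeneousCochains.d (Rep.trivial ℤ Q (Additive kˣ)) m (fun t => φ (f t)) :
          (Fin (m + 1) → Q) → Additive kˣ) g := by
    intro m f g
    rw [inhomogeneousCochains.d_hom_apply, inhomogeneousCochains.d_hom_apply]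
    simp [map_sum, map_zsmul]
    exact Finset.sum_congr rfl (fun x _ => by rw [← smul_eq_mul, map_zsmul])
  have hφZ : (fun g => φ (Z g)) = z' := funext fun g => by rw [hφ, hZ]; rfl
  set N := orderOf ζ with hN
  have hWex : ∀ g, ∃ w : ℤ, (inhomogeneousCochains.d (Rep.trivial ℤ Q ℤ) 2 Z : (Fin 3 → Q) → ℤ) g
      = (N : ℤ) * w := by
    intro g
    have h1 := hnat 2 Z g
    rw [hφZ, hz'c, hφ] at h1
    obtain ⟨w, hw⟩ := orderOf_dvd_iff_zpow_eq_one.mpr (show ζ ^ _ = 1 from Additive.ofMul.injective h1)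
    exact ⟨w, hw⟩
  choose W hW using hWex
  have hNn : N ∣ n := orderOf_dvd_of_pow_eq_one hζn
  have hN0 : (N : ℤ) ≠ 0 := by
    intro h
    rw [Int.natCast_eq_zero] at h
    exact NeZero.ne n (Nat.eq_zero_of_zero_dvd (h ▸ hNn))
  have hW' : inhomogeneousCochains.d (Rep.trivial ℤ Q ℤ) 2 Z = (N : ℤ) • (W : (Fin 3 → Q) → ℤ) :=
    funext hW
  have hWc : inhomogeneousCochains.d (Rep.trivial ℤ Q ℤ) 3 W = 0 := by
    have h2 : inhomogeneousCochains.d (Rep.trivial ℤ Q ℤ) 3
        (inhomogeneousCochains.d (Rep.trivial ℤ Q ℤ) 2 Z) = 0 := hdd 2 Z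
    rw [hW', map_zsmul] at h2
    exact (smul_eq_zero.mp h2).resolve_left hN0
  obtain ⟨V, hV⟩ := (hiff _ 2).mp hQ W hWc
  let Z' : (Fin 2 → Q) → ℤ := Z - (N : ℤ) • V
  have hZ'c : inhomogeneousCochains.d (Rep.trivial ℤ Q ℤ) 2 Z' = 0 := by
    show inhomogeneousCochains.d (Rep.trivial ℤ Q ℤ) 2 (Z - _) = 0
    rw [map_sub, map_zsmul, hV, hW', sub_self]
  obtain ⟨U, hU⟩ := havg Z' hZ'c
  obtain ⟨η, hη⟩ := hdiv (Additive.ofMul ζ)
  refine ⟨c + (fun t => U t • η), ?_⟩
  funext g
  rw [map_add, Pi.add_apply]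
  have key : (inhomogeneousCochains.d (Rep.trivial ℤ Q (Additive kˣ)) 1 (fun t => U t • η) :
      (Fin 2 → Q) → Additive kˣ) g = z' g := by
    rw [hd1, ← sub_smul, ← add_smul, ← hd1, hU]
    have hNζ : (N : ℤ) • Additive.ofMul ζ = 0 := by
      rw [← ofMul_zpow, zpow_natCast, hN, pow_orderOf_eq_one]; rfl
    rw [← hφZ]
    show (n • (Z g - (N : ℤ) • V g)) • η = φ (Z g)
    rw [nsmul_eq_mul, mul_comm, mul_smul, natCast_zsmul η n, hη, sub_smul, smul_eq_mul, mul_comm, mul_smul,
      hNζ, smul_zero, sub_zero]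
    rfl
  rw [key]
  show _ + (z g - _) = z g
  abel

end Groth.Agent.S19224
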