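import Groth.Statements.S19229
import Mathlib

set_option autoImplicit false
universe u v
open SigmaLin

namespace Groth.Agent.S19229

/-- Let k be a field with a ring endomorphism σ, V a finite-dimensional k-vector space and T : V → V an
additive map with T (c • v) = σ c • T v. If some iterate of T sends v to 0 and v lies in the
k-linear span of the image of every iterate of T, then v = 0. In other words the union of the
kernels of the iterates of T and the intersection of the spans of their images meet only in 0. -/
theorem result
    (k : Type u) [Field k] (σ : k →+* k)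
    (V : Type v) [AddCommGroup V] [Module k V] [FiniteDimensional k V] (T : V →ₛₗ[σ] V) (v : V)
    (hnil : ∃ n : ℕ, (⇑T)^[n] v = 0)
    (hss : ∀ n : ℕ, v ∈ Submodule.span k (Set.range ((⇑T)^[n]))) : v = 0 := by
  classical
  let W : ℕ → Submodule k V := fun n => Submodule.span k (Set.range ((⇑T)^[n]))
  have hanti : ∀ n, W (n+1) ≤ W n := by
    intro n
    refine Submodule.span_le.mpr ?_
    rintro _ ⟨x, rfl⟩
    exact Submodule.subset_span ⟨T x, by simp [Function.iterate_succ_apply]⟩
  have hstep : ∀ n, Submodule.span k (T '' (W n : Set V)) = W (n+1) := by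
    intro n
    apply le_antisymm
    · refine Submodule.span_le.mpr ?_
      rintro _ ⟨x, hx, rfl⟩
      induction hx using Submodule.span_induction with
      | mem y hy =>
        obtain ⟨z, rfl⟩ := hy
        exact Submodule.subset_span ⟨z, Function.iterate_succ_apply' _ _ _⟩
      | zero => simp
      | add a b _ _ ha hb => simp only [map_add]; exact add_mem ha hb
      | smul c a _ ha => simp only [LinearMap.map_smulₛₗ]; exact Submodule.smul_mem _ _ ha
    · refine Submodule.span_le.mpr ?_
      rintro _ ⟨z, rfl⟩
      rw [Function.iterate_succ_apply']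
      exact Submodule.subset_span ⟨_, Submodule.subset_span ⟨z, rfl⟩, rfl⟩
  obtain ⟨N, hN⟩ : ∃ N, W (N+1) = W N := by
    obtain ⟨N, hN⟩ := IsArtinian.monotone_stabilizes
      (⟨fun n => OrderDual.toDual (W n), monotone_nat_of_le_succ fun n => hanti n⟩ : ℕ →o (Submodule k V)ᵒᵈ)
    exact ⟨N, (hN (N+1) (Nat.le_succ N)).symm⟩
  let b := Module.finBasis k (W N)
  have hTmem : ∀ x ∈ W N, T x ∈ W N := fun x hx => by
    rw [← hN, ← hstep]; exact Submodule.subset_span ⟨x, hx, rfl⟩
  have hli : LinearIndependent k (fun i => T (b i)) := by
    rw [linearIndependent_iff_card_le_finrank_span]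
    have hsp : Submodule.span k (Set.range fun i => T (b i)) = W N := by
      apply le_antisymm
      · refine Submodule.span_le.mpr ?_
        rintro _ ⟨i, rfl⟩
        exact hTmem _ (b i).2
      · conv_lhs => rw [← hN, ← hstep]
        refine Submodule.span_le.mpr ?_
        rintro _ ⟨x, hx, rfl⟩
        have : x = ∑ i, b.repr ⟨x, hx⟩ i • (b i : V) := by
          have hh := (congrArg Subtype.val (b.sum_repr ⟨x, hx⟩)).symm; simp only [Submodule.coe_sum, Submodule.coe_smul] at hh; exact hh
        rw [this, map_sum]
        refine sum_mem fun i _ => ?_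
        rw [LinearMap.map_smulₛₗ]
        exact Submodule.smul_mem _ _ (Submodule.subset_span ⟨i, rfl⟩)
    rw [Set.finrank, hsp, Fintype.card_fin]
  have hinj : ∀ x ∈ W N, T x = 0 → x = 0 := by
    intro x hx h0
    have hx' : x = ∑ i, b.repr ⟨x, hx⟩ i • (b i : V) := by
      have hh := (congrArg Subtype.val (b.sum_repr ⟨x, hx⟩)).symm; simp only [Submodule.coe_sum, Submodule.coe_smul] at hh; exact hh
    rw [hx', map_sum] at h0
    simp only [LinearMap.map_smulₛₗ] at h0
    have := Fintype.linearIndependent_iff.mp hli _ h0
    rw [hx']
    exact Finset.sum_eq_zero fun i _ => by rw [σ.injective ((this i).trans σ.map_zero.symm), zero_smul]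
  obtain ⟨n, hn⟩ := hnil
  have hit : ∀ m, (⇑T)^[m] v ∈ W N := by
    intro m
    induction m with
    | zero => exact hss N
    | succ m ih => rw [Function.iterate_succ_apply']; exact hTmem _ ih
  induction n with
  | zero => simpa using hn
  | succ n ih =>
    rw [Function.iterate_succ_apply'] at hn
    exact ih (hinj _ (hit n) hn)

end Groth.Agent.S19229
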