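import Mathlib
import Groth.Statements.S19239
import Groth.Agent.Lib.H4FrobLang
-- import your own Groth.Agent.* helpers here

set_option autoImplicit false
universe u v
open SigmaLin

namespace Groth.Agent.S19239

/-- Let k be an algebraically closed field of characteristic p > 0, V a finite-dimensional k-vector
space and T : V → V an additive map with T (c • v) = σ(c) • T v for σ the inverse of the p-th power
map of k. Then v ↦ v − T v is surjective on V, and the intersection over n of the k-spans of the
images of the iterates of T admits a k-basis consisting of vectors fixed by T. (A special case of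
the statement for a surjective field endomorphism satisfying two solvability conditions.) -/
theorem result
    (p : ℕ) [Fact p.Prime] (k : Type u) [Field k] [CharP k p] [IsAlgClosed k]
    (V : Type v) [AddCommGroup V] [Module k V] [FiniteDimensional k V]
    (T : V →ₛₗ[(frobeniusEquiv k p).symm.toRingHom] V) :
    Function.Surjective (fun v : V => v - T v) ∧
    ∃ b : Module.Basis (Fin (Module.finrank k ↥(⨅ n : ℕ, Submodule.span k (Set.range ((⇑T)^[n]))))) k ↥(⨅ n : ℕ, Submodule.span k (Set.range ((⇑T)^[n]))),
      ∀ i, T (b i : V) = (b i : V) := by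
  classical
  haveI : ExpChar k p := ExpChar.prime Fact.out
  have hsmul : ∀ (c : k) (v : V), c • T v = T ((c ^ p) • v) := fun c v => by
    rw [LinearMap.map_smulₛₗ]
    congr 1
    show c = (frobeniusEquiv k p).symm (c ^ p)
    rw [← frobeniusEquiv_def k p c, RingEquiv.symm_apply_apply]
  let R : ℕ → Submodule k V := fun n => Submodule.span k (Set.range ((⇑T)^[n]))
  have hmem : ∀ n x, x ∈ R n → ∃ v, (⇑T)^[n] v = x := fun n => by
    have hsm : ∀ (c : k) (v : V), ∃ u, (⇑T)^[n] u = c • (⇑T)^[n] v := by
      induction n with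
      | zero => exact fun c v => ⟨c • v, rfl⟩
      | succ n ih =>
        intro c v
        obtain ⟨u, hu⟩ := ih (c ^ p) v
        exact ⟨u, by rw [Function.iterate_succ_apply', Function.iterate_succ_apply', hu, hsmul]⟩
    have hadd : ∀ u v, (⇑T)^[n] (u + v) = (⇑T)^[n] u + (⇑T)^[n] v := fun u v => iterate_map_add T n u v
    intro x hx
    induction hx using Submodule.span_induction with
    | mem y hy => exact hy
    | zero => exact ⟨0, iterate_map_zero T n⟩
    | add a b _ _ ha hb =>
      obtain ⟨u, rfl⟩ := ha
      obtain ⟨v, rfl⟩ := hb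
      exact ⟨u + v, hadd u v⟩
    | smul c a _ ha =>
      obtain ⟨u, rfl⟩ := ha
      exact hsm c u
  have hanti : Antitone R := antitone_nat_of_succ_le fun n => Submodule.span_mono (by
    rintro _ ⟨v, rfl⟩
    exact ⟨T v, (Function.iterate_succ_apply (⇑T) n v).symm⟩)
  obtain ⟨N, hN⟩ := IsArtinian.monotone_stabilizes ⟨fun n => OrderDual.toDual (R n), fun a b h => hanti h⟩
  have hstab : ∀ m, N ≤ m → R m = R N := fun m hm => (OrderDual.toDual_inj.mp (hN m hm)).symm
  have hW : (⨅ n : ℕ, Submodule.span k (Set.range ((⇑T)^[n]))) = R N := le_antisymm (iInf_le R N) (le_iInf fun n => by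
    rcases le_total n N with h | h
    · exact hanti h
    · exact (hstab n h).ge)
  let W := (⨅ n : ℕ, Submodule.span k (Set.range ((⇑T)^[n])))
  have hpre : ∀ x : W, ∃ y : W, T (y : V) = x := fun x => by
    obtain ⟨v, hv⟩ := hmem (N + 1) x (by rw [hstab (N + 1) (by omega), ← hW]; exact x.2)
    refine ⟨⟨(⇑T)^[N] v, ?_⟩, by rw [← hv, Function.iterate_succ_apply']⟩
    show (⇑T)^[N] v ∈ ⨅ n : ℕ, Submodule.span k (Set.range ((⇑T)^[n]))
    rw [hW]
    exact Submodule.subset_span ⟨v, rfl⟩
  let e := Module.finBasis k W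
  choose w hw using fun i => hpre (e i)
  let S : W →+ W :=
    { toFun := fun x => ∑ i, (e.repr x i) ^ p • w i
      map_zero' := by simp [(Fact.out : p.Prime).ne_zero]
      map_add' := fun x y => by simp [add_pow_char, add_smul, Finset.sum_add_distrib] }
  have hTS : ∀ x : W, T (S x : V) = x := fun x => by
    conv_rhs => rw [← e.sum_repr x]
    simp only [S, AddMonoidHom.coe_mk, ZeroHom.coe_mk, AddSubmonoidClass.coe_finsetSum, Submodule.coe_smul, map_sum, ← hsmul, hw]
  have hli : LinearIndependent k w := Fintype.linearIndependent_iff.mpr fun c hc i => by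
    have h1 : T ((∑ j, c j • w j : W) : V) = 0 := by rw [hc]; exact map_zero T
    simp only [AddSubmonoidClass.coe_finsetSum, Submodule.coe_smul, map_sum, LinearMap.map_smulₛₗ, hw] at h1
    have h2 := Fintype.linearIndependent_iff.mp e.linearIndependent (fun j => (frobeniusEquiv k p).symm (c j))
      (Subtype.ext (by simpa using h1)) i
    simpa using h2
  have hspan : Submodule.span k (Set.range S) = ⊤ := by
    refine top_le_iff.mp ((hli.span_eq_top_of_card_eq_finrank' (by simp)).ge.trans (Submodule.span_mono ?_))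
    rintro _ ⟨i, rfl⟩
    exact ⟨e i, by simp [S, Finsupp.single_apply, (Fact.out : p.Prime).ne_zero]⟩
  have hsl : ∀ (r : k) (x : W), S (r • x) = r ^ p • S x := fun r x => by
    simp [S, Finset.smul_sum, mul_pow, smul_smul]
  refine ⟨fun z => ?_, ?_⟩
  · obtain ⟨hsur, -⟩ := H4FrobLang.field_main p S hsl hspan
    obtain ⟨u, hu⟩ := hsur ⟨(⇑T)^[N] z, by
      show (⇑T)^[N] z ∈ ⨅ n : ℕ, Submodule.span k (Set.range ((⇑T)^[n]))
      rw [hW]
      exact Submodule.subset_span ⟨z, rfl⟩⟩
    refine ⟨(∑ j ∈ Finset.range N, (⇑T)^[j] z) + (S u : V), ?_⟩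
    have hu' : (S u : V) - (u : V) = (⇑T)^[N] z := congrArg Subtype.val hu
    show _ - T _ = z
    rw [map_add, map_sum, hTS, add_sub_add_comm, hu', ← Finset.sum_sub_distrib]
    have htel := Finset.sum_range_sub' (fun j => (⇑T)^[j] z) N
    simp only [Function.iterate_succ_apply'] at htel
    rw [htel, Function.iterate_zero_apply, sub_add_cancel]
  · obtain ⟨b, hb⟩ := H4FrobLang.exists_fixed_basis p S hsl hspan
    refine ⟨b, fun i => ?_⟩
    conv_lhs => rw [← hb i]
    exact hTS (b i)

end Groth.Agent.S19239
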