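import Groth.Statements.S19269
import Mathlib

set_option autoImplicit false
universe u
open CAlg

namespace Groth.Agent.S19269
set_option maxHeartbeats 4000000
open IsLocalRing

open IsLocalRing in
/-- Let R be a Noetherian local ring with maximal ideal 𝔪, M a finitely generated R-module and M^ its
𝔪-adic completion, a module over the 𝔪-adic completion R^ of R. Let N' be an R^-submodule of M^ and
N an R-submodule of M whose image in M^ is contained in N' and is dense in N' for the 𝔪-adic
topology, in the sense that for every y in N' and every k there is x in N with y ≡ x modulo the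
kernel of M^ → M/𝔪^k M. Then N' equals the image of the completion of N under the map induced by the
inclusion N → M (so N' is the completion of N), and N is the set of elements of M whose image in M^
lies in N'. -/
theorem result {R : Type u} [CommRing R]
    [IsNoetherianRing R] [IsLocalRing R] {M : Type u} [AddCommGroup M] [Module R M]
    [Module.Finite R M] (N : Submodule R M)
    (N' : Submodule (AdicCompletion (maximalIdeal R) R) (AdicCompletion (maximalIdeal R) M))
    (hle : ∀ x ∈ N, AdicCompletion.of (maximalIdeal R) M x ∈ N')
    (hdense : ∀ y ∈ N', ∀ k : ℕ, ∃ x ∈ N,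
      AdicCompletion.eval (maximalIdeal R) M k y = Submodule.Quotient.mk x) :
    (N'.restrictScalars R =
        (LinearMap.range (AdicCompletion.map (maximalIdeal R) N.subtype)).restrictScalars R) ∧
      (∀ x : M, x ∈ N ↔ AdicCompletion.of (maximalIdeal R) M x ∈ N') := by
  have hex := AdicCompletion.map_exact (I := maximalIdeal R) N.injective_subtype (LinearMap.exact_subtype_mkQ N) N.mkQ_surjective
  have h1 : ∀ y ∈ N', AdicCompletion.map (maximalIdeal R) N.mkQ y = 0 := by
    intro y hy
    ext k
    obtain ⟨x, hx, hxy⟩ := hdense y hy k
    show LinearMap.reduceModIdeal ((maximalIdeal R) ^ k) N.mkQ (AdicCompletion.eval (maximalIdeal R) M k y) = 0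
    rw [hxy]
    show Submodule.Quotient.mk (N.mkQ x) = (0 : (M ⧸ N) ⧸ ((maximalIdeal R) ^ k • ⊤ : Submodule R (M ⧸ N)))
    rw [Submodule.mkQ_apply, (Submodule.Quotient.mk_eq_zero N).2 hx, Submodule.Quotient.mk_zero]
  have h2 : ∀ z, AdicCompletion.map (maximalIdeal R) N.subtype z ∈ N' := by
    intro z
    obtain ⟨t, rfl⟩ := (AdicCompletion.ofTensorProductEquivOfFiniteNoetherian (maximalIdeal R) N).surjective z
    induction t using TensorProduct.induction_on with
    | zero => simp
    | add a b ha hb => rw [map_add, map_add]; exact add_mem ha hb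
    | tmul r x =>
      show AdicCompletion.map (maximalIdeal R) N.subtype (AdicCompletion.ofTensorProduct (maximalIdeal R) N (r ⊗ₜ x)) ∈ N'
      rw [AdicCompletion.ofTensorProduct_tmul, map_smul, AdicCompletion.map_of]
      exact N'.smul_mem r (hle x x.2)
  refine ⟨le_antisymm (fun y hy => (hex y).1 (h1 y hy)) ?_, fun x => ⟨hle x, fun hx => ?_⟩⟩
  · rintro _ ⟨z, rfl⟩; exact h2 z
  · have := h1 _ hx
    rw [AdicCompletion.map_of] at this
    exact (Submodule.Quotient.mk_eq_zero N).1 (AdicCompletion.of_injective (maximalIdeal R) (M ⧸ N) (this.trans (map_zero _).symm))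

end Groth.Agent.S19269
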