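import Mathlib
import Groth.Statements.S19270
import Groth.Agent.Lib.H2PerfectSmooth
-- import your own Groth.Agent.* helpers here

set_option autoImplicit false
universe u
open CAlg
open TensorProduct

namespace Groth.Agent.S19270

open IsLocalRing in
/-- Let A be a regular local ring of prime characteristic p, of Krull dimension N, with maximal ideal
generated by x_1, …, x_N, and assume that the module Ω_A of absolute Kähler differentials of A
(differentials relative to ℤ, equivalently relative to the prime field) is a free A-module of finite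
rank. Then dx_1, …, dx_N are part of a basis of Ω_A: there exist a basis b of Ω_A and an injection e
of the indices 1, …, N into the index type of b with b (e i) = d(x_i) for all i. (In the published
statement A is a regular local F-finite algebra over the prime field and the freeness and finiteness
of Ω_A form the first assertion, taken there from the literature; here they are hypotheses.) -/
theorem result (p : ℕ) [Fact p.Prime]
    {A : Type u} [CommRing A] [IsRegularLocalRing A] [CharP A p]
    [Module.Free A (KaehlerDifferential ℤ A)] [Module.Finite A (KaehlerDifferential ℤ A)]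
    {N : ℕ} (x : Fin N → A) (hx : Ideal.span (Set.range x) = maximalIdeal A)
    (hN : ringKrullDim A = (N : WithBot ℕ∞)) :
    ∃ (ι : Type u) (b : Module.Basis ι A (KaehlerDifferential ℤ A)) (e : Fin N ↪ ι),
      ∀ i : Fin N, b (e i) = KaehlerDifferential.D ℤ A (x i) := by
  classical
  letI : Algebra (ZMod p) A := ZMod.algebra A p
  let k := ResidueField A
  let m := maximalIdeal A
  let B := A ⧸ m ^ 2
  haveI := H2PerfectSmooth.formallySmooth (ZMod p) k
  let π : B →ₐ[ZMod p] k := Ideal.Quotient.factorₐ (ZMod p) (Ideal.pow_le_self two_ne_zero)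
  have hπ : Function.Surjective π := fun z => by
    obtain ⟨a, rfl⟩ := residue_surjective z
    exact ⟨Ideal.Quotient.mk _ a, rfl⟩
  have hker : ∀ z : B, π z = 0 → ∃ a ∈ m, Ideal.Quotient.mk (m ^ 2) a = z := fun z hz => by
    obtain ⟨a, rfl⟩ := Ideal.Quotient.mk_surjective z
    exact ⟨a, (residue_eq_zero_iff a).mp hz, rfl⟩
  have hprod : ∀ y z : B, π y = 0 → π z = 0 → y * z = 0 := fun y z hy hz => by
    obtain ⟨a, ha, rfl⟩ := hker y hy
    obtain ⟨b, hb, rfl⟩ := hker z hz
    rw [← map_mul, Ideal.Quotient.eq_zero_iff_mem, pow_two]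
    exact Ideal.mul_mem_mul ha hb
  have hnil : IsNilpotent (RingHom.ker π.toRingHom) := ⟨2, by
    exact (pow_two (RingHom.ker π.toRingHom)).trans
      (le_antisymm (Ideal.mul_le.mpr fun y hy z hz => Ideal.mem_bot.mpr (hprod y z hy hz)) bot_le)⟩
  obtain ⟨s, hs⟩ : ∃ s : k →ₐ[ZMod p] B, π.comp s = AlgHom.id _ _ :=
    ⟨Algebra.FormallySmooth.liftOfSurjective (AlgHom.id _ _) π hπ hnil, Algebra.FormallySmooth.comp_liftOfSurjective _ π hπ hnil⟩
  let g : A → B := fun a => Ideal.Quotient.mk (m ^ 2) a - s (residue A a)
  have hg : ∀ a, π (g a) = 0 := fun a => by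
    show π (Ideal.Quotient.mk (m ^ 2) a - s (residue A a)) = 0
    rw [map_sub, ← AlgHom.comp_apply π s, hs]
    exact sub_self _
  have hadd : ∀ a b, g (a + b) = g a + g b := fun a b => by simp only [g, map_add]; abel
  let d : Derivation ℤ A B := Derivation.mk' ((AddMonoidHom.mk' g hadd).toIntLinearMap) fun a b => by
    show g (a * b) = a • g b + b • g a
    rw [Algebra.smul_def, Algebra.smul_def]
    have h0 := hprod _ _ (hg a) (hg b)
    simp only [g] at h0 ⊢
    show _ = Ideal.Quotient.mk (m ^ 2) a * _ + Ideal.Quotient.mk (m ^ 2) b * _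
    rw [map_mul, map_mul, map_mul]
    linear_combination -h0
  have hdx : ∀ a ∈ m, d a = Ideal.Quotient.mk (m ^ 2) a := fun a ha => by
    show Ideal.Quotient.mk (m ^ 2) a - s (residue A a) = _
    rw [(residue_eq_zero_iff a).mpr ha, map_zero, sub_zero]
  have hxm : ∀ i, x i ∈ m := fun i => hx.le (Ideal.subset_span ⟨i, rfl⟩)
  have hkill : ∀ ω ∈ (m • ⊤ : Submodule A (KaehlerDifferential ℤ A)), d.liftKaehlerDifferential ω = 0 := by
    intro ω hω
    induction hω using Submodule.smul_induction_on' with
    | smul r hr ω' _ =>
      rw [map_smul, Algebra.smul_def]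
      have h1 : ∀ ω : KaehlerDifferential ℤ A, π (d.liftKaehlerDifferential ω) = 0 := fun ω => by
        have hω : ω ∈ Submodule.span A (Set.range (KaehlerDifferential.D ℤ A)) :=
          (KaehlerDifferential.span_range_derivation ℤ A).symm ▸ trivial
        induction hω using Submodule.span_induction with
        | mem y hy =>
          obtain ⟨a, rfl⟩ := hy
          rw [Derivation.liftKaehlerDifferential_comp_D]
          exact hg a
        | zero => simp
        | add a b _ _ ha hb => rw [map_add, map_add, ha, hb, add_zero]
        | smul c a _ ha => rw [map_smul, Algebra.smul_def, map_mul, ha, mul_zero]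
      refine hprod _ _ ?_ (h1 ω')
      exact (residue_eq_zero_iff r).mpr hr
    | add a _ b _ ha hb => rw [map_add, ha, hb, add_zero]
  have hrange : Submodule.span A (Set.range fun i => (⟨x i, hxm i⟩ : m)) = ⊤ := by
    refine Submodule.map_injective_of_injective (Submodule.injective_subtype m) ?_
    rw [Submodule.map_span, ← Set.range_comp, Submodule.map_top, Submodule.range_subtype]
    exact hx
  have hli : LinearIndependent k (fun i => m.toCotangent ⟨x i, hxm i⟩) := by
    refine linearIndependent_of_top_le_span_of_card_eq_finrank ?_ ?_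
    · rw [Set.range_comp' m.toCotangent (fun i => (⟨x i, hxm i⟩ : m))]
      exact (CotangentSpace.span_image_eq_top_iff.mpr hrange).ge
    · rw [Fintype.card_fin]
      have h := (IsRegularLocalRing.iff_finrank_cotangentSpace A).mp inferInstance
      rw [hN, Nat.cast_inj] at h
      exact h.symm
  have hv : LinearIndependent k (fun i => (1 : k) ⊗ₜ[A] KaehlerDifferential.D ℤ A (x i)) := by
    refine Fintype.linearIndependent_iff.mpr fun c hc => ?_
    choose a ha using fun i => residue_surjective (R := A) (c i)
    have h1 : ∑ i, a i • KaehlerDifferential.D ℤ A (x i) ∈ (m • ⊤ : Submodule A (KaehlerDifferential ℤ A)) := by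
      rw [← LinearMap.ker_tensorProductMk, LinearMap.mem_ker]
      show TensorProduct.mk A k (KaehlerDifferential ℤ A) 1 _ = 0
      rw [map_sum]
      refine Eq.trans ?_ hc
      refine Finset.sum_congr rfl fun i _ => ?_
      rw [map_smul, TensorProduct.mk_apply, ← ha i]
      exact (algebraMap_smul k (a i) _).symm
    have h2 := hkill _ h1
    simp only [map_sum, map_smul, Derivation.liftKaehlerDifferential_comp_D] at h2
    have h3 : ∑ i, a i * x i ∈ m ^ 2 := by
      rw [← Ideal.Quotient.eq_zero_iff_mem, map_sum, ← h2]
      refine Finset.sum_congr rfl fun i _ => ?_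
      rw [hdx _ (hxm i), map_mul, Algebra.smul_def]
      rfl
    have h4 : ∑ i, c i • m.toCotangent ⟨x i, hxm i⟩ = 0 := by
      rw [show ∑ i, c i • m.toCotangent ⟨x i, hxm i⟩ =
        m.toCotangent (∑ i, a i • (⟨x i, hxm i⟩ : m)) by
          rw [map_sum]
          refine Finset.sum_congr rfl fun i _ => ?_
          rw [← ha i, map_smul]
          exact algebraMap_smul k (a i) _]
      rw [Ideal.toCotangent_eq_zero]
      simpa using h3
    exact Fintype.linearIndependent_iff.mp hli c h4
  let V := k ⊗[A] KaehlerDifferential ℤ A
  let bV := Module.Basis.extend hv.linearIndepOn_id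
  have hvinj : Function.Injective (fun i => (1 : k) ⊗ₜ[A] KaehlerDifferential.D ℤ A (x i)) := hv.injective
  let e : Fin N ↪ hv.linearIndepOn_id.extend (Set.subset_univ _) :=
    ⟨fun i => ⟨(1 : k) ⊗ₜ[A] KaehlerDifferential.D ℤ A (x i), Module.Basis.subset_extend hv.linearIndepOn_id ⟨i, rfl⟩⟩,
      fun i j h => hvinj (congrArg Subtype.val h)⟩
  choose w hw using fun z : hv.linearIndepOn_id.extend (Set.subset_univ _) =>
    TensorProduct.mk_surjective A (KaehlerDifferential ℤ A) k residue_surjective (z : V)
  let f : hv.linearIndepOn_id.extend (Set.subset_univ _) → KaehlerDifferential ℤ A := fun z =>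
    if h : ∃ i, e i = z then KaehlerDifferential.D ℤ A (x h.choose) else w z
  have hf : ∀ z, (1 : k) ⊗ₜ[A] f z = bV z := fun z => by
    rw [Module.Basis.extend_apply_self]
    simp only [f]
    split
    · next h => exact congrArg Subtype.val h.choose_spec
    · exact hw z
  have hfli : LinearIndependent A f := Module.IsLocalRing.linearIndependent_of_flat f (by
    rw [show TensorProduct.mk A k (KaehlerDifferential ℤ A) 1 ∘ f = bV from funext hf]
    exact bV.linearIndependent)
  refine ⟨_, Module.Basis.mk hfli (IsLocalRing.span_eq_top_of_tmul_eq_basis f bV hf).ge, e, fun i => ?_⟩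
  rw [Module.Basis.mk_apply]
  have h : ∃ j, e j = e i := ⟨i, rfl⟩
  simp only [f, dif_pos h]
  rw [e.injective h.choose_spec]

end Groth.Agent.S19270
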