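import Groth.Statements.S19276
import Mathlib
import Groth.Agent.Lib.LCycGrp

set_option autoImplicit false
universe u v
open GrpAlg W4c6equivkfinstab

namespace Groth.Agent.S19276

/-- Let `A` be a finite commutative group and `Λ` a commutative ring in which the order of `A` is
invertible. Then the ring homomorphism from the group ring `Λ[A]` to the product, over the subgroups
`B` of `A` with cyclic quotient, of the cyclotomic quotients `Λ[A ⧸ B]/(Φ_{|A/B|})`, each component
induced by `A → A/B`, is bijective. (In terms of group schemes: `Λ[A]` is the representation ring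
with coefficients in `Λ` of the finite diagonalizable group with character group `A`, the factors
are indexed by its dual cyclic subgroups, i.e. those isomorphic to some `μ_n`, and the components
are restriction followed by the cyclotomic quotient. The published statement takes `Λ = ℤ[1/|A|]`;
here `Λ` is any commutative ring in which `|A|` is invertible.) -/
theorem result (Λ : Type u) [CommRing Λ] (A : Type v)
    [AddCommGroup A] [Finite A] (hA : IsUnit ((Nat.card A : ℕ) : Λ)) :
    Function.Bijective (RingHom.pi fun B : {B : AddSubgroup A // IsAddCyclic (A ⧸ B)} =>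
      W4c6equivkfinstab.cycQuotMap Λ A B.1) := by
  have hbot : Function.Injective (quotMap Λ A ⊥) := AddMonoidAlgebra.mapDomain_injective (fun a b h => by
    simpa using (QuotientAddGroup.eq_iff_sub_mem).1 h |> fun h => sub_eq_zero.1 h)
  haveI : (⊥ : AddSubgroup A).FiniteIndex := AddSubgroup.finiteIndex_of_finite_quotient
  have hu : IsUnit (((⊥ : AddSubgroup A).index : ℕ) : Λ) := by rwa [AddSubgroup.index_bot]
  constructor
  · rw [injective_iff_map_eq_zero]
    intro x hx
    have h := LCycGrp.mem_K_of_forall ⊥ hu x fun B _ hB => congrFun hx ⟨B, hB⟩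
    exact hbot (((RingHom.mem_ker).1 h).trans (map_zero _).symm)
  · intro y
    choose x hx using fun B : {B : AddSubgroup A // IsAddCyclic (A ⧸ B)} => LCycGrp.cycQuotMap_surjective (Λ := Λ) B.1 (y B)
    haveI := LCycGrp.finite_over (⊥ : AddSubgroup A)
    obtain ⟨r, hr⟩ := Ideal.exists_forall_sub_mem_ideal (LCycGrp.pairwise_coprime (Λ := Λ) ⊥ hu) fun B => x ⟨B.1, B.2.2⟩
    refine ⟨r, funext fun B => ?_⟩
    have := (RingHom.mem_ker).1 (hr ⟨B.1, bot_le, B.2⟩)
    rw [map_sub, sub_eq_zero] at this
    exact this.trans (hx B)

end Groth.Agent.S19276
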