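import Groth.Statements.S19277
import Mathlib
import Groth.Agent.Lib.LCycGrp

set_option autoImplicit false
universe u v
open GrpAlg W4c6equivkfinstab

namespace Groth.Agent.S19277

/-- Let `M` be a commutative group, `B ≠ B'` subgroups of finite index with `M ⧸ B` and `M ⧸ B'` cyclic,
and `Λ` a commutative ring in which both indices are invertible. Then the localization of the
`Λ[M]`-module `Λ[M ⧸ B]/(Φ_{|M/B|})` at the multiplicative subset of `Λ[M]` of elements with image
`1` in `Λ[M ⧸ B']/(Φ_{|M/B'|})` is zero. (In terms of group schemes: for two distinct dual cyclic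
subgroups σ, σ' of the diagonalizable group with character group `M`, the ring R̃(σ) with
coefficients in `Λ` vanishes after localization at σ'. The published statement has a split torus,
i.e. `M` free of finite rank, and `Λ = ℤ[1/N]` for `N` the order of the subgroup generated by σ and
σ'; here `M` is any commutative group and `Λ` any commutative ring in which the orders of σ and σ'
are invertible.) -/
theorem result (Λ : Type u) [CommRing Λ] (M : Type v)
    [AddCommGroup M] (B B' : AddSubgroup M) [B.FiniteIndex] [B'.FiniteIndex]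
    [IsAddCyclic (M ⧸ B)] [IsAddCyclic (M ⧸ B')] (hne : B ≠ B')
    (hu : IsUnit ((B.index * B'.index : ℕ) : Λ)) :
    Subsingleton (LocalizedModule (W4c6equivkfinstab.locSubmonoid Λ M B')
      (W4c6equivkfinstab.CycQuot Λ (M ⧸ B))) := by
  have h1 : IsUnit ((B.index : ℕ) : Λ) := LCycGrp.unit_of_dvd (dvd_mul_right _ _) hu
  have h2 : IsUnit ((B'.index : ℕ) : Λ) := LCycGrp.unit_of_dvd (dvd_mul_left _ _) hu
  rw [LocalizedModule.subsingleton_iff]
  intro z
  obtain ⟨a, ha, c, hc, hac⟩ := Submodule.mem_sup.1 ((Ideal.eq_top_iff_one _).1 (LCycGrp.J_sup_J B B' h1 h2 hne))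
  have hs : cycQuotMap Λ M B' a = 1 := by
    have := congrArg (cycQuotMap Λ M B') hac
    rwa [map_add, (RingHom.mem_ker).1 hc, add_zero, map_one] at this
  refine ⟨a, hs, ?_⟩
  obtain ⟨w, rfl⟩ := Ideal.Quotient.mk_surjective z
  show Ideal.Quotient.mk (cycIdeal Λ (M ⧸ B)) (quotMap Λ M B a * w) = 0
  exact Ideal.Quotient.eq_zero_iff_mem.2 (Ideal.mul_mem_right _ _ (Ideal.Quotient.eq_zero_iff_mem.1 ((RingHom.mem_ker).1 ha)))

end Groth.Agent.S19277
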