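import Groth.Statements.S19279
import Mathlib
import Groth.Agent.Lib.LCycGrp

set_option autoImplicit false
universe u v
open GrpAlg W4c6equivkfinstab

namespace Groth.Agent.S19279

/-- Let `M` be a commutative group, `B₀` a subgroup of finite index and `Λ` a commutative ring in which
the index of `B₀` is invertible. Then the `Λ[M]`-linear map from `Λ[M ⧸ B₀]` to the product, over
the subgroups `B ⊇ B₀` with `M ⧸ B` cyclic, of the localizations of `Λ[M ⧸ B₀]` at the
multiplicative subsets of `Λ[M]` of elements with image `1` in `Λ[M ⧸ B]/(Φ_{|M/B|})`, with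
components the localization maps, is bijective. (In terms of group schemes: for a finite closed
subgroup T' = D(M/B₀) of the diagonalizable group with character group `M`, the representation ring
of T' with coefficients in `Λ` is the product of its localizations at the dual cyclic subgroups of
T'. The published statement has a split torus and `Λ = ℤ[1/|T'|]`; here `M` is any commutative group
and `Λ` any commutative ring in which the order of T' is invertible.) -/
theorem result (Λ : Type u) [CommRing Λ]
    (M : Type v) [AddCommGroup M] (B₀ : AddSubgroup M) [B₀.FiniteIndex]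
    (hu : IsUnit ((B₀.index : ℕ) : Λ)) :
    Function.Bijective (LinearMap.pi (R := AddMonoidAlgebra Λ M)
      fun B : {B : AddSubgroup M // B₀ ≤ B ∧ IsAddCyclic (M ⧸ B)} =>
        LocalizedModule.mkLinearMap (W4c6equivkfinstab.locSubmonoid Λ M B.1)
          (AddMonoidAlgebra Λ (M ⧸ B₀))) := by
  classical
  haveI := LCycGrp.finite_over B₀
  let ι := {B : AddSubgroup M // B₀ ≤ B ∧ IsAddCyclic (M ⧸ B)}
  have hco := LCycGrp.pairwise_coprime (Λ := Λ) B₀ hu
  choose e he using fun B : ι => Ideal.exists_forall_sub_mem_ideal hco (fun B' : ι => if B' = B then (1 : AddMonoidAlgebra Λ M) else 0)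
  have hsmul : ∀ (a z : AddMonoidAlgebra Λ M), a • quotMap Λ M B₀ z = quotMap Λ M B₀ (a * z) := fun a z => by
    rw [Algebra.smul_def, map_mul]; rfl
  have hzero : ∀ (B : ι) (z : AddMonoidAlgebra Λ M), z ∈ LCycGrp.J Λ B.1 → quotMap Λ M B₀ (e B * z) = 0 := by
    intro B z hz
    refine (RingHom.mem_ker).1 (LCycGrp.mem_K_of_forall B₀ hu _ fun B' hB' hcyc => ?_)
    by_cases h : (⟨B', hB', hcyc⟩ : ι) = B
    · subst h; exact Ideal.mul_mem_left _ _ hz
    · have := he B ⟨B', hB', hcyc⟩
      rw [if_neg h, sub_zero] at this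
      exact Ideal.mul_mem_right _ _ this
  have heS : ∀ B : ι, e B ∈ locSubmonoid Λ M B.1 := fun B => by
    have h := (RingHom.mem_ker).1 (he B B)
    rw [if_pos rfl, map_sub, map_one, sub_eq_zero] at h
    exact h
  constructor
  · rw [injective_iff_map_eq_zero]
    intro y hy
    obtain ⟨x, rfl⟩ := LCycGrp.quotMap_surjective B₀ y
    refine (RingHom.mem_ker).1 (LCycGrp.mem_K_of_forall B₀ hu _ fun B hB hcyc => ?_)
    have := congrFun hy ⟨B, hB, hcyc⟩
    rw [LinearMap.pi_apply, LocalizedModule.mkLinearMap_apply, Pi.zero_apply, ← LocalizedModule.zero_mk 1, LocalizedModule.mk_eq] at this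
    obtain ⟨s, hs⟩ := this
    simp only [one_smul, smul_zero, Submonoid.smul_def] at hs
    rw [hsmul] at hs
    have hJ : quotMap Λ M B ((s : AddMonoidAlgebra Λ M) * x) = 0 := by
      have hK : ∀ z ∈ LCycGrp.K Λ B₀, quotMap Λ M B z = 0 := by
        intro z hz
        have e1 : quotMap Λ M B z = (AddMonoidAlgebra.mapDomainRingHom Λ (QuotientAddGroup.map B₀ B (AddMonoidHom.id M) hB)) (quotMap Λ M B₀ z) := by
          clear hz
          induction z using AddMonoidAlgebra.induction_linear with
          | zero => simp only [map_zero]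
          | add a b ha hb => simp only [map_add, ha, hb]
          | single a r =>
            rw [LCycGrp.quotMap_single, LCycGrp.quotMap_single]
            exact (AddMonoidAlgebra.mapDomain_single (f := QuotientAddGroup.map B₀ B (AddMonoidHom.id M) hB) (a := LCycGrp.mkB B₀ a) (r := r)).symm
        rw [e1, (RingHom.mem_ker).1 hz, map_zero]
      exact hK _ ((RingHom.mem_ker).2 hs)
    rw [RingHom.mem_ker]
    have hs1 : cycQuotMap Λ M B (s : AddMonoidAlgebra Λ M) = 1 := s.2
    have : cycQuotMap Λ M B ((s : AddMonoidAlgebra Λ M) * x) = 0 :=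
      (congrArg (Ideal.Quotient.mk _) hJ).trans (map_zero _)
    rwa [map_mul, hs1, one_mul] at this
  · intro f
    have hlift : ∀ B : ι, ∃ m : AddMonoidAlgebra Λ M, f B = LocalizedModule.mkLinearMap (locSubmonoid Λ M B.1) _ (quotMap Λ M B₀ m) := by
      intro B
      induction hz : f B using LocalizedModule.induction_on with
      | _ y s =>
        obtain ⟨m, rfl⟩ := LCycGrp.quotMap_surjective B₀ y
        refine ⟨m, ?_⟩
        rw [LocalizedModule.mkLinearMap_apply, LocalizedModule.mk_eq]
        refine ⟨⟨e B, heS B⟩, ?_⟩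
        simp only [one_smul, Submonoid.smul_def]
        rw [hsmul, hsmul, hsmul]
        have : (s : AddMonoidAlgebra Λ M) * m - m ∈ LCycGrp.J Λ B.1 := by
          have hs1 : cycQuotMap Λ M B.1 (s : AddMonoidAlgebra Λ M) = 1 := s.2
          rw [RingHom.mem_ker, map_sub, map_mul, hs1, one_mul, sub_self]
        have h0 := hzero B _ this
        rw [mul_sub, map_sub, sub_eq_zero] at h0
        exact h0.symm
    choose m hm using hlift
    obtain ⟨r, hr⟩ := Ideal.exists_forall_sub_mem_ideal hco m
    refine ⟨quotMap Λ M B₀ r, funext fun B => ?_⟩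
    rw [LinearMap.pi_apply, hm B, LocalizedModule.mkLinearMap_apply, LocalizedModule.mkLinearMap_apply, LocalizedModule.mk_eq]
    refine ⟨⟨e B, heS B⟩, ?_⟩
    simp only [one_smul, Submonoid.smul_def]
    rw [hsmul, hsmul]
    have h0 := hzero B _ (hr B)
    rwa [mul_sub, map_sub, sub_eq_zero] at h0

end Groth.Agent.S19279
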