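import Groth.Statements.S19310
import Mathlib
import Groth.Agent.Lib.H8DomainTensor

set_option autoImplicit false
set_option backward.isDefEq.respectTransparency.types false
set_option maxHeartbeats 1000000
set_option linter.all false
universe u
open TensorProduct
open CAlg

namespace Groth.Agent.S19310
open Groth.Agent

/-- Let k be an algebraically closed field, A a finitely generated k-algebra which is an integral domain
(X = Spec A an affine variety), R a commutative k-algebra, possibly non-reduced, and U an open
subset of X_R = Spec (R ⊗_k A) meeting every fibre of X_R → Spec R (a very dense open subset). Then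
a regular function on X_R whose restriction to U vanishes is zero: if f ∈ R ⊗_k A maps to 0 in the
localisation (R ⊗_k A)[1/g] for every g with D(g) ⊆ U, then f = 0. (The published statement is that
automorphisms of a torsor under a smooth affine group scheme over X_R which are the identity over a
very dense open subset are the identity, for X a smooth projective curve; its proof reduces this to
the present assertion about functions, for quasi-projective X; this row is the affine case.) -/
theorem result
    (k : Type u) [Field k] [IsAlgClosed k]
    (A : Type u) [CommRing A] [Algebra k A] [IsDomain A] [Algebra.FiniteType k A]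
    (R : Type u) [CommRing R] [Algebra k R]
    (U : TopologicalSpace.Opens (PrimeSpectrum (TensorProduct k R A)))
    (hsurj : ∀ q : PrimeSpectrum R, ∃ P ∈ U,
      PrimeSpectrum.comap (Algebra.TensorProduct.includeLeftRingHom : R →+* TensorProduct k R A) P = q)
    (f : TensorProduct k R A)
    (hf : ∀ g : TensorProduct k R A, (PrimeSpectrum.basicOpen g : Set (PrimeSpectrum (TensorProduct k R A))) ⊆ U →
      algebraMap (TensorProduct k R A) (Localization.Away g) f = 0) :
    f = 0 := by
    classical
    by_contra hne
    let b := Module.Basis.ofVectorSpace k A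
    let bR := Algebra.TensorProduct.basis R b
    let s := (bR.repr f).support
    let I : Ideal R := Ideal.span (Set.range (fun i => bR.repr f i))
    have hIspan : I = Ideal.span ((fun i => bR.repr f i) '' (s : Set _)) := by
      apply le_antisymm
      · refine Ideal.span_le.2 ?_
        rintro _ ⟨i, rfl⟩
        by_cases hi : i ∈ s
        · exact Ideal.subset_span ⟨i, hi, rfl⟩
        · have h0 : bR.repr f i = 0 := by simpa [s] using hi
          simp only [h0]; exact Submodule.zero_mem _
      · exact Ideal.span_mono (Set.image_subset_range _ _)
    have hIfg : I.FG := by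
      rw [hIspan]
      exact Submodule.fg_span ((s.finite_toSet).image _)
    have hI0 : I ≠ ⊥ := by
      intro h0
      apply hne
      apply bR.repr.injective
      rw [map_zero]
      ext i
      have hmem : bR.repr f i ∈ I := Ideal.subset_span ⟨i, rfl⟩
      rw [h0] at hmem
      simpa using hmem
    obtain ⟨q, hq, hqann⟩ := Ideal.exists_le_maximal (Submodule.annihilator I) (by
      intro h
      apply hI0
      exact Submodule.annihilator_eq_top_iff.1 h)
    have hsm : ¬ I ≤ q • I := by
      intro h
      obtain ⟨r, hr1, hr2⟩ := Submodule.exists_sub_one_mem_and_smul_eq_zero_of_fg_of_le_smul q I hIfg h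
      have : r ∈ q := hqann (Submodule.mem_annihilator.2 hr2)
      exact hq.ne_top ((Ideal.eq_top_iff_one _).2 (by simpa using Ideal.sub_mem q this hr1))
    let Kq := R ⧸ q
    letI : Field Kq := Ideal.Quotient.field q
    let V := I ⧸ q • (⊤ : Submodule R I)
    have hV : ∃ v : V, v ≠ 0 := by
      by_contra hv
      push Not at hv
      apply hsm
      intro x hx
      have := hv (Submodule.Quotient.mk ⟨x, hx⟩)
      rw [Submodule.Quotient.mk_eq_zero] at this
      exact Submodule.smul_induction_on (p := fun z : I => (z : R) ∈ q • I) this
        (fun r hr y _ => Submodule.smul_mem_smul hr y.2)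
        (fun a c ha hc => Submodule.add_mem _ ha hc)
    obtain ⟨v, hv⟩ := hV
    obtain ⟨w, hw⟩ := Module.Projective.exists_dual_ne_zero Kq hv
    let φ : I →ₗ[R] Kq := (w.restrictScalars R).comp (Submodule.mkQ _)
    have hφ : φ ≠ 0 := by
      intro h
      obtain ⟨z, rfl⟩ := Submodule.Quotient.mk_surjective _ v
      exact hw (LinearMap.congr_fun h z)
    obtain ⟨P, hPU, hPq⟩ := hsurj ⟨q, hq.isPrime⟩
    obtain ⟨_, ⟨g, rfl⟩, hgP, hgU⟩ :=
      PrimeSpectrum.isTopologicalBasis_basic_opens.exists_subset_of_mem_open hPU U.2
    obtain ⟨⟨_, N, rfl⟩, hN⟩ := (IsLocalization.map_eq_zero_iff (Submonoid.powers g)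
      (Localization.Away g) f).1 (hf g hgU)
    let ψ : TensorProduct k R A →ₐ[k] TensorProduct k Kq A :=
      Algebra.TensorProduct.map (Ideal.Quotient.mkₐ k q) (AlgHom.id k A)
    have hψg : ψ g ≠ 0 := by
      intro h
      have hmem : g ∈ RingHom.ker ψ := h
      rw [Algebra.TensorProduct.rTensor_ker (Ideal.Quotient.mkₐ k q) Ideal.Quotient.mk_surjective] at hmem
      apply hgP
      refine (Ideal.map_le_iff_le_comap.2 ?_) hmem
      intro x hx
      have hx' : x ∈ q := Ideal.Quotient.eq_zero_iff_mem.1 hx
      have hPq' := congrArg PrimeSpectrum.asIdeal hPq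
      simp only [PrimeSpectrum.comap_asIdeal] at hPq'
      have hx'' : x ∈ Ideal.comap (Algebra.TensorProduct.includeLeftRingHom : R →+* TensorProduct k R A) P.asIdeal :=
        hPq' ▸ hx'
      exact hx''
    haveI : IsDomain (TensorProduct k Kq A) := Groth.Agent.H8DomainTensor.isDomain
    let bK := Algebra.TensorProduct.basis Kq b
    have hcompat : ∀ x i, bK.repr (ψ x) i = Ideal.Quotient.mk q (bR.repr x i) := by
      intro x i
      induction x using TensorProduct.induction_on with
      | zero => simp
      | tmul r a =>
        simp [ψ, bK, bR, Algebra.TensorProduct.basis_repr_tmul, Algebra.smul_def]; rfl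
      | add x y hx hy => simp [hx, hy]
    have hψb : ∀ i, ψ (bR i) = bK i := by
      intro i
      simp [ψ, bR, bK, Algebra.TensorProduct.basis_apply]
    let F : ∀ i, I := fun i => ⟨bR.repr f i, Ideal.subset_span ⟨i, rfl⟩⟩
    let fb : TensorProduct k Kq A := ∑ i ∈ s, φ (F i) • bK i
    have hzero : ψ (g ^ N) * fb = 0 := by
      apply bK.repr.injective
      rw [map_zero]
      ext l
      have hf_eq : f = ∑ i ∈ s, bR.repr f i • bR i := by
        conv_lhs => rw [← bR.linearCombination_repr f]
        rw [Finsupp.linearCombination_apply]
        rfl
      have h1 : bR.repr (g ^ N * f) l = 0 := by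
        simp only at hN
        rw [hN]; simp
      rw [hf_eq, Finset.mul_sum] at h1
      simp only [mul_smul_comm, map_sum, map_smul, Finsupp.coe_finset_sum, Finset.sum_apply,
        Finsupp.smul_apply, smul_eq_mul] at h1
      have h2 : (∑ i ∈ s, bR.repr (g ^ N * bR i) l • F i : I) = 0 := by
        apply Subtype.ext
        simpa [F, mul_comm] using h1
      have h3 := congrArg φ h2
      simp only [fb, Finset.mul_sum, mul_smul_comm, map_sum, map_smul, Finsupp.coe_finset_sum,
        Finset.sum_apply, Finsupp.smul_apply, smul_eq_mul, map_zero] at h3 ⊢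
      refine Eq.trans (Finset.sum_congr rfl fun i _ => ?_) h3
      rw [← hψb, ← map_mul, hcompat, Algebra.smul_def]
      exact mul_comm _ _
    have hfb : fb = 0 := (mul_eq_zero.1 hzero).resolve_left (by
      rw [map_pow]; exact pow_ne_zero _ hψg)
    have hFz : ∀ i, φ (F i) = 0 := by
      intro i
      by_cases hi : i ∈ s
      · have := congrArg (fun z => bK.repr z i) hfb
        simpa [fb, Finsupp.single_apply, hi] using this
      · have h0 : F i = 0 := Subtype.ext (by simpa [s, F] using hi)
        rw [h0, map_zero]
    apply hφ
    ext ⟨x, hx⟩
    show φ ⟨x, hx⟩ = 0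
    induction hx using Submodule.span_induction with
    | mem y hy => obtain ⟨i, rfl⟩ := hy; exact hFz i
    | zero => exact map_zero φ
    | add a c ha hc h1 h2 =>
      have := map_add φ ⟨a, ha⟩ ⟨c, hc⟩
      rw [h1, h2, add_zero] at this
      exact this
    | smul r a ha h1 =>
      have := map_smul φ r ⟨a, ha⟩
      rw [h1, smul_zero] at this
      exact this

end Groth.Agent.S19310
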