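import Groth.Statements.S19333
import Mathlib

set_option autoImplicit false
universe u
open ModPair

namespace Groth.Agent.S19333

private lemma not_forall_mem {A B : Type u} [CommRing A] [CommRing B] [Algebra A B] (x : B)
    {K : Type u} [Field K] (φ : B →+* K)
    (hp : ∀ p : Polynomial A, p.Monic → φ (Polynomial.aeval x p) ≠ 0)
    (h : ∀ V : ValuationSubring K, (∀ a, φ (algebraMap A B a) ∈ V) → φ x ∈ V) : False := by
  have hni : φ x ∉ integralClosure (Subring.closure (Set.range (φ.comp (algebraMap A B)))) K := by
    rintro ⟨q, hq, hq0⟩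
    have hlift : q.map (Subring.closure (Set.range (φ.comp (algebraMap A B)))).subtype ∈
        Polynomial.lifts (φ.comp (algebraMap A B)) := by
      refine (Polynomial.lifts_iff_coeff_lifts _).mpr fun l => ?_
      rw [Polynomial.coeff_map]
      have h1 : Subring.closure (Set.range (φ.comp (algebraMap A B))) = (φ.comp (algebraMap A B)).range := by
        rw [← RingHom.coe_range, Subring.closure_eq]
      exact RingHom.mem_range.mp (h1 ▸ (q.coeff l).2)
    obtain ⟨p, hpp, -, hpm⟩ := Polynomial.lifts_and_natDegree_eq_and_monic hlift (hq.map _)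
    refine hp p hpm ?_
    rw [Polynomial.aeval_def, Polynomial.hom_eval₂, ← Polynomial.eval_map, hpp, Polynomial.eval_map]
    exact hq0
  apply hni
  rw [← Subalgebra.mem_toSubring, ← iInf_valuationSubring_superset, Subring.mem_iInf]
  rintro ⟨V, hV⟩
  exact h V fun a => hV ⟨a, rfl⟩



/-- Let A → B be any homomorphism of commutative rings. An element x of B is integral over A if and only
if for every field K, every valuation subring R of K and every ring homomorphism φ : B → K which
sends the image of A into R, the element φ(x) lies in R. In other words the integral closure of A in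
B is the intersection of the subrings R ×_K B taken over all commutative squares A → R ⊆ K ← B with
R a valuation ring of the field K. -/
theorem result {A B : Type u} [CommRing A]
    [CommRing B] [Algebra A B] (x : B) :
    x ∈ integralClosure A B ↔
      ∀ (K : Type u) [Field K] (R : ValuationSubring K) (φ : B →+* K),
        (∀ a : A, φ (algebraMap A B a) ∈ R) → φ x ∈ R := by
  constructor
  · intro hx K _ R φ hφ
    obtain ⟨p, hm, hp⟩ := hx
    have h1 : IsIntegral R (φ x) := by
      refine ⟨p.map ((φ.comp (algebraMap A B)).codRestrict R.toSubring hφ), hm.map _, ?_⟩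
      rw [Polynomial.eval₂_map]
      have : (algebraMap R K).comp ((φ.comp (algebraMap A B)).codRestrict R.toSubring hφ) =
          φ.comp (algebraMap A B) := RingHom.ext fun a => rfl
      erw [this]
      rw [← Polynomial.hom_eval₂, hp, map_zero]
    obtain ⟨y, hy⟩ := IsIntegrallyClosed.isIntegral_iff.mp h1
    exact hy ▸ y.2
  · intro h
    by_contra hx
    let M : Submonoid B :=
      { carrier := {b | ∃ p : Polynomial A, p.Monic ∧ Polynomial.aeval x p = b}
        one_mem' := ⟨1, Polynomial.monic_one, map_one _⟩
        mul_mem' := by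
          rintro a b ⟨p, hp, rfl⟩ ⟨q, hq, rfl⟩
          exact ⟨p * q, hp.mul hq, map_mul _ _ _⟩ }
    obtain ⟨P, hPp, -, hPd⟩ := Ideal.exists_le_prime_disjoint (⊥ : Ideal B) M (Set.disjoint_left.mpr (by
      rintro b hb ⟨p, hp, hpb⟩
      exact hx ⟨p, hp, hpb.trans hb⟩))
    let φ : B →+* FractionRing (B ⧸ P) := (algebraMap (B ⧸ P) _).comp (Ideal.Quotient.mk P)
    refine not_forall_mem x φ (fun p hp hz => ?_) (fun V hV => h _ V φ hV)
    exact Set.disjoint_right.mp hPd (show Polynomial.aeval x p ∈ (M : Set B) from ⟨p, hp, rfl⟩)
      (Ideal.Quotient.eq_zero_iff_mem.mp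
        (IsFractionRing.injective (B ⧸ P) (FractionRing (B ⧸ P)) (hz.trans (map_zero _).symm)))

end Groth.Agent.S19333
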