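import Groth.Statements.S19334
import Groth.Agent.Lib.H7CartierVal

set_option autoImplicit false
universe u
open CategoryTheory CategoryTheory.Limits AlgebraicGeometry TopologicalSpace
open ModPair

namespace Groth.Agent.S19334

/-- Let (X, I) be a modulus pair, i.e. a scheme X with the quasi-coherent ideal sheaf I of an effective
Cartier divisor. Suppose that for every valuation ring R and every morphism p : Spec R ⟶ X along
which the divisor of I pulls back to an effective Cartier divisor on Spec R (so that p is a minimal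
morphism of modulus pairs for the pulled-back modulus), the pulled-back divisor is empty, I.comap p
= ⊤. Then the divisor of I is empty: I = ⊤. -/
theorem result {X : Scheme.{u}}
    (I : X.IdealSheafData) (hI : BlowUp.IsEffCartierIdeal I)
    (h : ∀ (R : Type u) [CommRing R] [IsDomain R] [ValuationRing R]
      (p : Spec (CommRingCat.of R) ⟶ X), BlowUp.IsEffCartierIdeal (I.comap p) → I.comap p = ⊤) :
    I = ⊤ := by
  rw [← Scheme.IdealSheafData.support_eq_bot_iff, eq_bot_iff]
  intro x hx
  exfalso
  obtain ⟨U, hxU, a, ha, hIa⟩ := hI x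
  let q := U.2.primeIdealOf ⟨x, hxU⟩
  obtain ⟨R, _, _, _, φ, hφa, hp, -⟩ := Groth.Agent.H7CartierVal.exists_valuation q.asIdeal a ha
  let φ' : Γ(X, U.1) ⟶ CommRingCat.of R := CommRingCat.ofHom φ
  have htop := h R (Groth.Agent.H7CartierVal.pt U φ')
    (Groth.Agent.H7CartierVal.effCartier_pt I U φ' hIa (mem_nonZeroDivisors_of_ne_zero hφa))
  have haq : a ∈ q.asIdeal := by
    by_contra hc
    rw [Scheme.IdealSheafData.mem_support_iff_of_mem (U := U) hxU, hIa, Scheme.zeroLocus_span,
      Scheme.mem_zeroLocus_iff] at hx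
    refine hx a rfl ?_
    have h2 : q ∈ PrimeSpectrum.basicOpen a := hc
    rw [← U.2.fromSpec_preimage_basicOpen] at h2
    have h3 : U.2.fromSpec q ∈ X.basicOpen a := h2
    rwa [U.2.fromSpec_primeIdealOf ⟨x, hxU⟩] at h3
  obtain ⟨m, hm⟩ := Ideal.exists_maximal R
  have hu : ¬ IsUnit (φ a) := hp a haq
  obtain ⟨P, hP, hPa⟩ := exists_max_ideal_of_mem_nonunits hu
  have hs : (⟨P, hP.isPrime⟩ : Spec (CommRingCat.of R)) ∈ (I.comap (Groth.Agent.H7CartierVal.pt U φ')).support := by
    refine (Groth.Agent.H7CartierVal.mem_support_pt I U φ' _).mpr ?_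
    rw [hIa]
    intro c hc
    obtain ⟨d, rfl⟩ := Ideal.mem_span_singleton'.mp hc
    show φ (d * a) ∈ P
    rw [map_mul]
    exact P.mul_mem_left _ hPa
  rw [htop, Scheme.IdealSheafData.support_top] at hs
  exact hs

end Groth.Agent.S19334
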