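import Groth.Statements.S19335
import Groth.Agent.Lib.H7CartierVal

set_option autoImplicit false
universe u
open CategoryTheory CategoryTheory.Limits AlgebraicGeometry TopologicalSpace
open ModPair

namespace Groth.Agent.S19335

/-- Let X be a scheme and I, J quasi-coherent ideal sheaves of effective Cartier divisors D_I ≤ D_J on
X, i.e. J ≤ I. Suppose that for every valuation ring R and every morphism p : Spec R ⟶ X such that
I.comap p is the ideal sheaf of an effective Cartier divisor on Spec R (so p is a minimal morphism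
of modulus pairs for (X, I)) whose open complement consists of the generic point of Spec R only, the
two divisors agree after pull-back, I.comap p = J.comap p. Then I = J. -/
theorem result {X : Scheme.{u}} (I J : X.IdealSheafData)
    (hI : BlowUp.IsEffCartierIdeal I) (hJ : BlowUp.IsEffCartierIdeal J) (hJI : J ≤ I)
    (h : ∀ (R : Type u) [CommRing R] [IsDomain R] [ValuationRing R]
      (p : Spec (CommRingCat.of R) ⟶ X), BlowUp.IsEffCartierIdeal (I.comap p) →
        (∀ x : Spec (CommRingCat.of R),
          x ∈ (ModPair.interior (I.comap p) : Set (Spec (CommRingCat.of R))) ↔ x.asIdeal = ⊥) →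
        I.comap p = J.comap p) :
    I = J := by
  have hx : ∀ x : X, ∃ V : X.affineOpens, x ∈ V.1 ∧ I.ideal V = J.ideal V := by
    intro x
    obtain ⟨U, hxU, a, ha, hIa⟩ := hI x
    obtain ⟨V, hxV, hVU, b, hb, hJb⟩ := Groth.Agent.H7Cartier.exists_principal_le hJ x U.1 hxU
    refine ⟨V, hxV, le_antisymm ?_ (Scheme.IdealSheafData.le_def.mp hJI V)⟩
    have hIV : I.ideal V = Ideal.span {X.presheaf.map (homOfLE hVU).op a} := by
      rw [← I.map_ideal (U := V) (V := U) hVU, hIa, Ideal.map_span, Set.image_singleton]
      rfl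
    obtain ⟨a', ha'⟩ : ∃ a', X.presheaf.map (homOfLE hVU).op a = a' := ⟨_, rfl⟩
    rw [ha'] at hIV
    have hle := Scheme.IdealSheafData.le_def.mp hJI V
    rw [hJb, hIV, Ideal.span_singleton_le_span_singleton] at hle
    obtain ⟨c, hc⟩ := hle
    have han : a' ∈ nonZeroDivisors Γ(X, V.1) := (mul_mem_nonZeroDivisors.mp (hc ▸ hb)).1
    suffices hu : IsUnit c by
      rw [hJb, hIV, hc, Ideal.span_singleton_mul_right_unit hu]
    by_contra hu
    obtain ⟨p, hp, hcp⟩ := exists_max_ideal_of_mem_nonunits hu
    obtain ⟨R, _, _, _, φ, hφa, hφp, hprimes⟩ := Groth.Agent.H7CartierVal.exists_valuation p a' han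
    let φ' : Γ(X, V.1) ⟶ CommRingCat.of R := CommRingCat.ofHom φ
    have heq := h R (Groth.Agent.H7CartierVal.pt V φ')
      (Groth.Agent.H7CartierVal.effCartier_pt I V φ' hIV (mem_nonZeroDivisors_of_ne_zero hφa)) (fun P => by
        show P ∉ (I.comap (Groth.Agent.H7CartierVal.pt V φ')).support ↔ _
        rw [Groth.Agent.H7CartierVal.mem_support_pt, hIV]
        constructor
        · intro hP
          by_contra hne
          refine hP fun z hz => ?_
          obtain ⟨d, rfl⟩ := Ideal.mem_span_singleton'.mp hz
          show φ (d * a') ∈ P.asIdeal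
          rw [map_mul]
          exact P.asIdeal.mul_mem_left _ (hprimes _ P.2 hne)
        · intro hP hall
          have h1 : φ a' ∈ P.asIdeal := hall a' (Ideal.mem_span_singleton_self a')
          rw [hP] at h1
          exact hφa h1)
    have h2 := congrArg (fun K => Scheme.IdealSheafData.ideal K ⟨⊤, isAffineOpen_top _⟩) heq
    simp only [Groth.Agent.H7CartierVal.ideal_comap_pt, hIV, hJb, Ideal.map_span, Set.image_singleton] at h2
    rw [Ideal.span_singleton_eq_span_singleton] at h2
    have h3 := h2.map (Scheme.ΓSpecIso (CommRingCat.of R)).hom.hom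
    simp only [Iso.inv_hom_id_apply] at h3
    obtain ⟨w, hw⟩ := (h3 : Associated (φ a') (φ b))
    rw [hc, map_mul, mul_right_inj' (show φ'.hom a' ≠ 0 from hφa)] at hw
    exact hφp c hcp (show IsUnit (φ'.hom c) by rw [← hw]; exact w.isUnit)
  choose V hV hVeq using hx
  refine Scheme.IdealSheafData.ext_of_iSup_eq_top V ?_ hVeq
  rw [eq_top_iff]
  exact fun x _ => TopologicalSpace.Opens.mem_iSup.mpr ⟨x, hV x⟩

end Groth.Agent.S19335
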