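import Groth.Statements.S19340
import Mathlib

set_option autoImplicit false
set_option backward.isDefEq.respectTransparency.types false
set_option maxHeartbeats 1000000
set_option linter.all false
universe v v' u u'
open CategoryTheory
open ModPair

namespace Groth.Agent.S19340
open Groth.Agent

/-- Let C be a category, S a class of morphisms of C containing the identities, closed under composition
and admitting a right calculus of fractions, and L : C ⥤ D a localization functor for S. Then for
every object X of C the comma category of L under X, whose objects are pairs (Y, L(X) ⟶ L(Y)) and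
whose morphisms are morphisms Y ⟶ Y' of C compatible with the structure maps, is cofiltered. The
published statement calls this category filtered; its proof verifies, and this row states,
cofilteredness. -/
theorem result {C : Type u}
    [Category.{v} C] {D : Type u'} [Category.{v'} D] (S : MorphismProperty C)
    [S.HasRightCalculusOfFractions] (L : C ⥤ D) [L.IsLocalization S] (X : C) :
    IsCofiltered (StructuredArrow (L.obj X) L) := by
  haveI : Nonempty (StructuredArrow (L.obj X) L) := ⟨StructuredArrow.mk (𝟙 (L.obj X))⟩
  haveI hinv : ∀ {A B : C} (s : A ⟶ B), S s → IsIso (L.map s) := fun s hs => Localization.inverts L S s hs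
  haveI : IsCofilteredOrEmpty (StructuredArrow (L.obj X) L) := by
    constructor
    · intro A B
      obtain ⟨α, hα⟩ := Localization.exists_rightFraction L S A.hom
      obtain ⟨β, hβ⟩ := Localization.exists_rightFraction L S B.hom
      obtain ⟨ψ, hψ⟩ := MorphismProperty.HasRightCalculusOfFractions.exists_rightFraction (MorphismProperty.LeftFraction.mk (W := S) α.s β.s β.hs)
      simp only at hψ
      haveI := hinv _ (S.comp_mem _ _ ψ.hs α.hs)
      refine ⟨StructuredArrow.mk (inv (L.map (ψ.s ≫ α.s))), StructuredArrow.homMk (ψ.s ≫ α.f) ?_, StructuredArrow.homMk (ψ.f ≫ β.f) ?_, trivial⟩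
      · show inv (L.map (ψ.s ≫ α.s)) ≫ L.map (ψ.s ≫ α.f) = A.hom
        rw [IsIso.inv_comp_eq, hα, L.map_comp, L.map_comp, Category.assoc, MorphismProperty.RightFraction.map_s_comp_map]
      · show inv (L.map (ψ.s ≫ α.s)) ≫ L.map (ψ.f ≫ β.f) = B.hom
        rw [IsIso.inv_comp_eq, hβ, hψ, L.map_comp, L.map_comp, Category.assoc, MorphismProperty.RightFraction.map_s_comp_map]
    · intro A B a b
      obtain ⟨α, hα⟩ := Localization.exists_rightFraction L S A.hom
      have h : L.map (α.f ≫ a.right) = L.map (α.f ≫ b.right) := by
        rw [L.map_comp, L.map_comp, ← MorphismProperty.RightFraction.map_s_comp_map α L (Localization.inverts L S), Category.assoc, Category.assoc, ← hα, StructuredArrow.w a, StructuredArrow.w b]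
      obtain ⟨X'', u, hu, he⟩ := (MorphismProperty.map_eq_iff_precomp L S _ _).1 h
      haveI := hinv _ (S.comp_mem _ _ hu α.hs)
      refine ⟨StructuredArrow.mk (inv (L.map (u ≫ α.s))), StructuredArrow.homMk (u ≫ α.f) ?_, ?_⟩
      · show inv (L.map (u ≫ α.s)) ≫ L.map (u ≫ α.f) = A.hom
        rw [IsIso.inv_comp_eq, hα, L.map_comp, L.map_comp, Category.assoc, MorphismProperty.RightFraction.map_s_comp_map]
      · ext
        simp only [StructuredArrow.comp_right, StructuredArrow.homMk_right, Category.assoc]
        exact he
  exact ⟨⟩

end Groth.Agent.S19340
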