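import Groth.Statements.S19356
import Mathlib

set_option autoImplicit false
set_option backward.isDefEq.respectTransparency.types false
set_option maxHeartbeats 1000000
set_option linter.all false
universe u
open AbVar

namespace Groth.Agent.S19356
open Groth.Agent

/-- Let R be a finite-dimensional ℚ-algebra with a ℚ-linear involution x ↦ x† (an anti-automorphism of
order two) and a ℚ-linear functional σ with σ(x x†) > 0 for every x ≠ 0; this is the positivity of
the involution, σ being the trace of R over ℚ in the case of the endomorphism algebra of an abelian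
variety with a Rosati involution, and the trace on a cohomology group in the case of an algebra of
correspondences with the adjoint for a Weil form. Let α ∈ R with α α† = q for a rational number q.
Then α† lies in the subalgebra ℚ[α], and for every ℚ-algebra homomorphism ρ : ℚ[α] → ℂ one has ρ(α†)
= the complex conjugate of ρ(α) and |ρ(α)|² = q. (The published statement is for the endomorphism
algebra of an abelian variety with a Rosati involution, with σ its trace over ℚ and q an integer;
the form given here, for an arbitrary ℚ-linear functional σ positive on every x x† with x ≠ 0 and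
rational q, is what its proof establishes.) -/
theorem result (R : Type u) [Ring R] [Algebra ℚ R]
    [Module.Finite ℚ R] [StarRing R] [StarModule ℚ R]
    (σ : R →ₗ[ℚ] ℚ) (hpos : ∀ x : R, x ≠ 0 → 0 < σ (x * star x))
    (α : R) (q : ℚ) (hα : α * star α = algebraMap ℚ R q) :
    ∃ hmem : star α ∈ Algebra.adjoin ℚ ({α} : Set R),
      ∀ ρ : Algebra.adjoin ℚ ({α} : Set R) →ₐ[ℚ] ℂ,
        ρ ⟨star α, hmem⟩ = starRingEnd ℂ (ρ ⟨α, Algebra.self_mem_adjoin_singleton ℚ α⟩) ∧
          ‖ρ ⟨α, Algebra.self_mem_adjoin_singleton ℚ α⟩‖ ^ 2 = (q : ℝ) := by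
    classical
    let S := Algebra.adjoin ℚ ({α} : Set R)
    have hlin : ∀ (c : ℚ) (x : R), star (c • x) = c • star x := fun c x => by simp [star_smul]
    have hmem : star α ∈ S := by
      rcases eq_or_ne q 0 with rfl | hq
      · have h0 : α = 0 := by
          by_contra h
          have := hpos α h
          rw [hα, map_zero, map_zero] at this
          exact lt_irrefl _ this
        subst h0
        rw [star_zero]; exact S.zero_mem
      · have hright : α * (q⁻¹ • star α) = 1 := by
          rw [mul_smul_comm, hα, Algebra.algebraMap_eq_smul_one, smul_smul, inv_mul_cancel₀ hq, one_smul]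
        have hsurj : Function.Surjective (LinearMap.mulLeft ℚ α) := fun y =>
          ⟨(q⁻¹ • star α) * y, by rw [LinearMap.mulLeft_apply, ← mul_assoc, hright, one_mul]⟩
        have hinj := LinearMap.injective_iff_surjective.2 hsurj
        let m : S →ₗ[ℚ] S := LinearMap.mulLeft ℚ (⟨α, Algebra.self_mem_adjoin_singleton ℚ α⟩ : S)
        haveI : FiniteDimensional ℚ S := FiniteDimensional.finiteDimensional_submodule S.toSubmodule
        have hmsurj : Function.Surjective m := LinearMap.injective_iff_surjective.1 fun x y h =>
          Subtype.ext (hinj (congrArg Subtype.val h))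
        obtain ⟨x, hx⟩ := hmsurj (algebraMap ℚ S q)
        have hx' : α * (x : R) = α * star α := by rw [hα]; exact congrArg Subtype.val hx
        rw [← hinj hx']
        exact x.2
    refine ⟨hmem, fun ρ => ?_⟩
    haveI : FiniteDimensional ℚ S := FiniteDimensional.finiteDimensional_submodule S.toSubmodule
    have hcomm : ∀ x y : R, x ∈ S → y ∈ S → x * y = y * x := by
      intro x y hx hy
      simp only [S, Algebra.adjoin_singleton_eq_range_aeval] at hx hy
      obtain ⟨f, rfl⟩ := hx
      obtain ⟨g, rfl⟩ := hy
      show Polynomial.aeval α f * Polynomial.aeval α g = Polynomial.aeval α g * Polynomial.aeval α f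
      rw [← map_mul, ← map_mul, mul_comm]
    have hstar : ∀ x ∈ S, star x ∈ S := by
      intro x hx
      induction hx using Algebra.adjoin_induction with
      | mem y hy => rw [Set.mem_singleton_iff.1 hy]; exact hmem
      | algebraMap r =>
        rw [Algebra.algebraMap_eq_smul_one, hlin, star_one]
        exact S.smul_mem S.one_mem r
      | add a b _ _ ha hb => rw [star_add]; exact S.add_mem ha hb
      | mul a b _ _ ha hb => rw [star_mul]; exact S.mul_mem hb ha
    let σ' : R → ℚ := fun x => σ x + σ (star x)
    let B : LinearMap.BilinForm ℚ S := LinearMap.mk₂ ℚ (fun x y : S => σ' ((x : R) * star (y : R)))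
      (fun a b c => by simp only [σ', Subalgebra.coe_add, add_mul, star_add, map_add]; ring)
      (fun r a c => by simp only [σ', Subalgebra.coe_smul, smul_mul_assoc, hlin, map_smul, smul_add])
      (fun a b c => by simp only [σ', Subalgebra.coe_add, mul_add, star_add, map_add]; ring)
      (fun r a c => by simp only [σ', Subalgebra.coe_smul, hlin, mul_smul_comm, map_smul, smul_add])
    have hBapp : ∀ x y : S, B x y = σ' ((x : R) * star (y : R)) := fun x y => rfl
    have hsymm : LinearMap.IsSymm B := ⟨fun x y => by
      simp only [hBapp, σ', star_mul, star_star, RingHom.id_apply]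
      ring⟩
    obtain ⟨b, hb⟩ := LinearMap.BilinForm.exists_orthogonal_basis hsymm
    let ι := Fin (Module.finrank ℚ S)
    let d : ι → ℚ := fun i => B (b i) (b i)
    have hd : ∀ i, 0 < d i := by
      intro i
      have hne : ((b i : S) : R) ≠ 0 := fun h => b.ne_zero i (Subtype.ext h)
      have := hpos _ hne
      simp only [d, hBapp, σ', star_mul, star_star]
      linarith
    have hcoord : ∀ (z : S) (i : ι), b.repr z i * d i = B z (b i) := by
      intro z i
      conv_rhs => rw [← b.sum_repr z]
      rw [map_sum, LinearMap.sum_apply, Finset.sum_eq_single i]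
      · simp [d]
      · intro j _ hji
        rw [map_smul, LinearMap.smul_apply, show B (b j) (b i) = 0 from hb hji, smul_zero]
      · simp
    let st : S → S := fun a => ⟨star (a : R), hstar _ a.2⟩
    have hadj : ∀ (a : S) (i j : ι), b.repr (a * b j) i * d i = b.repr (st a * b i) j * d j := by
      intro a i j
      rw [hcoord, hcoord, hBapp, hBapp]
      simp only [σ', Subalgebra.coe_mul, st, star_mul, star_star]
      have h1 := hcomm (a : R) ((b j : S) : R) a.2 (b j).2
      have h2 := hcomm ((b i : S) : R) (star (a : R)) (b i).2 (hstar _ a.2)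
      rw [h1]
      have e1 : star ((b j : S) : R) * (a : R) * star ((b j : S) : R) = star ((b j : S) : R) * (a : R) * star ((b j : S) : R) := rfl
      have c1 := hcomm (star ((b i : S) : R)) (a : R) (hstar _ (b i).2) a.2
      have c2 := hcomm (star ((b j : S) : R)) (star (a : R)) (hstar _ (b j).2) (hstar _ a.2)
      simp only [mul_assoc]
      rw [c1, c2]
      simp only [← mul_assoc]
      rw [hcomm (star (a : R)) ((b i : S) : R) (hstar _ a.2) (b i).2]
      ring
    let r : ι → ℂ := fun i => ρ (b i)
    let T : ℂ := ∑ i, starRingEnd ℂ (r i) * r i * ((d i : ℂ))⁻¹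
    have hT : T ≠ 0 := by
      have hne : ∃ i, r i ≠ 0 := by
        by_contra h
        push Not at h
        have h1 : ρ 1 = 0 := by
          rw [← b.sum_repr 1, map_sum]
          exact Finset.sum_eq_zero fun i _ => by rw [map_smul, show ρ (b i) = 0 from h i, smul_zero]
        rw [map_one] at h1
        exact one_ne_zero h1
      have hre : T = ((∑ i, Complex.normSq (r i) * ((d i : ℝ))⁻¹ : ℝ) : ℂ) := by
        simp only [T, Complex.ofReal_sum, Complex.ofReal_mul, Complex.ofReal_inv, Complex.normSq_eq_conj_mul_self]
        norm_cast
      rw [hre, Complex.ofReal_ne_zero]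
      obtain ⟨i, hi⟩ := hne
      refine ne_of_gt (Finset.sum_pos' (fun j _ => mul_nonneg (Complex.normSq_nonneg _)
        (inv_nonneg.2 (by exact_mod_cast (hd j).le))) ⟨i, Finset.mem_univ i, ?_⟩)
      exact mul_pos (Complex.normSq_pos.2 hi) (inv_pos.2 (by exact_mod_cast hd i))
    have hexp : ∀ z : S, ρ z = ∑ j, (b.repr z j : ℂ) * r j := by
      intro z
      conv_lhs => rw [← b.sum_repr z]
      rw [map_sum]
      exact Finset.sum_congr rfl fun j _ => by rw [map_smul, Algebra.smul_def]; rfl
    have key : ∀ a : S, starRingEnd ℂ (ρ a) * T = ρ (st a) * T := by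
      intro a
      calc starRingEnd ℂ (ρ a) * T
          = ∑ i, starRingEnd ℂ (ρ (a * b i)) * r i * ((d i : ℂ))⁻¹ := by
            simp only [T, Finset.mul_sum, map_mul, r]
            exact Finset.sum_congr rfl fun i _ => by ring
        _ = ∑ i, ∑ j, (b.repr (a * b i) j : ℂ) * starRingEnd ℂ (r j) * r i * ((d i : ℂ))⁻¹ := by
            refine Finset.sum_congr rfl fun i _ => ?_
            rw [hexp, map_sum, Finset.sum_mul, Finset.sum_mul]
            exact Finset.sum_congr rfl fun j _ => by rw [map_mul, map_ratCast]
        _ = ∑ j, ∑ i, (b.repr (st a * b j) i : ℂ) * starRingEnd ℂ (r j) * r i * ((d j : ℂ))⁻¹ := by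
            rw [Finset.sum_comm]
            refine Finset.sum_congr rfl fun j _ => Finset.sum_congr rfl fun i _ => ?_
            have h := congrArg (fun x : ℚ => (x : ℂ)) (hadj a j i)
            push_cast at h
            have hi : (d i : ℂ) ≠ 0 := by exact_mod_cast (hd i).ne'
            have hj : (d j : ℂ) ≠ 0 := by exact_mod_cast (hd j).ne'
            field_simp
            linear_combination (starRingEnd ℂ (r j) * r i) * h
        _ = ρ (st a) * T := by
            simp only [T, Finset.mul_sum]
            refine Finset.sum_congr rfl fun j _ => ?_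
            have h2 : ρ (st a) * r j = ∑ i, (b.repr (st a * b j) i : ℂ) * r i := by
              rw [← hexp, map_mul]
            calc ∑ i, (b.repr (st a * b j) i : ℂ) * starRingEnd ℂ (r j) * r i * ((d j : ℂ))⁻¹
                = (∑ i, (b.repr (st a * b j) i : ℂ) * r i) * (starRingEnd ℂ (r j) * ((d j : ℂ))⁻¹) := by
                  rw [Finset.sum_mul]
                  exact Finset.sum_congr rfl fun i _ => by ring
              _ = _ := by rw [← h2]; ring
    have hconj := mul_right_cancel₀ hT (key ⟨α, Algebra.self_mem_adjoin_singleton ℚ α⟩)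
    refine ⟨hconj.symm, ?_⟩
    have hprod : ρ ⟨α, Algebra.self_mem_adjoin_singleton ℚ α⟩ * starRingEnd ℂ (ρ ⟨α, Algebra.self_mem_adjoin_singleton ℚ α⟩) = (q : ℂ) := by
      rw [hconj, ← map_mul, show (⟨α, Algebra.self_mem_adjoin_singleton ℚ α⟩ : S) * st ⟨α, _⟩ = algebraMap ℚ S q from Subtype.ext hα,
        AlgHom.commutes, eq_ratCast]
    rw [Complex.mul_conj, ← Complex.normSq_eq_norm_sq] at *
    exact_mod_cast hprod

end Groth.Agent.S19356
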