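import Groth.Statements.S19379
import Mathlib
import Groth.Prelude.Def_Found
import Groth.Prelude.Def_CAlgX
import Groth.Agent.Lib.H2AdicFSFlat
import Groth.Agent.Lib.H2AdicFSFibre
import Groth.Agent.Lib.H2GeomRegular
import Groth.Agent.Lib.H2SmoothRegular
import Groth.Agent.S2035
import Groth.Agent.S2036

set_option autoImplicit false
universe u
open CAlg

namespace Groth.Agent.S19379
open TensorProduct
set_option backward.isDefEq.respectTransparency.types false

/-- Let A and B be Noetherian rings and let B be an A-algebra which is formally smooth for the discrete
topologies. Then A → B is a regular homomorphism, that is, flat with (Noetherian) geometrically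
regular fibres. -/
theorem result
    (A B : Type u) [CommRing A] [CommRing B] [Algebra A B]
    [IsNoetherianRing A] [IsNoetherianRing B] [Algebra.FormallySmooth A B] :
    CAlg.IsRegularHom A B := by
  haveI : ∀ (q : Ideal B) [q.IsPrime], Algebra.FormallySmooth A (Localization.AtPrime q) := fun q _ => by
    haveI : Algebra.FormallySmooth B (Localization.AtPrime q) := Algebra.FormallySmooth.of_isLocalization q.primeCompl
    exact Algebra.FormallySmooth.comp A B (Localization.AtPrime q)
  refine ⟨Module.flat_of_isLocalized_maximal B B (fun P _ => Localization.AtPrime P) (fun P _ => Algebra.linearMap B _) fun q hq => ?_, fun p hp => ?_⟩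
  · let S := Localization.AtPrime q
    let p := q.comap (algebraMap A B)
    letI : Algebra (Localization.AtPrime p) S := (Localization.localRingHom p q (algebraMap A B) rfl).toAlgebra
    haveI : IsLocalHom (algebraMap (Localization.AtPrime p) S) := Localization.isLocalHom_localRingHom p q (algebraMap A B) rfl
    haveI : IsScalarTower A (Localization.AtPrime p) S := IsScalarTower.of_algebraMap_eq fun x => by
      refine Eq.trans ?_ (Localization.localRingHom_to_map p q (algebraMap A B) rfl x).symm
      exact IsScalarTower.algebraMap_apply A B S x
    haveI : Algebra.FormallySmooth (Localization.AtPrime p) S := Algebra.FormallySmooth.localization_base p.primeCompl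
    haveI : IsNoetherianRing S := IsLocalization.isNoetherianRing q.primeCompl S inferInstance
    haveI : IsNoetherianRing (Localization.AtPrime p) := IsLocalization.isNoetherianRing p.primeCompl _ inferInstance
    haveI := Groth.Agent.H2AdicFSFlat.flat_of_adicFS (A := Localization.AtPrime p) (B := S)
      fun C _ _ J hJ ψ _ => Algebra.FormallySmooth.exists_lift J ⟨2, hJ⟩ ψ
    exact Module.Flat.trans A (Localization.AtPrime p) S
  · haveI : IsNoetherianRing (B ⊗[A] p.ResidueField) := Algebra.EssFiniteType.isNoetherianRing B _
    haveI : IsNoetherianRing (p.Fiber B) := isNoetherianRing_of_ringEquiv (B ⊗[A] p.ResidueField) (Algebra.TensorProduct.comm A B p.ResidueField).toRingEquiv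
    refine ⟨inferInstance, fun K _ _ hfin => ?_⟩
    haveI := hfin
    let T := K ⊗[p.ResidueField] p.Fiber B
    haveI : IsNoetherianRing (p.Fiber B ⊗[p.ResidueField] K) := isNoetherian_of_tower (p.Fiber B) inferInstance
    haveI : IsNoetherianRing T := isNoetherianRing_of_ringEquiv (p.Fiber B ⊗[p.ResidueField] K) (Algebra.TensorProduct.comm p.ResidueField (p.Fiber B) K).toRingEquiv
    refine Groth.Agent.H4RegCompletion.isRegularRing_of_maximal T fun Q hQ => ?_
    haveI : IsNoetherianRing (Localization.AtPrime Q) := IsLocalization.isNoetherianRing Q.primeCompl _ inferInstance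
    haveI : Algebra.FormallySmooth T (Localization.AtPrime Q) := Algebra.FormallySmooth.of_isLocalization Q.primeCompl
    haveI : Algebra.FormallySmooth K (Localization.AtPrime Q) := Algebra.FormallySmooth.comp K T _
    exact Groth.Agent.H2SmoothRegular.isRegularLocalRing_of_formallySmooth (k := K)

end Groth.Agent.S19379
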