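import Mathlib
import Groth.Statements.S19380
-- import your own Groth.Agent.* helpers here

set_option autoImplicit false
universe u
open CAlg

namespace Groth.Agent.S19380

/-- Let L be a commutative ring, σ a ring automorphism of L of finite order dividing d (σ^d = 1), and C
an r × r matrix over L. The reverse characteristic polynomial det(1 − T·N) of the twisted product N
= C·σ(C)·σ²(C)⋯σ^(d−1)(C), with σ applied to the entries, is fixed by σ acting on coefficients. (In
the source this is phrased for the fibre at a closed point x of degree d of a convergent F-module
with Frobenius matrix C: the d-th iterate of the semilinear Frobenius of the fibre is the linear map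
with matrix N, so its characteristic polynomial has coefficients in the subfield fixed by the
Frobenius of K(x), namely K, and likewise with the valuation ring in place of K for an integral
F-module; only this linear-algebra statement, over any commutative ring, is given here.) -/
theorem result
    (L : Type u) [CommRing L] (σ : L ≃+* L) (d : ℕ) (hσ : σ ^ d = 1)
    (r : ℕ) (C : Matrix (Fin r) (Fin r) L) :
    (Matrix.charpolyRev (((List.range d).map fun i => C.map ⇑(σ ^ i)).prod)).map (σ : L →+* L) =
      Matrix.charpolyRev (((List.range d).map fun i => C.map ⇑(σ ^ i)).prod) := by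
  have hcomm : ∀ A B : Matrix (Fin r) (Fin r) L, Matrix.charpolyRev (A * B) = Matrix.charpolyRev (B * A) := fun A B => by
    unfold Matrix.charpolyRev
    rw [Matrix.map_mul, Matrix.map_mul, ← Matrix.smul_mul, Matrix.det_one_sub_mul_comm, Matrix.mul_smul]
  have hmap : ∀ M : Matrix (Fin r) (Fin r) L, (Matrix.charpolyRev M).map (σ : L →+* L) = Matrix.charpolyRev (M.map σ) := fun M => by
    unfold Matrix.charpolyRev
    rw [← Polynomial.coe_mapRingHom, RingHom.map_det]
    congr 1
    ext i j
    by_cases hij : i = j <;> simp [hij]
  let f : ℕ → Matrix (Fin r) (Fin r) L := fun i => C.map ⇑(σ ^ i)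
  have hf : ∀ i, (f i).map σ = f (i + 1) := fun i => by
    ext a b
    show σ ((σ ^ i) (C a b)) = (σ ^ (i + 1)) (C a b)
    rw [pow_succ']; rfl
  rw [hmap]
  have hp : (((List.range d).map f).prod).map σ = ((List.range d).map fun i => f (i + 1)).prod := by
    have := map_list_prod (σ : L →+* L).mapMatrix ((List.range d).map f)
    rw [List.map_map] at this
    refine this.trans (congrArg List.prod (List.map_congr_left fun i _ => ?_))
    exact hf i
  show Matrix.charpolyRev ((((List.range d).map f).prod).map σ) = Matrix.charpolyRev ((List.range d).map f).prod
  rw [hp]
  cases d with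
  | zero => rfl
  | succ n =>
    have hlast : f (n + 1) = f 0 := by
      show C.map ⇑(σ ^ (n + 1)) = C.map ⇑(σ ^ 0)
      rw [hσ, pow_zero]
    have e1 : ((List.range (n + 1)).map fun i => f (i + 1)).prod = ((List.range n).map fun i => f (i + 1)).prod * f (n + 1) := by
      rw [List.range_succ, List.map_append, List.prod_append, List.map_singleton, List.prod_singleton]
    have e2 : ((List.range (n + 1)).map f).prod = f 0 * ((List.range n).map fun i => f (i + 1)).prod := by
      rw [List.range_succ_eq_map, List.map_cons, List.prod_cons, List.map_map]; rfl
    rw [e1, e2, hlast, hcomm]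

end Groth.Agent.S19380
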