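import Groth.Statements.S19392
import Mathlib

set_option autoImplicit false
universe u
open InvQ

namespace Groth.Agent.S19392

set_option maxHeartbeats 4000000

/-- Over a field of characteristic different from 2 and 3, a nonzero binary quartic f has P(f) = Q(f) =
0 for the two basic invariants P, Q if and only if f has a triple zero. Stated for f = ∏_i (μ_i X₀ −
λ_i X₁) given by four root points (λ_i, μ_i) ≠ (0, 0) (over an algebraically closed field every
nonzero quartic form is of this shape), with the integral invariants I = 6P and J = 72Q of the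
coefficients of f; a triple zero means that three of the four root points are pairwise proportional. -/
theorem result (k : Type u) [Field k]
    (h2 : (2 : k) ≠ 0) (h3 : (3 : k) ≠ 0) (la mu : Fin 4 → k) (hne : ∀ i, la i ≠ 0 ∨ mu i ≠ 0) :
    (W4c6intromoduli.invI (W4c6intromoduli.coef la mu) = 0 ∧
        W4c6intromoduli.invJ (W4c6intromoduli.coef la mu) = 0) ↔
      ∃ i j l : Fin 4, i ≠ j ∧ j ≠ l ∧ i ≠ l ∧
        la i * mu j = la j * mu i ∧ la j * mu l = la l * mu j := by
  have h2' := h2
  set A := (la 0 * mu 1 - la 1 * mu 0) * (la 2 * mu 3 - la 3 * mu 2) with hA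
  set B := (la 0 * mu 2 - la 2 * mu 0) * (la 3 * mu 1 - la 1 * mu 3) with hB
  set C' := (la 0 * mu 3 - la 3 * mu 0) * (la 1 * mu 2 - la 2 * mu 1) with hC
  have hc : ∀ n, W4c6intromoduli.coef la mu n =
      (Polynomial.C (mu 0 * mu 1 * mu 2 * mu 3)
      - Polynomial.C (la 0 * mu 1 * mu 2 * mu 3 + mu 0 * la 1 * mu 2 * mu 3 + mu 0 * mu 1 * la 2 * mu 3 + mu 0 * mu 1 * mu 2 * la 3) * Polynomial.X ^ 1
      + Polynomial.C (la 0 * la 1 * mu 2 * mu 3 + la 0 * mu 1 * la 2 * mu 3 + la 0 * mu 1 * mu 2 * la 3 + mu 0 * la 1 * la 2 * mu 3 + mu 0 * la 1 * mu 2 * la 3 + mu 0 * mu 1 * la 2 * la 3) * Polynomial.X ^ 2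
      - Polynomial.C (mu 0 * la 1 * la 2 * la 3 + la 0 * mu 1 * la 2 * la 3 + la 0 * la 1 * mu 2 * la 3 + la 0 * la 1 * la 2 * mu 3) * Polynomial.X ^ 3
      + Polynomial.C (la 0 * la 1 * la 2 * la 3) * Polynomial.X ^ 4).coeff n := by
    intro n
    rw [W4c6intromoduli.coef, W4c6intromoduli.rootPoly, Fin.prod_univ_four]
    congr 1
    simp only [map_add, map_mul]
    ring
  have hI : 2 * W4c6intromoduli.invI (W4c6intromoduli.coef la mu) = A ^ 2 + B ^ 2 + C' ^ 2 := by
    simp only [W4c6intromoduli.invI, hc, Polynomial.coeff_add, Polynomial.coeff_sub, Polynomial.coeff_C_mul, Polynomial.coeff_X_pow, Polynomial.coeff_C, hA, hB, hC]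
    norm_num
    ring
  have hJ : W4c6intromoduli.invJ (W4c6intromoduli.coef la mu) = (A - B) * (B - C') * (C' - A) := by
    simp only [W4c6intromoduli.invJ, hc, Polynomial.coeff_add, Polynomial.coeff_sub, Polynomial.coeff_C_mul, Polynomial.coeff_X_pow, Polynomial.coeff_C, hA, hB, hC]
    norm_num
    ring
  have hsum : A + B + C' = 0 := by rw [hA, hB, hC]; ring
  constructor
  · rintro ⟨h1, h2⟩
    rw [h1, mul_zero] at hI
    rw [h2] at hJ
    have h6 : (6 : k) ≠ 0 := by
      rw [show (6 : k) = 2 * 3 by norm_num]; exact mul_ne_zero h2' h3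
    have key : A = 0 ∧ B = 0 := by
      rcases mul_eq_zero.1 hJ.symm with h | h
      · rcases mul_eq_zero.1 h with h | h
        · have e1 : B = A := by linear_combination -h
          have e2 : C' = -(2 * A) := by linear_combination hsum - e1
          have e3 : A ^ 2 = 0 := (mul_eq_zero.1 (show (6 : k) * A ^ 2 = 0 by rw [e1, e2] at hI; linear_combination -hI)).resolve_left h6
          have := pow_eq_zero_iff (n := 2) (a := A) two_ne_zero |>.1 e3
          exact ⟨this, e1.trans this⟩
        · have e1 : C' = B := by linear_combination -h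
          have e2 : A = -(2 * B) := by linear_combination hsum - e1
          have e3 : B ^ 2 = 0 := (mul_eq_zero.1 (show (6 : k) * B ^ 2 = 0 by rw [e1, e2] at hI; linear_combination -hI)).resolve_left h6
          have := pow_eq_zero_iff (n := 2) (a := B) two_ne_zero |>.1 e3
          exact ⟨by rw [e2, this, mul_zero, neg_zero], this⟩
      · have e1 : C' = A := by linear_combination h
        have e2 : B = -(2 * A) := by linear_combination hsum - e1
        have e3 : A ^ 2 = 0 := (mul_eq_zero.1 (show (6 : k) * A ^ 2 = 0 by rw [e1, e2] at hI; linear_combination -hI)).resolve_left h6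
        have := pow_eq_zero_iff (n := 2) (a := A) two_ne_zero |>.1 e3
        exact ⟨this, by rw [e2, this, mul_zero, neg_zero]⟩
    rcases mul_eq_zero.1 key.1 with h | h <;> rcases mul_eq_zero.1 key.2 with h' | h'
    · exact ⟨1, 0, 2, by decide, by decide, by decide, by linear_combination -h, by linear_combination h'⟩
    · exact ⟨0, 1, 3, by decide, by decide, by decide, by linear_combination h, by linear_combination -h'⟩
    · exact ⟨0, 2, 3, by decide, by decide, by decide, by linear_combination h', by linear_combination h⟩
    · exact ⟨2, 3, 1, by decide, by decide, by decide, by linear_combination h, by linear_combination h'⟩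
  · rintro ⟨i, j, l, hij, hjl, hil, h1, h2⟩
    have h3' : la i * mu l = la l * mu i := by
      rcases hne j with hj | hj
      · exact mul_left_cancel₀ hj (by linear_combination la i * h2 + la l * h1)
      · exact mul_left_cancel₀ hj (by linear_combination mu l * h1 + mu i * h2)
    have hz : A = 0 ∧ B = 0 ∧ C' = 0 := by
      rw [hA, hB, hC]
      refine ⟨mul_eq_zero.2 ?_, mul_eq_zero.2 ?_, mul_eq_zero.2 ?_⟩ <;>
      fin_cases i <;> fin_cases j <;> fin_cases l <;>
      (try simp only [Fin.reduceFinMk, Fin.zero_eta, Fin.mk_one] at h1 h2 h3' ⊢) <;>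
      first
        | exact absurd rfl hij
        | exact absurd rfl hjl
        | exact absurd rfl hil
        | (left; linear_combination h1) | (left; linear_combination -h1) | (left; linear_combination h2) | (left; linear_combination -h2)
        | (left; linear_combination h3') | (left; linear_combination -h3')
        | (right; linear_combination h1) | (right; linear_combination -h1) | (right; linear_combination h2) | (right; linear_combination -h2)
        | (right; linear_combination h3') | (right; linear_combination -h3')
    rw [hz.1, hz.2.1, hz.2.2] at hI hJ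
    refine ⟨(mul_eq_zero.1 (hI.trans (by ring))).resolve_left h2', by rw [hJ]; ring⟩

end Groth.Agent.S19392
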