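import Groth.Statements.S19394
import Mathlib

set_option autoImplicit false
set_option backward.isDefEq.respectTransparency.types false
set_option maxHeartbeats 1000000
set_option linter.all false
universe u
open InvQ

namespace Groth.Agent.S19394
open Groth.Agent

/-- Over an algebraically closed field, the semisimple part of a square matrix B lies in the Zariski
closure of the orbit of B under conjugation by the general linear group. The semisimple part is
given as S with B = S + N, S semisimple, N nilpotent and SN = NS; membership in the Zariski closure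
is spelled out as: every polynomial in the n² matrix entries vanishing at all conjugates A B A⁻¹ (A
invertible) vanishes at S. -/
theorem result (k : Type u) [Field k] [IsAlgClosed k] (n : ℕ)
    (B S N : Matrix (Fin n) (Fin n) k) (hS : Module.End.IsSemisimple (Matrix.toLin' S))
    (hN : IsNilpotent N) (hSN : Commute S N) (hB : B = S + N)
    (F : MvPolynomial (Fin n × Fin n) k)
    (hF : ∀ A : Matrix (Fin n) (Fin n) k, IsUnit A.det →
      MvPolynomial.eval (fun p => (A * B * A⁻¹) p.1 p.2) F = 0) :
    MvPolynomial.eval (fun p => S p.1 p.2) F = 0 := by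
    classical
    set Sl : Module.End k (Fin n → k) := Matrix.toLin' S with hSl
    set Nl : Module.End k (Fin n → k) := Matrix.toLin' N with hNl
    obtain ⟨M, hM⟩ := hN
    have hNM : Nl ^ M = 0 := by rw [hNl, ← Matrix.toLin'_pow, hM, map_zero]
    have hcom : Sl * Nl = Nl * Sl := by
      rw [hSl, hNl, Module.End.mul_eq_comp, Module.End.mul_eq_comp, ← Matrix.toLin'_mul, ← Matrix.toLin'_mul, hSN.eq]
    -- an invariant projection onto each step of the kernel filtration
    have hproj : ∀ i : ℕ, ∃ p : Module.End k (Fin n → k), Sl * p = p * Sl ∧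
        (∀ x, p x ∈ LinearMap.ker (Nl ^ i)) ∧ (∀ x ∈ LinearMap.ker (Nl ^ i), p x = x) := by
      intro i
      have hinv : LinearMap.ker (Nl ^ i) ∈ Module.End.invtSubmodule Sl := by
        rw [Module.End.mem_invtSubmodule]
        intro x hx
        rw [Submodule.mem_comap, LinearMap.mem_ker]
        have hc : Nl ^ i * Sl = Sl * Nl ^ i := ((Commute.pow_right (show Commute Sl Nl from hcom) i).eq).symm
        rw [← Module.End.mul_apply, hc, Module.End.mul_apply, LinearMap.mem_ker.1 hx, map_zero]
      obtain ⟨q, hq, hc⟩ := Module.End.isSemisimple_iff.1 hS _ hinv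
      refine ⟨(LinearMap.ker (Nl ^ i)).projection q hc, ?_, fun x => Submodule.projection_apply_mem hc x,
        fun x hx => Submodule.projection_apply_of_mem_left hc hx⟩
      refine LinearMap.ext fun x => ?_
      obtain ⟨a, ha, b, hb, rfl⟩ := Submodule.mem_sup.1 (show x ∈ LinearMap.ker (Nl ^ i) ⊔ q by rw [hc.sup_eq_top]; exact Submodule.mem_top)
      simp only [Module.End.mul_apply, map_add, Submodule.projection_apply_of_mem_left hc ha,
        Submodule.projection_apply_of_mem_right hc hb, map_zero, add_zero]
      rw [Submodule.projection_apply_of_mem_left hc (hinv ha), Submodule.projection_apply_of_mem_right hc (hq hb), add_zero]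
    choose p hpS hpm hpf using hproj
    -- nested projections
    let P : ℕ → Module.End k (Fin n → k) := fun i =>
      ((List.range (M - i)).map fun j => p (i + j)).prod
    have hPM : P M = 1 := by simp [P]
    have hPs : ∀ i, i < M → P i = p i * P (i + 1) := by
      intro i hi
      simp only [P]
      rw [show M - i = (M - (i + 1)) + 1 by omega, List.range_succ_eq_map, List.map_cons, List.prod_cons, List.map_map, add_zero]
      congr 2
      refine List.map_congr_left fun j _ => ?_
      simp only [Function.comp_apply]
      congr 1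
      omega
    have hP : ∀ i, i ≤ M → Sl * P i = P i * Sl ∧ (∀ x, P i x ∈ LinearMap.ker (Nl ^ i)) ∧
        (∀ x ∈ LinearMap.ker (Nl ^ i), P i x = x) := by
      intro i hi
      induction hi using Nat.decreasingInduction with
      | self => rw [hPM]; exact ⟨by simp, fun x => by simp [hNM], fun x _ => rfl⟩
      | of_succ i hi ih =>
        rw [hPs i hi]
        refine ⟨by rw [← mul_assoc, hpS, mul_assoc, ih.1, mul_assoc], fun x => hpm i _, fun x hx => ?_⟩
        have hx' : x ∈ LinearMap.ker (Nl ^ (i + 1)) := by
          rw [LinearMap.mem_ker, pow_succ', Module.End.mul_apply, LinearMap.mem_ker.1 hx, map_zero]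
        rw [Module.End.mul_apply, ih.2.2 x hx', hpf i x hx]
    have hkmono : ∀ i j, i ≤ j → ∀ x ∈ LinearMap.ker (Nl ^ i), x ∈ LinearMap.ker (Nl ^ j) := by
      intro i j hij x hx
      obtain ⟨d, rfl⟩ := Nat.exists_eq_add_of_le hij
      rw [LinearMap.mem_ker, add_comm, pow_add, Module.End.mul_apply, LinearMap.mem_ker.1 hx, map_zero]
    have hPP : ∀ i j, i ≤ j → j ≤ M → P j * P i = P i ∧ P i * P j = P i := by
      intro i j hij hj
      refine ⟨LinearMap.ext fun x => (hP j hj).2.2 _ (hkmono i j hij _ ((hP i (hij.trans hj)).2.1 x)), ?_⟩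
      induction hij using Nat.decreasingInduction with
      | self =>
        exact LinearMap.ext fun x => (hP j hj).2.2 _ ((hP j hj).2.1 x)
      | of_succ i hi ih => rw [hPs i (by omega), mul_assoc, ih]
    let e : ℕ → Module.End k (Fin n → k) := fun i => P (i + 1) - P i
    have hsum : ∑ i ∈ Finset.range M, e i = 1 := by
      rw [Finset.sum_range_sub P, hPM, sub_eq_self]
      refine LinearMap.ext fun x => ?_
      have := (hP 0 (Nat.zero_le M)).2.1 x
      simpa using this
    have heS : ∀ i ∈ Finset.range M, Sl * e i = e i * Sl := by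
      intro i hi
      rw [Finset.mem_range] at hi
      simp only [e, mul_sub, sub_mul, (hP i hi.le).1, (hP (i + 1) hi).1]
    have hee : ∀ i ∈ Finset.range M, ∀ j ∈ Finset.range M, e i * e j = if i = j then e i else 0 := by
      intro i hi j hj
      rw [Finset.mem_range] at hi hj
      simp only [e, mul_sub, sub_mul]
      rcases lt_trichotomy i j with h | h | h
      · rw [if_neg h.ne, (hPP (i + 1) (j + 1) (by omega) hj).2, (hPP (i + 1) j h hj.le).2,
          (hPP i (j + 1) (by omega) hj).2, (hPP i j h.le hj.le).2]
        abel
      · subst h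
        rw [if_pos rfl, (hPP (i + 1) (i + 1) le_rfl hi).1, (hPP i (i + 1) (by omega) hi).1,
          (hPP i (i + 1) (by omega) hi).2, (hPP i i le_rfl hi.le).1]
        abel
      · rw [if_neg h.ne', (hPP (j + 1) (i + 1) (by omega) hi).1, (hPP (j + 1) i h hi.le).1,
          (hPP j (i + 1) (by omega) hi).1, (hPP j i h.le hi.le).1]
        abel
    have hzero : ∀ i ∈ Finset.range M, ∀ j ∈ Finset.range M, j ≤ i → e i * Nl * e j = 0 := by
      intro i hi j hj hji
      rw [Finset.mem_range] at hi hj
      refine LinearMap.ext fun x => ?_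
      have hx : e j x ∈ LinearMap.ker (Nl ^ (j + 1)) :=
        sub_mem ((hP (j + 1) hj).2.1 x) (hkmono j (j + 1) (by omega) _ ((hP j hj.le).2.1 x))
      have hNx : Nl (e j x) ∈ LinearMap.ker (Nl ^ i) := hkmono j i hji _ (by
        rw [LinearMap.mem_ker, ← Module.End.mul_apply, ← pow_succ]; exact LinearMap.mem_ker.1 hx)
      simp only [Module.End.mul_apply, LinearMap.zero_apply]
      show P (i + 1) (Nl (e j x)) - P i (Nl (e j x)) = 0
      rw [(hP (i + 1) hi).2.2 _ (hkmono i (i + 1) (by omega) _ hNx), (hP i hi.le).2.2 _ hNx, sub_self]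
    -- pass to matrices
    let E : ℕ → Matrix (Fin n) (Fin n) k := fun i => LinearMap.toMatrixAlgEquiv' (e i)
    have hSl' : LinearMap.toMatrixAlgEquiv' Sl = S := LinearMap.toMatrix'_toLin' S
    have hNl' : LinearMap.toMatrixAlgEquiv' Nl = N := LinearMap.toMatrix'_toLin' N
    have Esum : ∑ i ∈ Finset.range M, E i = 1 := by
      simp only [E]; rw [← map_sum, hsum, map_one]
    have Eee : ∀ i ∈ Finset.range M, ∀ j ∈ Finset.range M, E i * E j = if i = j then E i else 0 := by
      intro i hi j hj
      simp only [E]
      rw [← map_mul, hee i hi j hj, apply_ite LinearMap.toMatrixAlgEquiv', map_zero]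
    have EeS : ∀ i ∈ Finset.range M, S * E i = E i * S := by
      intro i hi
      simp only [E, ← hSl', ← map_mul, heS i hi]
    have Ezero : ∀ i ∈ Finset.range M, ∀ j ∈ Finset.range M, j ≤ i → E i * N * E j = 0 := by
      intro i hi j hj hji
      simp only [E, ← hNl', ← map_mul, hzero i hi j hj hji, map_zero]
    have hconj : ∀ s : k, s ≠ 0 → ∃ A : Matrix (Fin n) (Fin n) k, IsUnit A.det ∧
        A * B * A⁻¹ = S + ∑ i ∈ Finset.range M, ∑ j ∈ Finset.range M, s ^ (j - i) • (E i * N * E j) := by
      intro s hs
      let A := ∑ i ∈ Finset.range M, (s⁻¹ ^ i) • E i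
      let A' := ∑ i ∈ Finset.range M, (s ^ i) • E i
      have hAA : A * A' = 1 := by
        simp only [A, A', Finset.sum_mul, Finset.mul_sum, smul_mul_assoc, mul_smul_comm, smul_smul]
        rw [← Esum]
        refine Finset.sum_congr rfl fun i hi => ?_
        rw [Finset.sum_eq_single i]
        · rw [Eee i hi i hi, if_pos rfl, smul_smul, ← mul_pow]
          simp [hs]
        · intro j hj hne
          simp [Eee i hi j hj, Eee j hj i hi, hne, Ne.symm hne]
        · intro h; exact absurd hi h
      have hu : IsUnit A.det := by
        have := congrArg Matrix.det hAA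
        rw [Matrix.det_mul, Matrix.det_one] at this
        exact IsUnit.of_mul_eq_one _ this
      refine ⟨A, hu, ?_⟩
      rw [Matrix.inv_eq_right_inv hAA, hB, mul_add, add_mul]
      congr 1
      · have : A * S = S * A := by
          simp only [A, Finset.sum_mul, Finset.mul_sum, smul_mul_assoc, mul_smul_comm]
          exact Finset.sum_congr rfl fun i hi => by rw [EeS i hi]
        rw [this, mul_assoc, hAA, mul_one]
      · simp only [A, A', Finset.sum_mul, Finset.mul_sum, smul_mul_assoc, mul_smul_comm, smul_smul]
        simp only [Finset.smul_sum, smul_smul]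
        rw [Finset.sum_comm]
        refine Finset.sum_congr rfl fun i hi => Finset.sum_congr rfl fun j hj => ?_
        by_cases hji : j ≤ i
        · rw [Ezero i hi j hj hji, smul_zero, smul_zero]
        · congr 1
          rw [inv_pow, pow_sub₀ _ hs (by omega)]
    let g : Fin n × Fin n → Polynomial k := fun ab => Polynomial.C (S ab.1 ab.2) +
      ∑ i ∈ Finset.range M, ∑ j ∈ Finset.range M, Polynomial.C ((E i * N * E j) ab.1 ab.2) * Polynomial.X ^ (j - i)
    have hev : ∀ s : k, (MvPolynomial.aeval g F).eval s = MvPolynomial.eval (fun ab => (g ab).eval s) F := by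
      intro s
      rw [← Polynomial.coe_evalRingHom, MvPolynomial.aeval_def, MvPolynomial.eval₂_comp_left]
      congr 1
      ext a
      simp
    have hq : MvPolynomial.aeval g F = 0 := by
      refine Polynomial.eq_zero_of_infinite_isRoot _ (((Set.finite_singleton (0 : k)).infinite_compl).mono fun s hs => ?_)
      obtain ⟨A, hA, hAB⟩ := hconj s hs
      show (MvPolynomial.aeval g F).eval s = 0
      rw [hev, ← hF A hA, hAB]
      refine congrArg (fun v => MvPolynomial.eval v F) (funext fun ab => ?_)
      simp only [g, Polynomial.eval_add, Polynomial.eval_finsetSum, Polynomial.eval_mul, Polynomial.eval_C, Polynomial.eval_pow,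
        Polynomial.eval_X, Matrix.add_apply, Matrix.sum_apply, Matrix.smul_apply, smul_eq_mul]
      congr 1
      exact Finset.sum_congr rfl fun i _ => Finset.sum_congr rfl fun j _ => mul_comm _ _
    have h0 := hev 0
    rw [hq, Polynomial.eval_zero] at h0
    rw [h0]
    refine congrArg (fun v => MvPolynomial.eval v F) (funext fun ab => ?_)
    simp only [g, Polynomial.eval_add, Polynomial.eval_finsetSum, Polynomial.eval_mul, Polynomial.eval_C, Polynomial.eval_pow,
      Polynomial.eval_X]
    symm
    rw [add_eq_left]
    refine Finset.sum_eq_zero fun i hi => Finset.sum_eq_zero fun j hj => ?_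
    by_cases hji : j ≤ i
    · rw [Ezero i hi j hj hji]; simp
    · rw [zero_pow (by omega), mul_zero]

end Groth.Agent.S19394
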