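import Groth.Statements.S19400
import Mathlib
import Groth.Agent.Lib.H8OrbitGIT

set_option autoImplicit false
universe u
open GIT

namespace Groth.Agent.S19400

/-- For a reductive group G (here: every finite-dimensional representation completely reducible, i.e.
linearly reductive; any characteristic) acting on an affine variety X = Spec R over an algebraically
closed field with all orbits of closed points closed, the morphism X → Y = Spec R^G is a geometric
quotient; in particular it is surjective on closed points and its fibre over every closed point of Y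
is a single orbit. This row states those two point-set assertions in coaction form: G = Spec A with
A a finitely generated commutative Hopf algebra whose finite-dimensional comodules are semisimple, R
of finite type with a multiplicative unital coaction, points as k-algebra maps. The published
statement takes X to be a variety (reduced and irreducible); this row does not assume R reduced or a
domain. -/
theorem result (k : Type u) [Field k] [IsAlgClosed k]
    (A : Type u) [CommRing A] [HopfAlgebra k A] [Algebra.FiniteType k A]
    (hG : HopfRep.IsLinearlyReductive k A)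
    (R : Type u) [CommRing R] [Algebra k R] [Algebra.FiniteType k R]
    [HopfRep.Comod k A R] [GLin.IsCoactAlg k A R]
    (hcl : ∀ x : R →ₐ[k] k, GLin.IsClosedOrbit k A x)
    (y : GLin.invariants k A R →ₐ[k] k) :
    (∃ x : R →ₐ[k] k, x.comp (GLin.invariants k A R).val = y) ∧
      ∀ x x' : R →ₐ[k] k, x.comp (GLin.invariants k A R).val = y →
        x'.comp (GLin.invariants k A R).val = y →
          ∃ g : A →ₐ[k] k, x' = GLin.actPt k g x := by
  open Groth.Agent.H8Orbit in
  have hI : HopfRep.IsSubcomod (k := k) (A := A) ((⊥ : Ideal R).restrictScalars k) := by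
    refine Groth.Agent.H8Comod.isSubcomod_iff.mpr fun φ f hf => ?_
    have hf' : f = 0 := by simpa using hf
    simp [hf']
  refine ⟨?_, fun x x' hx hx' => ?_⟩
  · obtain ⟨x, -, hx⟩ := Groth.Agent.H8Orbit.exists_point_over hG ⊥ hI y
      fun f hf => by rw [show f = 0 from Subtype.ext (by simpa using hf), map_zero]
    exact ⟨x, AlgHom.ext hx⟩
  · obtain ⟨z, hz, hz'⟩ := Groth.Agent.H8Orbit.exists_common hG x x'
      fun f hf => AlgHom.congr_fun (hx.trans hx'.symm) ⟨f, hf⟩
    obtain ⟨g, rfl⟩ := Groth.Agent.H8Orbit.exists_eq_pt_iff.mp
      ((Groth.Agent.H8OrbitTop.isClosedOrbit_iff x).mp (hcl x) z hz)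
    obtain ⟨g', hg'⟩ := Groth.Agent.H8Orbit.exists_eq_pt_iff.mp
      ((Groth.Agent.H8OrbitTop.isClosedOrbit_iff x').mp (hcl x') _ hz')
    refine ⟨(g * g'⁻¹).ofConv, ?_⟩
    show x' = Groth.Agent.H8Orbit.pt x (WithConv.toConv (g * g'⁻¹).ofConv)
    rw [WithConv.toConv_ofConv, Groth.Agent.H8Orbit.pt_mul, hg', Groth.Agent.H8Orbit.pt_inv]

end Groth.Agent.S19400
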