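import Groth.Statements.S19406
import Mathlib
import Groth.Agent.Lib.H8OrbitFlat

set_option autoImplicit false
universe u
open TensorProduct
open GLin

namespace Groth.Agent.S19406

/-- Let k be an algebraically closed field of characteristic zero, A a finitely generated commutative
Hopf algebra over k which is an integral domain and all of whose finite-dimensional comodules are
semisimple (a connected reductive group G), R a reduced finitely generated commutative k-algebra
with a multiplicative A-coaction (G acting on the affine variety X = Spec R), and χ a group-like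
element of A (a character of G). Then there is a set E of G-invariant functions on X such that, for
every k-point x of X whose orbit is closed, χ − 1 lies in the stabilizer ideal of x (χ is trivial on
the stabilizer of x) if and only if some member of E does not vanish at x: the set of points of X//G
over which the closed orbit has stabilizer on which χ is trivial is open. (The published statement
allows any reductive G; this row assumes G connected, the case the source's argument covers.) -/
theorem result (k : Type u) [Field k] [IsAlgClosed k] [CharZero k]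
    (A : Type u) [CommRing A] [IsDomain A] [HopfAlgebra k A] [Algebra.FiniteType k A] (hG : HopfRep.IsLinearlyReductive k A)
    (R : Type u) [CommRing R] [IsReduced R] [Algebra k R] [Algebra.FiniteType k R] [HopfRep.Comod k A R] [GLin.IsCoactAlg k A R]
    (χ : A) (hχ : IsGroupLikeElem k χ) :
    ∃ E : Set R, E ⊆ GLin.invariants k A R ∧
      ∀ x : R →ₐ[k] k, GLin.IsClosedOrbit k A x →
        (χ - 1 ∈ GLin.stabIdeal k A x ↔ ∃ f ∈ E, x f ≠ 0) := by
  obtain ⟨α, hα, hα1⟩ := Groth.Agent.H8Reductive.exists_integral_of_lr hG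
  set χ' := HopfAlgebraStruct.antipode k χ with hχ'def
  have hinv : χ * χ' = 1 := by
    have := HopfAlgebra.mul_antipode_lTensor_comul_apply (R := k) χ
    simpa [hχ'def, hχ.comul_eq_tmul_self, hχ.counit_eq_one] using this
  have hχ' : IsGroupLikeElem k χ' := by
    refine ⟨?_, ?_⟩
    · simpa [hχ'def] using hχ.counit_eq_one
    · rw [hχ'def, Groth.Agent.H8Hopf.comul_antipode, hχ.comul_eq_tmul_self]
      simp
  refine ⟨{e | ∃ f h : R, HopfRep.Comod.coact (k := k) (A := A) f = f ⊗ₜ[k] χ ∧
    HopfRep.Comod.coact (k := k) (A := A) h = h ⊗ₜ[k] χ' ∧ e = f * h}, ?_, fun x hx => ⟨fun h1 => ?_, ?_⟩⟩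
  · rintro e ⟨f, h, hf, hh, rfl⟩
    show HopfRep.Comod.coact (k := k) (A := A) (f * h) = (f * h) ⊗ₜ[k] (1 : A)
    rw [GLin.IsCoactAlg.coact_mul, hf, hh, Algebra.TensorProduct.tmul_mul_tmul, hinv]
  · have h1' : χ' - 1 ∈ GLin.stabIdeal k A x := by
      have e : χ' - 1 = -χ' * (χ - 1) := by linear_combination hinv
      rw [e]; exact Ideal.mul_mem_left _ _ h1
    obtain ⟨f₀, hf₀⟩ := Groth.Agent.H8OrbitFlat.exists_orb_eq x hx hχ h1
    obtain ⟨h₀, hh₀⟩ := Groth.Agent.H8OrbitFlat.exists_orb_eq x hx hχ' h1'
    obtain ⟨f, hf, hxf⟩ := Groth.Agent.H8OrbitFlat.exists_semiInvariant x hα hα1 hχ hf₀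
    obtain ⟨h, hh, hxh⟩ := Groth.Agent.H8OrbitFlat.exists_semiInvariant x hα hα1 hχ' hh₀
    exact ⟨f * h, ⟨f, h, hf, hh, rfl⟩, by simp [hxf, hxh]⟩
  · rintro ⟨e, ⟨f, h, hf, hh, rfl⟩, hne⟩
    rw [map_mul, mul_ne_zero_iff] at hne
    have horb : GLin.orbitHom k A x f = x f • χ := by
      simp [GLin.orbitHom, GLin.coactAlgHom, hf]
    have hmem : GLin.orbitHom k A x (f - algebraMap k R (x f)) ∈ GLin.stabIdeal k A x :=
      Ideal.mem_map_of_mem _ (by simp)
    rw [map_sub, AlgHom.commutes, horb, Algebra.algebraMap_eq_smul_one, ← smul_sub] at hmem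
    have := Submodule.smul_of_tower_mem (GLin.stabIdeal k A x) (x f)⁻¹ hmem
    rwa [smul_smul, inv_mul_cancel₀ hne.1, one_smul] at this

end Groth.Agent.S19406
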