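import Groth.Statements.S19427
import Mathlib
import Groth.Agent.Lib.H6.MilK2

set_option autoImplicit false
set_option backward.isDefEq.respectTransparency.types false
set_option maxHeartbeats 1000000
set_option linter.all false
universe u
open MilnorK

namespace Groth.Agent.S19427
open Groth.Agent

/-- For a field F and nonzero b, c with b + c ≠ 0, in the Milnor K-group K_2(F) one has {b, c} + {b + c,
-b/c} = 0, that is {b, c} = -{b + c, -b/c} = {b + c, -c/b}. (The identity as displayed in the source
is {b, c} = {b + c, -b/c}, which differs from this by a sign and fails in general: for b = 3, c = 5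
over the rationals the tame symbol at 5 takes the values 3 and 1/3 on the two sides; the
accompanying derivation from the Steinberg relation b/(b+c) + c/(b+c) = 1 gives exactly the identity
stated here.) -/
theorem result (F : Type u) [Field F] (b c : Fˣ)
    (h : (b : F) + (c : F) ≠ 0) :
    (MilK.symbol ![b, c] : MilK.K F 2) + MilK.symbol ![Units.mk0 ((b : F) + (c : F)) h, -(b / c)] = 0 := by
    show H6MilK2.S F b c + H6MilK2.S F _ (-(b / c)) = 0
    set s := Units.mk0 ((b : F) + (c : F)) h with hs
    have h0 : H6MilK2.S F (b * s⁻¹) (c * s⁻¹) = 0 := H6MilK2.steinberg F _ _ (by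
      simp only [Units.val_mul, Units.val_inv_eq_inv_val, hs, Units.val_mk0]
      field_simp)
    rw [H6MilK2.mul_left', H6MilK2.mul_right', H6MilK2.mul_right', H6MilK2.inv_left, H6MilK2.inv_left, H6MilK2.inv_right,
      H6MilK2.inv_right, H6MilK2.self F s] at h0
    rw [← neg_one_mul (b / c), H6MilK2.mul_right', div_eq_mul_inv, H6MilK2.mul_right', H6MilK2.inv_right,
      H6MilK2.swap F s b]
    rw [← h0]
    abel

end Groth.Agent.S19427
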