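import Groth.Statements.S19436
import Mathlib
import Groth.Agent.Lib.H2MinPrime

set_option autoImplicit false
universe u
open CAlg

namespace Groth.Agent.S19436
set_option linter.style.haveILetI false
open TensorProduct Polynomial Matrix

/-- For a Noetherian local commutative algebra R over a field k, with maximal ideal M, and an ideal I of
R whose quotient R/I is finite-dimensional over k of dimension n, the power M^n lies in I. -/
theorem result (k : Type u) [Field k] (R : Type u) [CommRing R]
    [Algebra k R] [IsNoetherianRing R] [IsLocalRing R] (I : Ideal R) [Module.Finite k (R ⧸ I)] (n : ℕ)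
    (hn : Module.finrank k (R ⧸ I) = n) : IsLocalRing.maximalIdeal R ^ n ≤ I := by
  let m := IsLocalRing.maximalIdeal R
  let V : ℕ → Submodule k (R ⧸ I) := fun j => ((m ^ j).map (Ideal.Quotient.mk I)).restrictScalars k
  have step : ∀ j, m ^ j ≤ I ∨ Module.finrank k (V j) + j ≤ n := by
    intro j; induction j with
    | zero => right; rw [add_zero]; exact hn ▸ Submodule.finrank_le _
    | succ j ih =>
      rcases ih with h | h
      · exact Or.inl ((Ideal.pow_le_pow_right (Nat.le_succ j)).trans h)
      · by_cases he : m ^ j ≤ I
        · exact Or.inl ((Ideal.pow_le_pow_right (Nat.le_succ j)).trans he)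
        right
        have hle : V (j + 1) ≤ V j := Ideal.map_mono (Ideal.pow_le_pow_right (Nat.le_succ j))
        have hne : V (j + 1) ≠ V j := fun hEq => he (by
          have h1 : (m ^ j).map (Ideal.Quotient.mk I) ≤ (m ^ (j+1)).map (Ideal.Quotient.mk I) := fun x hx => by
            have : x ∈ V (j + 1) := hEq ▸ hx
            exact this
          rw [Ideal.map_le_iff_le_comap, Ideal.comap_map_of_surjective _ Ideal.Quotient.mk_surjective,
            ← RingHom.ker_eq_comap_bot, Ideal.mk_ker] at h1
          refine Submodule.le_of_le_smul_of_le_jacobson_bot (I := m) (IsNoetherian.noetherian _)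
            (IsLocalRing.jacobson_eq_maximalIdeal ⊥ bot_ne_top).ge ?_
          refine h1.trans ?_
          rw [sup_comm, Ideal.smul_eq_mul, ← pow_succ'])
        have := Submodule.finrank_lt_finrank_of_lt (lt_of_le_of_ne hle hne)
        omega
  rcases step n with h | h
  · exact h
  · intro x hx
    have h0 : V n = ⊥ := Submodule.finrank_eq_zero.1 (by omega)
    have : Ideal.Quotient.mk I x ∈ V n := Ideal.mem_map_of_mem _ hx
    rw [h0] at this
    exact Ideal.Quotient.eq_zero_iff_mem.1 this

end Groth.Agent.S19436
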