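import Groth.Statements.S19443
import Mathlib

set_option autoImplicit false
universe u
open LinAlg

namespace Groth.Agent.S19443

/-- Algebraic form: let G be a finite group with order invertible in the field k, ρ a linear
representation of G on a k-vector space V, and ω a nondegenerate bilinear form on V invariant under
G. Then ω restricted to the fixed subspace V^G is nondegenerate (for a finite group of symplectic
automorphisms, the fixed subspace is a symplectic subspace). -/
theorem result (k : Type u) [Field k]
    (G : Type u) [Group G] [Finite G] (hG : (Nat.card G : k) ≠ 0)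
    (V : Type u) [AddCommGroup V] [Module k V] (ρ : Representation k G V)
    (ω : LinearMap.BilinForm k V) (hω : ω.Nondegenerate)
    (hinv : ∀ (g : G) (v w : V), ω (ρ g v) (ρ g w) = ω v w) :
    (ω.restrict ρ.invariants).Nondegenerate := by
  classical
  have := Fintype.ofFinite G
  have hG' : (Fintype.card G : k) ≠ 0 := by rwa [Nat.card_eq_fintype_card] at hG
  constructor
  all_goals
    intro v hv
    refine Subtype.ext ?_
    show (v : V) = 0
  · refine hω.1 (v : V) fun w => ?_
    have h1 : ∀ g : G, ω (v : V) (ρ g w) = ω (v : V) w := fun g => by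
      conv_lhs => rw [← v.2 g]
      exact hinv g _ _
    have h2 : ∑ g : G, ρ g w ∈ ρ.invariants := fun h => by
      rw [map_sum, ← Equiv.sum_comp (Equiv.mulLeft h) (fun g => ρ g w)]
      simp
    have h3 := hv ⟨_, h2⟩
    change ω (v : V) (∑ g : G, ρ g w) = 0 at h3
    simp only [map_sum, h1, Finset.sum_const, nsmul_eq_mul, Finset.card_univ] at h3
    exact (mul_eq_zero.1 h3).resolve_left hG'
  · refine hω.2 (v : V) fun w => ?_
    have h1 : ∀ g : G, ω (ρ g w) (v : V) = ω w (v : V) := fun g => by
      conv_lhs => rw [← v.2 g]
      exact hinv g _ _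
    have h2 : ∑ g : G, ρ g w ∈ ρ.invariants := fun h => by
      rw [map_sum, ← Equiv.sum_comp (Equiv.mulLeft h) (fun g => ρ g w)]
      simp
    have h3 := hv ⟨_, h2⟩
    change ω (∑ g : G, ρ g w) (v : V) = 0 at h3
    simp only [map_sum, LinearMap.sum_apply, h1, Finset.sum_const, nsmul_eq_mul, Finset.card_univ] at h3
    exact (mul_eq_zero.1 h3).resolve_left hG' 

end Groth.Agent.S19443
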