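import Groth.Statements.S19444
import Groth.Agent.Lib.H7GammaMore

set_option autoImplicit false
universe u
open SymTen

namespace Groth.Agent.S19444

open scoped TensorProduct


/-- Linearised norm: let A be a commutative ring in which n! is invertible and R a commutative
A-algebra, free of rank n as an A-module. There is a unique A-algebra homomorphism from the
symmetric tensors TS^n_A(R) to A taking r ⊗ ⋯ ⊗ r to the norm of r for every r in R. (The published
corollary is stated for any free algebra of rank n; the construction printed for it divides by n!,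
and n! invertible is assumed here.) -/
theorem result (A : Type u) [CommRing A] (R : Type u) [CommRing R]
    [Algebra A R] [Module.Free A R] [Module.Finite A R] (n : ℕ) (hn : Module.finrank A R = n)
    (hfact : IsUnit ((Nat.factorial n : ℕ) : A)) :
    ∃! φ : SymTen.TS A R n →ₐ[A] A, ∀ r : R, φ (SymTen.tpow A R n r) = Algebra.norm A r := by
  classical
  open Groth.Agent in
  obtain ⟨φ, hφ, -⟩ := H7Gamma.isGammaD_of_isUnit (B := R) (d := n) hfact A (PolLaw.normLaw A R n hn)
  have htpow : ∀ r : R, (H7SymTen.tsLaw A R n).law.toFun' A ((1 : A) ⊗ₜ[A] r) = (1 : A) ⊗ₜ[A] SymTen.tpow A R n r := by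
    intro r
    have h1 := congrArg (fun L : PolLaw.MulLaw A R (⨂[A] _ : Fin n, R) n => L.law.toFun' A ((1 : A) ⊗ₜ[A] r))
      (H7SymTen.tsLaw_spec (A := A) (B := R) (d := n))
    simp only [SymTen.tpowLaw_tmul, one_pow] at h1
    change (SymTen.TS A R n).val.toLinearMap.lTensor A ((H7SymTen.tsLaw A R n).law.toFun' A ((1 : A) ⊗ₜ[A] r)) = _ at h1
    refine (TensorProduct.lid A (SymTen.TS A R n)).injective (Subtype.ext ?_)
    have h2 := congrArg (TensorProduct.lid A (⨂[A] _ : Fin n, R)) h1
    have e : ∀ y : A ⊗[A] SymTen.TS A R n, TensorProduct.lid A (⨂[A] _ : Fin n, R)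
        ((SymTen.TS A R n).val.toLinearMap.lTensor A y) = ((TensorProduct.lid A (SymTen.TS A R n) y : SymTen.TS A R n) : ⨂[A] _ : Fin n, R) := by
      intro y
      induction y using TensorProduct.induction_on with
      | zero => simp
      | tmul a b => simp
      | add y y' hy hy' => simp only [map_add, hy, hy', Subalgebra.coe_add]
    rw [e] at h2
    rw [h2, TensorProduct.lid_tmul, one_smul, TensorProduct.lid_tmul, one_smul]
    rfl
  refine ⟨φ, fun r => ?_, fun ψ hψ => ?_⟩
  · have h1 := congrArg (fun L : R →ₚₗ[A] A => L.toFun' A ((1 : A) ⊗ₜ[A] r)) hφ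
    change φ.toLinearMap.lTensor A ((H7SymTen.tsLaw A R n).law.toFun' A ((1 : A) ⊗ₜ[A] r)) = _ at h1
    rw [htpow, LinearMap.lTensor_tmul, PolLaw.normLaw_apply] at h1
    have e : Algebra.norm A ((1 : A) ⊗ₜ[A] r : A ⊗[A] R) = Algebra.norm A r := by
      rw [← Algebra.norm_eq_of_algEquiv (Algebra.TensorProduct.lid A R)]
      simp
    rw [e] at h1
    have h2 := congrArg (TensorProduct.lid A A) h1
    simpa using h2
  obtain ⟨v, hv⟩ := hfact.exists_right_inv
  have hsym : ∀ g : Fin n → R, (∑ p : Equiv.Perm (Fin n), PiTensorProduct.reindex A (fun _ : Fin n => R) p (PiTensorProduct.tprod A g)) =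
      ∑ T ∈ (Finset.univ : Finset (Fin n)).powerset, ((-1 : ℤ) ^ T.card) •
        ((SymTen.tpow A R n (∑ i ∈ Tᶜ, g i) : SymTen.TS A R n) : ⨂[A] _ : Fin n, R) := by
    intro g
    have hexp : ∀ T : Finset (Fin n), ((SymTen.tpow A R n (∑ i ∈ Tᶜ, g i) : SymTen.TS A R n) : ⨂[A] _ : Fin n, R) =
        ∑ c : Fin n → Fin n, if Disjoint (Finset.univ.image c) T then PiTensorProduct.tprod A (fun i => g (c i)) else 0 := by
      intro T
      show PiTensorProduct.tprod A (fun _ : Fin n => ∑ i ∈ Tᶜ, g i) = _
      rw [MultilinearMap.map_sum_finset, ← Finset.sum_filter]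
      refine Finset.sum_congr ?_ fun c _ => rfl
      ext c
      simp [Fintype.mem_piFinset, Finset.disjoint_left]
    simp only [hexp, ← zsmulAddGroupHom_apply, map_sum]
    simp only [zsmulAddGroupHom_apply, smul_ite, smul_zero]
    rw [Finset.sum_comm]
    have hc : ∀ c : Fin n → Fin n, (∑ T ∈ (Finset.univ : Finset (Fin n)).powerset,
        if Disjoint (Finset.univ.image c) T then ((-1 : ℤ) ^ T.card) • PiTensorProduct.tprod A (fun i => g (c i)) else 0) =
        if Function.Bijective c then PiTensorProduct.tprod A (fun i => g (c i)) else 0 := by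
      intro c
      rw [← Finset.sum_filter, ← Finset.sum_smul,
        show (Finset.univ : Finset (Fin n)).powerset.filter (fun T => Disjoint (Finset.univ.image c) T) = (Finset.univ.image c)ᶜ.powerset by
          ext T
          simp [Finset.subset_compl_comm, Finset.disjoint_left, Finset.subset_iff]
          exact ⟨fun h x hx y hy => h y (hy ▸ hx), fun h y hy => h hy y rfl⟩,
        Finset.sum_powerset_neg_one_pow_card]
      have hb : Function.Bijective c ↔ Finset.univ.image c = Finset.univ := by
        rw [← Finite.surjective_iff_bijective]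
        simp [Finset.eq_univ_iff_forall, Function.Surjective]
      by_cases h : Finset.univ.image c = Finset.univ
      · rw [if_pos ((Finset.compl_eq_empty_iff _).mpr h), if_pos (hb.mpr h), one_smul]
      · rw [if_neg (mt (Finset.compl_eq_empty_iff _).mp h), if_neg (mt hb.mp h), zero_smul]
    refine Eq.trans ?_ (Finset.sum_congr rfl fun c _ => hc c).symm
    rw [← Finset.sum_filter]
    refine Finset.sum_bij' (fun p _ => ((p⁻¹ : Equiv.Perm (Fin n)) : Fin n → Fin n))
      (fun c hc => (Equiv.ofBijective c (Finset.mem_filter.mp hc).2)⁻¹)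
      (fun p _ => Finset.mem_filter.mpr ⟨Finset.mem_univ _, (p⁻¹).bijective⟩) (fun c _ => Finset.mem_univ _)
      (fun p _ => ?_) (fun c _ => ?_) fun p _ => ?_
    · rw [inv_eq_iff_eq_inv]; ext i; rfl
    · rw [inv_inv]; rfl
    · rw [PiTensorProduct.reindex_tprod]; rfl
  refine AlgHom.ext fun y => ?_
  have hspan : ∀ z : ⨂[A] _ : Fin n, R, (∑ p : Equiv.Perm (Fin n), PiTensorProduct.reindex A (fun _ : Fin n => R) p z) ∈
      Submodule.span A (Set.range fun r : R => ((SymTen.tpow A R n r : SymTen.TS A R n) : ⨂[A] _ : Fin n, R)) := by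
    intro z
    induction z using PiTensorProduct.induction_on with
    | smul_tprod r g =>
      simp only [map_smul, ← Finset.smul_sum]
      refine Submodule.smul_mem _ _ ?_
      rw [hsym]
      exact Submodule.sum_mem _ fun T _ => zsmul_mem (Submodule.subset_span (Set.mem_range_self (∑ i ∈ Tᶜ, g i))) _
    | add a b ha hb => simpa [map_add, Finset.sum_add_distrib] using add_mem ha hb
  have hy : y ∈ Submodule.span A (Set.range fun r : R => SymTen.tpow A R n r) := by
    have h1 := Submodule.smul_mem _ v (hspan (y : ⨂[A] _ : Fin n, R))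
    rw [H7Gamma.sum_perm_of_mem_TS, ← Nat.cast_smul_eq_nsmul A, smul_smul, mul_comm, hv, one_smul] at h1
    have h2 : (y : ⨂[A] _ : Fin n, R) ∈ (Submodule.span A (Set.range fun r : R => SymTen.tpow A R n r)).map
        (SymTen.TS A R n).val.toLinearMap := by
      rw [Submodule.map_span, ← Set.range_comp]
      exact h1
    obtain ⟨w, hw, hwy⟩ := h2
    rwa [← show w = y from Subtype.ext hwy]
  refine LinearMap.eqOn_span (f := ψ.toLinearMap) (g := φ.toLinearMap) ?_ hy
  rintro _ ⟨r, rfl⟩
  show ψ _ = φ _
  rw [hψ]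
  have h1 := congrArg (fun L : R →ₚₗ[A] A => L.toFun' A ((1 : A) ⊗ₜ[A] r)) hφ
  change φ.toLinearMap.lTensor A ((H7SymTen.tsLaw A R n).law.toFun' A ((1 : A) ⊗ₜ[A] r)) = _ at h1
  rw [htpow, LinearMap.lTensor_tmul, PolLaw.normLaw_apply] at h1
  rw [show Algebra.norm A ((1 : A) ⊗ₜ[A] r : A ⊗[A] R) = Algebra.norm A r by
    rw [← Algebra.norm_eq_of_algEquiv (Algebra.TensorProduct.lid A R)]; simp] at h1
  have h2 := congrArg (TensorProduct.lid A A) h1
  simpa using h2.symm

end Groth.Agent.S19444
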