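import Groth.Statements.S19445
import Mathlib
import Groth.Agent.Lib.RegularLocalBasic

set_option autoImplicit false
universe u
open CAlg

namespace Groth.Agent.S19445
open IsLocalRing

/-- Local form: let k be a field and A a regular local k-algebra with maximal ideal M and residue field
k (k maps onto A/M); let a finite group G whose order is invertible in k act on A by k-algebra
automorphisms. Then A/J is a regular local ring, where J is the ideal generated by the elements g·a
− a (J defines the fixed-point subscheme, so the fixed locus of G is smooth at the point). The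
accompanying identification of its tangent space with the G-invariants of the tangent space of A is
not restated here. -/
theorem result (k : Type u) [Field k] (A : Type u) [CommRing A]
    [Algebra k A] [IsRegularLocalRing A]
    (hres : Function.Surjective (algebraMap k (IsLocalRing.ResidueField A)))
    (G : Type u) [Group G] [Finite G] [MulSemiringAction G A] [SMulCommClass G k A]
    (hG : (Nat.card G : k) ≠ 0) :
    IsRegularLocalRing (A ⧸ Ideal.span {x : A | ∃ (g : G) (a : A), x = g • a - a}) := by
  classical
  haveI := Fintype.ofFinite G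
  let m := maximalIdeal A
  let J : Ideal A := Ideal.span {x : A | ∃ (g : G) (a : A), x = g • a - a}
  have hgen : ∀ (g : G) (a : A), g • a - a ∈ J := fun g a => Ideal.subset_span ⟨g, a, rfl⟩
  have hgc : ∀ (g : G) (c : k), g • algebraMap k A c = algebraMap k A c := by
    intro g c; rw [Algebra.algebraMap_eq_smul_one, smul_comm, smul_one]
  have hgm : ∀ (g : G), ∀ x ∈ m, g • x ∈ m := by
    intro g x hx
    rw [mem_maximalIdeal, mem_nonunits_iff] at hx ⊢
    intro h
    apply hx
    have := h.map (MulSemiringAction.toRingHom G A g⁻¹)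
    simpa using this
  have hdec : ∀ a : A, ∃ c : k, a - algebraMap k A c ∈ m := by
    intro a
    obtain ⟨c, hc⟩ := hres (IsLocalRing.residue A a)
    refine ⟨c, ?_⟩
    rw [← residue_eq_zero_iff, map_sub, ← hc]
    exact sub_eq_zero.mpr rfl
  have hJm : J ≤ m := by
    rw [Ideal.span_le]
    rintro _ ⟨g, a, rfl⟩
    obtain ⟨c, hc⟩ := hdec a
    have : g • a - a = g • (a - algebraMap k A c) - (a - algebraMap k A c) := by rw [smul_sub, hgc]; ring
    rw [this]; exact m.sub_mem (hgm g _ hc) hc
  let E : A →ₗ[k] A := (Nat.card G : k)⁻¹ • ∑ g : G, DistribSMul.toLinearMap k A g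
  have hE : ∀ a, E a = (Nat.card G : k)⁻¹ • ∑ g : G, g • a := by
    intro a; simp [E]
  have hEg : ∀ (g : G) a, E (g • a) = E a := by
    intro g a; rw [hE, hE]; congr 1
    exact Fintype.sum_equiv (Equiv.mulRight g) _ _ (fun h => by simp [mul_smul])
  have hgE : ∀ (g : G) a, g • E a = E a := by
    intro g a; rw [hE, smul_comm, Finset.smul_sum]; congr 1
    exact Fintype.sum_equiv (Equiv.mulLeft g) _ _ (fun h => by simp [mul_smul])
  have hEfix : ∀ a, (∀ g : G, g • a = a) → E a = a := by
    intro a h; rw [hE]; simp only [h, Finset.sum_const, Finset.card_univ, ← Nat.card_eq_fintype_card]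
    rw [← Nat.cast_smul_eq_nsmul k, smul_smul, inv_mul_cancel₀ hG, one_smul]
  have hEJ : ∀ a, a - E a ∈ J := by
    intro a
    have : a - E a = - ((Nat.card G : k)⁻¹ • ∑ g : G, (g • a - a)) := by
      rw [hE, Finset.sum_sub_distrib, smul_sub, Finset.sum_const, Finset.card_univ, ← Nat.card_eq_fintype_card,
        ← Nat.cast_smul_eq_nsmul k, smul_smul, inv_mul_cancel₀ hG, one_smul, neg_sub]
    rw [this]
    exact J.neg_mem (Submodule.smul_of_tower_mem _ _ (J.sum_mem fun g _ => hgen g a))
  have hgJ : ∀ (g : G), ∀ x ∈ J, g • x ∈ J := by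
    intro g x hx
    induction hx using Submodule.span_induction with
    | mem x hx =>
      obtain ⟨h, a, rfl⟩ := hx
      have : g • (h • a - a) = ((g * h) • a - a) - (g • a - a) := by rw [smul_sub, mul_smul]; ring
      rw [this]; exact J.sub_mem (hgen _ _) (hgen _ _)
    | zero => rw [smul_zero]; exact J.zero_mem
    | add x y _ _ hx hy => rw [smul_add]; exact J.add_mem hx hy
    | smul a x _ hx => rw [smul_eq_mul, smul_mul']; exact J.mul_mem_left _ hx
  have hgmJ : ∀ (g : G), ∀ x ∈ m * J, g • x ∈ m * J := by
    intro g x hx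
    induction hx using Submodule.mul_induction_on' with
    | mem_mul_mem a ha b hb => rw [smul_mul']; exact Ideal.mul_mem_mul (hgm g a ha) (hgJ g b hb)
    | add x _ y _ hx hy => rw [smul_add]; exact add_mem hx hy
  have hEmJ : ∀ x ∈ m * J, E x ∈ m * J := by
    intro x hx; rw [hE]
    exact Submodule.smul_of_tower_mem _ _ (Submodule.sum_mem _ fun g _ => hgmJ g x hx)
  have hEJ0 : ∀ x ∈ J, E x ∈ m * J := by
    intro x hx
    induction hx using Submodule.span_induction with
    | mem x hx =>
      obtain ⟨h, a, rfl⟩ := hx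
      rw [map_sub, hEg, sub_self]; exact zero_mem _
    | zero => rw [map_zero]; exact zero_mem _
    | add x y _ _ hx hy => rw [map_add]; exact add_mem hx hy
    | smul a x hxJ hx =>
      obtain ⟨c, hc⟩ := hdec a
      have : a • x = c • x + (a - algebraMap k A c) * x := by rw [smul_eq_mul, Algebra.smul_def]; ring
      rw [this, map_add, map_smul]
      exact add_mem (Submodule.smul_of_tower_mem _ _ hx) (hEmJ _ (Ideal.mul_mem_mul hc hxJ))
  have hm2 : ∀ x ∈ m ^ 2, x - E x ∈ m * J := by
    intro x hx
    rw [pow_two] at hx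
    induction hx using Submodule.mul_induction_on' with
    | mem_mul_mem a ha b hb =>
      have hEm : ∀ a ∈ m, E a ∈ m := fun a ha => by
        rw [hE]; exact Submodule.smul_of_tower_mem _ _ (m.sum_mem fun g _ => hgm g a ha)
      have hr : a * b - E a * E b ∈ m * J := by
        have : a * b - E a * E b = b * (a - E a) + E a * (b - E b) := by ring
        rw [this]
        exact add_mem (Ideal.mul_mem_mul hb (hEJ a)) (Ideal.mul_mem_mul (hEm a ha) (hEJ b))
      have hfix : E (E a * E b) = E a * E b := hEfix _ (fun g => by rw [smul_mul', hgE, hgE])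
      have : a * b - E (a * b) = (a * b - E a * E b) - E (a * b - E a * E b) := by rw [map_sub, hfix]; ring
      rw [this]; exact sub_mem hr (hEmJ _ hr)
    | add x _ y _ hx hy =>
      rw [map_add, show x + y - (E x + E y) = (x - E x) + (y - E y) by ring]; exact add_mem hx hy
  have key : ∀ x ∈ J, x ∈ m ^ 2 → x ∈ m * J := by
    intro x hx hx2
    have := add_mem (hm2 x hx2) (hEJ0 x hx)
    simpa using this
  -- choose generators
  let s : Set (CotangentSpace A) := {v | ∃ (x : A) (hx : x ∈ J), v = m.toCotangent ⟨x, hJm hx⟩}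
  obtain ⟨b, hbs, hbspan, hbli⟩ := exists_linearIndependent (ResidueField A) s
  haveI : Finite b := hbli.finite
  haveI := Fintype.ofFinite b
  choose f hf hfv using fun v : b => hbs v.2
  have hreg := (Groth.Agent.RegLocal.quotient_of_linearIndependent f (fun v => hJm (hf v)) (by
    convert hbli using 1; funext v; exact (hfv v).symm)).1
  have hle : Ideal.span (Set.range f) ≤ J := Ideal.span_le.mpr (by rintro _ ⟨v, rfl⟩; exact hf v)
  have hsp : ∀ v ∈ Submodule.span (ResidueField A) b, ∃ (y : A) (hy : y ∈ Ideal.span (Set.range f)),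
      v = m.toCotangent ⟨y, hJm (hle hy)⟩ := by
    intro v hv
    induction hv using Submodule.span_induction with
    | mem v hv => exact ⟨f ⟨v, hv⟩, Ideal.subset_span ⟨_, rfl⟩, hfv ⟨v, hv⟩⟩
    | zero => exact ⟨0, zero_mem _, (map_zero m.toCotangent).symm⟩
    | add v w _ _ hv hw =>
      obtain ⟨y, hy, rfl⟩ := hv; obtain ⟨z, hz, rfl⟩ := hw
      exact ⟨y + z, add_mem hy hz, (map_add m.toCotangent _ _).symm⟩
    | smul c v _ hv =>
      obtain ⟨y, hy, rfl⟩ := hv
      obtain ⟨a, rfl⟩ := Ideal.Quotient.mk_surjective c
      exact ⟨a * y, Ideal.mul_mem_left _ a hy, (map_smul m.toCotangent a _).symm⟩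
  have hJle : J ≤ Ideal.span (Set.range f) := by
    refine Submodule.le_of_le_smul_of_le_jacobson_bot (IsNoetherian.noetherian J) (I := m)
      (le_of_eq (IsLocalRing.jacobson_eq_maximalIdeal ⊥ bot_ne_top).symm) ?_
    intro x hx
    have hv : m.toCotangent ⟨x, hJm hx⟩ ∈ Submodule.span (ResidueField A) b := by
      rw [hbspan]; exact Submodule.subset_span ⟨x, hx, rfl⟩
    obtain ⟨y, hy, hxy⟩ := hsp _ hv
    rw [Ideal.toCotangent_eq] at hxy
    have : x = y + (x - y) := by ring
    rw [this]
    exact Submodule.add_mem_sup hy (key _ (J.sub_mem hx (hle hy)) hxy)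
  rw [show Ideal.span {x : A | ∃ (g : G) (a : A), x = g • a - a} = Ideal.span (Set.range f) from le_antisymm hJle hle]
  exact hreg

end Groth.Agent.S19445
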