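import Groth.Statements.S19474
import Mathlib
import Groth.Agent.Lib.CompleteNoetherian
import Groth.Agent.Lib.RegularLocalSerre

set_option autoImplicit false
universe u
open CAlg

namespace Groth.Agent.S19474
open IsLocalRing
set_option linter.style.haveILetI false

/-- Let A be a Noetherian local ring and I an ideal of A different from A. Then the I-adic completion of
A has the same Krull dimension as A, and A is a regular local ring if and only if the I-adic
completion of A is a regular local ring (in particular the completion is then local and Noetherian).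
The case where I is the maximal ideal is the classical one; here I is any proper ideal. -/
theorem result (A : Type u) [CommRing A]
    [IsLocalRing A] [IsNoetherianRing A] (I : Ideal A) (hI : I ≠ ⊤) :
    ringKrullDim (AdicCompletion I A) = ringKrullDim A ∧
      (IsRegularLocalRing A ↔ IsRegularLocalRing (AdicCompletion I A)) := by
  have hfg : I.FG := IsNoetherian.noetherian I
  have hle : I ≤ maximalIdeal A := le_maximalIdeal hI
  set C := AdicCompletion I A
  haveI : IsNoetherianRing C := Groth.Agent.CplNoeth.isNoetherianRing_completion I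
  haveI := AdicCompletion.isMaximal_map_of_le I (maximalIdeal A) hle hfg
  haveI := AdicCompletion.isAdicComplete_self I hfg
  haveI : IsLocalRing C := by
    refine IsLocalRing.of_unique_max_ideal ⟨_, ‹((maximalIdeal A).map (algebraMap A C)).IsMaximal›, fun J hJ => ?_⟩
    have h1 : I.map (algebraMap A C) ≤ J :=
      (IsAdicComplete.le_jacobson_bot (I.map (algebraMap A C))).trans (sInf_le ⟨bot_le, hJ⟩)
    have h2 : (J.map (AdicCompletion.evalOneₐ I).toRingHom).IsMaximal :=
      haveI := hJ
      Ideal.IsMaximal.map_of_surjective_of_ker_le (AdicCompletion.evalOneₐ_surjective I)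
        ((AdicCompletion.ker_evalOneₐ_eq_map I hfg).le.trans h1)
    haveI : Nontrivial (A ⧸ I) := Ideal.Quotient.nontrivial_iff.2 hI
    haveI : IsLocalRing (A ⧸ I) := IsLocalRing.of_surjective' (Ideal.Quotient.mk I) Ideal.Quotient.mk_surjective
    have h3 := IsLocalRing.eq_maximalIdeal h2
    have h4 : (maximalIdeal A).map (algebraMap A C) ≤ J := by
      rw [Ideal.map_le_iff_le_comap]
      intro a ha
      have h5 : (AdicCompletion.evalOneₐ I).toRingHom (algebraMap A C a) ∈ J.map (AdicCompletion.evalOneₐ I).toRingHom := by
        rw [h3, ← IsLocalRing.map_maximalIdeal_of_surjective (Ideal.Quotient.mk I) Ideal.Quotient.mk_surjective]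
        exact (AlgHom.commutes (AdicCompletion.evalOneₐ I) a).symm ▸ Ideal.mem_map_of_mem _ ha
      replace h5 := (Ideal.mem_map_iff_of_surjective (AdicCompletion.evalOneₐ I).toRingHom (AdicCompletion.evalOneₐ_surjective I)).1 h5
      obtain ⟨j, hj, hje⟩ := h5
      have : algebraMap A C a - j ∈ RingHom.ker (AdicCompletion.evalOneₐ I).toRingHom := by
        rw [RingHom.mem_ker, map_sub, hje, sub_self]
      rw [AdicCompletion.ker_evalOneₐ_eq_map I hfg] at this
      simpa using J.add_mem (h1 this) hj
    exact (‹((maximalIdeal A).map (algebraMap A C)).IsMaximal›.eq_of_le hJ.ne_top h4).symm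
  have hm : maximalIdeal C = (maximalIdeal A).map (algebraMap A C) :=
    (IsLocalRing.eq_maximalIdeal (AdicCompletion.isMaximal_map_of_le I (maximalIdeal A) hle hfg)).symm
  haveI : (maximalIdeal C).LiesOver (maximalIdeal A) := ⟨by
    refine ((maximalIdeal.isMaximal A).eq_of_le (Ideal.comap_ne_top _ (maximalIdeal.isMaximal C).ne_top) ?_)
    rw [Ideal.under_def, hm]; exact Ideal.le_comap_map⟩
  haveI : IsLocalHom (algebraMap A C) := by
    refine ((IsLocalRing.local_hom_TFAE (algebraMap A C)).out 0 2 (by rfl) (by rfl)).2 ?_
    exact hm.ge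
  haveI : Algebra.HasGoingDown A C := inferInstance
  have hht := Ideal.height_eq_height_add_of_liesOver_of_hasGoingDown (maximalIdeal A) (maximalIdeal C)
  have h0 : ((maximalIdeal C).map (Ideal.Quotient.mk ((maximalIdeal A).map (algebraMap A C)))).height = 0 := by
    haveI : IsDomain (C ⧸ (maximalIdeal A).map (algebraMap A C)) := Ideal.Quotient.isDomain _
    rw [← hm, Ideal.map_quotient_self]
    exact Ideal.height_bot
  rw [h0, add_zero] at hht
  have hdim : ringKrullDim C = ringKrullDim A := by
    rw [← IsLocalRing.maximalIdeal_height_eq_ringKrullDim, ← IsLocalRing.maximalIdeal_height_eq_ringKrullDim, hht]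
  refine ⟨hdim, fun hA => ?_, fun hC => ?_⟩
  · refine IsRegularLocalRing.of_spanFinrank_maximalIdeal_le _ ?_
    rw [hdim, ← IsRegularLocalRing.spanFinrank_maximalIdeal, hm]
    obtain ⟨s, hs, hsc⟩ := Submodule.FG.exists_span_set_encard_eq_spanFinrank (maximalIdeal A).fg_of_isNoetherianRing
    have hfin : s.Finite := Set.encard_ne_top_iff.1 (by rw [hs]; exact ENat.natCast_ne_top _)
    rw [← hsc]
    refine Nat.cast_le.2 ?_
    rw [show Submodule.span A s = Ideal.span s from rfl, Ideal.map_span]
    refine (Submodule.spanFinrank_span_le_ncard_of_finite (hfin.image _)).trans ((Set.ncard_image_le hfin).trans ?_)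
    rw [show Ideal.span s = maximalIdeal A from hsc]
    have := hfin.encard_eq_coe_toFinset_card
    rw [hs, Nat.cast_inj] at this
    rw [Set.ncard_eq_toFinset_card s hfin, ← this]
  · exact Groth.Agent.RegLocal.regular_of_flat (S := C)

end Groth.Agent.S19474
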