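import Groth.Statements.S19477
import Mathlib

set_option autoImplicit false
universe u
open Variety

namespace Groth.Agent.S19477

/-- Let K be a field, B an integral K-algebra of finite type with fraction field F, and L a Galois
extension of K with group Γ = Aut_K(L). Then F ⊗_K L has only finitely many prime ideals and Γ,
acting through the second factor, permutes them transitively: for prime ideals P, Q there is γ ∈ Γ
with Q the preimage of P under id ⊗ γ. (The published statement is the geometric one, that the
points of an algebraic K-scheme X correspond to the Γ-orbits of points of X_L and that these orbits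
are finite; it reduces to this algebraic statement by passing to the fibre over a point, and the
algebraic statement is what is proved.) -/
theorem result (K B L : Type u) [Field K]
    [CommRing B] [IsDomain B] [Algebra K B] [Algebra.FiniteType K B] [Field L] [Algebra K L] [IsGalois K L] :
    Finite (PrimeSpectrum (TensorProduct K (FractionRing B) L)) ∧
      ∀ P Q : PrimeSpectrum (TensorProduct K (FractionRing B) L), ∃ γ : L ≃ₐ[K] L,
        Q.asIdeal = P.asIdeal.comap
          (Algebra.TensorProduct.map (AlgHom.id K (FractionRing B)) (γ : L →ₐ[K] L)) := by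
  classical
  let F := FractionRing B
  let A := TensorProduct K F L
  haveI : Algebra.EssFiniteType K F :=
    haveI : Algebra.EssFiniteType B F := Algebra.EssFiniteType.of_isLocalization F (nonZeroDivisors B)
    Algebra.EssFiniteType.comp K B F
  haveI : IsNoetherianRing A := by
    haveI : IsNoetherianRing (TensorProduct K L F) := Algebra.EssFiniteType.isNoetherianRing L _
    exact isNoetherianRing_of_ringEquiv _ (Algebra.TensorProduct.comm K L F).toRingEquiv
  haveI : Algebra.IsIntegral F A := inferInstance
  have hmax : ∀ P : Ideal A, P.IsPrime → P.IsMaximal := fun P hP => by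
    haveI := hP
    refine Ideal.isMaximal_of_isIntegral_of_isMaximal_comap (R := F) P ?_
    rcases Ideal.eq_bot_or_top (P.comap (algebraMap F A)) with h | h
    · rw [h]; exact Ideal.bot_isMaximal
    · exact absurd h (Ideal.IsPrime.ne_top inferInstance)
  haveI : Ring.KrullDimLE 0 A := Ring.krullDimLE_zero_iff.mpr hmax
  haveI : IsArtinianRing A := IsNoetherianRing.isArtinianRing_of_krullDimLE_zero
  refine ⟨inferInstance, fun P Q => ?_⟩
  let Ω := AlgebraicClosure F
  have hφ : ∀ P : PrimeSpectrum A, ∃ φ : A →ₐ[F] Ω, RingHom.ker φ.toRingHom = P.asIdeal := by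
    intro P
    haveI := hmax P.asIdeal P.isPrime
    letI := Ideal.Quotient.field P.asIdeal
    haveI : Algebra.IsIntegral F (A ⧸ P.asIdeal) :=
      Algebra.IsIntegral.of_surjective (Ideal.Quotient.mkₐ F P.asIdeal) Ideal.Quotient.mk_surjective
    let e : (A ⧸ P.asIdeal) →ₐ[F] Ω := IsAlgClosed.lift
    refine ⟨e.comp (Ideal.Quotient.mkₐ F P.asIdeal), ?_⟩
    ext a
    rw [RingHom.mem_ker]
    show e (Ideal.Quotient.mk P.asIdeal a) = 0 ↔ _
    rw [map_eq_zero_iff e e.toRingHom.injective, Ideal.Quotient.eq_zero_iff_mem]
  obtain ⟨φP, hP⟩ := hφ P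
  obtain ⟨φQ, hQ⟩ := hφ Q
  let σP : L →ₐ[K] Ω := (φP.restrictScalars K).comp Algebra.TensorProduct.includeRight
  let σQ : L →ₐ[K] Ω := (φQ.restrictScalars K).comp Algebra.TensorProduct.includeRight
  have hrange : ∀ x, σQ x ∈ σP.range := by
    intro x
    have hroot : ((minpoly K x).map (algebraMap K L) |>.map σP.toRingHom).IsRoot (σQ x) := by
      rw [Polynomial.IsRoot, Polynomial.map_map, show σP.toRingHom.comp (algebraMap K L) = algebraMap K Ω from σP.comp_algebraMap,
        Polynomial.eval_map_algebraMap, Polynomial.aeval_algHom_apply, minpoly.aeval, map_zero]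
    exact Polynomial.Splits.mem_range_of_isRoot (Normal.splits (inferInstance : Normal K L) x)
      (Polynomial.map_ne_zero (minpoly.ne_zero (Algebra.IsIntegral.isIntegral x))) hroot
  let γ₀ : L →ₐ[K] L := (AlgEquiv.ofInjective σP σP.toRingHom.injective).symm.toAlgHom.comp (σQ.codRestrict σP.range hrange)
  let γ : L ≃ₐ[K] L := AlgEquiv.ofBijective γ₀ (Algebra.IsAlgebraic.algHom_bijective γ₀)
  refine ⟨γ, ?_⟩
  have hγ : ∀ x, σP (γ x) = σQ x := fun x =>
    congrArg Subtype.val ((AlgEquiv.ofInjective σP σP.toRingHom.injective).apply_symm_apply (σQ.codRestrict σP.range hrange x))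
  have hcomp : ∀ a : A, φP (Algebra.TensorProduct.map (AlgHom.id K F) (γ : L →ₐ[K] L) a) = φQ a := by
    intro (a : TensorProduct K F L)
    induction a with
    | zero => simp
    | add a b ha hb => simp only [map_add, ha, hb]
    | tmul y l =>
      have h1 : ∀ (φ : A →ₐ[F] Ω) (y : F) (l : L), φ (y ⊗ₜ[K] l) = algebraMap F Ω y * φ ((1 : F) ⊗ₜ[K] l) := fun φ y l => by
        rw [← φ.commutes y, ← map_mul]
        congr 1
        show _ = (y ⊗ₜ[K] (1 : L)) * ((1 : F) ⊗ₜ[K] l)
        rw [Algebra.TensorProduct.tmul_mul_tmul, mul_one, one_mul]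
      rw [Algebra.TensorProduct.map_tmul, AlgHom.id_apply, h1 φP, h1 φQ]
      congr 1
      exact hγ l
  ext a
  rw [Ideal.mem_comap, ← hP, ← hQ, RingHom.mem_ker, RingHom.mem_ker]
  show φQ a = 0 ↔ φP _ = 0
  rw [hcomp]

end Groth.Agent.S19477
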