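import Groth.Statements.S19506
import Groth.Prelude.Def_CAlgX
import Groth.Prelude.Def_Found
import Groth.Agent.Lib.H2SmoothRegular
import Groth.Agent.Lib.H2CohenField
import Groth.Agent.Lib.H2PerfectSmooth
import Mathlib

set_option autoImplicit false
universe u
open CAlg

namespace Groth.Agent.S19506
open IsLocalRing
set_option backward.isDefEq.respectTransparency.types false

/-- (i) ⇔ (iii): let k be a field and A a complete local Noetherian k-algebra with residue field k (a
k-algebra map π : A → k with kernel the maximal ideal; A complete for the adic topology of its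
maximal ideal). Then A is regular if and only if A satisfies the infinitesimal lifting criterion:
for every Artinian local k-algebra R and every ideal J of R of square zero, every local k-algebra
homomorphism A → R/J (one carrying non-units to non-units) lifts to a k-algebra homomorphism A → R.
(The test algebras R range over one universe, that of A. The published criterion is worded for
arbitrary k-algebra homomorphisms A → R/J; it is stated here for local ones, the case the argument
establishes and the form in which the text itself restates the criterion afterwards. The published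
statement lists a third equivalent condition, A ≅ k[[x_1, …, x_d]].) -/
theorem result (k A : Type u) [Field k]
    [CommRing A] [Algebra k A] [IsLocalRing A] [IsNoetherianRing A]
    [IsAdicComplete (IsLocalRing.maximalIdeal A) A]
    (π : A →ₐ[k] k) (hπ : RingHom.ker π = IsLocalRing.maximalIdeal A) :
    IsRegularLocalRing A ↔
      ∀ (R : Type u) [CommRing R] [Algebra k R] [IsArtinianRing R] [IsLocalRing R] (J : Ideal R),
        J ^ 2 = ⊥ → ∀ f : A →ₐ[k] R ⧸ J, IsLocalHom (f : A →+* R ⧸ J) →
          ∃ g : A →ₐ[k] R, (Ideal.Quotient.mkₐ k J).comp g = f := by
  have hres : Function.Bijective ((residue A).comp (algebraMap k A)) := by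
    refine ⟨RingHom.injective _, fun y => ?_⟩
    obtain ⟨a, rfl⟩ := residue_surjective y
    refine ⟨π a, ?_⟩
    rw [RingHom.comp_apply, ← sub_eq_zero, ← map_sub, residue_eq_zero_iff, ← hπ, RingHom.mem_ker, map_sub, π.commutes]
    simp
  constructor
  · intro h R _ _ _ _ J hJ f hf
    haveI := h
    let e : k →ₐ[k] ResidueField A := { toRingHom := (residue A).comp (algebraMap k A), commutes' := fun _ => rfl }
    haveI : Algebra.FormallySmooth k (ResidueField A) := Algebra.FormallySmooth.of_equiv (AlgEquiv.ofBijective e hres)
    obtain ⟨n, hn⟩ := (isArtinianRing_iff_isNilpotent_maximalIdeal R).1 inferInstance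
    refine Groth.Agent.H2AdicFSField.adicFS_of_regular (k := k) R J hJ f ⟨n, fun x hx => ?_⟩
    have hle : (maximalIdeal A).map f.toRingHom ≤ (maximalIdeal R).map (Ideal.Quotient.mk J) := by
      rw [Ideal.map_le_iff_le_comap]
      intro y hy
      obtain ⟨c, hc⟩ := Ideal.Quotient.mk_surjective (f y)
      show f y ∈ (maximalIdeal R).map (Ideal.Quotient.mk J)
      rw [← hc]
      refine Ideal.mem_map_of_mem _ ((mem_maximalIdeal c).2 fun hu => (mem_maximalIdeal y).1 hy ?_)
      exact hf.map_nonunit y (by
        show IsUnit (f y)
        rw [← hc]; exact hu.map _)
    have h2 := Ideal.pow_right_mono hle n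
    rw [← Ideal.map_pow, ← Ideal.map_pow, hn, Ideal.zero_eq_bot, Ideal.map_bot] at h2
    exact h2 (Ideal.mem_map_of_mem f.toRingHom hx)
  · intro h
    exact Groth.Agent.H2AdicFSField.regular_of_lifting k k A hres h

end Groth.Agent.S19506
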