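import Groth.Statements.S19533
import Mathlib
import Groth.Agent.Lib.H8FibreTrans
import Groth.Agent.Lib.H8IdComp
import Groth.Agent.Lib.H8SmoothRed

set_option autoImplicit false
universe u
open CategoryTheory CategoryTheory.Limits MonoidalCategory CartesianMonoidalCategory MonObj GrpObj AlgebraicGeometry
open AbVar

namespace Groth.Agent.S19533

/-- Let k be an algebraically closed field, A an abelian variety over k (a k-group scheme whose
structure morphism is proper, smooth and geometrically connected) with unit point e, Y a scheme
separated over k and f : A → Y a morphism over k. Write F₀ for the connected component of e in the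
fibre f⁻¹(f(e)). Then the k-rational points of F₀ are stable under the group law: if k-points x and
y of A lie in F₀ then so do the product point x·y and the inverse point x⁻¹. (The published
statement is for Y a k-variety and concludes that F₀ with its reduced structure is an abelian
subvariety, together with the translation formula F_a = a + F₀; this row records the closure of
F₀(k) under multiplication and inversion, for Y merely separated over k.) -/
theorem result (k : Type u) [Field k] [IsAlgClosed k]
    (A : Over (Spec (CommRingCat.of k))) [GrpObj A] [IsProper A.hom] [Smooth A.hom] [GeometricallyConnected A.hom]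
    {Y : Scheme.{u}} (q : Y ⟶ Spec (CommRingCat.of k)) [IsSeparated q] (f : A.left ⟶ Y) (hf : f ≫ q = A.hom)
    (x y : 𝟙_ (Over (Spec (CommRingCat.of k))) ⟶ A)
    (hx : x.left (IsLocalRing.closedPoint k) ∈
      connectedComponentIn (f ⁻¹' {f (η[A].left (IsLocalRing.closedPoint k))}) (η[A].left (IsLocalRing.closedPoint k)))
    (hy : y.left (IsLocalRing.closedPoint k) ∈
      connectedComponentIn (f ⁻¹' {f (η[A].left (IsLocalRing.closedPoint k))}) (η[A].left (IsLocalRing.closedPoint k))) :
    (lift x y ≫ μ[A]).left (IsLocalRing.closedPoint k) ∈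
        connectedComponentIn (f ⁻¹' {f (η[A].left (IsLocalRing.closedPoint k))}) (η[A].left (IsLocalRing.closedPoint k)) ∧
      (x ≫ ι[A]).left (IsLocalRing.closedPoint k) ∈
        connectedComponentIn (f ⁻¹' {f (η[A].left (IsLocalRing.closedPoint k))}) (η[A].left (IsLocalRing.closedPoint k)) := by
  haveI : GeometricallyReduced A.hom := ⟨geometrically_iff_of_isClosedUnderIsomorphisms.mpr fun K _ s => by
    haveI : Smooth (pullback.snd A.hom s) := MorphismProperty.pullback_snd _ _ ‹Smooth A.hom›
    exact Groth.Agent.H8SmoothRed.isReduced (pullback.snd A.hom s)⟩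
  haveI : GeometricallyIrreducible A.hom := by
    haveI : ConnectedSpace A.left := GeometricallyConnected.connectedSpace_of_subsingleton A.hom
    have h := Groth.Agent.H8IdComp.geometricallyIrreducible A (𝟙 A.left) (by
      have hcc := Groth.Agent.H8IdComp.connectedComponent_eq A (Groth.Agent.H8Component.org A)
      rw [PreconnectedSpace.connectedComponent_eq_univ] at hcc
      exact Set.Subset.antisymm (fun z _ => hcc.le trivial) fun z _ => ⟨z, rfl⟩)
    rwa [Category.id_comp] at h
  haveI : GeometricallyIntegral A.hom :=
    GeometricallyIntegral.of_geometricallyReduced_of_geometricallyIrreducible A.hom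
  let Yo : Over (Spec (CommRingCat.of k)) := Over.mk q
  haveI : IsSeparated Yo.hom := ‹IsSeparated q›
  let fo : A ⟶ Yo := Over.homMk f hf
  have hcomp : connectedComponentIn (f ⁻¹' {f (η[A].left (IsLocalRing.closedPoint k))})
      (η[A].left (IsLocalRing.closedPoint k)) = Groth.Agent.H8FibreTrans.comp₀ fo := rfl
  rw [hcomp] at hx hy ⊢
  have key : (Groth.Agent.H8FibreTrans.trans x).hom.left '' Groth.Agent.H8FibreTrans.comp₀ fo =
      Groth.Agent.H8FibreTrans.comp₀ fo := by
    rw [Groth.Agent.H8FibreTrans.image_trans_eq fo x]
    have hx' : fo.left (x.left (IsLocalRing.closedPoint k)) =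
        fo.left (η[A].left (IsLocalRing.closedPoint k)) :=
      connectedComponentIn_subset (fo.left ⁻¹' {fo.left (η[A].left (IsLocalRing.closedPoint k))}) _ hx
    rw [hx']
    exact (connectedComponentIn_eq hx).symm
  refine ⟨key.le ⟨_, hy, ?_⟩, ?_⟩
  · exact (congrArg (fun p => p.left (IsLocalRing.closedPoint k))
      (Groth.Agent.H8FibreTrans.comp_trans y x))
  · obtain ⟨w, hw, hwe⟩ := key.ge (mem_connectedComponentIn
      (F := fo.left ⁻¹' {fo.left (η[A].left (IsLocalRing.closedPoint k))}) rfl)
    have h2 : (Groth.Agent.H8FibreTrans.trans x).hom.left ((x ≫ ι[A]).left (IsLocalRing.closedPoint k))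
        = η[A].left (IsLocalRing.closedPoint k) := by
      show (((x⁻¹ : 𝟙_ _ ⟶ A) ≫ (Groth.Agent.H8FibreTrans.trans x).hom).left) _ = _
      rw [Groth.Agent.H8FibreTrans.comp_trans, mul_inv_cancel, Hom.one_def,
        toUnit_unique (toUnit (𝟙_ _)) (𝟙 _), Category.id_comp]
    haveI : IsIso (Groth.Agent.H8FibreTrans.trans x).hom.left :=
      ((Over.forget _).mapIso (Groth.Agent.H8FibreTrans.trans x)).isIso_hom
    rw [← (Groth.Agent.H8FibreTrans.trans x).hom.left.isOpenEmbedding.injective (hwe.trans h2.symm)]
    exact hw

end Groth.Agent.S19533
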