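import Groth.Statements.S19546
import Mathlib

set_option autoImplicit false
set_option backward.isDefEq.respectTransparency.types false
set_option maxHeartbeats 1000000
set_option linter.all false
universe u v w
open scoped TensorProduct
open VBCurve

namespace Groth.Agent.S19546
open Groth.Agent

/-- Let A, B, C be complex vector spaces, A and B finite-dimensional, and ν : A ⊗ B → C a linear map
injective on each factor separately (b ↦ ν(a ⊗ b) is injective for every a ≠ 0 and a ↦ ν(a ⊗ b) is
injective for every b ≠ 0). Then the image of ν has dimension at least dim A + dim B - 1. (For A = 0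
the separate-injectivity hypothesis is empty and the inequality fails as soon as dim B ≥ 2, so A and
B are taken nonzero here, the case the inequality is about.) -/
theorem result
    (A : Type u) (B : Type v) (C : Type w) [AddCommGroup A] [Module ℂ A] [AddCommGroup B] [Module ℂ B]
    [AddCommGroup C] [Module ℂ C] [FiniteDimensional ℂ A] [FiniteDimensional ℂ B]
    [Nontrivial A] [Nontrivial B] (ν : A ⊗[ℂ] B →ₗ[ℂ] C)
    (hA : ∀ a : A, a ≠ 0 → Function.Injective (fun b : B => ν (a ⊗ₜ[ℂ] b)))
    (hB : ∀ b : B, b ≠ 0 → Function.Injective (fun a : A => ν (a ⊗ₜ[ℂ] b))) :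
    Module.finrank ℂ A + Module.finrank ℂ B ≤ Module.finrank ℂ (LinearMap.range ν) + 1 := by
  classical
  obtain ⟨a, ha⟩ : ∃ a, Module.finrank ℂ A = a + 1 := Nat.exists_eq_succ_of_ne_zero Module.finrank_pos.ne'
  obtain ⟨b, hb⟩ : ∃ b, Module.finrank ℂ B = b + 1 := Nat.exists_eq_succ_of_ne_zero Module.finrank_pos.ne'
  let ba := Module.finBasisOfFinrankEq ℂ A ha
  let bb := Module.finBasisOfFinrankEq ℂ B hb
  have hfd : FiniteDimensional ℂ (LinearMap.range ν) := LinearMap.finiteDimensional_range ν
  let bc := Module.finBasis ℂ (LinearMap.range ν)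
  let l : Fin (Module.finrank ℂ (LinearMap.range ν)) → MvPolynomial (Fin (a+1) × Fin (b+1)) ℂ :=
    fun k => ∑ ij, MvPolynomial.C (bc.repr (ν.rangeRestrict (ba ij.1 ⊗ₜ[ℂ] bb ij.2)) k) * MvPolynomial.X ij
  let kill : ℕ → (Fin (a+1) ⊕ Fin (b+1)) → MvPolynomial (Fin (a+1) ⊕ Fin (b+1)) ℂ := fun s =>
    Sum.elim (fun i => if a < (i:ℕ) + min s a then 0 else MvPolynomial.X (Sum.inl i))
      (fun j => if b < (j:ℕ) + (s - a) then 0 else MvPolynomial.X (Sum.inr j))
  let v : ℕ → MvPolynomial (Fin (a+1) × Fin (b+1)) ℂ →ₐ[ℂ] MvPolynomial (Fin (a+1) ⊕ Fin (b+1)) ℂ :=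
    fun s => MvPolynomial.aeval fun ij => kill s (Sum.inl ij.1) * kill s (Sum.inr ij.2)
  have hvX : ∀ s ij, v s (MvPolynomial.X ij) = kill s (Sum.inl ij.1) * kill s (Sum.inr ij.2) :=
    fun s ij => MvPolynomial.aeval_X _ ij
  let P : Ideal (MvPolynomial (Fin (a+1) × Fin (b+1)) ℂ) := RingHom.ker (v 0).toRingHom
  have hPprime : P.IsPrime := RingHom.ker_isPrime _
  have hstep : ∀ s t, s ≤ t → RingHom.ker (v s).toRingHom ≤ RingHom.ker (v t).toRingHom := by
    intro s t hst x hx
    have e : (MvPolynomial.aeval (kill t)).comp (v s) = v t := by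
      refine MvPolynomial.algHom_ext fun ij => ?_
      rw [AlgHom.comp_apply, hvX, hvX, map_mul]
      congr 1
      · simp only [kill, Sum.elim_inl]
        by_cases h : a < (ij.1:ℕ) + min s a
        · rw [if_pos h, map_zero, if_pos (by omega)]
        · rw [if_neg h, MvPolynomial.aeval_X, Sum.elim_inl]
      · simp only [kill, Sum.elim_inr]
        by_cases h : b < (ij.2:ℕ) + (s - a)
        · rw [if_pos h, map_zero, if_pos (by omega)]
        · rw [if_neg h, MvPolynomial.aeval_X, Sum.elim_inr]
    rw [RingHom.mem_ker] at hx ⊢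
    change v s x = 0 at hx
    change v t x = 0
    rw [← e, AlgHom.comp_apply, hx, map_zero]
  let Q : ℕ → Ideal (MvPolynomial (Fin (a+1) × Fin (b+1)) ℂ ⧸ P) := fun s =>
    RingHom.ker (Ideal.Quotient.lift P (v s).toRingHom fun x hx => hstep 0 s (Nat.zero_le s) hx)
  have hQp : ∀ s, (Q s).IsPrime := fun s => RingHom.ker_isPrime _
  have hQmk : ∀ s x, Ideal.Quotient.mk P x ∈ Q s ↔ v s x = 0 := fun s x => by
    simp [Q, RingHom.mem_ker, AlgHom.toRingHom_eq_coe]
  have hlt : ∀ s, s ≤ a + b → Q s < Q (s + 1) := by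
    intro s hs
    refine lt_of_le_of_ne ?_ ?_
    · intro y hy
      obtain ⟨x, rfl⟩ := Ideal.Quotient.mk_surjective y
      rw [hQmk] at hy ⊢
      exact hstep s (s+1) (Nat.le_succ s) hy
    · intro heq
      let ij : Fin (a+1) × Fin (b+1) :=
        if s < a then (⟨a - s, by omega⟩, 0) else (0, ⟨b - (s - a), by omega⟩)
      have h1 : Ideal.Quotient.mk P (MvPolynomial.X ij) ∈ Q (s+1) := by
        rw [hQmk, hvX]
        by_cases h : s < a
        · simp only [ij, if_pos h, kill, Sum.elim_inl]
          rw [if_pos (by omega), zero_mul]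
        · simp only [ij, if_neg h, kill, Sum.elim_inr]
          rw [if_pos (show b < (b - (s - a)) + (s + 1 - a) by omega), mul_zero]
      rw [← heq, hQmk, hvX] at h1
      refine absurd h1 (mul_ne_zero ?_ ?_)
      · by_cases h : s < a
        · simp only [ij, if_pos h, kill, Sum.elim_inl]
          rw [if_neg (by omega)]
          exact MvPolynomial.X_ne_zero _
        · simp only [ij, if_neg h, kill, Sum.elim_inl, Fin.coe_ofNat_eq_mod]
          rw [if_neg (by simp <;> omega)]
          exact MvPolynomial.X_ne_zero _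
      · by_cases h : s < a
        · simp only [ij, if_pos h, kill, Sum.elim_inr]
          rw [if_neg (by simp <;> omega)]
          exact MvPolynomial.X_ne_zero _
        · simp only [ij, if_neg h, kill, Sum.elim_inr]
          rw [if_neg (by omega)]
          exact MvPolynomial.X_ne_zero _
  have hht : ∀ s : ℕ, s ≤ a + b + 1 → (s : ℕ∞) ≤ (Q s).height := by
    intro s
    induction s with
    | zero => intro _; simp
    | succ s ih =>
      intro hs
      have := hQp s
      have := hQp (s+1)
      have h := Ideal.height_add_one_le_of_lt_of_isPrime (hlt s (by omega))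
      push_cast
      exact le_trans (by gcongr; exact ih (by omega)) h
  have htop : ∀ x, v (a+b+1) x = MvPolynomial.C (MvPolynomial.eval 0 x) := by
    intro x
    have : v (a+b+1) = (Algebra.ofId ℂ _).comp (MvPolynomial.aeval (fun _ => (0:ℂ))) := by
      refine MvPolynomial.algHom_ext fun ij => ?_
      rw [hvX, AlgHom.comp_apply, MvPolynomial.aeval_X, map_zero]
      simp only [kill, Sum.elim_inr]
      rw [if_pos (by omega), mul_zero]
    rw [this, AlgHom.comp_apply]
    rfl
  let J : Ideal (MvPolynomial (Fin (a+1) × Fin (b+1)) ℂ) := P ⊔ Ideal.span (Set.range l)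
  have hzero : ∀ z : Fin (a+1) × Fin (b+1) → ℂ, z ∈ MvPolynomial.zeroLocus ℂ J → z = 0 := by
    intro z hz
    by_contra hne
    obtain ⟨⟨i0, j0⟩, h0⟩ := Function.ne_iff.1 hne
    have hminor : ∀ i j, z (i, j) * z (i0, j0) = z (i, j0) * z (i0, j) := by
      intro i j
      have hm : (MvPolynomial.X (i,j) * MvPolynomial.X (i0,j0) - MvPolynomial.X (i,j0) * MvPolynomial.X (i0,j) : MvPolynomial (Fin (a+1) × Fin (b+1)) ℂ) ∈ J := by
        refine Ideal.mem_sup_left ?_
        rw [RingHom.mem_ker]
        change v 0 _ = 0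
        simp only [map_sub, map_mul, hvX]
        ring
      have := hz _ hm
      simp only [map_sub, map_mul, MvPolynomial.aeval_X, sub_eq_zero] at this
      exact this
    let X' : A := ∑ i, (z (i, j0) / z (i0, j0)) • ba i
    let Y' : B := ∑ j, z (i0, j) • bb j
    have hX : X' ≠ 0 := fun h => by
      have := Fintype.linearIndependent_iff.1 ba.linearIndependent _ h i0
      rw [div_self h0] at this
      exact one_ne_zero this
    have hY : Y' ≠ 0 := fun h => h0 (Fintype.linearIndependent_iff.1 bb.linearIndependent _ h j0)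
    have hXY : X' ⊗ₜ[ℂ] Y' = ∑ ij : Fin (a+1) × Fin (b+1), z ij • (ba ij.1 ⊗ₜ[ℂ] bb ij.2) := by
      rw [Fintype.sum_prod_type, TensorProduct.sum_tmul]
      refine Finset.sum_congr rfl fun i _ => ?_
      rw [TensorProduct.tmul_sum]
      refine Finset.sum_congr rfl fun j _ => ?_
      rw [TensorProduct.smul_tmul_smul]
      congr 1
      rw [div_mul_eq_mul_div, eq_comm, eq_div_iff h0, hminor]
    have hν : ν.rangeRestrict (X' ⊗ₜ[ℂ] Y') = 0 := by
      refine bc.repr.map_eq_zero_iff.1 (Finsupp.ext fun k => ?_)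
      have hk := hz (l k) (Ideal.mem_sup_right (Ideal.subset_span ⟨k, rfl⟩))
      simp only [l, map_sum, map_mul, MvPolynomial.aeval_C, MvPolynomial.aeval_X] at hk
      rw [hXY, map_sum, map_sum, Finsupp.finsetSum_apply, Finsupp.zero_apply, ← hk]
      refine Finset.sum_congr rfl fun ij _ => ?_
      simp [mul_comm]
    have h' : ν (X' ⊗ₜ[ℂ] Y') = ν (X' ⊗ₜ[ℂ] (0 : B)) := by
      have := congrArg Subtype.val hν
      simpa using this
    exact hY (hA X' hX h')
  have hmin : Q (a+b+1) ∈ (Ideal.span (Set.range (Ideal.Quotient.mk P ∘ l))).minimalPrimes := by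
    refine ⟨⟨hQp _, Ideal.span_le.2 ?_⟩, ?_⟩
    · rintro _ ⟨k, rfl⟩
      show Ideal.Quotient.mk P (l k) ∈ Q (a+b+1)
      rw [hQmk, htop]
      simp [l]
    · rintro R ⟨hR, hRl⟩ hle y hy
      obtain ⟨x, rfl⟩ := Ideal.Quotient.mk_surjective y
      rw [hQmk, htop, MvPolynomial.C_eq_zero] at hy
      have hxrad : x ∈ J.radical := by
        rw [← MvPolynomial.vanishingIdeal_zeroLocus_eq_radical (K := ℂ) J]
        intro z hz
        rw [hzero z hz]
        exact hy
      have : x ∈ (R.comap (Ideal.Quotient.mk P)) := by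
        refine (Ideal.IsPrime.comap (Ideal.Quotient.mk P) : (R.comap (Ideal.Quotient.mk P)).IsPrime).radical_le_iff.2 ?_ hxrad
        refine sup_le ?_ (Ideal.span_le.2 ?_)
        · intro t ht
          rw [Ideal.mem_comap, Ideal.Quotient.eq_zero_iff_mem.2 ht]
          exact R.zero_mem
        · rintro _ ⟨k, rfl⟩
          exact hRl (Ideal.subset_span ⟨k, rfl⟩)
      exact this
  have h1 := (hht (a+b+1) le_rfl).trans (Ideal.height_le_card_of_mem_minimalPrimes_span (Set.finite_range _) hmin)
  have h2 : (Set.range (Ideal.Quotient.mk P ∘ l)).ncard ≤ Module.finrank ℂ (LinearMap.range ν) := by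
    rw [← Set.image_univ]
    refine (Set.ncard_image_le (Set.finite_univ)).trans ?_
    simp
  have h3 : a + b + 1 ≤ (Set.range (Ideal.Quotient.mk P ∘ l)).ncard := by exact_mod_cast h1
  omega

end Groth.Agent.S19546
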