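import Groth.Statements.S19547
import Mathlib

set_option autoImplicit false
set_option backward.isDefEq.respectTransparency.types false
set_option maxHeartbeats 1000000
set_option linter.all false
universe u
open TensorProduct
open Desc

namespace Groth.Agent.S19547
open Groth.Agent

/-- Let A → A' be a faithfully flat homomorphism of commutative rings, M' an A'-module and φ : M' ⊗_A A'
→ A' ⊗_A M' an isomorphism of (A' ⊗_A A')-modules for the diagonal actions (x ⊗ y)(u ⊗ z) = xu ⊗ yz
and (x ⊗ y)(z ⊗ u) = xz ⊗ yu, satisfying the cocycle condition φ_13 = φ_23 ∘ φ_12 between the three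
pullbacks to A' ⊗_A A' ⊗_A A'. Here linearity over A' ⊗_A A' is stated on the generators x ⊗ 1 and 1
⊗ y, and the cocycle condition on pure tensors u ⊗ a ⊗ b: writing φ(u ⊗ a) = Σ a_i ⊗ u_i, it says Σ
a_i ⊗ φ(u_i ⊗ b) = Σ b_j ⊗ a ⊗ u'_j where φ(u ⊗ b) = Σ b_j ⊗ u'_j. Let M = {u ∈ M' : φ(u ⊗ 1) = 1 ⊗
u}, an A-submodule of M'. Then the canonical map λ : A' ⊗_A M → M', x ⊗ u ↦ xu, is an isomorphism. -/
theorem result (A A' : Type u) [CommRing A] [CommRing A']
    [Algebra A A'] [Module.FaithfullyFlat A A'] (M' : Type u) [AddCommGroup M'] [Module A M']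
    [Module A' M'] [IsScalarTower A A' M']
    (φ : M' ⊗[A] A' →ₗ[A] A' ⊗[A] M') (hφ : Function.Bijective φ)
    (h1 : ∀ (x : A') (u : M') (z : A'),
      φ ((x • u) ⊗ₜ[A] z) = LinearMap.rTensor M' (LinearMap.mulLeft A x) (φ (u ⊗ₜ[A] z)))
    (h2 : ∀ (y : A') (u : M') (z : A'),
      φ (u ⊗ₜ[A] (y * z)) = LinearMap.lTensor A' (Algebra.lsmul A A M' y) (φ (u ⊗ₜ[A] z)))
    (hcoc : ∀ (u : M') (a b : A'),
      LinearMap.lTensor A' φ (TensorProduct.assoc A A' M' A' (LinearMap.rTensor A' φ ((u ⊗ₜ[A] a) ⊗ₜ[A] b))) =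
        LinearMap.lTensor A' (TensorProduct.mk A A' M' a) (φ (u ⊗ₜ[A] b)))
    (M : Submodule A M') (hM : ∀ u : M', u ∈ M ↔ φ (u ⊗ₜ[A] (1 : A')) = (1 : A') ⊗ₜ[A] u) :
    Function.Bijective
      ((TensorProduct.lift (Algebra.lsmul A A M').toLinearMap) ∘ₗ (LinearMap.lTensor A' M.subtype)) := by
    let Θ : M' →ₗ[A] A' ⊗[A] M' := φ ∘ₗ (TensorProduct.mk A M' A').flip 1
    let μ : A' ⊗[A] M' →ₗ[A] M' := TensorProduct.lift (Algebra.lsmul A A M').toLinearMap
    have hΘi : Function.Injective Θ := by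
      have h := Module.FaithfullyFlat.tensorProduct_mk_injective (A := A) (B := A') M'
      intro x y hxy
      have h' := congrArg (TensorProduct.comm A M' A') (hφ.1 (show φ (x ⊗ₜ[A] (1 : A')) = φ (y ⊗ₜ[A] 1) from hxy))
      exact h h'
    let δ : M' →ₗ[A] A' ⊗[A] M' := Θ - TensorProduct.mk A A' M' 1
    have hMδ : Function.Exact M.subtype δ := by
      intro u
      rw [Set.mem_range]
      constructor
      · intro h
        exact ⟨⟨u, (hM u).2 (sub_eq_zero.1 h)⟩, rfl⟩
      · rintro ⟨v, rfl⟩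
        exact sub_eq_zero.2 ((hM v.1).1 v.2)
    have hex : Function.Exact (M.subtype.lTensor A') (δ.lTensor A') := Module.Flat.lTensor_exact A' hMδ
    have hassoc : ∀ z : A' ⊗[A] M', TensorProduct.assoc A A' M' A' (z ⊗ₜ[A] 1) = LinearMap.lTensor A' ((TensorProduct.mk A M' A').flip 1) z := by
      intro z; induction z using TensorProduct.induction_on with
      | zero => simp
      | tmul a v => simp
      | add a b ha hb => simp only [TensorProduct.add_tmul, map_add, ha, hb]
    have hΘ : ∀ u : M', ∃ w, M.subtype.lTensor A' w = Θ u := by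
      intro u
      refine (hex (Θ u)).1 ?_
      have h := hcoc u 1 1
      rw [LinearMap.rTensor_tmul, hassoc, ← LinearMap.comp_apply, ← LinearMap.lTensor_comp] at h
      rw [show δ = φ ∘ₗ (TensorProduct.mk A M' A').flip 1 - TensorProduct.mk A A' M' 1 from rfl, LinearMap.lTensor_sub,
        LinearMap.sub_apply, sub_eq_zero]
      exact h
    have hret : ∀ w : A' ⊗[A] M, Θ (μ (M.subtype.lTensor A' w)) = M.subtype.lTensor A' w := by
      intro w
      induction w using TensorProduct.induction_on with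
      | zero => simp
      | tmul a m =>
        have h1' := h1 a m.1 1
        simp only [(hM m.1).1 m.2, LinearMap.rTensor_tmul, LinearMap.mulLeft_apply, mul_one] at h1'
        simpa [Θ, μ] using h1'
      | add a b ha hb => simp only [map_add, ha, hb]
    refine ⟨fun w w' h => ?_, fun u => ?_⟩
    · refine Module.Flat.lTensor_preserves_injective_linearMap M.subtype M.injective_subtype ?_
      rw [← hret w, ← hret w']
      exact congrArg Θ h
    · obtain ⟨w, hw⟩ := hΘ u
      refine ⟨w, hΘi ?_⟩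
      show Θ (μ (M.subtype.lTensor A' w)) = Θ u
      rw [hret, hw]

end Groth.Agent.S19547
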