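import Groth.Statements.S19552
import Mathlib
import Groth.Agent.Lib.H6.BassCancel

set_option autoImplicit false
set_option backward.isDefEq.respectTransparency.types false
set_option maxHeartbeats 1000000
set_option linter.all false
universe u
open CAlg

namespace Groth.Agent.S19552
open Groth.Agent

/-- Let R be a Noetherian ring of Krull dimension d and P, Q finitely generated projective R-modules of
constant rank at every prime which have the same class in the Grothendieck group, i.e. are stably
isomorphic: P ⊕ R^m ≅ Q ⊕ R^m for some m. Then there is a positive integer N with P^N ≅ Q^N. (The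
two exponents in the published display are read as the same integer N; for modules of positive rank
an isomorphism between direct powers forces equal exponents.) -/
theorem result (R : Type u) [CommRing R] [IsNoetherianRing R]
    (d n : ℕ) (hdim : ringKrullDim R = d)
    (P Q : Type u) [AddCommGroup P] [Module R P] [Module.Finite R P] [Module.Projective R P]
    [AddCommGroup Q] [Module R Q] [Module.Finite R Q] [Module.Projective R Q]
    (hrk : ∀ p : PrimeSpectrum R, Module.rankAtStalk (R := R) P p = n)
    (hrk' : ∀ p : PrimeSpectrum R, Module.rankAtStalk (R := R) Q p = n)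
    (m : ℕ) (e : (P × (Fin m → R)) ≃ₗ[R] (Q × (Fin m → R))) :
    ∃ N : ℕ, 1 ≤ N ∧ Nonempty ((Fin N → P) ≃ₗ[R] (Fin N → Q)) := by
  rcases Nat.eq_zero_or_pos n with rfl | hn
  · have hP : ∀ (M : Type u) [AddCommGroup M] [Module R M] [Module.Finite R M] [Module.Projective R M],
        (∀ p : PrimeSpectrum R, Module.rankAtStalk (R := R) M p = 0) → Subsingleton M := by
      intro M _ _ _ _ h
      exact (Module.rankAtStalk_eq_zero_iff_subsingleton (R := R) (M := M)).1 (funext h)
    have := hP P hrk
    have := hP Q hrk'
    exact ⟨1, le_rfl, ⟨LinearEquiv.ofSubsingleton _ _⟩⟩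
  · refine ⟨d + 1, by omega, ?_⟩
    have hrkN : ∀ p : PrimeSpectrum R, Module.rankAtStalk (R := R) (Fin (d + 1) → P) p = (d + 1) * n := fun p => by
      rw [Module.rankAtStalk_pi, finsum_eq_sum_of_fintype]
      simp [hrk p]
    haveI : ∀ (M : Type u) [AddCommGroup M] [Module R M] [Module.Projective R M], Module.Projective R (Fin (d + 1) → M) :=
      fun M _ _ _ => Module.Projective.of_equiv (DFinsupp.linearEquivFunOnFintype (R := R) (M := fun _ : Fin (d + 1) => M))
    refine H6BassCancel.cancel R d ((d + 1) * n) hdim (by nlinarith) ((d + 1) * m) (Fin (d + 1) → P) (Fin (d + 1) → Q) hrkN ?_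
    let c : (Fin (d + 1) → Fin m → R) ≃ₗ[R] (Fin ((d + 1) * m) → R) :=
      (LinearEquiv.curry R R (Fin (d + 1)) (Fin m)).symm.trans (LinearEquiv.funCongrLeft R R finProdFinEquiv.symm)
    let sp : ∀ (M : Type u) [AddCommGroup M] [Module R M],
        (Fin (d + 1) → M × (Fin m → R)) ≃ₗ[R] (Fin (d + 1) → M) × (Fin ((d + 1) * m) → R) := fun M _ _ =>
      LinearEquiv.trans
        { toFun := fun f => (fun i => (f i).1, fun i => (f i).2)
          invFun := fun g i => (g.1 i, g.2 i)
          map_add' := fun _ _ => rfl
          map_smul' := fun _ _ => rfl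
          left_inv := fun _ => rfl
          right_inv := fun _ => rfl }
        ((LinearEquiv.refl R _).prodCongr c)
    exact (sp P).symm.trans ((LinearEquiv.piCongrRight fun _ => e).trans (sp Q))

end Groth.Agent.S19552
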