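import Groth.Statements.S19556
import Mathlib

set_option autoImplicit false
universe u
open CategoryTheory AlgebraicGeometry
open Mor

namespace Groth.Agent.S19556
open CategoryTheory CategoryTheory.Limits AlgebraicGeometry TopologicalSpace Opposite

/-- Let S be a scheme, p : X → S and q : Y → S schemes over S, and π : X → Y a finite surjective
morphism over S (π ≫ q = p). If X is separated over S then Y is separated over S. (The published
statement is about the quotient map X → X/G of a scheme by an action of a finite group scheme,
assumed to exist and then finite and surjective; this row keeps of it only a finite surjective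
S-morphism π, which is all the argument uses.) -/
theorem result {S X Y : Scheme.{u}} (p : X ⟶ S) (q : Y ⟶ S)
    (π : X ⟶ Y) (hπ : π ≫ q = p) [IsFinite π] [Surjective π] [IsSeparated p] :
    IsSeparated q := by
  subst hπ
  refine ⟨?_⟩
  let d := pullback.diagonal q
  have : UniversallyClosed (π ≫ d) := by
    have e : π ≫ d = pullback.diagonal (π ≫ q) ≫ pullback.map _ _ _ _ π π (𝟙 _) (by simp) (by simp) := by
      apply pullback.hom_ext <;> simp only [d, Category.assoc, pullback.diagonal_fst, pullback.diagonal_snd, pullback.lift_fst, pullback.lift_snd, pullback.lift_fst_assoc, pullback.lift_snd_assoc, pullback.diagonal_fst_assoc, pullback.diagonal_snd_assoc, Category.comp_id]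
    rw [e]
    have hπc : UniversallyClosed π := inferInstance
    have : UniversallyClosed (pullback.map (π ≫ q) (π ≫ q) q q π π (𝟙 _) (by simp) (by simp)) :=
      MorphismProperty.pullbackMap (P := @UniversallyClosed) hπc hπc rfl rfl
    infer_instance
  have := UniversallyClosed.of_comp_surjective π d
  exact IsClosedImmersion.of_isPreimmersion d (d.isClosedMap.isClosed_range)

end Groth.Agent.S19556
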