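import Groth.Statements.S19568
import Mathlib
import Groth.Prelude.Def_Hens2
import Groth.Agent.Lib.H2PairHenz

set_option autoImplicit false
universe u
open Hensel

namespace Groth.Agent.S19568
open TensorProduct
set_option maxHeartbeats 1000000
set_option synthInstance.maxHeartbeats 400000
set_option backward.isDefEq.respectTransparency.types false

/-- Let A be a ring, I an ideal of A and B an A-algebra which is a henselization of the pair (A, I).
Consider étale A-algebras A' for which the induced map A/I → A'/IA' is bijective. Then: (a) every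
such A' admits exactly one A-algebra map to B; (b) every element of B is the image of an element of
some such A' under an A-algebra map A' → B; (c) if an A-algebra map A' → B from such an algebra
sends an element s to 0, then there are another such algebra A'' and an A-algebra map A' → A''
sending s to 0. (All algebras are taken in the universe of A. Together with the filteredness of the
category of these algebras, (a), (b) and (c) express that B, with the maps of (a), is their
colimit.) -/
theorem result (A : Type u) [CommRing A] (I : Ideal A)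
    (B : Type u) [CommRing B] [Algebra A B] (hB : Hens2.IsPairHenselization A I B) :
    (∀ (A' : Type u) [CommRing A'] [Algebra A A'] [Algebra.Etale A A'],
        Function.Bijective (Ideal.quotientMap (I.map (algebraMap A A')) (algebraMap A A') Ideal.le_comap_map) →
          Nonempty (Unique (A' →ₐ[A] B))) ∧
    (∀ x : B, ∃ (A' : Type u) (_ : CommRing A') (_ : Algebra A A') (_ : Algebra.Etale A A'),
        Function.Bijective (Ideal.quotientMap (I.map (algebraMap A A')) (algebraMap A A') Ideal.le_comap_map) ∧
          ∃ (φ : A' →ₐ[A] B) (s : A'), φ s = x) ∧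
    (∀ (A' : Type u) [CommRing A'] [Algebra A A'] [Algebra.Etale A A'],
        Function.Bijective (Ideal.quotientMap (I.map (algebraMap A A')) (algebraMap A A') Ideal.le_comap_map) →
          ∀ (φ : A' →ₐ[A] B) (s : A'), φ s = 0 →
            ∃ (A'' : Type u) (_ : CommRing A'') (_ : Algebra A A'') (_ : Algebra.Etale A A''),
              Function.Bijective (Ideal.quotientMap (I.map (algebraMap A A'')) (algebraMap A A'') Ideal.le_comap_map) ∧
                ∃ ψ : A' →ₐ[A] A'', ψ s = 0) := by
  have hie := Groth.Agent.H2PairHenz.isIndEtale_of_isPH hB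
  have hcov := Groth.Agent.H2EtaleCover.covered_of_isIndEtale hie
  have hflat := Groth.Agent.H2PairHenz.flat_of_isPH hB
  have hq := Groth.Agent.H2PairHenz.quotient_bijective hB
  haveI := hB.1
  refine ⟨fun A' _ _ _ hA' => ?_, fun x => ?_, fun A' _ _ _ _ φ s hs => ?_⟩
  · let qa : (A ⧸ I) →ₐ[A] A' ⧸ I.map (algebraMap A A') :=
      Ideal.Quotient.liftₐ I (Algebra.ofId A _) fun a ha => Ideal.Quotient.eq_zero_iff_mem.2 (Ideal.mem_map_of_mem _ ha)
    let qb : (A ⧸ I) →ₐ[A] B ⧸ I.map (algebraMap A B) :=
      Ideal.Quotient.liftₐ I (Algebra.ofId A _) fun a ha => Ideal.Quotient.eq_zero_iff_mem.2 (Ideal.mem_map_of_mem _ ha)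
    have hqa : Function.Bijective qa := by
      convert hA' using 1
      funext z
      obtain ⟨a, rfl⟩ := Ideal.Quotient.mk_surjective z
      rfl
    have hbij := Groth.Agent.H4HenselPair.algHom_bijective_of_etale (A := A) B (I.map (algebraMap A B)) A'
    let τ : A' →ₐ[A] B ⧸ I.map (algebraMap A B) :=
      (qb.comp (AlgEquiv.ofBijective qa hqa).symm.toAlgHom).comp (Ideal.Quotient.mkₐ A _)
    have huniq : ∀ τ' : A' →ₐ[A] B ⧸ I.map (algebraMap A B), τ' = τ := fun τ' => AlgHom.ext fun z => by
      obtain ⟨q, hq'⟩ := hqa.2 (Ideal.Quotient.mk _ z)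
      obtain ⟨a, rfl⟩ := Ideal.Quotient.mk_surjective q
      have hz : z - algebraMap A A' a ∈ I.map (algebraMap A A') := Ideal.Quotient.eq.1 hq'.symm
      have h0 : τ' (z - algebraMap A A' a) = 0 := by
        have hle : I.map (algebraMap A A') ≤ RingHom.ker τ'.toRingHom := Ideal.map_le_iff_le_comap.2 fun i hi => by
          show τ' (algebraMap A A' i) = 0
          rw [τ'.commutes]; exact Ideal.Quotient.eq_zero_iff_mem.2 (Ideal.mem_map_of_mem _ hi)
        exact hle hz
      rw [map_sub, τ'.commutes, sub_eq_zero] at h0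
      rw [h0]
      show _ = qb ((AlgEquiv.ofBijective qa hqa).symm (Ideal.Quotient.mk _ z))
      rw [show (AlgEquiv.ofBijective qa hqa).symm (Ideal.Quotient.mk _ z) = Ideal.Quotient.mk I a from
        (AlgEquiv.symm_apply_eq _).2 hq'.symm]
      rfl
    obtain ⟨φ, hφ⟩ := hbij.2 τ
    exact ⟨⟨⟨φ⟩, fun ψ => hbij.1 ((huniq _).trans hφ.symm)⟩⟩
  · obtain ⟨X, _, _, _, f, hf⟩ := hcov [x]
    obtain ⟨x', hx'⟩ := hf x (List.mem_singleton_self _)
    obtain ⟨X', _, _, _, ψ, f', hψ, hbij⟩ := Groth.Agent.H2PairHenz.exists_shrink hB f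
    exact ⟨X', inferInstance, inferInstance, inferInstance, hbij, f', ψ x', (AlgHom.congr_fun hψ x').trans hx'⟩
  · obtain ⟨X, _, _, _, g, f, hgf, hgs⟩ := Groth.Agent.H2IndEtale.kill_one hcov hflat φ s hs
    obtain ⟨X', _, _, _, ψ, f', hψ, hbij⟩ := Groth.Agent.H2PairHenz.exists_shrink hB f
    exact ⟨X', inferInstance, inferInstance, inferInstance, hbij, ψ.comp g, by rw [AlgHom.comp_apply, hgs, map_zero]⟩

end Groth.Agent.S19568
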