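import Groth.Statements.S19571
import Mathlib.AlgebraicGeometry.Morphisms.UniversallyOpen
import Mathlib.AlgebraicGeometry.Morphisms.Flat

set_option autoImplicit false
set_option linter.all false
universe u
open CategoryTheory AlgebraicGeometry
open EtaPt

namespace Groth.Agent.S19571

/-- Let f : Y → X be a morphism of schemes which is flat, surjective and locally of finite presentation.
Then every affine open U of X is covered by affine opens V each of which is the image f(W) of some
affine open W of Y; stated pointwise: for every x ∈ U there are an affine open V of X with x ∈ V ≤ U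
and an affine open W of Y with f(W) = V as sets. (For such V and W the induced ring map Γ(V) → Γ(W)
is then faithfully flat.) -/
theorem result
    {X Y : Scheme.{u}} (f : Y ⟶ X) [Flat f] [Surjective f] [LocallyOfFinitePresentation f]
    (U : X.affineOpens) (x : X) (hx : x ∈ (U : X.Opens)) :
    ∃ V : X.affineOpens, x ∈ (V : X.Opens) ∧ (V : X.Opens) ≤ (U : X.Opens) ∧
      ∃ W : Y.affineOpens, f.base '' ((W : Y.Opens) : Set Y) = ((V : X.Opens) : Set X) := by
  obtain ⟨y, rfl⟩ := f.surjective x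
  obtain ⟨_, ⟨W₀, hW₀, rfl⟩, hy, hle⟩ := Y.isBasis_affineOpens.exists_subset_of_mem_open
    (show y ∈ ((f ⁻¹ᵁ (U : X.Opens)) : Set Y) from hx) (f ⁻¹ᵁ (U : X.Opens)).2
  let O : X.Opens := ⟨f.base '' (W₀ : Set Y), f.isOpenMap _ W₀.2⟩
  obtain ⟨g, hgle, hxg⟩ := U.2.exists_basicOpen_le (V := O) ⟨f.base y, ⟨y, hy, rfl⟩⟩ hx
  have hW : IsAffineOpen (W₀ ⊓ f ⁻¹ᵁ X.basicOpen g) := by
    rw [Scheme.preimage_basicOpen, ← Y.basicOpen_res _ (homOfLE (fun z hz => hle hz)).op]
    exact hW₀.basicOpen _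
  refine ⟨X.affineBasicOpen g, hxg, X.basicOpen_le g, ⟨_, hW⟩, Set.Subset.antisymm ?_ fun z hz => ?_⟩
  · rintro _ ⟨z, hz, rfl⟩
    exact hz.2
  · obtain ⟨w, hw, rfl⟩ := hgle hz
    exact ⟨w, ⟨hw, hz⟩, rfl⟩

end Groth.Agent.S19571
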