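import Groth.Statements.S19574
import Mathlib

set_option autoImplicit false
universe u
open CategoryTheory MonoidalCategory
open Lie3Mod

namespace Groth.Agent.S19574

/-- Let R be a commutative ring and d ≥ 1. Let K be a chain complex of R-modules concentrated in degrees
0, …, d + 1, written … → 0 → P_{d+1} → P_d → … → P_1 → M with M = K_0, which is exact (so 0 →
P_{d+1} → … → P_1 → M → 0 is an exact sequence), such that P_1, …, P_d are flat R-modules and such
that for every ideal I of R the complex obtained by applying (R/I) ⊗_R − termwise is again exact.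
Then M is a flat R-module. (No flatness is assumed for P_{d+1}. The published lemma adds that for R
Noetherian it suffices to test prime ideals I; that refinement is not part of this statement.) -/
theorem result (R : Type u) [CommRing R]
    (d : ℕ) (hd : 1 ≤ d) (K : ChainComplex (ModuleCat.{u} R) ℕ)
    (hzero : ∀ i : ℕ, d + 1 < i → Limits.IsZero (K.X i))
    (hflat : ∀ i : ℕ, 1 ≤ i → i ≤ d → Module.Flat R (K.X i))
    (hK : K.Acyclic)
    (hbc : ∀ I : Ideal R,
      (((tensorLeft (ModuleCat.of R (R ⧸ I))).mapHomologicalComplex (ComplexShape.down ℕ)).obj K).Acyclic) :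
    Module.Flat R (K.X 0) := by
  have hex : ∀ (L : ChainComplex (ModuleCat.{u} R) ℕ), L.Acyclic → ∀ (i j k : ℕ),
      (ComplexShape.down ℕ).prev j = i → (ComplexShape.down ℕ).next j = k →
      ∀ x : L.X j, (L.d j k).hom x = 0 → ∃ y : L.X i, (L.d i j).hom y = x := by
    intro L hL i j k hi hk x hx
    have h := (HomologicalComplex.exactAt_iff' L i j k hi hk).1 (hL j)
    exact (ShortComplex.moduleCat_exact_iff _).1 h x hx
  have hsurj : Function.Surjective (K.d 1 0).hom := fun x =>
    hex K hK 1 0 0 (by simp) (by simp) x (by rw [K.shape 0 0 (by simp)]; rfl)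
  have hexact : Function.Exact (K.d 2 1).hom (K.d 1 0).hom := by
    intro x
    constructor
    · intro hx
      exact hex K hK 2 1 0 (by simp) (by simp) x hx
    · rintro ⟨y, rfl⟩
      have := K.d_comp_d 2 1 0
      exact congr(($this).hom y)
  have : Module.Flat R (K.X 1) := hflat 1 le_rfl hd
  rw [Module.Flat.iff_rTensor_injective']
  intro I
  rw [injective_iff_map_eq_zero]
  intro w hw
  obtain ⟨v, rfl⟩ := LinearMap.lTensor_surjective (↥I) hsurj w
  let μ : ∀ (M : ModuleCat.{u} R), TensorProduct R I M →ₗ[R] M := fun M =>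
    (TensorProduct.lid R M).toLinearMap ∘ₗ LinearMap.rTensor M I.subtype
  have hμ : ∀ {M N : ModuleCat.{u} R} (g : M ⟶ N) (z : TensorProduct R I M),
      μ N (LinearMap.lTensor (↥I) g.hom z) = g.hom (μ M z) := by
    intro M N g z
    induction z with
    | zero => simp
    | add a b ha hb => simp only [map_add, ha, hb]
    | tmul a b => simp [μ]
  have hv : (K.d 1 0).hom (μ _ v) = 0 := by
    rw [← hμ (K.d 1 0) v]
    change (TensorProduct.lid R _) (LinearMap.rTensor _ I.subtype _) = 0
    rw [hw, map_zero]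
  obtain ⟨n, hn⟩ := (hexact _).1 hv
  let q : R →ₗ[R] R ⧸ I := I.mkQ
  have hq0 : ∀ (M : ModuleCat.{u} R) (z : TensorProduct R I M), (1 : R ⧸ I) ⊗ₜ[R] μ M z = 0 := by
    intro M z
    induction z with
    | zero => simp
    | add a b ha hb => rw [map_add, TensorProduct.tmul_add, ha, hb, add_zero]
    | tmul a b =>
      simp only [μ, LinearMap.comp_apply, LinearMap.rTensor_tmul, LinearEquiv.coe_coe, TensorProduct.lid_tmul,
        Submodule.subtype_apply]
      rw [← TensorProduct.smul_tmul, Algebra.smul_def, mul_one,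
        show algebraMap R (R ⧸ I) (a : R) = 0 from Ideal.Quotient.eq_zero_iff_mem.2 a.2, TensorProduct.zero_tmul]
  have h1 : (LinearMap.lTensor (R ⧸ I) (K.d 2 1).hom) ((1 : R ⧸ I) ⊗ₜ[R] n) = 0 := by
    rw [LinearMap.lTensor_tmul, hn, hq0]
  obtain ⟨y, hy⟩ := hex _ (hbc I) 3 2 1 (by simp) (by simp) ((1 : R ⧸ I) ⊗ₜ[R] n) h1
  obtain ⟨y', rfl⟩ : ∃ y' : K.X 3, (1 : R ⧸ I) ⊗ₜ[R] y' = y := by
    clear hy
    induction y using TensorProduct.induction_on with
    | zero => exact ⟨0, TensorProduct.tmul_zero _ _⟩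
    | add a b ha hb =>
      obtain ⟨a', rfl⟩ := ha
      obtain ⟨b', rfl⟩ := hb
      exact ⟨a' + b', TensorProduct.tmul_add _ _ _⟩
    | tmul c b =>
      obtain ⟨r, rfl⟩ := Ideal.Quotient.mk_surjective c
      exact ⟨r • b, by rw [← TensorProduct.smul_tmul, Algebra.smul_def, mul_one]; rfl⟩
  have hy' : (1 : R ⧸ I) ⊗ₜ[R] (n - (K.d 3 2).hom y') = 0 := by
    rw [TensorProduct.tmul_sub, sub_eq_zero]
    exact hy.symm
  have hmem : n - (K.d 3 2).hom y' ∈ LinearMap.range (μ (K.X 2)) := by
    obtain ⟨z, hz⟩ := (rTensor_exact (K.X 2) (LinearMap.exact_subtype_mkQ I) (Submodule.mkQ_surjective _)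
      ((1 : R) ⊗ₜ[R] (n - (K.d 3 2).hom y'))).1 hy'
    refine ⟨z, ?_⟩
    change (TensorProduct.lid R _) (LinearMap.rTensor _ I.subtype z) = _
    rw [hz, TensorProduct.lid_tmul, one_smul]
  obtain ⟨t, ht⟩ := hmem
  have hinj : Function.Injective (μ (K.X 1)) :=
    (TensorProduct.lid R (K.X 1)).injective.comp
      (Module.Flat.rTensor_preserves_injective_linearMap I.subtype Subtype.val_injective)
  have hvt : v = LinearMap.lTensor (↥I) (K.d 2 1).hom t := by
    apply hinj
    rw [hμ (K.d 2 1) t, ht, map_sub, hn]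
    have := congr(($(K.d_comp_d 3 2 1)).hom y')
    simp only [ModuleCat.hom_comp, LinearMap.comp_apply, ModuleCat.hom_zero, LinearMap.zero_apply] at this
    rw [this, sub_zero]
  rw [hvt, ← LinearMap.comp_apply, ← LinearMap.lTensor_comp,
    show (K.d 1 0).hom ∘ₗ (K.d 2 1).hom = 0 from congr(($(K.d_comp_d 2 1 0)).hom), LinearMap.lTensor_zero,
    LinearMap.zero_apply]

end Groth.Agent.S19574
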