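import Groth.Statements.S19577
import Groth.Agent.Lib.H6.EtaMore

set_option autoImplicit false
set_option linter.all false
universe u
open EtaPt

namespace Groth.Agent.S19577

/-- Let f : A → B be a homomorphism of commutative rings, each with only finitely many minimal primes.
Then M_η(f) : M_η(A) → M_η(B) is integral exactly when f is integral, and Spec M_η(f) is surjective
exactly when Spec f is. Here η is the field-endofunctor datum of the pointwise construction, M_η(A)
⊆ ∏_p F(k(p)) the subring attached to A with q_A : A → M_η(A), and M_η(f) : M_η(A) → M_η(B) the ring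
map induced by N_η(f), pinned here as the ring map g compatible with N_η(f) under the two subring
inclusions. -/
theorem result (η : EtaPt.FieldEndo.{u}) {A B : Type u} [CommRing A] [CommRing B]
    (hA : (minimalPrimes A).Finite) (hB : (minimalPrimes B).Finite) (f : A →+* B)
    (g : η.M A →+* η.M B) (hg : ∀ x : η.M A, ((g x : η.M B) : η.N B) = η.Nmap f (x : η.N A)) :
    (f.IsIntegral ↔ g.IsIntegral) ∧
      (Function.Surjective (PrimeSpectrum.comap f) ↔ Function.Surjective (PrimeSpectrum.comap g)) := by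
  have hcomp : g.comp (η.q A) = (η.q B).comp f := RingHom.ext fun a => Subtype.ext (by
    rw [RingHom.comp_apply, hg, Groth.Agent.H6.Eta.q_apply_coe, η.Nmap_t_apply]; rfl)
  have hqB := Groth.Agent.H6.Eta.q_isIntegral η hB
  have hqA := Groth.Agent.H6.Eta.q_isIntegral η hA
  refine ⟨⟨fun hf => ?_, fun hgi => ?_⟩, ?_⟩
  · refine RingHom.IsIntegral.tower_top (η.q A) g ?_
    rw [hcomp]; exact RingHom.IsIntegral.trans _ _ hf hqB
  · intro b
    obtain ⟨P, hP, hP0⟩ := (hcomp ▸ RingHom.IsIntegral.trans _ _ hqA hgi :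
      ((η.q B).comp f).IsIntegral) (η.q B b)
    rw [← Polynomial.hom_eval₂] at hP0
    obtain ⟨n, hn⟩ := (Groth.Agent.H6.Eta.t_eq_zero_iff η _).1 (congrArg Subtype.val hP0)
    exact ⟨P ^ n, hP.pow n, by rw [Polynomial.eval₂_pow, hn]⟩
  · have hA' := Groth.Agent.H6.Eta.comap_q_bij η hA
    have hB' := Groth.Agent.H6.Eta.comap_q_bij η hB
    have e : ∀ Q, PrimeSpectrum.comap (η.q A) (PrimeSpectrum.comap g Q) =
        PrimeSpectrum.comap f (PrimeSpectrum.comap (η.q B) Q) := fun Q => by
      rw [← PrimeSpectrum.comap_comp_apply, hcomp, PrimeSpectrum.comap_comp_apply]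
    constructor
    · intro hs Q
      obtain ⟨P, hP⟩ := hs (PrimeSpectrum.comap (η.q A) Q)
      obtain ⟨Q', rfl⟩ := hB'.2 P
      exact ⟨Q', hA'.1 (by rw [e, hP])⟩
    · intro hs p
      obtain ⟨Q, rfl⟩ := hA'.2 p
      obtain ⟨Q', rfl⟩ := hs Q
      exact ⟨_, (e Q').symm⟩

end Groth.Agent.S19577
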