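import Groth.Statements.S19578
import Groth.Agent.Lib.H6.EtaApps

set_option autoImplicit false
set_option linter.all false
universe u
open EtaPt

namespace Groth.Agent.S19578

/-- Let f : A → B be a homomorphism of commutative rings, each with only finitely many minimal primes,
and suppose the induced map M_η(f) : M_η(A) → M_η(B) is an isomorphism. Then Spec f is a bijection
between the prime ideals of B and of A, and for every prime q of B, with p = f⁻¹(q), there is a ring
map φ : k(q) → F(k(p)) whose composite with the residue field map k(p) → k(q) equals η_{k(p)}. Here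
η is the field-endofunctor datum of the pointwise construction, M_η(A) ⊆ ∏_p F(k(p)) the subring
attached to A with q_A : A → M_η(A), and M_η(f) : M_η(A) → M_η(B) the ring map induced by N_η(f),
pinned here as the ring map g compatible with N_η(f) under the two subring inclusions. -/
theorem result (η : EtaPt.FieldEndo.{u}) {A B : Type u} [CommRing A] [CommRing B]
    (hA : (minimalPrimes A).Finite) (hB : (minimalPrimes B).Finite) (f : A →+* B)
    (g : η.M A →+* η.M B) (hg : ∀ x : η.M A, ((g x : η.M B) : η.N B) = η.Nmap f (x : η.N A))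
    (hbij : Function.Bijective g) :
    Function.Bijective (PrimeSpectrum.comap f) ∧
      ∀ Q : PrimeSpectrum B,
        ∃ φ : Q.asIdeal.ResidueField →+* η.obj (PrimeSpectrum.comap f Q).asIdeal.ResidueField,
          φ.comp (Ideal.ResidueField.map (PrimeSpectrum.comap f Q).asIdeal Q.asIdeal f rfl) =
            η.eta (PrimeSpectrum.comap f Q).asIdeal.ResidueField := by
  let eg := RingEquiv.ofBijective g hbij
  have hcomp : g.comp (η.q A) = (η.q B).comp f := RingHom.ext fun a => Subtype.ext (by
    rw [RingHom.comp_apply, hg, Groth.Agent.H6.Eta.q_apply_coe, η.Nmap_t_apply]; rfl)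
  have hA' := Groth.Agent.H6.Eta.comap_q_bij η hA
  have hB' := Groth.Agent.H6.Eta.comap_q_bij η hB
  have hgb : Function.Bijective (PrimeSpectrum.comap g) := (PrimeSpectrum.comapEquiv eg).symm.bijective
  have e : ∀ Q, PrimeSpectrum.comap f (PrimeSpectrum.comap (η.q B) Q) =
      PrimeSpectrum.comap (η.q A) (PrimeSpectrum.comap g Q) := fun Q => by
    rw [← PrimeSpectrum.comap_comp_apply, ← hcomp, PrimeSpectrum.comap_comp_apply]
  refine ⟨⟨fun p p' hp => ?_, fun p => ?_⟩, fun Q => ?_⟩
  · obtain ⟨P, rfl⟩ := hB'.2 p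
    obtain ⟨P', rfl⟩ := hB'.2 p'
    rw [e, e] at hp
    rw [hgb.1 (hA'.1 hp)]
  · obtain ⟨P, rfl⟩ := hA'.2 p
    obtain ⟨P', rfl⟩ := hgb.2 P
    exact ⟨_, e P'⟩
  · obtain ⟨P, hP⟩ := hB'.2 Q
    subst hP
    set p := PrimeSpectrum.comap f (PrimeSpectrum.comap (η.q B) P)
    let ψ : B →+* η.obj p.asIdeal.ResidueField :=
      ((Groth.Agent.H6.Eta.evM η p).comp eg.symm.toRingHom).comp (η.q B)
    have hψ : ψ.comp f = Groth.Agent.H6.Eta.gpt η p := RingHom.ext fun a => by
      change Groth.Agent.H6.Eta.evM η p (eg.symm (η.q B (f a))) = _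
      rw [← RingHom.comp_apply (η.q B) f, ← hcomp, RingHom.comp_apply,
        show g (η.q A a) = eg (η.q A a) from rfl, RingEquiv.symm_apply_apply]
      rfl
    have hker : (PrimeSpectrum.comap (η.q B) P).asIdeal = RingHom.ker ψ := by
      have h1 := Groth.Agent.H6.Eta.prime_eq η hA (PrimeSpectrum.comap g P)
      rw [← e] at h1
      ext b
      change η.q B b ∈ P.asIdeal ↔ eg.symm (η.q B b) ∈ RingHom.ker (Groth.Agent.H6.Eta.evM η p)
      rw [← h1]
      change η.q B b ∈ P.asIdeal ↔ g (eg.symm (η.q B b)) ∈ P.asIdeal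
      rw [show g (eg.symm (η.q B b)) = η.q B b from eg.apply_symm_apply _]
    refine ⟨Groth.Agent.H6.Eta.liftP ψ _ hker, Ideal.ResidueField.ringHom_ext (RingHom.ext fun a => ?_)⟩
    exact ((congrArg _ (Ideal.ResidueField.map_algebraMap _ _ f rfl a)).trans
      (Groth.Agent.H6.Eta.liftP_algebraMap ψ _ hker _)).trans (RingHom.congr_fun hψ a)

end Groth.Agent.S19578
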