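import Groth.Statements.S1958
import Mathlib
import Groth.Prelude.Def_Hens2
import Groth.Agent.Lib.H2PairHenz

set_option autoImplicit false
universe u
open EtAlg

namespace Groth.Agent.S1958
open TensorProduct
set_option maxHeartbeats 1000000
set_option synthInstance.maxHeartbeats 400000
set_option backward.isDefEq.respectTransparency.types false

/-- Let (A, I) be a pair and B a henselization of it (universal henselian pair under (A, I)). Then B is
flat over A and for every n the map A/I^n -> B/I^n B is bijective. -/
theorem result (A : Type u) [CommRing A] (I : Ideal A) (B : Type u) [CommRing B]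
    [Algebra A B] (hB : Hens2.IsPairHenselization A I B) :
    Module.Flat A B ∧ ∀ n : ℕ, Function.Bijective
      (Ideal.quotientMap ((I ^ n).map (algebraMap A B)) (algebraMap A B) Ideal.le_comap_map) := by
  refine ⟨Groth.Agent.H2PairHenz.flat_of_isPH hB, fun n => ?_⟩
  rcases Nat.eq_zero_or_pos n with rfl | hn
  · haveI : Subsingleton (A ⧸ I ^ 0) := Ideal.Quotient.subsingleton_iff.2 (by simp)
    haveI : Subsingleton (B ⧸ (I ^ 0).map (algebraMap A B)) := Ideal.Quotient.subsingleton_iff.2 (by simp [Ideal.map_top])
    exact ⟨fun _ _ _ => Subsingleton.elim _ _, fun _ => ⟨0, Subsingleton.elim _ _⟩⟩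
  · exact Groth.Agent.H2PairHenz.quotient_bijective
      (Groth.Agent.H2PairHenz.isPH_of_radical (Ideal.radical_pow I hn.ne').symm hB)

end Groth.Agent.S1958
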