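import Groth.Statements.S1959
import Mathlib

set_option autoImplicit false
set_option backward.isDefEq.respectTransparency.types false
set_option maxHeartbeats 1000000
set_option linter.all false
universe u
open Polynomial
open EtAlg

namespace Groth.Agent.S1959
open Groth.Agent Polynomial

/-- Let I be an ideal of a ring A, A -> B an integral ring map and b an element of B whose image in B/IB
is idempotent. Then there are d ≥ 1 and a monic polynomial f over A with f(b) = 0 whose reduction
modulo I is x^d (x - 1)^d. -/
theorem result (A B : Type u) [CommRing A] [CommRing B] [Algebra A B]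
    [Algebra.IsIntegral A B] (I : Ideal A) (b : B)
    (hb : IsIdempotentElem (Ideal.Quotient.mk (I.map (algebraMap A B)) b)) :
    ∃ (f : A[X]) (d : ℕ), f.Monic ∧ 1 ≤ d ∧ aeval b f = 0 ∧
      f.map (Ideal.Quotient.mk I) = X ^ d * (X - 1) ^ d := by
  have hmem : b * b - b ∈ I.map (algebraMap A B) := by
    rw [← Ideal.Quotient.eq_zero_iff_mem, map_sub, map_mul, hb, sub_self]
  obtain ⟨p, hp, he, hc⟩ := exists_monic_aeval_eq_zero_forall_mem_of_mem_map hmem
  set d := p.natDegree + 1
  have hq : (p * X).Monic := hp.mul monic_X
  rcases subsingleton_or_nontrivial A with hA | hA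
  · exact ⟨1, 1, monic_one, le_rfl, Subsingleton.elim (h := Module.subsingleton A B) _ _, @Subsingleton.elim _ (Polynomial.subsingleton_iff_subsingleton.2 (Function.Surjective.subsingleton (Ideal.Quotient.mk_surjective (I := I)))) _ _⟩
  refine ⟨(p * X).comp (X * (X - 1)), d, ?_, by omega, ?_, ?_⟩
  · refine hq.comp (monic_X.mul (monic_X_sub_C 1)) ?_
    rw [← C_1, monic_X.natDegree_mul (monic_X_sub_C 1), natDegree_X, natDegree_X_sub_C]
    omega
  · rw [aeval_comp, map_mul, map_mul, map_sub, map_one, aeval_X, mul_sub, mul_one, he, zero_mul]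
  · have hpm : p.map (Ideal.Quotient.mk I) = X ^ p.natDegree := by
      ext i
      rw [coeff_map, coeff_X_pow]
      split_ifs with h
      · rw [h, hp.coeff_natDegree, map_one]
      · exact Ideal.Quotient.eq_zero_iff_mem.2 (hc i h)
    rw [Polynomial.map_comp, Polynomial.map_mul, hpm, Polynomial.map_X, Polynomial.map_mul, Polynomial.map_sub, Polynomial.map_X, Polynomial.map_one, ← pow_succ, X_pow_comp, mul_pow]

end Groth.Agent.S1959
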