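import Groth.Statements.S19590
import Mathlib

set_option autoImplicit false
open BddFin

namespace Groth.Agent.S19590

/-- For every n, the orders of the finite subgroups of GL_n(ℤ) are bounded: there is B such that every
finite subgroup of GL_n(ℤ) has at most B elements. -/
theorem result (n : ℕ) :
    ∃ B : ℕ, ∀ H : Subgroup (Matrix.GeneralLinearGroup (Fin n) ℤ), Finite H → Nat.card H ≤ B := by
  classical
  refine ⟨Fintype.card (Matrix.GeneralLinearGroup (Fin n) (ZMod 3)), fun H hH => ?_⟩
  let π := Matrix.GeneralLinearGroup.map (n := Fin n) (Int.castRingHom (ZMod 3))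
  have hpow : ∀ (M : Matrix (Fin n) (Fin n) ℤ) (q : ℕ), ∃ X, (1 + M) ^ q = 1 + (q : ℤ) • M + M * M * X := by
    intro M q
    induction q with
    | zero => exact ⟨0, by simp⟩
    | succ q ih =>
      obtain ⟨X, hX⟩ := ih
      refine ⟨(q : ℤ) • 1 + X + X * M, ?_⟩
      rw [pow_succ, hX]
      simp only [mul_add, add_mul, mul_one, one_mul, Nat.cast_succ, add_smul, one_smul, smul_mul_assoc,
        mul_smul_comm, mul_assoc]
      abel
  have hker : ∀ (h : Matrix.GeneralLinearGroup (Fin n) ℤ) (q : ℕ), q.Prime → h ^ q = 1 → π h = 1 → h = 1 := by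
    intro h q hq hhq hπ
    set M : Matrix (Fin n) (Fin n) ℤ := (h : Matrix (Fin n) (Fin n) ℤ) - 1 with hM
    have hh : (h : Matrix (Fin n) (Fin n) ℤ) = 1 + M := by rw [hM]; abel
    by_contra hne
    have hM0 : M ≠ 0 := fun h0 => hne (Units.ext (by rw [hh, h0, add_zero]; rfl))
    obtain ⟨X, hX⟩ := hpow M q
    rw [← hh, ← Units.val_pow_eq_pow_val, hhq, Units.val_one] at hX
    have h0 : (q : ℤ) • M + M * M * X = 0 := by
      rw [add_assoc] at hX
      exact (left_eq_add.1 hX)
    have hdiv : ∀ k : ℕ, ∃ A : Matrix (Fin n) (Fin n) ℤ, M = (3 : ℤ) ^ (k + 1) • A := by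
      intro k
      induction k with
      | zero =>
        refine ⟨Matrix.of fun i j => M i j / 3, ?_⟩
        ext i j
        have e : ((M i j : ℤ) : ZMod 3) = 0 := by
          have hij := congrArg (fun g : Matrix.GeneralLinearGroup (Fin n) (ZMod 3) =>
            (g : Matrix (Fin n) (Fin n) (ZMod 3)) i j) hπ
          simp only [π, Matrix.GeneralLinearGroup.map_apply, Units.val_one, eq_intCast] at hij
          rw [hM, Matrix.sub_apply, Int.cast_sub, hij, Matrix.one_apply, Matrix.one_apply]
          split_ifs <;> simp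
        simp only [Matrix.smul_apply, Matrix.of_apply, smul_eq_mul, zero_add, pow_one]
        exact (Int.mul_ediv_cancel' ((ZMod.intCast_zmod_eq_zero_iff_dvd _ 3).1 e)).symm
      | succ k ih =>
        obtain ⟨A, hA⟩ := ih
        suffices h3 : ∀ i j, (3 : ℤ) ∣ A i j by
          choose B hB using h3
          refine ⟨Matrix.of B, ?_⟩
          ext i j
          rw [hA]
          simp [hB i j, pow_succ]
          ring
        have hp : (3 : ℤ) ^ (k + 1) ≠ 0 := by positivity
        by_cases hq3 : q = 3
        · subst hq3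
          have hu : ((h : Matrix (Fin n) (Fin n) ℤ)) ^ 3 = 1 := by
            rw [← Units.val_pow_eq_pow_val, hhq, Units.val_one]
          rw [hh, hA] at hu
          have e : (3 : ℤ) ^ (k + 1 + 1) • (A + (3 : ℤ) ^ (k + 1) • (A * A) +
              (3 : ℤ) ^ (2 * k + 1) • (A * A * A)) = 0 := by
            rw [← sub_eq_zero] at hu
            rw [← hu, pow_three]
            simp only [mul_add, add_mul, mul_one, one_mul, smul_add, smul_smul, smul_mul_assoc,
              mul_smul_comm, mul_assoc]
            rw [show ((3 : ℤ) ^ (k + 1 + 1)) * 3 ^ (2 * k + 1) =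
              3 ^ (k + 1) * (3 ^ (k + 1) * 3 ^ (k + 1)) by ring]
            module
          rw [smul_eq_zero_iff_right (by positivity)] at e
          intro i j
          have eij := congrArg (fun N => N i j) e
          simp only [Matrix.add_apply, Matrix.smul_apply, Matrix.zero_apply, smul_eq_mul, pow_succ] at eij
          refine ⟨-(3 ^ k * (A * A) i j + 3 ^ (2 * k) * (A * A * A) i j), ?_⟩
          linear_combination eij
        · have e : (3 : ℤ) ^ (k + 1) • ((q : ℤ) • A + (3 : ℤ) ^ (k + 1) • (A * A * X)) = 0 := by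
            conv_rhs => rw [← h0, hA]
            simp only [smul_add, smul_smul, smul_mul_assoc, mul_smul_comm]
            module
          rw [smul_eq_zero_iff_right hp] at e
          intro i j
          have eij := congrArg (fun N => N i j) e
          simp only [Matrix.add_apply, Matrix.smul_apply, Matrix.zero_apply, smul_eq_mul, pow_succ] at eij
          have h3q : ¬ (3 : ℤ) ∣ (q : ℤ) := by
            rw [show (3 : ℤ) = ((3 : ℕ) : ℤ) by rfl, Int.natCast_dvd_natCast]
            intro hd
            exact hq3 ((Nat.prime_dvd_prime_iff_eq Nat.prime_three hq).1 hd).symm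
          have : (3 : ℤ) ∣ (q : ℤ) * A i j := ⟨-(3 ^ k * (A * A * X) i j), by linear_combination eij⟩
          exact (Int.prime_three.dvd_mul.1 this).resolve_left h3q
    obtain ⟨i, j, hij⟩ : ∃ i j, M i j ≠ 0 := by
      by_contra hc
      push_neg at hc
      exact hM0 (by ext i j; simp [hc i j])
    obtain ⟨A, hA⟩ := hdiv (M i j).natAbs
    have hd : (3 : ℤ) ^ ((M i j).natAbs + 1) ∣ M i j := ⟨A i j, by conv_lhs => rw [hA]; simp⟩
    have hle := Nat.le_of_dvd (Int.natAbs_pos.2 hij) (Int.natAbs_dvd_natAbs.2 hd)
    rw [Int.natAbs_pow] at hle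
    have : (M i j).natAbs < 3 ^ (M i j).natAbs := Nat.lt_pow_self (by norm_num)
    have h2 : (3 : ℕ) ^ (M i j).natAbs ≤ 3 ^ ((M i j).natAbs + 1) :=
      Nat.pow_le_pow_right (by norm_num) (by omega)
    simp only [show (3 : ℤ).natAbs = 3 from rfl] at hle
    omega
  have hinj : Function.Injective (π.comp H.subtype) := by
    rw [injective_iff_map_eq_one]
    intro g hg
    by_contra hne
    have ho : orderOf g ≠ 1 := fun h1 => hne (orderOf_eq_one_iff.1 h1)
    obtain ⟨q, hq, m, hm⟩ := Nat.exists_prime_and_dvd ho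
    have h1 : (g ^ m : H) = 1 := by
      apply Subtype.ext
      refine hker _ q hq ?_ ?_
      · rw [← Subgroup.coe_pow, ← pow_mul, mul_comm m q, ← hm, pow_orderOf_eq_one, Subgroup.coe_one]
      · rw [Subgroup.coe_pow, map_pow]
        simp only [MonoidHom.comp_apply, Subgroup.coe_subtype] at hg
        rw [hg, one_pow]
    have hdvd := orderOf_dvd_of_pow_eq_one h1
    have hpos : 0 < orderOf g := orderOf_pos g
    rw [hm] at hdvd hpos
    have hm0 : 0 < m := Nat.pos_of_mul_pos_left hpos
    have := Nat.le_of_dvd hm0 hdvd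
    nlinarith [hq.two_le]
  rw [← Nat.card_eq_fintype_card]
  exact Nat.card_le_card_of_injective _ hinj

end Groth.Agent.S19590
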