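import Groth.Statements.S19591
import Mathlib

set_option autoImplicit false
universe u v
open BddFin

namespace Groth.Agent.S19591

/-- Let K be a perfect field of characteristic 2, V a finite-dimensional K-vector space with dim V > 2
and q a quadratic form on V whose polar bilinear form is non-degenerate. Then q represents zero
non-trivially. (Non-degeneracy of the polar form, which is alternating in characteristic 2, forces
dim V to be even, as the published lemma notes.) -/
theorem result
    (K : Type u) [Field K] [CharP K 2] [PerfectField K]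
    (V : Type v) [AddCommGroup V] [Module K V] [FiniteDimensional K V]
    (hV : 2 < Module.finrank K V) (q : QuadraticForm K V)
    (hq : (QuadraticMap.polarBilin q).Nondegenerate) :
    ∃ v : V, v ≠ 0 ∧ q v = 0 := by
  classical
  haveI : PerfectRing K 2 := PerfectField.toPerfectRing 2
  obtain ⟨x, hx⟩ : ∃ x : V, x ≠ 0 := by
    have : Nontrivial V := Module.nontrivial_of_finrank_pos (R := K) (by omega)
    exact exists_ne 0
  by_cases hqx : q x = 0
  · exact ⟨x, hx, hqx⟩
  set L := LinearMap.ker (QuadraticMap.polarBilin q x)
  have hL : Submodule.span K {x} < L := by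
    refine lt_of_le_of_ne ?_ fun h => ?_
    · rw [Submodule.span_singleton_le_iff_mem, LinearMap.mem_ker, QuadraticMap.polarBilin_apply_apply, QuadraticMap.polar_self, two_smul]
      exact CharTwo.add_self_eq_zero _
    · have h1 := LinearMap.finrank_range_add_finrank_ker (QuadraticMap.polarBilin q x)
      have h2 : Module.finrank K (LinearMap.range (QuadraticMap.polarBilin q x)) ≤ 1 :=
        (Submodule.finrank_le _).trans_eq (Module.finrank_self K)
      rw [show LinearMap.ker (QuadraticMap.polarBilin q x) = Submodule.span K {x} from h.symm, finrank_span_singleton hx] at h1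
      omega
  obtain ⟨y, hy, hyx⟩ := SetLike.exists_of_lt hL
  obtain ⟨a, ha⟩ : ∃ a : K, a ^ 2 = q y := ⟨(frobeniusEquiv K 2).symm (q y), (frobeniusEquiv K 2).apply_symm_apply _⟩
  obtain ⟨b, hb⟩ : ∃ b : K, b ^ 2 = q x := ⟨(frobeniusEquiv K 2).symm (q x), (frobeniusEquiv K 2).apply_symm_apply _⟩
  refine ⟨a • x + b • y, fun h => ?_, ?_⟩
  · have hb0 : b ≠ 0 := fun h0 => hqx (by rw [← hb, h0]; simp)
    refine hyx (Submodule.mem_span_singleton.2 ⟨-(b⁻¹ * a), ?_⟩)
    rw [neg_smul, mul_smul, ← inv_smul_smul₀ hb0 y, eq_comm, ← add_eq_zero_iff_eq_neg, ← smul_add, add_comm, h, smul_zero]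
  · have hp : QuadraticMap.polar q x y = 0 := hy
    rw [QuadraticMap.map_add (⇑q), q.map_smul, q.map_smul, QuadraticMap.polar_smul_left, QuadraticMap.polar_smul_right, hp,
      smul_zero, smul_zero, add_zero, smul_eq_mul, smul_eq_mul, ← ha, ← hb]
    linear_combination CharTwo.add_self_eq_zero ((a * b) ^ 2)

end Groth.Agent.S19591
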