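import Groth.Statements.S19603
import Mathlib
import Groth.Agent.Lib.H8OrbitGIT

set_option autoImplicit false
universe u
open GIT

namespace Groth.Agent.S19603

/-- For the whole projective space U = P(V), let k be an algebraically closed field of arbitrary
characteristic and G = Spec A a linearly reductive affine algebraic group acting linearly on affine
ι-space, and let v be a vector. Then some invariant homogeneous polynomial of positive degree is
non-zero at v (the point of v is semistable) if and only if the origin is not in the closure of the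
orbit of v. -/
theorem result (k : Type u) [Field k] [IsAlgClosed k]
    (A : Type u) [CommRing A] [HopfAlgebra k A] [Algebra.FiniteType k A] (hG : HopfRep.IsLinearlyReductive k A)
    (ι : Type u) [Fintype ι] [HopfRep.Comod k A (MvPolynomial ι k)] [GLin.IsCoactAlg k A (MvPolynomial ι k)]
    (hlin : GLin.IsLinear k A ι) (v : ι → k) :
    GLin.IsSemistableVec k A v ↔
      ¬ GLin.InOrbitClosure k A (GLin.vecPt k ι v) (GLin.vecPt k ι (fun _ => (0 : k))) := by
  open Groth.Agent.H8Orbit in
  rw [inOrbitClosure_iff, GLin.IsSemistableVec, not_iff_not]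
  have h0 : GLin.vecPt k ι (fun _ => (0 : k)) = MvPolynomial.aeval (fun _ : ι => (0 : k)) := rfl
  constructor
  · intro hn
    have heq : ∀ F ∈ HopfRep.fixedPts k A (MvPolynomial ι k),
        GLin.vecPt k ι v F = GLin.vecPt k ι (fun _ => (0 : k)) F := by
      intro F hF
      rw [← MvPolynomial.sum_homogeneousComponent (φ := F), map_sum, map_sum]
      refine Finset.sum_congr rfl fun d _ => ?_
      rcases Nat.eq_zero_or_pos d with rfl | hd
      · simp [MvPolynomial.homogeneousComponent_zero]
      · have h1 := hn _ (Groth.Agent.H8Orbit.homogeneousComponent_fixed hlin hF d) d hd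
          (MvPolynomial.homogeneousComponent_isHomogeneous d F)
        rw [h0, GLin.vecPt, MvPolynomial.aeval_eq_eval, h1, MvPolynomial.aeval_eq_eval,
          MvPolynomial.eval_zero']
        exact ((MvPolynomial.homogeneousComponent_isHomogeneous d F).coeff_eq_zero (by simp; omega)).symm
    obtain ⟨z, hvz, h0z⟩ := Groth.Agent.H8Orbit.exists_common hG _ _ heq
    suffices hz : z = GLin.vecPt k ι (fun _ => (0 : k)) from hz ▸ hvz
    refine AlgHom.ext fun F => ?_
    have h2 := Groth.Agent.H8Orbit.cl_iff.mp h0z
      (show F - algebraMap k _ (GLin.vecPt k ι (fun _ => (0 : k)) F) ∈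
        RingHom.ker (Groth.Agent.H8Orbit.orb (A := A) (GLin.vecPt k ι (fun _ => (0 : k)))) by
        rw [RingHom.mem_ker, map_sub, Groth.Agent.H8Orbit.orb_zero hlin, AlgHom.commutes, sub_self])
    simpa [RingHom.mem_ker, sub_eq_zero] using h2
  · intro hc F hF d hd hhom
    have h1 : GLin.vecPt k ι (fun _ => (0 : k)) F = GLin.vecPt k ι v F :=
      Groth.Agent.H8Orbit.Cl.fixed hc hF
    have h2 : MvPolynomial.eval v F = MvPolynomial.eval (fun _ => (0 : k)) F := h1.symm
    rw [h2, MvPolynomial.eval_zero']
    exact hhom.coeff_eq_zero (by simp; omega)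

end Groth.Agent.S19603
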