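import Groth.Statements.S19611
import Mathlib

set_option autoImplicit false
universe u
open CategoryTheory AlgebraicGeometry
open CartMod

namespace Groth.Agent.S19611

/-- For a prime p and a scheme Y of characteristic p, write Y♭ for the scheme-theoretic image of the
absolute Frobenius F_Y : Y → Y, i.e. the closed subscheme of Y defined by the sections of O_Y whose
p-th power vanishes, and Y → Y♭ for the canonical morphism through which F_Y factors. Then Y → Y♭ is
an epimorphism of schemes: two morphisms g₁, g₂ from Y♭ to a scheme Z with equal composites Y → Y♭ →
Z are equal. (The published statement is for k-morphisms g₁, g₂ from Y♭ to a k-scheme Z over a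
perfect field k of characteristic p, compared after Frobenius twist through Y → (Y♭)'; this row asks
right-cancellation against morphisms to every scheme Z, which is equivalent to it for k-morphisms.) -/
theorem result (p : ℕ) [Fact p.Prime] (Y : Scheme.{u}) [FrobSch.IsCharP Y p] :
    Epi (FrobSch.frob Y p).toImage := by
  set F := FrobSch.frob Y p
  haveI : QuasiCompact F := ⟨fun U hU hU' => by simpa [F] using hU'⟩
  have hemb : Topology.IsInducing F.toImage.base := by
    have hF : Topology.IsInducing (F.toImage ≫ F.imageι).base := by
      rw [Scheme.Hom.toImage_imageι]; exact Topology.IsInducing.id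
    exact Topology.IsInducing.of_comp F.toImage.continuous F.imageι.continuous hF
  apply CategoryTheory.Functor.epi_of_epi_map (Scheme.forgetToLocallyRingedSpace)
  apply CategoryTheory.Functor.epi_of_epi_map (LocallyRingedSpace.forgetToSheafedSpace)
  apply SheafedSpace.epi_of_base_surjective_of_stalk_mono
  · intro y
    refine ⟨F.imageι y, F.imageι.isEmbedding.injective ?_⟩
    exact congrArg (fun g : Y ⟶ Y => g.base (F.imageι y)) F.toImage_imageι
  · intro x
    apply ConcreteCategory.mono_of_injective
    have hs := F.stalkFunctor_toImage_injective (F.toImage x)
    haveI := TopCat.Presheaf.stalkPushforward.stalkPushforward_iso_of_isInducing CommRingCat (f := F.toImage.base) hemb Y.presheaf x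
    exact (ConcreteCategory.bijective_of_isIso (Y.presheaf.stalkPushforward CommRingCat F.toImage.base x)).1.comp hs

end Groth.Agent.S19611
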