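import Groth.Statements.S19612
import Mathlib

set_option autoImplicit false
universe u
open scoped TensorProduct
open CartMod

namespace Groth.Agent.S19612

/-- Let k be a perfect field of characteristic p, W = W(k) the ring of Witt vectors of k, and A a
commutative W-algebra which is complete and separated for the p-adic topology (an adic W-algebra).
Then flatness of A over W is equivalent to flatness of A/p^nA = (W/p^nW) ⊗_W A over W/p^nW for every
n ≥ 1. -/
theorem result (p : ℕ) [Fact p.Prime] (k : Type u) [Field k]
    [CharP k p] [PerfectRing k p] (A : Type u) [CommRing A] [Algebra (WittVector p k) A]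
    [IsAdicComplete (Ideal.span {(p : WittVector p k)}) A] :
    Module.Flat (WittVector p k) A ↔
      ∀ n : ℕ, 1 ≤ n →
        Module.Flat (WittVector p k ⧸ (Ideal.span {(p : WittVector p k)} ^ n))
          ((WittVector p k ⧸ (Ideal.span {(p : WittVector p k)} ^ n)) ⊗[WittVector p k] A) := by
  constructor
  · intro h n _; infer_instance
  · intro h
    let W := WittVector p k
    have hpW : (p : W) ≠ 0 := WittVector.p_nonzero p k
    have key : ∀ a : A, (p : W) • a = 0 → a = 0 := by
      intro a ha
      refine IsHausdorff.haus (inferInstance : IsHausdorff (Ideal.span {(p : W)}) A) a fun n => ?_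
      rw [SModEq.zero]
      set R := W ⧸ Ideal.span {(p : W)} ^ (n + 1)
      haveI := h (n + 1) (Nat.succ_pos n)
      have h0 : ∑ i : Fin 1, (fun _ => (Ideal.Quotient.mk _ (p : W) : R)) i • (fun _ => (1 : R) ⊗ₜ[W] a) i = 0 := by
        simp only [Fin.sum_univ_one]
        rw [← Ideal.Quotient.algebraMap_eq, algebraMap_smul, ← TensorProduct.tmul_smul, ha, TensorProduct.tmul_zero]
      obtain ⟨l, c, y, hx, hc⟩ := Module.Flat.isTrivialRelation_of_sum_smul_eq_zero h0
      have hcm : ∀ j, ∃ d : W, c 0 j = Ideal.Quotient.mk _ ((p : W) ^ n * d) := by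
        intro j
        obtain ⟨w, hw⟩ := Ideal.Quotient.mk_surjective (c 0 j)
        have := hc j
        rw [Fin.sum_univ_one, ← hw, ← map_mul, Ideal.Quotient.eq_zero_iff_mem, Ideal.span_singleton_pow,
          Ideal.mem_span_singleton, pow_succ', mul_dvd_mul_iff_left hpW] at this
        obtain ⟨d, rfl⟩ := this
        exact ⟨d, hw.symm⟩
      choose d hd using hcm
      let e := TensorProduct.quotTensorEquivQuotSMul A (Ideal.span {(p : W)} ^ (n + 1))
      have hea : e ((1 : R) ⊗ₜ[W] a) = Submodule.Quotient.mk a := by
        show e (Ideal.Quotient.mk _ (1 : W) ⊗ₜ[W] a) = _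
        simp [e]
      have hmem : e ((1 : R) ⊗ₜ[W] a) ∈
          Submodule.map (Submodule.mkQ _) (Ideal.span {(p : W)} ^ n • (⊤ : Submodule W A)) := by
        rw [show ((1 : R) ⊗ₜ[W] a) = _ from hx 0, map_sum]
        refine Submodule.sum_mem _ fun j _ => ?_
        rw [hd j, ← Ideal.Quotient.algebraMap_eq, algebraMap_smul, map_smul, Submodule.map_smul'', mul_smul]
        refine Submodule.smul_mem_smul (by rw [Ideal.span_singleton_pow]; exact Ideal.mem_span_singleton_self _) ?_
        rw [Submodule.map_top, Submodule.range_mkQ]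
        trivial
      rw [hea, ← Submodule.mkQ_apply, ← Submodule.mem_comap, Submodule.comap_map_mkQ] at hmem
      exact (sup_le (Submodule.smul_mono_left (Ideal.pow_le_pow_right (I := Ideal.span {(p : W)}) n.le_succ)) (le_refl (Ideal.span {(p : W)} ^ n • (⊤ : Submodule W A)))) hmem
    rw [Module.Flat.flat_iff_torsion_eq_bot_of_isBezout, eq_bot_iff]
    rintro a ⟨⟨c, hc⟩, hca⟩
    obtain ⟨m, u, rfl⟩ := WittVector.exists_eq_pow_p_mul' c (nonZeroDivisors.ne_zero hc)
    have : ∀ m : ℕ, ∀ b : A, (p : W) ^ m • b = 0 → b = 0 := by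
      intro m
      induction m with
      | zero => simp
      | succ m ih => intro b hb; exact ih b (key _ (by rwa [smul_smul, ← pow_succ']))
    have hu : (u : W) • a = 0 := this m _ (by rw [smul_smul]; exact hca)
    exact (Submodule.mem_bot W).mpr ((Units.isUnit u).smul_eq_zero.mp hu)

end Groth.Agent.S19612
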