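import Groth.Statements.S19620
import Groth.Agent.Lib.H7SuppZero
import Mathlib

set_option autoImplicit false
universe u
open CategoryTheory CategoryTheory.Limits AlgebraicGeometry
attribute [local instance] HasDerivedCategory.standard
open DCoh

namespace Groth.Agent.S19620

attribute [local instance] HasDerivedCategory.standard


/-- Let f : X → Y be a proper morphism of schemes, with Rf_* the total right derived functor of f_* on
the unbounded derived categories of modules (assumed to exist), let Z ⊆ X be a closed subset and E
an object of D(O_X) whose cohomology sheaves are all supported in Z (every stalk at a point outside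
Z is trivial). Then the cohomology sheaves of Rf_*E are supported in the closed subset f(Z) of Y.
(The published statement, made in a setting where all schemes are separated and of finite type over
a regular base, takes f proper and perfect and concludes that Rf_* carries perfect complexes acyclic
outside Z to perfect complexes acyclic outside f(Z); the perfectness of Rf_*E is a separate result,
and the support inclusion, which is what the published proof establishes, holds for every proper f
and every E and is stated in that generality.) -/
theorem result {X Y : Scheme.{u}} (f : X ⟶ Y) [IsProper f]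
    [DCoh.HasRpush f] (Z : Set ↥X) (hZ : IsClosed Z) (E : DCoh.D X)
    (hE : ∀ i : ℤ, CohB1.support (DCoh.HD E i) ⊆ Z) (i : ℤ) :
    CohB1.support (DCoh.HD ((DCoh.Rpush f).obj E) i) ⊆ f.base '' Z := by
  intro y hy
  by_contra hn
  let W : Y.Opens := ⟨(f.base '' Z)ᶜ, (f.isClosedMap Z hZ).isOpen_compl⟩
  haveI := H7MV.hasRpush (f ∣_ W)
  obtain ⟨e⟩ := H7RpushLocal.nonempty_restrict_rpush f W
  haveI := H7RpushAdj.preservesLimits_rpush (f ∣_ W)
  haveI : (DCoh.Rpush (f ∣_ W)).PreservesZeroMorphisms := Functor.preservesZeroMorphisms_of_isRightAdjoint _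
  have h0 : Limits.IsZero ((DCoh.restrictD (f ⁻¹ᵁ W).ι).obj E) :=
    H7SuppZero.isZero_rD (f ⁻¹ᵁ W).ι E fun k x hx => x.2 ⟨x.1, hE k hx, rfl⟩
  have h1 : Limits.IsZero ((DCoh.restrictD W.ι).obj ((DCoh.Rpush f).obj E)) :=
    ((DCoh.Rpush (f ∣_ W)).map_isZero h0).of_iso (e.app E)
  have h2 : Limits.IsZero ((Scheme.Modules.restrictFunctor W.ι).obj (DCoh.HD ((DCoh.Rpush f).obj E) i)) :=
    ((DerivedCategory.homologyFunctor _ i).map_isZero h1).of_iso (H7QCoh.hdRestrict W.ι _ i).symm
  exact hy ((ModuleCat.isZero_iff_subsingleton.1 (LExtZero.isZero_stalk_of_restrict W.ι h2 (x := y) ⟨⟨y, hn⟩, rfl⟩)))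

end Groth.Agent.S19620
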