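import Groth.Statements.S19632
import Mathlib

set_option autoImplicit false
universe u
open DeRham

namespace Groth.Agent.S19632

/-- Let k be a field of characteristic zero and G_m = Spec k[t, t⁻¹] the multiplicative group. The
kernel of the differential d : k[t, t⁻¹] → Ω¹ of the de Rham complex of G_m consists of the
constants: for a Laurent polynomial f, df = 0 if and only if f lies in the image of k. Equivalently
H^0_dR(G_m/k) = k. (Characteristic zero is used: in characteristic p the element t^p is closed.) -/
theorem result (k : Type u) [Field k] [CharZero k]
    (f : LaurentPolynomial k) :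
    KaehlerDifferential.D k (LaurentPolynomial k) f = 0 ↔ f ∈ Set.range (algebraMap k (LaurentPolynomial k)) := by
  constructor
  · intro h
    let L : LaurentPolynomial k →ₗ[k] LaurentPolynomial k :=
      (AddMonoidAlgebra.basis ℤ k).constr k fun n => (n : k) • LaurentPolynomial.T n
    have hL : ∀ n : ℤ, L (LaurentPolynomial.T n) = (n : k) • LaurentPolynomial.T n := fun n => by
      simpa [AddMonoidAlgebra.basis_apply] using (AddMonoidAlgebra.basis ℤ k).constr_basis k (fun n => (n : k) • LaurentPolynomial.T n) n
    have hmul : ∀ a b, L (a * b) = a • L b + b • L a := by
      intro a b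
      induction a using LaurentPolynomial.induction_on' with
      | add p q hp hq => simp only [add_mul, map_add, hp, hq, smul_add, smul_eq_mul, mul_add]; ring
      | C_mul_T n r =>
        induction b using LaurentPolynomial.induction_on' with
        | add p q hp hq => simp only [mul_add, map_add, hp, hq, smul_add, smul_eq_mul, add_mul]; ring
        | C_mul_T m s =>
          rw [← LaurentPolynomial.smul_eq_C_mul, ← LaurentPolynomial.smul_eq_C_mul, smul_mul_smul_comm, ← LaurentPolynomial.T_add]
          simp only [map_smul, hL, smul_eq_mul, smul_mul_assoc, mul_smul_comm, smul_smul, ← LaurentPolynomial.T_add, add_comm m n, Int.cast_add, ← add_smul]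
          congr 1; ring
    have h0 : L f = 0 := by
      have := congrArg (Derivation.liftKaehlerDifferential (Derivation.mk' L hmul)) h
      simpa using this
    refine ⟨f.coeff 0, ?_⟩
    have hc : ∀ g : LaurentPolynomial k, ∀ n : ℤ, (L g).coeff n = (n : k) * g.coeff n := by
      intro g n
      induction g using LaurentPolynomial.induction_on' with
      | add p q hp hq => simp [map_add, hp, hq, mul_add]
      | C_mul_T m r =>
        rw [← LaurentPolynomial.smul_eq_C_mul, map_smul, hL]
        simp only [LaurentPolynomial.T, AddMonoidAlgebra.coeff_smul, AddMonoidAlgebra.coeff_single, Finsupp.smul_apply, Finsupp.single_apply, smul_eq_mul]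
        split_ifs with hmn
        · subst hmn; ring
        · simp only [mul_zero]
    ext n
    have := hc f n
    rw [h0] at this
    rw [LaurentPolynomial.algebraMap_apply, ← LaurentPolynomial.single_eq_C, AddMonoidAlgebra.coeff_single, Finsupp.single_apply]
    split_ifs with hn
    · subst hn; rfl
    · exact ((mul_eq_zero.1 this.symm).resolve_left (Int.cast_ne_zero.2 (Ne.symm hn))).symm
  · rintro ⟨a, rfl⟩
    exact Derivation.map_algebraMap _ a

end Groth.Agent.S19632
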