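import Mathlib
import Groth.Statements.S1965
import Groth.Agent.Lib.H4Hensel

set_option autoImplicit false
universe u
open Polynomial
open EtAlg

namespace Groth.Agent.S1965

/-- Let A be a complete Noetherian local domain of Krull dimension 1 with maximal ideal m, P a
polynomial over A and α a root of P which is not a root of the derivative P'. Then for every c there
is an n such that for every polynomial Q all of whose coefficients lie in m^n, the polynomial P + Q
has a root β with β - α in m^c. -/
theorem result (A : Type u) [CommRing A] [IsDomain A] [IsLocalRing A] [IsNoetherianRing A]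
    [IsAdicComplete (IsLocalRing.maximalIdeal A) A] (hdim : ringKrullDim A = 1) (P : A[X]) (α : A)
    (hα : P.eval α = 0) (hα' : (derivative P).eval α ≠ 0) (c : ℕ) :
    ∃ n : ℕ, ∀ Q : A[X], (∀ i, Q.coeff i ∈ IsLocalRing.maximalIdeal A ^ n) →
      ∃ β : A, (P + Q).eval β = 0 ∧ β - α ∈ IsLocalRing.maximalIdeal A ^ c := by
  haveI : HenselianRing A (IsLocalRing.maximalIdeal A) := IsAdicComplete.henselianRing A _
  set m := IsLocalRing.maximalIdeal A
  set d := (derivative P).eval α
  haveI : Ring.KrullDimLE 1 A := Ring.krullDimLE_iff.mpr hdim.le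
  have hrad : m ≤ (Ideal.span {d}).radical := by
    rw [Ideal.radical_eq_sInf]
    refine le_sInf fun q ⟨hdq, hq⟩ => ?_
    have hqb : q ≠ ⊥ := fun h => hα' (by simpa [h] using hdq (Ideal.mem_span_singleton_self d))
    exact (IsLocalRing.eq_maximalIdeal (hq.isMaximal_of_ne_bot hqb)).ge
  obtain ⟨N, hN⟩ := Ideal.exists_pow_le_of_le_radical_of_fg hrad (IsNoetherian.noetherian m)
  refine ⟨2 * N + (c + 1), fun Q hQ => ?_⟩
  have h1 : ∀ x ∈ m ^ (2 * N + (c + 1)), ∃ e ∈ m ^ (c + 1), x = d * d * e := by
    intro x hx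
    rw [pow_add, two_mul, pow_add] at hx
    have h2 := Ideal.mul_mono (Ideal.mul_mono hN hN) le_rfl hx
    rw [Ideal.span_singleton_mul_span_singleton, Ideal.mem_span_singleton_mul] at h2
    obtain ⟨e, he, rfl⟩ := h2
    exact ⟨e, he, rfl⟩
  obtain ⟨e0, he0, hQ0⟩ := h1 _ (H4Hensel.eval_mem_of_coeff_mem hQ α)
  obtain ⟨e1, he1, hQ1⟩ := h1 _ (H4Hensel.derivative_eval_mem hQ α)
  have hu : IsUnit (1 + d * e1) := by
    have : d * e1 ∈ m := Ideal.mul_mem_left _ _ (Ideal.pow_le_self (by omega) he1)
    refine IsLocalRing.notMem_maximalIdeal.mp fun h => (IsLocalRing.maximalIdeal.isMaximal A).ne_top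
      ((Ideal.eq_top_iff_one _).mpr ?_)
    simpa using sub_mem h this
  set T := taylor α (P + Q)
  let T2 := T.divX.divX
  have hT0 : T.coeff 0 = d * d * e0 := by rw [taylor_coeff_zero, eval_add, hα, hQ0, zero_add]
  have hT1 : T.coeff 1 = d * (1 + d * e1) := by
    rw [taylor_coeff_one, derivative_add, eval_add, hQ1]; ring
  let G : A[X] := C e0 + C (1 + d * e1) * X + X ^ 2 * T2.comp (C d * X)
  have hG0 : G.eval 0 ∈ m := by
    simp [G]; exact Ideal.pow_le_self (by omega) he0
  have hG1 : IsUnit (Ideal.Quotient.mk m (G.derivative.eval 0)) := by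
    have : G.derivative.eval 0 = 1 + d * e1 := by simp [G]
    rw [this]; exact hu.map _
  obtain ⟨y, hy, hym⟩ := H4Hensel.exists_root m G 0 hG0 hG1
  refine ⟨α + d * y, ?_, ?_⟩
  · have h3 : (P + Q).eval (α + d * y) = T.eval (d * y) := by rw [taylor_eval]; congr 1; ring
    have h4 : T = C (T.coeff 0) + X * (C (T.coeff 1) + X * T2) := by
      conv_lhs => rw [← X_mul_divX_add T, ← X_mul_divX_add T.divX, coeff_divX]
      ring
    rw [h3, h4, hT0, hT1]
    have h5 : e0 + (1 + d * e1) * y + y ^ 2 * T2.eval (d * y) = 0 := by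
      have := hy
      simpa [G, IsRoot, eval_comp] using this
    simp only [eval_add, eval_mul, eval_C, eval_X]
    linear_combination d * d * h5
  · have h5 : e0 + (1 + d * e1) * y + y ^ 2 * T2.eval (d * y) = 0 := by
      have := hy
      simpa [G, IsRoot, eval_comp] using this
    have hv : IsUnit (1 + d * e1 + y * T2.eval (d * y)) := by
      refine IsLocalRing.notMem_maximalIdeal.mp fun h => ?_
      have : y * T2.eval (d * y) ∈ m := Ideal.mul_mem_right _ _ (by simpa using hym)
      exact IsLocalRing.notMem_maximalIdeal.mpr hu (by simpa using sub_mem h this)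
    have hyc : y ∈ m ^ c := by
      refine (Ideal.unit_mul_mem_iff_mem _ hv).mp ?_
      have : (1 + d * e1 + y * T2.eval (d * y)) * y = -e0 := by linear_combination h5
      rw [this]
      exact neg_mem (Ideal.pow_le_pow_right (by omega) he0)
    simpa using Ideal.mul_mem_left _ d hyc

end Groth.Agent.S1965
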