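import Groth.Statements.S19651
import Mathlib

set_option autoImplicit false
universe u v
open AbVar

namespace Groth.Agent.S19651
theorem adjoint_reflect {k : Type u} [Field k] {V : Type v} [AddCommGroup V] [Module k V]
    (B : LinearMap.BilinForm k V) (M : V ≃ₗ[k] V) (hM : ∀ x y : V, B (M x) (M y) = B x y)
    (P : Polynomial k) : ∀ N, P.natDegree ≤ N → ∀ x z : V,
    B (Polynomial.aeval (M : V →ₗ[k] V) P x) (((M : V →ₗ[k] V) ^ N) z) =
      B x (Polynomial.aeval (M : V →ₗ[k] V) (P.reflect N) z) := by
  intro N hN
  have hpow : ∀ i (x z : V), B (((M : V →ₗ[k] V) ^ i) x) (((M : V →ₗ[k] V) ^ i) z) = B x z := by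
    intro i
    induction i with
    | zero => simp
    | succ i ih => intro x z; simp only [pow_succ, Module.End.mul_apply]; rw [ih]; exact hM x z
  apply Polynomial.induction_with_natDegree_le (fun P => ∀ x z : V,
    B (Polynomial.aeval (M : V →ₗ[k] V) P x) (((M : V →ₗ[k] V) ^ N) z) =
      B x (Polynomial.aeval (M : V →ₗ[k] V) (P.reflect N) z)) N ?_ ?_ ?_ P hN
  · intro x z; simp
  · intro i c _ hi x z
    rw [Polynomial.reflect_C_mul_X_pow, Polynomial.revAt_le hi]
    simp only [map_mul, Polynomial.aeval_C, Polynomial.aeval_X_pow, Module.End.mul_apply, Module.algebraMap_end_apply, map_smul, LinearMap.smul_apply, smul_eq_mul]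
    congr 1
    conv_lhs => rw [← Nat.add_sub_of_le hi, pow_add, Module.End.mul_apply]
    exact hpow i _ _
  · intro f g _ _ hf hg x z
    simp only [Polynomial.reflect_add, map_add, LinearMap.add_apply, hf, hg]


open Polynomial in
/-- Stated for an arbitrary invariant bilinear form, as the argument there allows. Let k be a field, V a
k-vector space with a bilinear form B and M a linear automorphism of V with B(Mx, My) = B(x, y) for
all x, y. If Q₁ and Q₂ are polynomials such that the reciprocal polynomial of Q₁ (its coefficient
list reversed) is coprime to Q₂, then every vector killed by a power of Q₁(M) is B-orthogonal to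
every vector killed by a power of Q₂(M). With Q₁ = Q₂ = Q this says that the generalized kernel of
Q(M) is totally isotropic whenever Q is coprime to its reciprocal polynomial, which for an
irreducible Q means that Q is not self-reciprocal. (The published statement takes M symplectic and
Q₁, Q₂ irreducible factors of the characteristic polynomial, with Q not self-reciprocal in the first
clause; its second clause asks Q₁ and Q₂ to be distinct and not reciprocal, which holds as proved
when this is read as saying that Q₂ is not the reciprocal of Q₁, but fails if it only means that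
neither is self-reciprocal, as the diagonal matrix with entries 2 and 1/2 preserving the standard
alternating form on k² shows; the coprimality of the reciprocal of Q₁ with Q₂, which is what the
published proof uses, is imposed here and covers both clauses.) -/
theorem result
    {k : Type u} [Field k] {V : Type v} [AddCommGroup V] [Module k V]
    (B : LinearMap.BilinForm k V) (M : V ≃ₗ[k] V)
    (hM : ∀ x y : V, B (M x) (M y) = B x y)
    (Q₁ Q₂ : k[X]) (h : IsCoprime Q₁.reverse Q₂)
    (x y : V)
    (hx : ∃ n : ℕ, (Polynomial.aeval (M : V →ₗ[k] V) Q₁ ^ n) x = 0)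
    (hy : ∃ n : ℕ, (Polynomial.aeval (M : V →ₗ[k] V) Q₂ ^ n) y = 0) :
    B x y = 0 := by
  obtain ⟨n, hn⟩ := hx
  obtain ⟨m, hm⟩ := hy
  rw [← map_pow] at hn hm
  have h0 : ∀ z, B x (Polynomial.aeval (M : V →ₗ[k] V) (Q₁ ^ n).reverse z) = 0 := by
    intro z
    rw [Polynomial.reverse, ← adjoint_reflect B M hM (Q₁ ^ n) _ le_rfl, hn, map_zero, LinearMap.zero_apply]
  have hrev : (Q₁ ^ n).reverse = Q₁.reverse ^ n := by
    clear hn h0
    induction n with
    | zero => rw [pow_zero, pow_zero, ← Polynomial.C_1, Polynomial.reverse_C]
    | succ n ih => rw [pow_succ, pow_succ, Polynomial.reverse_mul_of_domain, ih]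
  obtain ⟨a, b, hab⟩ := (IsCoprime.pow (m := n) (n := m) h)
  have hy' : y = Polynomial.aeval (M : V →ₗ[k] V) (Q₁ ^ n).reverse (Polynomial.aeval (M : V →ₗ[k] V) a y) := by
    have := congrArg (fun p => Polynomial.aeval (M : V →ₗ[k] V) p y) hab
    simp only [map_add, map_mul, map_one, LinearMap.add_apply, Module.End.mul_apply, Module.End.one_apply] at this
    rw [hm, map_zero, add_zero, ← hrev] at this
    rw [← Module.End.mul_apply, ← map_mul, mul_comm, map_mul, Module.End.mul_apply, this]
  rw [hy']; exact h0 _

end Groth.Agent.S19651
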