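import Groth.Statements.S19652
import Mathlib
import Groth.Agent.S19651

set_option autoImplicit false
universe u v
open AbVar

namespace Groth.Agent.S19652
theorem ker_range_orth {k : Type u} [Field k] {V : Type v} [AddCommGroup V] [Module k V]
    (B : LinearMap.BilinForm k V) (M : V ≃ₗ[k] V) (hM : ∀ x y : V, B (M x) (M y) = B x y)
    (Q : Polynomial k) (hQ : Associated Q Q.reverse) (n : ℕ) (x z : V)
    (hx : (Polynomial.aeval (M : V →ₗ[k] V) Q ^ n) x = 0) :
    B x ((Polynomial.aeval (M : V →ₗ[k] V) Q ^ n) z) = 0 := by
  have hrev : (Q ^ n).reverse = Q.reverse ^ n := by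
    clear hx
    induction n with
    | zero => rw [pow_zero, pow_zero, ← Polynomial.C_1, Polynomial.reverse_C]
    | succ n ih => rw [pow_succ, pow_succ, Polynomial.reverse_mul_of_domain, ih]
  obtain ⟨c, hc⟩ := (hQ.pow_pow (n := n)).symm
  rw [← map_pow] at hx ⊢
  rw [← hc, map_mul, Module.End.mul_apply, ← hrev, Polynomial.reverse,
    ← Groth.Agent.S19651.adjoint_reflect B M hM (Q ^ n) _ le_rfl, hx, map_zero, LinearMap.zero_apply]


open Polynomial in
/-- Stated for an arbitrary invariant nondegenerate bilinear form, as the argument there allows. Let k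
be a field, V a finite-dimensional k-vector space with a nondegenerate bilinear form B and M a
linear automorphism of V with B(Mx, My) = B(x, y) for all x, y. If Q is a polynomial associated to
its own reciprocal polynomial (its coefficient list reversed), then B restricted to the generalized
kernel of Q(M), the union of the kernels of the powers Q(M)^n, is nondegenerate. (The published
statement takes M symplectic and Q a self-reciprocal divisor of the characteristic polynomial;
divisibility plays no role and is not assumed.) -/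
theorem result
    {k : Type u} [Field k] {V : Type v} [AddCommGroup V] [Module k V] [FiniteDimensional k V]
    (B : LinearMap.BilinForm k V) (hB : B.Nondegenerate) (M : V ≃ₗ[k] V)
    (hM : ∀ x y : V, B (M x) (M y) = B x y)
    (Q : k[X]) (hQ : Associated Q Q.reverse) :
    (B.restrict (⨆ n : ℕ, LinearMap.ker (Polynomial.aeval (M : V →ₗ[k] V) Q ^ n))).Nondegenerate := by
  set f := Polynomial.aeval (M : V →ₗ[k] V) Q with hf
  obtain ⟨n, hn, hker⟩ := (f.eventually_isCompl_ker_pow_range_pow.and f.eventually_iSup_ker_pow_eq).exists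
  rw [hker]
  constructor
  · intro x hx
    apply Subtype.ext
    refine hB.1 x fun y => ?_
    obtain ⟨a, ha, b, ⟨z, rfl⟩, rfl⟩ := Submodule.mem_sup.mp (hn.sup_eq_top ▸ Submodule.mem_top : y ∈ _ ⊔ _)
    rw [map_add, ker_range_orth B M hM Q hQ n x.1 z x.2, add_zero]
    exact hx ⟨a, ha⟩
  · intro x hx
    apply Subtype.ext
    refine hB.2 x fun y => ?_
    obtain ⟨a, ha, b, ⟨z, rfl⟩, rfl⟩ := Submodule.mem_sup.mp (hn.sup_eq_top ▸ Submodule.mem_top : y ∈ _ ⊔ _)
    have : B ((f ^ n) z) x.1 = 0 := ker_range_orth B.flip M (fun a b => hM b a) Q hQ n x.1 z x.2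
    rw [map_add, LinearMap.add_apply, this, add_zero]
    exact hx ⟨a, ha⟩

end Groth.Agent.S19652
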