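import Groth.Statements.S1969
import Mathlib

set_option autoImplicit false
universe u
open EtAlg

namespace Groth.Agent.S1969


section helpers
open TensorProduct

theorem local_valuation {R : Type u} [CommRing R] [IsLocalRing R] (h : ∀ J : Ideal R, J.FG → Module.Flat R J) :
    ∃ _ : IsDomain R, ValuationRing R := by
  have hfree : ∀ J : Ideal R, J.FG → Module.Free R J := fun J hJ => by
    haveI := h J hJ
    haveI : Module.Finite R J := Module.Finite.of_fg hJ
    exact Module.free_of_flat_of_isLocalRing
  have hreg : ∀ a : R, a ≠ 0 → ∀ c, c * a = 0 → c = 0 := by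
    intro a ha c hc
    haveI := hfree (Ideal.span {a}) ⟨{a}, by simp⟩
    let b := Module.Free.chooseBasis R ↥(Ideal.span ({a} : Set R))
    let a' : ↥(Ideal.span ({a} : Set R)) := ⟨a, Ideal.mem_span_singleton_self a⟩
    haveI : Nontrivial ↥(Ideal.span ({a} : Set R)) := ⟨⟨a', 0, fun h0 => ha (congrArg Subtype.val h0)⟩⟩
    obtain ⟨i⟩ := b.index_nonempty
    obtain ⟨t, ht⟩ := Ideal.mem_span_singleton'.mp (b i).2
    have h1 : t • a' = b i := Subtype.ext ht
    have h2 : t * b.repr a' i = 1 := by
      have := congrArg (fun z => b.repr z i) h1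
      simpa using this
    have h3 : c * b.repr a' i = 0 := by
      have hca : c • a' = 0 := Subtype.ext hc
      have := congrArg (fun z => b.repr z i) hca
      simpa using this
    calc c = c * (t * b.repr a' i) := by rw [h2, mul_one]
      _ = t * (c * b.repr a' i) := by ring
      _ = 0 := by rw [h3, mul_zero]
  haveI hnzd : NoZeroDivisors R := ⟨fun {c a} hca => by
    by_cases ha : a = 0
    · exact Or.inr ha
    · exact Or.inl (hreg a ha c hca)⟩
  haveI hd : IsDomain R := NoZeroDivisors.to_isDomain R
  refine ⟨hd, ?_⟩
  haveI : IsBezout R := by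
    rw [IsBezout.iff_span_pair_isPrincipal]
    intro x y
    classical
    have hfg : (Ideal.span {x, y}).FG := ⟨{x, y}, by simp⟩
    haveI := hfree (Ideal.span {x, y}) hfg
    haveI : Module.Finite R ↥(Ideal.span ({x, y} : Set R)) := Module.Finite.of_fg hfg
    let b := Module.Free.chooseBasis R ↥(Ideal.span ({x, y} : Set R))
    haveI : Subsingleton (Module.Free.ChooseBasisIndex R ↥(Ideal.span ({x, y} : Set R))) := ⟨fun i j => by
      by_contra hij
      have h0 : ((b j : R)) • b i = ((b i : R)) • b j := Subtype.ext (mul_comm _ _)
      have := congrArg (fun z => b.repr z i) h0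
      simp [Finsupp.single_apply, Ne.symm hij] at this
      exact b.ne_zero j this⟩
    cases isEmpty_or_nonempty (Module.Free.ChooseBasisIndex R ↥(Ideal.span ({x, y} : Set R))) with
    | inl he =>
      refine ⟨0, ?_⟩
      refine le_antisymm (fun z hz => ?_) (by simp)
      haveI := b.repr.toEquiv.subsingleton
      have : (⟨z, hz⟩ : ↥(Ideal.span ({x, y} : Set R))) = 0 := Subsingleton.elim _ _
      simpa using congrArg Subtype.val this
    | inr hne =>
      obtain ⟨i⟩ := hne
      refine ⟨(b i : R), le_antisymm (fun z hz => ?_) ((Ideal.span_singleton_le_iff_mem _).mpr (b i).2)⟩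
      have hz' := b.sum_repr ⟨z, hz⟩
      rw [Fintype.sum_subsingleton _ i] at hz'
      exact Submodule.mem_span_singleton.mpr ⟨b.repr ⟨z, hz⟩ i, congrArg Subtype.val hz'⟩
  infer_instance

theorem flat_map_ideal {A : Type u} [CommRing A] (R : Type u) [CommRing R] [Algebra A R] [Module.Flat A R]
    (I : Ideal A) [Module.Flat A I] : Module.Flat R (I.map (algebraMap A R)) := by
  let e0 : R ⊗[A] A ≃ₗ[R] R := AlgebraTensorModule.rid A R R
  let f : R ⊗[A] I →ₗ[R] R := e0.toLinearMap ∘ₗ LinearMap.baseChange R I.subtype
  have hinj : Function.Injective f := e0.injective.comp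
    (Module.Flat.lTensor_preserves_injective_linearMap (M := R) I.subtype Subtype.val_injective)
  have htm : ∀ (r : R) (x : I), f (r ⊗ₜ[A] x) = r * algebraMap A R x := fun r x => by
    simp [f, e0, Algebra.smul_def, mul_comm]
  have hrange : LinearMap.range f = (I.map (algebraMap A R) : Submodule R R) := by
    refine le_antisymm ?_ ?_
    · rintro _ ⟨z, rfl⟩
      induction z using TensorProduct.induction_on with
      | zero => rw [map_zero]; exact Submodule.zero_mem _
      | tmul r x => rw [htm]; exact Ideal.mul_mem_left _ r (Ideal.mem_map_of_mem _ x.2)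
      | add a b ha hb => rw [map_add]; exact Submodule.add_mem _ ha hb
    · exact Ideal.map_le_iff_le_comap.mpr fun x hx => ⟨1 ⊗ₜ[A] ⟨x, hx⟩, by rw [htm, one_mul]⟩
  exact Module.Flat.of_linearEquiv ((LinearEquiv.ofInjective f hinj).trans (LinearEquiv.ofEq _ _ hrange)).symm

theorem flat_submodule_of_valuation {R : Type u} [CommRing R] [IsDomain R] [ValuationRing R]
    {M N : Type u} [AddCommGroup M] [Module R M] [AddCommGroup N] [Module R N] [Module.Flat R M]
    (g : N →ₗ[R] M) (hg : Function.Injective g) : Module.Flat R N := by
  rw [Module.Flat.flat_iff_torsion_eq_bot_of_isBezout]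
  rw [Submodule.eq_bot_iff]
  rintro z ⟨⟨r, hr⟩, hrz⟩
  have hrz' : r • z = 0 := hrz
  apply hg
  have h1 : r • g z = 0 := by rw [← map_smul, hrz', map_zero]
  rw [map_zero]
  have htor : g z ∈ Submodule.torsion R M := ⟨⟨r, hr⟩, h1⟩
  rwa [Module.Flat.flat_iff_torsion_eq_bot_of_isBezout.mp inferInstance, Submodule.mem_bot] at htor

end helpers

/-- For a commutative ring A these are equivalent — all ideals are flat A-modules; all finitely
generated ideals are flat; flatness passes to submodules of flat modules; each localization at a
prime is a valuation ring (in particular a domain). Condition (1), weak dimension at most one, is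
not stated. -/
theorem result (A : Type u) [CommRing A] :
    List.TFAE [∀ I : Ideal A, Module.Flat A I,
      ∀ I : Ideal A, I.FG → Module.Flat A I,
      ∀ (M : Type u) [AddCommGroup M] [Module A M], Module.Flat A M → ∀ N : Submodule A M, Module.Flat A N,
      ∀ (p : Ideal A) [p.IsPrime], ∃ _ : IsDomain (Localization.AtPrime p), ValuationRing (Localization.AtPrime p)] := by
  tfae_have 1 → 2 := fun h I _ => h I
  tfae_have 2 → 4 := fun h p _ => by
    refine local_valuation fun J hJ => ?_
    obtain ⟨s, rfl⟩ := hJ
    classical
    choose a ha using fun x : Localization.AtPrime p => IsLocalization.surj p.primeCompl x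
    let I : Ideal A := Ideal.span ↑(s.image fun x => (a x).1)
    haveI := h I ⟨s.image fun x => (a x).1, rfl⟩
    have hI : I.map (algebraMap A (Localization.AtPrime p)) = Ideal.span (s : Set (Localization.AtPrime p)) := by
      rw [Ideal.map_span, Finset.coe_image, Set.image_image]
      refine le_antisymm (Ideal.span_le.mpr ?_) (Ideal.span_le.mpr ?_)
      · rintro _ ⟨x, hx, rfl⟩
        show algebraMap A (Localization.AtPrime p) (a x).1 ∈ Ideal.span _
        rw [← ha x]
        exact Ideal.mul_mem_right _ _ (Ideal.subset_span hx)
      · intro x hx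
        obtain ⟨u, hu⟩ := IsLocalization.map_units (Localization.AtPrime p) (a x).2
        have h1 : x = algebraMap A (Localization.AtPrime p) (a x).1 * ↑u⁻¹ := by
          rw [← ha x, mul_assoc, ← hu, Units.mul_inv, mul_one]
        rw [h1]
        exact Ideal.mul_mem_right _ _ (Ideal.subset_span ⟨x, hx, rfl⟩)
    rw [← hI]
    exact flat_map_ideal (Localization.AtPrime p) I
  tfae_have 4 → 3 := fun h M _ _ hM N => by
    refine Module.flat_of_localized_maximal N fun p _ => ?_
    obtain ⟨hd, hv⟩ := h p
    haveI : Module.Flat (Localization.AtPrime p) (LocalizedModule p.primeCompl M) := inferInstance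
    haveI : Module.Flat (Localization.AtPrime p) (LocalizedModule p.primeCompl N) :=
      flat_submodule_of_valuation (LocalizedModule.map p.primeCompl N.subtype)
        (LocalizedModule.map_injective p.primeCompl N.subtype Subtype.val_injective)
    exact Module.Flat.trans A (Localization.AtPrime p) (LocalizedModule p.primeCompl N)
  tfae_have 3 → 1 := fun h I => h A inferInstance I
  tfae_finish

end Groth.Agent.S1969
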