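import Groth.Statements.S1973
import Mathlib

set_option autoImplicit false
universe u
open EtAlg

namespace Groth.Agent.S1973


section helpers

open IsLocalRing in
theorem local_str (A B : Type u) [CommRing A] [IsDedekindDomain A] [CommRing B] [Algebra A B] [Algebra.Etale A B]
    (q : Ideal B) [q.IsPrime] :
    ∃ _ : IsDomain (Localization.AtPrime q),
      (¬ IsField (Localization.AtPrime q) → IsDiscreteValuationRing (Localization.AtPrime q)) := by
  classical
  haveI : IsNoetherianRing B := Algebra.FiniteType.isNoetherianRing A B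
  let p := q.under A
  let Bq := Localization.AtPrime q
  haveI : IsNoetherianRing Bq := IsLocalization.isNoetherianRing q.primeCompl _ inferInstance
  let := Localization.AtPrime.algebraOfLiesOver p q
  haveI : Algebra.FormallyUnramified A Bq := inferInstance
  haveI : Algebra.IsUnramifiedAt A q := inferInstance
  have hmax : p.map (algebraMap A Bq) = maximalIdeal Bq :=
    ((Algebra.isUnramifiedAt_iff_map_eq A p q).mp inferInstance).2
  by_cases hp : p = ⊥
  · have h0 : maximalIdeal Bq = ⊥ := by rw [← hmax, hp, Ideal.map_bot]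
    have hF : IsField Bq := IsLocalRing.isField_iff_maximalIdeal_eq.mpr h0
    exact ⟨hF.isDomain, fun h => absurd hF h⟩
  · haveI := IsLocalization.AtPrime.isDiscreteValuationRing_of_dedekind_domain A hp (Localization.AtPrime p)
    obtain ⟨w, hw⟩ := (IsPrincipalIdealRing.principal (maximalIdeal (Localization.AtPrime p))).principal
    have hw' : maximalIdeal (Localization.AtPrime p) = Ideal.span {w} := hw
    obtain ⟨⟨a, s⟩, has⟩ := IsLocalization.surj p.primeCompl w
    have hsu : IsUnit (algebraMap A (Localization.AtPrime p) s) := IsLocalization.map_units _ s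
    have hspan : (p.map (algebraMap A (Localization.AtPrime p))) = Ideal.span {algebraMap A (Localization.AtPrime p) a} := by
      rw [Localization.AtPrime.map_eq_maximalIdeal, hw', ← has]
      exact (Ideal.span_singleton_mul_right_unit hsu w).symm
    have hmax' : maximalIdeal Bq = Ideal.span {algebraMap A Bq a} := by
      rw [← hmax, IsScalarTower.algebraMap_eq A (Localization.AtPrime p) Bq, ← Ideal.map_map, hspan, Ideal.map_span, Set.image_singleton]
      rfl
    have ha0 : a ≠ 0 := by
      rintro rfl
      rw [map_zero, Ideal.span_singleton_eq_bot.mpr rfl] at hspan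
      exact hp ((Ideal.map_eq_bot_iff_of_injective (IsLocalization.injective _ p.primeCompl_le_nonZeroDivisors)).mp hspan)
    haveI : Module.Flat A Bq := Module.Flat.trans A B Bq
    haveI : Module.IsTorsionFree A Bq := inferInstance
    let t := algebraMap A Bq a
    have htreg : ∀ y : Bq, t * y = 0 → y = 0 := fun y hy => by
      rw [← Algebra.smul_def] at hy
      exact (smul_eq_zero.mp hy).resolve_left ha0
    have hdec : ∀ x : Bq, x ≠ 0 → ∃ (n : ℕ) (u : Bq), IsUnit u ∧ x = t ^ n * u := by
      intro x hx
      have hex : ∃ n, x ∉ maximalIdeal Bq ^ (n + 1) := by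
        by_contra h
        push Not at h
        have hx' : x ∈ ⨅ n, maximalIdeal Bq ^ n := Submodule.mem_iInf _ |>.mpr fun n => Ideal.pow_le_pow_right (Nat.le_succ n) (h n)
        rw [Ideal.iInf_pow_eq_bot_of_isLocalRing _ (maximalIdeal.isMaximal Bq).ne_top] at hx'
        exact hx (Ideal.mem_bot.mp hx')
      have hn := Nat.find_spec hex
      have hmem : x ∈ maximalIdeal Bq ^ Nat.find hex := by
        rcases Nat.eq_zero_or_pos (Nat.find hex) with h | h
        · rw [h, pow_zero, Ideal.one_eq_top]; trivial
        · have := not_not.mp (Nat.find_min hex (Nat.sub_lt h one_pos))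
          rwa [Nat.sub_add_cancel (show 1 ≤ Nat.find hex from h)] at this
      generalize Nat.find hex = N at hn hmem
      rw [hmax', Ideal.span_singleton_pow, Ideal.mem_span_singleton'] at hmem
      obtain ⟨u, hu⟩ := hmem
      refine ⟨N, u, ?_, by rw [← hu, mul_comm]⟩
      by_contra hnu
      apply hn
      have hum : u ∈ maximalIdeal Bq := hnu
      rw [← hu, pow_succ, mul_comm u]
      refine Ideal.mul_mem_mul ?_ hum
      rw [hmax', Ideal.span_singleton_pow]
      exact Ideal.mem_span_singleton_self _
    have htpow : ∀ (n : ℕ) (y : Bq), t ^ n * y = 0 → y = 0 := by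
      intro n
      induction n with
      | zero => intro y hy; simpa using hy
      | succ n ih => intro y hy; rw [pow_succ', mul_assoc] at hy; exact ih y (htreg _ hy)
    haveI : NoZeroDivisors Bq := ⟨fun {x y} hxy => by
      by_contra hne
      push Not at hne
      obtain ⟨n, u, hu, rfl⟩ := hdec x hne.1
      have h1 : u * y = 0 := htpow n _ (by rw [← mul_assoc]; exact hxy)
      exact hne.2 ((IsUnit.mul_right_eq_zero hu).mp h1)⟩
    haveI hd : IsDomain Bq := NoZeroDivisors.to_isDomain Bq
    refine ⟨hd, fun hnf => ?_⟩
    exact ((IsDiscreteValuationRing.TFAE Bq hnf).out 0 4).mpr (⟨⟨t, hmax'⟩⟩ : (maximalIdeal Bq).IsPrincipal)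

end helpers

/-- Let A be a Dedekind domain and B an etale A-algebra. Then B is isomorphic as a ring to a finite
product of Dedekind domains, and for every maximal ideal q of B whose localization is not a field,
the localization B_q is a discrete valuation ring. (The source states the last claim for all maximal
ideals; it fails for field factors, e.g. A a DVR with uniformizer π and B = A[1/π], so the guard is
needed.) -/
theorem result (A B : Type u) [CommRing A] [IsDedekindDomain A] [CommRing B] [Algebra A B]
    [Algebra.Etale A B] :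
    (∃ (n : ℕ) (D : Fin n → Type u) (_ : ∀ i, CommRing (D i)) (_ : ∀ i, IsDedekindDomain (D i)),
      Nonempty (B ≃+* ∀ i, D i)) ∧
    ∀ (q : Ideal B) [q.IsMaximal], ¬ IsField (Localization.AtPrime q) →
      ∃ _ : IsDomain (Localization.AtPrime q), IsDiscreteValuationRing (Localization.AtPrime q) := by
  classical
  haveI : IsNoetherianRing B := Algebra.FiniteType.isNoetherianRing A B
  refine ⟨?_, fun q _ hnf => by obtain ⟨hd, h⟩ := local_str A B q; exact ⟨hd, h hnf⟩⟩
  have hlocdom : ∀ (q : Ideal B) [q.IsPrime], IsDomain (Localization.AtPrime q) :=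
    fun q _ => (local_str A B q).1
  haveI : IsReduced B := isReduced_ofLocalizationMaximal B fun m _ => by
    haveI := hlocdom m; infer_instance
  haveI : Finite (minimalPrimes B) := (minimalPrimes.finite_of_isNoetherianRing B).to_subtype
  obtain ⟨n, ⟨σ⟩⟩ := Finite.exists_equiv_fin (minimalPrimes B)
  let P : Fin n → Ideal B := fun i => (σ.symm i).1
  have hPprime : ∀ i, (P i).IsPrime := fun i => (σ.symm i).2.1.1
  have hcop : Pairwise (Function.onFun IsCoprime P) := by
    intro i j hij
    rw [Function.onFun, Ideal.isCoprime_iff_sup_eq]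
    by_contra hne
    obtain ⟨m, hm, hle⟩ := Ideal.exists_le_maximal _ hne
    haveI := hlocdom m
    have hker : ∀ l, P l ≤ m → P l = RingHom.ker (algebraMap B (Localization.AtPrime m)) := by
      intro l hl
      haveI := hPprime l
      have hle' : RingHom.ker (algebraMap B (Localization.AtPrime m)) ≤ P l := by
        intro x hx
        obtain ⟨⟨c, hc⟩, hcx⟩ := (IsLocalization.map_eq_zero_iff m.primeCompl _ x).mp hx
        exact ((hPprime l).mem_or_mem (by rw [hcx]; exact zero_mem _ : c * x ∈ P l)).resolve_left fun h => hc (hl h)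
      exact le_antisymm ((σ.symm l).2.2 ⟨RingHom.ker_isPrime _, bot_le⟩ hle') hle'
    exact hij (σ.symm.injective (Subtype.ext ((hker i (le_sup_left.trans hle)).trans (hker j (le_sup_right.trans hle)).symm)))
  have hinf : ⨅ i, P i = ⊥ := by
    refine (Submodule.eq_bot_iff _).mpr fun x hx => IsReduced.eq_zero x ?_
    rw [← mem_nilradical, nilradical, ← Ideal.sInf_minimalPrimes]
    refine Submodule.mem_sInf.mpr fun Q hQ => ?_
    have := Submodule.mem_iInf _ |>.mp hx (σ ⟨Q, hQ⟩)
    simpa [P] using this
  let e : B ≃+* ∀ i, B ⧸ P i :=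
    ((RingEquiv.quotientBot B).symm.trans (Ideal.quotEquivOfEq hinf.symm)).trans (Ideal.quotientInfRingEquivPiQuotient P hcop)
  have he : ∀ (x : B) i, e x i = Ideal.Quotient.mk (P i) x := fun x i => rfl
  refine ⟨n, fun i => B ⧸ P i, fun i => inferInstance, fun i => ?_, ⟨e⟩⟩
  haveI := hPprime i
  let ε : B := e.symm (Pi.single i 1)
  have hε : IsIdempotentElem ε := by
    apply e.injective
    rw [map_mul, e.apply_symm_apply, ← Pi.single_mul, mul_one]
  have hker : RingHom.ker (algebraMap B (B ⧸ P i)) = Ideal.span {1 - ε} := by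
    rw [Ideal.Quotient.algebraMap_eq, Ideal.mk_ker]
    refine le_antisymm (fun x hx => ?_) ?_
    · refine Ideal.mem_span_singleton'.mpr ⟨x, e.injective (funext fun j => ?_)⟩
      rw [map_mul, map_sub, map_one, e.apply_symm_apply, Pi.mul_apply, Pi.sub_apply]
      by_cases hj : j = i
      · subst hj
        rw [he, Ideal.Quotient.eq_zero_iff_mem.mpr hx, zero_mul]
      · rw [Pi.single_eq_of_ne hj, Pi.one_apply, sub_zero, mul_one]
    · rw [Ideal.span_singleton_le_iff_mem, ← Ideal.Quotient.eq_zero_iff_mem, ← he, map_sub, map_one, e.apply_symm_apply]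
      simp
  haveI : IsLocalization.Away ε (B ⧸ P i) := IsLocalization.away_of_isIdempotentElem hε hker Ideal.Quotient.mk_surjective
  haveI : Algebra.Etale B (B ⧸ P i) := Algebra.Etale.of_isLocalizationAway ε
  haveI : Algebra.Etale A (B ⧸ P i) := Algebra.Etale.comp A B (B ⧸ P i)
  haveI : IsNoetherianRing (B ⧸ P i) := inferInstance
  haveI : IsDedekindDomainDvr (B ⧸ P i) :=
    { is_dvr_at_nonzero_prime := fun Q hQ _ =>
        (local_str A (B ⧸ P i) Q).2 (IsLocalization.AtPrime.not_isField (B ⧸ P i) hQ _) }
  infer_instance

end Groth.Agent.S1973
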