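import Groth.Statements.S1974
import Mathlib
import Groth.Agent.S1970
import Groth.Agent.S0426

set_option autoImplicit false
universe u
open EtAlg

namespace Groth.Agent.S1974

/-- Let A -> B be weakly etale and q a prime of B lying over the prime p of A. Then the residue field of
q is a separable algebraic extension of the residue field of p. -/
theorem result (A B : Type u) [CommRing A] [CommRing B] [Algebra A B]
    [Algebra.WeaklyEtale A B] (p : Ideal A) [p.IsPrime] (q : Ideal B) [q.IsPrime] [q.LiesOver p]
    [Algebra (Localization.AtPrime p) (Localization.AtPrime q)] [Localization.AtPrime.IsLiesOverAlgebra p q] :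
    Algebra.IsSeparable p.ResidueField q.ResidueField := by
  let κ := p.ResidueField
  let L := q.ResidueField
  haveI : IsScalarTower A κ L := inferInstance
  let C := TensorProduct A κ B
  haveI : Algebra.WeaklyEtale κ C := inferInstance
  let φ : C →ₐ[κ] L := Algebra.TensorProduct.lift (Algebra.ofId κ L) (IsScalarTower.toAlgHom A B L) fun _ _ => .all _ _
  let Q : Ideal C := RingHom.ker φ.toRingHom
  haveI : Q.IsPrime := RingHom.ker_isPrime _
  haveI := Groth.Agent.S1970.we_quotient (K := κ) Q
  have hF : IsField (C ⧸ Q) := Groth.Agent.S1970.isField_quotient (K := κ) Q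
  letI := hF.toField
  haveI : Algebra.IsSeparable κ (C ⧸ Q) := Groth.Agent.S0426.result
  let ψ : (C ⧸ Q) →ₐ[κ] L := Ideal.Quotient.liftₐ Q φ fun a ha => ha
  have hB : ∀ b : B, ψ (Ideal.Quotient.mk Q (Algebra.TensorProduct.includeRight b)) = algebraMap B L b := fun b => by
    show φ (1 ⊗ₜ[A] b) = _
    simp only [φ]
    erw [Algebra.TensorProduct.lift_tmul]
    simp
  have hsurj : Function.Surjective ψ := by
    intro x
    obtain ⟨a, ha⟩ := IsFractionRing.div_surjective (B ⧸ q) x
    obtain ⟨b, hb, rfl⟩ := ha
    obtain ⟨a, rfl⟩ := Ideal.Quotient.mk_surjective a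
    obtain ⟨b, rfl⟩ := Ideal.Quotient.mk_surjective b
    refine ⟨Ideal.Quotient.mk Q (Algebra.TensorProduct.includeRight a) / Ideal.Quotient.mk Q (Algebra.TensorProduct.includeRight b), ?_⟩
    rw [map_div₀, hB, hB]
    rfl
  exact AlgEquiv.Algebra.isSeparable (AlgEquiv.ofBijective ψ ⟨RingHom.injective ψ.toRingHom, hsurj⟩)

end Groth.Agent.S1974
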