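import Groth.Statements.S19748
import Groth.Prelude.Def_GrSeg
import Groth.Prelude.Def_GrLC
import Groth.Prelude.Def_CAlg
import Groth.Agent.Lib.GrSegreDim
import Groth.Agent.Lib.GrSegreModuleDim
import Mathlib
import Groth.Agent.Lib.GrSegreStd

set_option autoImplicit false
universe u
open Groth.Agent.GrSegreDim Groth.Agent.GrSegreModuleDim
open Groth.Agent.GrSegreStd
open scoped TensorProduct
open DirectSum
open scoped TensorProduct
open GrSegre

namespace Groth.Agent.S19748

/-- Let R and S be graded rings defined over a field k with Segre product T = R # S, M a graded R-module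
and N a graded S-module. Suppose that multiplication by some homogeneous element f ∈ R_d of positive
degree d is bijective on M and multiplication by some homogeneous g ∈ S_e of positive degree e is
bijective on N. Then multiplication by some homogeneous element of T of positive degree is bijective
on M # N. Here a graded ring defined over k is a commutative k-algebra of finite type, graded in
nonnegative degrees by k-subspaces with degree-zero part k·1; the Segre product T = R # S = ⊕_n R_n
⊗_k S_n is presented abstractly as a graded k-algebra T with an injective k-algebra homomorphism ψ :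
T → R ⊗_k S carrying T_n onto the k-span of the elementary tensors a ⊗ b with a ∈ R_n, b ∈ S_n; the
Segre product M # N = ⊕_n M_n ⊗_k N_n of a graded R-module M and a graded S-module N is presented
abstractly as a graded T-module P with an injective k-linear map φ : P → M ⊗_k N carrying P_n onto
the k-span of the tensors x ⊗ y with x ∈ M_n, y ∈ N_n and turning the action of t ∈ T into that of
ψ(t) (acting factorwise on M ⊗_k N). -/
theorem result (k : Type u) [Field k] (R : Type u) [CommRing R] [Algebra k R] (𝒜 : ℤ → Submodule k R) [GradedAlgebra 𝒜] (hposR : ∀ n : ℤ, n < 0 → 𝒜 n = ⊥) (h0R : 𝒜 0 = Submodule.span k {(1 : R)}) [Algebra.FiniteType k R] (S : Type u) [CommRing S] [Algebra k S] (ℬ : ℤ → Submodule k S) [GradedAlgebra ℬ] (hposS : ∀ n : ℤ, n < 0 → ℬ n = ⊥) (h0S : ℬ 0 = Submodule.span k {(1 : S)}) [Algebra.FiniteType k S] (T : Type u) [CommRing T] [Algebra k T] (𝒯 : ℤ → Submodule k T) [GradedAlgebra 𝒯] (ψ : T →ₐ[k] TensorProduct k R S) (hT : GrSeg.IsSegreRing 𝒜 ℬ 𝒯 ψ) (M : Type u) [AddCommGroup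 M] [Module R M] [Module k M] [IsScalarTower k R M] (ℳ : ℤ → AddSubgroup M) [DirectSum.Decomposition ℳ] [SetLike.GradedSMul 𝒜 ℳ] (N : Type u) [AddCommGroup N] [Module S N] [Module k N] [IsScalarTower k S N] (𝒩 : ℤ → AddSubgroup N) [DirectSum.Decomposition 𝒩] [SetLike.GradedSMul ℬ 𝒩] (P : Type u) [AddCommGroup P] [Module T P] [Module k P] [IsScalarTower k T P] (𝒬 : ℤ → AddSubgroup P) [DirectSum.Decomposition 𝒬] (φ : P →ₗ[k] TensorProduct k M N) (hP : GrSeg.IsSegreMod ψ ℳ 𝒩 𝒬 φ) (d : ℕ) (hd : 0 < d) (f : R) (hf : f ∈ 𝒜 (d : ℤ)) (hfM : Function.Bijective (fun x : M => f • x)) (e : ℕ) (he : 0 < e) (g : S) (hg : g ∈ ℬ (e : ℤ)) (hgN : Function.Bijective (fun y : N => g • y)) : ∃ (c : ℤ) (t : T), 0 < c ∧ t ∈ 𝒯 c ∧ Function.Bijective (fun p : P => t • p) := by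
  classical
  have hF : f ^ e ∈ 𝒜 ((d * e : ℕ) : ℤ) := by
    have := SetLike.pow_mem_graded e hf
    convert this using 2
    rw [nsmul_eq_mul]; push_cast; ring
  have hG : g ^ d ∈ ℬ ((d * e : ℕ) : ℤ) := by
    have := SetLike.pow_mem_graded d hg
    convert this using 2
    rw [nsmul_eq_mul]; push_cast; ring
  have bij : ∀ {A L : Type u} [CommRing A] [AddCommGroup L] [Module A L] (a : A) (m : ℕ),
      Function.Bijective (fun x : L => a • x) → Function.Bijective (fun x : L => a ^ m • x) := by
    intro A L _ _ _ a m h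
    induction m with
    | zero => simp only [pow_zero, one_smul]; exact Function.bijective_id
    | succ m ih => simpa [pow_succ, mul_smul, Function.comp_def] using ih.comp h
  have hFM := bij f e hfM
  have hGN := bij g d hgN
  obtain ⟨t, ht, hte⟩ : ((f ^ e) ⊗ₜ[k] (g ^ d) : R ⊗[k] S) ∈ (𝒯 ((d * e : ℕ) : ℤ)).map ψ.toLinearMap := by
    rw [hT.2]; exact Submodule.subset_span ⟨_, hF, _, hG, rfl⟩
  refine ⟨((d * e : ℕ) : ℤ), t, by exact_mod_cast Nat.mul_pos hd he, ht, ?_⟩
  let lF : M ≃ₗ[k] M := LinearEquiv.ofBijective (Algebra.lsmul k k M (f ^ e)) hFM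
  let lG : N ≃ₗ[k] N := LinearEquiv.ofBijective (Algebra.lsmul k k N (g ^ d)) hGN
  let Φ := TensorProduct.congr lF lG
  have hΦ : ∀ p : P, φ (t • p) = Φ (φ p) := fun p => by
    rw [hP.map_smul, show ψ t = (f ^ e) ⊗ₜ[k] (g ^ d) from hte]
    generalize φ p = z
    induction z with
    | zero => simp
    | add a b ha hb => rw [map_add, map_add, ha, hb]
    | tmul a b => rw [GrSeg.act_tmul]; rfl
  refine ⟨fun p q h => hP.injective (Φ.injective (by rw [← hΦ, ← hΦ]; exact congrArg φ h)), fun p => ?_⟩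
  induction p using DirectSum.Decomposition.inductionOn 𝒬 with
  | zero => exact ⟨0, smul_zero t⟩
  | add a b ha hb =>
    obtain ⟨x, hx⟩ := ha
    obtain ⟨y, hy⟩ := hb
    simp only at hx hy
    exact ⟨x + y, by simp only [smul_add, hx, hy]⟩
  | @homogeneous n m =>
    have hm : φ (m : P) ∈ GrSeg.segrePiece k ℳ 𝒩 n := by
      rw [← SetLike.mem_coe, ← hP.image_piece]; exact ⟨m, m.2, rfl⟩
    have hpre : Φ.symm (φ (m : P)) ∈ GrSeg.segrePiece k ℳ 𝒩 (n - ((d * e : ℕ) : ℤ)) := by
      generalize φ (m : P) = z at hm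
      induction hm using Submodule.span_induction with
      | zero => rw [map_zero]; exact zero_mem _
      | add a b _ _ ha hb => rw [map_add]; exact add_mem ha hb
      | smul r a _ ha => rw [map_smul]; exact Submodule.smul_mem _ r ha
      | mem z hz =>
        obtain ⟨a, ha, b, hb, rfl⟩ := hz
        obtain ⟨a', rfl⟩ := hFM.2 a
        obtain ⟨b', rfl⟩ := hGN.2 b
        have e1 : Φ.symm ((f ^ e • a') ⊗ₜ[k] (g ^ d • b')) = a' ⊗ₜ b' :=
          Φ.symm_apply_eq.mpr rfl
        show Φ.symm ((f ^ e • a') ⊗ₜ[k] (g ^ d • b')) ∈ _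
        rw [e1]
        exact Submodule.subset_span ⟨a', inverse_mem 𝒜 ℳ hF hFM.1 ha, b', inverse_mem ℬ 𝒩 hG hGN.1 hb, rfl⟩
    rw [← SetLike.mem_coe, ← hP.image_piece] at hpre
    obtain ⟨q, -, hq⟩ := hpre
    exact ⟨q, hP.injective (by rw [hΦ, hq, LinearEquiv.apply_symm_apply])⟩

end Groth.Agent.S19748
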