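import Groth.Statements.S19749
import Groth.Prelude.Def_GrSeg
import Groth.Prelude.Def_GrLC
import Groth.Prelude.Def_CAlg
import Groth.Agent.Lib.GrSegreDim
import Groth.Agent.Lib.GrSegreModuleDim
import Mathlib
import Groth.Agent.Lib.GrSegreStd

set_option autoImplicit false
universe u
open Groth.Agent.GrSegreDim Groth.Agent.GrSegreModuleDim
open Groth.Agent.GrSegreStd
open scoped TensorProduct
open DirectSum
open scoped TensorProduct
open GrSegre

namespace Groth.Agent.S19749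

/-- Let R and S be graded rings defined over a field k, both generated over k by their degree-one parts
and of positive Krull dimension, T = R # S, M a graded R-module and N a graded S-module, n an
integer with N_m ≠ 0 for every m ≥ n, and x ∈ M_n, y ∈ N_n. If x # y generates M # N as a T-module,
then R_d x = M_{n+d} for every d ≥ 0 (every element of M_{n+d} is r x for some r ∈ R_d). Here a
graded ring defined over k is a commutative k-algebra of finite type, graded in nonnegative degrees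
by k-subspaces with degree-zero part k·1; the Segre product T = R # S = ⊕_n R_n ⊗_k S_n is presented
abstractly as a graded k-algebra T with an injective k-algebra homomorphism ψ : T → R ⊗_k S carrying
T_n onto the k-span of the elementary tensors a ⊗ b with a ∈ R_n, b ∈ S_n; the Segre product M # N =
⊕_n M_n ⊗_k N_n of a graded R-module M and a graded S-module N is presented abstractly as a graded
T-module P with an injective k-linear map φ : P → M ⊗_k N carrying P_n onto the k-span of the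
tensors x ⊗ y with x ∈ M_n, y ∈ N_n and turning the action of t ∈ T into that of ψ(t) (acting
factorwise on M ⊗_k N), and x # y is the element of P mapped to x ⊗ y. -/
theorem result (k : Type u) [Field k] (R : Type u) [CommRing R] [Algebra k R] (𝒜 : ℤ → Submodule k R) [GradedAlgebra 𝒜] (hposR : ∀ n : ℤ, n < 0 → 𝒜 n = ⊥) (h0R : 𝒜 0 = Submodule.span k {(1 : R)}) [Algebra.FiniteType k R] (S : Type u) [CommRing S] [Algebra k S] (ℬ : ℤ → Submodule k S) [GradedAlgebra ℬ] (hposS : ∀ n : ℤ, n < 0 → ℬ n = ⊥) (h0S : ℬ 0 = Submodule.span k {(1 : S)}) [Algebra.FiniteType k S] (T : Type u) [CommRing T] [Algebra k T] (𝒯 : ℤ → Submodule k T) [GradedAlgebra 𝒯] (ψ : T →ₐ[k] TensorProduct k R S) (hT : GrSeg.IsSegreRing 𝒜 ℬ 𝒯 ψ) (hstdR : Ideal.span (⋃ n ∈ Set.Ioi (0 : ℤ), (𝒜 n : Set R)) = Ideal.span ((𝒜 1 : Submodule k R) : Set R)) (hstdS : Ideal.span (⋃ n ∈ Set.Ioi (0 : ℤ), (ℬ n : Set S)) = Ideal.span ((ℬ 1 : Submodule k S) : Set S)) (hr1 : 1 ≤ ringKrullDim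 R) (hs1 : 1 ≤ ringKrullDim S) (M : Type u) [AddCommGroup M] [Module R M] [Module k M] [IsScalarTower k R M] (ℳ : ℤ → AddSubgroup M) [DirectSum.Decomposition ℳ] [SetLike.GradedSMul 𝒜 ℳ] (N : Type u) [AddCommGroup N] [Module S N] [Module k N] [IsScalarTower k S N] (𝒩 : ℤ → AddSubgroup N) [DirectSum.Decomposition 𝒩] [SetLike.GradedSMul ℬ 𝒩] (P : Type u) [AddCommGroup P] [Module T P] [Module k P] [IsScalarTower k T P] (𝒬 : ℤ → AddSubgroup P) [DirectSum.Decomposition 𝒬] (φ : P →ₗ[k] TensorProduct k M N) (hP : GrSeg.IsSegreMod ψ ℳ 𝒩 𝒬 φ) (n : ℤ) (hNn : ∀ m : ℤ, n ≤ m → 𝒩 m ≠ ⊥) (x : M) (hx : x ∈ ℳ n) (y : N) (hy : y ∈ 𝒩 n) (p : P) (hp : φ p = x ⊗ₜ[k] y) (hgen : Submodule.span T {p} = ⊤) (d : ℤ) (hd : 0 ≤ d) (z : M) (hz : z ∈ ℳ (n + d)) : ∃ r ∈ 𝒜 d, r • x = z := by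
  classical
  obtain ⟨w, hw, hw0⟩ : ∃ w ∈ 𝒩 (n + d), w ≠ 0 := by
    by_contra h
    push_neg at h
    exact hNn (n + d) (by omega) ((AddSubgroup.eq_bot_iff_forall _).mpr h)
  obtain ⟨q, -, hqz⟩ : z ⊗ₜ[k] w ∈ φ '' (𝒬 (n + d) : Set P) := by
    rw [hP.image_piece]; exact Submodule.subset_span ⟨z, hz, w, hw, rfl⟩
  obtain ⟨t, rfl⟩ := Submodule.mem_span_singleton.mp (show q ∈ Submodule.span T {p} from hgen ▸ trivial)
  rw [hP.map_smul, hp] at hqz
  obtain ⟨ℓ, hℓ⟩ : ∃ ℓ : N →ₗ[k] k, ℓ w = 1 := by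
    obtain ⟨ℓ, hℓ⟩ := LinearMap.exists_leftInverse_of_injective (LinearMap.toSpanSingleton k N w)
      (LinearMap.ker_toSpanSingleton k hw0)
    exact ⟨ℓ, by simpa using LinearMap.congr_fun hℓ 1⟩
  let π : M ⊗[k] N →ₗ[k] M := (TensorProduct.rid k M).toLinearMap.comp (ℓ.lTensor M)
  -- the component of degree `d`
  have hcomp : ∀ u : R ⊗[k] S, ∃ r : R, π (GrSeg.act k R S M N u (x ⊗ₜ[k] y)) = r • x := by
    intro u
    induction u with
    | zero => exact ⟨0, by simp⟩
    | add a b ha hb =>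
      obtain ⟨ra, ha⟩ := ha; obtain ⟨rb, hb⟩ := hb
      exact ⟨ra + rb, by simp [ha, hb, add_smul]⟩
    | tmul a b => exact ⟨ℓ (b • y) • a, by simp [π, GrSeg.act_tmul, smul_assoc]⟩
  obtain ⟨r, hr⟩ := hcomp (ψ t)
  rw [hqz] at hr
  have hzr : z = r • x := by simpa [π, hℓ] using hr
  refine ⟨(decompose 𝒜 r d : R), (decompose 𝒜 r d).2, ?_⟩
  rw [← proj_smul_piece 𝒜 ℳ r hx d, ← hzr, add_comm d n, decompose_of_mem_same ℳ hz]


end Groth.Agent.S19749
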