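import Groth.Statements.S19750
import Groth.Prelude.Def_GrSeg
import Groth.Prelude.Def_GrLC
import Groth.Prelude.Def_CAlg
import Groth.Agent.Lib.GrSegreDim
import Groth.Agent.Lib.GrSegreModuleDim
import Mathlib
import Groth.Agent.Lib.GrSegreStd

set_option autoImplicit false
universe u
open Groth.Agent.GrSegreDim Groth.Agent.GrSegreModuleDim
open Groth.Agent.GrSegreStd
open scoped TensorProduct
open DirectSum
open scoped TensorProduct
open GrSegre

namespace Groth.Agent.S19750

/-- Let R and S be graded rings defined over a field k, both generated over k by their degree-one parts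
and of positive Krull dimension, T = R # S with irrelevant ideal T_+, and let a ≥ b be integers.
Then the number of generators ν_T(R(a) # S(b)) = dim_k (R(a) # S(b)) / T_+ (R(a) # S(b)) equals
dim_k R_{a−b}. Here a graded ring defined over k is a commutative k-algebra of finite type, graded
in nonnegative degrees by k-subspaces with degree-zero part k·1; the Segre product T = R # S = ⊕_n
R_n ⊗_k S_n is presented abstractly as a graded k-algebra T with an injective k-algebra homomorphism
ψ : T → R ⊗_k S carrying T_n onto the k-span of the elementary tensors a ⊗ b with a ∈ R_n, b ∈ S_n;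
the Segre product R(a) # S(b) = ⊕_n R_{n+a} ⊗_k S_{n+b} of the shifted modules is presented
abstractly as a graded T-module P with an injective k-linear map φ : P → R ⊗_k S carrying P_n onto
the k-span of the tensors x ⊗ y with x ∈ R_{n+a}, y ∈ S_{n+b} and turning the action of t ∈ T into
that of ψ(t); T_+ is the ideal spanned by the T_n with n > 0. -/
theorem result (k : Type u) [Field k] (R : Type u) [CommRing R] [Algebra k R] (𝒜 : ℤ → Submodule k R) [GradedAlgebra 𝒜] (hposR : ∀ n : ℤ, n < 0 → 𝒜 n = ⊥) (h0R : 𝒜 0 = Submodule.span k {(1 : R)}) [Algebra.FiniteType k R] (S : Type u) [CommRing S] [Algebra k S] (ℬ : ℤ → Submodule k S) [GradedAlgebra ℬ] (hposS : ∀ n : ℤ, n < 0 → ℬ n = ⊥) (h0S : ℬ 0 = Submodule.span k {(1 : S)}) [Algebra.FiniteType k S] (T : Type u) [CommRing T] [Algebra k T] (𝒯 : ℤ → Submodule k T) [GradedAlgebra 𝒯] (ψ : T →ₐ[k] TensorProduct k R S) (hT : GrSeg.IsSegreRing 𝒜 ℬ 𝒯 ψ) (hstdR : Ideal.span (⋃ n ∈ Set.Ioi (0 : ℤ), (𝒜 n : Set R)) = Ideal.span ((𝒜 1 : Submodule k R) : Set R)) (hstdS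 : Ideal.span (⋃ n ∈ Set.Ioi (0 : ℤ), (ℬ n : Set S)) = Ideal.span ((ℬ 1 : Submodule k S) : Set S)) (hr1 : 1 ≤ ringKrullDim R) (hs1 : 1 ≤ ringKrullDim S) (mT : HomogeneousIdeal 𝒯) (hmT : mT.toIdeal = Ideal.span (⋃ n ∈ Set.Ioi (0 : ℤ), (𝒯 n : Set T))) (a b : ℤ) (hab : b ≤ a) (P : Type u) [AddCommGroup P] [Module T P] [Module k P] [IsScalarTower k T P] (𝒬 : ℤ → AddSubgroup P) [DirectSum.Decomposition 𝒬] (φ : P →ₗ[k] TensorProduct k R S) (hP : GrSeg.IsSegreMod ψ (fun n : ℤ => 𝒜 (n + a)) (fun n : ℤ => ℬ (n + b)) 𝒬 φ) : Module.finrank k (P ⧸ (mT.toIdeal • (⊤ : Submodule T P))) = Module.finrank k (𝒜 (a - b)) := by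
  classical
  haveI : Nontrivial S := by
    by_contra h
    rw [not_nontrivial_iff_subsingleton] at h
    rw [ringKrullDim_eq_bot_of_subsingleton] at hs1
    simp at hs1
  let mP : Submodule T P := mT.toIdeal • ⊤
  -- the projection to the lowest degree
  let pr : S →ₗ[k] S := (Submodule.subtype (ℬ 0)).comp
    ((DirectSum.component k ℤ (fun i => ℬ i) 0).comp (DirectSum.decomposeLinearEquiv ℬ).toLinearMap)
  have hpr : ∀ s, pr s = (decompose ℬ s 0 : S) := fun s => rfl
  have h1 : (1 : S) ≠ 0 := one_ne_zero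
  have hinj : Function.Injective (LinearMap.toSpanSingleton k S (1 : S)) :=
    LinearMap.ker_eq_bot.mp (LinearMap.ker_toSpanSingleton k h1)
  obtain ⟨ε0, hε0⟩ := LinearMap.exists_leftInverse_of_injective (LinearMap.toSpanSingleton k S (1 : S))
    (LinearMap.ker_toSpanSingleton k h1)
  let ε : S →ₗ[k] k := ε0.comp pr
  have hε1 : ε 1 = 1 := by
    show ε0 (pr 1) = 1
    rw [hpr, decompose_of_mem_same ℬ (SetLike.one_mem_graded ℬ)]
    simpa using LinearMap.congr_fun hε0 1
  have hεn : ∀ {n : ℤ}, n ≠ 0 → ∀ s ∈ ℬ n, ε s = 0 := fun {n} hn s hs => by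
    show ε0 (pr s) = 0
    rw [hpr, decompose_of_mem_ne ℬ hs hn, map_zero]
  let π : P →ₗ[k] R := (TensorProduct.rid k R).toLinearMap.comp ((ε.lTensor R).comp φ)
  -- pieces
  have hpiece : ∀ {n : ℤ} {p : P}, p ∈ 𝒬 n → φ p ∈ GrSeg.segrePiece k (fun n : ℤ => 𝒜 (n + a)) (fun n : ℤ => ℬ (n + b)) n :=
    fun {n p} hp => by rw [← SetLike.mem_coe, ← hP.image_piece]; exact ⟨p, hp, rfl⟩
  have hlift : ∀ {n : ℤ} {x : R}, x ∈ 𝒜 (n + a) → ∀ {y : S}, y ∈ ℬ (n + b) → ∃ q ∈ 𝒬 n, φ q = x ⊗ₜ y := by
    intro n x hx y hy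
    have : x ⊗ₜ[k] y ∈ φ '' (𝒬 n : Set P) := by
      rw [hP.image_piece]; exact Submodule.subset_span ⟨x, hx, y, hy, rfl⟩
    obtain ⟨q, hq, e⟩ := this
    exact ⟨q, hq, e⟩
  have hπrange : ∀ p : P, π p ∈ 𝒜 (a - b) := by
    intro p
    induction p using DirectSum.Decomposition.inductionOn 𝒬 with
    | zero => simp
    | add x y hx hy => rw [map_add]; exact add_mem hx hy
    | @homogeneous n m =>
      show TensorProduct.rid k R (ε.lTensor R (φ m)) ∈ 𝒜 (a - b)
      have hm := hpiece m.2
      generalize φ (m : P) = z at hm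
      induction hm using Submodule.span_induction with
      | zero => simp
      | add x y _ _ hx hy => rw [map_add, map_add]; exact add_mem hx hy
      | smul r x _ hx => rw [map_smul, map_smul]; exact Submodule.smul_mem _ r hx
      | mem z hz =>
        obtain ⟨x, hx, y, hy, rfl⟩ := hz
        rw [LinearMap.lTensor_tmul, TensorProduct.rid_tmul]
        by_cases hn : n + b = 0
        · exact Submodule.smul_mem _ _ (by rw [show a - b = n + a by omega]; exact hx)
        · rw [hεn hn y hy, zero_smul]; exact zero_mem _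
  have hkill : mP ≤ (⊤ : Submodule T P) ∧ ∀ p ∈ mP, π p = 0 := by
    refine ⟨le_top, fun p hp => ?_⟩
    have key : ∀ (j : ℤ), 0 < j → ∀ t ∈ 𝒯 j, ∀ w : P, π (t • w) = 0 := by
      intro j hj t ht w
      induction w using DirectSum.Decomposition.inductionOn 𝒬 with
      | zero => simp
      | add x y hx hy => rw [smul_add, map_add, hx, hy, add_zero]
      | @homogeneous n m =>
        show TensorProduct.rid k R (ε.lTensor R (φ (t • (m : P)))) = 0
        rw [hP.map_smul]
        have hψt : ψ t ∈ GrSeg.segrePiece k 𝒜 ℬ j := hT.2 j ▸ Submodule.mem_map_of_mem ht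
        have hm := hpiece m.2
        generalize φ (m : P) = z at hm
        generalize ψ t = u at hψt
        induction hψt using Submodule.span_induction with
        | zero => simp
        | add x y _ _ hx hy => simp only [map_add, LinearMap.add_apply, hx, hy, add_zero]
        | smul r x _ hx => simp only [map_smul, LinearMap.smul_apply, hx, smul_zero]
        | mem u hu =>
          obtain ⟨r, hr, s, hs, rfl⟩ := hu
          induction hm using Submodule.span_induction with
          | zero => simp
          | add x y _ _ hx hy => simp only [map_add, hx, hy, add_zero]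
          | smul c x _ hx => simp only [map_smul, hx, smul_zero]
          | mem z hz =>
            obtain ⟨x, hx, y, hy, rfl⟩ := hz
            rw [GrSeg.act_tmul, LinearMap.lTensor_tmul, TensorProduct.rid_tmul]
            by_cases hy0 : n + b < 0
            · rw [(Submodule.mem_bot k).mp ((hposS _ hy0).le hy), smul_zero, map_zero, zero_smul]
            · rw [hεn (show j + (n + b) ≠ 0 by omega) (s • y) (SetLike.mul_mem_graded (A := ℬ) hs hy), zero_smul]
    refine Submodule.smul_induction_on hp (fun t ht w _ => ?_) (fun x y hx hy => by rw [map_add, hx, hy, add_zero])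
    rw [hmT] at ht
    induction ht using Submodule.span_induction generalizing w with
    | zero => simp
    | add x y _ _ hx hy => rw [add_smul, map_add, hx w trivial, hy w trivial, add_zero]
    | smul r x _ hx => rw [smul_eq_mul, mul_comm, ← smul_smul]; exact hx (r • w) trivial
    | mem t ht =>
      obtain ⟨j, hj, ht⟩ := Set.mem_iUnion₂.mp ht
      exact key j hj t ht w
  let L : (P ⧸ mP.restrictScalars k) →ₗ[k] 𝒜 (a - b) :=
    (mP.restrictScalars k).liftQ (π.codRestrict (𝒜 (a - b)) hπrange)
      (fun p hp => Subtype.ext (by rw [LinearMap.codRestrict_apply]; exact hkill.2 p hp))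
  have hL : ∀ p, (L (Submodule.Quotient.mk p) : R) = π p := fun p => rfl
  have hsurj : Function.Surjective L := by
    rintro ⟨x, hx⟩
    obtain ⟨q, -, e⟩ := hlift (n := -b) (x := x) (by rw [show -b + a = a - b by ring]; exact hx)
      (y := 1) (by rw [neg_add_cancel]; exact SetLike.one_mem_graded ℬ)
    refine ⟨Submodule.Quotient.mk q, Subtype.ext ?_⟩
    rw [hL]
    show TensorProduct.rid k R (ε.lTensor R (φ q)) = x
    rw [e, LinearMap.lTensor_tmul, TensorProduct.rid_tmul, hε1, one_smul]
  -- the higher pieces lie in `T₊ P`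
  have hhigh : ∀ n : ℤ, n + b ≠ 0 → ∀ q ∈ 𝒬 n, q ∈ mP := by
    intro n hn q hq
    have hz := hpiece hq
    suffices hle : GrSeg.segrePiece k (fun n : ℤ => 𝒜 (n + a)) (fun n : ℤ => ℬ (n + b)) n ≤ (mP.restrictScalars k).map φ by
      obtain ⟨w, hw, e⟩ := hle hz
      exact hP.injective e ▸ hw
    rw [GrSeg.segrePiece, Submodule.span_le]
    rintro _ ⟨x, hx, y, hy, rfl⟩
    rcases lt_or_gt_of_ne hn with hlt | hgt
    · rw [(Submodule.mem_bot k).mp ((hposS _ hlt).le hy), TensorProduct.tmul_zero]; exact zero_mem _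
    refine piece_induction 𝒜 hstdR (n := n + a - 1) (by omega)
      (p := fun x => x ⊗ₜ[k] y ∈ (mP.restrictScalars k).map φ) (by rw [TensorProduct.zero_tmul]; exact zero_mem _)
      (fun u v hu hv => by rw [TensorProduct.add_tmul]; exact add_mem hu hv) (fun u hu v hv => ?_)
      (by rw [sub_add_cancel]; exact hx)
    refine piece_induction ℬ hstdS (n := n + b - 1) (by omega)
      (p := fun y => (u * v) ⊗ₜ[k] y ∈ (mP.restrictScalars k).map φ) (by rw [TensorProduct.tmul_zero]; exact zero_mem _)
      (fun u' v' hu' hv' => by rw [TensorProduct.tmul_add]; exact add_mem hu' hv') (fun u' hu' v' hv' => ?_)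
      (by rw [sub_add_cancel]; exact hy)
    obtain ⟨t, ht, hte⟩ : u ⊗ₜ[k] u' ∈ (𝒯 1).map ψ.toLinearMap := by
      rw [hT.2]; exact Submodule.subset_span ⟨u, hu, u', hu', rfl⟩
    obtain ⟨w, -, hw⟩ := hlift (n := n - 1) (x := v) (by rw [show n - 1 + a = n + a - 1 by ring]; exact hv)
      (y := v') (by rw [show n - 1 + b = n + b - 1 by ring]; exact hv')
    have htm : t ∈ mT.toIdeal := by
      rw [hmT]; exact Ideal.subset_span (Set.mem_iUnion₂.mpr ⟨1, show (0:ℤ) < 1 by norm_num, ht⟩)
    have htw : t • w ∈ mP := Submodule.smul_mem_smul (N := (⊤ : Submodule T P)) htm Submodule.mem_top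
    refine ⟨t • w, (Submodule.restrictScalars_mem k mP (t • w)).mpr htw, ?_⟩
    rw [hP.map_smul, show ψ t = u ⊗ₜ[k] u' from hte, hw, GrSeg.act_tmul, smul_eq_mul, smul_eq_mul]
  have hinjL : Function.Injective L := by
    refine (injective_iff_map_eq_zero _).mpr fun z hz => ?_
    obtain ⟨p, rfl⟩ := Submodule.Quotient.mk_surjective _ z
    have hp : π p = 0 := by rw [← hL, hz]; rfl
    rw [Submodule.Quotient.mk_eq_zero]
    show p ∈ mP
    let p0 : P := (decompose 𝒬 p (-b) : P)
    have hsplit' : ∀ q : P, q - (decompose 𝒬 q (-b) : P) ∈ mP := by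
      intro q
      induction q using DirectSum.Decomposition.inductionOn 𝒬 with
      | zero => simp
      | add x y hx hy =>
        rw [decompose_add, DirectSum.add_apply, AddSubgroup.coe_add, add_sub_add_comm]
        exact add_mem hx hy
      | @homogeneous n m =>
        by_cases hn : n = -b
        · subst hn; rw [decompose_of_mem_same 𝒬 m.2, sub_self]; exact zero_mem _
        · rw [decompose_of_mem_ne 𝒬 m.2 hn, sub_zero]; exact hhigh n (by omega) _ m.2
    have hsplit : p - p0 ∈ mP := hsplit' p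
    have hp0 : φ p0 = 0 := by
      have hm := hpiece (decompose 𝒬 p (-b)).2
      have hπ0 : π p0 = 0 := by
        have := hkill.2 _ hsplit
        rw [map_sub, hp, zero_sub, neg_eq_zero] at this
        exact this
      obtain ⟨x, hx⟩ : ∃ x : R, φ p0 = x ⊗ₜ[k] (1 : S) := by
        show ∃ x : R, φ (decompose 𝒬 p (-b) : P) = x ⊗ₜ[k] (1 : S)
        generalize φ (decompose 𝒬 p (-b) : P) = z at hm
        induction hm using Submodule.span_induction with
        | zero => exact ⟨0, by simp⟩
        | add u v _ _ hu hv => obtain ⟨x, rfl⟩ := hu; obtain ⟨y, rfl⟩ := hv; exact ⟨x + y, by rw [TensorProduct.add_tmul]⟩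
        | smul r u _ hu => obtain ⟨x, rfl⟩ := hu; exact ⟨r • x, by rw [TensorProduct.smul_tmul']⟩
        | mem z hz =>
          obtain ⟨x, -, y, hy, rfl⟩ := hz
          replace hy : y ∈ ℬ 0 := by simpa using hy
          obtain ⟨c, rfl⟩ := Submodule.mem_span_singleton.mp (h0S.le hy)
          exact ⟨c • x, by rw [TensorProduct.tmul_smul, TensorProduct.smul_tmul']⟩
      have : x = 0 := by
        have e : π p0 = x := by
          show TensorProduct.rid k R (ε.lTensor R (φ p0)) = x
          rw [hx, LinearMap.lTensor_tmul, TensorProduct.rid_tmul, hε1, one_smul]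
        rw [← e, hπ0]
      rw [hx, this, TensorProduct.zero_tmul]
    have : p0 = 0 := hP.injective (hp0.trans (map_zero φ).symm)
    rw [this, sub_zero] at hsplit
    exact hsplit
  exact ((Submodule.Quotient.restrictScalarsEquiv k mP).symm.trans
    (LinearEquiv.ofBijective L ⟨hinjL, hsurj⟩)).finrank_eq

end Groth.Agent.S19750
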