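import Groth.Statements.S19751
import Groth.Agent.Lib.H1GrDual
import Mathlib

set_option autoImplicit false
universe u
open GrDual

namespace Groth.Agent.S19751

section aux
open Groth.Agent.GrStarBasic Groth.Agent.H1GrDual

variable {k : Type u} [Field k] {R : Type u} [CommRing R] [Algebra k R] {𝒜 : ℤ → Submodule k R} [GradedAlgebra 𝒜]
variable {M : Type u} [AddCommGroup M] [Module R M] [Module k M] [IsScalarTower k R M]
  {ℳ : ℤ → AddSubgroup M} [DirectSum.Decomposition ℳ] [SetLike.GradedSMul 𝒜 ℳ]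
variable {D : Type u} [AddCommGroup D] [Module R D] [Module k D] [IsScalarTower k R D]
  {𝒟 : ℤ → AddSubgroup D} [DirectSum.Decomposition 𝒟] {β : D →ₗ[k] M →ₗ[k] k}

theorem apply_deg (hD : GrSeg.IsGDual R ℳ 𝒟 β) (d : D) {j : ℤ} {x : M} (hx : x ∈ ℳ (-j)) :
    β d x = β (pr 𝒟 j d) x := by
  classical
  rw [sum_apply (𝒟 := 𝒟) β d, LinearMap.sum_apply, Finset.sum_eq_single j]
  · intro i _ hi
    exact hD.vanish i _ (pr_mem 𝒟 i d) (-j) (fun h => hi (by omega)) x hx
  · intro h
    rw [show pr 𝒟 j d = 0 from by simpa [pr] using DFinsupp.notMem_support_iff.mp h, map_zero, LinearMap.zero_apply]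

theorem eq_zero_of_forall' (hD : GrSeg.IsGDual R ℳ 𝒟 β) {d : D} (h : ∀ x, β d x = 0) : d = 0 := by
  refine eq_of_pr 𝒟 fun j => ?_
  rw [map_zero]
  exact hD.eq_zero j _ (pr_mem 𝒟 j d) fun x hx => by rw [← apply_deg hD d hx, h]

end aux


set_option maxHeartbeats 1000000 in
/-- Let R be a graded ring defined over a field k with m = R_+, let F and M be finitely generated graded
R-modules and f : F → M a surjective homomorphism of graded R-modules, with dual f^* : M^* → F^* on
graded k-duals. Then f is minimal, that is Ker f ⊆ m F, if and only if f^* is essential: an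
injective homomorphism of graded modules such that every nonzero graded submodule of F^* meets its
image. Here a graded ring defined over k is a commutative k-algebra of finite type, graded in
nonnegative degrees by k-subspaces with degree-zero part k·1, and R_+ is the ideal spanned by the
R_n with n > 0; the graded k-dual M^* = ⊕_n Hom_k(M_{−n}, k) of a graded R-module M (with r ∈ R
acting by (r f)(x) = f(r x)) is presented abstractly as a graded R-module D with a k-bilinear
pairing β : D × M → k compatible with the R-actions, under which D_n pairs to zero with M_m for m ≠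
−n and is identified with the full dual space of M_{−n}; f^* is presented as the R-linear map g :
M^* → F^* with β_F(g d, x) = β_M(d, f x). -/
theorem result (k : Type u) [Field k] (R : Type u) [CommRing R] [Algebra k R] (𝒜 : ℤ → Submodule k R) [GradedAlgebra 𝒜] (hposR : ∀ n : ℤ, n < 0 → 𝒜 n = ⊥) (h0R : 𝒜 0 = Submodule.span k {(1 : R)}) [Algebra.FiniteType k R] (mR : HomogeneousIdeal 𝒜) (hmR : mR.toIdeal = Ideal.span (⋃ n ∈ Set.Ioi (0 : ℤ), (𝒜 n : Set R))) (F : Type u) [AddCommGroup F] [Module R F] [Module k F] [IsScalarTower k R F] (ℱ : ℤ → AddSubgroup F) [DirectSum.Decomposition ℱ] [SetLike.GradedSMul 𝒜 ℱ] [Module.Finite R F] (M : Type u) [AddCommGroup M] [Module R M] [Module k M] [IsScalarTower k R M] (ℳ : ℤ → AddSubgroup M) [DirectSum.Decomposition ℳ] [SetLike.GradedSMul 𝒜 ℳ] [Module.Finite R M] (f : F →ₗ[R] M) (hf : Function.Surjective f) (hfgr : GrLC.IsGrHom ℱ ℳ f) (DM : Type u) [AddCommGroup DM] [Module R DM] [Module k DM] [IsScalarTower k R DM] (𝒟M : ℤ → AddSubgroup DM) [DirectSum.Decomposition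 𝒟M] [SetLike.GradedSMul 𝒜 𝒟M] (βM : DM →ₗ[k] M →ₗ[k] k) (hDM : GrSeg.IsGDual R ℳ 𝒟M βM) (DF : Type u) [AddCommGroup DF] [Module R DF] [Module k DF] [IsScalarTower k R DF] (𝒟F : ℤ → AddSubgroup DF) [DirectSum.Decomposition 𝒟F] [SetLike.GradedSMul 𝒜 𝒟F] (βF : DF →ₗ[k] F →ₗ[k] k) (hDF : GrSeg.IsGDual R ℱ 𝒟F βF) (g : DM →ₗ[R] DF) (hg : GrSeg.IsGDualMap βM βF f g) : LinearMap.ker f ≤ mR.toIdeal • (⊤ : Submodule R F) ↔ GrLC.IsStarEss 𝒟M 𝒟F g := by
  classical
  let P : ℤ → F →+ F := Groth.Agent.GrStarBasic.pr ℱ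
  have hKhom : ∀ j, ∀ x ∈ LinearMap.ker f, Groth.Agent.GrStarBasic.pr ℱ j x ∈ LinearMap.ker f := fun j x hx => by
    rw [LinearMap.mem_ker, Groth.Agent.GrStarBasic.map_pr (ℳ := ℱ) (𝒩 := ℳ) hfgr, LinearMap.mem_ker.mp hx, map_zero]
  have hgr : GrLC.IsGrHom 𝒟M 𝒟F g := by
    intro j d hd
    have : g d = Groth.Agent.GrStarBasic.pr 𝒟F j (g d) := by
      refine Groth.Agent.GrStarBasic.eq_of_pr 𝒟F fun i => ?_
      by_cases hi : i = j
      · subst hi; rw [Groth.Agent.GrStarBasic.pr_same 𝒟F (Groth.Agent.GrStarBasic.pr_mem 𝒟F _ _)]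
      · rw [Groth.Agent.GrStarBasic.pr_ne 𝒟F (Groth.Agent.GrStarBasic.pr_mem 𝒟F _ _) (Ne.symm hi)]
        refine hDF.eq_zero i _ (Groth.Agent.GrStarBasic.pr_mem 𝒟F i _) fun x hx => ?_
        rw [← apply_deg hDF _ hx, hg]
        exact hDM.vanish j d hd (-i) (by omega) _ (hfgr _ _ hx)
    rw [this]; exact Groth.Agent.GrStarBasic.pr_mem 𝒟F j _
  have hinj : Function.Injective g := (injective_iff_map_eq_zero g).mpr fun d hd => eq_zero_of_forall' hDM fun y => by
    obtain ⟨x, rfl⟩ := hf y
    rw [← hg, hd, map_zero, LinearMap.zero_apply]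
  -- the range is the annihilator of the kernel
  have hrange : ∀ (j : ℤ) (e : DF), e ∈ 𝒟F j → (∀ x ∈ LinearMap.ker f, βF e x = 0) → e ∈ LinearMap.range g := by
    intro j e he hK
    let fk : F →ₗ[k] M := f.restrictScalars k
    have hle : LinearMap.ker fk ≤ LinearMap.ker (βF e) := fun x hx => hK x hx
    let φ : M →ₗ[k] k := (LinearMap.ker fk).liftQ (βF e) hle ∘ₗ (fk.quotKerEquivOfSurjective hf).symm.toLinearMap
    have hφ : ∀ x, φ (f x) = βF e x := fun x => by
      show (LinearMap.ker fk).liftQ (βF e) hle ((fk.quotKerEquivOfSurjective hf).symm (fk x)) = _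
      rw [show (fk.quotKerEquivOfSurjective hf).symm (fk x) = Submodule.Quotient.mk x from
        (fk.quotKerEquivOfSurjective hf).injective (by rw [LinearEquiv.apply_symm_apply]; rfl)]
      rfl
    obtain ⟨d, hd, hdφ⟩ := hDM.exists_eq j φ
    refine ⟨d, sub_eq_zero.mp (hDF.eq_zero j _ (sub_mem (hgr j d hd) he) fun x hx => ?_)⟩
    rw [map_sub, LinearMap.sub_apply, hg, hdφ _ (hfgr _ _ hx), hφ, sub_self]
  constructor
  · intro hmin
    refine ⟨hinj, hgr, fun Q hQ hQ0 hbot => ?_⟩
    -- degrees of `F` are bounded below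
    obtain ⟨s, hs⟩ := Module.Finite.fg_top (R := R) (M := F)
    let T : Finset ℤ := s.biUnion fun m => (DirectSum.decompose ℱ m).support
    obtain ⟨B, hB⟩ : ∃ B : ℤ, ∀ j ∈ T, B ≤ j := by
      rcases T.eq_empty_or_nonempty with h | h
      · exact ⟨0, by simp [h]⟩
      · exact ⟨T.min' h, fun j hj => Finset.min'_le _ _ hj⟩
    have hlow : ∀ n < B, ∀ x : F, Groth.Agent.GrStarBasic.pr ℱ n x = 0 := by
      intro n hn x
      have hx : x ∈ Submodule.span R (s : Set F) := hs.symm ▸ Submodule.mem_top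
      suffices h : ∀ c : R, Groth.Agent.GrStarBasic.pr ℱ n (c • x) = 0 by simpa using h 1
      induction hx using Submodule.span_induction with
      | mem m hm =>
        intro c
        rw [← Groth.Agent.GrStarBasic.sum_pr ℱ m, Finset.smul_sum, map_sum]
        refine Finset.sum_eq_zero fun j hj => ?_
        have := hB j (Finset.mem_biUnion.mpr ⟨m, hm, hj⟩)
        rw [Groth.Agent.GrStarBasic.pr_smul_right 𝒜 ℱ (Groth.Agent.GrStarBasic.pr_mem ℱ j m)]
        have h0 : Groth.Agent.GrStarBasic.pr 𝒜 (n - j) c ∈ (⊥ : Submodule k R) :=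
          hposR (n - j) (by omega) ▸ Groth.Agent.GrStarBasic.pr_mem 𝒜 (n - j) c
        rw [(Submodule.mem_bot k).mp h0, zero_smul]
      | zero => intro c; rw [smul_zero, map_zero]
      | add p q _ _ hp hq => intro c; rw [smul_add, map_add, hp, hq, add_zero]
      | smul e p _ hp => intro c; rw [← mul_smul]; exact hp _
    have key : ∀ (N : ℕ) (j : ℤ) (e : DF), -j - B < N → e ∈ 𝒟F j → e ∈ Q → e = 0 := by
      intro N
      induction N with
      | zero =>
        intro j e hj he _
        refine hDF.eq_zero j e he fun x hx => ?_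
        rw [← Groth.Agent.GrStarBasic.pr_same ℱ hx, hlow _ (by omega), map_zero]
      | succ N ih =>
        intro j e hj he heQ
        have hkill : ∀ r ∈ mR.toIdeal, r • e = 0 := by
          rw [hmR]
          intro r hr
          induction hr using Submodule.span_induction with
          | mem r hr =>
            obtain ⟨d, hd, hr⟩ := Set.mem_iUnion₂.mp hr
            exact ih (d + j) (r • e) (by have : (0 : ℤ) < d := hd; omega)
              (Groth.Agent.GrStarBasic.smul_mem 𝒜 𝒟F hr he) (Q.smul_mem r heQ)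
          | zero => rw [zero_smul]
          | add a b _ _ ha hb => rw [add_smul, ha, hb, add_zero]
          | smul c a _ ha => rw [smul_eq_mul, mul_smul, ha, smul_zero]
        have hK : ∀ x ∈ LinearMap.ker f, βF e x = 0 := fun x hx => by
          refine Submodule.smul_induction_on (hmin hx) (fun r hr y _ => ?_) fun a b ha hb => by rw [map_add, ha, hb, add_zero]
          rw [← hDF.map_smul, hkill r hr, map_zero, LinearMap.zero_apply]
        have : e ∈ Q ⊓ LinearMap.range g := ⟨heQ, hrange j e he hK⟩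
        rw [hbot] at this
        exact (Submodule.mem_bot R).mp this
    refine hQ0 (eq_bot_iff.mpr fun e he => (Submodule.mem_bot R).mpr (Groth.Agent.GrStarBasic.eq_of_pr 𝒟F fun j => ?_))
    rw [map_zero]
    exact key ((-j - B).toNat + 1) j _ (by omega) (Groth.Agent.GrStarBasic.pr_mem 𝒟F j e) (hQ j he)
  · intro hess x hx
    rw [← Groth.Agent.GrStarBasic.sum_pr ℱ x]
    refine Submodule.sum_mem _ fun n _ => ?_
    have hxn := hKhom n x hx
    by_contra hnot
    let W : Submodule k F := (mR.toIdeal • (⊤ : Submodule R F)).restrictScalars k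
    obtain ⟨φ, hφx, hφW⟩ := Submodule.exists_dual_map_eq_bot_of_notMem (p := W) hnot inferInstance
    obtain ⟨e, he, heφ⟩ := hDF.exists_eq (-n) φ
    have he1 : βF e (Groth.Agent.GrStarBasic.pr ℱ n x) = φ (Groth.Agent.GrStarBasic.pr ℱ n x) :=
      heφ _ (by rw [neg_neg]; exact Groth.Agent.GrStarBasic.pr_mem ℱ n x)
    have hkill : ∀ (d : ℤ), 0 < d → ∀ r ∈ 𝒜 d, r • e = 0 := by
      intro d hd r hr
      refine hDF.eq_zero (d + -n) _ (Groth.Agent.GrStarBasic.smul_mem 𝒜 𝒟F hr he) fun y hy => ?_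
      rw [hDF.map_smul, heφ _ (by
        have := Groth.Agent.GrStarBasic.smul_mem 𝒜 ℱ hr hy
        rwa [show d + -(d + -n) = - -n by omega] at this)]
      have h1 : r ∈ mR.toIdeal := by
        rw [hmR]; exact Ideal.subset_span (Set.mem_biUnion (show d ∈ Set.Ioi (0 : ℤ) from hd) hr)
      have h2 : r • y ∈ mR.toIdeal • (⊤ : Submodule R F) :=
        Submodule.smul_mem_smul (I := mR.toIdeal) (N := ⊤) h1 Submodule.mem_top
      have hmem : r • y ∈ W := h2
      exact (Submodule.eq_bot_iff _).mp hφW _ (Submodule.mem_map_of_mem hmem)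
    have hscal : ∀ r : R, ∃ c : k, r • e = c • e := by
      intro r
      induction r using DirectSum.Decomposition.inductionOn 𝒜 with
      | zero => exact ⟨0, by simp⟩
      | @homogeneous i a =>
        rcases lt_trichotomy i 0 with hi | hi | hi
        · refine ⟨0, ?_⟩
          have h0 : (a : R) ∈ (⊥ : Submodule k R) := hposR i hi ▸ a.2
          rw [(Submodule.mem_bot k).mp h0, zero_smul, zero_smul]
        · subst hi
          have h0 : (a : R) ∈ Submodule.span k {(1 : R)} := h0R ▸ a.2
          obtain ⟨c, hc⟩ := Submodule.mem_span_singleton.mp h0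
          exact ⟨c, by rw [← hc, smul_assoc, one_smul]⟩
        · exact ⟨0, by rw [hkill i hi _ a.2, zero_smul]⟩
      | add a b ha hb =>
        obtain ⟨c, hc⟩ := ha
        obtain ⟨c', hc'⟩ := hb
        exact ⟨c + c', by rw [add_smul, hc, hc', add_smul]⟩
    let Q : Submodule R DF := Submodule.span R {e}
    have hQ : Q.IsHomogeneous 𝒟F := fun i z hz => by
      obtain ⟨r, rfl⟩ := Submodule.mem_span_singleton.mp hz
      show Groth.Agent.GrStarBasic.pr 𝒟F i (r • e) ∈ Q
      rw [Groth.Agent.GrStarBasic.pr_smul_right 𝒜 𝒟F he]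
      exact Submodule.smul_mem _ _ (Submodule.mem_span_singleton_self e)
    have hne : φ (Groth.Agent.GrStarBasic.pr ℱ n x) ≠ 0 := hφx
    refine hess.essential Q hQ (fun h => hne ?_) (eq_bot_iff.mpr ?_)
    · have h' : e ∈ Q := Submodule.mem_span_singleton_self e
      rw [h, Submodule.mem_bot] at h'
      rw [← he1, h', map_zero, LinearMap.zero_apply]
    · rintro z ⟨hz, ⟨d, rfl⟩⟩
      obtain ⟨r, hr⟩ := Submodule.mem_span_singleton.mp hz
      obtain ⟨c, hc⟩ := hscal r
      rw [Submodule.mem_bot, ← hr, hc]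
      have h1 : βF (g d) (Groth.Agent.GrStarBasic.pr ℱ n x) = 0 := by
        rw [hg, LinearMap.mem_ker.mp hxn, map_zero]
      rw [← hr, hc, map_smul, LinearMap.smul_apply, he1, smul_eq_mul] at h1
      rw [(mul_eq_zero.mp h1).resolve_right hne, zero_smul]

end Groth.Agent.S19751
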