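import Groth.Statements.S19753
import Groth.Prelude.Def_GrSeg
import Groth.Prelude.Def_GrLC
import Groth.Prelude.Def_CAlg
import Groth.Agent.Lib.GrSegreDim
import Groth.Agent.Lib.SegreBilinear
import Groth.Agent.Lib.H2Depth
import Groth.Agent.Lib.H2DepthMore
import Mathlib
import Groth.Agent.Lib.GrSegreModuleDim

set_option autoImplicit false
universe u
open Groth.Agent.GrSegreDim Groth.Agent.SegreBilinear
open Groth.Agent.GrSegreModuleDim
open scoped TensorProduct
open DirectSum
open scoped TensorProduct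
open GrSegre

namespace Groth.Agent.S19753

/-- Let R and S be graded rings defined over a field k, both generated over k by their degree-one parts
and of positive Krull dimension, T = R # S, and let M and N be finitely generated graded modules
over R and S respectively, neither of them Artinian. Then dim (M # N) = dim M + dim N − 1,
dimensions being Krull dimensions of supports. Here a graded ring defined over k is a commutative
k-algebra of finite type, graded in nonnegative degrees by k-subspaces with degree-zero part k·1;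
the Segre product T = R # S = ⊕_n R_n ⊗_k S_n is presented abstractly as a graded k-algebra T with
an injective k-algebra homomorphism ψ : T → R ⊗_k S carrying T_n onto the k-span of the elementary
tensors a ⊗ b with a ∈ R_n, b ∈ S_n; the Segre product M # N = ⊕_n M_n ⊗_k N_n of a graded R-module
M and a graded S-module N is presented abstractly as a graded T-module P with an injective k-linear
map φ : P → M ⊗_k N carrying P_n onto the k-span of the tensors x ⊗ y with x ∈ M_n, y ∈ N_n and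
turning the action of t ∈ T into that of ψ(t) (acting factorwise on M ⊗_k N). -/
theorem result (k : Type u) [Field k] (R : Type u) [CommRing R] [Algebra k R] (𝒜 : ℤ → Submodule k R) [GradedAlgebra 𝒜] (hposR : ∀ n : ℤ, n < 0 → 𝒜 n = ⊥) (h0R : 𝒜 0 = Submodule.span k {(1 : R)}) [Algebra.FiniteType k R] (S : Type u) [CommRing S] [Algebra k S] (ℬ : ℤ → Submodule k S) [GradedAlgebra ℬ] (hposS : ∀ n : ℤ, n < 0 → ℬ n = ⊥) (h0S : ℬ 0 = Submodule.span k {(1 : S)}) [Algebra.FiniteType k S] (T : Type u) [CommRing T] [Algebra k T] (𝒯 : ℤ → Submodule k T) [GradedAlgebra 𝒯] (ψ : T →ₐ[k] TensorProduct k R S) (hT : GrSeg.IsSegreRing 𝒜 ℬ 𝒯 ψ) (hstdR : Ideal.span (⋃ n ∈ Set.Ioi (0 : ℤ), (𝒜 n : Set R)) = Ideal.span ((𝒜 1 : Submodule k R) : Set R)) (hstdS : Ideal.span (⋃ n ∈ Set.Ioi (0 : ℤ), (ℬ n : Set S)) = Ideal.span ((ℬ 1 : Submodule k S) : Set S)) (hr1 : 1 ≤ ringKrullDim R) (hs1 : 1 ≤ ringKrullDim S) (M : Type u) [AddCommGroup M] [Module R M] [Module k M] [IsScalarTower k R M] (ℳ :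 ℤ → AddSubgroup M) [DirectSum.Decomposition ℳ] [SetLike.GradedSMul 𝒜 ℳ] [Module.Finite R M] (N : Type u) [AddCommGroup N] [Module S N] [Module k N] [IsScalarTower k S N] (𝒩 : ℤ → AddSubgroup N) [DirectSum.Decomposition 𝒩] [SetLike.GradedSMul ℬ 𝒩] [Module.Finite S N] (P : Type u) [AddCommGroup P] [Module T P] [Module k P] [IsScalarTower k T P] (𝒬 : ℤ → AddSubgroup P) [DirectSum.Decomposition 𝒬] (φ : P →ₗ[k] TensorProduct k M N) (hP : GrSeg.IsSegreMod ψ ℳ 𝒩 𝒬 φ) (dM dN : ℕ) (hdM : Module.supportDim R M = dM) (hdN : Module.supportDim S N = dN) (hMA : ¬ IsArtinian R M) (hNA : ¬ IsArtinian S N) : Module.supportDim T P = ((dM + dN - 1 : ℕ) : WithBot ℕ∞) := by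
  obtain ⟨d, hd, f, g, hf, hg, hM, hN⟩ := systems 𝒜 ℬ hposR h0R hposS h0S ℳ 𝒩 dM dN hdM hdN
  obtain ⟨-, hMf, -, hMart⟩ := module_data ℳ f hM dM hdM
  obtain ⟨-, hNf, -, hNart⟩ := module_data 𝒩 g hN dN hdN
  have hc : 1 ≤ dM := Nat.pos_of_ne_zero fun h => hMA (hMart h)
  have he : 1 ≤ dN := Nat.pos_of_ne_zero fun h => hNA (hNart h)
  obtain ⟨a, ha⟩ := exists_free ℳ f hM (hMf le_rfl)
  obtain ⟨b, hb⟩ := exists_free 𝒩 g hN (hNf le_rfl)
  have hMs : ∀ j : ℕ, ∃ x ∈ ℳ (a + j), Free' k f x := fun j => by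
    induction j with
    | zero => simpa using ha
    | succ j ih => rw [Nat.cast_succ, ← add_assoc]; exact free_succ 𝒜 ℳ hstdR hd hc f hf ih
  have hNs : ∀ j : ℕ, ∃ x ∈ 𝒩 (b + j), Free' k g x := fun j => by
    induction j with
    | zero => simpa using hb
    | succ j ih => rw [Nat.cast_succ, ← add_assoc]; exact free_succ ℬ 𝒩 hstdS hd he g hg ih
  obtain ⟨x, hx, hxf⟩ := hMs (max a b - a).toNat
  obtain ⟨y, hy, hyf⟩ := hNs (max a b - b).toNat
  rw [Int.toNat_of_nonneg (by omega), add_sub_cancel] at hx hy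
  exact segre_dim 𝒜 ℬ 𝒯 ψ hT ℳ 𝒩 𝒬 φ hP hd hc he f g hf hg hM hN x hx hxf y hy hyf

end Groth.Agent.S19753
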