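import Groth.Statements.S19754
import Groth.Prelude.Def_GrSeg
import Groth.Prelude.Def_GrLC
import Groth.Prelude.Def_CAlg
import Groth.Agent.Lib.GrSegreDim
import Groth.Agent.Lib.SegreBilinear
import Groth.Agent.Lib.H2Depth
import Groth.Agent.Lib.H2DepthMore
import Mathlib
import Groth.Agent.Lib.GrSegreModuleDim

set_option autoImplicit false
universe u
open Groth.Agent.GrSegreDim Groth.Agent.SegreBilinear
open Groth.Agent.GrSegreModuleDim
open scoped TensorProduct
open DirectSum
open scoped TensorProduct
open GrSegre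

namespace Groth.Agent.S19754

/-- Let R and S be graded rings defined over a field k, T = R # S, M a finitely generated graded
Cohen–Macaulay R-module of dimension r ≥ 1 and N a finitely generated graded Cohen–Macaulay S-module
of dimension s ≥ 1. Then either M # N = 0 or dim (M # N) = r + s − 1. The letters r and s stand here
for the dimensions of the modules M and N themselves and are not assumed to equal dim R and dim S;
the proof by homogeneous parameter systems of M and N establishes this general form. Here a graded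
ring defined over k is a commutative k-algebra of finite type, graded in nonnegative degrees by
k-subspaces with degree-zero part k·1; the Segre product T = R # S = ⊕_n R_n ⊗_k S_n is presented
abstractly as a graded k-algebra T with an injective k-algebra homomorphism ψ : T → R ⊗_k S carrying
T_n onto the k-span of the elementary tensors a ⊗ b with a ∈ R_n, b ∈ S_n; the Segre product M # N =
⊕_n M_n ⊗_k N_n of a graded R-module M and a graded S-module N is presented abstractly as a graded
T-module P with an injective k-linear map φ : P → M ⊗_k N carrying P_n onto the k-span of the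
tensors x ⊗ y with x ∈ M_n, y ∈ N_n and turning the action of t ∈ T into that of ψ(t) (acting
factorwise on M ⊗_k N); a module over a ring is called Cohen–Macaulay when each of its localizations
at a prime ideal is zero or a Cohen–Macaulay module over the local ring (dimension of the support
equal to the depth), and the dimension of a module is the Krull dimension of its support. -/
theorem result (k : Type u) [Field k] (R : Type u) [CommRing R] [Algebra k R] (𝒜 : ℤ → Submodule k R) [GradedAlgebra 𝒜] (hposR : ∀ n : ℤ, n < 0 → 𝒜 n = ⊥) (h0R : 𝒜 0 = Submodule.span k {(1 : R)}) [Algebra.FiniteType k R] (S : Type u) [CommRing S] [Algebra k S] (ℬ : ℤ → Submodule k S) [GradedAlgebra ℬ] (hposS : ∀ n : ℤ, n < 0 → ℬ n = ⊥) (h0S : ℬ 0 = Submodule.span k {(1 : S)}) [Algebra.FiniteType k S] (T : Type u) [CommRing T] [Algebra k T] (𝒯 : ℤ → Submodule k T) [GradedAlgebra 𝒯] (ψ : T →ₐ[k] TensorProduct k R S) (hT : GrSeg.IsSegreRing 𝒜 ℬ 𝒯 ψ) (M : Type u) [AddCommGroup M] [Module R M] [Module k M] [IsScalarTower k R M] (ℳ : ℤ → AddSubgroup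 M) [DirectSum.Decomposition ℳ] [SetLike.GradedSMul 𝒜 ℳ] [Module.Finite R M] (N : Type u) [AddCommGroup N] [Module S N] [Module k N] [IsScalarTower k S N] (𝒩 : ℤ → AddSubgroup N) [DirectSum.Decomposition 𝒩] [SetLike.GradedSMul ℬ 𝒩] [Module.Finite S N] (P : Type u) [AddCommGroup P] [Module T P] [Module k P] [IsScalarTower k T P] (𝒬 : ℤ → AddSubgroup P) [DirectSum.Decomposition 𝒬] (φ : P →ₗ[k] TensorProduct k M N) (hP : GrSeg.IsSegreMod ψ ℳ 𝒩 𝒬 φ) (r s : ℕ) (h1r : 1 ≤ r) (h1s : 1 ≤ s) (hdM : Module.supportDim R M = r) (hdN : Module.supportDim S N = s) (hMcm : (∀ (q : Ideal R) [q.IsPrime], Subsingleton (LocalizedModule q.primeCompl M) ∨ LocCoh.IsCohenMacaulayModule (Localization.AtPrime q) (LocalizedModule q.primeCompl M))) (hNcm : (∀ (q : Ideal S) [q.IsPrime], Subsingleton (LocalizedModule q.primeCompl N) ∨ LocCoh.IsCohenMacaulayModule (Localization.AtPrime q) (LocalizedModule q.primeCompl N))) : Module.supportDim T P = ((r + s - 1 : ℕ) : WithBot ℕ∞) ∨ Subsingleton P := by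
  classical
  obtain ⟨d, hd, f, g, hf, hg, hM, hN⟩ := systems 𝒜 ℬ hposR h0R hposS h0S ℳ 𝒩 r s hdM hdN
  by_cases h : ∃ n : ℤ, ∃ x ∈ ℳ n, ∃ y ∈ 𝒩 n, x ≠ 0 ∧ y ≠ 0
  · obtain ⟨n, x, hx, y, hy, hx0, hy0⟩ := h
    exact Or.inl (segre_dim 𝒜 ℬ 𝒯 ψ hT ℳ 𝒩 𝒬 φ hP hd h1r h1s f g hf hg hM hN
      x hx (free_of_cm 𝒜 hposR h0R ℳ r hdM hMcm f hM x hx hx0)
      y hy (free_of_cm ℬ hposS h0S 𝒩 s hdN hNcm g hN y hy hy0))
  · refine Or.inr ⟨fun p q => ?_⟩
    have hz : ∀ p : P, p = 0 := by
      intro p
      induction p using DirectSum.Decomposition.inductionOn 𝒬 with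
      | zero => rfl
      | @homogeneous n m =>
        refine hP.injective ?_
        rw [map_zero]
        have hm : φ m ∈ GrSeg.segrePiece k ℳ 𝒩 n := by
          rw [← SetLike.mem_coe, ← hP.image_piece]; exact ⟨m, m.2, rfl⟩
        have hbot : GrSeg.segrePiece k ℳ 𝒩 n = ⊥ := by
          rw [GrSeg.segrePiece, Submodule.span_eq_bot]
          rintro _ ⟨a, ha, b, hb, rfl⟩
          by_cases ha0 : a = 0
          · simp [ha0]
          by_cases hb0 : b = 0
          · simp [hb0]
          exact absurd ⟨n, a, ha, b, hb, ha0, hb0⟩ h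
        exact (Submodule.mem_bot k).mp (hbot ▸ hm)
      | add a b ha hb => rw [ha, hb, add_zero]
    rw [hz p, hz q]

end Groth.Agent.S19754
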