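import Groth.Statements.S1976
import Mathlib
import Groth.Prelude.Def_PBC
import Groth.Agent.Lib.H2IndEtale
import Groth.Agent.S1970

set_option autoImplicit false
universe u
open CategoryTheory
open EtAlg

namespace Groth.Agent.S1976
open TensorProduct
set_option maxHeartbeats 1000000
set_option synthInstance.maxHeartbeats 400000
set_option backward.isDefEq.respectTransparency.types false

/-- (2) ⇔ (3): a K-algebra B over a field K is weakly etale exactly when it can be written as a filtered
colimit of etale K-algebras, and in that case its finitely generated K-subalgebras are etale. -/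
theorem result (K : Type u) [Field K] (B : Type u) [CommRing B] [Algebra K B] :
    (Algebra.WeaklyEtale K B ↔ EtPBC.IsIndEtale K B) ∧
    (Algebra.WeaklyEtale K B → ∀ S : Subalgebra K B, S.FG → Algebra.Etale K S) := by
  have hS : Algebra.WeaklyEtale K B → ∀ S : Subalgebra K B, S.FG → Algebra.Etale K S := fun hw S hS => by
    haveI := hw
    haveI : Algebra.WeaklyEtale K S := (Groth.Agent.S1970.result K B).1 S
    haveI : Algebra.FiniteType K S := (Subalgebra.fg_iff_finiteType S).mp hS
    let μ := Algebra.TensorProduct.lmul' K (S := S)
    have hμs : Function.Surjective μ := fun s => ⟨s ⊗ₜ 1, by simp [μ]⟩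
    have aux : ∀ {R T : Type u} [CommRing R] [CommRing T] (f : R →+* T), Function.Surjective f → f.Flat →
        IsIdempotentElem (RingHom.ker f) := fun {R T} _ _ f hf hfl => by
      let q := RingHom.quotientKerEquivOfSurjective hf
      have hq : (Ideal.Quotient.mk (RingHom.ker f)).Flat := by
        have : Ideal.Quotient.mk (RingHom.ker f) = q.symm.toRingHom.comp f :=
          RingHom.ext fun r => ((q.symm_apply_eq).mpr rfl).symm
        rw [this]
        exact hfl.comp (.of_bijective (RingEquiv.bijective _))
      haveI : (RingHom.ker f).Pure := RingHom.flat_algebraMap_iff.mp (by exact hq)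
      exact Ideal.isIdempotentElem_of_pure _
    haveI : Algebra.FormallyUnramified K S :=
      ⟨(Ideal.cotangent_subsingleton_iff (RingHom.ker μ.toRingHom)).mpr (aux μ.toRingHom hμs (Algebra.WeaklyEtale.flat_lmul' K S))⟩
    haveI : Algebra.FormallyEtale K S := Algebra.FormallyEtale.of_formallyUnramified_of_field K S
    haveI : Algebra.FinitePresentation K S := (Algebra.FinitePresentation.of_finiteType).mp inferInstance
    exact {}
  refine ⟨⟨fun hw => ?_, fun h => ?_⟩, hS⟩
  · refine Groth.Agent.H2IndEtale.isIndEtale_of_covered (fun l => ?_) inferInstance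
    let S := Algebra.adjoin K {t | t ∈ l}
    haveI := hS hw S (Subalgebra.fg_def.mpr ⟨{t | t ∈ l}, l.finite_toSet, rfl⟩)
    exact ⟨S, inferInstance, inferInstance, inferInstance, S.val, fun t ht => ⟨⟨t, Algebra.subset_adjoin ht⟩, rfl⟩⟩
  · haveI := Groth.Agent.H2EtaleCover.flat_of_isIndEtale h
    exact Groth.Agent.H2EtaleCover.weaklyEtale (Groth.Agent.H2EtaleCover.covered_of_isIndEtale h)

end Groth.Agent.S1976
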