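import Groth.Statements.S19762
import Groth.Agent.Lib.H1GrDual
import Mathlib

set_option autoImplicit false
universe u
open GrDual

namespace Groth.Agent.S19762

section aux
open Groth.Agent.GrStarBasic Groth.Agent.H1GrDual

variable {k : Type u} [Field k] {R : Type u} [CommRing R] [Algebra k R] {𝒜 : ℤ → Submodule k R} [GradedAlgebra 𝒜]
variable {M : Type u} [AddCommGroup M] [Module R M] [Module k M] [IsScalarTower k R M]
  {ℳ : ℤ → AddSubgroup M} [DirectSum.Decomposition ℳ] [SetLike.GradedSMul 𝒜 ℳ]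
variable {D : Type u} [AddCommGroup D] [Module R D] [Module k D] [IsScalarTower k R D]
  {𝒟 : ℤ → AddSubgroup D} [DirectSum.Decomposition 𝒟] {β : D →ₗ[k] M →ₗ[k] k}

theorem apply_deg (hD : GrSeg.IsGDual R ℳ 𝒟 β) (d : D) {j : ℤ} {x : M} (hx : x ∈ ℳ (-j)) :
    β d x = β (pr 𝒟 j d) x := by
  classical
  rw [sum_apply (𝒟 := 𝒟) β d, LinearMap.sum_apply, Finset.sum_eq_single j]
  · intro i _ hi
    exact hD.vanish i _ (pr_mem 𝒟 i d) (-j) (fun h => hi (by omega)) x hx
  · intro h
    rw [show pr 𝒟 j d = 0 from by simpa [pr] using DFinsupp.notMem_support_iff.mp h, map_zero, LinearMap.zero_apply]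

theorem eq_zero_of_forall' (hD : GrSeg.IsGDual R ℳ 𝒟 β) {d : D} (h : ∀ x, β d x = 0) : d = 0 := by
  refine eq_of_pr 𝒟 fun j => ?_
  rw [map_zero]
  exact hD.eq_zero j _ (pr_mem 𝒟 j d) fun x hx => by rw [← apply_deg hD d hx, h]

end aux


/-- Let R = ⊕_{n ≥ 0} R_n be a Noetherian graded ring with R_0 = k a field. The graded k-dual is an
equivalence between Noetherian graded R-modules and the opposite category of Artinian graded
R-modules; on morphisms: for finitely generated graded R-modules F and M, every homomorphism of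
graded R-modules g : M^* → F^* is f^* for a unique homomorphism of graded R-modules f : F → M. Here
a graded ring defined over k is a commutative k-algebra of finite type, graded in nonnegative
degrees by k-subspaces with degree-zero part k·1, and R_+ is the ideal spanned by the R_n with n > 0
(a Noetherian such ring is the same as one of finite type over k); the graded k-dual M^* = ⊕_n
Hom_k(M_{−n}, k) of a graded R-module M (with r ∈ R acting by (r f)(x) = f(r x)) is presented
abstractly as a graded R-module D with a k-bilinear pairing β : D × M → k compatible with the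
R-actions, under which D_n pairs to zero with M_m for m ≠ −n and is identified with the full dual
space of M_{−n}; f^* = g means β_F(g d, x) = β_M(d, f x) for all d and x. -/
theorem result (k : Type u) [Field k] (R : Type u) [CommRing R] [Algebra k R] (𝒜 : ℤ → Submodule k R) [GradedAlgebra 𝒜] (hposR : ∀ n : ℤ, n < 0 → 𝒜 n = ⊥) (h0R : 𝒜 0 = Submodule.span k {(1 : R)}) [Algebra.FiniteType k R] (F : Type u) [AddCommGroup F] [Module R F] [Module k F] [IsScalarTower k R F] (ℱ : ℤ → AddSubgroup F) [DirectSum.Decomposition ℱ] [SetLike.GradedSMul 𝒜 ℱ] [Module.Finite R F] (M : Type u) [AddCommGroup M] [Module R M] [Module k M] [IsScalarTower k R M] (ℳ : ℤ → AddSubgroup M) [DirectSum.Decomposition ℳ] [SetLike.GradedSMul 𝒜 ℳ] [Module.Finite R M] (DM : Type u) [AddCommGroup DM] [Module R DM] [Module k DM] [IsScalarTower k R DM] (𝒟M : ℤ → AddSubgroup DM) [DirectSum.Decomposition 𝒟M] [SetLike.GradedSMul 𝒜 𝒟M] (βM : DM →ₗ[k] M →ₗ[k] k) (hDM : GrSeg.IsGDual R ℳ 𝒟M βM) (DF : Type u) [AddCommGroup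 DF] [Module R DF] [Module k DF] [IsScalarTower k R DF] (𝒟F : ℤ → AddSubgroup DF) [DirectSum.Decomposition 𝒟F] [SetLike.GradedSMul 𝒜 𝒟F] (βF : DF →ₗ[k] F →ₗ[k] k) (hDF : GrSeg.IsGDual R ℱ 𝒟F βF) (g : DM →ₗ[R] DF) (hg : GrLC.IsGrHom 𝒟M 𝒟F g) : ∃! f : F →ₗ[R] M, GrLC.IsGrHom ℱ ℳ f ∧ GrSeg.IsGDualMap βM βF f g := by
  classical
  have hsep : ∀ y y' : M, (∀ d, βM d y = βM d y') → y = y' := fun y y' h =>
    sub_eq_zero.mp (Groth.Agent.H1GrDual.eq_zero_of_forall (𝒜 := 𝒜) hDM fun d => by rw [map_sub, h, sub_self])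
  have hsep' : ∀ d : DM, (∀ x, βM d x = 0) → d = 0 := fun d h => eq_zero_of_forall' hDM h
  -- the functional to be represented, degree by degree
  have hhom : ∀ (m : ℤ) (x : F), x ∈ ℱ m → ∃ y ∈ ℳ m, ∀ d, βM d y = βF (g d) x := by
    intro m x hx
    let P : Submodule k M := Groth.Agent.H1GrDual.kPiece (k := k) (𝒜 := 𝒜) ℳ m
    haveI : Module.Finite k ↥P := Groth.Agent.H1GrDual.finite_piece ℳ hposR h0R m
    let E : Submodule k DM := Groth.Agent.H1GrDual.kPiece (k := k) (𝒜 := 𝒜) 𝒟M (-m)
    let T : ↥E →ₗ[k] Module.Dual k ↥P :=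
      { toFun := fun d => (βM d.1).domRestrict P
        map_add' := fun a b => LinearMap.ext fun z => by simp
        map_smul' := fun c a => LinearMap.ext fun z => by simp }
    have hT : Function.Bijective T := by
      refine ⟨(injective_iff_map_eq_zero T).mpr fun d hd => Subtype.ext (hDM.eq_zero (-m) d.1 d.2 fun z hz => ?_), fun φ => ?_⟩
      · rw [neg_neg] at hz
        exact LinearMap.congr_fun hd ⟨z, hz⟩
      · obtain ⟨φ', hφ'⟩ := φ.exists_extend
        obtain ⟨d, hd, hdφ⟩ := hDM.exists_eq (-m) φ'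
        refine ⟨⟨d, hd⟩, LinearMap.ext fun z => ?_⟩
        show βM d z.1 = φ z
        rw [hdφ z.1 (by rw [neg_neg]; exact z.2), ← hφ']
        rfl
    let e := LinearEquiv.ofBijective T hT
    let L : ↥E →ₗ[k] k :=
      { toFun := fun d => βF (g d.1) x
        map_add' := fun a b => by simp
        map_smul' := fun c a => by simp [LinearMap.map_smul_of_tower] }
    obtain ⟨y, hy⟩ := (Module.evalEquiv k ↥P).surjective (L ∘ₗ e.symm.toLinearMap)
    refine ⟨y.1, y.2, fun d => ?_⟩
    have h1 : βM d y.1 = βM (Groth.Agent.GrStarBasic.pr 𝒟M (-m) d) y.1 :=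
      apply_deg hDM d (j := -m) (by rw [neg_neg]; exact y.2)
    have h2 : βF (g d) x = βF (g (Groth.Agent.GrStarBasic.pr 𝒟M (-m) d)) x := by
      rw [apply_deg hDF (g d) (j := -m) (by rw [neg_neg]; exact hx), Groth.Agent.GrStarBasic.map_pr (ℳ := 𝒟M) (𝒩 := 𝒟F) hg]
    rw [h1, h2]
    let d' : ↥E := ⟨_, Groth.Agent.GrStarBasic.pr_mem 𝒟M (-m) d⟩
    have h3 := LinearMap.congr_fun hy (e d')
    rw [LinearMap.comp_apply, LinearEquiv.coe_coe, e.symm_apply_apply] at h3
    exact h3
  have hex : ∀ x : F, ∃ y : M, ∀ d, βM d y = βF (g d) x := by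
    intro x
    induction x using DirectSum.Decomposition.inductionOn ℱ with
    | zero => exact ⟨0, fun d => by simp⟩
    | homogeneous x => obtain ⟨y, -, hy⟩ := hhom _ x.1 x.2; exact ⟨y, hy⟩
    | add a b ha hb =>
      obtain ⟨ya, hya⟩ := ha
      obtain ⟨yb, hyb⟩ := hb
      exact ⟨ya + yb, fun d => by rw [map_add, map_add, hya, hyb]⟩
  choose φ hφ using hex
  let f : F →ₗ[R] M :=
    { toFun := φ
      map_add' := fun a b => hsep _ _ fun d => by rw [hφ, map_add, map_add, hφ, hφ]
      map_smul' := fun r a => hsep _ _ fun d => by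
        rw [hφ, RingHom.id_apply, ← hDM.map_smul, hφ, LinearMap.map_smul g, hDF.map_smul] }
  refine ⟨f, ⟨fun m x hx => ?_, fun d x => (hφ x d).symm⟩, ?_⟩
  · obtain ⟨y, hy, hyd⟩ := hhom m x hx
    rw [show f x = y from hsep _ _ fun d => (hφ x d).trans (hyd d).symm]
    exact hy
  · rintro f' ⟨-, hf'⟩
    exact LinearMap.ext fun x => hsep _ _ fun d => (hf' d x).symm.trans (hφ x d).symm

end Groth.Agent.S19762
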