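import Groth.Statements.S1977
import Mathlib
import Groth.Prelude.Def_EtAlgD
import Groth.Prelude.Def_PBC
import Groth.Agent.Lib.H2IndEtale
import Groth.Agent.S1970
import Groth.Agent.S1976

set_option autoImplicit false
universe u
open EtAlg

namespace Groth.Agent.S1977
open TensorProduct
set_option maxHeartbeats 1000000
set_option synthInstance.maxHeartbeats 400000
set_option backward.isDefEq.respectTransparency.types false

/-- Let K be a field and A a K-algebra. The supremum of the weakly etale K-subalgebras of A is itself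
weakly etale over K; it is therefore the largest weakly etale K-subalgebra of A. -/
theorem result (K : Type u) [Field K] (A : Type u) [CommRing A] [Algebra K A] :
    Algebra.WeaklyEtale K ↥(EtAlgD.maxWeaklyEtale K A) := by
  let C : Set A := {a | ∃ (X : Type u) (_ : CommRing X) (_ : Algebra K X) (_ : Algebra.Etale K X) (f : X →ₐ[K] A), ∃ x, f x = a}
  have h2 : ∀ a b, a ∈ C → b ∈ C → ∃ (X : Type u) (_ : CommRing X) (_ : Algebra K X) (_ : Algebra.Etale K X) (f : X →ₐ[K] A),
      (∃ x, f x = a) ∧ ∃ y, f y = b := fun a b ha hb => by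
    obtain ⟨X, _, _, _, f, x, rfl⟩ := ha
    obtain ⟨Y, _, _, _, g, y, rfl⟩ := hb
    haveI : Algebra.Etale K (X ⊗[K] Y) := Algebra.Etale.comp K X (X ⊗[K] Y)
    exact ⟨X ⊗[K] Y, inferInstance, inferInstance, inferInstance, Algebra.TensorProduct.lift f g fun _ _ => Commute.all _ _,
      ⟨x ⊗ₜ 1, by simp⟩, ⟨1 ⊗ₜ y, by simp⟩⟩
  let S0 : Subalgebra K A :=
    { carrier := C
      one_mem' := ⟨K, inferInstance, inferInstance, inferInstance, Algebra.ofId K A, 1, map_one _⟩
      zero_mem' := ⟨K, inferInstance, inferInstance, inferInstance, Algebra.ofId K A, 0, map_zero _⟩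
      mul_mem' := fun {a b} ha hb => by
        obtain ⟨X, _, _, _, f, ⟨x, rfl⟩, y, rfl⟩ := h2 a b ha hb
        exact ⟨X, inferInstance, inferInstance, inferInstance, f, x * y, map_mul _ _ _⟩
      add_mem' := fun {a b} ha hb => by
        obtain ⟨X, _, _, _, f, ⟨x, rfl⟩, y, rfl⟩ := h2 a b ha hb
        exact ⟨X, inferInstance, inferInstance, inferInstance, f, x + y, map_add _ _ _⟩
      algebraMap_mem' := fun c => ⟨K, inferInstance, inferInstance, inferInstance, Algebra.ofId K A, c, rfl⟩ }
  have hle : EtAlgD.maxWeaklyEtale K A ≤ S0 := sSup_le fun S (hS : Algebra.WeaklyEtale K S) a ha => by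
    obtain ⟨X, _, _, _, f, hf⟩ := Groth.Agent.H2EtaleCover.covered_of_isIndEtale ((Groth.Agent.S1976.result K S).1.mp hS) [⟨a, ha⟩]
    obtain ⟨x, hx⟩ := hf ⟨a, ha⟩ (List.mem_singleton_self _)
    exact ⟨X, inferInstance, inferInstance, inferInstance, S.val.comp f, x, congrArg Subtype.val hx⟩
  have hrange : ∀ (X : Type u) [CommRing X] [Algebra K X] [Algebra.Etale K X] (f : X →ₐ[K] A),
      f.range ≤ EtAlgD.maxWeaklyEtale K A := fun X _ _ _ f => le_sSup (by
    haveI := Groth.Agent.S1970.we_quotient (K := K) (RingHom.ker f.toRingHom)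
    let e : (X ⧸ RingHom.ker f.toRingHom) ≃ₐ[K] f.range :=
      (Ideal.quotientEquivAlgOfEq K (show RingHom.ker f.toRingHom = RingHom.ker f.rangeRestrict.toRingHom by
        ext x; simp [RingHom.mem_ker, Subtype.ext_iff])).trans
        (Ideal.quotientKerAlgEquivOfSurjective f.rangeRestrict_surjective)
    refine (Groth.Agent.S1976.result K f.range).1.mpr (Groth.Agent.H2IndEtale.isIndEtale_of_covered (fun l => ?_) inferInstance)
    refine ⟨X, inferInstance, inferInstance, inferInstance, f.rangeRestrict, fun t _ => f.rangeRestrict_surjective t⟩)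
  refine (Groth.Agent.S1976.result K _).1.mpr (Groth.Agent.H2IndEtale.isIndEtale_of_covered (fun l => ?_) inferInstance)
  have key : ∀ m : List (EtAlgD.maxWeaklyEtale K A), ∃ (X : Type u) (_ : CommRing X) (_ : Algebra K X) (_ : Algebra.Etale K X) (f : X →ₐ[K] A),
      ∀ t ∈ m, ∃ x, f x = (t : A) := fun m => by
    induction m with
    | nil => exact ⟨K, inferInstance, inferInstance, inferInstance, Algebra.ofId K A, by simp⟩
    | cons b m ih =>
      obtain ⟨X, _, _, _, f, hf⟩ := ih
      obtain ⟨Y, _, _, _, g, y, hy⟩ := hle b.2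
      haveI : Algebra.Etale K (X ⊗[K] Y) := Algebra.Etale.comp K X (X ⊗[K] Y)
      refine ⟨X ⊗[K] Y, inferInstance, inferInstance, inferInstance, Algebra.TensorProduct.lift f g fun _ _ => Commute.all _ _,
        fun t ht => ?_⟩
      rcases List.mem_cons.1 ht with rfl | ht
      · exact ⟨1 ⊗ₜ y, by simp [hy]⟩
      · obtain ⟨x, hx⟩ := hf t ht
        exact ⟨x ⊗ₜ 1, by simp [hx]⟩
  obtain ⟨X, _, _, _, f, hf⟩ := key l
  refine ⟨X, inferInstance, inferInstance, inferInstance, f.codRestrict _ (fun x => hrange X f ⟨x, rfl⟩), fun t ht => ?_⟩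
  obtain ⟨x, hx⟩ := hf t ht
  exact ⟨x, Subtype.ext hx⟩

end Groth.Agent.S1977
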