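import Groth.Statements.S19864
import Mathlib
import Groth.Prelude.Def_Found
import Groth.Prelude.Def_CAlg
import Groth.Prelude.Def_CAlgX
import Groth.Prelude.Def_EGA4b
import Groth.Agent.Lib.H2GeomRegMore
import Groth.Agent.Lib.H2RegDescend
import Groth.Agent.S2451
import Groth.Agent.S4573

set_option autoImplicit false
universe u
open CAlg

namespace Groth.Agent.S19864
open TensorProduct IsLocalRing
open Groth.Agent.H2GeomRegMore
set_option backward.isDefEq.respectTransparency.types false
set_option synthInstance.maxHeartbeats 400000
set_option maxHeartbeats 1000000

/-- Let A and B be Noetherian rings and B an A-algebra. Then A → B is a regular homomorphism (flat with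
Noetherian, geometrically regular fibres) if and only if for every prime q of B lying over the prime
p of A the induced local homomorphism A_p → B_q is formally smooth for the adic topologies of the
maximal ideals (equivalently, for the adic topology of the maximal ideal of B_q). -/
theorem result (A B : Type u)
    [CommRing A] [CommRing B] [Algebra A B] [IsNoetherianRing A] [IsNoetherianRing B] :
    CAlg.IsRegularHom A B ↔
      ∀ (q : Ideal B) [q.IsPrime],
        letI := (Localization.localRingHom (Ideal.comap (algebraMap A B) q) q (algebraMap A B) rfl).toAlgebra
        CAlgX.IsAdicFormallySmooth (Localization.AtPrime (Ideal.comap (algebraMap A B) q))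
          (Localization.AtPrime q) (IsLocalRing.maximalIdeal (Localization.AtPrime q)) := by
  rw [isRegularHom_iff]
  refine forall_congr' fun q => forall_congr' fun hq => ?_
  letI : Algebra (Localization.AtPrime (q.comap (algebraMap A B))) (Localization.AtPrime q) :=
    (Localization.localRingHom _ q (algebraMap A B) rfl).toAlgebra
  haveI : IsScalarTower A (Localization.AtPrime (q.comap (algebraMap A B))) (Localization.AtPrime q) := IsScalarTower.of_algebraMap_eq fun x => by
    refine Eq.trans ?_ (Localization.localRingHom_to_map _ q (algebraMap A B) rfl x).symm
    exact IsScalarTower.algebraMap_apply A B (Localization.AtPrime q) x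
  exact (adicFS_base (q.comap (algebraMap A B)).primeCompl _).symm

end Groth.Agent.S19864
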