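import Groth.Statements.S19868
import Groth.Agent.Lib.PLieCoord
import Mathlib.Algebra.Field.GeomSum
import Mathlib.Tactic.LinearCombination

set_option autoImplicit false
set_option maxHeartbeats 3000000
universe u v
open PLie

namespace Groth.Agent.S19868

open DualNumber in
/-- Let K be a field of prime characteristic p, K[ε] the ring of dual numbers (taken with its
characteristic-p structure) and a, …, i ∈ K. Let L be a Lie algebra over K[ε], free as a module with
basis x = bs 0, y = bs 1, z = bs 2 and brackets [x,y] = aε x + bε y + cε z, [x,z] = dε x + eε y + fε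
z, [y,z] = (1 + gε) x + hε y + iε z, a first-order deformation of the Heisenberg algebra (the Jacobi
identity forces b + f = 0). Then L carries a p-mapping over K[ε] if and only if b = c = e = 0 when p
= 2; for odd p there is no condition. (The published statement is about the singularity of the point
h_3 in the restrictable locus of the rank-one-centre stratum of the moduli scheme of based
three-dimensional Lie algebras over the prime field; this row states the restrictability criterion
for the first-order deformations of h_3 asserted in its proof, over any field of characteristic p in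
place of the prime field.) -/
theorem result (K : Type u) [Field K] (p : ℕ) [Fact p.Prime] [CharP K p]
    [CharP (DualNumber K) p] (a b c d e f g h i : K)
    (L : Type v) [LieRing L] [LieAlgebra (DualNumber K) L] (bs : Module.Basis (Fin 3) (DualNumber K) L)
    (hxy : ⁅bs 0, bs 1⁆ = (a • ε : DualNumber K) • bs 0 + (b • ε : DualNumber K) • bs 1 + (c • ε : DualNumber K) • bs 2)
    (hxz : ⁅bs 0, bs 2⁆ = (d • ε : DualNumber K) • bs 0 + (e • ε : DualNumber K) • bs 1 + (f • ε : DualNumber K) • bs 2)
    (hyz : ⁅bs 1, bs 2⁆ = (1 + g • ε : DualNumber K) • bs 0 + (h • ε : DualNumber K) • bs 1 + (i • ε : DualNumber K) • bs 2) :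
    Nonempty (PLie.PMap (DualNumber K) p L) ↔ (p = 2 → b = 0 ∧ c = 0 ∧ e = 0) := by
  have hpr := (Fact.out : p.Prime)
  obtain ⟨n, hn⟩ : ∃ n, p = n + 2 := ⟨p - 2, by have := hpr.two_le; omega⟩
  let A : Fin 3 → DualNumber K := ![PLieCoord.dn 0 a, PLieCoord.dn 0 b, PLieCoord.dn 0 c]
  let B : Fin 3 → DualNumber K := ![PLieCoord.dn 0 d, PLieCoord.dn 0 e, PLieCoord.dn 0 f]
  let C : Fin 3 → DualNumber K := ![PLieCoord.dn 1 g, PLieCoord.dn 0 h, PLieCoord.dn 0 i]
  have hA : ∀ j, bs.repr ⁅bs 0, bs 1⁆ j = A j := by
    intro j; rw [hxy]; fin_cases j <;> simp [A, Finsupp.single_apply, PLieCoord.dn_eps]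
  have hB : ∀ j, bs.repr ⁅bs 0, bs 2⁆ j = B j := by
    intro j; rw [hxz]; fin_cases j <;> simp [B, Finsupp.single_apply, PLieCoord.dn_eps]
  have hC : ∀ j, bs.repr ⁅bs 1, bs 2⁆ j = C j := by
    intro j; rw [hyz]; fin_cases j <;> simp [C, Finsupp.single_apply, PLieCoord.dn_eps] <;> ext <;> simp
  rw [PLieCoord.nonempty_pmap_iff (p := p) bs hA hB hC]
  have j0 := PLieCoord.jacobi bs hA hB hC 0
  simp [PLieCoord.brk, A, B, C] at j0
  have J0 := congrArg TrivSqZeroExt.snd j0
  simp at J0
  have hfb : f = -b := by linear_combination -J0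
  constructor
  · intro hex h2
    subst h2
    have hc : c = 0 := by
      obtain ⟨w, hw⟩ := hex 1
      have z := congrFun (hw 0) 0
      have z1 := congrFun (hw 1) 0
      have z2 := congrFun (hw 2) 0
      simp [PLieCoord.brk, A, B, C] at z z1 z2
      have f1 := congrArg TrivSqZeroExt.fst z1
      have f2 := congrArg TrivSqZeroExt.fst z2
      have s0 := congrArg TrivSqZeroExt.snd z
      simp at f1 f2 s0
      simp [f1, ← f2] at s0
      exact s0
    have he : e = 0 := by
      obtain ⟨w, hw⟩ := hex 2
      have z := congrFun (hw 0) 0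
      have z1 := congrFun (hw 1) 0
      have z2 := congrFun (hw 2) 0
      simp [PLieCoord.brk, A, B, C] at z z1 z2
      have f1 := congrArg TrivSqZeroExt.fst z1
      have f2 := congrArg TrivSqZeroExt.fst z2
      have s0 := congrArg TrivSqZeroExt.snd z
      simp at f1 f2 s0
      simp [f1, ← f2] at s0
      exact s0
    refine ⟨?_, hc, he⟩
    obtain ⟨w, hw⟩ := hex 1
    have z1 := congrFun (hw 1) 0
    have z2 := congrFun (hw 2) 0
    have y1 := congrFun (hw 1) 1
    have y2 := congrFun (hw 2) 1
    simp [PLieCoord.brk, A, B, C] at z1 z2 y1 y2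
    have f1 := congrArg TrivSqZeroExt.fst z1
    have f2 := congrArg TrivSqZeroExt.fst z2
    have s1 := congrArg TrivSqZeroExt.snd y1
    have s2 := congrArg TrivSqZeroExt.snd y2
    simp at f1 f2 s1 s2
    simp [f1, ← f2, he] at s1 s2
    exact s2
  · intro hcond q
    fin_cases q
    · refine ⟨0, fun j => ?_⟩
      have h3 : (PLieCoord.brk A B C (fun l => if l = 0 then 1 else 0))^[2] (fun l => if l = j then 1 else 0) = 0 := by
        funext l
        fin_cases j <;> fin_cases l <;> simp [PLieCoord.brk, A, B, C, PLieCoord.dn_mul] <;> ext <;> simp <;> ring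
      show (PLieCoord.brk A B C (fun l => if l = 0 then 1 else 0))^[p] _ = _
      rw [hn, Function.iterate_add_apply, h3, Function.iterate_fixed (by funext l; simp [PLieCoord.brk])]
      funext l; simp [PLieCoord.brk]
    · rcases (show n = 0 ∨ n = 1 ∨ 2 ≤ n by omega) with h0 | h0 | h0
      · subst h0; subst hn
        obtain ⟨hb, hc, he⟩ := hcond rfl
        refine ⟨![0, PLieCoord.dn 0 (i - a), 0], fun j => funext fun l => ?_⟩
        fin_cases j <;> fin_cases l <;> simp [PLieCoord.brk, A, B, C, PLieCoord.dn_mul] <;> ext <;> simp [hb, hc, he, hfb] <;> ring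
      · subst h0; subst hn
        refine ⟨![0, PLieCoord.dn 0 (-c), 0], fun j => funext fun l => ?_⟩
        fin_cases j <;> fin_cases l <;> simp [PLieCoord.brk, A, B, C, PLieCoord.dn_mul] <;> ext <;> simp <;> ring
      · refine ⟨0, fun j => ?_⟩
        have h3 : (PLieCoord.brk A B C (fun l => if l = 1 then 1 else 0))^[4] (fun l => if l = j then 1 else 0) = 0 := by
          have hstep : ∀ v, PLieCoord.brk A B C (fun l => if l = 1 then 1 else 0) v = fun j => -(v 0) * A j + v 2 * C j := fun v => by
            funext j; simp [PLieCoord.brk]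
          funext l
          simp only [Function.iterate_succ, Function.iterate_zero, Function.comp_apply, id_eq, Nat.succ_eq_add_one, Function.iterate_one, show (4 : ℕ) = 1 + 1 + 1 + 1 from rfl, show (3 : ℕ) = 1 + 1 + 1 from rfl, hstep]
          fin_cases j <;> fin_cases l <;> ext <;> simp [A, C] <;> ring
        obtain ⟨r, hr⟩ : ∃ r, p = r + 4 := ⟨n - 2, by omega⟩
        show (PLieCoord.brk A B C (fun l => if l = 1 then 1 else 0))^[p] _ = _
        rw [hr, Function.iterate_add_apply, h3, Function.iterate_fixed (by funext l; simp [PLieCoord.brk])]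
        funext l; simp [PLieCoord.brk]
    · rcases (show n = 0 ∨ n = 1 ∨ 2 ≤ n by omega) with h0 | h0 | h0
      · subst h0; subst hn
        obtain ⟨hb, hc, he⟩ := hcond rfl
        refine ⟨![0, 0, PLieCoord.dn 0 (-(d + h))], fun j => funext fun l => ?_⟩
        fin_cases j <;> fin_cases l <;> simp [PLieCoord.brk, A, B, C, PLieCoord.dn_mul] <;> ext <;> simp [hb, hc, he, hfb] <;> ring
      · subst h0; subst hn
        refine ⟨![0, 0, PLieCoord.dn 0 e], fun j => funext fun l => ?_⟩
        fin_cases j <;> fin_cases l <;> simp [PLieCoord.brk, A, B, C, PLieCoord.dn_mul] <;> ext <;> simp <;> ring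
      · refine ⟨0, fun j => ?_⟩
        have h3 : (PLieCoord.brk A B C (fun l => if l = 2 then 1 else 0))^[4] (fun l => if l = j then 1 else 0) = 0 := by
          have hstep : ∀ v, PLieCoord.brk A B C (fun l => if l = 2 then 1 else 0) v = fun j => -(v 0) * B j + -(v 1) * C j := fun v => by
            funext j; simp [PLieCoord.brk]
          funext l
          simp only [Function.iterate_succ, Function.iterate_zero, Function.comp_apply, id_eq, Nat.succ_eq_add_one, Function.iterate_one, show (4 : ℕ) = 1 + 1 + 1 + 1 from rfl, show (3 : ℕ) = 1 + 1 + 1 from rfl, hstep]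
          fin_cases j <;> fin_cases l <;> ext <;> simp [B, C] <;> ring
        obtain ⟨r, hr⟩ : ∃ r, p = r + 4 := ⟨n - 2, by omega⟩
        show (PLieCoord.brk A B C (fun l => if l = 2 then 1 else 0))^[p] _ = _
        rw [hr, Function.iterate_add_apply, h3, Function.iterate_fixed (by funext l; simp [PLieCoord.brk])]
        funext l; simp [PLieCoord.brk]

end Groth.Agent.S19868
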