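import Groth.Statements.S19890
import Mathlib
import Groth.Agent.Lib.H2ArtFlat
import Groth.Agent.Lib.H2LocalCrit

set_option autoImplicit false
universe u
open CAlg

namespace Groth.Agent.S19890
set_option maxHeartbeats 4000000
open TensorProduct

/-- Let R → R' be a faithfully flat ring map between Noetherian integrally closed local domains. Then
unique factorization descends along this map: when R' is a UFD, so is R. (The first assertion of the
lemma, descent of principality for an ideal whose extension to R' is principal, is a separate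
statement.) -/
theorem result
    (R R' : Type u) [CommRing R] [CommRing R'] [IsDomain R] [IsDomain R']
    [IsNoetherianRing R] [IsNoetherianRing R'] [IsLocalRing R] [IsLocalRing R']
    [IsIntegrallyClosed R] [IsIntegrallyClosed R']
    [Algebra R R'] [Module.FaithfullyFlat R R'] [UniqueFactorizationMonoid R'] :
    UniqueFactorizationMonoid R := by
  classical
  refine UniqueFactorizationMonoid.iff_exists_prime_mem_of_isPrime.2 fun P hP hPp => ?_
  obtain ⟨a, haP, ha⟩ := Submodule.exists_mem_ne_zero_of_ne_bot hP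
  obtain ⟨p, hp, hpP⟩ := Ideal.exists_minimalPrimes_le (I := Ideal.span {a}) (J := P) ((Ideal.span_singleton_le_iff_mem _).2 haP)
  have hass : IsAssociatedPrime p (R ⧸ Ideal.span {a}) := by
    refine AssociatedPrimes.mem_iff.1 ?_
    refine Module.associatedPrimes.minimalPrimes_annihilator_subset_associatedPrimes R _ ?_
    rwa [Ideal.annihilator_quotient]
  obtain ⟨hpp, u, hu⟩ := isAssociatedPrime_iff.1 hass
  obtain ⟨b, rfl⟩ := Ideal.Quotient.mk_surjective u
  have hcol : ∀ r : R, r ∈ p ↔ r * b ∈ Ideal.span {a} := fun r => by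
    rw [hu, Submodule.mem_colon_singleton, Submodule.mem_bot, Algebra.smul_def, Ideal.Quotient.algebraMap_eq, ← map_mul,
      Ideal.Quotient.eq_zero_iff_mem]
  set φ := algebraMap R R'
  let f : R →ₗ[R] R ⧸ Ideal.span {a} := LinearMap.toSpanSingleton R _ (Ideal.Quotient.mk _ b)
  have hexact : Function.Exact (p.subtype) f := fun r => by
    show r • Ideal.Quotient.mk (Ideal.span {a}) b = 0 ↔ _
    rw [Algebra.smul_def, Ideal.Quotient.algebraMap_eq, ← map_mul, Ideal.Quotient.eq_zero_iff_mem, ← hcol]
    exact ⟨fun h => ⟨⟨r, h⟩, rfl⟩, fun ⟨y, hy⟩ => hy ▸ y.2⟩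
  have hflat : ∀ x : R', x * φ b ∈ Ideal.span {φ a} → x ∈ p.map φ := by
    intro x hx
    obtain ⟨y, hy⟩ := Ideal.mem_span_singleton'.1 hx
    have h0 : f.lTensor R' (x ⊗ₜ[R] (1 : R)) = 0 := by
      have e : Ideal.Quotient.mk (Ideal.span {a}) b = b • (1 : R ⧸ Ideal.span {a}) := by
        rw [Algebra.smul_def, mul_one]; rfl
      rw [LinearMap.lTensor_tmul, LinearMap.toSpanSingleton_apply, one_smul, e, ← smul_tmul,
        show b • x = a • y by rw [Algebra.smul_def, Algebra.smul_def, mul_comm, ← hy, mul_comm], smul_tmul,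
        show a • (1 : R ⧸ Ideal.span {a}) = 0 by
          rw [Algebra.smul_def, mul_one, Ideal.Quotient.algebraMap_eq, Ideal.Quotient.eq_zero_iff_mem]; exact Ideal.mem_span_singleton_self a,
        tmul_zero]
    obtain ⟨z, hz⟩ := (Module.Flat.lTensor_exact R' hexact (x ⊗ₜ[R] (1 : R))).1 h0
    have hx' : x = TensorProduct.rid R R' (p.subtype.lTensor R' z) := by rw [hz, rid_tmul, one_smul]
    rw [hx']
    clear hz hx' h0
    induction z using TensorProduct.induction_on with
    | zero => simp
    | add a b ha hb => rw [map_add, map_add]; exact add_mem ha hb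
    | tmul w i =>
      rw [LinearMap.lTensor_tmul, rid_tmul, Algebra.smul_def]
      exact Ideal.mul_mem_right _ _ (Ideal.mem_map_of_mem _ i.2)
  have hinj : Function.Injective φ := FaithfulSMul.algebraMap_injective R R'
  have hmap : ∀ x ∈ p.map φ, x * φ b ∈ Ideal.span {φ a} := by
    intro x hx
    refine Submodule.span_induction (p := fun x _ => x * φ b ∈ Ideal.span {φ a}) ?_ (by simp)
      (fun x y _ _ hx hy => by rw [add_mul]; exact add_mem hx hy)
      (fun c x _ hx => by rw [smul_eq_mul, mul_assoc]; exact Ideal.mul_mem_left _ c hx) hx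
    rintro _ ⟨r, hr, rfl⟩
    obtain ⟨c, hc⟩ := Ideal.mem_span_singleton'.1 ((hcol r).1 hr)
    rw [← map_mul, ← hc, map_mul]
    exact Ideal.mul_mem_left _ _ (Ideal.mem_span_singleton_self _)
  -- the extended prime is principal
  obtain ⟨a', b', g, hrel, hga, hgb⟩ := UniqueFactorizationMonoid.exists_reduced_factors (φ a) (fun h => ha (hinj (h.trans (map_zero φ).symm))) (φ b)
  have hga0 : g ≠ 0 := fun h => ha (hinj (by rw [← hga, h, zero_mul, map_zero]))
  have hpr : p.map φ = Ideal.span {a'} := by
    refine le_antisymm (fun x hx => ?_) ((Ideal.span_singleton_le_iff_mem _).2 (hflat a' ?_))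
    · obtain ⟨c, hc⟩ := Ideal.mem_span_singleton'.1 (hmap x hx)
      rw [← hga, ← hgb] at hc
      have h1 : x * b' = c * a' := mul_left_cancel₀ hga0 (by linear_combination -hc)
      exact Ideal.mem_span_singleton.2 (hrel.dvd_of_dvd_mul_right ⟨c, by rw [h1, mul_comm]⟩)
    · exact Ideal.mem_span_singleton'.2 ⟨b', by rw [← hga, ← hgb]; ring⟩
  obtain ⟨s, hs⟩ : p.FG := IsNoetherian.noetherian p
  have hspan : p.map φ = Ideal.span ((s.image φ : Finset R') : Set R') := by
    rw [Finset.coe_image, ← Ideal.map_span]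
    exact congrArg (Ideal.map φ) hs.symm
  obtain ⟨r, hr, hru⟩ : ∃ r ∈ s, ∃ w : R', IsUnit w ∧ φ r = w * a' := by
    by_contra hno
    push Not at hno
    have ha'0 : a' ≠ 0 := fun h => ha (hinj (by rw [← hga, h, mul_zero, map_zero]))
    have h1 : a' ∈ (IsLocalRing.maximalIdeal R') * Ideal.span {a'} := by
      have h0 : a' ∈ p.map φ := hpr ▸ Ideal.mem_span_singleton_self a'
      rw [hspan] at h0
      refine (Ideal.span_le.2 ?_) h0
      rintro _ hy
      obtain ⟨r, hr, rfl⟩ := Finset.mem_image.1 hy
      obtain ⟨w, hw⟩ := Ideal.mem_span_singleton'.1 (hpr ▸ Ideal.mem_map_of_mem φ (hs ▸ Ideal.subset_span hr))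
      rw [SetLike.mem_coe, ← hw]
      exact Ideal.mul_mem_mul (fun hu => hno r hr w hu hw.symm) (Ideal.mem_span_singleton_self _)
    rw [Ideal.mem_mul_span_singleton] at h1
    obtain ⟨w, hw, hwa⟩ := h1
    exact hw (by rw [(mul_left_eq_self₀.1 hwa).resolve_right ha'0]; exact isUnit_one)
  obtain ⟨w, hw, hrw⟩ := hru
  have hpeq : p = Ideal.span {r} := by
    refine le_antisymm ?_ ((Ideal.span_singleton_le_iff_mem _).2 (hs ▸ Ideal.subset_span hr))
    intro x hx
    have h1 : φ x ∈ (Ideal.span {r}).map φ := by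
      rw [Ideal.map_span, Set.image_singleton, hrw, Ideal.span_singleton_mul_left_unit hw, ← hpr]
      exact Ideal.mem_map_of_mem φ hx
    rw [← Ideal.comap_map_eq_self_of_faithfullyFlat (B := R') (Ideal.span {r})]
    exact h1
  have hp0 : p ≠ ⊥ := fun h => ha (by simpa [h] using hp.1.2 (Ideal.mem_span_singleton_self a))
  exact ⟨r, hpP (hs ▸ Ideal.subset_span hr), (Ideal.span_singleton_prime (fun h => hp0 (by rw [hpeq, h]; simp))).1 (hpeq ▸ hpp)⟩

end Groth.Agent.S19890
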