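import Groth.Statements.S19895
import Mathlib
import Groth.Agent.Lib.VerlindeOrth

set_option autoImplicit false
open Complex
open VerlindeComb

namespace Groth.Agent.S19895

/-- Fix integers r ≥ 2 and k ≥ 1, and two partitions λ, λ' with k ≥ λ_1 ≥ ⋯ ≥ λ_{r-1} ≥ λ_r = 0 and k ≥
λ'_1 ≥ ⋯ ≥ λ'_{r-1} ≥ λ'_r = 0 such that λ is not equivalent to the dual partition λ'* = (k − λ'_r,
…, k − λ'_1), two integer vectors being equivalent when their difference is a constant vector (a, …,
a). For an integer vector v with r + k > v_1 > ⋯ > v_{r-1} > v_r = 0 put z(v)_j = exp(2πi v_j / (r +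
k)), let S_μ(v) = det(z(v)_j^{μ_i + r − i}) / det(z(v)_j^{r − i}) be the Schur value and P(v) =
∏_{i<j} (2 sin(π (v_i − v_j)/(r + k)))². Then the sum over all such v of exp(−2πi (|λ| + |λ'|) (v_1
+ ⋯ + v_r) / (r (r + k))) · S_λ(v) · S_{λ'}(v) · P(v) vanishes; that is, the genus-zero Verlinde
number of rank r, degree 0 and level k with two parabolic points of types λ, λ' is zero. (Only the
vanishing case is stated; the complementary case, where the number equals 1, is not part of this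
statement. The source allows r = 1, where the non-equivalence hypothesis cannot hold.) Indices are
0-based below: lam i stands for λ_{i+1}. -/
theorem result (r k : ℕ) (hr : 2 ≤ r)
    (hk : 1 ≤ k) (lam lam' : Fin r → ℕ) (hlam : Antitone lam) (hlamk : ∀ i, lam i ≤ k)
    (hlam0 : ∀ i : Fin r, (i : ℕ) = r - 1 → lam i = 0)
    (hlam' : Antitone lam') (hlam'k : ∀ i, lam' i ≤ k) (hlam'0 : ∀ i : Fin r, (i : ℕ) = r - 1 → lam' i = 0)
    (hne : ¬ ∃ a : ℤ, ∀ i, (lam i : ℤ) - ((k - lam' (Fin.rev i) : ℕ) : ℤ) = a)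
    (z : (Fin r → ℕ) → Fin r → ℂ)
    (hz : ∀ v j, z v j = Complex.exp (2 * Real.pi * Complex.I * (v j : ℂ) / ((r : ℂ) + k)))
    (S : (Fin r → ℕ) → (Fin r → ℕ) → ℂ)
    (hS : ∀ μ v, S μ v = (Matrix.of fun i j : Fin r => z v j ^ (μ i + (r - 1 - (i : ℕ)))).det /
        (Matrix.of fun i j : Fin r => z v j ^ (r - 1 - (i : ℕ))).det)
    (P : (Fin r → ℕ) → ℝ)
    (hP : ∀ v, P v = ∏ p ∈ (Finset.univ : Finset (Fin r × Fin r)).filter (fun p => p.1 < p.2),
        ((2 : ℝ) * Real.sin (Real.pi * ((v p.1 : ℝ) - (v p.2 : ℝ)) / ((r : ℝ) + k))) ^ 2) :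
    (∑ v ∈ (Finset.univ : Finset (Fin r → Fin (r + k))).filter
        (fun v : Fin r → Fin (r + k) => StrictAnti v ∧ ∀ i : Fin r, (i : ℕ) = r - 1 → (v i : ℕ) = 0),
      Complex.exp (-(2 * Real.pi * Complex.I * (((∑ i, lam i) + (∑ i, lam' i) : ℕ) : ℂ) *
          ((∑ j, (v j : ℕ) : ℕ) : ℂ) / ((r : ℂ) * ((r : ℂ) + k)))) *
        S lam (fun j => (v j : ℕ)) * S lam' (fun j => (v j : ℕ)) * (P (fun j => (v j : ℕ)) : ℂ)) = 0 := by
  obtain ⟨m0, rfl⟩ : ∃ m0, r = m0 + 2 := ⟨r - 2, by omega⟩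
  have hn : m0 + 2 + k ≠ 0 := by omega
  set m : Fin (m0 + 2) → ℕ := fun i => lam i + (m0 + 2 - 1 - (i : ℕ)) with hm
  set m' : Fin (m0 + 2) → ℕ := fun i => lam' i + (m0 + 2 - 1 - (i : ℕ)) with hm'
  set C : ℕ := (∑ i, lam i) + ∑ i, lam' i with hC
  set c : ℂ := (C : ℂ) / ((m0 + 2 : ℕ) : ℂ) + ((m0 + 1 : ℕ) : ℂ) with hc
  have hr0 : ((m0 + 2 : ℕ) : ℂ) ≠ 0 := Nat.cast_ne_zero.2 (by omega)
  have hn0 : ((m0 + 2 + k : ℕ) : ℂ) ≠ 0 := Nat.cast_ne_zero.2 hn
  have hsum2 : 2 * (∑ i : Fin (m0 + 2), (m0 + 2 - 1 - (i : ℕ))) = (m0 + 1) * (m0 + 2) := by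
    have e1 : ∑ i : Fin (m0 + 2), (m0 + 2 - 1 - (i : ℕ)) = ∑ i : Fin (m0 + 2), (i : ℕ) := by
      rw [← Equiv.sum_comp Fin.revPerm]
      exact Finset.sum_congr rfl fun i _ => by simp only [Fin.revPerm_apply, Fin.val_rev]; omega
    rw [e1, Fin.sum_univ_eq_sum_range (fun i => i), mul_comm, Finset.sum_range_id_mul_two]
    rw [mul_comm]
    congr 1
  have hmm : ∑ i, (m i : ℂ) + ∑ i, (m' i : ℂ) = c * ((m0 + 2 : ℕ) : ℂ) := by
    rw [hc, add_mul, div_mul_cancel₀ _ hr0, ← Nat.cast_sum, ← Nat.cast_sum, ← Nat.cast_mul,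
      ← Nat.cast_add, ← Nat.cast_add, Nat.cast_inj, hC, hm, hm', Finset.sum_add_distrib,
      Finset.sum_add_distrib, ← hsum2]
    ring
  -- express each summand through the alternants
  set N := ((Finset.univ : Finset (Fin (m0 + 2) × Fin (m0 + 2))).filter fun p => p.1 < p.2).card with hN
  have key : ∀ v : Fin (m0 + 2) → Fin (m0 + 2 + k), StrictAnti v →
      Complex.exp (-(2 * Real.pi * Complex.I * (((∑ i, lam i) + (∑ i, lam' i) : ℕ) : ℂ) *
          ((∑ j, (v j : ℕ) : ℕ) : ℂ) / (((m0 + 2 : ℕ) : ℂ) * (((m0 + 2 : ℕ) : ℂ) + k)))) *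
        S lam (fun j => (v j : ℕ)) * S lam' (fun j => (v j : ℕ)) * (P (fun j => (v j : ℕ)) : ℂ) =
      (-1) ^ N * Groth.Agent.Verlinde.T (m0 + 2 + k) c m m' (fun j => ((v j : ℕ) : ℤ)) := by
    intro v hv
    set w : Fin (m0 + 2) → ℕ := fun j => (v j : ℕ) with hw
    have hzj : ∀ j, z w j = Groth.Agent.Verlinde.e1 (m0 + 2 + k) (w j : ℂ) := fun j => by
      rw [hz, Groth.Agent.Verlinde.e1]
      push_cast
      ring_nf
    set Z : ℂ := ∏ j, z w j ^ (m0 + 1) with hZ
    set V : ℂ := (Matrix.of fun i j : Fin (m0 + 2) => z w j ^ (m0 + 2 - 1 - (i : ℕ))).det with hV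
    have hVsq : V ^ 2 = ∏ p ∈ (Finset.univ : Finset (Fin (m0 + 2) × Fin (m0 + 2))).filter
        (fun p => p.1 < p.2), (z w p.2 - z w p.1) ^ 2 := by
      have e : (Matrix.of fun i j : Fin (m0 + 2) => z w j ^ (m0 + 2 - 1 - (i : ℕ))) =
          (Matrix.vandermonde (z w)).transpose.submatrix Fin.revPerm id := by
        ext i j
        simp only [Matrix.of_apply, Matrix.submatrix_apply, Matrix.transpose_apply, id_eq,
          Matrix.vandermonde_apply, Fin.revPerm_apply, Fin.val_rev]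
        congr 1
        omega
      rw [hV, e, Matrix.det_permute, Matrix.det_transpose, Matrix.det_vandermonde, mul_pow,
        Finset.prod_finset_product _ Finset.univ (fun i => Finset.Ioi i) (by simp)]
      have hs : ((Equiv.Perm.sign (Fin.revPerm (n := m0 + 2)) : ℤ) : ℂ) ^ 2 = 1 := by
        rcases Int.units_eq_one_or (Equiv.Perm.sign (Fin.revPerm (n := m0 + 2))) with h | h <;> simp [h]
      rw [hs, one_mul, ← Finset.prod_pow]
      exact Finset.prod_congr rfl fun i _ => (Finset.prod_pow _ _ _).symm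
    have hzinj : Function.Injective (z w) := by
      intro a b hab
      rw [hzj, hzj, Groth.Agent.Verlinde.e1, Groth.Agent.Verlinde.e1, Complex.exp_eq_exp_iff_exists_int] at hab
      obtain ⟨d, hd⟩ := hab
      have hp : (2 * (Real.pi : ℂ) * Complex.I) ≠ 0 := by simp [Real.pi_ne_zero]
      have hd' : (w a : ℂ) = (w b : ℂ) + d * ((m0 + 2 + k : ℕ) : ℂ) := by
        field_simp at hd
        linear_combination hd
      have hd'' : (w a : ℤ) = (w b : ℤ) + d * ((m0 + 2 + k : ℕ) : ℤ) := by exact_mod_cast hd'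
      have ha := (v a).2
      have hb := (v b).2
      have : d = 0 := by
        simp only [hw] at hd''
        rcases lt_trichotomy d 0 with h | h | h
        · have : d * ((m0 + 2 + k : ℕ) : ℤ) ≤ -1 * ((m0 + 2 + k : ℕ) : ℤ) :=
            mul_le_mul_of_nonneg_right (by omega) (Int.natCast_nonneg _)
          omega
        · exact h
        · have : 1 * ((m0 + 2 + k : ℕ) : ℤ) ≤ d * ((m0 + 2 + k : ℕ) : ℤ) :=
            mul_le_mul_of_nonneg_right (by omega) (Int.natCast_nonneg _)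
          omega
      rw [this, zero_mul, add_zero] at hd''
      exact hv.injective (Fin.ext (by simpa [hw] using hd''))
    have hV0 : V ≠ 0 := fun h => by
      rw [h, zero_pow two_ne_zero, eq_comm, Finset.prod_eq_zero_iff] at hVsq
      obtain ⟨p, hp, h0⟩ := hVsq
      rw [pow_eq_zero_iff two_ne_zero, sub_eq_zero] at h0
      exact (ne_of_lt (Finset.mem_filter.1 hp).2).symm (hzinj h0)
    have hPZ : (P w : ℂ) * Z = (-1) ^ N * V ^ 2 := by
      have hZ' : Z = ∏ p ∈ (Finset.univ : Finset (Fin (m0 + 2) × Fin (m0 + 2))).filter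
          (fun p => p.1 < p.2), z w p.1 * z w p.2 := by
        rw [Finset.prod_finset_product _ Finset.univ (fun i => Finset.Ioi i) (by simp)]
        simp only [Finset.prod_mul_distrib, Finset.prod_const, Fin.card_Ioi]
        rw [Finset.prod_comm' (t' := Finset.univ) (s' := fun j => Finset.Iio j) (by simp), hZ,
          ← Finset.prod_mul_distrib]
        refine Finset.prod_congr rfl fun j _ => ?_
        rw [Finset.prod_const, Fin.card_Iio, ← pow_add]
        congr 1
        omega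
      rw [hP, Complex.ofReal_prod, hZ', ← Finset.prod_mul_distrib, hVsq, hN, ← Finset.prod_const,
        ← Finset.prod_mul_distrib]
      refine Finset.prod_congr rfl fun p _ => ?_
      rw [hz, hz]
      set x : ℂ := (Real.pi : ℂ) * (w p.1 : ℂ) / (((m0 + 2 : ℕ) : ℂ) + k) with hx
      set y : ℂ := (Real.pi : ℂ) * (w p.2 : ℂ) / (((m0 + 2 : ℕ) : ℂ) + k) with hy
      have e1 : 2 * (Real.pi : ℂ) * Complex.I * (w p.1 : ℂ) / (((m0 + 2 : ℕ) : ℂ) + k) =
          x * Complex.I + x * Complex.I := by rw [hx]; ring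
      have e2 : 2 * (Real.pi : ℂ) * Complex.I * (w p.2 : ℂ) / (((m0 + 2 : ℕ) : ℂ) + k) =
          y * Complex.I + y * Complex.I := by rw [hy]; ring
      have e3 : (((2 : ℝ) * Real.sin (Real.pi * ((w p.1 : ℝ) - (w p.2 : ℝ)) / (((m0 + 2 : ℕ) : ℝ) + k))) ^ 2 : ℝ) =
          ((2 : ℂ) * Complex.sin (x - y)) ^ 2 := by
        rw [hx, hy]
        push_cast
        ring_nf
      rw [e1, e2, e3, Complex.two_sin, Complex.exp_add, Complex.exp_add]
      have f1 : Complex.exp (-(x - y) * Complex.I) = Complex.exp (y * Complex.I) * (Complex.exp (x * Complex.I))⁻¹ := by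
        rw [← Complex.exp_neg, ← Complex.exp_add]; ring_nf
      have f2 : Complex.exp ((x - y) * Complex.I) = Complex.exp (x * Complex.I) * (Complex.exp (y * Complex.I))⁻¹ := by
        rw [← Complex.exp_neg, ← Complex.exp_add]; ring_nf
      rw [f1, f2]
      have gx := Complex.exp_ne_zero (x * Complex.I)
      have gy := Complex.exp_ne_zero (y * Complex.I)
      generalize Complex.exp (x * Complex.I) = X at gx ⊢
      generalize Complex.exp (y * Complex.I) = Y at gy ⊢
      field_simp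
      linear_combination (Y ^ 2 - X ^ 2) ^ 2 * Complex.I_sq
    have hA : ∀ μ : Fin (m0 + 2) → ℕ,
        (Matrix.of fun i j : Fin (m0 + 2) => z w j ^ (μ i + (m0 + 2 - 1 - (i : ℕ)))).det =
          Groth.Agent.Verlinde.alt (m0 + 2 + k) (fun i => μ i + (m0 + 2 - 1 - (i : ℕ)))
            (fun j => ((w j : ℕ) : ℤ)) := by
      intro μ
      unfold Groth.Agent.Verlinde.alt
      congr 1
      ext i j
      rw [Matrix.of_apply, Matrix.of_apply, hzj, Groth.Agent.Verlinde.e1_pow]
      push_cast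
      ring_nf
    have hex : Complex.exp (-(2 * Real.pi * Complex.I * (((∑ i, lam i) + (∑ i, lam' i) : ℕ) : ℂ) *
        ((∑ j, (v j : ℕ) : ℕ) : ℂ) / (((m0 + 2 : ℕ) : ℂ) * (((m0 + 2 : ℕ) : ℂ) + k)))) =
        Groth.Agent.Verlinde.e1 (m0 + 2 + k) (-(c * ∑ j, (((w j : ℕ) : ℤ) : ℂ))) * Z := by
      rw [hZ, Finset.prod_congr rfl (fun j _ => by rw [hzj, Groth.Agent.Verlinde.e1_pow]),
        ← Groth.Agent.Verlinde.e1_sum, ← Groth.Agent.Verlinde.e1_add, ← hC, Groth.Agent.Verlinde.e1]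
      congr 1
      rw [← Finset.sum_mul, hc]
      simp only [hw, Int.cast_natCast, ← Nat.cast_sum]
      have : ((m0 + 2 + k : ℕ) : ℂ) = ((m0 + 2 : ℕ) : ℂ) + k := by push_cast; ring
      rw [← this]
      field_simp
      ring
    rw [hS, hS, hA, hA, hex, ← hV, Groth.Agent.Verlinde.T, ← hm, ← hm']
    field_simp
    linear_combination (Groth.Agent.Verlinde.e1 (m0 + 2 + k) (-(c * ∑ j, (((w j : ℕ) : ℤ) : ℂ))) *
      Groth.Agent.Verlinde.alt (m0 + 2 + k) m (fun j => ((w j : ℕ) : ℤ)) *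
      Groth.Agent.Verlinde.alt (m0 + 2 + k) m' (fun j => ((w j : ℕ) : ℤ))) * hPZ
  have hset : (Finset.univ : Finset (Fin (m0 + 2) → Fin (m0 + 2 + k))).filter
      (fun v : Fin (m0 + 2) → Fin (m0 + 2 + k) => StrictAnti v ∧
        ∀ i : Fin (m0 + 2), (i : ℕ) = m0 + 2 - 1 → (v i : ℕ) = 0) =
      Groth.Agent.Verlinde.W m0 (m0 + 2 + k) := by
    unfold Groth.Agent.Verlinde.W
    refine Finset.filter_congr fun v _ => and_congr_right fun _ => ⟨fun h => h _ (by simp), fun h i hi => ?_⟩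
    rwa [show i = Fin.last (m0 + 1) from Fin.ext (by simp; omega)]
  rw [Finset.sum_congr rfl (fun v hv => key v (Finset.mem_filter.1 hv).2.1), ← Finset.mul_sum, hset]
  refine mul_eq_zero_of_right _ ?_
  by_cases hζ : Groth.Agent.Verlinde.e1 (m0 + 2 + k) (-(c * ((m0 + 2 + k : ℕ) : ℂ))) = 1
  swap
  · exact Groth.Agent.Verlinde.sum_W_eq_zero_of_twist hn hmm hζ
  obtain ⟨d, hd⟩ := Complex.exp_eq_one_iff.1 hζ
  have hK : c = ((-d : ℤ) : ℂ) := by
    have hp : (2 * (Real.pi : ℂ) * Complex.I) ≠ 0 := by simp [Real.pi_ne_zero]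
    field_simp at hd
    push_cast
    linear_combination -hd
  refine Groth.Agent.Verlinde.sum_W_eq_zero_of_periodic hn (-d) hK fun σ τ => ?_
  by_contra hall
  push Not at hall
  apply hne
  set K : ℤ := -d
  have hKsum : ∑ i, (m i : ℤ) + ∑ i, (m' i : ℤ) = K * ((m0 + 2 : ℕ) : ℤ) := by
    rw [hK] at hmm
    exact_mod_cast hmm
  let e : Fin (m0 + 2) → ℤ := fun j => (m (σ j) : ℤ) + (m' (τ j) : ℤ) - K
  have hesum : ∑ j, e j = 0 := by
    simp only [e, Finset.sum_sub_distrib, Finset.sum_add_distrib, Finset.sum_const, Finset.card_univ,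
      Fintype.card_fin, nsmul_eq_mul]
    rw [Equiv.sum_comp σ (fun j => (m j : ℤ)), Equiv.sum_comp τ (fun j => (m' j : ℤ))]
    push_cast at hKsum ⊢
    linear_combination hKsum
  have hdiv : ∀ j, ((m0 + 2 + k : ℕ) : ℤ) ∣ e j := by
    intro j
    by_cases hj : j = Fin.last (m0 + 1)
    · subst hj
      rw [← Finset.add_sum_erase _ _ (Finset.mem_univ (Fin.last (m0 + 1)))] at hesum
      rw [eq_neg_of_add_eq_zero_left hesum, dvd_neg]
      exact Finset.dvd_sum fun i hi => hall i (Finset.ne_of_mem_erase hi)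
    · exact hall j hj
  have hbound : ∀ j, -K ≤ e j ∧ e j ≤ 2 * ((m0 + 2 + k : ℕ) : ℤ) - 2 - K := fun j => by
    have h1 := hlamk (σ j)
    have h2 := hlam'k (τ j)
    simp only [e, hm, hm']
    omega
  have he0 : ∀ j, e j = 0 := by
    intro j
    by_contra hne'
    obtain ⟨p, -, hp⟩ : ∃ p ∈ (Finset.univ : Finset (Fin (m0 + 2))), 0 < e p := by
      by_contra hle
      push Not at hle
      exact hne' ((Finset.sum_eq_zero_iff_of_nonpos hle).1 hesum j (Finset.mem_univ j))
    obtain ⟨q, -, hq⟩ : ∃ q ∈ (Finset.univ : Finset (Fin (m0 + 2))), e q < 0 := by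
      by_contra hle
      push Not at hle
      exact hne' ((Finset.sum_eq_zero_iff_of_nonneg hle).1 hesum j (Finset.mem_univ j))
    have h1 := Int.le_of_dvd hp (hdiv p)
    have h2 := Int.le_of_dvd (by omega) (dvd_neg.2 (hdiv q))
    have := hbound p
    have := hbound q
    omega
  have hanti : ∀ μ : Fin (m0 + 2) → ℕ, Antitone μ →
      StrictAnti fun i : Fin (m0 + 2) => μ i + (m0 + 2 - 1 - (i : ℕ)) := by
    intro μ hμ a b hab
    have := hμ hab.le
    have := Fin.lt_def.1 hab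
    have := b.2
    simp only
    omega
  have hmS : StrictAnti m := hanti lam hlam
  have hmS' : StrictAnti m' := hanti lam' hlam'
  let π : Equiv.Perm (Fin (m0 + 2)) := σ.symm.trans τ
  have hπ : ∀ i, (m i : ℤ) + (m' (π i) : ℤ) = K := fun i => by
    have := he0 (σ.symm i)
    simp only [e, Equiv.apply_symm_apply] at this
    simp only [π, Equiv.trans_apply]
    omega
  have hπa : StrictMono (π ∘ Fin.rev) := by
    intro a b hab
    have h1 := hmS (Fin.rev_lt_rev.2 hab)
    have h2 := hπ a.rev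
    have h3 := hπ b.rev
    simp only [Function.comp_apply]
    by_contra hle
    have := hmS'.antitone (not_lt.1 hle)
    omega
  have hπrev : ∀ i, π i = i.rev := by
    have hid : π ∘ Fin.rev = id := (StrictMono.range_inj hπa strictMono_id).1 (by
      rw [Set.range_id, Function.Surjective.range_eq (π.surjective.comp Fin.rev_involutive.surjective)])
    intro i
    simpa using congrFun hid i.rev
  refine ⟨K - (m0 + 1 : ℕ) - k, fun i => ?_⟩
  have := hπ i
  rw [hπrev] at this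
  have hk' := hlam'k i.rev
  simp only [hm, hm', Fin.val_rev] at this
  have := i.2
  push_cast [Nat.cast_sub hk']
  omega

end Groth.Agent.S19895
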