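import Groth.Statements.S19898
import Mathlib
import Groth.Agent.Lib.H7PolLaw
import Groth.Agent.Lib.H7SymTen

set_option autoImplicit false
universe u
open scoped TensorProduct
open SymTen

namespace Groth.Agent.S19898
open Groth.Agent

section
variable {R : Type u} [CommRing R] {R' : Type u} [CommRing R'] [Algebra R R'] {d : ℕ}

noncomputable def D (e : Module.Basis (Fin d) R R') : (⨂[R] _ : Fin d, R') →ₗ[R] R :=
  PiTensorProduct.lift e.det.toMultilinearMap

theorem D_tprod (e : Module.Basis (Fin d) R R') (p : Fin d → R') :
    D e (PiTensorProduct.tprod R p) = e.det p :=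
  PiTensorProduct.lift.tprod _

theorem D_altSpan (e : Module.Basis (Fin d) R R') {x : ⨂[R] _ : Fin d, R'}
    (hx : x ∈ SymTen.altSpan R R' d) : D e x = 0 := by
  induction hx using Submodule.span_induction with
  | mem x hx =>
    obtain ⟨p, i, j, hij, hp, rfl⟩ := hx
    rw [D_tprod]
    exact e.det.map_eq_zero_of_eq p hp hij
  | zero => exact map_zero _
  | add x y _ _ hx hy => rw [map_add, hx, hy, add_zero]
  | smul a x _ hx => rw [map_smul, hx, smul_zero]

theorem mem_altSpan (e : Module.Basis (Fin d) R R') {x : ⨂[R] _ : Fin d, R'} (hx : D e x = 0) :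
    x ∈ SymTen.altSpan R R' d := by
  let N := SymTen.altSpan R R' d
  let f : R' [⋀^Fin d]→ₗ[R] ((⨂[R] _ : Fin d, R') ⧸ N) :=
    { N.mkQ.compMultilinearMap (PiTensorProduct.tprod R) with
      map_eq_zero_of_eq' := fun v i j h hij => by
        change N.mkQ (PiTensorProduct.tprod R v) = 0
        rw [Submodule.mkQ_apply, Submodule.Quotient.mk_eq_zero]
        exact Submodule.subset_span ⟨v, i, j, hij, h, rfl⟩ }
  have hf : f = (LinearMap.toSpanSingleton R _ (f e)).compAlternatingMap e.det := by
    refine Module.Basis.ext_alternating e fun v hv => ?_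
    let σ : Equiv.Perm (Fin d) := Equiv.ofBijective v (Finite.injective_iff_bijective.1 hv)
    change f (e ∘ σ) = e.det (e ∘ σ) • f e
    rw [f.map_perm, e.det.map_perm, e.det_self]
    rcases Int.units_eq_one_or (Equiv.Perm.sign σ) with h | h <;> simp [h]
  have key : N.mkQ = (LinearMap.toSpanSingleton R _ (f e)).comp (D e) :=
    PiTensorProduct.ext <| MultilinearMap.ext fun v => by
      change f v = (LinearMap.toSpanSingleton R _ (f e)) (D e (PiTensorProduct.tprod R v))
      rw [D_tprod]
      exact congrFun (congrArg DFunLike.coe hf) v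
  rw [← Submodule.Quotient.mk_eq_zero]
  change N.mkQ x = 0
  rw [key, LinearMap.comp_apply, hx, map_zero]

noncomputable def L (e : Module.Basis (Fin d) R R') (p : Fin d → R') : (⨂[R] _ : Fin d, R') →ₗ[R] R where
  toFun τ := D e (SymTen.tpowAct R R' R' d τ (PiTensorProduct.tprod R p))
  map_add' a b := by simp
  map_smul' a b := by simp

theorem L_tprod (e : Module.Basis (Fin d) R R') (p a : Fin d → R') :
    L e p (PiTensorProduct.tprod R a) = e.det (fun i => a i * p i) := by
  change D e (SymTen.tpowAct R R' R' d (PiTensorProduct.tprod R a) (PiTensorProduct.tprod R p)) = _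
  simp [SymTen.tpowAct, D_tprod, PiTensorProduct.map_tprod]

theorem det_baseChange (e : Module.Basis (Fin d) R R') (P : Type u) [CommRing P] [Algebra R P]
    (w : Fin d → R') :
    (Algebra.TensorProduct.basis P e).det (fun i => (1 : P) ⊗ₜ[R] w i) = algebraMap R P (e.det w) := by
  rw [Module.Basis.det_apply, Module.Basis.det_apply, RingHom.map_det]
  congr 1
  ext i j
  simp [Module.Basis.toMatrix_apply, Algebra.smul_def]

theorem L_law [Module.Free R R'] [Module.Finite R R'] (hd : Module.finrank R R' = d)
    (e : Module.Basis (Fin d) R R') (p : Fin d → R') {n : ℕ} (b : Fin n → R') :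
    (L e p).lTensor (MvPolynomial (Fin n) R)
        ((SymTen.tpowLaw R R' d).law.toFun' _ (H7PolLaw.gen (A := R) b)) =
      (e.det p • LinearMap.id).lTensor (MvPolynomial (Fin n) R)
        ((PolLaw.normLaw R R' d hd).law.toFun' _ (H7PolLaw.gen (A := R) b)) := by
  set P := MvPolynomial (Fin n) R
  set E := Algebra.TensorProduct.basis P e with hE
  have hdet : E.det (fun i => (H7PolLaw.gen (A := R) b) * ((1 : P) ⊗ₜ[R] p i)) =
      Algebra.norm P (H7PolLaw.gen (A := R) b) * algebraMap R P (e.det p) := by
    rw [← det_baseChange, Algebra.norm_apply, ← Module.Basis.det_comp]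
    rfl
  have hsum : E.det (fun i => (H7PolLaw.gen (A := R) b) * ((1 : P) ⊗ₜ[R] p i)) =
      ∑ c : Fin d → Fin n, (∏ i, (MvPolynomial.X (c i) : P)) *
        algebraMap R P (e.det fun i => b (c i) * p i) := by
    have h1 : (fun i => (H7PolLaw.gen (A := R) b) * ((1 : P) ⊗ₜ[R] p i)) =
        fun i => ∑ j, (MvPolynomial.X j : P) • ((1 : P) ⊗ₜ[R] (b j * p i)) := by
      funext i
      rw [H7PolLaw.gen, Finset.sum_mul]
      refine Finset.sum_congr rfl fun j _ => ?_
      rw [Algebra.TensorProduct.tmul_mul_tmul, mul_one, TensorProduct.smul_tmul', smul_eq_mul, mul_one]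
    rw [h1, ← AlternatingMap.coe_multilinearMap, MultilinearMap.map_sum]
    refine Finset.sum_congr rfl fun c _ => ?_
    rw [MultilinearMap.map_smul_univ, smul_eq_mul]
    exact congrArg _ (det_baseChange e P _)
  rw [PolLaw.normLaw_apply, LinearMap.lTensor_tmul, H7PolLaw.gen, H7SymTen.tpowLaw_sum, map_sum]
  apply (TensorProduct.rid R P).injective
  simp only [map_sum, LinearMap.lTensor_tmul, TensorProduct.rid_tmul, LinearMap.smul_apply,
    LinearMap.id_apply, smul_eq_mul, mul_one, L_tprod]
  rw [Algebra.smul_def, Finset.sum_congr rfl fun c _ => Algebra.smul_def _ _]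
  rw [mul_comm (algebraMap R P (e.det p)), ← H7PolLaw.gen, ← hdet, hsum]
  exact Finset.sum_congr rfl fun c _ => mul_comm _ _

end

/-- Let R be a commutative ring and R' a commutative R-algebra that is free of rank d as an R-module.
Let (C, γ) be the degree-d divided power algebra of R' over R, given as an R-algebra C with a
multiplicative homogeneous degree-d polynomial law γ : R' → C that is universal among such laws; let
φ : C → T^d_R(R') be the R-algebra homomorphism into the d-fold tensor power whose composite with γ
is the law x ↦ x ⊗ ⋯ ⊗ x, and π : C → R the R-algebra homomorphism whose composite with γ is the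
norm law of R' over R. Let T^d_R(R') act on itself factor by factor and let I_d ⊂ T^d_R(R') be the
R-span of the pure tensors with two equal factors, so that T^d_R(R')/I_d is the top exterior power
Λ^d_R(R'), free of rank one. Then for every c ∈ C and every x ∈ T^d_R(R') the element φ(c)·x − π(c)
x lies in I_d: the symmetric tensor φ(c) acts on Λ^d_R(R') as multiplication by the scalar π(c),
i.e. the homomorphism TS^d_R(R') → R given by the action on the top exterior power, composed with φ,
equals π. (The source states this for R' finite locally free of constant rank d; the free case is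
the affine-local form.) -/
theorem result (R : Type u) [CommRing R] (R' : Type u) [CommRing R']
    [Algebra R R'] [Module.Free R R'] [Module.Finite R R'] (d : ℕ) (hd : Module.finrank R R' = d)
    {C : Type u} [CommRing C] [Algebra R C] (γ : PolLaw.MulLaw R R' C d) (hγ : PolLaw.IsGammaD γ)
    (φ : C →ₐ[R] (⨂[R] _ : Fin d, R')) (hφ : PolLaw.MulLaw.postcomp φ γ = SymTen.tpowLaw R R' d)
    (π : C →ₐ[R] R) (hπ : PolLaw.MulLaw.postcomp π γ = PolLaw.normLaw R R' d hd)
    (c : C) (x : ⨂[R] _ : Fin d, R') :
    SymTen.tpowAct R R' R' d (φ c) x - π c • x ∈ SymTen.altSpan R R' d := by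
  rcases subsingleton_or_nontrivial R with hR | hR
  · haveI : Subsingleton (⨂[R] _ : Fin d, R') := Module.subsingleton R _
    rw [Subsingleton.elim (SymTen.tpowAct R R' R' d (φ c) x - π c • x) 0]
    exact zero_mem _
  let e : Module.Basis (Fin d) R R' := Module.finBasisOfFinrankEq R R' hd
  apply mem_altSpan e
  rw [map_sub, map_smul, sub_eq_zero]
  induction x using PiTensorProduct.induction_on with
  | smul_tprod a p =>
    rw [map_smul, map_smul, map_smul, D_tprod, smul_comm]
    congr 1
    suffices h : (L e p).comp φ.toLinearMap = (e.det p • LinearMap.id).comp π.toLinearMap by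
      have := LinearMap.congr_fun h c
      simp only [LinearMap.comp_apply, LinearMap.smul_apply, LinearMap.id_apply, AlgHom.toLinearMap_apply] at this
      rw [smul_eq_mul, mul_comm, ← smul_eq_mul, ← this]
      rfl
    refine LinearMap.ext_on (H7PolLaw.coefSpan_eq_top γ hγ) ?_
    rintro _ ⟨n, b, k, rfl⟩
    rw [LinearMap.comp_apply, LinearMap.comp_apply, ← H7PolLaw.coef_postcomp φ.toLinearMap,
      ← H7PolLaw.coef_postcomp π.toLinearMap]
    rw [show PolLaw.postcomp φ.toLinearMap γ.law = (SymTen.tpowLaw R R' d).law from congrArg PolLaw.MulLaw.law hφ,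
      show PolLaw.postcomp π.toLinearMap γ.law = (PolLaw.normLaw R R' d hd).law from congrArg PolLaw.MulLaw.law hπ]
    rw [H7PolLaw.coef, H7PolLaw.coef, ← H7PolLaw.cf_lTensor, ← H7PolLaw.cf_lTensor, L_law]
  | add x y hx hy => rw [map_add, map_add, map_add, hx, hy, smul_add]

end Groth.Agent.S19898
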