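import Groth.Statements.S19904
import Groth.Agent.Lib.H9Art
import Mathlib.CategoryTheory.Limits.Types.Pullbacks
import Mathlib.CategoryTheory.Limits.FunctorCategory.Basic
import Mathlib.CategoryTheory.Limits.Shapes.Pullback.IsPullback.Basic

set_option autoImplicit false
set_option backward.isDefEq.respectTransparency.types false
universe u v
open CategoryTheory
open ArtFun

namespace Groth.Agent.S19904

/-- For functors F, G, G' on Artinian local Λ-algebras with residue field k and morphisms φ : F → G, ψ :
G' → G: if φ is smooth then the base change F ×_G G' → G' (second projection of the fibre product of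
functors) is smooth. -/
theorem result {Λ : Type u} {k : Type u} [CommRing Λ] [Field k] [Algebra Λ k]
    [IsNoetherianRing Λ] [Module.Finite Λ k]
    {F G G' : ArtFun.Art Λ k ⥤ Type v} (φ : F ⟶ G) (ψ : G' ⟶ G) (hφ : ArtFun.IsSmooth φ) :
    ArtFun.IsSmooth (Limits.pullback.snd φ ψ) := by
  intro B A μ hμ
  rw [H9Art.relCmp_surjective_iff]
  intro a b hab
  have sq : ∀ C, CategoryTheory.IsPullback ((CategoryTheory.Limits.pullback.fst φ ψ).app C)
      ((CategoryTheory.Limits.pullback.snd φ ψ).app C) (φ.app C) (ψ.app C) := fun C =>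
    CategoryTheory.Functor.map_isPullback ((CategoryTheory.evaluation _ _).obj C) (CategoryTheory.IsPullback.of_hasPullback φ ψ)
  have w : ∀ C (x : (CategoryTheory.Limits.pullback φ ψ).obj C),
      φ.app C ((CategoryTheory.Limits.pullback.fst φ ψ).app C x) =
        ψ.app C ((CategoryTheory.Limits.pullback.snd φ ψ).app C x) := fun C x =>
    congrArg (fun t => t x) (sq C).w
  obtain ⟨f, hf₁, hf₂⟩ := (H9Art.relCmp_surjective_iff φ μ).1 (hφ μ hμ)
    ((CategoryTheory.Limits.pullback.fst φ ψ).app A a) (ψ.app B b)
    (by rw [w A a, hab]; exact NatTrans.naturality_apply ψ μ b)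
  obtain ⟨z, hz₁, hz₂⟩ := CategoryTheory.Limits.Types.exists_of_isPullback (sq B) f b hf₂
  refine ⟨z, CategoryTheory.Limits.Types.ext_of_isPullback (sq A) ?_ ?_, hz₂⟩
  · rw [← hf₁, ← hz₁]
    exact NatTrans.naturality_apply (CategoryTheory.Limits.pullback.fst φ ψ) μ z
  · rw [hab, ← hz₂]
    exact NatTrans.naturality_apply (CategoryTheory.Limits.pullback.snd φ ψ) μ z

end Groth.Agent.S19904
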