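import Groth.Statements.S1992
import Mathlib
import Groth.Prelude.Def_EtBase

set_option autoImplicit false
universe u
open Polynomial
open EtAlg

namespace Groth.Agent.S1992
open Polynomial

/-- Let A be an absolutely integrally closed ring, i.e. every monic polynomial over A is a product of
linear factors X - a. Then for every prime p of A the localization A_p is a strictly henselian local
ring (henselian with separably closed residue field). -/
theorem result (A : Type u) [CommRing A]
    (hA : ∀ f : A[X], f.Monic → ∃ s : Multiset A, f = (s.map fun a => X - C a).prod)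
    (p : Ideal A) [p.IsPrime] :
    EtCoh.IsStrictlyHenselianLocalRing (Localization.AtPrime p) := by
  let L := Localization.AtPrime p
  have split : ∀ f : L[X], f.Monic → ∃ s : Multiset L, f = (s.map fun a => X - C a).prod := by
    intro f hf
    obtain ⟨⟨b, hb⟩, hint⟩ := IsLocalization.exist_integer_multiples p.primeCompl (Finset.range (f.natDegree + 1)) f.coeff
    have hu : IsUnit (algebraMap A L b) := IsLocalization.map_units L (⟨b, hb⟩ : p.primeCompl)
    let g := f.scaleRoots (algebraMap A L b)
    have hg : g ∈ Polynomial.lifts (algebraMap A L) := by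
      rw [Polynomial.lifts_iff_coeff_lifts]
      intro k
      rw [coeff_scaleRoots]
      rcases lt_trichotomy k f.natDegree with hk | hk | hk
      · obtain ⟨c, hc⟩ := hint k (Finset.mem_range.2 (by omega))
        obtain ⟨m, hm⟩ := Nat.exists_eq_succ_of_ne_zero (Nat.sub_ne_zero_of_lt hk)
        refine ⟨c * b ^ m, ?_⟩
        rw [map_mul, map_pow, hc, hm, pow_succ, Algebra.smul_def]
        show algebraMap A L b * f.coeff k * algebraMap A L b ^ m = _
        ring
      · refine ⟨1, ?_⟩; rw [hk, Nat.sub_self, pow_zero, mul_one, map_one]; exact hf.coeff_natDegree.symm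
      · exact ⟨0, by rw [map_zero, coeff_eq_zero_of_natDegree_lt hk, zero_mul]⟩
    obtain ⟨G, hG, -, hGm⟩ := lifts_and_natDegree_eq_and_monic hg ((monic_scaleRoots_iff _).2 hf)
    obtain ⟨s, hs⟩ := hA G hGm
    obtain ⟨v, hv⟩ := hu.exists_left_inv
    refine ⟨s.map fun a => algebraMap A L a * v, ?_⟩
    have h2 : (g.scaleRoots v) = f := by
      show (f.scaleRoots _).scaleRoots v = f
      rw [← scaleRoots_mul, mul_comm, hv]; simp
    rw [← h2, ← hG, hs, Polynomial.map_multiset_prod]
    clear hs
    induction s using Multiset.induction with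
    | empty => simp
    | cons a s ih =>
      simp only [Multiset.map_cons, Multiset.prod_cons]
      rw [mul_scaleRoots', ih]
      · congr 1
        simp
      · simp only [Polynomial.map_sub, map_X, map_C]
        rw [(monic_X_sub_C _).leadingCoeff, one_mul, Monic.leadingCoeff]
        · exact one_ne_zero
        · exact monic_multiset_prod_of_monic _ _ fun x hx => by
            obtain ⟨y, -, rfl⟩ := Multiset.mem_map.1 hx
            simp [monic_X_sub_C]
  haveI : HenselianLocalRing L := ⟨fun f hf a₀ h₀ hd => by
    obtain ⟨s, hs⟩ := split f hf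
    rw [hs, eval_multiset_prod] at h₀
    obtain ⟨a, ha, hm⟩ : ∃ a ∈ s, a₀ - a ∈ IsLocalRing.maximalIdeal L := by
      obtain ⟨y, hy, hym⟩ := ((IsLocalRing.maximalIdeal.isMaximal L).isPrime.multiset_prod_mem_iff_exists_mem _).1 h₀
      obtain ⟨a, ha, rfl⟩ := Multiset.mem_map.1 (by simpa [Multiset.map_map] using hy : y ∈ s.map fun a => a₀ - a)
      exact ⟨a, ha, hym⟩
    refine ⟨a, ?_, ?_⟩
    · rw [Polynomial.IsRoot, hs, eval_multiset_prod]
      exact Multiset.prod_eq_zero (Multiset.mem_map.2 ⟨X - C a, Multiset.mem_map_of_mem _ ha, by simp⟩)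
    · rw [← neg_sub]; exact Ideal.neg_mem_iff _ |>.2 hm⟩
  refine ⟨inferInstance, ?_⟩
  haveI : IsAlgClosed (IsLocalRing.ResidueField L) := IsAlgClosed.of_exists_root _ fun P hP hirr => by
    obtain ⟨Q, hQ⟩ := Polynomial.map_surjective _ IsLocalRing.residue_surjective P
    obtain ⟨Q', hQ', hdeg, hm⟩ := lifts_and_natDegree_eq_and_monic (f := IsLocalRing.residue L) ((mem_lifts P).2 ⟨Q, hQ⟩) hP
    obtain ⟨s, hs⟩ := split Q' hm
    rcases Multiset.empty_or_exists_mem s with rfl | ⟨a, ha⟩
    · simp only [Multiset.map_zero, Multiset.prod_zero] at hs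
      rw [hs, Polynomial.map_one] at hQ'
      exact absurd (hQ' ▸ hirr) not_irreducible_one
    · refine ⟨IsLocalRing.residue L a, ?_⟩
      rw [← hQ', eval_map, eval₂_at_apply, hs, eval_multiset_prod]
      rw [Multiset.prod_eq_zero (Multiset.mem_map.2 ⟨X - C a, Multiset.mem_map.2 ⟨a, ha, rfl⟩, by simp⟩), map_zero]
  infer_instance

end Groth.Agent.S1992
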