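import Groth.Statements.S1993
import Mathlib
import Groth.Prelude.Def_Hens2
import Groth.Agent.Lib.H2PairHenz
import Groth.Agent.Lib.H4HenzLocal

set_option autoImplicit false
universe u
open EtAlg

namespace Groth.Agent.S1993
open TensorProduct IsLocalRing
set_option maxHeartbeats 1000000
set_option synthInstance.maxHeartbeats 400000
set_option backward.isDefEq.respectTransparency.types false

/-- Let A be a local ring with maximal ideal m and B a local A-algebra with local structure map. Then B
is a henselization of the pair (A, m) if and only if B is a henselization of the local ring A (both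
in the sense of the universal properties). -/
theorem result (A B : Type u) [CommRing A] [IsLocalRing A] [CommRing B]
    [IsLocalRing B] [Algebra A B] [IsLocalHom (algebraMap A B)] :
    Hens2.IsPairHenselization A (IsLocalRing.maximalIdeal A) B ↔ Hensel.IsHenselization A B := by
  constructor
  · intro hB
    have hq := Groth.Agent.H2PairHenz.quotient_bijective hB
    have hmap : (maximalIdeal A).map (algebraMap A B) = maximalIdeal B := by
      haveI : ((maximalIdeal A).map (algebraMap A B)).IsMaximal := Ideal.Quotient.maximal_of_isField _
        ((RingEquiv.ofBijective _ hq).symm.toMulEquiv.isField ((Ideal.Quotient.maximal_ideal_iff_isField_quotient _).1 inferInstance))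
      exact IsLocalRing.eq_maximalIdeal inferInstance
    haveI hBp := hB.1
    haveI hens : HenselianLocalRing B := ⟨fun f hf a₀ h₁ h₂ => by
      obtain ⟨a, ha, haI⟩ := HenselianRing.is_henselian (I := (maximalIdeal A).map (algebraMap A B)) f hf a₀ (hmap.symm ▸ h₁) (h₂.map _)
      exact ⟨a, ha, hmap ▸ haI⟩⟩
    refine ⟨hens, fun T _ _ f hf => ?_⟩
    haveI : HenselianRing T (maximalIdeal T) := inferInstance
    exact hB.2 T (maximalIdeal T) f inferInstance (((IsLocalRing.local_hom_TFAE f).out 0 2 rfl rfl).mp hf)
  · intro hS
    obtain ⟨e⟩ := Groth.Agent.H4Henzn.exists_algEquiv_henselization A B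
    let m := maximalIdeal A
    let e' : Groth.Agent.H2PairHenz.PH A m ≃ₐ[A] B := e
    have hPH := Groth.Agent.H2PairHenz.isPH A m
    have hmap : (m.map (algebraMap A (Groth.Agent.H2PairHenz.PH A m))).map (e' : Groth.Agent.H2PairHenz.PH A m →+* B) = m.map (algebraMap A B) := by
      rw [Ideal.map_map, show (e' : Groth.Agent.H2PairHenz.PH A m →+* B).comp (algebraMap A _) = algebraMap A B from RingHom.ext e'.commutes]
    refine ⟨?_, fun C _ J f hC hf => ?_⟩
    · haveI := hPH.1
      rw [← hmap]
      exact Groth.Agent.H4Hensel.of_surjective (e' : Groth.Agent.H2PairHenz.PH A m →+* B) e'.surjective _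
    · obtain ⟨g, hg, hgu⟩ := hPH.2 C J f hC hf
      refine ⟨g.comp (e'.symm : B →+* _), RingHom.ext fun a => (congrArg g (e'.symm.commutes a)).trans (RingHom.congr_fun hg a), fun g' hg' => RingHom.ext fun b => ?_⟩
      have := hgu (g'.comp (e' : _ →+* B)) (RingHom.ext fun a => (congrArg g' (e'.commutes a)).trans (RingHom.congr_fun hg' a))
      show g' b = g (e'.symm b)
      rw [← this]
      exact congrArg g' (e'.apply_symm_apply b).symm

end Groth.Agent.S1993
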