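import Groth.Statements.S1994
import Mathlib
import Groth.Prelude.Def_Hens2
import Groth.Agent.Lib.H2PairHenz
import Groth.Agent.Lib.H2RegNormal
import Groth.Agent.Lib.CompleteNoetherian
import Groth.Agent.S1958

set_option autoImplicit false
universe u
open EtAlg

namespace Groth.Agent.S1994
open TensorProduct
set_option maxHeartbeats 1000000
set_option synthInstance.maxHeartbeats 400000
set_option backward.isDefEq.respectTransparency.types false

/-- Let (A, I) be a pair with A Noetherian and B a henselization of the pair. Then B is Noetherian and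
flat over A, and the induced map of adic completions, from the I-adic completion of A to the IB-adic
completion of B, is bijective. -/
theorem result (A : Type u) [CommRing A] [IsNoetherianRing A] (I : Ideal A)
    (B : Type u) [CommRing B] [Algebra A B] (hB : Hens2.IsPairHenselization A I B) :
    IsNoetherianRing B ∧ Module.Flat A B ∧
      Function.Bijective (AdicCompletion.map I (Algebra.linearMap A B) :
        AdicCompletion I A → AdicCompletion I B) := by
  obtain ⟨hflat, hn⟩ := Groth.Agent.S1958.result A I B hB
  refine ⟨?_, hflat, ?_⟩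
  · let Ah := AdicCompletion I A
    haveI : IsAdicComplete (I.map (algebraMap A Ah)) Ah := AdicCompletion.isAdicComplete_self I (IsNoetherian.noetherian I)
    haveI hh : HenselianRing Ah (I.map (algebraMap A Ah)) := inferInstance
    obtain ⟨ψ, hψ, -⟩ := hB.2 Ah _ (algebraMap A Ah) hh le_rfl
    letI : Algebra B Ah := ψ.toAlgebra
    haveI : IsScalarTower A B Ah := IsScalarTower.of_algebraMap_eq fun a => (RingHom.congr_fun hψ a).symm
    haveI : Module.Flat A Ah := inferInstance
    haveI : Module.Flat B Ah := Groth.Agent.H2EtaleCover.flat_of_covered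
      (Groth.Agent.H2EtaleCover.covered_of_isIndEtale (Groth.Agent.H2PairHenz.isIndEtale_of_isPH hB))
    let π : Ah →ₐ[A] A ⧸ I := (Ideal.Quotient.factorₐ A (by simp : I ^ 1 ≤ I)).comp (AdicCompletion.evalₐ I 1)
    haveI : Module.FaithfullyFlat B Ah := ⟨fun {M} hM => by
      have hIM : I.map (algebraMap A B) ≤ M := (HenselianRing.jac (self := hB.1)).trans (sInf_le ⟨bot_le, hM⟩)
      let m := M.comap (algebraMap A B)
      have hIm : I ≤ m := fun a ha => hIM (Ideal.mem_map_of_mem _ ha)
      haveI : m.IsPrime := hM.isPrime.comap _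
      intro htop
      let P : Ideal Ah := (m.map (Ideal.Quotient.mk I)).comap π
      have hPM : ∀ b ∈ M, algebraMap B Ah b ∈ P := fun b hb => by
        obtain ⟨q, hq⟩ := (Groth.Agent.H2PairHenz.quotient_bijective hB).2 (Ideal.Quotient.mk _ b)
        obtain ⟨a, rfl⟩ := Ideal.Quotient.mk_surjective q
        rw [Ideal.quotientMap_mk, Ideal.Quotient.eq] at hq
        have ham : a ∈ m := by
          show algebraMap A B a ∈ M
          simpa using add_mem (hIM hq) hb
        have h0 : π (algebraMap B Ah (algebraMap A B a - b)) = 0 := by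
          have hle : (I.map (algebraMap A B)).map (algebraMap B Ah) ≤ RingHom.ker π.toRingHom := by
            rw [Ideal.map_map, ← IsScalarTower.algebraMap_eq, Ideal.map_le_iff_le_comap]
            intro i hi
            show π (algebraMap A Ah i) = 0
            rw [π.commutes]; exact Ideal.Quotient.eq_zero_iff_mem.2 hi
          exact hle (Ideal.mem_map_of_mem _ hq)
        show π (algebraMap B Ah b) ∈ m.map (Ideal.Quotient.mk I)
        rw [map_sub, map_sub, sub_eq_zero, ← IsScalarTower.algebraMap_apply, π.commutes] at h0
        rw [← h0]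
        exact Ideal.mem_map_of_mem _ ham
      have hP : P ≠ ⊤ := fun e => by
        have h1 : (1 : Ah) ∈ P := e ▸ trivial
        rw [Ideal.mem_comap, map_one, ← (Ideal.Quotient.mk I).map_one, Ideal.mem_quotient_iff_mem hIm] at h1
        exact Ideal.IsPrime.ne_top inferInstance ((Ideal.eq_top_iff_one m).2 h1)
      apply hP
      rw [Ideal.eq_top_iff_one]
      have h1 : (1 : Ah) ∈ (M • ⊤ : Submodule B Ah) := by rw [htop]; exact Submodule.mem_top
      refine Submodule.smul_induction_on h1 (fun b hb x _ => ?_) (fun x y hx hy => P.add_mem hx hy)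
      rw [Algebra.smul_def]
      exact P.mul_mem_right _ (hPM b hb)⟩
    haveI : IsNoetherianRing Ah := Groth.Agent.CplNoeth.isNoetherianRing_completion I
    exact Groth.Agent.H2RegNormal.isNoetherian_descent (R := B) (S := Ah)
  · have hbij : ∀ n : ℕ, Function.Bijective (LinearMap.reduceModIdeal (I ^ n) (Algebra.linearMap A B)) := fun n => by
      have hmem : ∀ b : B, b ∈ (I ^ n • ⊤ : Submodule A B) ↔ b ∈ (I ^ n).map (algebraMap A B) := fun b => by
        rw [Ideal.smul_top_eq_map]; rfl
      have hA : ∀ a : A, a ∈ (I ^ n • ⊤ : Submodule A A) ↔ a ∈ I ^ n := fun a => by simp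
      constructor
      · intro x y hxy
        obtain ⟨x, rfl⟩ := Submodule.Quotient.mk_surjective _ x
        obtain ⟨y, rfl⟩ := Submodule.Quotient.mk_surjective _ y
        have h1 : algebraMap A B x - algebraMap A B y ∈ (I ^ n • ⊤ : Submodule A B) := (Submodule.Quotient.eq _).1 hxy
        rw [hmem] at h1
        have h2 : Ideal.Quotient.mk (I ^ n) x = Ideal.Quotient.mk (I ^ n) y := (hn n).1 (by
          rw [Ideal.quotientMap_mk, Ideal.quotientMap_mk, Ideal.Quotient.eq]; exact h1)
        exact (Submodule.Quotient.eq _).2 ((hA _).2 (Ideal.Quotient.eq.1 h2))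
      · intro q
        obtain ⟨b, rfl⟩ := Submodule.Quotient.mk_surjective _ q
        obtain ⟨r, hr⟩ := (hn n).2 (Ideal.Quotient.mk _ b)
        obtain ⟨a, rfl⟩ := Ideal.Quotient.mk_surjective r
        rw [Ideal.quotientMap_mk, Ideal.Quotient.eq] at hr
        exact ⟨Submodule.Quotient.mk a, (Submodule.Quotient.eq _).2 ((hmem _).2 hr)⟩
    constructor
    · intro x y hxy
      refine AdicCompletion.ext fun n => (hbij n).1 ?_
      exact congrArg (fun z : AdicCompletion I B => z.val n) hxy
    · intro y
      choose g hg using fun n => (hbij n).2 (y.val n)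
      refine ⟨⟨g, fun {m n} hmn => (hbij m).1 ?_⟩, AdicCompletion.ext fun n => hg n⟩
      rw [hg m]
      refine Eq.trans ?_ (y.2 hmn)
      rw [← hg n]
      exact (LinearMap.congr_fun (AdicCompletion.transitionMap_comp_reduceModIdeal I (Algebra.linearMap A B) hmn) (g n)).symm

end Groth.Agent.S1994
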