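import Groth.Statements.S1995
import Mathlib
import Groth.Prelude.Def_Hens2
import Groth.Agent.Lib.H4Hensel
import Groth.Agent.Lib.H4HenselPair

set_option autoImplicit false
universe u
open EtAlg

namespace Groth.Agent.S1995
open TensorProduct
set_option maxHeartbeats 1000000
set_option synthInstance.maxHeartbeats 400000
set_option backward.isDefEq.respectTransparency.types false

/-- Let I_1, …, I_n be pairwise comaximal ideals of a ring A, B a henselization of the pair (A, I_1 ∩ …
∩ I_n) and B_i a henselization of (A, I_i) for each i. Then B is isomorphic as an A-algebra to the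
product of the B_i (any such isomorphism is the natural comparison map, by the universal property). -/
theorem result (A : Type u) [CommRing A] {n : ℕ} (I : Fin n → Ideal A)
    (hI : Pairwise fun i j => I i ⊔ I j = ⊤) (B : Type u) [CommRing B] [Algebra A B]
    (hB : Hens2.IsPairHenselization A (⨅ i, I i) B) (Bi : Fin n → Type u) [∀ i, CommRing (Bi i)] [∀ i, Algebra A (Bi i)]
    (hBi : ∀ i, Hens2.IsPairHenselization A (I i) (Bi i)) :
    Nonempty (B ≃ₐ[A] ∀ i, Bi i) := by
  classical
  let I0 := ⨅ i, I i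
  let IB := I0.map (algebraMap A B)
  haveI hBh := hB.1
  have huex : ∀ i, ∃ u : A, ∀ j, Ideal.Quotient.mk (I j) u = (Pi.single i 1 : ∀ j, A ⧸ I j) j := fun i => by
    obtain ⟨q, hq⟩ := Ideal.quotientInfToPiQuotient_surj (I := I) (fun a b hab => Ideal.isCoprime_iff_sup_eq.2 (hI hab)) (Pi.single i 1)
    obtain ⟨u, rfl⟩ := Ideal.Quotient.mk_surjective q
    exact ⟨u, fun j => congrFun hq j⟩
  choose u hu using huex
  have hinf : ∀ a : A, (∀ j, Ideal.Quotient.mk (I j) a = 0) → algebraMap A B a ∈ IB := fun a ha =>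
    Ideal.mem_map_of_mem _ (Submodule.mem_iInf _ |>.2 fun j => Ideal.Quotient.eq_zero_iff_mem.1 (ha j))
  have hid : ∀ i, ∃ e : B, IsIdempotentElem e ∧ e - algebraMap A B (u i) ∈ IB := fun i => by
    have hbij := Groth.Agent.H4HenselPair.idempotents_bijOn (A := B) IB B
    rw [Algebra.algebraMap_self, Ideal.map_id] at hbij
    obtain ⟨e, he, hee⟩ := hbij.surjOn (show IsIdempotentElem (Ideal.Quotient.mk IB (algebraMap A B (u i))) by
      rw [IsIdempotentElem, ← map_mul, Ideal.Quotient.eq, ← map_mul, ← map_sub]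
      refine hinf _ fun j => ?_
      rw [map_sub, map_mul, hu i j]
      rcases eq_or_ne j i with rfl | hne <;> simp [*])
    exact ⟨e, he, Ideal.Quotient.eq.1 hee⟩
  choose e he hee using hid
  have hone : ∀ z : B, IsIdempotentElem z → z - 1 ∈ IB → z = 1 := fun z hz hz1 => by
    have := Groth.Agent.H4HenselPair.isUnit_of_sub_mem (HenselianRing.jac (I := IB)) hz1
    exact this.mul_left_cancel (by rw [hz.eq, mul_one])
  have hzero : ∀ z : B, IsIdempotentElem z → z ∈ IB → z = 0 := fun z hz hz0 => by
    have := hone (1 - z) hz.one_sub (by simpa using IB.neg_mem hz0)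
    simpa using this
  have horth : ∀ i j, i ≠ j → e i * e j = 0 := fun i j hij => hzero _ ((he i).mul (he j)) (by
    have h1 : algebraMap A B (u i * u j) ∈ IB := hinf _ fun l => by
      rw [map_mul, hu, hu]
      rcases eq_or_ne l i with rfl | hne <;> simp [*]
    have : e i * e j = (e i - algebraMap A B (u i)) * e j + algebraMap A B (u i) * (e j - algebraMap A B (u j)) + algebraMap A B (u i * u j) := by
      rw [map_mul]; ring
    rw [this]
    exact add_mem (add_mem (IB.mul_mem_right _ (hee i)) (IB.mul_mem_left _ (hee j))) h1)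
  have hsum : ∑ i, e i = 1 := hone _ (by
    rw [IsIdempotentElem, Finset.sum_mul]
    refine Finset.sum_congr rfl fun i _ => ?_
    rw [Finset.mul_sum, Finset.sum_eq_single i (fun j _ hj => horth i j hj.symm) (fun h => absurd (Finset.mem_univ i) h), (he i).eq]) (by
    have h1 : algebraMap A B (∑ i, u i - 1) ∈ IB := hinf _ fun l => by
      rw [map_sub, map_sum, map_one]
      simp only [hu]
      simp [Pi.single_apply]
    have : ∑ i, e i - 1 = ∑ i, (e i - algebraMap A B (u i)) + algebraMap A B (∑ i, u i - 1) := by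
      rw [Finset.sum_sub_distrib, map_sub, map_sum, map_one]; ring
    rw [this]
    exact add_mem (IB.sum_mem fun i _ => hee i) h1)
  let K : Fin n → Ideal B := fun i => Ideal.span {1 - e i}
  have hcop : Pairwise fun i j => IsCoprime (K i) (K j) := fun i j hij => by
    show IsCoprime (K i) (K j)
    rw [Ideal.isCoprime_iff_sup_eq, Ideal.eq_top_iff_one]
    rw [show (1 : B) = (1 - e i) + e i * (1 - e j) by rw [mul_sub, horth i j hij]; ring]
    exact Submodule.add_mem_sup (Ideal.mem_span_singleton_self _) (Ideal.mul_mem_left _ _ (Ideal.mem_span_singleton_self _))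
  have hbot : ⨅ i, K i = ⊥ := eq_bot_iff.2 fun x hx => by
    rw [Submodule.mem_iInf] at hx
    have h1 : ∀ i, e i * x = 0 := fun i => by
      obtain ⟨c, rfl⟩ := Ideal.mem_span_singleton'.1 (hx i)
      rw [mul_comm c, ← mul_assoc, mul_sub, (he i).eq, mul_one, sub_self, zero_mul]
    rw [Submodule.mem_bot, ← one_mul x, ← hsum, Finset.sum_mul]
    exact Finset.sum_eq_zero fun i _ => h1 i
  have hiso : ∀ i, Nonempty ((B ⧸ K i) ≃ₐ[A] Bi i) := fun i => by
    haveI hBih := (hBi i).1
    let q : B →ₐ[A] B ⧸ K i := Ideal.Quotient.mkₐ A (K i)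
    haveI hQ : HenselianRing (B ⧸ K i) (IB.map (Ideal.Quotient.mk (K i))) :=
      Groth.Agent.H4Hensel.of_surjective _ Ideal.Quotient.mk_surjective IB
    have hIle : (I i).map (algebraMap A (B ⧸ K i)) ≤ IB.map (Ideal.Quotient.mk (K i)) := Ideal.map_le_iff_le_comap.2 fun a ha => by
      rw [Ideal.mem_comap]
      have h1 : algebraMap A B (a * u i) ∈ IB := hinf _ fun l => by
        rw [map_mul, hu]
        rcases eq_or_ne l i with rfl | hne
        · rw [Ideal.Quotient.eq_zero_iff_mem.2 ha, zero_mul]
        · simp [hne]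
      have h2 : algebraMap A B a * e i ∈ IB := by
        have : algebraMap A B a * e i = algebraMap A B a * (e i - algebraMap A B (u i)) + algebraMap A B (a * u i) := by
          rw [map_mul]; ring
        rw [this]; exact add_mem (IB.mul_mem_left _ (hee i)) h1
      have := Ideal.mem_map_of_mem (Ideal.Quotient.mk (K i)) h2
      rwa [map_mul, show Ideal.Quotient.mk (K i) (e i) = 1 by
        rw [← (Ideal.Quotient.mk (K i)).map_one, Ideal.Quotient.eq, ← neg_sub]; exact neg_mem (Ideal.mem_span_singleton_self _), mul_one] at this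
    obtain ⟨g, hg, -⟩ := (hBi i).2 (B ⧸ K i) _ (algebraMap A (B ⧸ K i)) hQ hIle
    obtain ⟨f, hf, -⟩ := hB.2 (Bi i) _ (algebraMap A (Bi i)) hBih (Ideal.map_mono (iInf_le I i))
    have hfe : f (e i) = 1 := by
      have hmem : f (e i) - 1 ∈ (I i).map (algebraMap A (Bi i)) := by
        have hle : IB.map f ≤ (I i).map (algebraMap A (Bi i)) := by
          rw [Ideal.map_map, hf]; exact Ideal.map_mono (iInf_le I i)
        have h1 : algebraMap A (Bi i) (u i) - 1 ∈ (I i).map (algebraMap A (Bi i)) := by
          have h3 : u i - 1 ∈ I i := by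
            rw [← Ideal.Quotient.eq_zero_iff_mem, map_sub, map_one, hu]; simp
          have := Ideal.mem_map_of_mem (algebraMap A (Bi i)) h3
          rwa [map_sub, map_one] at this
        have h2 := hle (Ideal.mem_map_of_mem f (hee i))
        rw [map_sub, show f (algebraMap A B (u i)) = algebraMap A (Bi i) (u i) from RingHom.congr_fun hf _] at h2
        simpa using add_mem h2 h1
      exact (Groth.Agent.H4HenselPair.isUnit_of_sub_mem HenselianRing.jac hmem).mul_left_cancel
        (by rw [← map_mul, (he i).eq, mul_one])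
    let f' : (B ⧸ K i) →ₐ[A] Bi i := Ideal.Quotient.liftₐ (K i) { f with commutes' := fun a => RingHom.congr_fun hf a } (fun b hb => by
      obtain ⟨c, rfl⟩ := Ideal.mem_span_singleton'.1 hb
      show f (c * (1 - e i)) = 0
      rw [map_mul, map_sub, map_one, hfe, sub_self, mul_zero])
    let g' : Bi i →ₐ[A] B ⧸ K i := { g with commutes' := fun a => RingHom.congr_fun hg a }
    obtain ⟨p, -, hp⟩ := (hBi i).2 (Bi i) _ (algebraMap A (Bi i)) hBih le_rfl
    have h01 : I0.map (algebraMap A (B ⧸ K i)) ≤ IB.map (Ideal.Quotient.mk (K i)) := (Ideal.map_mono (iInf_le I i)).trans hIle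
    obtain ⟨r, -, hr⟩ := hB.2 (B ⧸ K i) _ (algebraMap A (B ⧸ K i)) hQ h01
    refine ⟨AlgEquiv.ofAlgHom f' g'
      (AlgHom.coe_ringHom_injective ((hp _ (f'.comp g').comp_algebraMap).trans (hp _ (AlgHom.id A (Bi i)).comp_algebraMap).symm))
      (AlgHom.ext fun x => ?_)⟩
    obtain ⟨b, rfl⟩ := Ideal.Quotient.mk_surjective x
    exact RingHom.congr_fun ((hr _ ((g'.comp f').comp q).comp_algebraMap).trans (hr _ q.comp_algebraMap).symm) b
  let E : B ≃ₐ[A] ∀ i, B ⧸ K i := AlgEquiv.ofRingEquiv
    (f := ((RingEquiv.quotientBot B).symm.trans (Ideal.quotEquivOfEq hbot.symm)).trans (Ideal.quotientInfRingEquivPiQuotient K hcop)) fun a => rfl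
  exact ⟨E.trans (AlgEquiv.piCongrRight fun i => (hiso i).some)⟩

end Groth.Agent.S1995
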