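import Groth.Statements.S1997
import Mathlib

set_option autoImplicit false
set_option backward.isDefEq.respectTransparency.types false
set_option maxHeartbeats 1000000
set_option linter.all false
universe u
open CategoryTheory
open EtAlg

namespace Groth.Agent.S1997
open Groth.Agent

/-- Let A be a ring all of whose ideals are flat (weak dimension at most one) and A -> B a flat,
injective ring map which is an epimorphism in the category of commutative rings. Then A is
integrally closed in B. -/
theorem result (A B : Type u) [CommRing A] [CommRing B] [Algebra A B]
    (hA : ∀ I : Ideal A, Module.Flat A I) [Module.Flat A B] (hinj : Function.Injective (algebraMap A B))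
    (hepi : Epi (CommRingCat.ofHom (algebraMap A B))) : IsIntegrallyClosedIn A B := by
    haveI : Algebra.IsEpi A B := CommRingCat.epi_iff_epi.mp hepi
    refine isIntegrallyClosedIn_iff.2 ⟨hinj, fun {x} hx => ?_⟩
    let C := Algebra.adjoin A ({x} : Set B)
    haveI : Module.Finite A C := Module.Finite.iff_fg.2 hx.fg_adjoin_singleton
    let ι : C →ₗ[A] B := C.val.toLinearMap
    have hι : Function.Injective ι := Subtype.val_injective
    haveI : Module.Flat A C := by
      rw [Module.Flat.iff_rTensor_injective']
      intro I
      haveI := hA I
      have h1 : Function.Injective (LinearMap.rTensor B I.subtype ∘ₗ LinearMap.lTensor I ι) := by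
        rw [LinearMap.coe_comp]
        exact (Module.Flat.rTensor_preserves_injective_linearMap _ (Submodule.injective_subtype I)).comp (Module.Flat.lTensor_preserves_injective_linearMap ι hι)
      rw [LinearMap.rTensor_comp_lTensor, ← LinearMap.lTensor_comp_rTensor, LinearMap.coe_comp] at h1
      exact h1.of_comp
    have hepiC : Algebra.IsEpi A C := by
      rw [Algebra.isEpi_iff_forall_one_tmul_eq]
      intro c
      have hinj2 : Function.Injective (LinearMap.lTensor B ι ∘ₗ LinearMap.rTensor C ι) := by
        rw [LinearMap.coe_comp]
        exact (Module.Flat.lTensor_preserves_injective_linearMap ι hι).comp (Module.Flat.rTensor_preserves_injective_linearMap ι hι)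
      apply hinj2
      simpa [ι] using (Algebra.isEpi_iff_forall_one_tmul_eq A B).1 inferInstance (c : B)
    obtain ⟨a, ha⟩ := Algebra.isEpi_iff_surjective_algebraMap_of_finite.1 hepiC ⟨x, Algebra.subset_adjoin rfl⟩
    exact ⟨a, congrArg Subtype.val ha⟩

end Groth.Agent.S1997
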