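import Groth.Statements.S19974
import Mathlib

set_option autoImplicit false
set_option backward.isDefEq.respectTransparency.types false
set_option maxHeartbeats 1000000
set_option linter.all false
universe u v w x
open scoped BigOperators
open DefMod

namespace Groth.Agent.S19974
open Groth.Agent

/-- Let K be a field of characteristic 0, O a commutative K-algebra with a K-linear derivation δ, and D
the ring of differential operators O[∂], presented abstractly as a K-algebra D with an algebra map ι
: O → D and an element ∂ of D such that ∂ ι(f) = ι(f) ∂ + ι(δ f) for every f in O and such that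
every element of D is in a unique way a finite sum of terms ι(f_i) ∂^i. Let E be a left D-module,
given as a K-vector space with a K-algebra map ρ : D → End_K(E), which is finite free as an
O-module. A K-derivation of D with values in the D-bimodule End_K(E) is a K-linear map s with s(PQ)
= s(P) ρ(Q) + ρ(P) s(Q); a K-derivation of O with values in End_K(E) is a K-linear map r with r(fg)
= r(f) ρ(ι g) + ρ(ι f) r(g). Then: (a) for every K-derivation s of D into End_K(E), the pair (r, v)
= (s ∘ ι, s(∂)) satisfies the identity [r(f), ρ(∂)] + [ρ(ι f), v] + r(δ f) = 0 for all f in O; (b)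
conversely, for every K-derivation r of O into End_K(E) and every v in End_K(E) satisfying that
identity for all f, there is exactly one K-derivation s of D into End_K(E) with s ∘ ι = r and s(∂) =
v. In other words s ↦ (s ∘ ι, s(∂)) maps the K-derivations of D injectively onto the pairs
satisfying the identity. -/
theorem result
    (K : Type u) [Field K] [CharZero K]
    (O : Type v) [CommRing O] [Algebra K O] (δ : Derivation K O O)
    (D : Type w) [Ring D] [Algebra K D] (ι : O →ₐ[K] D) (d : D)
    (hd : ∀ f : O, d * ι f = ι f * d + ι (δ f))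
    (hbasis : Function.Bijective (fun c : ℕ →₀ O => c.sum (fun i f => ι f * d ^ i)))
    (E : Type x) [AddCommGroup E] [Module K E] (ρ : D →ₐ[K] Module.End K E)
    (hE : ∃ (n : ℕ) (b : Fin n → E), Function.Bijective (fun c : Fin n → O => ∑ i, ρ (ι (c i)) (b i))) :
    (∀ s : D →ₗ[K] Module.End K E, (∀ P Q : D, s (P * Q) = s P * ρ Q + ρ P * s Q) →
      ∀ f : O, (s (ι f) * ρ d - ρ d * s (ι f)) + (ρ (ι f) * s d - s d * ρ (ι f)) + s (ι (δ f)) = 0) ∧
    ∀ (r : O →ₗ[K] Module.End K E) (v : Module.End K E),
      (∀ f g : O, r (f * g) = r f * ρ (ι g) + ρ (ι f) * r g) →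
      (∀ f : O, (r f * ρ d - ρ d * r f) + (ρ (ι f) * v - v * ρ (ι f)) + r (δ f) = 0) →
      ∃! s : D →ₗ[K] Module.End K E,
        (∀ P Q : D, s (P * Q) = s P * ρ Q + ρ P * s Q) ∧ s ∘ₗ ι.toLinearMap = r ∧ s d = v := by
    classical
    refine ⟨fun s hs f => ?_, fun r v hr hv => ?_⟩
    · have h1 := hs d (ι f)
      rw [hd f, map_add, hs (ι f) d] at h1
      rw [← sub_eq_zero] at h1
      refine Eq.trans ?_ h1
      abel
    let R : O →ₗ[K] Matrix (Fin 2) (Fin 2) (Module.End K E) :=
      { toFun := fun f => !![ρ (ι f), r f; 0, ρ (ι f)]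
        map_add' := fun f g => by refine Matrix.ext fun i j => ?_; fin_cases i <;> fin_cases j <;> simp
        map_smul' := fun c f => by refine Matrix.ext fun i j => ?_; fin_cases i <;> fin_cases j <;> simp }
    let V : Matrix (Fin 2) (Fin 2) (Module.End K E) := !![ρ d, v; 0, ρ d]
    have hR : ∀ f g, R (f * g) = R f * R g := fun f g => by
      show !![_, _; _, _] = !![_, _; _, _] * !![_, _; _, _]
      rw [Matrix.mul_fin_two, hr f g]
      simp [add_comm]
    have hr1 : r 1 = 0 := by
      have := hr 1 1
      simp only [one_mul, map_one, mul_one] at this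
      exact add_eq_right.1 this.symm
    have hR1 : R 1 = 1 := by
      show !![_, _; _, _] = _
      rw [hr1, map_one, map_one, Matrix.one_fin_two]
    have hρd : ∀ f, ρ d * ρ (ι f) = ρ (ι f) * ρ d + ρ (ι (δ f)) := fun f => by
      rw [← map_mul, hd, map_add, map_mul]
    have hVR : ∀ f, V * R f = R f * V + R (δ f) := fun f => by
      show !![_, _; _, _] * !![_, _; _, _] = !![_, _; _, _] * !![_, _; _, _] + !![_, _; _, _]
      rw [Matrix.mul_fin_two, Matrix.mul_fin_two]
      refine Matrix.ext fun i j => ?_
      fin_cases i <;> fin_cases j <;> simp [hρd]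
      have := hv f
      rw [← sub_eq_zero] at this ⊢
      rw [sub_zero] at this
      rw [← neg_eq_zero]
      refine Eq.trans ?_ this
      abel
    let Φl : (ℕ →₀ O) →ₗ[K] D := Finsupp.lsum K (fun i => (LinearMap.mulRight K (d ^ i)).comp ι.toLinearMap)
    have hΦ : Function.Bijective Φl := hbasis
    let Θ : D →ₗ[K] Matrix (Fin 2) (Fin 2) (Module.End K E) :=
      (Finsupp.lsum K (fun i => (LinearMap.mulRight K (V ^ i)).comp R)).comp
        (LinearEquiv.ofBijective Φl hΦ).symm.toLinearMap
    have hgen : ∀ f i, Θ (ι f * d ^ i) = R f * V ^ i := fun f i => by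
      have h : (LinearEquiv.ofBijective Φl hΦ).symm (ι f * d ^ i) = Finsupp.single i f := by
        rw [LinearEquiv.symm_apply_eq]; simp [Φl]
      show Finsupp.lsum K _ ((LinearEquiv.ofBijective Φl hΦ).symm (ι f * d ^ i)) = _
      rw [h]; simp
    have ind : ∀ {p : D → Prop}, p 0 → (∀ x y, p x → p y → p (x + y)) → (∀ f i, p (ι f * d ^ i)) → ∀ x, p x := by
      intro p h0 ha hg x
      obtain ⟨c, rfl⟩ := hΦ.2 x
      induction c using Finsupp.induction with
      | zero => rwa [map_zero]
      | single_add i f c _ _ ih =>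
        rw [map_add]
        refine ha _ _ ?_ ih
        simpa [Φl] using hg f i
    have hA : ∀ g X, Θ (ι g * X) = R g * Θ X := fun g =>
      ind (by simp) (fun x y hx hy => by rw [mul_add, map_add, map_add, mul_add, hx, hy]) fun f i => by
        rw [← mul_assoc, ← map_mul, hgen, hgen, hR, mul_assoc]
    have hB : ∀ X, Θ (d * X) = V * Θ X :=
      ind (by simp) (fun x y hx hy => by rw [mul_add, map_add, map_add, mul_add, hx, hy]) fun f i => by
        rw [← mul_assoc, hd, add_mul, mul_assoc, ← pow_succ', map_add, hgen, hgen, hgen, ← mul_assoc V, hVR, add_mul,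
          mul_assoc (R f), ← pow_succ']
    have hC : ∀ (i : ℕ) X, Θ (d ^ i * X) = V ^ i * Θ X := by
      intro i
      induction i with
      | zero => simp
      | succ i ih => intro X; rw [pow_succ', mul_assoc, hB, ih, pow_succ', mul_assoc]
    have hmul : ∀ P Q, Θ (P * Q) = Θ P * Θ Q := fun P Q => by
      refine ind (p := fun P => Θ (P * Q) = Θ P * Θ Q) (by simp) (fun x y hx hy => by rw [add_mul, map_add, map_add, add_mul, hx, hy]) (fun f i => ?_) P
      rw [mul_assoc, hA, hC, hgen, mul_assoc]
    have hι : ∀ f, Θ (ι f) = R f := fun f => by simpa using hgen f 0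
    have hdd : Θ d = V := by simpa [hR1] using hgen 1 1
    have hform : ∀ X, Θ X 0 0 = ρ X ∧ Θ X 1 0 = 0 ∧ Θ X 1 1 = ρ X := by
      refine ind (by simp) (fun x y hx hy => by simp [map_add, hx.1, hy.1, hx.2.1, hy.2.1, hx.2.2, hy.2.2]) fun f i => ?_
      induction i with
      | zero => rw [pow_zero, mul_one, hι]; exact ⟨rfl, rfl, rfl⟩
      | succ i ih =>
        rw [pow_succ, ← mul_assoc, hmul, hdd, map_mul ρ]
        simp [Matrix.mul_apply, Fin.sum_univ_two, V, ih.1, ih.2.1, ih.2.2]
    let s : D →ₗ[K] Module.End K E :=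
      { toFun := fun X => Θ X 0 1
        map_add' := fun x y => by simp
        map_smul' := fun c x => by simp }
    have hsd : ∀ P Q, s (P * Q) = s P * ρ Q + ρ P * s Q := fun P Q => by
      show Θ (P * Q) 0 1 = _
      rw [hmul, Matrix.mul_apply, Fin.sum_univ_two, (hform P).1, (hform Q).2.2, add_comm]
      rfl
    refine ⟨s, ⟨hsd, LinearMap.ext fun f => ?_, ?_⟩, ?_⟩
    · show Θ (ι f) 0 1 = r f
      rw [hι]; rfl
    · show Θ d 0 1 = v
      rw [hdd]; rfl
    · rintro s' ⟨hs', hsr, hsv⟩
      refine LinearMap.ext fun X => ?_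
      refine ind (p := fun X => s' X = s X) (by simp) (fun x y hx hy => by rw [map_add, map_add, hx, hy]) (fun f i => ?_) X
      induction i with
      | zero =>
        rw [pow_zero, mul_one]
        show _ = Θ (ι f) 0 1
        rw [hι]
        exact LinearMap.congr_fun hsr f
      | succ i ih =>
        rw [pow_succ, ← mul_assoc, hs', hsd, ih, hsv]
        show _ = _ + _ * Θ d 0 1
        rw [hdd]; rfl

end Groth.Agent.S19974
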