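import Groth.Statements.S1999
import Mathlib
import Groth.Agent.Lib.H4TameInertia

set_option autoImplicit false
universe u
open scoped Pointwise
open EtAlg

namespace Groth.Agent.S1999
open Groth.Agent

/-- Parts (2)–(5) in the case of part (6): let A be a discrete valuation ring with fraction field K, L/K
a finite Galois extension with group G, B the integral closure of A in L, m a maximal ideal of B
whose residue field is separable over that of A, and e the ramification index of m over A. Let D be
the decomposition group (stabilizer of m), I the inertia group (elements acting trivially on B/m)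
and P the wild inertia group, here the elements of D acting trivially on B/m² (the description valid
in the separable residue field case). Then P ≤ I, P is normal in D, P is a p-group if the residue
characteristic is p > 0 and trivial if it is 0, and I/P is cyclic of order the prime-to-p part of e
and isomorphic to a subgroup of the e-th roots of unity of B/m — more precisely to the full group of
e-th roots of unity of B/m. -/
theorem result (A K L B : Type u) [CommRing A] [IsDomain A] [IsDiscreteValuationRing A]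
    [CommRing B] [IsDomain B] [Field K] [Field L] [Algebra A K] [Algebra B L] [IsFractionRing A K] [IsFractionRing B L]
    [Algebra A B] [Algebra K L] [Algebra A L] [IsScalarTower A K L] [IsScalarTower A B L] [IsIntegralClosure B A L]
    [FiniteDimensional K L] [IsGalois K L] (m : Ideal B) [m.IsMaximal]
    [Algebra.IsSeparable (A ⧸ m.comap (algebraMap A B)) (B ⧸ m)] :
    letI := IsIntegralClosure.MulSemiringAction A K L B
    let D : Subgroup (L ≃ₐ[K] L) := MulAction.stabilizer (L ≃ₐ[K] L) m
    let I : Subgroup (L ≃ₐ[K] L) := m.inertia (L ≃ₐ[K] L)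
    let P : Subgroup (L ≃ₐ[K] L) := D ⊓ (m ^ 2).inertia (L ≃ₐ[K] L)
    let e : ℕ := Ideal.ramificationIdx' (IsLocalRing.maximalIdeal A) m
    P ≤ I ∧ I ≤ D ∧ (P.subgroupOf D).Normal ∧
    (∀ p : ℕ, p.Prime → CharP (A ⧸ m.comap (algebraMap A B)) p → IsPGroup p P) ∧
    (CharZero (A ⧸ m.comap (algebraMap A B)) → P = ⊥) ∧
    (∀ [(P.subgroupOf I).Normal],
      IsCyclic (I ⧸ P.subgroupOf I) ∧
      (∀ p : ℕ, p.Prime → CharP (A ⧸ m.comap (algebraMap A B)) p → Nat.card (I ⧸ P.subgroupOf I) = e / p ^ e.factorization p) ∧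
      (CharZero (A ⧸ m.comap (algebraMap A B)) → Nat.card (I ⧸ P.subgroupOf I) = e) ∧
      Nonempty (I ⧸ P.subgroupOf I ≃* ↥(rootsOfUnity e (B ⧸ m)))) := by
  letI := IsIntegralClosure.MulSemiringAction A K L B
  haveI : Algebra.IsIntegral A B := IsIntegralClosure.isIntegral_algebra A L
  haveI : IsGaloisGroup (L ≃ₐ[K] L) A B := IsGaloisGroup.of_isFractionRing _ _ _ K L
  haveI : Module.Finite A B := IsIntegralClosure.finite A K L B
  haveI : IsDedekindDomain B := IsIntegralClosure.isDedekindDomain A K L B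
  have hinjL : Function.Injective (algebraMap A L) := by
    rw [IsScalarTower.algebraMap_eq A K L]
    exact (algebraMap K L).injective.comp (IsFractionRing.injective A K)
  have hinjB : Function.Injective (algebraMap A B) := by
    rw [IsScalarTower.algebraMap_eq A B L, RingHom.coe_comp] at hinjL
    exact hinjL.of_comp
  haveI : Module.IsTorsionFree A B :=
    Module.isTorsionFree_iff_algebraMap_injective.mpr hinjB
  haveI : FaithfulSMul A B := (faithfulSMul_iff_algebraMap_injective A B).mpr hinjB
  haveI : FaithfulSMul (L ≃ₐ[K] L) B := IsGaloisGroup.faithful A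
  haveI : (m.comap (algebraMap A B)).IsMaximal := Ideal.isMaximal_comap_of_isIntegral_of_isMaximal m
  have hp : IsLocalRing.maximalIdeal A = m.comap (algebraMap A B) :=
    (IsLocalRing.eq_maximalIdeal inferInstance).symm
  have hp0 : IsLocalRing.maximalIdeal A ≠ ⊥ := IsDiscreteValuationRing.not_a_field A
  have hm0 : m ≠ ⊥ := by
    intro h
    apply hp0
    rw [hp, h, ← RingHom.ker_eq_comap_bot, (RingHom.injective_iff_ker_eq_bot _).mp hinjB]
  haveI : m.LiesOver (m.comap (algebraMap A B)) := ⟨rfl⟩
  haveI : m.LiesOver (IsLocalRing.maximalIdeal A) := ⟨hp⟩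
  intro D I P e
  have hecard : Nat.card I = e := by
    rw [H4TameInertia.card_inertia (R := A) (m.comap (algebraMap A B)) m]
    exact (Ideal.ramificationIdx'_eq_ramificationIdx _ m hp0).symm
  have hPI : P ≤ I := fun σ hσ => H4TameInertia.inertia_pow_le_inertia two_ne_zero hσ.2
  have hID : I ≤ D := Ideal.inertia_le_stabilizer m
  have hN : (P.subgroupOf D).Normal := by
    refine (Subgroup.normal_subgroupOf_iff inf_le_left).mpr fun h k hh hk => ⟨?_, fun x => ?_⟩
    · exact D.mul_mem (D.mul_mem hk hh.1) (D.inv_mem hk)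
    · have := H4TameInertia.smul_mem_pow (i := 2) hk (hh.2 (k⁻¹ • x))
      rw [smul_sub, smul_inv_smul] at this
      change (k * h * k⁻¹) • x - x ∈ m ^ 2
      rwa [mul_smul, mul_smul]
  have hkinj : Function.Injective (algebraMap (A ⧸ m.comap (algebraMap A B)) (B ⧸ m)) :=
    Ideal.algebraMap_quotient_injective
  have hnm : ∀ n : ℕ, ((n : B ⧸ m) ≠ 0) → (n : B) ∉ m := fun n hn h =>
    hn (by rw [← map_natCast (Ideal.Quotient.mk m) n]; exact Ideal.Quotient.eq_zero_iff_mem.mpr h)
  have hPp : ∀ p : ℕ, p.Prime → CharP (B ⧸ m) p → IsPGroup p P := by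
    intro p hp hc
    haveI : Fact p.Prime := ⟨hp⟩
    intro σ
    have h0 : orderOf σ ≠ 0 := (orderOf_pos σ).ne'
    obtain ⟨a, n, hn, hord⟩ := Nat.exists_eq_pow_mul_and_not_dvd h0 p hp.ne_one
    refine ⟨a, Subtype.ext ?_⟩
    refine H4TameInertia.eq_one_of_pow_eq_one (σ ^ p ^ a).2 (n := n) ?_ (hnm n fun h => hn ?_)
    · rw [← Subgroup.coe_pow, ← pow_mul, ← hord, pow_orderOf_eq_one, Subgroup.coe_one]
    · exact (CharP.cast_eq_zero_iff (B ⧸ m) p n).mp h
  have hP0 : CharZero (B ⧸ m) → P = ⊥ := by
    intro hc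
    rw [eq_bot_iff]
    intro σ hσ
    refine Subgroup.mem_bot.mpr ?_
    exact H4TameInertia.eq_one_of_pow_eq_one hσ (pow_orderOf_eq_one σ)
      (hnm _ (Nat.cast_ne_zero.mpr (orderOf_pos σ).ne'))
  have tp : ∀ p : ℕ, CharP (A ⧸ m.comap (algebraMap A B)) p → CharP (B ⧸ m) p :=
    fun p _ => charP_of_injective_algebraMap hkinj p
  have tz : CharZero (A ⧸ m.comap (algebraMap A B)) → CharZero (B ⧸ m) :=
    fun _ => charZero_of_injective_algebraMap hkinj
  refine ⟨hPI, hID, hN, fun p hp' hc => hPp p hp' (tp p hc), fun hc => hP0 (tz hc), ?_⟩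
  intro _
  obtain ⟨θ, hθ⟩ := H4TameInertia.exists_char (G := L ≃ₐ[K] L) hm0
    (H4TameInertia.hsep_of_isSeparable (A := A) m)
  letI := Ideal.Quotient.field m
  obtain ⟨h1, h2, h3, h4⟩ := H4TameInertia.mulEquiv_roots θ (P.subgroupOf I)
    (fun σ => (hθ σ).trans Subgroup.mem_subgroupOf.symm) e hecard
  have hsub : ∀ p, IsPGroup p P → IsPGroup p (P.subgroupOf I) := fun p h =>
    h.of_equiv (Subgroup.subgroupOfEquivOfLe hPI).symm
  refine ⟨h1, fun p hp' hc => h2 p hp' (tp p hc) (hsub p (hPp p hp' (tp p hc))),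
    fun hc => h3 ?_, h4 ?_⟩
  · rw [hP0 (tz hc), Subgroup.bot_subgroupOf]
  · obtain ⟨p, hc⟩ := CharP.exists (B ⧸ m)
    rcases CharP.char_is_prime_or_zero (B ⧸ m) p with hp' | rfl
    · exact Or.inl ⟨p, hp', hc, hsub p (hPp p hp' hc)⟩
    · exact Or.inr (by rw [hP0 (CharP.charP_to_charZero _), Subgroup.bot_subgroupOf])

end Groth.Agent.S1999
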