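import Groth.Statements.S19996
import Mathlib

set_option autoImplicit false
universe u
open WildQuot

namespace Groth.Agent.S19996

/-- Let `k` be a field of characteristic `p > 0`, `A = k[[u]]`, and `σ` a `k`-algebra automorphism of
`A` of order exactly `p` with ramification break `m`, i.e. `σ u - u` has order `m + 1`. Then `p`
divides `m + 1` if and only if there are a uniformizer `s` of `A` (a power series of order `1`) and
a `σ`-invariant power series `a` with `σ s = s + a`. (The published statement has a third equivalent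
condition, that `Spec A` is a torsor under the effective model of the action; this row omits it.) -/
theorem result
    (p : ℕ) [Fact p.Prime] (k : Type u) [Field k] [CharP k p]
    (σ : PowerSeries k ≃ₐ[k] PowerSeries k) (hσp : σ ^ p = 1) (hσ1 : σ ≠ 1)
    (m : ℕ) (hm : (σ PowerSeries.X - PowerSeries.X).order = ((m + 1 : ℕ) : ℕ∞)) :
    p ∣ m + 1 ↔
      ∃ s a : PowerSeries k, s.order = 1 ∧ σ a = a ∧ σ s = s + a := by
  classical
  have hp : p.Prime := Fact.out
  -- `σ` moves `X` inside the maximal ideal
  have hXX : (PowerSeries.X : PowerSeries k) ∣ σ PowerSeries.X := by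
    rw [PowerSeries.X_dvd_iff]
    by_contra hne
    have hu : IsUnit (σ PowerSeries.X) :=
      PowerSeries.isUnit_iff_constantCoeff.mpr (isUnit_iff_ne_zero.mpr hne)
    have := hu.map σ.symm
    rw [AlgEquiv.symm_apply_apply] at this
    exact PowerSeries.X_prime.not_unit this
  obtain ⟨δ, hδ⟩ : (PowerSeries.X : PowerSeries k) ^ (m + 1) ∣ σ PowerSeries.X - PowerSeries.X := by
    rw [PowerSeries.X_pow_dvd_iff]
    intro i hi
    apply PowerSeries.coeff_of_lt_order
    rw [hm]; exact_mod_cast hi
  set c := PowerSeries.constantCoeff δ with hcdef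
  have hc : c ≠ 0 := by
    intro h0
    obtain ⟨δ', rfl⟩ := PowerSeries.X_dvd_iff.mpr h0
    have h2 : PowerSeries.coeff (m + 1) (σ PowerSeries.X - PowerSeries.X) = 0 := by
      rw [hδ, ← mul_assoc, ← pow_succ]
      exact PowerSeries.X_pow_dvd_iff.mp (dvd_mul_right _ δ') (m + 1) (Nat.lt_succ_self _)
    have := (PowerSeries.order_eq_nat.mp hm).1
    exact this h2
  have hsplit : ∀ g : PowerSeries k, ∃ h, g = PowerSeries.C (PowerSeries.constantCoeff g) + PowerSeries.X * h :=
    fun g => by
      obtain ⟨h, hh⟩ := PowerSeries.X_dvd_iff.mpr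
        (show PowerSeries.constantCoeff (g - PowerSeries.C (PowerSeries.constantCoeff g)) = 0 by simp)
      exact ⟨h, by rw [← hh]; ring⟩
  have hσC : ∀ r : k, σ (PowerSeries.C r) = PowerSeries.C r := fun r => σ.commutes r
  have hm1 : 1 ≤ m := by
    by_contra hm0
    push Not at hm0
    interval_cases m
    set l := PowerSeries.coeff 1 (σ PowerSeries.X) with hl
    have hl1 : ∀ f, PowerSeries.coeff 1 (σ f) = l * PowerSeries.coeff 1 f := by
      intro f
      obtain ⟨h, hh⟩ := hsplit f
      obtain ⟨h', hh'⟩ := hsplit h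
      obtain ⟨Y, hY⟩ := hXX
      have hl' : l = PowerSeries.constantCoeff Y := by
        rw [hl, hY, PowerSeries.coeff_succ_X_mul, PowerSeries.coeff_zero_eq_constantCoeff]
      have h1 : σ f = PowerSeries.C (PowerSeries.constantCoeff f) + PowerSeries.X * (Y * σ h) := by
        conv_lhs => rw [hh]
        rw [map_add σ, map_mul σ, hσC, hY, mul_assoc]
      have h2 : PowerSeries.constantCoeff (σ h) = PowerSeries.constantCoeff h := by
        conv_lhs => rw [hh']
        rw [map_add σ, map_mul σ, hσC, hY]
        simp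
      rw [h1]
      conv_rhs => rw [hh]
      simp [PowerSeries.coeff_succ_X_mul, h2, hl', PowerSeries.coeff_C]
    have hiter : ∀ n : ℕ, PowerSeries.coeff 1 ((σ ^ n) PowerSeries.X) = l ^ n := by
      intro n
      induction n with
      | zero => simp
      | succ n ih => rw [pow_succ', AlgEquiv.mul_apply, hl1, ih, ← pow_succ']
    have h1 : l ^ p = 1 := by
      rw [← hiter p, hσp]; simp
    have hl2 : l = 1 := by
      have : (l - 1) ^ p = 0 := by rw [sub_pow_char, h1, one_pow, sub_self]
      exact sub_eq_zero.mp (pow_eq_zero_iff hp.ne_zero |>.mp this)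
    have := (PowerSeries.order_eq_nat.mp hm).1
    simp only [zero_add, map_sub, PowerSeries.coeff_one_X] at this
    rw [← hl, hl2, sub_self] at this
    exact this rfl
  -- divisibility of `σ g - g`
  have hD : ∀ g : PowerSeries k, PowerSeries.X ^ (m + 1) ∣ σ g - g := by
    suffices ∀ n, n ≤ m + 1 → ∀ g : PowerSeries k, PowerSeries.X ^ n ∣ σ g - g from this _ le_rfl
    intro n
    induction n with
    | zero => intro _ g; simp
    | succ n ih =>
      intro hn g
      obtain ⟨h, hh⟩ := hsplit g
      have : σ g - g = (σ PowerSeries.X - PowerSeries.X) * σ h + PowerSeries.X * (σ h - h) := by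
        conv_lhs => rw [hh, map_add, map_mul, hσC]
        ring
      rw [this]
      refine dvd_add (dvd_mul_of_dvd_left ?_ _) ?_
      · rw [hδ]; exact dvd_mul_of_dvd_left (pow_dvd_pow _ hn) _
      · rw [pow_succ']; exact mul_dvd_mul_left _ (ih (by omega) h)
  -- the leading term
  have key : ∀ (j : ℕ) (g : PowerSeries k), ∃ q : PowerSeries k,
      σ (PowerSeries.X ^ j * g) - PowerSeries.X ^ j * g = PowerSeries.X ^ (j + m) *
        (PowerSeries.C ((j : k) * c * PowerSeries.constantCoeff g) + PowerSeries.X * q) := by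
    intro j g
    have hσX : σ PowerSeries.X = PowerSeries.X * (1 + PowerSeries.X ^ m * δ) := by
      have : σ PowerSeries.X = PowerSeries.X + PowerSeries.X ^ (m + 1) * δ := by rw [← hδ]; ring
      rw [this]; ring
    obtain ⟨e, he⟩ := hD g
    obtain ⟨q1, hq1⟩ := hsplit ((j : PowerSeries k) * δ * σ g)
    have hbin : ∃ r, (1 + PowerSeries.X ^ m * δ) ^ j
        = 1 + (j : PowerSeries k) * (PowerSeries.X ^ m * δ) + (PowerSeries.X ^ m * δ) ^ 2 * r := by
      clear hq1
      induction j with
      | zero => exact ⟨0, by simp⟩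
      | succ j ih =>
        obtain ⟨r, hr⟩ := ih
        exact ⟨(j : PowerSeries k) + r * (1 + PowerSeries.X ^ m * δ), by rw [pow_succ, hr]; push_cast; ring⟩
    obtain ⟨r, hr⟩ := hbin
    obtain ⟨m', rfl⟩ : ∃ m', m = m' + 1 := ⟨m - 1, by omega⟩
    refine ⟨q1 + PowerSeries.X ^ m' * δ ^ 2 * r * σ g + e, ?_⟩
    have hσg : PowerSeries.constantCoeff (σ g) = PowerSeries.constantCoeff g := by
      have := congr_arg PowerSeries.constantCoeff he
      simpa [sub_eq_zero] using this
    have hC : PowerSeries.constantCoeff ((j : PowerSeries k) * δ * σ g)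
        = (j : k) * c * PowerSeries.constantCoeff g := by
      rw [map_mul, map_mul, map_natCast, hσg]
    rw [hC] at hq1
    have hsg : σ g = g + PowerSeries.X ^ (m' + 1 + 1) * e := by rw [← he]; ring
    rw [map_mul, map_pow, hσX, mul_pow, hr, pow_add PowerSeries.X j (m' + 1)]
    linear_combination (PowerSeries.X ^ j * PowerSeries.X ^ (m' + 1)) * hq1
      + PowerSeries.X ^ j * hsg
  have hfac : ∀ a : PowerSeries k, a ≠ 0 → ∃ (j : ℕ) (g : PowerSeries k),
      a = PowerSeries.X ^ j * g ∧ PowerSeries.constantCoeff g ≠ 0 := by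
    intro a ha
    refine ⟨a.order.toNat, PowerSeries.divXPowOrder a, (PowerSeries.X_pow_order_mul_divXPowOrder).symm, ?_⟩
    rw [ne_eq, PowerSeries.constantCoeff_divXPowOrder_eq_zero_iff]; exact ha
  have huniq : ∀ (i j : ℕ) (f g : PowerSeries k), PowerSeries.constantCoeff f ≠ 0 →
      PowerSeries.constantCoeff g ≠ 0 → PowerSeries.X ^ i * f = PowerSeries.X ^ j * g → i = j := by
    suffices ∀ (i j : ℕ) (f g : PowerSeries k), PowerSeries.constantCoeff f ≠ 0 →
        PowerSeries.X ^ i * f = PowerSeries.X ^ j * g → j ≤ i from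
      fun i j f g hf hg h => le_antisymm (this j i g f hg h.symm) (this i j f g hf h)
    intro i j f g hf h
    by_contra hlt
    push Not at hlt
    have := congr_arg (PowerSeries.coeff i) h
    rw [PowerSeries.coeff_X_pow_mul', if_pos le_rfl, Nat.sub_self, PowerSeries.coeff_zero_eq_constantCoeff,
      PowerSeries.coeff_X_pow_mul', if_neg (by omega)] at this
    exact hf this
  have hlead : ∀ (j : ℕ) (g : PowerSeries k), (j : k) ≠ 0 → PowerSeries.constantCoeff g ≠ 0 →
      ∃ g', PowerSeries.constantCoeff g' ≠ 0 ∧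
        σ (PowerSeries.X ^ j * g) - PowerSeries.X ^ j * g = PowerSeries.X ^ (j + m) * g' := by
    intro j g hj hg
    obtain ⟨q, hq⟩ := key j g
    exact ⟨_, by simp [hj, hg, hc], hq⟩
  constructor
  · intro hpm
    -- the invariant element
    obtain ⟨q, hq⟩ := hpm
    have hcoeff1 : ∀ i, ∃ g, PowerSeries.constantCoeff g = 1 ∧ (σ ^ i) PowerSeries.X = PowerSeries.X * g := by
      intro i
      induction i with
      | zero => exact ⟨1, by simp, by simp⟩
      | succ i ih =>
        obtain ⟨g, hg, hgi⟩ := ih
        refine ⟨(1 + PowerSeries.X ^ m * δ) * σ g, ?_, ?_⟩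
        · obtain ⟨e, he⟩ := hD g
          have := congr_arg PowerSeries.constantCoeff he
          have hm0 : m ≠ 0 := by omega
          simp [hg, hm0, sub_eq_zero] at this ⊢
          exact this
        · rw [pow_succ', AlgEquiv.mul_apply, hgi, map_mul,
            show σ PowerSeries.X = PowerSeries.X + PowerSeries.X ^ (m + 1) * δ by rw [← hδ]; ring]
          ring
    choose gi hgi1 hgi2 using hcoeff1
    let N := ∏ i ∈ Finset.range p, (σ ^ i) PowerSeries.X
    have hN : N = PowerSeries.X ^ p * ∏ i ∈ Finset.range p, gi i := by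
      simp only [N, hgi2, Finset.prod_mul_distrib, Finset.prod_const, Finset.card_range]
    have hσN : σ N = N := by
      simp only [N, map_prod]
      have h1 := Finset.prod_range_succ (fun i => (σ ^ i) PowerSeries.X) p
      rw [Finset.prod_range_succ'] at h1
      simp only [hσp, pow_zero, AlgEquiv.one_apply] at h1
      refine Eq.trans ?_ (mul_right_cancel₀ PowerSeries.X_ne_zero h1)
      exact Finset.prod_congr rfl (fun i _ => by rw [pow_succ', AlgEquiv.mul_apply])
    let a := N ^ q
    have hσa : σ a = a := by simp [a, hσN]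
    set ga := (∏ i ∈ Finset.range p, gi i) ^ q with hga
    have hga1 : PowerSeries.constantCoeff ga = 1 := by simp [ga, hgi1]
    have ha : a = PowerSeries.X ^ (m + 1) * ga := by
      simp only [a, ga, hN, mul_pow, ← pow_mul, ← hq]
    have hpm' : ¬ p ∣ m := fun h => hp.not_dvd_one ((Nat.dvd_add_right h).mp ⟨q, hq⟩)
    let Δ : Module.End k (PowerSeries k) := σ.toLinearMap - 1
    have hΔ : ∀ f, Δ f = σ f - f := fun f => rfl
    have hΔp : Δ ^ p = 0 := by
      haveI : CharP (Module.End k (PowerSeries k)) p :=
        charP_of_injective_algebraMap (algebraMap k (Module.End k (PowerSeries k))).injective p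
      have hpow : ∀ n : ℕ, (σ.toLinearMap : Module.End k (PowerSeries k)) ^ n = (σ ^ n).toLinearMap := by
        intro n
        induction n with
        | zero => rfl
        | succ n ih => rw [pow_succ', ih, pow_succ']; rfl
      rw [sub_pow_char_of_commute p (Commute.one_right _), hpow, hσp, one_pow]
      ext f; simp
    have hclimb : ∀ (i n : ℕ) (g : PowerSeries k), PowerSeries.constantCoeff g ≠ 0 →
        (∀ l < i, ¬ p ∣ n + l * m) →
        ∃ g', PowerSeries.constantCoeff g' ≠ 0 ∧
          (Δ ^ i) (PowerSeries.X ^ n * g) = PowerSeries.X ^ (n + i * m) * g' := by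
      intro i
      induction i with
      | zero => intro n g hg _; exact ⟨g, hg, by simp⟩
      | succ i ih =>
        intro n g hg hl
        obtain ⟨g', hg', he⟩ := ih n g hg (fun l hl' => hl l (by omega))
        obtain ⟨g'', hg'', he'⟩ := hlead (n + i * m) g'
          (fun h => hl i (by omega) ((CharP.cast_eq_zero_iff k p _).mp h)) hg'
        refine ⟨g'', hg'', ?_⟩
        rw [pow_succ', Module.End.mul_apply, he, hΔ, he', show n + (i + 1) * m = n + i * m + m by ring]
    have hres : ∀ (n : ℕ) (f : PowerSeries k), m + 1 ≤ n → (Δ ^ (p - 1)) f = 0 →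
        PowerSeries.X ^ n ∣ f → ∃ b : k, PowerSeries.X ^ (n + 1) ∣ f - Δ (PowerSeries.X ^ (n - m) * PowerSeries.C b) := by
      intro n f hn hf hdvd
      obtain ⟨g, rfl⟩ := hdvd
      obtain ⟨g1, hg1⟩ := hsplit g
      by_cases hg0 : PowerSeries.constantCoeff g = 0
      · refine ⟨0, ?_⟩
        rw [map_zero, mul_zero, map_zero, sub_zero, pow_succ]
        exact mul_dvd_mul_left _ (PowerSeries.X_dvd_iff.mpr hg0)
      by_cases hnm : p ∣ n - m
      · exfalso
        obtain ⟨g', hg', he⟩ := hclimb (p - 1) n g hg0 (by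
          intro l hl hdiv
          have h1 : p ∣ (l + 1) * m := by
            have : n + l * m = (n - m) + (l + 1) * m := by rw [add_mul, one_mul]; omega
            rw [this] at hdiv
            exact (Nat.dvd_add_right hnm).mp hdiv
          rcases (Nat.Prime.dvd_mul hp).mp h1 with h | h
          · exact absurd (Nat.le_of_dvd (by omega) h) (by omega)
          · exact hpm' h)
        rw [he] at hf
        rcases mul_eq_zero.mp hf with h | h
        · exact pow_ne_zero _ PowerSeries.X_ne_zero h
        · exact hg' (by rw [h, map_zero])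
      · have hne : ((n - m : ℕ) : k) ≠ 0 := fun h => hnm ((CharP.cast_eq_zero_iff k p _).mp h)
        refine ⟨PowerSeries.constantCoeff g / (((n - m : ℕ) : k) * c), ?_⟩
        obtain ⟨q', hq'⟩ := key (n - m)
          (PowerSeries.C (PowerSeries.constantCoeff g / (((n - m : ℕ) : k) * c)))
        rw [hΔ, hq', PowerSeries.constantCoeff_C, mul_div_cancel₀ _ (mul_ne_zero hne hc),
          Nat.sub_add_cancel (by omega : m ≤ n), ← mul_sub, pow_succ]
        refine mul_dvd_mul_left _ (PowerSeries.X_dvd_iff.mpr ?_)
        simp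
    have hΔa : Δ a = 0 := by rw [hΔ, hσa, sub_self]
    have hkill : ∀ s, (Δ ^ (p - 1)) (a - Δ s) = 0 := by
      intro s
      have h2 : p - 1 = (p - 2) + 1 := by have := hp.two_le; omega
      rw [map_sub, ← Module.End.mul_apply, ← pow_succ, show p - 1 + 1 = p by have := hp.two_le; omega,
        hΔp, LinearMap.zero_apply, sub_zero, h2, pow_succ, Module.End.mul_apply, hΔa, map_zero]
    choose! B hB using hres
    let S : ℕ → PowerSeries k := fun n => Nat.rec (motive := fun _ => PowerSeries k) 0
      (fun n s => s + PowerSeries.X ^ (n + 1) * PowerSeries.C (B (m + 1 + n) (a - Δ s))) n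
    have hS0 : S 0 = 0 := rfl
    have hSs : ∀ n, S (n + 1) = S n + PowerSeries.X ^ (n + 1) * PowerSeries.C (B (m + 1 + n) (a - Δ (S n))) :=
      fun n => rfl
    have hinv : ∀ n, PowerSeries.X ^ (m + 1 + n) ∣ a - Δ (S n) := by
      intro n
      induction n with
      | zero => rw [hS0, map_zero, sub_zero, ha]; exact dvd_mul_right _ _
      | succ n ih =>
        have := hB (m + 1 + n) (a - Δ (S n)) (by omega) (hkill _) ih
        rw [hSs, map_add, sub_add_eq_sub_sub, show m + 1 + (n + 1) = m + 1 + n + 1 by ring]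
        rwa [show m + 1 + n - m = n + 1 by omega] at this
    have hstab : ∀ n i, i ≤ n → PowerSeries.coeff i (S n) = PowerSeries.coeff i (S i) := by
      intro n
      induction n with
      | zero => intro i hi; rw [Nat.le_zero.mp hi]
      | succ n ih =>
        intro i hi
        rcases Nat.lt_or_ge i (n + 1) with h | h
        · rw [hSs, map_add, ih i (by omega), PowerSeries.coeff_X_pow_mul', if_neg (by omega), add_zero]
        · rw [show i = n + 1 by omega]
    let s := PowerSeries.mk (fun i => PowerSeries.coeff i (S i))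
    have hs : ∀ n, PowerSeries.X ^ (n + 1) ∣ s - S n := by
      intro n
      rw [PowerSeries.X_pow_dvd_iff]
      intro i hi
      rw [map_sub, PowerSeries.coeff_mk, hstab n i (by omega), sub_self]
    have heq : a = Δ s := by
      rw [← sub_eq_zero]
      refine PowerSeries.ext (fun n => ?_)
      rw [map_zero]
      have h1 : PowerSeries.X ^ (n + 1) ∣ a - Δ s := by
        rw [show a - Δ s = (a - Δ (S n)) - Δ (s - S n) by rw [map_sub]; ring]
        refine dvd_sub ((pow_dvd_pow _ (by omega)).trans (hinv n)) ?_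
        obtain ⟨h, hh⟩ := hs n
        rw [hΔ, hh, map_mul, map_pow]
        exact dvd_sub (dvd_mul_of_dvd_left (pow_dvd_pow_of_dvd hXX _) _) (dvd_mul_right _ _)
      exact PowerSeries.X_pow_dvd_iff.mp h1 n (Nat.lt_succ_self n)
    refine ⟨s, a, ?_, hσa, by rw [heq, hΔ]; ring⟩
    rw [show (1 : ℕ∞) = ((1 : ℕ) : ℕ∞) from rfl, PowerSeries.order_eq_nat]
    refine ⟨fun h1 => ?_, fun i hi => ?_⟩
    · have h0 : PowerSeries.coeff 0 s = 0 := by simp [s, hS0]
      obtain ⟨g, hg⟩ : PowerSeries.X ^ 2 ∣ s := by
        rw [PowerSeries.X_pow_dvd_iff]; intro i hi; interval_cases i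
        · exact h0
        · exact h1
      obtain ⟨q', hq'⟩ := key 2 g
      rw [← hg, ← hΔ, ← heq, ha, show 2 + m = m + 1 + 1 by ring, pow_add PowerSeries.X (m + 1) 1, mul_assoc] at hq'
      have := congr_arg PowerSeries.constantCoeff
        (mul_left_cancel₀ (pow_ne_zero _ PowerSeries.X_ne_zero) hq')
      simp [hga1] at this
    · interval_cases i; simp [s, hS0]
  · rintro ⟨s, a, hs, hσa, hsa⟩
    obtain ⟨g, hg⟩ : PowerSeries.X ∣ s := by
      rw [PowerSeries.X_dvd_iff, ← PowerSeries.coeff_zero_eq_constantCoeff]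
      exact PowerSeries.coeff_of_lt_order 0 (by rw [hs]; exact_mod_cast Nat.zero_lt_one)
    have hg0 : PowerSeries.constantCoeff g ≠ 0 := by
      intro h0
      apply (PowerSeries.order_eq_nat.mp (show s.order = ((1 : ℕ) : ℕ∞) from hs)).1
      rw [hg, PowerSeries.coeff_succ_X_mul, PowerSeries.coeff_zero_eq_constantCoeff, h0]
    obtain ⟨g', hg', he⟩ := hlead 1 g (by simp) hg0
    rw [pow_one, ← hg, hsa, add_sub_cancel_left] at he
    have ha0 : a ≠ 0 := by
      intro h
      rw [h] at he
      rcases mul_eq_zero.mp he.symm with h' | h'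
      · exact pow_ne_zero _ PowerSeries.X_ne_zero h'
      · exact hg' (by rw [h', map_zero])
    obtain ⟨j, ga, hj, hga⟩ := hfac a ha0
    have hji : j = 1 + m := huniq _ _ _ _ hga hg' (hj.symm.trans he)
    by_contra hndvd
    obtain ⟨g'', hg'', he'⟩ := hlead j ga
      (fun h => hndvd (by rw [show m + 1 = j by omega]; exact (CharP.cast_eq_zero_iff k p _).mp h)) hga
    rw [← hj, hσa, sub_self] at he'
    rcases mul_eq_zero.mp he'.symm with h' | h'
    · exact pow_ne_zero _ PowerSeries.X_ne_zero h'
    · exact hg'' (by rw [h', map_zero])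

end Groth.Agent.S19996
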