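import Mathlib
import Groth.Statements.S2001
-- import your own Groth.Agent.* helpers here

set_option autoImplicit false
universe u
open TensorProduct
open EtAlg

namespace Groth.Agent.S2001

/-- Let (R -> R', f) be a glueing pair and M, N R-modules glueable for it. Given an R'-linear map φ' :
R' ⊗_R M -> R' ⊗_R N and an R-linear map φ₁ : M_f -> N_f which induce the same map into (R' ⊗_R N)_f
on elements of M, there is a unique R-linear map ψ : M -> N whose base change to R' is φ' and whose
localization is φ₁. -/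
theorem result (R R' : Type u) [CommRing R] [CommRing R'] [Algebra R R'] (f : R)
    (hRR : EtGlue.IsGlueingPair R R' f) (M N : Type u) [AddCommGroup M] [Module R M] [AddCommGroup N] [Module R N]
    (hM : EtGlue.IsGlueable R R' f M) (hN : EtGlue.IsGlueable R R' f N)
    (φ' : R' ⊗[R] M →ₗ[R'] R' ⊗[R] N)
    (φ₁ : LocalizedModule (Submonoid.powers f) M →ₗ[R] LocalizedModule (Submonoid.powers f) N)
    (hc : ∀ m : M, EtGlue.locOfTensor R R' f N (φ' ((1 : R') ⊗ₜ[R] m)) =
      EtGlue.tensorOfLoc R R' f N (φ₁ (LocalizedModule.mkLinearMap (Submonoid.powers f) M m))) :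
    ∃! ψ : M →ₗ[R] N, ψ.baseChange R' = φ' ∧
      IsLocalizedModule.map (Submonoid.powers f) (LocalizedModule.mkLinearMap (Submonoid.powers f) M)
        (LocalizedModule.mkLinearMap (Submonoid.powers f) N) ψ = φ₁ := by
  let S := Submonoid.powers f
  let mM := LocalizedModule.mkLinearMap (Submonoid.powers f) M
  let mN := LocalizedModule.mkLinearMap (Submonoid.powers f) N
  choose ψ hψ₁ hψ₂ using fun m : M => hN.2 _ _ (hc m)
  let ψL : M →ₗ[R] N :=
    { toFun := ψ
      map_add' := fun a b => hN.1 (Prod.ext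
        (by
          show (1 : R') ⊗ₜ[R] ψ (a + b) = (1 : R') ⊗ₜ[R] (ψ a + ψ b)
          rw [hψ₁, tmul_add, map_add, tmul_add, hψ₁, hψ₁])
        (by
          show mN (ψ (a + b)) = mN (ψ a + ψ b)
          rw [hψ₂, map_add, map_add, map_add, hψ₂, hψ₂]))
      map_smul' := fun r a => hN.1 (Prod.ext
        (by
          show (1 : R') ⊗ₜ[R] ψ (r • a) = (1 : R') ⊗ₜ[R] (r • ψ a)
          rw [hψ₁, tmul_smul, tmul_smul, hψ₁, ← algebraMap_smul R' r ((1 : R') ⊗ₜ[R] a), map_smul, algebraMap_smul])
        (by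
          show mN (ψ (r • a)) = mN (r • ψ a)
          rw [hψ₂, map_smul, map_smul, map_smul, hψ₂])) }
  refine ⟨ψL, ⟨?_, ?_⟩, ?_⟩
  · refine LinearMap.ext fun z => ?_
    induction z using TensorProduct.induction_on with
    | zero => simp
    | add u v hu hv => rw [map_add, map_add, hu, hv]
    | tmul r m =>
      rw [LinearMap.baseChange_tmul, show r ⊗ₜ[R] ψL m = r • ((1 : R') ⊗ₜ[R] ψ m) by rw [smul_tmul', smul_eq_mul, mul_one]; rfl,
        hψ₁, ← map_smul, smul_tmul', smul_eq_mul, mul_one]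
  · refine IsLocalizedModule.linearMap_ext (Submonoid.powers f) mM mN ?_
    refine LinearMap.ext fun m => ?_
    show IsLocalizedModule.map (Submonoid.powers f) mM mN ψL (mM m) = φ₁ (mM m)
    rw [IsLocalizedModule.map_apply]
    exact hψ₂ m
  · rintro χ ⟨h1, h2⟩
    refine LinearMap.ext fun m => hN.1 (Prod.ext ?_ ?_)
    · show (1 : R') ⊗ₜ[R] χ m = (1 : R') ⊗ₜ[R] ψ m
      rw [hψ₁, ← h1, LinearMap.baseChange_tmul]
    · show mN (χ m) = mN (ψ m)
      rw [hψ₂, ← h2]
      exact (IsLocalizedModule.map_apply _ _ _ _ m).symm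

end Groth.Agent.S2001
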