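import Mathlib
import Groth.Statements.S2004
import Groth.Agent.Lib.H4Glue
-- import your own Groth.Agent.* helpers here

set_option autoImplicit false
universe u
open TensorProduct
open EtAlg

namespace Groth.Agent.S2004

/-- Let R -> R' induce bijections R/f^n R -> R'/f^n R' for all n > 0. Then (R -> R', f) is a glueing
pair if and only if R -> R' maps the f-power torsion of R bijectively onto the f-power torsion of R'
(stated as: injective on f-power torsion elements, and every f-power torsion element of R' is the
image of one of R). -/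
theorem result (R R' : Type u) [CommRing R] [CommRing R'] [Algebra R R'] (f : R)
    (hq : EtGlue.QuotPowBijective R R' f) :
    EtGlue.IsGlueingPair R R' f ↔
      ((∀ x : R, (∃ n : ℕ, f ^ n * x = 0) → algebraMap R R' x = 0 → x = 0) ∧
       (∀ x' : R', (∃ n : ℕ, algebraMap R R' f ^ n * x' = 0) →
          ∃ x : R, (∃ n : ℕ, f ^ n * x = 0) ∧ algebraMap R R' x = x')) := by
  constructor
  · intro h
    refine ⟨fun x ⟨n, hn⟩ hx => h.2.1 ?_, fun x' ⟨n, hn⟩ => ?_⟩
    · refine Prod.ext (by simpa using hx) ?_
      show algebraMap R (Localization.Away f) x = algebraMap R (Localization.Away f) 0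
      refine ((IsLocalization.Away.algebraMap_isUnit (S := Localization.Away f) f).pow n).mul_left_cancel ?_
      rw [← map_pow, ← map_mul, ← map_mul, hn, mul_zero]
    · obtain ⟨r, hr1, hr2⟩ := H4Glue.exists_of_smul_eq_zero h x' n (by rw [Algebra.smul_def, map_pow, hn])
      exact ⟨r, ⟨n, hr2⟩, hr1⟩
  · rintro ⟨h1, h2⟩
    have hdiv : ∀ (a : R) (s : R') (N : ℕ), algebraMap R R' a = algebraMap R R' f ^ N * s → ∃ b, a = f ^ N * b := by
      intro a s N ha
      rcases Nat.eq_zero_or_pos N with rfl | hN
      · exact ⟨a, by simp⟩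
      have : Ideal.Quotient.mk (Ideal.span {f ^ N}) a = 0 := by
        apply (hq N hN).1
        rw [map_zero, Ideal.quotientMap_mk, Ideal.Quotient.eq_zero_iff_mem, ha, ← map_pow]
        exact Ideal.mul_mem_right _ _ (Ideal.mem_map_of_mem _ (Ideal.mem_span_singleton_self _))
      obtain ⟨b, hb⟩ := Ideal.mem_span_singleton'.mp (Ideal.Quotient.eq_zero_iff_mem.mp this)
      exact ⟨b, by rw [← hb, mul_comm]⟩
    have e0 : ∀ c : R, Localization.awayMap (algebraMap R R') f (algebraMap R (Localization.Away f) c) =
        algebraMap R' (Localization.Away (algebraMap R R' f)) (algebraMap R R' c) := fun c => IsLocalization.map_eq _ c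
    refine ⟨hq, ?_, ?_, ?_⟩
    · intro a b hab
      rw [← sub_eq_zero]
      obtain ⟨ha, hb⟩ := Prod.ext_iff.1 hab
      obtain ⟨n, hn⟩ := IsLocalization.Away.exists_of_eq (S := Localization.Away f) f hb
      exact h1 _ ⟨n, by rw [mul_sub, hn, sub_self]⟩ (by rw [map_sub]; exact sub_eq_zero.2 ha)
    · intro x y hxy
      obtain ⟨n, a, ha⟩ := IsLocalization.Away.surj f y
      have h3 := congrArg (Localization.awayMap (algebraMap R R') f) ha
      simp only [map_mul, map_pow] at h3
      rw [e0, e0, ← hxy, ← map_pow, ← map_mul] at h3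
      obtain ⟨m, hm⟩ := IsLocalization.Away.exists_of_eq (algebraMap R R' f) h3
      obtain ⟨b, hb⟩ := hdiv (f ^ m * a) x (m + n) (by rw [map_mul, map_pow, ← hm]; ring)
      obtain ⟨t, ⟨k, hk⟩, ht⟩ := h2 (x - algebraMap R R' b) ⟨m + n, by
        rw [mul_sub, ← map_pow, ← map_mul, ← hb, map_mul, map_pow, map_pow, ← hm]; ring⟩
      refine ⟨b + t, by rw [map_add, ht]; ring, ?_⟩
      refine ((IsLocalization.Away.algebraMap_isUnit (S := Localization.Away f) f).pow n).mul_left_injective ?_
      show algebraMap R (Localization.Away f) (b + t) * algebraMap R _ f ^ n = y * algebraMap R _ f ^ n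
      rw [ha, ← map_pow, ← map_mul]
      refine (IsLocalization.eq_iff_exists (Submonoid.powers f) _).2 ⟨⟨f ^ (m + k), m + k, rfl⟩, ?_⟩
      show f ^ (m + k) * ((b + t) * f ^ n) = f ^ (m + k) * a
      linear_combination f ^ (m + n) * hk - f ^ k * hb
    · intro z
      obtain ⟨n, x, hx⟩ := IsLocalization.Away.surj (algebraMap R R' f) z
      obtain ⟨a, s, rfl⟩ : ∃ (a : R) (s : R'), x = algebraMap R R' a + algebraMap R R' f ^ n * s := by
        rcases Nat.eq_zero_or_pos n with rfl | hn
        · exact ⟨0, x, by simp⟩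
        obtain ⟨q, hq'⟩ := (hq n hn).2 (Ideal.Quotient.mk _ x)
        obtain ⟨a, rfl⟩ := Ideal.Quotient.mk_surjective q
        rw [Ideal.quotientMap_mk, Ideal.Quotient.eq, Ideal.map_span, Set.image_singleton] at hq'
        obtain ⟨s, hs⟩ := Ideal.mem_span_singleton'.mp hq'
        rw [map_pow] at hs
        exact ⟨a, -s, by linear_combination hs⟩
      have hu := (IsLocalization.Away.algebraMap_isUnit (S := Localization.Away f) f).pow n
      refine ⟨s, -(algebraMap R (Localization.Away f) a * ↑hu.unit⁻¹), ?_⟩
      refine ((IsLocalization.Away.algebraMap_isUnit (S := Localization.Away (algebraMap R R' f)) (algebraMap R R' f)).pow n).mul_left_injective ?_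
      show _ * algebraMap R' _ (algebraMap R R' f) ^ n = z * _
      rw [hx, map_neg, sub_neg_eq_add, map_mul, add_mul]
      have e1 : Localization.awayMap (algebraMap R R') f (↑hu.unit⁻¹ : Localization.Away f) *
          algebraMap R' (Localization.Away (algebraMap R R' f)) (algebraMap R R' f) ^ n = 1 := by
        rw [← map_pow (algebraMap R' _), ← map_pow (algebraMap R R'), ← e0, ← map_mul, map_pow, IsUnit.val_inv_mul hu, map_one]
      rw [mul_assoc, e1, mul_one, e0, map_add, map_mul, map_pow]
      ring

end Groth.Agent.S2004
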