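import Groth.Statements.S2016
import Mathlib
import Groth.Agent.Lib.H6.LocDvdTotal

set_option autoImplicit false
set_option backward.isDefEq.respectTransparency.types false
set_option maxHeartbeats 1000000
set_option linter.all false
universe u
open EtAlg

namespace Groth.Agent.S2016
open Groth.Agent

/-- Let R be a ring such that for every maximal ideal m and all a, b in R_m, either a divides b or b
divides a in R_m. Then each finitely presented R-module is a direct summand of a direct sum of
finitely many cyclic modules R/fR. -/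
theorem result (R : Type u) [CommRing R]
    (h : ∀ (m : Ideal R) [m.IsMaximal], ∀ a b : Localization.AtPrime m, a ∣ b ∨ b ∣ a)
    (M : Type u) [AddCommGroup M] [Module R M] [Module.FinitePresentation R M] :
    ∃ (n : ℕ) (f : Fin n → R) (N : Type u) (_ : AddCommGroup N) (_ : Module R N),
      Nonempty ((M × N) ≃ₗ[R] ((i : Fin n) → R ⧸ Ideal.span {f i})) := by
    classical
    let I : Ideal R := Submodule.comap (LinearMap.toSpanSingleton R (M →ₗ[R] M) LinearMap.id) (H6LocDvd.Cyc R M)
    have htop : I = ⊤ := by
      by_contra hne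
      obtain ⟨m, hm, hle⟩ := Ideal.exists_le_maximal _ hne
      haveI := hm
      obtain ⟨s, hs, hs'⟩ := H6LocDvd.exists_scalar_mem R m (h m) M
      exact hs (hle hs')
    have hid : (LinearMap.id : M →ₗ[R] M) ∈ H6LocDvd.Cyc R M := by
      have : (1 : R) ∈ I := htop ▸ Submodule.mem_top
      simpa [I] using this
    obtain ⟨n, c, g, hg⟩ := (Submodule.mem_span_set').1 hid
    choose f φ ψ hgeq using fun i => (g i).2
    let i : M →ₗ[R] ((j : Fin n) → R ⧸ Ideal.span {f j}) := LinearMap.pi fun j => c j • ψ j
    let q : ((j : Fin n) → R ⧸ Ideal.span {f j}) →ₗ[R] M := ∑ j, (φ j).comp (LinearMap.proj j)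
    have hqi : ∀ v, q (i v) = v := fun v => by
      have h1 := LinearMap.congr_fun hg v
      simp only [LinearMap.sum_apply, LinearMap.smul_apply, hgeq, LinearMap.comp_apply, LinearMap.id_apply] at h1
      simp only [q, i, LinearMap.sum_apply, LinearMap.comp_apply, LinearMap.proj_apply, LinearMap.pi_apply,
        LinearMap.smul_apply, map_smul]
      exact h1
    refine ⟨n, f, LinearMap.ker q, inferInstance, inferInstance, ⟨LinearEquiv.ofBijective
      (i.coprod (LinearMap.ker q).subtype) ⟨?_, ?_⟩⟩⟩
    · rw [← LinearMap.ker_eq_bot, LinearMap.ker_eq_bot']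
      rintro ⟨v, w⟩ hvw
      have h1 := congrArg q hvw
      simp [hqi, LinearMap.mem_ker.1 w.2] at h1
      subst h1
      simpa using hvw
    · intro y
      exact ⟨(q y, ⟨y - i (q y), by simp [hqi]⟩), by simp⟩

end Groth.Agent.S2016
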