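import Groth.Statements.S2017
import Mathlib

set_option autoImplicit false
set_option backward.isDefEq.respectTransparency.types false
set_option maxHeartbeats 1000000
set_option linter.all false
universe u
open EtAlg

namespace Groth.Agent.S2017
open Groth.Agent

/-- Let R be a Noetherian ring, A, B, C R-algebras of finite type, f : A -> B a surjective R-algebra map
and g : C -> B an R-algebra map making B a finite C-module. Then the fibre product A ×_B C (the
equalizer of f ∘ pr₁ and g ∘ pr₂ in A × C) is an R-algebra of finite type. -/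
theorem result (R A B C : Type u) [CommRing R] [IsNoetherianRing R] [CommRing A] [CommRing B]
    [CommRing C] [Algebra R A] [Algebra R B] [Algebra R C] [Algebra.FiniteType R A] [Algebra.FiniteType R B]
    [Algebra.FiniteType R C] (f : A →ₐ[R] B) (hf : Function.Surjective f) (g : C →ₐ[R] B)
    (hg : (g.toRingHom).Finite) :
    Algebra.FiniteType R ↥(AlgHom.equalizer (f.comp (AlgHom.fst R A C)) (g.comp (AlgHom.snd R A C))) := by
  classical
  set E := AlgHom.equalizer (f.comp (AlgHom.fst R A C)) (g.comp (AlgHom.snd R A C)) with hE
  letI : Algebra C B := g.toRingHom.toAlgebra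
  haveI : Module.Finite C B := hg
  obtain ⟨n, b, hb⟩ := Module.Finite.exists_fin (R := C) (M := B)
  choose a ha using fun i => hf (b i)
  have hsC : ∀ c : C, ∃ x : E, (x : A × C).2 = c := fun c => by
    obtain ⟨x, hx⟩ := hf (g c)
    exact ⟨⟨(x, c), hx⟩, rfl⟩
  let S : Finset (A × C) := insert (1, 0) (insert (1, 1) (Finset.univ.image fun i => (a i, 0)))
  have hfin : (⊤ : Submodule E (A × C)).FG := by
    refine ⟨S, ?_⟩
    rw [Submodule.eq_top_iff']
    rintro ⟨x, c⟩
    have hA : ∀ x : A, ((x, 0) : A × C) ∈ Submodule.span E (S : Set (A × C)) := by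
      intro x
      have hbx : f x ∈ Submodule.span C (Set.range b) := by rw [hb]; trivial
      obtain ⟨co, hco⟩ := (Submodule.mem_span_range_iff_exists_fun C).1 hbx
      choose e he using fun i => hsC (co i)
      have hk : f (x - ∑ i, (e i : A × C).1 * a i) = 0 := by
        rw [map_sub, map_sum, sub_eq_zero, ← hco]
        refine Finset.sum_congr rfl fun i _ => ?_
        have h1 : f (e i : A × C).1 = g (e i : A × C).2 := (e i).2
        rw [map_mul, ha, h1, he, Algebra.smul_def]
        rfl
      let kx : E := ⟨(x - ∑ i, (e i : A × C).1 * a i, 0), by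
        show f _ = g _
        simp [hk]⟩
      have hx : ((x, 0) : A × C) = (∑ i, e i • ((a i, 0) : A × C)) + kx • ((1, 0) : A × C) := by
        ext
        · simp [Subalgebra.smul_def, kx, Prod.fst_sum]
        · simp [Subalgebra.smul_def, kx, Prod.snd_sum]
      rw [hx]
      refine add_mem (Submodule.sum_mem _ fun i _ => Submodule.smul_mem _ _ (Submodule.subset_span ?_)) (Submodule.smul_mem _ _ (Submodule.subset_span ?_)) <;> simp [S]
    obtain ⟨ec, hec⟩ := hsC c
    have hx : ((x, c) : A × C) = (x - (ec : A × C).1, 0) + ec • ((1, 1) : A × C) := by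
      ext <;> simp [Subalgebra.smul_def, hec]
    rw [hx]
    exact add_mem (hA _) (Submodule.smul_mem _ _ (Submodule.subset_span (by simp [S])))
  have hprod : Algebra.FiniteType R (A × C) := inferInstance
  exact ⟨fg_of_fg_of_fg R E (A × C) hprod.out hfin Subtype.val_injective⟩

end Groth.Agent.S2017
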