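import Groth.Statements.S2018
import Mathlib

set_option autoImplicit false
universe u
open EtAlg

namespace Groth.Agent.S2018

/-- Let g : A' -> A be a surjective ring map and f : B -> A an integral ring map. Then the projection
from the fibre product B ×_A A' (the equalizer of f ∘ pr₁ and g ∘ pr₂ in B × A') to A' is integral. -/
theorem result (A A' B : Type u) [CommRing A] [CommRing A'] [CommRing B] (g : A' →+* A)
    (hg : Function.Surjective g) (f : B →+* A) (hf : f.IsIntegral) :
    ((RingHom.snd B A').comp ((f.comp (RingHom.fst B A')).eqLocus (g.comp (RingHom.snd B A'))).subtype).IsIntegral := by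
  classical
  open Polynomial in
  intro a'
  rcases subsingleton_or_nontrivial B with hB | hB
  · have h10 : (1 : A) = 0 := by rw [← map_one f, Subsingleton.elim (1 : B) 0, map_zero]
    let e0 : ((f.comp (RingHom.fst B A')).eqLocus (g.comp (RingHom.snd B A'))) := ⟨(0, a'), eq_of_zero_eq_one h10.symm _ _⟩
    exact ⟨Polynomial.X - Polynomial.C e0, Polynomial.monic_X_sub_C _, by simp [e0]⟩
  obtain ⟨p, hp, hev⟩ := hf (g a')
  let E := (f.comp (RingHom.fst B A')).eqLocus (g.comp (RingHom.snd B A'))
  set π : E →+* A' := (RingHom.snd B A').comp E.subtype with hπ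
  let q := p * X
  have hq : q.Monic := hp.mul monic_X
  have hqev : q.eval₂ f (g a') = 0 := by simp [q, eval₂_mul, hev]
  choose lift hlift using fun b : B => hg (f b)
  let c : ℕ → E := fun i => ⟨(q.coeff i, lift (q.coeff i)), (hlift _).symm⟩
  let Q : E[X] := ∑ i ∈ Finset.range q.natDegree, Polynomial.C (c i) * X ^ i
  have hdeg : Q.degree < q.natDegree := by
    refine (Polynomial.degree_sum_le _ _).trans_lt ?_
    rw [Finset.sup_lt_iff (WithBot.bot_lt_coe _)]
    exact fun i hi => (Polynomial.degree_C_mul_X_pow_le i _).trans_lt (WithBot.coe_lt_coe.2 (Finset.mem_range.1 hi))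
  let k : A' := a' ^ q.natDegree + Q.eval₂ π a'
  have hk : g k = 0 := by
    rw [← hqev, Polynomial.eval₂_eq_sum_range, Finset.sum_range_succ, hq.coeff_natDegree, map_one, one_mul]
    simp only [k, Q, Polynomial.eval₂_finsetSum, Polynomial.eval₂_mul, Polynomial.eval₂_C, Polynomial.eval₂_X_pow, map_add, map_pow, map_sum, map_mul]
    rw [add_comm]
    refine congrArg (· + _) (Finset.sum_congr rfl fun i _ => ?_)
    rw [show g (π (c i)) = f (q.coeff i) from hlift _]
  have hd : 1 ≤ q.natDegree := by
    rw [Polynomial.natDegree_mul' (by simp [hp.leadingCoeff]), natDegree_X]; omega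
  refine ⟨X ^ q.natDegree + (Q - Polynomial.C (⟨(0, k), by show f 0 = g k; rw [map_zero, hk]⟩ : E)), ?_, ?_⟩
  · exact Polynomial.monic_X_pow_add ((Polynomial.degree_sub_le _ _).trans_lt (max_lt hdeg ((Polynomial.degree_C_le).trans_lt (WithBot.coe_lt_coe.2 hd))))
  · rw [Polynomial.eval₂_add, Polynomial.eval₂_X_pow, Polynomial.eval₂_sub, Polynomial.eval₂_C]
    show a' ^ q.natDegree + (Q.eval₂ π a' - k) = 0
    simp [k]

end Groth.Agent.S2018
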