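import Groth.Statements.S2032
import Mathlib

set_option autoImplicit false
universe u
open Smoothing

namespace Groth.Agent.S2032

/-- For a finitely presented `R`-algebra `A` and `a ∈ A`, if `a` is elementary standard then `A_a` is
standard smooth over `R`. (Part (f), the converse for large powers of `a`, is not stated: as
published it fails, for example for the nodal cubic `A = {g ∈ ℚ[u] : g(0) = g(1)}` and `a =
u(u-1)`.) -/
theorem result {R A : Type u} [CommRing R] [CommRing A]
    [Algebra R A] [Algebra.FinitePresentation R A] (a : A)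
    (ha : Smoothing.IsElementaryStandard R A a) : Algebra.IsStandardSmooth R (Localization.Away a) := by
  obtain ⟨P, ⟨b, hb⟩, hkill⟩ := ha
  set v : Fin P.c → MvPolynomial (Fin P.n) R := P.rel ∘ Fin.castLE P.hcm with hv
  set Δ : MvPolynomial (Fin P.n) R := Smoothing.jacobianMinor P.rel (Fin.castLE P.hcm) (Fin.castLE P.hcn) with hΔ
  obtain ⟨b', rfl⟩ := P.surj b
  set a' : MvPolynomial (Fin P.n) R := b' * Δ with ha'
  have haa : P.hom a' = a := by rw [ha', map_mul, hb]
  set J := Ideal.span (Set.range v) with hJdef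
  set I := Ideal.span (Set.range P.rel) with hIdef
  have hker : ∀ x, P.hom x = 0 ↔ x ∈ I := fun x => by rw [hIdef, ← P.ker_eq]; rfl
  have hJI : J ≤ I := Ideal.span_mono (by rintro _ ⟨i, rfl⟩; exact ⟨_, rfl⟩)
  let φ : (MvPolynomial (Fin P.n) R ⧸ J) →ₐ[R] A := Ideal.Quotient.liftₐ J P.hom fun x hx => (hker x).2 (hJI hx)
  have hφ : ∀ x, φ (Ideal.Quotient.mk J x) = P.hom x := fun x => rfl
  have hφsurj : Function.Surjective φ := fun y => let ⟨x, hx⟩ := P.surj y; ⟨Ideal.Quotient.mk J x, hx⟩
  set I' : Ideal (MvPolynomial (Fin P.n) R ⧸ J) := I.map (Ideal.Quotient.mk J) with hI'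
  have hfg : I'.FG := Ideal.FG.map (Submodule.fg_span (Set.finite_range P.rel)) _
  set ab := Ideal.Quotient.mk J a' with hab
  have hmul : ∀ x ∈ I', ab * x ∈ I' * I' := by
    have hJ : (Ideal.span (P.rel '' {j' : Fin P.m | (j' : ℕ) < P.c})) ≤ J := by
      refine Ideal.span_mono ?_
      rintro _ ⟨j, hj, rfl⟩
      exact ⟨⟨j, hj⟩, rfl⟩
    have : I ≤ Submodule.comap (LinearMap.mulLeft _ a') ((I' * I').comap (Ideal.Quotient.mk J)) := by
      refine Ideal.span_le.2 ?_
      rintro _ ⟨j, rfl⟩
      show Ideal.Quotient.mk J (a' * P.rel j) ∈ I' * I'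
      by_cases hj : (j : ℕ) < P.c
      · have hm : a' * P.rel j ∈ J := Ideal.mul_mem_left _ _ (hJ (Ideal.subset_span ⟨j, hj, rfl⟩))
        rw [Ideal.Quotient.eq_zero_iff_mem.2 hm]
        exact zero_mem _
      · obtain ⟨y, hy, z, hz, hyz⟩ := Submodule.mem_sup.1 (hkill a' haa j (not_lt.1 hj))
        rw [← hyz, map_add, Ideal.Quotient.eq_zero_iff_mem.2 (hJ hy), zero_add, hI', ← Ideal.map_mul, ← sq]
        exact Ideal.mem_map_of_mem _ hz
    intro x hx
    obtain ⟨y, hy, rfl⟩ := (Ideal.mem_map_iff_of_surjective _ Ideal.Quotient.mk_surjective).1 hx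
    rw [hab, ← map_mul]
    exact this hy
  have : Module.Finite (MvPolynomial (Fin P.n) R ⧸ J) I' := Module.Finite.iff_fg.2 hfg
  obtain ⟨p, hp, -, hcoeff, hp0⟩ := LinearMap.exists_monic_and_natDegree_eq_and_coeff_mem_pow_and_aeval_eq_zero
    (MvPolynomial (Fin P.n) R ⧸ J) (algebraMap _ (Module.End (MvPolynomial (Fin P.n) R ⧸ J) I') ab) I' (by
      refine (Submodule.map_le_map_iff_of_injective I'.injective_subtype _ _).1 ?_
      rw [Submodule.map_smul'', Submodule.map_subtype_top]
      rintro _ ⟨_, ⟨x, rfl⟩, rfl⟩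
      simpa [smul_eq_mul] using hmul x.1 x.2)
  set g := p.eval ab with hg
  have hgI : ∀ x ∈ I', g * x = 0 := fun x hx => by
    rw [Polynomial.aeval_algebraMap_apply] at hp0
    have := congrArg Subtype.val (LinearMap.congr_fun hp0 ⟨x, hx⟩)
    simpa [Polynomial.coe_aeval_eq_eval, hg] using this
  have hφI : ∀ x ∈ I', φ x = 0 := by
    intro x hx
    obtain ⟨y, hy, rfl⟩ := (Ideal.mem_map_iff_of_surjective _ Ideal.Quotient.mk_surjective).1 hx
    exact (hφ y).trans ((hker y).2 hy)
  have hφg : φ g = a ^ p.natDegree := by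
    have hmap : p.map φ.toRingHom = Polynomial.X ^ p.natDegree := by
      ext k
      rw [Polynomial.coeff_map, Polynomial.coeff_X_pow]
      rcases lt_trichotomy k p.natDegree with h | h | h
      · rw [if_neg h.ne]
        exact hφI _ (Ideal.pow_le_self (by omega) (hcoeff k))
      · rw [if_pos h, h, hp.coeff_natDegree, map_one]
      · rw [if_neg h.ne', Polynomial.coeff_eq_zero_of_natDegree_lt h, map_zero]
    have h2 := Polynomial.eval_map_apply (p := p) φ.toRingHom ab
    rw [hmap, Polynomial.eval_pow, Polynomial.eval_X] at h2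
    rw [hg]
    refine h2.symm.trans ?_
    show φ ab ^ _ = _
    rw [hab, hφ, haa]
  set h := ab * g with hh
  have hφh : φ h = a ^ (p.natDegree + 1) := by
    rw [hh, map_mul, hφg, hab, hφ, haa, pow_succ, mul_comm]
  let Q0 : Algebra.PreSubmersivePresentation R (MvPolynomial (Fin P.n) R ⧸ J) (Fin P.n) (Fin P.c) :=
    Algebra.PreSubmersivePresentation.naive (Fin.castLE P.hcn) (Fin.castLE_injective _)
  have hj0 : Q0.jacobian = Ideal.Quotient.mk J Δ := by
    classical
    rw [Algebra.PreSubmersivePresentation.jacobian_eq_jacobiMatrix_det, Algebra.Generators.algebraMap_apply]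
    have e1 : (MvPolynomial.aeval Q0.val : MvPolynomial (Fin P.n) R →ₐ[R] _) = Ideal.Quotient.mkₐ R J :=
      MvPolynomial.algHom_ext fun i => by rw [MvPolynomial.aeval_X]; rfl
    rw [e1]
    refine congrArg (Ideal.Quotient.mk J) ?_
    rw [hΔ, Smoothing.jacobianMinor, ← Matrix.det_transpose]
    refine congrArg Matrix.det (Matrix.ext fun i j => ?_)
    exact Algebra.PreSubmersivePresentation.jacobiMatrix_naive _ _ _ _ _ _
  let Q := (Algebra.PreSubmersivePresentation.localizationAway (Localization.Away h) h).comp Q0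
  have hunit : IsUnit Q.jacobian := by
    rw [Algebra.PreSubmersivePresentation.comp_jacobian_eq_jacobian_smul_jacobian,
      Algebra.PreSubmersivePresentation.localizationAway_jacobian, Algebra.smul_def, hj0]
    have hu := IsLocalization.Away.algebraMap_isUnit (S := Localization.Away h) h
    refine IsUnit.mul ?_ hu
    refine isUnit_of_dvd_unit (map_dvd _ ?_) hu
    rw [hh, hab, ha', map_mul]
    exact ⟨Ideal.Quotient.mk J b' * g, by ring⟩
  have : Algebra.IsStandardSmooth R (Localization.Away h) :=
    Algebra.SubmersivePresentation.isStandardSmooth ⟨Q, hunit⟩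
  letI : Algebra (MvPolynomial (Fin P.n) R ⧸ J) (Localization.Away a) :=
    ((algebraMap A (Localization.Away a)).comp φ.toRingHom).toAlgebra
  have halg : ∀ x, algebraMap (MvPolynomial (Fin P.n) R ⧸ J) (Localization.Away a) x =
      algebraMap A (Localization.Away a) (φ x) := fun x => rfl
  haveI : IsScalarTower R (MvPolynomial (Fin P.n) R ⧸ J) (Localization.Away a) :=
    IsScalarTower.of_algebraMap_eq (R := R) (S := MvPolynomial (Fin P.n) R ⧸ J) (A := Localization.Away a) fun r => by
      show algebraMap R (Localization.Away a) r =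
        algebraMap A (Localization.Away a) (φ (algebraMap R (MvPolynomial (Fin P.n) R ⧸ J) r))
      rw [AlgHom.commutes, ← IsScalarTower.algebraMap_apply]
  haveI : IsLocalization.Away h (Localization.Away a) := by
    refine IsLocalization.Away.mk h ?_ (fun z => ?_) (fun x y hxy => ?_)
    · rw [halg, hφh, map_pow]
      exact (IsLocalization.Away.algebraMap_isUnit a).pow _
    · obtain ⟨N, y, hy⟩ := IsLocalization.Away.surj a z
      obtain ⟨y', hy'⟩ := hφsurj (y * a ^ (p.natDegree * N))
      refine ⟨N, y', ?_⟩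
      rw [halg, halg, hy', hφh, map_pow, map_mul, map_pow, ← hy]
      ring
    · rw [halg, halg] at hxy
      obtain ⟨N, hN⟩ := IsLocalization.Away.exists_of_eq a hxy
      refine ⟨N + 1, ?_⟩
      have h1 : ab ^ N * (x - y) ∈ I' := by
        obtain ⟨z, hz⟩ := Ideal.Quotient.mk_surjective (ab ^ N * (x - y))
        rw [← hz]
        refine Ideal.mem_map_of_mem _ ((hker z).1 ?_)
        rw [← hφ z, hz, map_mul, map_pow, map_sub, hab, hφ, haa, mul_sub, hN, sub_self]
      have h2 := hgI _ h1
      rw [hh]
      linear_combination (g ^ N * ab) * h2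
  exact Algebra.IsStandardSmooth.of_algEquiv
    ((IsLocalization.algEquiv (Submonoid.powers h) (Localization.Away h) (Localization.Away a)).restrictScalars R)

end Groth.Agent.S2032
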