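import Groth.Statements.S2038
import Mathlib
import Groth.Prelude.Def_Found
import Groth.Prelude.Def_CAlgX
import Groth.Agent.Lib.H2AdicFSFlat
import Groth.Agent.Lib.H2AdicFSFibre
import Groth.Agent.Lib.H2GeomRegular
import Groth.Agent.Lib.H2SmoothRegular
import Groth.Agent.S2035
import Groth.Agent.S2036

set_option autoImplicit false
universe u
open CAlg

namespace Groth.Agent.S2038
open TensorProduct
set_option backward.isDefEq.respectTransparency.types false

/-- Let `A → B` be a local homomorphism of Noetherian local rings with residue field `k` of `A`. Then `A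
→ B` is flat with special fibre `B ⊗ k` geometrically regular over `k` if and only if `A → B` is
formally smooth for the adic topology of the maximal ideal of `B`. -/
theorem result {A B : Type u} [CommRing A] [CommRing B]
    [IsLocalRing A] [IsLocalRing B] [IsNoetherianRing A] [IsNoetherianRing B] [Algebra A B]
    [IsLocalHom (algebraMap A B)] :
    (Module.Flat A B ∧ CAlg.IsGeometricallyRegular (IsLocalRing.maximalIdeal A).ResidueField
        ((IsLocalRing.maximalIdeal A).Fiber B)) ↔
      CAlgX.IsAdicFormallySmooth A B (IsLocalRing.maximalIdeal B) := by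
  let k := (IsLocalRing.maximalIdeal A).ResidueField
  let T := (IsLocalRing.maximalIdeal A).Fiber B
  let π : B →ₐ[A] T := Algebra.TensorProduct.includeRight
  have hπ : Function.Surjective π := Algebra.TensorProduct.includeRight_surjective (S := k) (T := B) Groth.Agent.H2AdicFSFibre.surjective_residueField
  have hker : RingHom.ker π.toRingHom = (IsLocalRing.maximalIdeal A).map (algebraMap A B) := Groth.Agent.H2AdicFSFibre.ker_includeRight
  haveI : Nontrivial T := by
    refine ⟨⟨1, 0, fun h => ?_⟩⟩
    have h1 : (1 : B) ∈ RingHom.ker π.toRingHom := by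
      rw [RingHom.mem_ker, map_one]; exact h
    rw [hker] at h1
    refine (IsLocalRing.maximalIdeal.isMaximal B).ne_top ((Ideal.eq_top_iff_one _).2 (Ideal.map_le_iff_le_comap.2 ?_ h1))
    exact fun a ha => (IsLocalRing.mem_maximalIdeal _).2 fun hu => (IsLocalRing.mem_maximalIdeal a).1 ha (isUnit_of_map_unit (algebraMap A B) a hu)
  haveI : IsLocalRing T := IsLocalRing.of_surjective' π.toRingHom hπ
  haveI : IsNoetherianRing T := isNoetherianRing_of_surjective B T π.toRingHom hπ
  have hmax : (IsLocalRing.maximalIdeal B).map π.toRingHom = IsLocalRing.maximalIdeal T :=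
    IsLocalRing.map_maximalIdeal_of_surjective π.toRingHom hπ
  constructor
  · rintro ⟨hfl, hgr⟩
    haveI := hfl
    refine Groth.Agent.H2AdicFSFibre.adicFS_of_flat (k := k) π hπ hker Groth.Agent.H2AdicFSFibre.surjective_residueField
      (Ideal.ker_algebraMap_residueField _) ?_
    rw [hmax]
    obtain _ | ⟨q, hq, hqk⟩ := CharP.exists' k
    · refine Groth.Agent.S2035.result.1 ?_
      haveI : IsRegularRing (k ⊗[k] T) := hgr k inferInstance
      haveI : IsRegularRing T := @IsRegularRing.of_ringEquiv (k ⊗[k] T) _ T _ (Algebra.TensorProduct.lid k T).toRingEquiv this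
      exact IsRegularLocalRing.of_isRegularRing_of_isLocalRing T
    · haveI := Fact.mk hq.out
      exact (Groth.Agent.S2036.result q).1 hgr
  · intro h
    refine ⟨Groth.Agent.H2AdicFSFlat.flat_of_adicFS h, Groth.Agent.H2GeomRegular.isGeometricallyRegular_of_adicFS ?_⟩
    rw [← hmax]
    exact Groth.Agent.H2AdicFSFibre.adicFS_fibre π hπ hker Groth.Agent.H2AdicFSFibre.surjective_residueField
      (Ideal.ker_algebraMap_residueField _) h

end Groth.Agent.S2038
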