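import Groth.Statements.S2056
import Mathlib
import Groth.Agent.Lib.UnivInjective

set_option autoImplicit false
universe u
open TensorProduct Groth.Agent
open CAlg

namespace Groth.Agent.S2056

/-- A linear map of `R`-modules is universally injective (injective after tensoring with any module) if
and only if it is injective after tensoring with every finitely presented module. -/
theorem result {R M N : Type u} [CommRing R] [AddCommGroup M]
    [Module R M] [AddCommGroup N] [Module R N] (f : M →ₗ[R] N) :
    CAlgX.UniversallyInjective R f ↔
      ∀ (Q : Type u) [AddCommGroup Q] [Module R Q], Module.FinitePresentation R Q →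
        Function.Injective (f.rTensor Q) := by
  classical
  refine ⟨fun h Q _ _ _ => h Q, fun h => UI.of_eqCrit ?_⟩
  intro n m x y a hxy
  let A : (Fin m → R) →ₗ[R] (Fin n → R) := Fintype.linearCombination R (fun j i => a i j)
  have hfp : Module.FinitePresentation R ((Fin n → R) ⧸ LinearMap.range A) :=
    Module.finitePresentation_of_surjective (LinearMap.range A).mkQ (Submodule.mkQ_surjective _) (by
      rw [Submodule.ker_mkQ, LinearMap.range_eq_map]; exact Submodule.FG.map _ Module.Finite.fg_top)
  let π := (LinearMap.range A).mkQ
  have hcol : ∀ j, ∑ i, a i j • (Pi.single i (1 : R) : Fin n → R) = fun i => a i j := fun j => by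
    ext i; simp [Finset.sum_apply, Pi.single_apply]
  have h0 : f.rTensor _ (∑ i, x i ⊗ₜ[R] π (Pi.single i 1)) = 0 := by
    simp only [map_sum, LinearMap.rTensor_tmul, hxy, sum_tmul, smul_tmul, ← map_smul]
    rw [Finset.sum_comm, Finset.sum_eq_zero]
    intro j _
    rw [← tmul_sum, ← map_sum, hcol]
    have : π (fun i => a i j) = 0 := (Submodule.Quotient.mk_eq_zero _).mpr ⟨Pi.single j 1, by simp [A]⟩
    rw [this, tmul_zero]
  have hz := (injective_iff_map_eq_zero _).mp (h _ hfp) _ h0
  have h1 : π.lTensor M (∑ i, x i ⊗ₜ[R] (Pi.single i (1 : R) : Fin n → R)) = 0 := by simpa using hz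
  obtain ⟨w, hw⟩ := (lTensor_exact M (LinearMap.exact_map_mkQ_range A) (Submodule.mkQ_surjective _) _).mp h1
  let p := TensorProduct.piScalarRight R R M (Fin m)
  refine ⟨p w, fun i => ?_⟩
  have := congrArg (fun v => TensorProduct.piScalarRight R R M (Fin n) v i) hw
  simp only [map_sum, TensorProduct.piScalarRight_apply, TensorProduct.piScalarRightHom_tmul, Finset.sum_apply] at this
  have e1 : ∀ v : M ⊗[R] (Fin m → R),
      TensorProduct.piScalarRightHom R R M (Fin n) (A.lTensor M v) i = ∑ j, a i j • p v j := by
    intro v
    induction v using TensorProduct.induction_on with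
    | zero => simp
    | tmul m' r => simp [p, A, Fintype.linearCombination_apply, Finset.sum_apply, Finset.sum_smul, smul_smul, mul_comm]
    | add b c hb hc => simp [hb, hc, smul_add, Finset.sum_add_distrib]
  rw [← e1, this]
  simp [Pi.single_apply, ite_smul]

end Groth.Agent.S2056
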