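import Groth.Statements.S2059
import Mathlib
import Groth.Agent.Lib.SmoothLiftJacobson

set_option autoImplicit false
universe u
open TensorProduct Cardinal
open Groth.Agent.SmoothLiftJacobson
open CAlg

namespace Groth.Agent.S2059

/-- Let `k` be a field and `S` a `k`-algebra generated by a set of cardinality smaller than that of `k`.
Then for every maximal ideal `𝔪` of `S` the residue field `S/𝔪` is algebraic over `k`, and `S` is a
Jacobson ring. -/
theorem result {k S : Type u} [Field k] [CommRing S] [Algebra k S]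
    (s : Set S) (hs : Algebra.adjoin k s = ⊤) (hcard : Cardinal.mk s < Cardinal.mk k) :
    (∀ (m : Ideal S) [m.IsMaximal], Algebra.IsAlgebraic k (S ⧸ m)) ∧ IsJacobsonRing S := by
  let π : MvPolynomial s k →ₐ[k] S := MvPolynomial.aeval (fun x : s => (x : S))
  have hπ : Function.Surjective π := by
    rw [← AlgHom.range_eq_top]
    show (MvPolynomial.aeval (fun x : s => (x : S))).range = ⊤
    rw [← Algebra.adjoin_range_eq_range_aeval, Subtype.range_coe, hs]
  refine ⟨fun m _ => algebraic_quot π hπ (Or.inr hcard) m, ?_⟩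
  refine isJacobsonRing_iff_prime_eq.mpr fun P hP => le_antisymm (fun f hf => ?_) Ideal.le_jacobson
  by_contra hfP
  let T := Localization.Away (Ideal.Quotient.mk P f)
  haveI : Nontrivial T := by
    rw [← not_subsingleton_iff_nontrivial, IsLocalization.subsingleton_iff (M := Submonoid.powers (Ideal.Quotient.mk P f)) (S := T)]
    rintro ⟨j, hj⟩
    exact hfP (Ideal.Quotient.eq_zero_iff_mem.mp (eq_zero_of_pow_eq_zero hj))
  let h : S →ₐ[k] T := (IsScalarTower.toAlgHom k (S ⧸ P) T).comp (Ideal.Quotient.mkₐ k P)
  let inv : T := IsLocalization.Away.invSelf (Ideal.Quotient.mk P f)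
  let F : MvPolynomial (Option s) k →ₐ[k] T :=
    MvPolynomial.aeval (fun o => o.elim inv (fun x => h (x : S)))
  have hFh : ∀ p, F (MvPolynomial.rename some p) = h (π p) := by
    intro p
    simp only [F, π, MvPolynomial.aeval_rename]
    rw [← AlgHom.comp_apply h, MvPolynomial.comp_aeval]
    rfl
  have hF : Function.Surjective F := by
    intro z
    obtain ⟨n, a, hz⟩ := IsLocalization.Away.surj (Ideal.Quotient.mk P f) z
    obtain ⟨a, rfl⟩ := Ideal.Quotient.mk_surjective a
    obtain ⟨p, rfl⟩ := hπ a
    refine ⟨MvPolynomial.rename some p * MvPolynomial.X none ^ n, ?_⟩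
    rw [map_mul, map_pow, hFh, show F (MvPolynomial.X none) = inv by simp [F]]
    show algebraMap (S ⧸ P) T (Ideal.Quotient.mk P (π p)) * inv ^ n = z
    rw [← hz, mul_assoc, ← mul_pow, IsLocalization.Away.mul_invSelf, one_pow, mul_one]
  obtain ⟨n, hn⟩ := Ideal.exists_maximal T
  have hσ : Finite (Option s) ∨ #(Option s) < #k := by
    by_cases hfin : Finite s
    · exact Or.inl inferInstance
    · haveI : Infinite s := not_finite_iff_infinite.mp hfin
      refine Or.inr ?_
      rw [Cardinal.mk_option, Cardinal.add_one_eq (Cardinal.aleph0_le_mk _)]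
      exact hcard
  haveI := algebraic_quot F hF hσ n
  let m : Ideal S := n.comap h
  haveI : n.IsPrime := hn.isPrime
  have hm : m.IsMaximal := by
    refine Ideal.Quotient.maximal_of_isField _ ?_
    let q : (S ⧸ m) →ₐ[k] (T ⧸ n) := Ideal.quotientMapₐ n h le_rfl
    have hq : Function.Injective q := Ideal.quotientMap_injective
    haveI : Algebra.IsAlgebraic k (S ⧸ m) := Algebra.IsAlgebraic.of_injective q hq
    haveI : Algebra.IsIntegral k (S ⧸ m) := Algebra.IsAlgebraic.isIntegral
    exact isField_of_isIntegral_of_isField' (Field.toIsField k)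
  have hPm : P ≤ m := by
    intro x hx
    show algebraMap (S ⧸ P) T (Ideal.Quotient.mk P x) ∈ n
    rw [Ideal.Quotient.eq_zero_iff_mem.mpr hx, map_zero]
    exact n.zero_mem
  have hfm : h f ∈ n := Submodule.mem_sInf.mp hf m ⟨hPm, hm⟩
  refine hn.ne_top (Ideal.eq_top_of_isUnit_mem n hfm ?_)
  exact IsLocalization.Away.algebraMap_isUnit (Ideal.Quotient.mk P f)

end Groth.Agent.S2059
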