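import Groth.Statements.S2061
import Mathlib
import Groth.Agent.Lib.RegularLocalSerre

set_option autoImplicit false
universe u
open IsLocalRing CategoryTheory Groth.Agent
open CategoryTheory
open CAlg

namespace Groth.Agent.S2061

/-- For a Noetherian local ring `R` write `𝔪` for its maximal ideal and `κ` for its residue field. The
projective dimension of `κ` as an `R`-module is at least the `κ`-dimension of `𝔪/𝔪²`: if `κ` has
projective dimension less than `d` then `dim_κ 𝔪/𝔪² < d`. -/
theorem result {R : Type u} [CommRing R] [IsLocalRing R]
    [IsNoetherianRing R] (d : ℕ)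
    (hd : HasProjectiveDimensionLT (ModuleCat.of R (IsLocalRing.ResidueField R)) d) :
    Module.finrank (IsLocalRing.ResidueField R) (IsLocalRing.CotangentSpace R) < d := by
  have : IsRegularLocalRing R := RegLocal.regular_of_pdLT_residueField d hd
  rw [← spanFinrank_maximalIdeal_eq_finrank_cotangentSpace]
  let rs : List R := (Submodule.FG.finite_generators (maximalIdeal R).fg_of_isNoetherianRing).toFinset.toList
  have hlen : rs.length = (maximalIdeal R).spanFinrank := by
    simp [rs, ← Set.ncard_eq_toFinset_card, Submodule.FG.generators_ncard (maximalIdeal R).fg_of_isNoetherianRing]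
  have hspan : Ideal.ofList rs = maximalIdeal R := by
    simp [rs, Ideal.ofList, Submodule.span_generators]
  have hreg := RegLocal.isRegular_of_span_eq rs [] (by simpa using hspan) (by simp [hlen])
  have := ModuleCat.projectiveDimension_quotient_eq_length.{u} rs hreg
  rw [projectiveDimension_eq_of_iso ((Shrink.linearEquiv R (R ⧸ Ideal.ofList rs)).trans (Submodule.quotEquivOfEq _ _ hspan)).toModuleIso] at this
  have h2 : projectiveDimension (ModuleCat.of R (ResidueField R)) < d := projectiveDimension_lt_iff.mpr hd
  change projectiveDimension (ModuleCat.of R (ResidueField R)) = _ at this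
  rw [this, hlen] at h2
  exact_mod_cast h2

end Groth.Agent.S2061
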