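import Groth.Statements.S2068
import Mathlib
import Groth.Prelude.Def_DRing2
import Groth.Prelude.Def_DDual2
import Groth.Agent.Lib.H5DTen
import Groth.Agent.Lib.H5Perf
import Groth.Agent.Lib.H5Amp
import Groth.Agent.Lib.H7StupidGE
import Groth.Agent.Lib.PseudoCoherentRing

set_option autoImplicit false
universe u
open Groth.Agent.PseudoCoherentRing
open CategoryTheory Limits Pretriangulated HomologicalComplex Groth.Agent
open scoped ZeroObject
open CategoryTheory
attribute [local instance] HasDerivedCategory.standard
open CAlg

namespace Groth.Agent.S2068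

/-- If `K` is `m`-pseudo-coherent in `D(A)`, its cohomology in degree `m` is a finitely generated module
when nothing above degree `m` survives, and its cohomology in degree `m+1` is finitely presented
when nothing above degree `m+1` survives. -/
theorem result {A : Type u} [CommRing A] (K : Dual.D A) (m : ℤ)
    (hK : DRing.IsPseudoCoherent A m K) :
    ((∀ i : ℤ, m < i → Limits.IsZero ((DerivedCategory.homologyFunctor (ModuleCat.{u} A) i).obj K)) →
        Module.Finite A ((DerivedCategory.homologyFunctor (ModuleCat.{u} A) m).obj K)) ∧
      ((∀ i : ℤ, m + 1 < i → Limits.IsZero ((DerivedCategory.homologyFunctor (ModuleCat.{u} A) i).obj K)) →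
        Module.FinitePresentation A ((DerivedCategory.homologyFunctor (ModuleCat.{u} A) (m + 1)).obj K)) := by
  refine ⟨fun h => finite_top hK fun i hi => h i (by omega), fun h => ?_⟩
  obtain ⟨E, a, b, α, hE, hE', hα⟩ := (isPseudo_iff m K).1 hK
  have := (homology_finite (m := m + 1) (fun i hi => hE i (Or.inr hi))
    (fun i => ⟨(hE' i).1, have := (hE' i).2; inferInstance⟩)
    (fun i hi => exactAt_of_mI hα (by omega) (h i hi))).2
  have := hα.1 (m + 1) (by omega)
  exact Module.FinitePresentation.of_equiv
    (asIso ((DerivedCategory.homologyFunctor (ModuleCat.{u} A) (m + 1)).map α)).toLinearEquiv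

end Groth.Agent.S2068
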