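import Groth.Statements.S2069
import Mathlib

set_option autoImplicit false
universe u
open CAlg

namespace Groth.Agent.S2069

open TensorProduct

section aux
variable {R S N : Type u} [CommRing R] [CommRing S] [Algebra R S] [AddCommGroup N] [Module S N] [Module R N]
  [IsScalarTower R S N]

/-- `N ⊗ R/p ≅ N/pN` over `S`. -/
noncomputable def quotEquiv (p : Ideal R) :
    (N ⧸ p.map (algebraMap R S) • (⊤ : Submodule S N)) ≃ₗ[S] N ⊗[R] (R ⧸ p) := by
  let f : N →ₗ[S] N ⊗[R] (R ⧸ p) :=
    { toFun := fun n => n ⊗ₜ 1, map_add' := fun a b => TensorProduct.add_tmul a b 1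
      map_smul' := fun s a => (TensorProduct.smul_tmul' s a 1).symm }
  have hker : LinearMap.ker f = p.map (algebraMap R S) • (⊤ : Submodule S N) := by
    apply le_antisymm
    · intro n hn
      have h1 : (TensorProduct.tensorQuotEquivQuotSMul N p) (n ⊗ₜ[R] Ideal.Quotient.mk p 1) = 0 := by
        rw [map_one, show n ⊗ₜ[R] (1 : R ⧸ p) = 0 from LinearMap.mem_ker.mp hn, map_zero]
      rw [TensorProduct.tensorQuotEquivQuotSMul_tmul_mk, one_smul, Submodule.Quotient.mk_eq_zero] at h1
      refine Submodule.smul_induction_on h1 (fun a ha m _ => ?_) fun a b ha hb => add_mem ha hb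
      rw [← algebraMap_smul S a m]
      exact Submodule.smul_mem_smul (Ideal.mem_map_of_mem _ ha) Submodule.mem_top
    · rw [Submodule.smul_le]
      intro s hs n _
      induction hs using Submodule.span_induction generalizing n with
      | mem s hs =>
        obtain ⟨a, ha, rfl⟩ := hs
        rw [LinearMap.mem_ker, algebraMap_smul]
        show (a • n) ⊗ₜ[R] (1 : R ⧸ p) = 0
        rw [TensorProduct.smul_tmul, Algebra.smul_def, mul_one, Ideal.Quotient.algebraMap_eq,
          Ideal.Quotient.eq_zero_iff_mem.mpr ha, TensorProduct.tmul_zero]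
      | zero => simp
      | add a b _ _ ha hb => rw [add_smul]; exact add_mem (ha n trivial) (hb n trivial)
      | smul c a _ ha => rw [smul_eq_mul, mul_smul]; exact Submodule.smul_mem _ c (ha n trivial)
  have hf : Function.Surjective f := fun x => by
    induction x using TensorProduct.induction_on with
    | zero => exact ⟨0, map_zero _⟩
    | tmul n r =>
      obtain ⟨r, rfl⟩ := Ideal.Quotient.mk_surjective r
      refine ⟨r • n, ?_⟩
      show (r • n) ⊗ₜ[R] (1 : R ⧸ p) = _
      rw [TensorProduct.smul_tmul, Algebra.smul_def, mul_one, Ideal.Quotient.algebraMap_eq]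
    | add a b ha hb => obtain ⟨a, rfl⟩ := ha; obtain ⟨b, rfl⟩ := hb; exact ⟨a + b, map_add _ _ _⟩
  exact (Submodule.quotEquivOfEq _ _ hker.symm).trans (f.quotKerEquivOfSurjective hf)

variable (N) in
/-- functoriality of `N ⊗ -` over `S`. -/
noncomputable def T {M M' : Type u} [AddCommGroup M] [Module R M] [AddCommGroup M'] [Module R M'] (f : M →ₗ[R] M') :
    N ⊗[R] M →ₗ[S] N ⊗[R] M' :=
  TensorProduct.AlgebraTensorModule.map LinearMap.id f

theorem T_apply {M M' : Type u} [AddCommGroup M] [Module R M] [AddCommGroup M'] [Module R M'] (f : M →ₗ[R] M') (x : N ⊗[R] M) :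
    (T (S := S) N f) x = f.lTensor N x := by
  induction x using TensorProduct.induction_on with
  | zero => simp
  | tmul a b => simp [T]
  | add a b ha hb => simp [map_add, ha, hb]

variable [Module.Flat R N]

theorem T_injective {M M' : Type u} [AddCommGroup M] [Module R M] [AddCommGroup M'] [Module R M'] (f : M →ₗ[R] M')
    (hf : Function.Injective f) : Function.Injective (T (S := S) N f) := fun a b h =>
  Module.Flat.lTensor_preserves_injective_linearMap f hf (by rwa [T_apply, T_apply] at h)

/-- the primes of a filtration of `M`. -/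
theorem exists_le_of_mem [IsNoetherianRing R] {M : Type u} [AddCommGroup M] [Module R M] (hM : Module.Finite R M) :
    ∀ q ∈ associatedPrimes S (N ⊗[R] M), ∃ p : PrimeSpectrum R, Module.annihilator R M ≤ p.asIdeal ∧
      q ∈ associatedPrimes S (N ⧸ p.asIdeal.map (algebraMap R S) • (⊤ : Submodule S N)) := by
  refine IsNoetherianRing.induction_on_isQuotientEquivQuotientPrime R hM
    (motive := fun M _ _ _ => ∀ q ∈ associatedPrimes S (N ⊗[R] M), ∃ p : PrimeSpectrum R,
      Module.annihilator R M ≤ p.asIdeal ∧
      q ∈ associatedPrimes S (N ⧸ p.asIdeal.map (algebraMap R S) • (⊤ : Submodule S N))) ?_ ?_ ?_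
  · intro M _ _ _ _ q hq
    haveI : Subsingleton (N ⊗[R] M) := ⟨fun a b => by
      have hz : ∀ x : N ⊗[R] M, x = 0 := fun x => by
        induction x using TensorProduct.induction_on with
        | zero => rfl
        | tmul n m => rw [Subsingleton.elim m 0, TensorProduct.tmul_zero]
        | add a b ha hb => rw [ha, hb, add_zero]
      rw [hz a, hz b]⟩
    exact absurd hq (not_isAssociatedPrime_of_subsingleton)
  · intro M _ _ _ p e q hq
    refine ⟨p, ?_, ?_⟩
    · rw [e.annihilator_eq, Ideal.annihilator_quotient]
    · rw [LinearEquiv.AssociatedPrimes.eq (quotEquiv (S := S) (N := N) p.asIdeal)]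
      exact associatedPrimes.subset_of_injective (T_injective e.toLinearMap e.injective) hq
  · intro M₁ _ _ _ M₂ _ _ _ M₃ _ _ _ f g hf hg hfg h1 h3 q hq
    have hex : Function.Exact (T (S := S) N f) (T (S := S) N g) := fun x => by
      rw [T_apply]
      refine (lTensor_exact N hfg hg x).trans ?_
      simp only [Set.mem_range, T_apply]
    rcases associatedPrimes.subset_union_of_exact (T_injective f hf) hex hq with h | h
    · obtain ⟨p, hp, hq'⟩ := h1 q h
      exact ⟨p, (f.annihilator_le_of_injective hf).trans hp, hq'⟩
    · obtain ⟨p, hp, hq'⟩ := h3 q h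
      exact ⟨p, (g.annihilator_le_of_surjective hg).trans hp, hq'⟩

theorem mem_of_primary [IsNoetherianRing R] {M : Type u} [AddCommGroup M] [Module R M] [Module.Finite R M]
    (Q : Submodule R M) (hQ : Q.IsPrimary) :
    associatedPrimes S (N ⊗[R] (M ⧸ Q)) ⊆
      associatedPrimes S (N ⧸ (Q.colon Set.univ).radical.map (algebraMap R S) • (⊤ : Submodule S N)) := by
  intro q hq
  obtain ⟨p, hann, hq'⟩ := exists_le_of_mem (S := S) (N := N) (M := M ⧸ Q) inferInstance q hq
  have hann' : (Q.colon Set.univ).radical ≤ p.asIdeal := by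
    refine p.isPrime.radical_le_iff.mpr fun r hr => hann ?_
    rw [Module.mem_annihilator]
    intro x
    obtain ⟨x, rfl⟩ := Submodule.Quotient.mk_surjective Q x
    rw [← Submodule.Quotient.mk_smul, Submodule.Quotient.mk_eq_zero]
    exact Submodule.mem_colon.mp hr x trivial
  suffices p.asIdeal = (Q.colon Set.univ).radical by rw [← this]; exact hq'
  refine le_antisymm (fun r hr => ?_) hann'
  by_contra hr'
  -- `r` is regular on `N ⊗ M/Q` but lies in `q`
  have hrq : algebraMap R S r ∈ q := by
    have h1 : algebraMap R S r ∈ Module.annihilator S (N ⧸ p.asIdeal.map (algebraMap R S) • (⊤ : Submodule S N)) := by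
      rw [Module.mem_annihilator]
      intro x
      obtain ⟨x, rfl⟩ := Submodule.Quotient.mk_surjective _ x
      rw [← Submodule.Quotient.mk_smul, Submodule.Quotient.mk_eq_zero]
      exact Submodule.smul_mem_smul (Ideal.mem_map_of_mem _ hr) Submodule.mem_top
    exact IsAssociatedPrime.annihilator_le hq' (by rw [Submodule.annihilator_top]; exact h1)
  have hreg : Function.Injective (LinearMap.lsmul R (M ⧸ Q) r) := by
    refine (injective_iff_map_eq_zero _).mpr fun x hx => ?_
    obtain ⟨x, rfl⟩ := Submodule.Quotient.mk_surjective Q x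
    rw [LinearMap.lsmul_apply, ← Submodule.Quotient.mk_smul, Submodule.Quotient.mk_eq_zero] at hx
    exact (Submodule.Quotient.mk_eq_zero Q).mpr ((hQ.mem_or_mem hx).resolve_right hr')
  have hreg' := Module.Flat.lTensor_preserves_injective_linearMap (M := N) _ hreg
  have hsm : ∀ x : N ⊗[R] (M ⧸ Q), algebraMap R S r • x = (LinearMap.lsmul R (M ⧸ Q) r).lTensor N x := fun x => by
    induction x using TensorProduct.induction_on with
    | zero => simp
    | tmul a b => rw [LinearMap.lTensor_tmul, LinearMap.lsmul_apply, algebraMap_smul, TensorProduct.tmul_smul]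
    | add a b ha hb => rw [smul_add, map_add, ha, hb]
  obtain ⟨hqp, x, hx⟩ := hq
  rw [hx] at hrq
  obtain ⟨n, hn⟩ := hrq
  rw [Submodule.mem_colon_singleton, Submodule.mem_bot] at hn
  have hx0 : x = 0 := by
    induction n with
    | zero => simpa using hn
    | succ n ih =>
      refine ih (hreg' ?_)
      rw [map_zero, ← hsm, smul_smul, ← pow_succ']
      exact hn
  exact hqp.ne_top (by simp [hx, hx0])

end aux


/-- Let `R → S` be a ring map, `M` an `R`-module and `N` an `S`-module flat over `R`. Then a prime of
`S` is associated to `N ⊗_R M` if and only if it is associated to `N/𝔭N` for some prime `𝔭` of `R`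
associated to `M`. -/
theorem result {R S M N : Type u} [CommRing R] [IsNoetherianRing R] [CommRing S]
    [Algebra R S] [AddCommGroup M] [Module R M] [AddCommGroup N] [Module S N] [Module R N]
    [IsScalarTower R S N] [Module.Flat R N] :
    associatedPrimes S (N ⊗[R] M) =
      ⋃ p ∈ associatedPrimes R M, associatedPrimes S (N ⧸ p.map (algebraMap R S) • (⊤ : Submodule S N)) := by
  classical
  refine Set.Subset.antisymm (fun q hq => ?_) ?_
  · obtain ⟨hqp, x, hx⟩ := hq
    obtain ⟨M', hM', hxM⟩ : ∃ M' : Submodule R M, Module.Finite R M' ∧ x ∈ Set.range (T (S := S) N M'.subtype) := by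
      obtain ⟨s, hs⟩ := TensorProduct.exists_finset x
      refine ⟨Submodule.span R ↑(s.image Prod.snd), Module.Finite.span_of_finite R (Finset.finite_toSet _), ?_⟩
      rw [hs, ← LinearMap.coe_range, SetLike.mem_coe]
      refine Submodule.sum_mem _ fun i hi => ⟨i.1 ⊗ₜ ⟨i.2, Submodule.subset_span (Finset.mem_image_of_mem _ hi)⟩, ?_⟩
      simp [T]
    haveI := hM'
    obtain ⟨x', rfl⟩ := hxM
    have hq' : q ∈ associatedPrimes S (N ⊗[R] M') := ⟨hqp, x', by
      rw [hx]
      congr 1
      ext r
      simp only [Submodule.mem_colon_singleton, Submodule.mem_bot, ← map_smul,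
        (map_eq_zero_iff _ (T_injective (S := S) (N := N) M'.subtype M'.injective_subtype))]⟩
    obtain ⟨t, ht⟩ := Submodule.IsLasker.exists_isMinimalPrimaryDecomposition (Submodule.isLasker R M') ⊥
    have key : ∀ u : Finset (Submodule R M'), u ⊆ t → ∀ q ∈ associatedPrimes S (N ⊗[R] (M' ⧸ u.inf id)),
        ∃ Q ∈ t, q ∈ associatedPrimes S (N ⊗[R] (M' ⧸ Q)) := by
      intro u
      induction u using Finset.induction_on with
      | empty =>
        intro _ q hq
        haveI : Subsingleton (M' ⧸ (∅ : Finset (Submodule R M')).inf id) := Submodule.Quotient.subsingleton_iff.mpr Finset.inf_empty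
        haveI : Subsingleton (N ⊗[R] (M' ⧸ (∅ : Finset (Submodule R M')).inf id)) := ⟨fun a b => by
          have hz : ∀ x : N ⊗[R] (M' ⧸ (∅ : Finset (Submodule R M')).inf id), x = 0 := fun x => by
            induction x using TensorProduct.induction_on with
            | zero => rfl
            | tmul n m => rw [Subsingleton.elim m 0, TensorProduct.tmul_zero]
            | add a b ha hb => rw [ha, hb, add_zero]
          rw [hz a, hz b]⟩
        exact absurd hq (not_isAssociatedPrime_of_subsingleton)
      | insert Q u hQu ih =>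
        intro hu q hq
        let A := u.inf id
        let f := (Submodule.mapQ ((insert Q u).inf id) Q LinearMap.id (by rw [Finset.inf_insert]; exact inf_le_left))
        let g := (Submodule.mapQ ((insert Q u).inf id) A LinearMap.id (by rw [Finset.inf_insert]; exact inf_le_right))
        let K := LinearMap.ker g
        have hfK : Function.Injective (f ∘ₗ K.subtype) := by
          refine (injective_iff_map_eq_zero _).mpr fun z hz => Subtype.ext ?_
          obtain ⟨z, hzK⟩ := z
          obtain ⟨z, rfl⟩ := Submodule.Quotient.mk_surjective _ z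
          have h1 : z ∈ A := (Submodule.Quotient.mk_eq_zero A).mp hzK
          have h2 : z ∈ Q := (Submodule.Quotient.mk_eq_zero Q).mp hz
          show Submodule.Quotient.mk z = 0
          rw [Submodule.Quotient.mk_eq_zero, Finset.inf_insert]
          exact ⟨h2, h1⟩
        have hg : Function.Surjective g := fun z => by
          obtain ⟨z, rfl⟩ := Submodule.Quotient.mk_surjective A z
          exact ⟨Submodule.Quotient.mk z, rfl⟩
        have hex : Function.Exact (T (S := S) N K.subtype) (T (S := S) N g) := fun x => by
          rw [T_apply]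
          refine (lTensor_exact N (LinearMap.exact_subtype_ker_map g) hg x).trans ?_
          simp only [Set.mem_range, T_apply]
          rfl
        rcases associatedPrimes.subset_union_of_exact (T_injective K.subtype K.injective_subtype) hex hq with h | h
        · exact ⟨Q, hu (Finset.mem_insert_self Q u), associatedPrimes.subset_of_injective (T_injective _ hfK) h⟩
        · exact ih (fun z hz => hu (Finset.mem_insert_of_mem hz)) q h
    have hq'' : q ∈ associatedPrimes S (N ⊗[R] (M' ⧸ t.inf id)) := by
      have e : (M' ⧸ t.inf id) ≃ₗ[R] M' := Submodule.quotEquivOfEqBot _ ht.inf_eq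
      exact associatedPrimes.subset_of_injective (T_injective e.symm.toLinearMap e.symm.injective) hq'
    obtain ⟨Q, hQ, hqQ⟩ := key t subset_rfl q hq''
    refine Set.mem_biUnion ?_ (mem_of_primary Q (ht.primary hQ) hqQ)
    exact associatedPrimes.subset_of_injective M'.injective_subtype (ht.mem_associatedPrimes hQ)
  · intro q hq
    simp only [Set.mem_iUnion] at hq
    obtain ⟨p, hp, hq⟩ := hq
    obtain ⟨-, f, hf⟩ := (isAssociatedPrime_iff_exists_injective_linearMap p M).mp hp
    rw [LinearEquiv.AssociatedPrimes.eq (quotEquiv (S := S) (N := N) p)] at hq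
    exact associatedPrimes.subset_of_injective (T_injective f hf) hq

end Groth.Agent.S2069
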