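import Groth.Statements.S2073
import Mathlib

set_option autoImplicit false
universe u
open CAlg
open scoped TensorProduct

namespace Groth.Agent.S2073

/-- Let `R` be a domain and `R → S` an injective ring map of finite type. Then there are elements `y_1,
…, y_d` of `S` algebraically independent over `R`, a finitely generated `R`-subalgebra `S'` of `S`
containing them and integral over `R[y_1, …, y_d]`, and a nonzero `f ∈ R` such that every element of
`S` lands in `S'` after multiplication by a power of `f`. -/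
theorem result {R S : Type u} [CommRing R] [IsDomain R] [CommRing S] [Algebra R S]
    [Algebra.FiniteType R S] (hinj : Function.Injective (algebraMap R S)) :
    ∃ (d : ℕ) (y : Fin d → S) (S' : Subalgebra R S), AlgebraicIndependent R y ∧ (∀ i, y i ∈ S') ∧ S'.FG ∧
      (∀ s ∈ S', IsIntegral (Algebra.adjoin R (Set.range y)) s) ∧
      ∃ f : R, f ≠ 0 ∧ ∀ s : S, ∃ n : ℕ, (f ^ n) • s ∈ S' := by
  classical
  let K := FractionRing R
  let ι : S →ₗ[R] K ⊗[R] S := TensorProduct.mk R K S 1
  haveI hloc : IsLocalizedModule (nonZeroDivisors R) ι :=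
    (isLocalizedModule_iff_isBaseChange (nonZeroDivisors R) K ι).mpr (TensorProduct.isBaseChange R S K)
  let ιA : S →ₐ[R] K ⊗[R] S := Algebra.TensorProduct.includeRight
  have hι : ∀ s, ι s = ιA s := fun _ => rfl
  have hker : ∀ s : S, ιA s = 0 → ∃ c : R, c ≠ 0 ∧ c • s = 0 := fun s hs => by
    obtain ⟨c, hc⟩ := (IsLocalizedModule.eq_zero_iff (nonZeroDivisors R) ι).mp ((hι s).trans hs)
    exact ⟨c, nonZeroDivisors.ne_zero c.2, hc⟩
  have hsurj : ∀ z, ∃ (c : R) (s : S), c ≠ 0 ∧ c • z = ιA s := fun z => by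
    obtain ⟨⟨s, c⟩, hs⟩ := IsLocalizedModule.surj (nonZeroDivisors R) ι z
    exact ⟨c, s, nonZeroDivisors.ne_zero c.2, hs⟩
  haveI : Nontrivial (K ⊗[R] S) := nontrivial_of_ne 1 0 fun h => by
    obtain ⟨c, hc, hc'⟩ := hker 1 (by rw [map_one]; exact h)
    exact hc (hinj (by rw [map_zero, Algebra.algebraMap_eq_smul_one, hc']))
  obtain ⟨d, g, hg, hgf⟩ := exists_finite_inj_algHom_of_fg K (K ⊗[R] S)
  choose c y hc hy using fun i : Fin d => hsurj (g (MvPolynomial.X i))
  have hcK : ∀ i, algebraMap R K (c i) ≠ 0 := fun i h => hc i ((IsFractionRing.injective R K) (h.trans (map_zero _).symm))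
  let σ : MvPolynomial (Fin d) K ≃ₐ[K] MvPolynomial (Fin d) K :=
    AlgEquiv.ofAlgHom (MvPolynomial.aeval fun i => algebraMap R K (c i) • MvPolynomial.X i)
      (MvPolynomial.aeval fun i => (algebraMap R K (c i))⁻¹ • MvPolynomial.X i)
      (MvPolynomial.algHom_ext fun i => by simp [-algebraMap_smul, smul_smul, inv_mul_cancel₀ (hcK i), mul_inv_cancel₀ (hcK i)])
      (MvPolynomial.algHom_ext fun i => by simp [-algebraMap_smul, smul_smul, inv_mul_cancel₀ (hcK i), mul_inv_cancel₀ (hcK i)])
  let ψ : MvPolynomial (Fin d) K →ₐ[K] K ⊗[R] S := g.comp σ.toAlgHom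
  have hψX : ∀ i, ψ (MvPolynomial.X i) = ιA (y i) := fun i => by
    rw [← hy i]
    show g (σ (MvPolynomial.X i)) = _
    rw [show σ (MvPolynomial.X i) = algebraMap R K (c i) • MvPolynomial.X i from MvPolynomial.aeval_X _ i, map_smul,
      algebraMap_smul]
  have hψinj : Function.Injective ψ := hg.comp σ.injective
  have hψint : ψ.toRingHom.IsIntegral := by
    intro z
    obtain ⟨p, hp, hp'⟩ := (RingHom.Finite.to_isIntegral hgf) z
    refine ⟨p.map σ.symm.toRingEquiv.toRingHom, hp.map _, ?_⟩
    rw [Polynomial.eval₂_map]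
    refine Eq.trans ?_ hp'
    congr 1
    ext q <;> simp [ψ]
  let φ : MvPolynomial (Fin d) R →ₐ[R] S := MvPolynomial.aeval y
  have hcompat : ∀ q, ψ (MvPolynomial.map (algebraMap R K) q) = ιA (φ q) := fun q => by
    induction q using MvPolynomial.induction_on with
    | C a =>
      rw [MvPolynomial.map_C, ← MvPolynomial.algebraMap_eq, AlgHom.commutes]
      rw [show φ (MvPolynomial.C a) = algebraMap R S a from MvPolynomial.aeval_C _ a, AlgHom.commutes]
      rfl
    | add a b ha hb => simp only [map_add, ha, hb]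
    | mul_X a i ha => simp only [map_mul, MvPolynomial.map_X, ha, hψX, φ, MvPolynomial.aeval_X]
  have hindep : AlgebraicIndependent R y := by
    rw [algebraicIndependent_iff_injective_aeval]
    intro a b hab
    refine MvPolynomial.map_injective (algebraMap R K) (IsFractionRing.injective R K) (hψinj ?_)
    rw [hcompat, hcompat]
    exact congrArg ιA hab
  have key : ∀ s : S, ∃ e : R, e ≠ 0 ∧ φ.toRingHom.IsIntegralElem (e • s) := by
    intro s
    letI : Algebra (MvPolynomial (Fin d) R) (MvPolynomial (Fin d) K) := MvPolynomial.algebraMvPolynomial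
    letI : Algebra (MvPolynomial (Fin d) K) (K ⊗[R] S) := ψ.toRingHom.toAlgebra
    letI : Algebra (MvPolynomial (Fin d) R) (K ⊗[R] S) := (ιA.toRingHom.comp φ.toRingHom).toAlgebra
    haveI : IsScalarTower (MvPolynomial (Fin d) R) (MvPolynomial (Fin d) K) (K ⊗[R] S) :=
      IsScalarTower.of_algebraMap_eq fun q => (hcompat q).symm
    haveI : IsLocalization ((nonZeroDivisors R).map (MvPolynomial.C (σ := Fin d))) (MvPolynomial (Fin d) K) :=
      MvPolynomial.isLocalization (nonZeroDivisors R) K
    obtain ⟨⟨m, hm⟩, hint⟩ := IsIntegral.exists_multiple_integral_of_isLocalization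
      ((nonZeroDivisors R).map (MvPolynomial.C (σ := Fin d))) (Rₘ := MvPolynomial (Fin d) K) (ιA s) (hψint (ιA s))
    obtain ⟨e, he, rfl⟩ := hm
    obtain ⟨p, hp, hp'⟩ := hint
    have hms : (⟨MvPolynomial.C e, Submonoid.mem_map_of_mem _ he⟩ :
        (nonZeroDivisors R).map (MvPolynomial.C (σ := Fin d))) • ιA s = ιA (e • s) := by
      show (ιA.toRingHom.comp φ.toRingHom) (MvPolynomial.C e) * ιA s = _
      rw [Algebra.smul_def e s, map_mul, RingHom.comp_apply]
      show ιA (φ (MvPolynomial.C e)) * _ = _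
      rw [show φ (MvPolynomial.C e) = algebraMap R S e from MvPolynomial.aeval_C _ e, AlgHom.commutes]
    rw [hms] at hp'
    have hp2 : ιA ((p * Polynomial.X).eval₂ φ.toRingHom (e • s)) = 0 := by
      show ιA.toRingHom ((p * Polynomial.X).eval₂ φ.toRingHom (e • s)) = 0
      rw [Polynomial.hom_eval₂, Polynomial.eval₂_mul,
        show Polynomial.eval₂ (ιA.toRingHom.comp φ.toRingHom) (ιA.toRingHom (e • s)) p = 0 from hp', zero_mul]
    obtain ⟨e', he', hzero⟩ := hker _ hp2
    refine ⟨e' * e, mul_ne_zero he' (nonZeroDivisors.ne_zero he), (p * Polynomial.X).scaleRoots (MvPolynomial.C e'),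
      (Polynomial.monic_scaleRoots_iff _).mpr (hp.mul Polynomial.monic_X), ?_⟩
    have hC : φ.toRingHom (MvPolynomial.C e') = algebraMap R S e' := MvPolynomial.aeval_C _ e'
    rw [show (e' * e) • s = φ.toRingHom (MvPolynomial.C e') * (e • s) by
      rw [mul_smul, Algebra.smul_def e', hC]]
    rw [Polynomial.scaleRoots_eval₂_mul, Polynomial.natDegree_mul hp.ne_zero Polynomial.X_ne_zero, Polynomial.natDegree_X,
      pow_succ, mul_assoc, hC, ← Algebra.smul_def, hzero, mul_zero]
  obtain ⟨t, ht⟩ := (Algebra.FiniteType.out : (⊤ : Subalgebra R S).FG)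
  choose e he heint using key
  let S' : Subalgebra R S := Algebra.adjoin R (Set.range y ∪ (fun s => e s • s) '' (t : Set S))
  refine ⟨d, y, S', hindep, fun i => Algebra.subset_adjoin (Or.inl ⟨i, rfl⟩), ?_, ?_, ∏ s ∈ t, e s,
    Finset.prod_ne_zero_iff.mpr fun s _ => he s, fun s => ?_⟩
  · exact Subalgebra.fg_def.mpr ⟨_, (Set.finite_range y).union ((Finset.finite_toSet t).image _), rfl⟩
  · have hrange : ∀ q, φ q ∈ Algebra.adjoin R (Set.range y) := fun q => by
      rw [Algebra.adjoin_range_eq_range_aeval]; exact ⟨q, rfl⟩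
    intro s hs
    show s ∈ integralClosure (Algebra.adjoin R (Set.range y)) S
    have hle : S' ≤ (integralClosure (Algebra.adjoin R (Set.range y)) S).restrictScalars R := Algebra.adjoin_le (by
      rintro x (⟨i, rfl⟩ | ⟨x, -, rfl⟩)
      · exact Subalgebra.algebraMap_mem (integralClosure (Algebra.adjoin R (Set.range y)) S) ⟨y i, Algebra.subset_adjoin ⟨i, rfl⟩⟩
      · obtain ⟨p, hp, hp'⟩ := heint x
        refine ⟨p.map (φ.toRingHom.codRestrict _ hrange), hp.map _, ?_⟩
        rw [Polynomial.eval₂_map]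
        exact hp')
    exact hle hs
  · have hs : s ∈ Algebra.adjoin R (t : Set S) := ht ▸ Algebra.mem_top
    induction hs using Algebra.adjoin_induction with
    | mem x hx =>
      refine ⟨1, ?_⟩
      rw [pow_one, ← Finset.prod_erase_mul t e hx, mul_smul]
      have hmem : e x • x ∈ S' := Algebra.subset_adjoin (Or.inr ⟨x, hx, rfl⟩)
      exact S'.smul_mem hmem _
    | algebraMap a => exact ⟨0, by rw [pow_zero, one_smul]; exact Subalgebra.algebraMap_mem _ a⟩
    | add a b _ _ ha hb =>
      obtain ⟨n, hn⟩ := ha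
      obtain ⟨m, hm⟩ := hb
      refine ⟨n + m, ?_⟩
      rw [smul_add]
      refine add_mem ?_ ?_
      · rw [pow_add, mul_comm, mul_smul]; exact Subalgebra.smul_mem _ hn _
      · rw [pow_add, mul_smul]; exact Subalgebra.smul_mem _ hm _
    | mul a b _ _ ha hb =>
      obtain ⟨n, hn⟩ := ha
      obtain ⟨m, hm⟩ := hb
      exact ⟨n + m, by rw [pow_add, ← smul_mul_smul_comm]; exact mul_mem hn hm⟩

end Groth.Agent.S2073
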