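import Groth.Statements.S2080
import Groth.Agent.Lib.H6.GenFinite

set_option autoImplicit false
set_option backward.isDefEq.respectTransparency.types false
set_option maxHeartbeats 1000000
set_option linter.all false
universe u
open CategoryTheory AlgebraicGeometry
open Mor

namespace Groth.Agent.S2080
open Groth.Agent

/-- Let `f : X → Y` be locally of finite type, quasi-compact and quasi-separated, and `η` a generic
point of an irreducible component of `Y`. Then `f⁻¹{η}` is finite if and only if there is an affine
open `V ∋ η` such that `f⁻¹(V) → V` is finite. -/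
theorem result {X Y : Scheme.{u}} (f : X ⟶ Y) [LocallyOfFiniteType f]
    [QuasiCompact f] [QuasiSeparated f] (η : Y) (hη : closure {η} ∈ irreducibleComponents (Y : Type u)) :
    (f.base ⁻¹' {η}).Finite ↔ ∃ V : Y.Opens, IsAffineOpen V ∧ η ∈ V ∧ IsFinite (f ∣_ V) := by
    constructor
    · intro h
      obtain ⟨A, hA, hηA, -⟩ := exists_isAffineOpen_mem_and_subset (X := Y) (x := η) (U := ⊤) trivial
      exact H6.GenFinite.exists_finite f hA hηA hη h
    · rintro ⟨V, hV, hηV, hfin⟩
      haveI := hfin
      refine (((f ∣_ V).finite_preimage_singleton (⟨η, hηV⟩ : (V : Scheme.{u}))).image (f ⁻¹ᵁ V).ι).subset ?_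
      intro z hz
      have hzV : z ∈ f ⁻¹ᵁ V := by
        show f z ∈ V
        rw [show f z = η from hz]
        exact hηV
      refine ⟨⟨z, hzV⟩, ?_, rfl⟩
      refine V.ι.isOpenEmbedding.injective ?_
      rw [← Scheme.Hom.comp_apply, morphismRestrict_ι]
      exact hz

end Groth.Agent.S2080
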