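import Groth.Statements.S2081
import Groth.Agent.Lib.H6.GenFinite

set_option autoImplicit false
set_option backward.isDefEq.respectTransparency.types false
set_option maxHeartbeats 1000000
set_option linter.all false
universe u
open CategoryTheory AlgebraicGeometry
open Mor

namespace Groth.Agent.S2081
open Groth.Agent

/-- Let `f : X → Y` be locally of finite type and quasi-compact. Suppose `X` and `Y` have finitely many
irreducible components and that a point of `X` is a generic point of an irreducible component
exactly when its image is one in `Y`. Then `f⁻¹(V) → V` is finite for some dense open `V ⊆ Y`. -/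
theorem result {X Y : Scheme.{u}} (f : X ⟶ Y) [LocallyOfFiniteType f]
    [QuasiCompact f] (hX : (irreducibleComponents (X : Type u)).Finite) (hY : (irreducibleComponents (Y : Type u)).Finite)
    (hgen : ∀ x : X, closure {x} ∈ irreducibleComponents (X : Type u) ↔
      closure {f.base x} ∈ irreducibleComponents (Y : Type u)) :
    ∃ V : Y.Opens, Dense (V : Set Y) ∧ IsFinite (f ∣_ V) := by
    have h : ∀ η : genericPoints Y, ∃ V : Y.Opens, η.1 ∈ V ∧ IsFinite (f ∣_ V) := by
      intro η
      obtain ⟨A, hA, hηA, -⟩ := exists_isAffineOpen_mem_and_subset (X := Y) (x := η.1) (U := ⊤) trivial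
      obtain ⟨V, -, h1, h2⟩ := H6.GenFinite.exists_finite_generic f hA hηA η.2 hX fun x hx =>
        (hgen x).2 (show closure {f x} ∈ _ by rw [hx]; exact η.2)
      exact ⟨V, h1, h2⟩
    choose V hηV hfin using h
    refine ⟨⨆ η, V η, H6.BirDense.dense_of_genericPoints _ fun g hg => TopologicalSpace.Opens.mem_iSup.2 ⟨⟨g, hg⟩, hηV _⟩, ?_⟩
    refine IsZariskiLocalAtTarget.of_iSup_eq_top (P := @IsFinite) (fun η => (⨆ η, V η).ι ⁻¹ᵁ V η) ?_ fun η => ?_
    · rw [← Scheme.Hom.preimage_iSup]
      exact top_unique fun z _ => z.2
    · rw [MorphismProperty.arrow_mk_iso_iff @IsFinite (morphismRestrictRestrict f _ _)]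
      rw [Scheme.Hom.image_preimage_eq_opensRange_inf, Scheme.Opens.opensRange_ι, inf_eq_right.2 (le_iSup V η)]
      exact hfin η

end Groth.Agent.S2081
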