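import Groth.Statements.S2085
import Mathlib
import Groth.Prelude.Def_Found
import Groth.Prelude.Def_CAlg
import Groth.Agent.Lib.Catenary
import Groth.Agent.Lib.H2DepthLocal
import Groth.Agent.Lib.UnivCatenary

set_option autoImplicit false
universe u
open Groth.Agent.Catenary
open Groth.Agent.UnivCatenary
open CAlg

namespace Groth.Agent.S2085

/-- Let `M` be a finite module over a Noetherian ring `R`. Then every associated prime of `M` is minimal
in the support of `M` (no embedded primes) if and only if `M` satisfies Serre's condition `(S_1)`. -/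
theorem result {R M : Type u} [CommRing R] [IsNoetherianRing R] [AddCommGroup M] [Module R M]
    [Module.Finite R M] :
    (∀ p ∈ associatedPrimes R M, p ∈ (Module.annihilator R M).minimalPrimes) ↔ LocCoh.HasSk 1 R M := by
  have hsupp : ∀ q : PrimeSpectrum R, q ∈ Module.support R M ↔ Module.annihilator R M ≤ q.asIdeal := fun q =>
    Module.mem_support_iff_of_finite
  constructor
  · intro h p _
    rcases subsingleton_or_nontrivial (LocalizedModule p.primeCompl M) with hsub | hnt
    · rw [Groth.Agent.H2DepthLocal.depth_eq_top_of_subsingleton hsub]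
      exact le_top
    · have hp : (⟨p, ‹_›⟩ : PrimeSpectrum R) ∈ Module.support R M := hnt
      by_cases hass : p ∈ associatedPrimes R M
      · refine (min_le_right _ _).trans (le_trans ?_ (WithBot.coe_le_coe.mpr (_root_.zero_le : (0 : ℕ∞) ≤ _)))
        have hmin := h p hass
        haveI : Subsingleton (Module.support (Localization.AtPrime p) (LocalizedModule p.primeCompl M)) := by
          refine ⟨fun a b => Subtype.ext ?_⟩
          have key : ∀ Q : Module.support (Localization.AtPrime p) (LocalizedModule p.primeCompl M),
              Q.1.asIdeal = IsLocalRing.maximalIdeal (Localization.AtPrime p) := fun Q => by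
            have h1 := (hsupp _).mp ((mem_support_localized p Q.1).mp Q.2)
            have h2 : Q.1.asIdeal.comap (algebraMap R (Localization.AtPrime p)) ≤ p :=
              fun r hr => by_contra fun hn => Q.1.2.ne_top (Ideal.eq_top_of_isUnit_mem _ hr (IsLocalization.map_units _ (⟨r, hn⟩ : p.primeCompl)))
            have h3 := hmin.2 ⟨Q.1.2.comap _, h1⟩ h2
            rw [← IsLocalization.map_under p.primeCompl (Localization.AtPrime p) Q.1.asIdeal,
              show Q.1.asIdeal.under R = p from le_antisymm h2 h3, Localization.AtPrime.map_eq_maximalIdeal]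
          exact PrimeSpectrum.ext ((key a).trans (key b).symm)
        exact Order.krullDim_nonpos_of_subsingleton
      · refine (min_le_left _ _).trans ?_
        have h1 : ((1 : ℕ) : ℕ∞) ≤ LocCoh.depth (Localization.AtPrime p) (LocalizedModule p.primeCompl M) := by
          by_contra hc
          have hno : Groth.Agent.H2Depth.NoReg (IsLocalRing.maximalIdeal (Localization.AtPrime p)) (LocalizedModule p.primeCompl M) :=
            fun r hr hreg => hc (Groth.Agent.H2Depth.le_idealDepth
              (Groth.Agent.H2Depth.HasReg.cons hr hreg (Groth.Agent.H2Depth.HasReg.zero _)))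
          haveI : IsNoetherianRing (Localization.AtPrime p) := IsLocalization.isNoetherianRing p.primeCompl _ inferInstance
          obtain ⟨Q, hQ, hmQ⟩ := Groth.Agent.H2DepthMore.exists_associatedPrime_of_noReg hno
          have hQm : Q = IsLocalRing.maximalIdeal (Localization.AtPrime p) :=
            (IsLocalRing.maximalIdeal.isMaximal _).eq_of_le hQ.isPrime.ne_top hmQ |>.symm
          subst hQm
          refine hass ?_
          have := Module.associatedPrimes.comap_mem_associatedPrimes_of_mem_associatedPrimes_of_isLocalizedModule_of_fg
            p.primeCompl (LocalizedModule.mkLinearMap p.primeCompl M) _ hQ (IsNoetherian.noetherian _)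
          rwa [← Ideal.under_def, Localization.AtPrime.under_maximalIdeal] at this
        exact WithBot.coe_le_coe.mpr h1
  · intro h p hp
    haveI := hp.isPrime
    have hbot : (Ideal.ofList ([] : List R) • ⊤ : Submodule R M) = ⊥ := by simp
    have hp' : p ∈ associatedPrimes R (M ⧸ (Ideal.ofList ([] : List R) • ⊤ : Submodule R M)) := by
      rw [hbot, LinearEquiv.AssociatedPrimes.eq (Submodule.quotEquivOfEqBot ⊥ rfl)]
      exact hp
    have h0 := Groth.Agent.H2DepthLocal.depth_eq_length_of_ass (rs := []) (p := p)
      (RingTheory.Sequence.IsWeaklyRegular.nil R M) hp' (by simp)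
    have hp_supp := Groth.Agent.H2DepthMore.mem_support_of_mem_associatedPrimes hp
    refine ⟨⟨hp.isPrime, (hsupp ⟨p, hp.isPrime⟩).mp hp_supp⟩, fun q hq hqp => ?_⟩
    by_contra hne
    haveI := hq.1
    let A := Localization.AtPrime p
    have hdisj : Disjoint (p.primeCompl : Set R) q := Set.disjoint_left.mpr fun x hx hx' => hx (hqp hx')
    let Q : PrimeSpectrum A := ⟨q.map (algebraMap R A), IsLocalization.isPrime_of_isPrime_disjoint p.primeCompl A q hq.1 hdisj⟩
    let P : PrimeSpectrum A := ⟨IsLocalRing.maximalIdeal A, inferInstance⟩
    have hQc : Q.asIdeal.comap (algebraMap R A) = q :=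
      IsLocalization.under_map_of_isPrime_disjoint p.primeCompl A hq.1 hdisj
    have hQ : Q ∈ Module.support A (LocalizedModule p.primeCompl M) := (mem_support_localized p Q).mpr ((hsupp _).mpr (by
      show Module.annihilator R M ≤ Q.asIdeal.comap (algebraMap R A)
      rw [hQc]; exact hq.2))
    have hPc : P.asIdeal.comap (algebraMap R A) = p := Localization.AtPrime.under_maximalIdeal
    have hP : P ∈ Module.support A (LocalizedModule p.primeCompl M) := (mem_support_localized p P).mpr ((hsupp _).mpr (by
      show Module.annihilator R M ≤ P.asIdeal.comap (algebraMap R A)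
      rw [hPc]; exact (hsupp ⟨p, hp.isPrime⟩).mp hp_supp))
    have hlt : Q < P := lt_of_le_of_ne (IsLocalRing.le_maximalIdeal Q.2.ne_top) fun he => hne (by
      rw [← hQc, he, hPc])
    have h1 : (1 : WithBot ℕ∞) ≤ Module.supportDim A (LocalizedModule p.primeCompl M) :=
      le_iSup (fun s : LTSeries (Module.support A (LocalizedModule p.primeCompl M)) => (s.length : WithBot ℕ∞))
        ⟨1, ![⟨Q, hQ⟩, ⟨P, hP⟩], fun i => by fin_cases i; exact hlt⟩
    have hdim := h p
    rw [h0] at hdim
    have := (le_min le_rfl h1).trans hdim
    exact absurd this (not_le.mpr zero_lt_one)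

end Groth.Agent.S2085
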