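import Groth.Statements.S2088
import Mathlib
import Groth.Agent.Lib.ResidueExtensionMain
import Groth.Agent.Lib.CompletionFlat

set_option autoImplicit false
universe u
open scoped TensorProduct
open CAlg

namespace Groth.Agent.S2088

/-- Let `(R, 𝔪, k)` be a local ring and `K/k` a field extension. Then there is a flat local homomorphism
of local rings `R → R'` with `𝔪R' = 𝔪_{R'}` whose residue field is isomorphic to `K` over `k`. -/
theorem result {R K : Type u} [CommRing R] [IsLocalRing R] [Field K]
    [Algebra (IsLocalRing.ResidueField R) K] :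
    ∃ (R' : Type u) (_ : CommRing R') (_ : IsLocalRing R') (_ : Algebra R R') (_ : IsLocalHom (algebraMap R R')),
      Module.Flat R R' ∧ (IsLocalRing.maximalIdeal R).map (algebraMap R R') = IsLocalRing.maximalIdeal R' ∧
      Nonempty (IsLocalRing.ResidueField R' ≃ₐ[IsLocalRing.ResidueField R] K) := by
  obtain ⟨R', _, _, _, ρ, hflat, hm, hsurj, hker, hcomp⟩ := Groth.Agent.ResExt.exists_flat_local R K
  have hloc : IsLocalHom (algebraMap R R') :=
    ((IsLocalRing.local_hom_TFAE _).out 0 2).mpr hm.le
  refine ⟨R', inferInstance, inferInstance, inferInstance, hloc, hflat, hm, ⟨?_⟩⟩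
  let l : IsLocalRing.ResidueField R' →+* K :=
    Ideal.Quotient.lift _ ρ (fun a ha => by rw [← hker] at ha; exact ha)
  have hls : Function.Surjective l := fun y => by
    obtain ⟨a, rfl⟩ := hsurj y
    exact ⟨IsLocalRing.residue R' a, rfl⟩
  refine AlgEquiv.ofRingEquiv (f := RingEquiv.ofBijective l ⟨l.injective, hls⟩) (fun x => ?_)
  obtain ⟨r, rfl⟩ := IsLocalRing.residue_surjective x
  exact RingHom.congr_fun hcomp r

end Groth.Agent.S2088
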