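import Groth.Statements.S2095
import Mathlib
import Groth.Prelude.Def_CAlgX

set_option autoImplicit false
universe u
open CAlg

namespace Groth.Agent.S2095
open TensorProduct
set_option maxHeartbeats 1000000
set_option backward.isDefEq.respectTransparency.types false

open TensorProduct in
/-- Let `R → S` be a ring map, `𝔫 ⊆ S` an ideal and `R → R'` a ring map admitting an `R`-linear
retraction. If `R' → R' ⊗ S` is formally smooth for the adic topology of the extension of `𝔫`, then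
`R → S` is formally smooth for the `𝔫`-adic topology. -/
theorem result {R S R' : Type u} [CommRing R] [CommRing S] [Algebra R S]
    (𝔫 : Ideal S) [CommRing R'] [Algebra R R'] (ρ : R' →ₗ[R] R) (hρ : ∀ r : R, ρ (algebraMap R R' r) = r)
    (h : CAlgX.IsAdicFormallySmooth R' (R' ⊗[R] S)
      (𝔫.map (Algebra.TensorProduct.includeRight : S →ₐ[R] R' ⊗[R] S))) :
    CAlgX.IsAdicFormallySmooth R S 𝔫 := by
  intro C _ _ J hJ ψ ⟨n, hn⟩
  let i : C →ₐ[R] R' ⊗[R] C := Algebra.TensorProduct.includeRight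
  let C' := R' ⊗[R] C
  let J' : Ideal C' := J.map i.toRingHom
  have hJ' : J' ^ 2 = ⊥ := by rw [← Ideal.map_pow, hJ, Ideal.map_bot]
  let q : C ⧸ J →ₐ[R] C' ⧸ J' := Ideal.quotientMapₐ J' i Ideal.le_comap_map
  let ψ' : R' ⊗[R] S →ₐ[R'] C' ⧸ J' := Algebra.TensorProduct.lift (Algebra.ofId R' _) (q.comp ψ) (fun _ _ => Commute.all _ _)
  have hψ' : ∀ s : S, ψ' ((1 : R') ⊗ₜ[R] s) = q (ψ s) := fun s => by simp [ψ']
  obtain ⟨χ', hχ'⟩ := h C' J' hJ' ψ' ⟨n, fun x hx => by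
    rw [← Ideal.map_pow] at hx
    refine (Ideal.map_le_iff_le_comap.2 (fun s hs => ?_) : _ ≤ RingHom.ker ψ') hx
    show ψ' ((1 : R') ⊗ₜ[R] s) = 0
    rw [hψ', hn s hs, map_zero]⟩
  let ρC : C' →ₗ[R] C := (TensorProduct.lid R C).toLinearMap ∘ₗ ρ.rTensor C
  have hρ1 : ρ 1 = 1 := by simpa using hρ 1
  have hlin : ∀ (c : C) (z : C'), ρC (i c * z) = c * ρC z := fun c z => by
    induction (z : R' ⊗[R] C) using TensorProduct.induction_on with
    | zero => simp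
    | add x y hx hy => simp only [mul_add, map_add, hx, hy]
    | tmul r c' =>
      show (TensorProduct.lid R C) (ρ.rTensor C (((1 : R') ⊗ₜ[R] c) * (r ⊗ₜ[R] c'))) = c * (TensorProduct.lid R C) (ρ.rTensor C (r ⊗ₜ[R] c'))
      simp
  have hi : ∀ c : C, ρC (i c) = c := fun c => by
    show (TensorProduct.lid R C) (ρ.rTensor C ((1 : R') ⊗ₜ[R] c)) = c
    rw [LinearMap.rTensor_tmul, TensorProduct.lid_tmul, hρ1, one_smul]
  have hJρ : ∀ z ∈ J', ρC z ∈ J := fun z hz => by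
    refine Submodule.span_induction (p := fun z _ => ∀ w : C', ρC (w * z) ∈ J) ?_ (fun w => by simp)
      (fun x y _ _ hx hy w => by rw [mul_add, map_add]; exact add_mem (hx w) (hy w))
      (fun a x _ hx w => by rw [smul_eq_mul, ← mul_assoc]; exact hx _) hz 1 |> fun h => by rwa [one_mul] at h
    rintro _ ⟨c, hc, rfl⟩ w
    rw [mul_comm]
    show ρC (i c * w) ∈ J
    rw [hlin]
    exact Ideal.mul_mem_right _ _ hc
  let φ : S →ₗ[R] C :=
    ρC ∘ₗ ((χ'.restrictScalars R).comp (Algebra.TensorProduct.includeRight : S →ₐ[R] R' ⊗[R] S)).toLinearMap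
  have hdec : ∀ (s : S), ∃ (c : C) (ε : C'), Ideal.Quotient.mk J c = ψ s ∧ ε ∈ J' ∧ χ' ((1 : R') ⊗ₜ[R] s) = i c + ε := fun s => by
    obtain ⟨c, hc⟩ := Ideal.Quotient.mk_surjective (ψ s)
    refine ⟨c, χ' ((1 : R') ⊗ₜ[R] s) - i c, hc, ?_, by ring⟩
    rw [← Ideal.Quotient.eq_zero_iff_mem, map_sub, sub_eq_zero]
    refine (AlgHom.congr_fun hχ' _).trans ?_
    rw [hψ', ← hc]
    rfl
  have hmul : ∀ a b : C', a ∈ J' → b ∈ J' → a * b = 0 := fun a b ha hb => by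
    have := Ideal.mul_mem_mul ha hb
    rwa [← pow_two, hJ', Ideal.mem_bot] at this
  have hφm : ∀ s t : S, φ (s * t) = φ s * φ t := fun s t => by
    obtain ⟨a, ε, -, hε, hs⟩ := hdec s
    obtain ⟨b, δ, -, hδ, ht⟩ := hdec t
    have h0 : ρC ε * ρC δ = 0 := by
      have := Ideal.mul_mem_mul (hJρ ε hε) (hJρ δ hδ)
      rwa [← pow_two, hJ, Ideal.mem_bot] at this
    show ρC (χ' ((1 : R') ⊗ₜ[R] (s * t))) = ρC (χ' ((1 : R') ⊗ₜ[R] s)) * ρC (χ' ((1 : R') ⊗ₜ[R] t))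
    rw [show (1 : R') ⊗ₜ[R] (s * t) = ((1 : R') ⊗ₜ[R] s) * ((1 : R') ⊗ₜ[R] t) by simp, map_mul, hs, ht]
    rw [show (i a + ε) * (i b + δ) = i (a * b) + (i a * δ + i b * ε) by
      rw [map_mul]; linear_combination hmul ε δ hε hδ]
    simp only [map_add, hlin, hi]
    linear_combination -h0
  have hφ1 : φ 1 = 1 := by
    show ρC (χ' (1 : R' ⊗[R] S)) = 1
    rw [map_one, ← map_one i, hi]
  refine ⟨AlgHom.ofLinearMap φ hφ1 hφm, AlgHom.ext fun s => ?_⟩
  obtain ⟨a, ε, ha, hε, hs⟩ := hdec s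
  show Ideal.Quotient.mk J (ρC (χ' ((1 : R') ⊗ₜ[R] s))) = ψ s
  rw [hs, map_add, hi, map_add, ha, Ideal.Quotient.eq_zero_iff_mem.2 (hJρ ε hε), add_zero]

end Groth.Agent.S2095
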