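import Groth.Statements.S2096
import Mathlib
import Groth.Prelude.Def_CAlg
import Groth.Prelude.Def_PBC
import Groth.Agent.Lib.H2EtaleCover
import Groth.Agent.Lib.H2HenzRegular
import Groth.Agent.Lib.H2GeomRedHom

set_option autoImplicit false
universe u
open CAlg

namespace Groth.Agent.S2096
open TensorProduct
set_option maxHeartbeats 1000000
set_option synthInstance.maxHeartbeats 400000
set_option backward.isDefEq.respectTransparency.types false

/-- Let `B` be a Noetherian ind-étale `A`-algebra (a filtered colimit of étale algebras) and `𝔭` a prime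
of `A`. Then only finitely many primes of `B` lie over `𝔭`, the fibre ring `B ⊗ κ(𝔭)` is reduced of
dimension zero, and each residue field extension `κ(𝔮)/κ(𝔭)` is separable algebraic. -/
theorem result {A B : Type u} [CommRing A] [CommRing B] [Algebra A B] (hB : EtPBC.IsIndEtale A B)
    [IsNoetherianRing B] (p : Ideal A) [p.IsPrime] :
    {q : PrimeSpectrum B | q.asIdeal.LiesOver p}.Finite ∧ IsReduced (p.Fiber B) ∧ ringKrullDim (p.Fiber B) ≤ 0 ∧
      ∀ (q : Ideal B) [q.IsPrime] [q.LiesOver p],
        @Algebra.IsSeparable p.ResidueField q.ResidueField _ _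
          (Ideal.ResidueField.mapₐ p q (Algebra.ofId A B) (q.over_def p)).toRingHom.toAlgebra := by
  have hcov := Groth.Agent.H2EtaleCover.covered_of_isIndEtale hB
  let k := p.ResidueField
  have hF := Groth.Agent.H2EtaleCover.covered_baseChange hcov k
  haveI : IsNoetherianRing (p.Fiber B) := Groth.Agent.H2GeomRedHom.isNoetherianRing_tensor A B k
  haveI hint : Algebra.IsIntegral k (p.Fiber B) := ⟨fun z => by
    obtain ⟨X, _, _, _, f, hf⟩ := hF [z]
    obtain ⟨w, rfl⟩ := hf z (by simp)
    haveI : Module.Finite k X := Algebra.FormallyUnramified.finite_of_free k X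
    exact (Algebra.IsIntegral.isIntegral (R := k) w).map f⟩
  haveI hd : Ring.KrullDimLE 0 (p.Fiber B) := Ring.KrullDimLE.mk₀ fun q hq => by
    haveI := hq
    exact Ideal.isMaximal_of_isIntegral_of_isMaximal_comap (R := k) q
      (by rw [Ideal.eq_bot_of_prime (q.comap (algebraMap k (p.Fiber B)))]; exact Ideal.bot_isMaximal)
  haveI hart : IsArtinianRing (p.Fiber B) := isArtinianRing_iff_krullDimLE_zero.mpr hd
  refine ⟨?_, ⟨fun z hz => ?_⟩, Order.KrullDimLE.krullDim_le, fun q _ _ => ?_⟩
  · haveI : Finite (PrimeSpectrum (p.Fiber B)) := inferInstance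
    haveI : Finite (p.primesOver B) := Finite.of_equiv _ (PrimeSpectrum.primesOverOrderIsoFiber A B p).toEquiv.symm
    exact Set.Finite.of_finite_image (f := PrimeSpectrum.asIdeal) ((Set.toFinite (p.primesOver B)).subset
      (by rintro _ ⟨q, hq, rfl⟩; exact ⟨q.isPrime, hq⟩)) (fun a _ b _ h => PrimeSpectrum.ext h)
  · obtain ⟨X, _, _, _, f, hf⟩ := hF [z]
    obtain ⟨w, rfl⟩ := hf z (by simp)
    haveI : Module.Finite k X := Algebra.FormallyUnramified.finite_of_free k X
    haveI : IsReduced X := Algebra.FormallyUnramified.isReduced_of_field k X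
    haveI : IsArtinianRing X := isArtinian_of_tower k inferInstance
    obtain ⟨n, hn⟩ := hz
    obtain ⟨v, hv⟩ : ∃ v, w = w ^ 2 * v := by
      let e := IsArtinianRing.equivPi X
      classical
      refine ⟨e.symm fun i => if h : e w i = 0 then 0 else ((IsArtinianRing.fieldOfSubtypeIsMaximal X i).inv (e w i)), e.injective ?_⟩
      funext i
      letI := IsArtinianRing.fieldOfSubtypeIsMaximal X i
      rw [map_mul, map_pow, AlgEquiv.apply_symm_apply, Pi.mul_apply, Pi.pow_apply]
      split_ifs with h
      · simp [h]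
      · show _ = e w i ^ 2 * (e w i)⁻¹
        field_simp
    have key : ∀ m : ℕ, f w = f w ^ (m + 1) * f v ^ m := fun m => by
      induction m with
      | zero => simp
      | succ m ih =>
        have h2 : f w ^ 2 * f v = f w := by rw [← map_pow, ← map_mul, ← hv]
        calc f w = f w ^ (m + 1) * f v ^ m := ih
          _ = (f w ^ m * f v ^ m) * (f w ^ 2 * f v) := by rw [h2]; ring
          _ = f w ^ (m + 1 + 1) * f v ^ (m + 1) := by ring
    rw [key n, pow_succ, hn, zero_mul, zero_mul]
  · letI := (Ideal.ResidueField.mapₐ p q (Algebra.ofId A B) (q.over_def p)).toRingHom.toAlgebra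
    haveI : IsScalarTower A k q.ResidueField := IsScalarTower.of_algebraMap_eq fun a =>
      ((Ideal.ResidueField.mapₐ p q (Algebra.ofId A B) (q.over_def p)).commutes a).symm
    let π : p.Fiber B →ₐ[k] q.ResidueField :=
      Algebra.TensorProduct.lift (Algebra.ofId k q.ResidueField) (IsScalarTower.toAlgHom A B q.ResidueField) fun _ _ => Commute.all _ _
    have hb : ∀ b : B, algebraMap B q.ResidueField b ∈ separableClosure k q.ResidueField := fun b => by
      rw [mem_separableClosure_iff]
      obtain ⟨X, _, _, _, f, hf⟩ := hF [(1 : k) ⊗ₜ[A] b]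
      obtain ⟨w, hw⟩ := hf _ (List.mem_singleton_self _)
      have := Groth.Agent.H2HenzRegular.isSeparable_image (π.comp f) w
      rw [AlgHom.comp_apply, hw] at this
      have h1 : π ((1 : k) ⊗ₜ[A] b) = algebraMap B q.ResidueField b := by
        simp only [π, Algebra.TensorProduct.lift_tmul, map_one, one_mul]
        rfl
      rw [h1] at this
      exact this
    refine ⟨fun x => mem_separableClosure_iff.mp ?_⟩
    obtain ⟨a, c, hc, rfl⟩ := IsFractionRing.div_surjective (A := B ⧸ q) x
    obtain ⟨a, rfl⟩ := Ideal.Quotient.mk_surjective a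
    obtain ⟨c, rfl⟩ := Ideal.Quotient.mk_surjective c
    exact div_mem (hb a) (hb c)

end Groth.Agent.S2096
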