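import Groth.Statements.S2097
import Mathlib
import Groth.Agent.Lib.SmoothLiftJacobson

set_option autoImplicit false
universe u
open TensorProduct Cardinal
open Groth.Agent.SmoothLiftJacobson
open CAlg

namespace Groth.Agent.S2097

/-- Let `R → S` be smooth, `A` an `R`-algebra and `I ⊆ A` an ideal all of whose elements are nilpotent.
Every `R`-algebra map `S → A/I` lifts to an `R`-algebra map `S → A`. -/
theorem result {R S A : Type u} [CommRing R] [CommRing S] [Algebra R S] [Algebra.Smooth R S]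
    [CommRing A] [Algebra R A] (I : Ideal A) (hI : ∀ x ∈ I, IsNilpotent x) (g : S →ₐ[R] A ⧸ I) :
    ∃ f : S →ₐ[R] A, (Ideal.Quotient.mkₐ R I).comp f = g := by
  obtain ⟨n, π, hπ, hker⟩ := Algebra.FinitePresentation.out (R := R) (A := S)
  choose a ha using fun i => Ideal.Quotient.mk_surjective (g (π (MvPolynomial.X i)))
  let φ : MvPolynomial (Fin n) R →ₐ[R] A := MvPolynomial.aeval a
  have hφ : (Ideal.Quotient.mkₐ R I).comp φ = g.comp π := by
    ext i
    simp [φ, ha]
  let J : Ideal A := (RingHom.ker π.toRingHom).map φ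
  have hJI : J ≤ I := by
    rw [Ideal.map_le_iff_le_comap]
    intro x hx
    have h1 := congrArg g (RingHom.mem_ker.mp hx)
    rw [map_zero] at h1
    show φ x ∈ I
    exact Ideal.Quotient.eq_zero_iff_mem.mp ((AlgHom.congr_fun hφ x).trans h1)
  have hJ : IsNilpotent J := (Ideal.FG.isNilpotent_iff_le_nilradical (hker.map _)).mpr fun x hx => mem_nilradical.mpr (hI x (hJI hx))
  let ψ : S →ₐ[R] A ⧸ J := AlgHom.liftOfSurjective π hπ ((Ideal.Quotient.mkₐ R J).comp φ) (by
    intro x hx
    exact Ideal.Quotient.eq_zero_iff_mem.mpr (Ideal.mem_map_of_mem _ hx))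
  obtain ⟨f, hf⟩ := Algebra.FormallySmooth.exists_lift J hJ ψ
  refine ⟨f, AlgHom.ext fun z => ?_⟩
  obtain ⟨x, rfl⟩ := hπ z
  have h1 : Ideal.Quotient.mk J (f (π x)) = Ideal.Quotient.mk J (φ x) := by
    have := AlgHom.congr_fun hf (π x)
    simp only [ψ, AlgHom.comp_apply] at this; erw [AlgHom.liftOfSurjective_apply] at this
    exact this
  rw [Ideal.Quotient.eq] at h1
  refine Eq.trans ?_ (AlgHom.congr_fun hφ x)
  exact Ideal.Quotient.eq.mpr (hJI h1)

end Groth.Agent.S2097
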