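import Groth.Statements.S2098
import Mathlib
import Groth.Agent.Lib.CompletionQuotients
import Groth.Agent.Lib.CompletenessChange

set_option autoImplicit false
universe u
open Pointwise
open Groth.Agent.CompletenessChange
open CAlg

namespace Groth.Agent.S2098

/-- Let `R` be Noetherian, `I` an ideal inside the Jacobson radical and `u : N → M` a map of finite
`R`-modules. If for arbitrarily large `n` the induced map `N/IⁿN → M/IⁿM` has a left inverse, then
`u` has a left inverse. -/
theorem result {R M N : Type u} [CommRing R] [IsNoetherianRing R] (I : Ideal R)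
    (hI : I ≤ (⊥ : Ideal R).jacobson) [AddCommGroup M] [Module R M] [Module.Finite R M] [AddCommGroup N] [Module R N]
    [Module.Finite R N] (u : N →ₗ[R] M)
    (h : ∀ n₀ : ℕ, ∃ n, n₀ ≤ n ∧ ∃ s : (M ⧸ (I ^ n) • (⊤ : Submodule R M)) →ₗ[R] (N ⧸ (I ^ n) • (⊤ : Submodule R N)),
      ∀ x : N, s (Submodule.Quotient.mk (u x)) = Submodule.Quotient.mk x) :
    ∃ s : M →ₗ[R] N, s.comp u = LinearMap.id := by
  obtain ⟨c, hc⟩ := Groth.Agent.CompletionQuotients.exists_lift I M N
  obtain ⟨n, hn, s, hs⟩ := h (c + 1)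
  obtain ⟨φ, hφ⟩ := lift_split I M N u c hc n hn s hs
  have hsurj : Function.Surjective (φ ∘ₗ u) := by
    rw [← LinearMap.range_eq_top, eq_top_iff]
    refine Submodule.le_of_le_smul_of_le_jacobson_bot Module.Finite.fg_top hI fun y _ => ?_
    rw [show y = φ (u y) + -(φ (u y) - y) by abel]
    exact Submodule.add_mem_sup ⟨y, rfl⟩ (neg_mem (hφ y))
  have hbij : Function.Bijective (φ ∘ₗ u) :=
    ⟨OrzechProperty.injective_of_surjective_endomorphism _ hsurj, hsurj⟩
  refine ⟨(LinearEquiv.ofBijective _ hbij).symm.toLinearMap ∘ₗ φ, LinearMap.ext fun x => ?_⟩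
  exact (LinearEquiv.ofBijective _ hbij).symm_apply_apply x

end Groth.Agent.S2098
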