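import Groth.Statements.S2101
import Mathlib

set_option autoImplicit false
universe u
open CAlg

namespace Groth.Agent.S2101
open MvPolynomial

section aux
open MvPolynomial

variable {A : Type u} [CommRing A]

theorem weaklyRegular_ofFn {n : ℕ} (g : Fin n → A) :
    RingTheory.Sequence.IsWeaklyRegular A (List.ofFn g) ↔
      ∀ i : Fin n, ∀ x : A, g i * x ∈ Ideal.span (g '' {j | j < i}) → x ∈ Ideal.span (g '' {j | j < i}) := by
  have hset : ∀ i : Fin n, ({x | x ∈ (List.ofFn g).take i} : Set A) = g '' {j | j < i} := fun i => by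
    ext x
    constructor
    · intro hx
      obtain ⟨j, hj, rfl⟩ := List.mem_take_iff_getElem.mp hx
      simp only [List.length_ofFn] at hj
      exact ⟨⟨j, by omega⟩, (show j < i.1 by omega), (List.getElem_ofFn _).symm⟩
    · rintro ⟨j, hj, rfl⟩
      exact List.mem_take_iff_getElem.mpr ⟨j, by have : j.1 < i.1 := hj; simp only [List.length_ofFn]; omega, List.getElem_ofFn _⟩
  rw [RingTheory.Sequence.isWeaklyRegular_iff]
  constructor
  · intro h i x hx
    have h1 := h i (by simp)
    rw [isSMulRegular_iff_right_eq_zero_of_smul] at h1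
    have hI : (Ideal.ofList ((List.ofFn g).take i) • ⊤ : Submodule A A) = Ideal.span (g '' {j | j < i}) := by
      rw [Ideal.smul_eq_mul, Ideal.mul_top]; show Ideal.span _ = _; rw [hset]
    have := h1 (Submodule.Quotient.mk x) (by
      rw [← Submodule.Quotient.mk_smul, Submodule.Quotient.mk_eq_zero, hI]; simpa using hx)
    rwa [Submodule.Quotient.mk_eq_zero, hI] at this
  · intro h i hi
    rw [isSMulRegular_iff_right_eq_zero_of_smul]
    rintro y hy
    obtain ⟨x, rfl⟩ := Submodule.Quotient.mk_surjective _ y
    have hI : (Ideal.ofList ((List.ofFn g).take i) • ⊤ : Submodule A A) = Ideal.span (g '' {j | j < ⟨i, by simpa using hi⟩}) := by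
      rw [Ideal.smul_eq_mul, Ideal.mul_top]; show Ideal.span _ = _; rw [← hset]
    rw [← Submodule.Quotient.mk_smul, Submodule.Quotient.mk_eq_zero, hI] at hy
    rw [Submodule.Quotient.mk_eq_zero, hI]
    exact h _ x (by simpa using hy)

/-- elements are regular modulo any set of the earlier ones: then modulo any set of others. -/
theorem regular_mod_all {n : ℕ} (f : Fin n → A)
    (h : ∀ (i : Fin n) (J : Set (Fin n)), (∀ j ∈ J, j < i) → ∀ x, f i * x ∈ Ideal.span (f '' J) → x ∈ Ideal.span (f '' J)) :
    ∀ (N : ℕ) (i : Fin n) (J : Set (Fin n)), i ∉ J → i.1 < N → (∀ j ∈ J, j.1 < N) →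
      ∀ x, f i * x ∈ Ideal.span (f '' J) → x ∈ Ideal.span (f '' J) := by
  intro N
  induction N with
  | zero => intro i J _ hi; exact absurd hi (Nat.not_lt_zero _)
  | succ N ih =>
    intro i J hiJ hi hJ x hx
    by_cases hall : ∀ j ∈ J, j < i
    · exact h i J hall x hx
    push Not at hall
    obtain ⟨j0, hj0, hj0i⟩ := hall
    by_cases hN : ∃ m ∈ J, m.1 = N
    · obtain ⟨m, hm, hmN⟩ := hN
      let J' := J \ {m}
      have hins : f '' J = insert (f m) (f '' J') := by
        rw [← Set.image_insert_eq, Set.insert_sdiff_self_of_mem hm]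
      rw [hins, Ideal.mem_span_insert] at hx ⊢
      obtain ⟨a, z, hz, hxz⟩ := hx
      have him : i ≠ m := fun e => hiJ (e ▸ hm)
      have hlt : ∀ j ∈ J', j.1 < N := fun j hj => by
        have h1 := hJ j hj.1
        have h2 : j.1 ≠ m.1 := fun e => hj.2 (Fin.ext e)
        omega
      have hiN : i.1 < N := by
        have h2 : i.1 ≠ m.1 := fun e => him (Fin.ext e)
        omega
      have ha : f m * a ∈ Ideal.span (f '' insert i J') := by
        rw [Set.image_insert_eq, Ideal.mem_span_insert]
        exact ⟨x, -z, neg_mem hz, by linear_combination (-1 : A) * hxz⟩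
      have ha' := h m (insert i J') (fun j hj => by
        rcases hj with rfl | hj
        · exact Fin.lt_def.mpr (by omega)
        · exact Fin.lt_def.mpr (by have := hlt j hj; omega)) a ha
      rw [Set.image_insert_eq, Ideal.mem_span_insert] at ha'
      obtain ⟨b, z', hz', rfl⟩ := ha'
      have hxb : f i * (x - b * f m) ∈ Ideal.span (f '' J') := by
        have : f i * (x - b * f m) = f m * z' + z := by linear_combination hxz
        rw [this]
        exact add_mem (Ideal.mul_mem_left _ _ hz') hz
      exact ⟨b, x - b * f m, ih i J' (fun hh => hiJ hh.1) hiN hlt _ hxb, by ring⟩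
    · push Not at hN
      refine ih i J hiJ ?_ (fun j hj => by have := hJ j hj; have := hN j hj; omega) x hx
      have := hN j0 hj0; have := hJ j0 hj0; have := Fin.le_def.mp hj0i; omega

theorem mem_span_C_mul_X {n : ℕ} (f : Fin n → A) (J : Set (Fin n)) (p : MvPolynomial (Fin n) A) :
    p ∈ Ideal.span ((fun j => C (f j) * X j) '' J) ↔ ∀ e : Fin n →₀ ℕ, coeff e p ∈ Ideal.span (f '' {j | j ∈ J ∧ e j ≠ 0}) := by
  classical
  constructor
  · intro hp
    induction hp using Submodule.span_induction with
    | mem q hq =>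
      obtain ⟨j, hj, rfl⟩ := hq
      intro e
      show coeff e (C (f j) * X j) ∈ _
      rw [coeff_C_mul, coeff_X']
      split_ifs with he
      · rw [mul_one]; exact Ideal.subset_span ⟨j, ⟨hj, by simp [← he]⟩, rfl⟩
      · rw [mul_zero]; exact zero_mem _
    | zero => intro e; simp
    | add a b _ _ ha hb => intro e; rw [coeff_add]; exact add_mem (ha e) (hb e)
    | smul c a _ ha =>
      intro e
      rw [smul_eq_mul, coeff_mul]
      refine Ideal.sum_mem _ fun uv huv => Ideal.mul_mem_left _ _ (Ideal.span_mono ?_ (ha uv.2))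
      rintro _ ⟨j, ⟨hj, hj0⟩, rfl⟩
      refine ⟨j, ⟨hj, ?_⟩, rfl⟩
      rw [← Finset.HasAntidiagonal.mem_antidiagonal.mp huv, Finsupp.add_apply]
      omega
  · intro h
    rw [as_sum p]
    refine Ideal.sum_mem _ fun e _ => ?_
    generalize coeff e p = c₀, h e = hc₀
    induction hc₀ using Submodule.span_induction with
    | mem c hc =>
      obtain ⟨j, ⟨hj, hj0⟩, rfl⟩ := hc
      have : monomial e (f j) = monomial (e - Finsupp.single j 1) 1 * (C (f j) * X j) := by
        rw [C_mul_X_eq_monomial, monomial_mul, one_mul, tsub_add_cancel_of_le (Finsupp.single_le_iff.mpr (by omega))]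
      rw [this]
      exact Ideal.mul_mem_left _ _ (Ideal.subset_span ⟨j, hj, rfl⟩)
    | zero => simp
    | add a b _ _ ha hb => rw [map_add]; exact add_mem ha hb
    | smul c a _ ha =>
      rw [smul_eq_mul, ← C_mul_monomial]
      exact Ideal.mul_mem_left _ _ ha

end aux


/-- For elements `f_1, …, f_r` generating a proper ideal, all reorderings are regular sequences in `R`
if and only if the products `f_i x_i` form a regular sequence in `R[x_1, …, x_r]`. -/
theorem result {R : Type u} [CommRing R] {r : ℕ} (f : Fin r → R)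
    (hf : Ideal.span (Set.range f) ≠ ⊤) :
    (∀ σ : Equiv.Perm (Fin r), RingTheory.Sequence.IsRegular R (List.ofFn (f ∘ σ))) ↔
      RingTheory.Sequence.IsRegular (MvPolynomial (Fin r) R)
        (List.ofFn fun i => MvPolynomial.C (f i) * MvPolynomial.X i) := by
  classical
  haveI : Nontrivial R := nontrivial_of_ne (0 : R) 1 fun e => hf (by
    rw [Ideal.eq_top_iff_one, ← e]; exact zero_mem _)
  constructor
  · intro h
    refine ⟨(weaklyRegular_ofFn _).mpr fun i p hp => ?_, ?_⟩
    · rw [mem_span_C_mul_X] at hp ⊢
      intro e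
      have h1 := hp (e + Finsupp.single i 1)
      rw [show C (f i) * X i * p = C (f i) * (p * X i) by ring, coeff_C_mul, coeff_mul_X] at h1
      have hset : {j | j ∈ {j : Fin r | j < i} ∧ (e + Finsupp.single i 1 : Fin r →₀ ℕ) j ≠ 0} = {j | j ∈ {j : Fin r | j < i} ∧ e j ≠ 0} := by
        ext j
        simp only [Set.mem_setOf_eq, Finsupp.add_apply]
        constructor
        · rintro ⟨hj, hne⟩; rw [Finsupp.single_eq_of_ne hj.ne] at hne; exact ⟨hj, by simpa using hne⟩
        · rintro ⟨hj, hne⟩; exact ⟨hj, by omega⟩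
      rw [hset] at h1
      -- a permutation starting with `J`, then `i`
      let J := {j | j ∈ {j | j < i} ∧ e j ≠ 0}
      let key : Fin r → ℕ := fun j => if j ∈ J then 0 else if j = i then 1 else 2
      let σ := Tuple.sort key
      have hw := (weaklyRegular_ofFn (f ∘ σ)).mp (h σ).toIsWeaklyRegular (σ.symm i)
      have hmono : Monotone (key ∘ σ) := Tuple.monotone_sort key
      have him : (f ∘ σ) '' {l | l < σ.symm i} = f '' J := by
        rw [Set.image_comp]
        congr 1
        ext j
        constructor
        · rintro ⟨l, hl, rfl⟩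
          by_contra hj
          have h2 := hmono (le_of_lt hl)
          have h3 : σ l ≠ i := fun e' => (ne_of_lt (show l < σ.symm i from hl)) (by rw [← e', Equiv.symm_apply_apply])
          have hiJ : i ∉ J := fun hh => lt_irrefl i hh.1
          simp [key, hj, h3, hiJ] at h2
        · intro hj
          refine ⟨σ.symm j, ?_, by simp⟩
          by_contra hlt
          have h2 := hmono (not_lt.mp hlt)
          have hiJ : i ∉ J := fun hh => lt_irrefl i hh.1
          simp [key, hj, hiJ] at h2
      rw [him] at hw
      simp only [Function.comp_apply, Equiv.apply_symm_apply] at hw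
      exact hw _ h1
    · intro htop
      have h1 : (1 : MvPolynomial (Fin r) R) ∈ Ideal.ofList (List.ofFn fun i => C (f i) * X i) • (⊤ : Submodule (MvPolynomial (Fin r) R) (MvPolynomial (Fin r) R)) :=
        htop ▸ Submodule.mem_top
      rw [Ideal.smul_eq_mul, Ideal.mul_top] at h1
      have h2 : (1 : MvPolynomial (Fin r) R) ∈ Ideal.span ((fun j => C (f j) * X j) '' Set.univ) := by
        rw [Set.image_univ]
        exact Ideal.span_mono (fun x hx => List.mem_ofFn.mp hx) h1
      have h3 := (mem_span_C_mul_X f Set.univ 1).mp h2 0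
      simp [coeff_one] at h3
  · intro h σ
    have hP := (weaklyRegular_ofFn _).mp h.toIsWeaklyRegular
    have hreg : ∀ (i : Fin r) (J : Set (Fin r)), (∀ j ∈ J, j < i) → ∀ x, f i * x ∈ Ideal.span (f '' J) → x ∈ Ideal.span (f '' J) := by
      intro i J hJ x hx
      let e : Fin r →₀ ℕ := Finsupp.equivFunOnFinite.symm fun j => if j ∈ J then 1 else 0
      have he : ∀ j, e j ≠ 0 ↔ j ∈ J := fun j => by simp [e]
      have hiJ : i ∉ J := fun hh => lt_irrefl i (hJ i hh)
      have h1 : C (f i) * X i * monomial e x ∈ Ideal.span ((fun j => C (f j) * X j) '' {j | j < i}) := by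
        rw [mem_span_C_mul_X]
        intro d
        rw [C_mul_X_eq_monomial, monomial_mul, coeff_monomial]
        split_ifs with hd
        · refine Ideal.span_mono ?_ hx
          rintro _ ⟨j, hj, rfl⟩
          exact ⟨j, ⟨hJ j hj, by rw [← hd, Finsupp.add_apply]; have := (he j).mpr hj; omega⟩, rfl⟩
        · exact zero_mem _
      have h2 := (mem_span_C_mul_X f _ _).mp (hP i _ h1) e
      rw [coeff_monomial, if_pos rfl] at h2
      exact Ideal.span_mono (Set.image_mono fun j hj => (he j).mp hj.2) h2
    refine ⟨(weaklyRegular_ofFn _).mpr fun i x hx => ?_, ?_⟩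
    · rw [Set.image_comp] at hx ⊢
      exact regular_mod_all f hreg r (σ i) _ (by rintro ⟨l, hl, hle⟩; exact (ne_of_lt hl) (σ.injective hle))
        (σ i).2 (fun j _ => j.2) x hx
    · intro htop
      rw [Ideal.smul_eq_mul, Ideal.mul_top] at htop
      apply hf
      rw [htop]
      show _ = Ideal.span _
      congr 1
      ext x
      simp only [Set.mem_setOf_eq, List.mem_ofFn', Set.mem_range, Function.comp_apply]
      exact ⟨fun ⟨j, hj⟩ => ⟨σ.symm j, by simpa using hj⟩, fun ⟨j, hj⟩ => ⟨σ j, hj⟩⟩

end Groth.Agent.S2101
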