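import Groth.Statements.S2102
import Groth.Prelude.Def_Pi1
import Groth.Prelude.Def_Flat
import Mathlib

set_option autoImplicit false
universe u
open CategoryTheory AlgebraicGeometry
open Mor

namespace Groth.Agent.S2102
open CategoryTheory CategoryTheory.Limits AlgebraicGeometry TopologicalSpace Opposite

/-- The ring of global sections of an integral normal scheme is an integrally closed domain. -/
theorem result (X : Scheme.{u}) [IsIntegral X] (hX : Pi1.IsNormalScheme X) :
    IsIntegrallyClosed (Γ(X, ⊤) : Type u) := by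
  haveI : Nonempty (⊤ : X.Opens) := ⟨⟨genericPoint X, trivial⟩⟩
  let φ := (X.germToFunctionField (⊤ : X.Opens)).hom
  have hφ : Function.Injective φ := X.germToFunctionField_injective ⊤
  letI : Algebra Γ(X, ⊤) X.functionField := φ.toAlgebra
  let ψ : FractionRing Γ(X, ⊤) →+* X.functionField := IsFractionRing.lift hφ
  have hψ : ∀ a, ψ (algebraMap _ _ a) = φ a := fun a => IsFractionRing.lift_algebraMap hφ a
  rw [isIntegrallyClosed_iff (FractionRing Γ(X, ⊤))]
  intro z hz
  obtain ⟨p, hp, hpz⟩ := hz
  have hloc : ∀ x : X, ∃ (U : X.Opens) (hxU : x ∈ U) (t : Γ(X, U)),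
      (X.presheaf.germ U (genericPoint X) (((genericPoint_spec X).mem_open_set_iff U.2).mpr ⟨x, trivial, hxU⟩)).hom t = ψ z := by
    intro x
    haveI := (hX x).2
    haveI := (hX x).1
    let g := (X.presheaf.germ ⊤ x trivial).hom
    have hcomp : (algebraMap (X.presheaf.stalk x) X.functionField).comp g = φ := by
      ext a
      exact TopCat.Presheaf.germ_stalkSpecializes_apply (F := X.presheaf) _ _ a
    have hint : IsIntegral (X.presheaf.stalk x) (ψ z) := by
      refine ⟨p.map g, hp.map g, ?_⟩
      rw [Polynomial.eval₂_map, hcomp]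
      have : φ = ψ.comp (algebraMap _ _) := by ext a; exact (hψ a).symm
      rw [this, ← Polynomial.hom_eval₂, hpz, map_zero]
    obtain ⟨y, hy⟩ := (isIntegrallyClosed_iff X.functionField).1 ‹_› hint
    obtain ⟨U, hxU, t, rfl⟩ := X.presheaf.germ_exist y
    refine ⟨U, hxU, t, ?_⟩
    rw [← hy]
    exact (TopCat.Presheaf.germ_stalkSpecializes_apply (F := X.presheaf) _ _ t).symm
  choose U hxU t ht using hloc
  have hcompat : TopCat.Presheaf.IsCompatible X.sheaf.presheaf U t := by
    intro i j
    have hne : genericPoint X ∈ U i ⊓ U j :=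
      ⟨((genericPoint_spec X).mem_open_set_iff (U i).2).mpr ⟨i, trivial, hxU i⟩,
       ((genericPoint_spec X).mem_open_set_iff (U j).2).mpr ⟨j, trivial, hxU j⟩⟩
    apply germ_injective_of_isIntegral X (genericPoint X) hne
    erw [X.presheaf.germ_res_apply, X.presheaf.germ_res_apply]
    exact (ht i).trans (ht j).symm
  obtain ⟨s, hs, -⟩ := X.sheaf.existsUnique_gluing' U ⊤ (fun i => homOfLE le_top)
    (fun x _ => TopologicalSpace.Opens.mem_iSup.2 ⟨x, hxU x⟩) t hcompat
  refine ⟨s, (IsFractionRing.lift hφ : FractionRing Γ(X, ⊤) →+* X.functionField).injective ?_⟩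
  show ψ _ = ψ z
  refine (hψ s).trans ?_
  rw [← ht (genericPoint X), ← hs (genericPoint X)]
  exact (X.presheaf.germ_res_apply _ _ _ s).symm

end Groth.Agent.S2102
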