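import Groth.Statements.S2111
import Mathlib

set_option autoImplicit false
universe u
open CAlg

namespace Groth.Agent.S2111

/-- Let `R` be a Noetherian normal domain with fraction field `K`. An element of `K` which lies in `R_𝔭`
for every prime `𝔭` of height one lies in `R`. -/
theorem result {R : Type u} [CommRing R] [IsDomain R] [IsNoetherianRing R]
    [IsIntegrallyClosed R] (x : FractionRing R)
    (hx : ∀ (p : Ideal R) [p.IsPrime], p.height = 1 →
      x ∈ Set.range (algebraMap (Localization.AtPrime p) (FractionRing R))) :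
    x ∈ Set.range (algebraMap R (FractionRing R)) := by
  classical
  by_contra hx0
  let K := FractionRing R
  let L : Submodule R K := LinearMap.range (Algebra.linearMap R K)
  let den : K → Ideal R := fun y => L.comap (LinearMap.toSpanSingleton R K y)
  have mem_den : ∀ y r, r ∈ den y ↔ r • y ∈ L := fun y r => Iff.rfl
  have mem_L : ∀ y, y ∈ L ↔ y ∈ Set.range (algebraMap R K) := fun y => Iff.rfl
  have hne : ({I | ∃ r : R, r • x ∉ L ∧ I = den (r • x)} : Set (Ideal R)).Nonempty :=
    ⟨den x, 1, by rw [one_smul]; exact hx0, by rw [one_smul]⟩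
  obtain ⟨p, ⟨r₀, hr₀, hpdef⟩, hmax⟩ := set_has_maximal_iff_noetherian.mpr ‹IsNoetherianRing R› _ hne
  subst hpdef
  let y : K := r₀ • x
  haveI hp : (den y).IsPrime := by
    refine ⟨fun h => hr₀ ?_, fun {a b} hab => ?_⟩
    · have h1 : (1 : R) ∈ den y := h ▸ Submodule.mem_top
      rwa [mem_den, one_smul] at h1
    · by_contra hc
      push Not at hc
      obtain ⟨ha, hb⟩ := hc
      have hlt : den y < den ((a * r₀) • x) := by
        refine lt_of_le_of_ne (fun r hr => ?_) fun he => hb ?_
        · rw [mem_den, mul_smul, smul_comm]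
          exact L.smul_mem a ((mem_den _ _).mp hr)
        · rw [he, mem_den, mul_smul, smul_smul, mul_comm]
          exact (mem_den _ _).mp hab
      refine hmax _ ⟨a * r₀, ?_, rfl⟩ hlt
      rw [mul_smul]
      exact fun h => ha ((mem_den _ _).mpr h)
  have hp0 : den y ≠ ⊥ := by
    obtain ⟨⟨a, b⟩, hab⟩ := IsLocalization.surj (nonZeroDivisors R) y
    intro h
    have hb : (b : R) ∈ den y := (mem_den _ _).mpr ⟨a, by rw [Algebra.linearMap_apply, ← hab, Algebra.smul_def, mul_comm]⟩
    rw [h, Ideal.mem_bot] at hb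
    exact nonZeroDivisors.ne_zero b.2 hb
  obtain ⟨t, ht, u, hu, htu⟩ : ∃ t ∈ den y, ∃ u : R, u ∉ den y ∧ algebraMap R K u = t • y := by
    by_contra hc
    push Not at hc
    have hN : Submodule.map (Algebra.linearMap R K) (den y) ≠ ⊥ := by
      rw [← Submodule.map_bot (Algebra.linearMap R K)]
      exact (Submodule.map_injective_of_injective (IsFractionRing.injective R K)).ne hp0
    have hint : IsIntegral R y := by
      refine isIntegral_of_smul_mem_submodule _ hN ((IsNoetherian.noetherian (den y)).map _) y ?_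
      rintro _ ⟨r, hr, rfl⟩
      obtain ⟨u, hu⟩ := (mem_den _ _).mp hr
      refine ⟨u, by_contra fun h => hc r hr u h hu, ?_⟩
      rw [smul_eq_mul, hu, Algebra.linearMap_apply, Algebra.smul_def, mul_comm]
    obtain ⟨z, hz⟩ := IsIntegrallyClosed.isIntegral_iff.mp hint
    exact hr₀ ⟨z, hz⟩
  have key : ∀ r ∈ den y, t ∣ r * u := by
    intro r hr
    obtain ⟨a, ha⟩ := (mem_den _ _).mp hr
    refine ⟨a, IsFractionRing.injective R K ?_⟩
    rw [map_mul, map_mul, htu, show algebraMap R K a = r • y from ha, Algebra.smul_def, Algebra.smul_def]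
    ring
  have hmin : den y ∈ (Ideal.span {t}).minimalPrimes := by
    refine ⟨⟨hp, (Ideal.span_singleton_le_iff_mem _).mpr ht⟩, fun q ⟨hq, hqt⟩ hle r hr => ?_⟩
    exact (hq.mem_or_mem (hqt (Ideal.mem_span_singleton.mpr (key r hr)))).resolve_right fun h => hu (hle h)
  have h1 : (den y).height = 1 := by
    refine le_antisymm (Ideal.height_le_one_of_isPrincipal_of_mem_minimalPrimes _ _ hmin) (Order.one_le_iff_ne_zero.mpr ?_)
    intro h0
    rw [Ideal.height_eq_zero_iff, IsDomain.minimalPrimes_eq_singleton_bot, Set.mem_singleton_iff] at h0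
    exact hp0 h0
  obtain ⟨z, hz⟩ := hx (den y) h1
  obtain ⟨⟨a, s⟩, has⟩ := IsLocalization.surj (den y).primeCompl z
  refine s.2 ((mem_den _ _).mpr ⟨r₀ * a, ?_⟩)
  have := congrArg (algebraMap (Localization.AtPrime (den y)) K) has
  rw [map_mul, hz, ← IsScalarTower.algebraMap_apply, ← IsScalarTower.algebraMap_apply] at this
  rw [Algebra.linearMap_apply, map_mul, ← this]
  simp only [y, Algebra.smul_def]
  ring

end Groth.Agent.S2111
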