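import Groth.Statements.S2113
import Mathlib
import Groth.Agent.Lib.TorsionFreeEmbed
import Groth.Agent.Lib.CAlgSmall1

set_option autoImplicit false
universe u
open TensorProduct Groth.Agent.TorsionFreeEmbed
open Groth.Agent.CAlgSmall1
open CAlg

namespace Groth.Agent.S2113

/-- A Noetherian ring in which each prime is maximal or else lies below infinitely many primes is a
Jacobson ring. -/
theorem result {R : Type u} [CommRing R] [IsNoetherianRing R]
    (h : ∀ (p : Ideal R) [p.IsPrime], p.IsMaximal ∨ {q : PrimeSpectrum R | p ≤ q.asIdeal}.Infinite) :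
    IsJacobsonRing R := by
  refine isJacobsonRing_iff_prime_eq.mpr fun P hP => le_antisymm ?_ Ideal.le_jacobson
  by_contra hne
  obtain ⟨f, hfj, hfP⟩ := Set.not_subset.mp hne
  obtain ⟨(Q : Ideal R), ⟨hQ, hPQ, hfQ⟩, hQmax⟩ := set_has_maximal_iff_noetherian.mpr
    (inferInstance : IsNoetherianRing R) {I : Ideal R | I.IsPrime ∧ P ≤ I ∧ f ∉ I} ⟨P, hP, le_rfl, hfP⟩
  have habove : ∀ J : Ideal R, J.IsPrime → Q < J → f ∈ J := fun J hJ hlt => by
    by_contra hfJ
    exact hQmax J ⟨hJ, hPQ.trans hlt.le, hfJ⟩ hlt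
  have hQnm : ¬ Q.IsMaximal := fun hm => hfQ (Submodule.mem_sInf.mp hfj Q ⟨hPQ, hm⟩)
  have hinf := (h Q).resolve_left hQnm
  refine hinf ?_
  let mk := Ideal.Quotient.mk Q
  have hf0 : mk f ≠ 0 := fun e => hfQ (Ideal.Quotient.eq_zero_iff_mem.mp e)
  have hh1 : ∀ J : Ideal (R ⧸ Q), J.IsPrime → J ≠ ⊥ → mk f ∈ J := by
    intro J hJ hJ0
    refine habove (J.comap mk) inferInstance (lt_of_le_of_ne ?_ ?_)
    · intro z hz
      rw [Ideal.mem_comap, Ideal.Quotient.eq_zero_iff_mem.mpr hz]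
      exact J.zero_mem
    · intro e
      refine hJ0 ?_
      rw [← Ideal.map_comap_of_surjective mk Ideal.Quotient.mk_surjective J, ← e, Ideal.map_quotient_self]
  have hle1 : ∀ J : Ideal (R ⧸ Q), J.IsPrime → J ≠ ⊥ → J.height = 1 := by
    intro J hJ hJ0
    refine le_antisymm ?_ (Order.one_le_iff_ne_zero.mpr fun e => hJ0 ?_)
    · by_contra hgt
      have h2 : 2 ≤ J.height := Order.add_one_le_of_lt (not_le.mp hgt)
      refine heightOne_infinite J h2 ((heightOne_containing_finite hf0).subset ?_)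
      rintro q ⟨hq, hh, -⟩
      refine ⟨hq, hh, hh1 q hq fun e => ?_⟩
      subst e
      simp at hh
    · have := Ideal.height_eq_zero_iff.mp e
      rwa [IsDomain.minimalPrimes_eq_singleton_bot, Set.mem_singleton_iff] at this
  have hfinQ : ({J : Ideal (R ⧸ Q) | J.IsPrime}).Finite := by
    refine ((heightOne_containing_finite hf0).insert ⊥).subset fun J hJ => ?_
    rcases eq_or_ne J ⊥ with h0 | h0
    · exact Or.inl h0
    · exact Or.inr ⟨hJ, hle1 J hJ h0, hh1 J hJ h0⟩
  refine Set.Finite.of_finite_image ((hfinQ.image (Ideal.comap mk)).subset ?_)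
    (Set.injOn_of_injective (fun _ _ e => PrimeSpectrum.ext e) : Set.InjOn PrimeSpectrum.asIdeal _)
  rintro _ ⟨⟨q, hq⟩, hQq, rfl⟩
  have hk : RingHom.ker mk ≤ q := by rw [Ideal.mk_ker]; exact hQq
  refine ⟨q.map mk, Ideal.map_isPrime_of_surjective Ideal.Quotient.mk_surjective hk, ?_⟩
  rw [Ideal.comap_map_of_surjective mk Ideal.Quotient.mk_surjective, sup_eq_left]
  exact hk

end Groth.Agent.S2113
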