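import Groth.Statements.S2117
import Mathlib
import Groth.Agent.Lib.H2GeomRed
import Groth.Agent.Lib.H2CohenField

set_option autoImplicit false
universe u
open CAlg

set_option backward.isDefEq.respectTransparency.types false
open scoped TensorProduct
namespace Groth.Agent.S2117

/-- Let k be a field of characteristic p > 0 and K a field extension of k. Then K is geometrically
reduced over k (equivalently, K/k is separable: every finitely generated subextension is separably
generated) if and only if the natural base-change map K ⊗_k Ω_{k/ℤ} → Ω_{K/ℤ} on absolute Kähler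
differentials is injective. -/
theorem result {k K : Type u} [Field k] [Field K] [Algebra k K] (p : ℕ)
    [Fact p.Prime] [CharP k p] :
    Algebra.IsGeometricallyReduced k K ↔ Function.Injective (KaehlerDifferential.mapBaseChange ℤ k K) := by
  constructor
  · intro h
    haveI := H2CohenField.formallySmooth_of_geometricallyReduced k K
    rw [injective_iff_map_eq_zero]
    intro x hx
    obtain ⟨y, rfl⟩ := (Algebra.H1Cotangent.exact_δ_mapBaseChange ℤ k K x).mp hx
    rw [Subsingleton.elim y 0, map_zero]
  · intro h
    refine H2GeomRed.geometricallyReduced_of_derivations k K K fun δ => ?_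
    let δ' : Derivation ℤ k K := (Algebra.linearMap k K).compDer δ
    let L : K ⊗[k] Ω[k⁄ℤ] →ₗ[K] K := LinearMap.liftBaseChange K δ'.liftKaehlerDifferential
    obtain ⟨g, hg⟩ := LinearMap.exists_leftInverse_of_injective (KaehlerDifferential.mapBaseChange ℤ k K)
      (LinearMap.ker_eq_bot.mpr h)
    refine ⟨(L ∘ₗ g).compDer (KaehlerDifferential.D ℤ K), fun x => ?_⟩
    show L (g (KaehlerDifferential.D ℤ K (algebraMap k K x))) = _
    have h1 : KaehlerDifferential.D ℤ K (algebraMap k K x) =
        KaehlerDifferential.mapBaseChange ℤ k K (1 ⊗ₜ KaehlerDifferential.D ℤ k x) := by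
      rw [KaehlerDifferential.mapBaseChange_tmul, one_smul, KaehlerDifferential.map_D]
    rw [h1, show g (KaehlerDifferential.mapBaseChange ℤ k K _) = _ from LinearMap.congr_fun hg _]
    simp [L, δ', Derivation.liftKaehlerDifferential_comp_D]

end Groth.Agent.S2117
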