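import Groth.Statements.S2120
import Groth.Prelude.Def_SymProd
import Mathlib

set_option autoImplicit false
universe u
open CategoryTheory AlgebraicGeometry
open Mor

namespace Groth.Agent.S2120
open CategoryTheory CategoryTheory.Limits AlgebraicGeometry TopologicalSpace Opposite

/-- Let `f : X → Y` be surjective and universally closed. If `X` is quasi-separated then so is `Y`; if
`X` is separated then so is `Y`. -/
theorem result {X Y : Scheme.{u}} (f : X ⟶ Y) [Surjective f] [UniversallyClosed f] :
    (QuasiSeparatedSpace X → QuasiSeparatedSpace Y) ∧ (X.IsSeparated → Y.IsSeparated) := by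
  constructor
  · intro hX
    refine quasiSeparatedSpace_iff_forall_affineOpens.2 fun U V => ?_
    have h1 : IsCompact (f ⁻¹' (U.1 : Set Y)) := QuasiCompact.isCompact_preimage _ U.1.2 U.2.isCompact
    have h2 : IsCompact (f ⁻¹' (V.1 : Set Y)) := QuasiCompact.isCompact_preimage _ V.1.2 V.2.isCompact
    have h3 := (QuasiSeparatedSpace.inter_isCompact _ _ (U.1.2.preimage f.continuous) h1 (V.1.2.preimage f.continuous) h2).image f.continuous
    rwa [← Set.preimage_inter, Set.image_preimage_eq _ f.surjective] at h3
  · intro hX
    refine ⟨?_⟩
    haveI := hX.isSeparated_terminal_from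
    have hfs : IsSeparated (f ≫ terminal.from Y) := by rw [terminal.comp_from]; infer_instance
    let d := pullback.diagonal (terminal.from Y)
    have : UniversallyClosed (f ≫ d) := by
      have e : f ≫ d = pullback.diagonal (f ≫ terminal.from Y) ≫ pullback.map _ _ _ _ f f (𝟙 _) (by simp) (by simp) := by
        apply pullback.hom_ext <;> simp only [d, Category.assoc, pullback.diagonal_fst, pullback.diagonal_snd, pullback.lift_fst, pullback.lift_snd, pullback.lift_fst_assoc, pullback.lift_snd_assoc, pullback.diagonal_fst_assoc, pullback.diagonal_snd_assoc, Category.comp_id]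
      rw [e]
      haveI : UniversallyClosed (pullback.map (f ≫ terminal.from Y) (f ≫ terminal.from Y) (terminal.from Y) (terminal.from Y) f f (𝟙 _) (by simp) (by simp)) :=
        MorphismProperty.pullbackMap (P := @UniversallyClosed) ‹_› ‹_› rfl rfl
      infer_instance
    haveI := UniversallyClosed.of_comp_surjective f d
    haveI : IsClosedImmersion d := IsClosedImmersion.of_isPreimmersion d (d.isClosedMap.isClosed_range)
    exact ⟨‹_›⟩

end Groth.Agent.S2120
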