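import Groth.Statements.S2121
import Groth.Agent.Lib.H6.SubtrVal2

set_option autoImplicit false
set_option linter.all false
universe u
open CategoryTheory AlgebraicGeometry
open Mor

namespace Groth.Agent.S2121

/-- Let `f : X → Y` be quasi-compact and `z` a point in the closure of `f(X)` (the underlying set of the
scheme theoretic image). Then there are a valuation ring `A` with fraction field `K` and morphisms
`Spec K → X`, `Spec A → Y` forming a commutative square with `f` and `Spec K → Spec A`, such that
the closed point of `Spec A` maps to `z`. -/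
theorem result {X Y : Scheme.{u}} (f : X ⟶ Y) [QuasiCompact f] (z : Y)
    (hz : z ∈ closure (Set.range f.base)) :
    ∃ (A : Type u) (_ : CommRing A) (_ : IsDomain A) (_ : ValuationRing A)
      (x : Spec (CommRingCat.of (FractionRing A)) ⟶ X) (y : Spec (CommRingCat.of A) ⟶ Y),
      x ≫ f = Spec.map (CommRingCat.ofHom (algebraMap A (FractionRing A))) ≫ y ∧
      y.base (IsLocalRing.closedPoint A) = z := by
    obtain ⟨x', hx'⟩ := Groth.Agent.H6.SubtrVal.exists_specializes_of_mem_closure_range f hz
    let r : Y.presheaf.stalk z ⟶ X.residueField x' := Y.presheaf.stalkSpecializes hx' ≫ f.stalkMap x' ≫ X.residue x'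
    obtain ⟨A, hA, hloc⟩ := IsLocalRing.exists_factor_valuationRing r.hom
    let a : Y.presheaf.stalk z ⟶ CommRingCat.of A := CommRingCat.ofHom (r.hom.codRestrict _ hA)
    have w : X.fromSpecResidueField x' ≫ f =
        Spec.map (CommRingCat.ofHom (algebraMap A (X.residueField x'))) ≫ Spec.map a ≫ Y.fromSpecStalk z := by
      rw [Scheme.fromSpecResidueField, Category.assoc, ← Scheme.SpecMap_stalkMap_fromSpecStalk,
        ← Scheme.SpecMap_stalkSpecializes_fromSpecStalk hx']
      simp_rw [← Spec.map_comp_assoc]
      rfl
    let e : FractionRing A ≃ₐ[A] X.residueField x' := FractionRing.algEquiv A (X.residueField x')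
    refine ⟨A, inferInstance, inferInstance, inferInstance,
      Spec.map (CommRingCat.ofHom e.symm.toRingHom) ≫ X.fromSpecResidueField x', Spec.map a ≫ Y.fromSpecStalk z, ?_, ?_⟩
    · rw [Category.assoc, w, ← Spec.map_comp_assoc]
      congr 2
      ext y
      exact e.symm.commutes y
    · have : Spec.map a (IsLocalRing.closedPoint A) = IsLocalRing.closedPoint (Y.presheaf.stalk z) :=
        IsLocalRing.comap_closedPoint (S := A) (r.hom.codRestrict A.toSubring hA)
      show (Spec.map a ≫ Y.fromSpecStalk z) (IsLocalRing.closedPoint A) = z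
      rw [Scheme.Hom.comp_apply, this, Y.fromSpecStalk_closedPoint]

end Groth.Agent.S2121
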