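import Groth.Agent.Lib.LTensor
import Groth.Agent.Lib.LInv
import Groth.Agent.Lib.LAmple
import Groth.Agent.Lib.LPullInv
import Mathlib

set_option autoImplicit false
universe u
open CategoryTheory Limits AlgebraicGeometry Opposite TopologicalSpace

namespace Groth.Agent.S2122

open Groth.Agent.LQcoh Groth.Agent.LInv

variable {X : Scheme.{u}}

/-- a global pair with unit pairing trivialises the first factor -/
theorem trivial_of_pair {L N : X.Modules} (e : CohB1.tensorMod L N ≅ Coh.structureModule X)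
    (l : Γ(L, ⊤)) (n : Γ(N, ⊤))
    (h : IsUnit (show Γ(X, ⊤) from e.hom.app ⊤ (SecTwist.tmul L N ⊤ l n))) :
    Nonempty (L ≅ Coh.structureModule X) := by
  let a := LAmple.homTop l
  let γ := LAmple.homTop n
  let b : L ⟶ Coh.structureModule X := (SecTwist.unitorR L).inv ≫ LTensor.tmap (𝟙 L) γ ≫ e.hom
  let α : N ⟶ Coh.structureModule X := (LTensor.unitorL N).inv ≫ LTensor.tmap a (𝟙 N) ≫ e.hom
  have hu : ∀ W : X.Opens, ∀ (F : X.Modules) (t : Γ(F, W)),
      (SecTwist.unitorR F).inv.app W t = SecTwist.tmul F (Coh.structureModule X) W t (1 : Γ(X, W)) := fun W F t => by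
    apply ((ConcreteCategory.isIso_iff_bijective _).1 (inferInstance : IsIso ((SecTwist.unitorR F).hom.app W))).1
    refine (congrArg (fun φ : F ⟶ F => φ.app W t) (SecTwist.unitorR F).inv_hom_id).trans ?_
    exact ((SecTwist.unitorR_tmul F W t (1 : Γ(X, W))).trans (one_smul Γ(X, W) t)).symm
  have hl : ∀ W : X.Opens, ∀ (F : X.Modules) (t : Γ(F, W)),
      (LTensor.unitorL F).inv.app W t = SecTwist.tmul (Coh.structureModule X) F W (1 : Γ(X, W)) t := fun W F t => by
    show (LTensor.comm (Coh.structureModule X) F).inv.app W ((SecTwist.unitorR F).inv.app W t) = _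
    rw [hu]
    exact LTensor.comm_tmul F (Coh.structureModule X) W t (1 : Γ(X, W))
  have hone : ∀ (W : X.Opens) {F : X.Modules} (y : Γ(F, ⊤)),
      (LAmple.homTop y).app W (1 : Γ(X, W)) = res F le_top y := fun W {F} y => LAmple.val_homTop y W
  have hba : (a ≫ b).app ⊤ (1 : Γ(X, ⊤)) = e.hom.app ⊤ (SecTwist.tmul L N ⊤ l n) := by
    show e.hom.app ⊤ ((LTensor.tmap (𝟙 L) γ).app ⊤ ((SecTwist.unitorR L).inv.app ⊤ (a.app ⊤ (1 : Γ(X, ⊤))))) = _
    rw [hu, hone]
    refine (congrArg (e.hom.app ⊤) (LTensor.tmap_tmul (𝟙 L) γ ⊤ _ _)).trans ?_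
    show e.hom.app ⊤ (SecTwist.tmul L N ⊤ (res L le_top l) (γ.app ⊤ (1 : Γ(X, ⊤)))) = _
    rw [hone]
    exact congrArg (e.hom.app ⊤) (congrArg₂ (SecTwist.tmul L N ⊤) (LCech.rs_self _ _ l) (LCech.rs_self _ _ n))
  have hγα : (γ ≫ α).app ⊤ (1 : Γ(X, ⊤)) = e.hom.app ⊤ (SecTwist.tmul L N ⊤ l n) := by
    show e.hom.app ⊤ ((LTensor.tmap a (𝟙 N)).app ⊤ ((LTensor.unitorL N).inv.app ⊤ (γ.app ⊤ (1 : Γ(X, ⊤))))) = _
    rw [hl, hone]
    refine (congrArg (e.hom.app ⊤) (LTensor.tmap_tmul a (𝟙 N) ⊤ _ _)).trans ?_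
    show e.hom.app ⊤ (SecTwist.tmul L N ⊤ (a.app ⊤ (1 : Γ(X, ⊤))) (res N le_top n)) = _
    rw [hone]
    exact congrArg (e.hom.app ⊤) (congrArg₂ (SecTwist.tmul L N ⊤) (LCech.rs_self _ _ l) (LCech.rs_self _ _ n))
  have hiso : ∀ φ : Coh.structureModule X ⟶ Coh.structureModule X,
      IsUnit (show Γ(X, ⊤) from φ.app ⊤ (1 : Γ(X, ⊤))) → IsIso φ := fun φ hφ => by
    obtain ⟨c, hc⟩ := hφ
    rw [Scheme.Modules.Hom.isIso_iff_isIso_app]
    intro W
    rw [ConcreteCategory.isIso_iff_bijective]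
    have : ⇑(φ.app W) = fun r : Γ(X, W) => r * resO (le_top : W ≤ ⊤) (c : Γ(X, ⊤)) := funext fun r => by
      refine (app_eq_smul_val φ W r).trans (congrArg (r • ·) ?_)
      refine (SecTwist.map_val φ (homOfLE (le_top : W ≤ ⊤))).symm.trans ?_
      exact congrArg (X.presheaf.map (homOfLE (le_top : W ≤ ⊤)).op) hc.symm
    rw [this]
    exact ((Units.map (X.presheaf.map (homOfLE (le_top : W ≤ ⊤)).op).hom.toMonoidHom c).mulRight).bijective
  haveI hi1 : IsIso (a ≫ b) := hiso _ (hba ▸ h)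
  haveI hi2 : IsIso (γ ≫ α) := hiso _ (hγα ▸ h)
  haveI : IsSplitEpi α := ⟨⟨⟨inv (γ ≫ α) ≫ γ, by rw [Category.assoc, IsIso.inv_hom_id]⟩⟩⟩
  haveI : IsSplitMono (LTensor.tmap a (𝟙 N)) :=
    ⟨⟨⟨LTensor.tmap (b ≫ inv (a ≫ b)) (𝟙 N), by
      rw [← LTensor.tmap_comp, ← Category.assoc, IsIso.hom_inv_id, Category.comp_id, LTensor.tmap_id]⟩⟩⟩
  haveI : IsIso α := isIso_of_mono_of_isSplitEpi α
  exact ⟨(SecTwist.unitorR L).symm ≪≫ LTensor.mapIso (Iso.refl L) (asIso α).symm ≪≫ e⟩

/-- On a scheme X, if an O_X-module L admits an O_X-module N with L ⊗ N ≅ O_X, then L is invertible: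
locally on X it is isomorphic to O_X (locally free of rank one). -/
theorem result {X : Scheme.{u}} (L N : X.Modules)
    (e : CohB1.tensorMod L N ≅ Coh.structureModule X) : PicF.IsInvertible L := by
  intro x
  have hW : (Opens.grothendieckTopology X).W
      ((PresheafOfModules.toPresheaf _).map (SecTwist.toTensor L N)) := LTensor.W_toTensor L N
  have hls := ((Opens.grothendieckTopology X).W_iff_isLocallyBijective _).1 hW |>.2
  obtain ⟨V, i, ⟨t, ht⟩, hxV⟩ := hls.imageSieve_mem (e.inv.app ⊤ (1 : Γ(X, ⊤))) x trivial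
  have hone : e.hom.app V ((SecTwist.toTensor L N).app (op V) t) = (1 : Γ(X, V)) := by
    refine (congrArg (e.hom.app V) ht).trans ?_
    refine (NatTrans.naturality_apply ((Scheme.Modules.toPresheaf _).map e.hom) i.op (e.inv.app ⊤ (1 : Γ(X, ⊤)))).trans ?_
    refine (congrArg _ (congrArg (fun φ : Coh.structureModule X ⟶ Coh.structureModule X => φ.app ⊤ (1 : Γ(X, ⊤))) e.inv_hom_id)).trans ?_
    exact map_one (X.presheaf.map i.op).hom
  have key : ∀ t, IsUnit (X.presheaf.germ V x hxV (show Γ(X, V) from e.hom.app V ((SecTwist.toTensor L N).app (op V) t))) →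
      ∃ (l : Γ(L, V)) (n : Γ(N, V)), IsUnit (X.presheaf.germ V x hxV (e.hom.app V (SecTwist.tmul L N V l n) : Γ(X, V))) := by
    intro t
    induction t using TensorProduct.induction_on with
    | zero =>
      intro h
      have h0 : e.hom.app V ((SecTwist.toTensor L N).app (op V) 0) = (0 : Γ(X, V)) :=
        (congrArg (e.hom.app V) (map_zero ((SecTwist.toTensor L N).app (op V)).hom)).trans (map_zero (e.hom.app V).hom)
      have h' := (congrArg (fun z : Γ(X, V) => IsUnit (X.presheaf.germ V x hxV z)) h0).mp h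
      exact absurd ((map_zero (X.presheaf.germ V x hxV).hom) ▸ h') not_isUnit_zero
    | tmul l n => exact fun h => ⟨l, n, h⟩
    | add p q hp hq =>
      intro h
      have hadd : e.hom.app V ((SecTwist.toTensor L N).app (op V) (p + q)) =
          (e.hom.app V ((SecTwist.toTensor L N).app (op V) p) : Γ(X, V)) +
            (e.hom.app V ((SecTwist.toTensor L N).app (op V) q) : Γ(X, V)) :=
        (congrArg (e.hom.app V) (map_add ((SecTwist.toTensor L N).app (op V)).hom p q)).trans (map_add (e.hom.app V).hom _ _)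
      have h := ((congrArg (fun z : Γ(X, V) => IsUnit (X.presheaf.germ V x hxV z)) hadd).trans
        (congrArg IsUnit (map_add (X.presheaf.germ V x hxV).hom _ _))).mp h
      exact (IsLocalRing.isUnit_or_isUnit_of_isUnit_add h).elim hp hq
  obtain ⟨l, n, hu⟩ := key t ((congrArg (fun z : Γ(X, V) => IsUnit (X.presheaf.germ V x hxV z)) hone).mpr (map_one (X.presheaf.germ V x hxV).hom ▸ isUnit_one))
  set c : Γ(X, V) := e.hom.app V (SecTwist.tmul L N V l n) with hc
  let D : X.Opens := X.basicOpen c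
  have hDV : D ≤ V := X.basicOpen_le c
  refine ⟨D, (Scheme.mem_basicOpen X c x hxV).2 hu, ?_⟩
  let e' : CohB1.tensorMod (L.restrict D.ι) (N.restrict D.ι) ≅ Coh.structureModule D.toScheme :=
    LTensor.restrictIso D.ι L N ≪≫ (Scheme.Modules.restrictFunctor D.ι).mapIso e ≪≫ Scheme.Modules.restrictUnitIso D.ι
  have hT : D.ι ''ᵁ ⊤ ≤ V := (D.ι_image_le _).trans hDV
  refine trivial_of_pair e' (res L hT l) (res N hT n) ?_
  have h1 : (LTensor.restrictIso D.ι L N).hom.app ⊤
      (SecTwist.tmul (L.restrict D.ι) (N.restrict D.ι) ⊤ (res L hT l) (res N hT n)) =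
      res (CohB1.tensorMod L N) hT (SecTwist.tmul L N V l n) :=
    (LTensor.restrictHom_tmul D.ι L N ⊤ (res L hT l) (res N hT n)).trans
      (SecTwist.map_tmul L N (homOfLE hT) l n).symm
  change IsUnit (M := Γ(D.toScheme, ⊤)) ((Scheme.Modules.restrictUnitIso D.ι).hom.app ⊤ (e.hom.app (D.ι ''ᵁ ⊤) ((LTensor.restrictIso D.ι L N).hom.app ⊤ (SecTwist.tmul (L.restrict D.ι) (N.restrict D.ι) ⊤ (res L hT l) (res N hT n)))))
  rw [h1]
  have h2 : e.hom.app (D.ι ''ᵁ ⊤) (res (CohB1.tensorMod L N) hT (SecTwist.tmul L N V l n)) = resO hT c :=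
    NatTrans.naturality_apply ((Scheme.Modules.toPresheaf _).map e.hom) (homOfLE hT).op (SecTwist.tmul L N V l n)
  rw [h2]
  refine IsUnit.map (D.ι.appIso ⊤).hom.hom ?_
  have : resO hT c = resO ((D.ι_image_le ⊤)) (resO hDV c) := (resO_resO hDV (D.ι_image_le ⊤) c).symm
  rw [this]
  exact (LQcoh.isUnit_resO V c).map _

end Groth.Agent.S2122
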