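import Groth.Statements.S2126
import Groth.Agent.Lib.LAmple

set_option autoImplicit false
universe u
open CategoryTheory AlgebraicGeometry
open Mor

namespace Groth.Agent.S2126

/-- Let `X` be a quasi-compact scheme and `L` an invertible `O_X`-module. Then `L` is ample if and only
if the opens `X_s`, for `s` a global section of some positive tensor power of `L`, form a basis for
the topology of `X`. -/
theorem result {X : Scheme.{u}} [CompactSpace X] (L : X.Modules) (hL : PicF.IsInvertible L) :
    CohB1.IsAmple L ↔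
      TopologicalSpace.Opens.IsBasis
        {U : X.Opens | ∃ (n : ℕ) (s : Coh.structureModule X ⟶ CohB1.tensorPow L (n + 1)), U = CohB1.genLocus _ s} := by
  constructor
  · intro h
    refine TopologicalSpace.Opens.isBasis_iff_nbhd.2 fun {U x} hx => ?_
    obtain ⟨n, s, hs, hle, -⟩ := LAmple.basis_of_ample h hx
    exact ⟨_, ⟨n, s, rfl⟩, hs, hle⟩
  · intro h
    refine ⟨hL, inferInstance, fun x => ?_⟩
    obtain ⟨A, hA, hxA, -⟩ := exists_isAffineOpen_mem_and_subset (U := (⊤ : X.Opens)) (x := x) trivial
    obtain ⟨_, ⟨n, s, rfl⟩, hxs, hle⟩ := TopologicalSpace.Opens.isBasis_iff_nbhd.1 h hxA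
    refine ⟨n, s, hxs, ?_⟩
    have := LAmple.isAffineOpen_genLocus_inf (LInv.isInvertible_tensorPow hL (n + 1)) s hA
    rwa [inf_eq_left.2 (show CohB1.genLocus _ s ≤ A from hle)] at this

end Groth.Agent.S2126
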