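import Groth.Agent.Lib.LSumSec
import Mathlib

set_option autoImplicit false
universe u
open CategoryTheory Limits AlgebraicGeometry Opposite TopologicalSpace

namespace Groth.Agent.S2127

open Groth.Agent.LQcoh Groth.Agent.LInv

/-- Let `X` be a quasi-affine scheme, `L` an invertible `O_X`-module, `W ⊆ X` open and `E ⊆ W` finite.
Then there is a global section `s` of `L` with `X_s` affine and `E ⊆ X_s ⊆ W`. -/
theorem result {X : Scheme.{u}} [X.IsQuasiAffine] (L : X.Modules) (hL : PicF.IsInvertible L)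
    (W : X.Opens) (E : Set X) (hE : E.Finite) (hEW : E ⊆ W) :
    ∃ s : Coh.structureModule X ⟶ L, IsAffineOpen (CohB1.genLocus L s) ∧ E ⊆ CohB1.genLocus L s ∧
      CohB1.genLocus L s ≤ W := by
  refine LSumSec.exists_finite_subset hL E hE W hEW fun x V hx => ?_
  obtain ⟨U, σ, hxU, hσ⟩ := (isInvertible_iff L).1 hL x
  obtain ⟨_, ⟨_, ⟨r, hr, rfl⟩, rfl⟩, hxr, hrU⟩ := (Scheme.IsQuasiAffine.isBasis_basicOpen X).exists_subset_of_mem_open
    (show x ∈ ((U ⊓ V : X.Opens) : Set X) from ⟨hxU, hx⟩) (U ⊓ V).2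
  have hD : X.basicOpen r ≤ U := fun p hp => (hrU hp).1
  obtain ⟨t, ht⟩ := LAmple.exists_extend_fun hL r (LInv.iso (hσ.mono hD)).inv
  have hfull : (X.basicOpen r).ι ''ᵁ CohB1.genLocus _ (LInv.iso (hσ.mono hD)).inv = X.basicOpen r := by
    have h1 : (LInv.iso (hσ.mono hD)).inv = 𝟙 _ ≫ (LInv.iso (hσ.mono hD)).symm.hom := (Category.id_comp _).symm
    rw [h1, genLocus_comp_iso, genLocus_one]
    exact image_ι_top _
  rw [hfull] at ht
  exact ⟨t, ht ▸ hr, ht ▸ hxr, ht ▸ fun p hp => (hrU hp).2⟩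

end Groth.Agent.S2127
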