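import Groth.Statements.S2131
import Mathlib
import Groth.Agent.Lib.TorsionFreeEmbed

set_option autoImplicit false
universe u
open TensorProduct
open Groth.Agent.TorsionFreeEmbed
open CAlg

namespace Groth.Agent.S2131

/-- For an `R`-linear map from a finite module to a finitely presented module, the primes at which its
localization is bijective form an open subset of `Spec R`. -/
theorem result {R M N : Type u} [CommRing R] [AddCommGroup M] [Module R M] [Module.Finite R M]
    [AddCommGroup N] [Module R N] [Module.FinitePresentation R N] (φ : M →ₗ[R] N) :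
    IsOpen {p : PrimeSpectrum R | Function.Bijective (LocalizedModule.map p.asIdeal.primeCompl φ)} := by
  rw [isOpen_iff_forall_mem_open]
  intro p hp
  obtain ⟨r, hr, hbij⟩ := exists_bijective_map_powers p.asIdeal.primeCompl
    (LocalizedModule.mkLinearMap p.asIdeal.primeCompl M) (LocalizedModule.mkLinearMap p.asIdeal.primeCompl N) φ hp
  have hb := hbij r dvd_rfl
  refine ⟨PrimeSpectrum.basicOpen r, fun q hq => ⟨?_, ?_⟩, PrimeSpectrum.isOpen_basicOpen, hr⟩
  · rw [injective_iff_map_eq_zero]
    intro x hx
    induction x using LocalizedModule.induction_on with | _ m s =>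
    rw [LocalizedModule.map_mk] at hx
    obtain ⟨t, ht⟩ := LocalizedModule.mk_eq.mp (hx.trans (LocalizedModule.zero_mk s).symm)
    simp only [smul_zero] at ht
    have h0 : LocalizedModule.map (Submonoid.powers r) φ (LocalizedModule.mk (((t * s : q.asIdeal.primeCompl) : R) • m) 1) = 0 := by
      rw [LocalizedModule.map_mk, map_smul, Submonoid.coe_mul, mul_smul]
      simp only [Submonoid.smul_def] at ht
      rw [ht, LocalizedModule.zero_mk]
    have := hb.1 (h0.trans (map_zero _).symm)
    obtain ⟨⟨_, k, rfl⟩, hk⟩ := LocalizedModule.mk_eq.mp (this.trans (LocalizedModule.zero_mk 1).symm)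
    simp only [one_smul, smul_zero, Submonoid.smul_def, smul_smul] at hk
    rw [← LocalizedModule.zero_mk s, LocalizedModule.mk_eq]
    refine ⟨⟨r ^ k * (t : R), q.asIdeal.primeCompl.mul_mem (q.asIdeal.primeCompl.pow_mem (show r ∈ q.asIdeal.primeCompl from hq) k) t.2⟩, ?_⟩
    simp only [smul_zero, Submonoid.smul_def, smul_smul]
    rw [mul_assoc]
    exact hk
  · intro y
    induction y using LocalizedModule.induction_on with | _ n s =>
    obtain ⟨z, hz⟩ := hb.2 (LocalizedModule.mk n 1)
    induction z using LocalizedModule.induction_on with | _ m u =>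
    rw [LocalizedModule.map_mk] at hz
    obtain ⟨⟨_, k, rfl⟩, hk⟩ := LocalizedModule.mk_eq.mp hz
    obtain ⟨_, l, rfl⟩ := u
    simp only [one_smul, Submonoid.smul_def, smul_smul] at hk
    refine ⟨LocalizedModule.mk (r ^ k • m) (⟨r ^ (k + l), q.asIdeal.primeCompl.pow_mem (show r ∈ q.asIdeal.primeCompl from hq) _⟩ * s), ?_⟩
    rw [LocalizedModule.map_mk, LocalizedModule.mk_eq, map_smul]
    refine ⟨1, ?_⟩
    simp only [one_smul, Submonoid.smul_def, Submonoid.coe_mul, smul_smul]
    rw [pow_add, mul_comm _ (s : R), mul_smul, mul_smul, hk, ← mul_smul]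

end Groth.Agent.S2131
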