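import Groth.Statements.S2137
import Mathlib
import Groth.Prelude.Def_DRing2
import Groth.Prelude.Def_DDual2
import Groth.Agent.Lib.H5DTenMix
import Groth.Agent.Lib.H5Perf
import Groth.Agent.Lib.H7PseudoPull
import Groth.Agent.Lib.PseudoCoherentBaseChange

set_option autoImplicit false
universe u
open Groth.Agent.PseudoCoherentBaseChange
open CategoryTheory Limits Pretriangulated HomologicalComplex Groth.Agent
open CategoryTheory
attribute [local instance] HasDerivedCategory.standard
open CAlg

namespace Groth.Agent.S2137

/-- Let `A → B` be a ring map and `K` an `m`-pseudo-coherent object of `D(A)`. Then `K ⊗^L_A B` is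
`m`-pseudo-coherent in `D(B)`. (Stated assuming the total left derived functor of base change exists
on `D(A)`, a fact not available as a library result here.) -/
theorem result {A B : Type u} [CommRing A] [CommRing B] (φ : A →+* B) [DRing.HasLBaseChange φ]
    (K : Dual.D A) (m : ℤ) (hK : DRing.IsPseudoCoherent A m K) :
    DRing.IsPseudoCoherent B m ((DRing.LBaseChange φ).obj K) := by
  obtain ⟨E, a, b, α, hE, hff, h1, h2⟩ := hK
  obtain ⟨P, q, hP, hq⟩ := H5KFlat.exists_nice_resolution (DerivedCategory.Q.objPreimage K)
  let e : DRing.toD P ≅ K := asIso (DerivedCategory.Q.map q) ≪≫ DerivedCategory.Q.objObjPreimageIso K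
  have := hP.kproj
  have hEk : CochainComplex.IsKProjective E :=
    H5Perf.isKProjective_of_vanishesOutside E a b hE (fun i => projective_finite_free _ (hff i))
  obtain ⟨f, hf⟩ := H5DTen.surj_of_kproj (α ≫ e.inv)
  have hcone : ∀ i, m ≤ i → (CochainComplex.mappingCone f).ExactAt i := by
    refine (mIso_iff_cone f m).1 ⟨fun i hi => ?_, ?_⟩
    · have := h1 i hi
      rw [hf, Functor.map_comp]
      infer_instance
    · have := h2
      rw [hf, Functor.map_comp]
      infer_instance
  let F := (ModuleCat.extendScalars.{u, u, u} φ).mapHomologicalComplex (ComplexShape.up ℤ)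
  have hKF : H7KFlatMod.KF A (CochainComplex.mappingCone f) :=
    H5KFlat.kflat_cone _ f (H5DTenMix.kflat_of_kproj E) hP.kflat
  have hcone' : ∀ i, m ≤ i → (CochainComplex.mappingCone (F.map f)).ExactAt i := fun i hi =>
    (H7PseudoPull.exactAt_extendScalars φ hKF hcone i hi).of_iso
      (CochainComplex.mappingCone.mapHomologicalComplexIso f (ModuleCat.extendScalars.{u, u, u} φ))
  obtain ⟨g1, g2⟩ := (mIso_iff_cone (F.map f) m).2 hcone'
  obtain ⟨eP⟩ := lBaseChange_iso φ P
  refine ⟨F.obj E, a, b, DerivedCategory.Q.map (F.map f) ≫ (eP.symm ≪≫ (DRing.LBaseChange φ).mapIso e).hom,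
    fun i hi => ?_, fun i => ?_, fun i hi => ?_, ?_⟩
  · exact (ModuleCat.extendScalars.{u, u, u} φ).map_isZero (hE i hi)
  · haveI := (hff i).1; haveI := (hff i).2
    exact finite_free_extend φ (E.X i)
  · have := g1 i hi
    rw [Functor.map_comp]
    infer_instance
  · have := g2
    rw [Functor.map_comp]
    infer_instance

end Groth.Agent.S2137
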