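import Groth.Statements.S2138
import Mathlib
import Groth.Agent.Lib.TorsionFreeEmbed
import Groth.Agent.Lib.SymbolicPowerFlat

set_option autoImplicit false
universe u
open TensorProduct Groth.Agent.TorsionFreeEmbed
open Groth.Agent.SymbolicPowerFlat
open CAlg

namespace Groth.Agent.S2138

/-- Let `R → S` be flat and `𝔭` a prime of `R` whose extension `𝔮 = 𝔭S` is prime. Then for every `n` the
extension to `S` of the symbolic power `𝔭^{(n)}` (the contraction of `𝔭ⁿR_𝔭`) equals the symbolic
power `𝔮^{(n)}`. -/
theorem result {R S : Type u} [CommRing R] [CommRing S] [Algebra R S] [Module.Flat R S]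
    (p : Ideal R) [p.IsPrime] [(p.map (algebraMap R S)).IsPrime] (n : ℕ) :
    (((p ^ n).map (algebraMap R (Localization.AtPrime p))).comap (algebraMap R (Localization.AtPrime p))).map
        (algebraMap R S) =
      (((p.map (algebraMap R S)) ^ n).map (algebraMap S (Localization.AtPrime (p.map (algebraMap R S))))).comap
        (algebraMap S (Localization.AtPrime (p.map (algebraMap R S)))) := by
  apply le_antisymm
  · rw [Ideal.map_le_iff_le_comap]
    intro x hx
    obtain ⟨s, hs, hsx⟩ := mem_sp.mp hx
    refine mem_sp.mpr ⟨algebraMap R S s, fun h => hs ?_, ?_⟩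
    · rw [← comap_map_eq_of_flat (S := S) p]; exact h
    · rw [← map_mul, ← Ideal.map_pow]
      exact Ideal.mem_map_of_mem _ hsx
  · intro y hy
    obtain ⟨t, ht, hty⟩ := mem_sp.mp hy
    refine cancel_sp p ht n y ?_
    rw [← Ideal.map_pow] at hty
    refine Ideal.map_mono ?_ hty
    intro x hx
    exact mem_sp.mpr ⟨1, fun h => (inferInstance : p.IsPrime).ne_top (p.eq_top_iff_one.mpr h), by simpa using hx⟩

end Groth.Agent.S2138
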