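import Groth.Statements.S2140
import Mathlib
import Groth.Agent.Lib.H2GenericFlat2

set_option autoImplicit false
universe u
open CAlg

namespace Groth.Agent.S2140

/-- Let `R → S` be an injective ring map of finite type between domains. Then there are nonzero `f ∈ R`
and `g ∈ S` such that `S_{fg}` is a finitely presented `R_f`-algebra. -/
theorem result {R S : Type u} [CommRing R] [IsDomain R] [CommRing S] [IsDomain S]
    [Algebra R S] [Algebra.FiniteType R S] (hinj : Function.Injective (algebraMap R S)) :
    ∃ (f : R) (g : S), f ≠ 0 ∧ g ≠ 0 ∧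
      ∀ (Rf Sfg : Type u) [CommRing Rf] [CommRing Sfg] [Algebra R Rf] [IsLocalization.Away f Rf]
        [Algebra S Sfg] [IsLocalization.Away (algebraMap R S f * g) Sfg] [Algebra Rf Sfg] [Algebra R Sfg]
        [IsScalarTower R S Sfg] [IsScalarTower R Rf Sfg], Algebra.FinitePresentation Rf Sfg := by
  obtain ⟨f, hf, -, -, hfp⟩ := H2GenericFlat.exists_algebra (R := R) S 1 one_ne_zero
  refine ⟨f, 1, hf, one_ne_zero, fun Rf Sfg _ _ _ _ _ _ _ _ _ _ => ?_⟩
  haveI : IsLocalization.Away (algebraMap R S f) Sfg := by
    have h : IsLocalization.Away (algebraMap R S f * 1) Sfg := inferInstance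
    rwa [mul_one] at h
  let eR : Localization.Away f ≃ₐ[R] Rf := IsLocalization.algEquiv (Submonoid.powers f) _ _
  let eS : Localization.Away (algebraMap R S f) ≃ₐ[S] Sfg :=
    IsLocalization.algEquiv (Submonoid.powers (algebraMap R S f)) _ _
  have h1 := RingHom.finitePresentation_respectsIso.2 _ eR.symm.toRingEquiv hfp
  have h2 := RingHom.finitePresentation_respectsIso.1 _ eS.toRingEquiv h1
  rw [← RingHom.finitePresentation_algebraMap]
  convert h2 using 1
  refine IsLocalization.ringHom_ext (Submonoid.powers f) (RingHom.ext fun r => ?_)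
  show algebraMap Rf Sfg (algebraMap R Rf r) = eS (Localization.awayMap (algebraMap R S) f (eR.symm (algebraMap R Rf r)))
  rw [eR.symm.commutes, Localization.awayMap, IsLocalization.Away.map, IsLocalization.map_eq, AlgEquiv.commutes,
    ← IsScalarTower.algebraMap_apply, ← IsScalarTower.algebraMap_apply]

end Groth.Agent.S2140
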