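import Groth.Statements.S2145
import Mathlib

set_option autoImplicit false
universe u
open CAlg

namespace Groth.Agent.S2145

section aux
variable {R S : Type u} [CommRing R] [CommRing S] [Algebra R S] (q : Ideal S) [q.IsPrime]

noncomputable def lf {g : S} {B : Type u} [CommRing B] [Algebra R B] (f : S →ₐ[R] B) (hu : IsUnit (f g)) :
    Localization.Away g →ₐ[R] B :=
  { IsLocalization.Away.lift (g := f.toRingHom) g hu with
    commutes' := fun r => by
      show IsLocalization.Away.lift g hu (algebraMap R (Localization.Away g) r) = _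
      rw [IsScalarTower.algebraMap_apply R S (Localization.Away g), IsLocalization.Away.lift_eq]
      exact f.commutes r }

@[simp] theorem lf_algebraMap {g : S} {B : Type u} [CommRing B] [Algebra R B] (f : S →ₐ[R] B) (hu : IsUnit (f g)) (x : S) :
    lf f hu (algebraMap S _ x) = f x :=
  IsLocalization.Away.lift_eq g hu x

noncomputable def can {g h : S} (hd : g ∣ h) : Localization.Away g →ₐ[R] Localization.Away h :=
  lf (IsScalarTower.toAlgHom R S (Localization.Away h))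
    (IsLocalization.Away.isUnit_of_dvd h hd)

@[simp] theorem can_algebraMap {g h : S} (hd : g ∣ h) (x : S) :
    can (R := R) hd (algebraMap S _ x) = algebraMap S (Localization.Away h) x := by
  exact lf_algebraMap _ _ x

theorem away_ext {g : S} {B : Type u} [CommRing B] [Algebra R B] {f₁ f₂ : Localization.Away g →ₐ[R] B}
    (h : ∀ x, f₁ (algebraMap S _ x) = f₂ (algebraMap S _ x)) (z : Localization.Away g) : f₁ z = f₂ z := by
  have : f₁.toRingHom = f₂.toRingHom := IsLocalization.ringHom_ext (Submonoid.powers g) (RingHom.ext h)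
  exact RingHom.congr_fun this z

@[simp] theorem can_can {g h k : S} (h₁ : g ∣ h) (h₂ : h ∣ k) (z : Localization.Away g) :
    can (R := R) h₂ (can (R := R) h₁ z) = can (R := R) (h₁.trans h₂) z :=
  away_ext (f₁ := (can h₂).comp (can h₁)) (f₂ := can (h₁.trans h₂)) (fun x => by simp) z

noncomputable def toL {g : S} (hg : g ∉ q) : Localization.Away g →ₐ[R] Localization.AtPrime q :=
  lf (IsScalarTower.toAlgHom R S (Localization.AtPrime q))
    ((IsLocalization.AtPrime.isUnit_to_map_iff _ q g).mpr hg)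

@[simp] theorem toL_algebraMap {g : S} (hg : g ∉ q) (x : S) :
    toL (R := R) q hg (algebraMap S _ x) = algebraMap S (Localization.AtPrime q) x := by
  exact lf_algebraMap _ _ x

theorem toL_can {g h : S} (hd : g ∣ h) (hg : g ∉ q) (hh : h ∉ q) (z : Localization.Away g) :
    toL (R := R) q hh (can (R := R) hd z) = toL (R := R) q hg z :=
  away_ext (f₁ := (toL q hh).comp (can hd)) (f₂ := toL q hg) (fun x => by simp) z

theorem surjAway {g : S} (z : Localization.Away g) :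
    ∃ (k : ℕ) (a : S), z * algebraMap S _ (g ^ k) = algebraMap S _ a := by
  obtain ⟨⟨a, ⟨_, k, rfl⟩⟩, h⟩ := IsLocalization.surj (Submonoid.powers g) z
  exact ⟨k, a, h⟩

theorem exists_num {g : S} (hg : g ∉ q) (z : Localization.Away g) (hz : IsUnit (toL (R := R) q hg z)) :
    ∃ (k : ℕ) (a : S), a ∉ q ∧ z * algebraMap S _ (g ^ k) = algebraMap S _ a := by
  obtain ⟨k, a, h⟩ := surjAway z
  refine ⟨k, a, (IsLocalization.AtPrime.isUnit_to_map_iff (Localization.AtPrime q) q a).mp ?_, h⟩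
  rw [← toL_algebraMap (R := R) q hg a, ← h, map_mul, toL_algebraMap]
  exact hz.mul ((IsLocalization.AtPrime.isUnit_to_map_iff _ q _).mpr fun hk => hg (‹q.IsPrime›.mem_of_pow_mem k hk))

theorem unit_can {g h : S} (z : Localization.Away g) {k : ℕ} {a : S}
    (e : z * algebraMap S _ (g ^ k) = algebraMap S _ a) (hd : g ∣ h) (ha : a ∣ h) :
    IsUnit (can (R := R) hd z) := by
  have := congrArg (can (R := R) hd) e
  rw [map_mul, can_algebraMap, can_algebraMap] at this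
  exact isUnit_of_mul_isUnit_left (this ▸ IsLocalization.Away.isUnit_of_dvd h ha)

theorem kill {g : S} (hg : g ∉ q) (s : Finset (Localization.Away g))
    (hs : ∀ z ∈ s, toL (R := R) q hg z = 0) :
    ∃ d, d ∉ q ∧ ∀ (h : S) (hd : g ∣ h), d ∣ h → ∀ z ∈ s, can (R := R) hd z = 0 := by
  classical
  induction s using Finset.induction_on with
  | empty => exact ⟨1, fun h1 => ‹q.IsPrime›.ne_top ((Ideal.eq_top_iff_one q).mpr h1), by simp⟩
  | insert z s hzs ih =>
    obtain ⟨d, hd, hds⟩ := ih fun w hw => hs w (Finset.mem_insert_of_mem hw)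
    obtain ⟨k, a, ha⟩ := surjAway z
    have h0 : algebraMap S (Localization.AtPrime q) a = 0 := by
      rw [← toL_algebraMap (R := R) q hg a, ← ha, map_mul, hs z (Finset.mem_insert_self z s), zero_mul]
    obtain ⟨c, hc⟩ := (IsLocalization.map_eq_zero_iff q.primeCompl _ a).mp h0
    refine ⟨c.1 * d, fun h1 => (‹q.IsPrime›.mem_or_mem h1).elim c.2 hd, fun h hgh hdh w hw => ?_⟩
    rcases Finset.mem_insert.mp hw with rfl | hw
    · have hu : IsUnit (algebraMap S (Localization.Away h) c.1 * algebraMap S (Localization.Away h) (g ^ k)) :=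
        (IsLocalization.Away.isUnit_of_dvd h ((dvd_mul_right _ _).trans hdh)).mul
          (by rw [map_pow]; exact (IsLocalization.Away.isUnit_of_dvd h hgh).pow k)
      refine hu.mul_left_eq_zero.mp ?_
      have := congrArg (can (R := R) hgh) ha
      rw [map_mul, can_algebraMap, can_algebraMap] at this
      rw [mul_left_comm, this, ← map_mul, hc, map_zero]
    · exact hds h hgh ((dvd_mul_left _ _).trans hdh) w hw

theorem sep {A : Type u} [CommRing A] [Algebra R A] [Algebra.FiniteType R A] {g : S} (hg : g ∉ q)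
    (φ₁ φ₂ : A →ₐ[R] Localization.Away g) (h : ∀ x, toL (R := R) q hg (φ₁ x) = toL (R := R) q hg (φ₂ x)) :
    ∃ d, d ∉ q ∧ ∀ (k : S) (hd : g ∣ k), d ∣ k → ∀ x, can (R := R) hd (φ₁ x) = can (R := R) hd (φ₂ x) := by
  classical
  obtain ⟨G, hG⟩ := ‹Algebra.FiniteType R A›.out
  obtain ⟨d, hd, hk⟩ := kill (R := R) q hg (G.image fun x => φ₁ x - φ₂ x) (by
    intro z hz
    obtain ⟨x, -, rfl⟩ := Finset.mem_image.mp hz
    rw [map_sub, h, sub_self])
  refine ⟨d, hd, fun k hgk hdk x => AlgHom.congr_fun (φ₁ := (can hgk).comp φ₁) (φ₂ := (can hgk).comp φ₂) ?_ x⟩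
  refine AlgHom.ext_of_adjoin_eq_top hG fun x hx => ?_
  have := hk k hgk hdk _ (Finset.mem_image.mpr ⟨x, hx, rfl⟩)
  rw [map_sub, sub_eq_zero] at this
  exact this

theorem spread {A : Type u} [CommRing A] [Algebra R A] [Algebra.FinitePresentation R A]
    (φ : A →ₐ[R] Localization.AtPrime q) :
    ∃ (g : S) (hg : g ∉ q) (ψ : A →ₐ[R] Localization.Away g), ∀ x, toL (R := R) q hg (ψ x) = φ x := by
  classical
  obtain ⟨n, π, hπ, hker⟩ := ‹Algebra.FinitePresentation R A›.out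
  obtain ⟨b, hb⟩ := IsLocalization.exist_integer_multiples_of_finite q.primeCompl (fun i => φ (π (MvPolynomial.X i)))
  choose a ha using hb
  let y : MvPolynomial (Fin n) R →ₐ[R] Localization.Away b.1 :=
    MvPolynomial.aeval fun i => algebraMap S _ (a i) * IsLocalization.Away.invSelf b.1
  have hy : ∀ p, toL (R := R) q b.2 (y p) = φ (π p) := by
    intro p
    have : (toL (R := R) q b.2).comp y = φ.comp π := by
      refine MvPolynomial.algHom_ext fun i => ?_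
      have hb1 : IsUnit (algebraMap S (Localization.AtPrime q) b.1) :=
        IsLocalization.map_units _ b
      refine hb1.mul_left_cancel ?_
      rw [AlgHom.comp_apply, AlgHom.comp_apply, MvPolynomial.aeval_X, ← toL_algebraMap (R := R) q b.2 b.1,
        ← map_mul, mul_left_comm, IsLocalization.Away.mul_invSelf, mul_one, toL_algebraMap (R := R) q b.2 (a i), toL_algebraMap (R := R) q b.2 b.1]
      exact (ha i).trans (Algebra.smul_def _ _)
    exact AlgHom.congr_fun this p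
  obtain ⟨K, hK⟩ := hker
  obtain ⟨d, hd, hk⟩ := kill (R := R) q b.2 (K.image y) (by
    intro z hz
    obtain ⟨p, hp, rfl⟩ := Finset.mem_image.mp hz
    rw [hy, show π p = 0 from RingHom.mem_ker.mp (hK.le (Ideal.subset_span hp)), map_zero])
  have hgq : b.1 * d ∉ q := fun h1 => (‹q.IsPrime›.mem_or_mem h1).elim b.2 hd
  have hle : RingHom.ker π.toRingHom ≤ RingHom.ker ((can (R := R) (dvd_mul_right b.1 d)).comp y).toRingHom := by
    rw [← hK]
    exact Ideal.span_le.mpr fun p hp => hk _ (dvd_mul_right b.1 d) (dvd_mul_left d b.1) _ (Finset.mem_image.mpr ⟨p, hp, rfl⟩)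
  refine ⟨_, hgq, AlgHom.liftOfSurjective π hπ _ hle, fun x => ?_⟩
  obtain ⟨p, rfl⟩ := hπ x
  rw [AlgHom.liftOfSurjective_apply, AlgHom.comp_apply, toL_can q _ b.2, hy]

end aux

/-- Let `S`, `S'` be finitely presented `R`-algebras and `𝔮 ⊆ S`, `𝔮' ⊆ S'` primes with `S_𝔮 ≅ S'_{𝔮'}`
as `R`-algebras. Then `S_g ≅ S'_{g'}` as `R`-algebras for some `g ∉ 𝔮`, `g' ∉ 𝔮'`. -/
theorem result {R S S' : Type u} [CommRing R] [CommRing S] [CommRing S'] [Algebra R S]
    [Algebra R S'] [Algebra.FinitePresentation R S] [Algebra.FinitePresentation R S'] (q : Ideal S) [q.IsPrime]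
    (q' : Ideal S') [q'.IsPrime] (e : Localization.AtPrime q ≃ₐ[R] Localization.AtPrime q') :
    ∃ (g : S) (g' : S'), g ∉ q ∧ g' ∉ q' ∧ Nonempty (Localization.Away g ≃ₐ[R] Localization.Away g') := by
  have am : ∀ x : S, IsUnit (algebraMap S (Localization.AtPrime q) x) ↔ x ∉ q :=
    fun x => IsLocalization.AtPrime.isUnit_to_map_iff _ q x
  have am' : ∀ x : S', IsUnit (algebraMap S' (Localization.AtPrime q') x) ↔ x ∉ q' :=
    fun x => IsLocalization.AtPrime.isUnit_to_map_iff _ q' x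
  obtain ⟨g₁, hg₁, φ, hφ⟩ := spread (R := R) q' (e.toAlgHom.comp (IsScalarTower.toAlgHom R S (Localization.AtPrime q)))
  obtain ⟨h₁, hh₁, ψ, hψ⟩ := spread (R := R) q (e.symm.toAlgHom.comp (IsScalarTower.toAlgHom R S' (Localization.AtPrime q')))
  replace hφ : ∀ x, toL (R := R) q' hg₁ (φ x) = e (algebraMap S _ x) := hφ
  replace hψ : ∀ x, toL (R := R) q hh₁ (ψ x) = e.symm (algebraMap S' _ x) := hψ
  -- Φ : S[1/h₁] → S'[1/(g₁ * a)]
  obtain ⟨k₁, a, haq, ha⟩ := exists_num (R := R) q' hg₁ (φ h₁) (by rw [hφ]; exact ((am h₁).mpr hh₁).map e)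
  have hG' : g₁ * a ∉ q' := fun h => (‹q'.IsPrime›.mem_or_mem h).elim hg₁ haq
  let Φ : Localization.Away h₁ →ₐ[R] Localization.Away (g₁ * a) :=
    lf (g := h₁) ((can (R := R) (dvd_mul_right g₁ a)).comp φ)
      (by rw [AlgHom.comp_apply]; exact unit_can (φ h₁) ha (dvd_mul_right g₁ a) (dvd_mul_left a g₁))
  have hΦ : ∀ z, toL (R := R) q' hG' (Φ z) = e (toL (R := R) q hh₁ z) :=
    away_ext (f₁ := (toL q' hG').comp Φ) (f₂ := e.toAlgHom.comp (toL q hh₁)) fun x => by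
      simp [Φ, toL_can q' _ hg₁, hφ]
  -- Ψ : S'[1/(g₁ * a)] → S[1/G₀]
  obtain ⟨k₂, c, hcq, hc⟩ := exists_num (R := R) q hh₁ (ψ (g₁ * a)) (by rw [hψ]; exact ((am' (g₁ * a)).mpr hG').map e.symm)
  have hG₀ : h₁ * c ∉ q := fun h => (‹q.IsPrime›.mem_or_mem h).elim hh₁ hcq
  let Ψ : Localization.Away (g₁ * a) →ₐ[R] Localization.Away (h₁ * c) :=
    lf (g := (g₁ * a)) ((can (R := R) (dvd_mul_right h₁ c)).comp ψ)
      (by rw [AlgHom.comp_apply]; exact unit_can (ψ (g₁ * a)) hc (dvd_mul_right h₁ c) (dvd_mul_left c h₁))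
  have hΨ : ∀ z, toL (R := R) q hG₀ (Ψ z) = e.symm (toL (R := R) q' hG' z) :=
    away_ext (f₁ := (toL q hG₀).comp Ψ) (f₂ := e.symm.toAlgHom.comp (toL q' hG')) fun x => by
      simp [Ψ, toL_can q _ hh₁, hψ]
  obtain ⟨d, hdq, hd⟩ := sep (R := R) q hG₀ ((Ψ.comp Φ).comp (IsScalarTower.toAlgHom R S _))
    (IsScalarTower.toAlgHom R S _) fun x => by simp [hΨ, hΦ]
  have hG : (h₁ * c * d) ∉ q := fun h => (‹q.IsPrime›.mem_or_mem h).elim hG₀ hdq
  let Ψ₁ : Localization.Away (g₁ * a) →ₐ[R] Localization.Away (h₁ * c * d) := (can (R := R) (dvd_mul_right (h₁ * c) d)).comp Ψ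
  have hΨ₁ : ∀ z, toL (R := R) q hG (Ψ₁ z) = e.symm (toL (R := R) q' hG' z) := fun z => by
    simp [Ψ₁, toL_can q _ hG₀, hΨ]
  have hid₁ : ∀ x, Ψ₁ (Φ (algebraMap S _ x)) = algebraMap S _ x := fun x =>
    (hd (h₁ * c * d) (dvd_mul_right _ _) (dvd_mul_left _ _) x).trans (can_algebraMap _ x)
  -- Φ₁ : S[1/(h₁ * c * d)] → S'[1/G'₁]
  obtain ⟨k₃, a₂, ha₂q, ha₂⟩ := exists_num (R := R) q' hG' (Φ (algebraMap S _ (h₁ * c * d)))
    (by rw [hΦ, toL_algebraMap]; exact ((am (h₁ * c * d)).mpr hG).map e)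
  have hG'₁ : (g₁ * a) * a₂ ∉ q' := fun h => (‹q'.IsPrime›.mem_or_mem h).elim hG' ha₂q
  let Φ₁ : Localization.Away (h₁ * c * d) →ₐ[R] Localization.Away ((g₁ * a) * a₂) :=
    lf (g := (h₁ * c * d)) ((can (R := R) (dvd_mul_right (g₁ * a) a₂)).comp (Φ.comp (IsScalarTower.toAlgHom R S _)))
      (by rw [AlgHom.comp_apply]; exact unit_can (Φ (algebraMap S _ (h₁ * c * d))) ha₂ (dvd_mul_right (g₁ * a) a₂) (dvd_mul_left a₂ (g₁ * a)))
  have hΦ₁ : ∀ z, toL (R := R) q' hG'₁ (Φ₁ z) = e (toL (R := R) q hG z) :=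
    away_ext (f₁ := (toL q' hG'₁).comp Φ₁) (f₂ := e.toAlgHom.comp (toL q hG)) fun x => by
      simp [Φ₁, toL_can q' _ hG', hΦ]
  obtain ⟨d₂, hd₂q, hd₂⟩ := sep (R := R) q' hG'₁ ((Φ₁.comp Ψ₁).comp (IsScalarTower.toAlgHom R S' _))
    (IsScalarTower.toAlgHom R S' _) fun x => by simp [hΦ₁, hΨ₁]
  have hG'' : ((g₁ * a) * a₂ * d₂) ∉ q' := fun h => (‹q'.IsPrime›.mem_or_mem h).elim hG'₁ hd₂q
  have hid₂ : ∀ x, can (R := R) (dvd_mul_right ((g₁ * a) * a₂) d₂) (Φ₁ (Ψ₁ (algebraMap S' _ x))) = algebraMap S' _ x :=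
    fun x => (hd₂ ((g₁ * a) * a₂ * d₂) (dvd_mul_right _ _) (dvd_mul_left _ _) x).trans (can_algebraMap _ x)
  -- the inverse pair
  obtain ⟨k₄, n, hnq, hn⟩ := exists_num (R := R) q hG (Ψ₁ (algebraMap S' _ ((g₁ * a) * a₂ * d₂)))
    (by rw [hΨ₁, toL_algebraMap]; exact ((am' ((g₁ * a) * a₂ * d₂)).mpr hG'').map e.symm)
  have hG₃ : (h₁ * c * d) * n ∉ q := fun h => (‹q.IsPrime›.mem_or_mem h).elim hG hnq
  let Ψ₃ : Localization.Away ((g₁ * a) * a₂ * d₂) →ₐ[R] Localization.Away ((h₁ * c * d) * n) :=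
    lf (g := ((g₁ * a) * a₂ * d₂)) ((can (R := R) (dvd_mul_right (h₁ * c * d) n)).comp (Ψ₁.comp (IsScalarTower.toAlgHom R S' _)))
      (by rw [AlgHom.comp_apply]; exact unit_can (Ψ₁ (algebraMap S' _ ((g₁ * a) * a₂ * d₂))) hn (dvd_mul_right (h₁ * c * d) n) (dvd_mul_left n (h₁ * c * d)))
  let χ : Localization.Away (h₁ * c * d) →ₐ[R] Localization.Away ((g₁ * a) * a₂ * d₂) := (can (R := R) (dvd_mul_right ((g₁ * a) * a₂) d₂)).comp Φ₁
  have hu : IsUnit (χ.comp (IsScalarTower.toAlgHom R S (Localization.Away (h₁ * c * d))) ((h₁ * c * d) * n)) := by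
    have hGu : IsUnit (χ (algebraMap S _ (h₁ * c * d))) := (IsLocalization.Away.algebraMap_isUnit (h₁ * c * d)).map χ
    have hnu : IsUnit (χ (algebraMap S _ n)) := by
      rw [← hn, map_mul, show χ (Ψ₁ (algebraMap S' _ ((g₁ * a) * a₂ * d₂))) = algebraMap S' _ ((g₁ * a) * a₂ * d₂) from hid₂ ((g₁ * a) * a₂ * d₂)]
      exact (IsLocalization.Away.algebraMap_isUnit ((g₁ * a) * a₂ * d₂)).mul (by rw [map_pow, map_pow]; exact hGu.pow _)
    simpa using hGu.mul hnu
  let Φ₃ : Localization.Away ((h₁ * c * d) * n) →ₐ[R] Localization.Away ((g₁ * a) * a₂ * d₂) :=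
    lf (g := ((h₁ * c * d) * n)) (χ.comp (IsScalarTower.toAlgHom R S (Localization.Away (h₁ * c * d)))) hu
  have hΦ₃ : ∀ z, Φ₃ (can (R := R) (dvd_mul_right (h₁ * c * d) n) z) = χ z :=
    away_ext (f₁ := Φ₃.comp (can (dvd_mul_right (h₁ * c * d) n))) (f₂ := χ) fun x => by simp [Φ₃]
  have hΨ₃ : ∀ z, Ψ₃ (can (R := R) ((dvd_mul_right (g₁ * a) a₂).trans (dvd_mul_right ((g₁ * a) * a₂) d₂)) z) =
      can (R := R) (dvd_mul_right (h₁ * c * d) n) (Ψ₁ z) :=
    away_ext (f₁ := Ψ₃.comp (can ((dvd_mul_right (g₁ * a) a₂).trans (dvd_mul_right ((g₁ * a) * a₂) d₂))))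
      (f₂ := (can (dvd_mul_right (h₁ * c * d) n)).comp Ψ₁) fun x => by simp [Ψ₃]
  refine ⟨(h₁ * c * d) * n, ((g₁ * a) * a₂ * d₂), hG₃, hG'', ⟨AlgEquiv.ofAlgHom Φ₃ Ψ₃ (AlgHom.ext ?_) (AlgHom.ext ?_)⟩⟩
  · refine away_ext (f₁ := Φ₃.comp Ψ₃) (f₂ := AlgHom.id R _) fun x => ?_
    have h3 : Ψ₃ (algebraMap S' _ x) = can (R := R) (dvd_mul_right (h₁ * c * d) n) (Ψ₁ (algebraMap S' _ x)) := by simp [Ψ₃]
    rw [AlgHom.comp_apply, h3, hΦ₃, AlgHom.id_apply]
    exact hid₂ x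
  · refine away_ext (f₁ := Ψ₃.comp Φ₃) (f₂ := AlgHom.id R _) fun x => ?_
    have h3 : Φ₃ (algebraMap S _ x) =
        can (R := R) ((dvd_mul_right (g₁ * a) a₂).trans (dvd_mul_right ((g₁ * a) * a₂) d₂)) (Φ (algebraMap S _ x)) := by
      simp [Φ₃, χ, Φ₁]
    rw [AlgHom.comp_apply, h3, hΨ₃, hid₁, can_algebraMap, AlgHom.id_apply]

end Groth.Agent.S2145
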