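import Groth.Statements.S2148
import Mathlib
import Groth.Agent.Lib.KerDerivation

set_option autoImplicit false
universe u
open Polynomial
open Groth.Agent.KerDerivation
open CAlg

namespace Groth.Agent.S2148

/-- Let `k` be a perfect field of characteristic `p > 0` and `K` an extension field of `k`. For `a ∈ K`,
the differential `da` vanishes in `Ω_{K/k}` if and only if `a` is a `p`-th power in `K`. -/
theorem result {k K : Type u} [Field k] [Field K] [Algebra k K] (p : ℕ) [Fact p.Prime]
    [CharP k p] [PerfectRing k p] (a : K) :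
    KaehlerDifferential.D k K a = 0 ↔ ∃ b : K, b ^ p = a := by
  have hp : p.Prime := Fact.out
  haveI : CharP K p := charP_of_injective_algebraMap (algebraMap k K).injective p
  constructor
  · intro hD
    by_contra hne
    let P : Set (IntermediateField k K) := {F | (∀ x : K, x ^ p ∈ F) ∧ a ∉ F}
    let Kp : IntermediateField k K := IntermediateField.adjoin k (Set.range fun x : K => x ^ p)
    have hKp : ∀ y ∈ Kp, ∃ b : K, b ^ p = y := by
      intro y hy
      induction hy using IntermediateField.adjoin_induction with
      | mem z hz => exact hz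
      | algebraMap r =>
        obtain ⟨s, rfl⟩ := surjective_frobenius k p r
        exact ⟨algebraMap k K s, by rw [frobenius_def, map_pow]⟩
      | add z w _ _ hz hw => obtain ⟨b, rfl⟩ := hz; obtain ⟨b', rfl⟩ := hw; exact ⟨b + b', add_pow_char _ _ p⟩
      | inv z _ hz => obtain ⟨b, rfl⟩ := hz; exact ⟨b⁻¹, inv_pow _ _⟩
      | mul z w _ _ hz hw => obtain ⟨b, rfl⟩ := hz; obtain ⟨b', rfl⟩ := hw; exact ⟨b * b', mul_pow _ _ _⟩
    have hKpP : Kp ∈ P := ⟨fun x => IntermediateField.subset_adjoin k _ ⟨x, rfl⟩, fun h => hne (hKp a h)⟩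
    obtain ⟨F, -, hF⟩ := zorn_le_nonempty₀ P (fun c hcP hc y hy => by
      refine ⟨⨆ G : c, (G : IntermediateField k K), ⟨fun x => ?_, ?_⟩, fun z hz => le_iSup (fun G : c => (G : IntermediateField k K)) ⟨z, hz⟩⟩
      · exact le_iSup (fun G : c => (G : IntermediateField k K)) ⟨y, hy⟩ ((hcP hy).1 x)
      · haveI : Nonempty c := ⟨⟨y, hy⟩⟩
        intro hx
        rw [← SetLike.mem_coe, IntermediateField.coe_iSup_of_directed hc.directed, Set.mem_iUnion] at hx
        obtain ⟨G, hG⟩ := hx
        exact (hcP G.2).2 hG) Kp hKpP
    obtain ⟨hFp, haF⟩ := hF.prop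
    have hroot : ∀ b : K, algebraMap F K ⟨b ^ p, hFp b⟩ = b ^ p := fun b => rfl
    let Fa := IntermediateField.adjoin F ({a} : Set K)
    have harange : a ∉ (algebraMap F K).range := by rintro ⟨z, rfl⟩; exact haF z.2
    have hFa : Module.finrank F Fa = p := finrank_adjoin_pth_root p (hroot a) harange
    have htop : Fa = ⊤ := by
      rw [eq_top_iff]
      intro b _
      by_cases hb : b ∈ F
      · exact Fa.algebraMap_mem ⟨b, hb⟩
      let Fb := IntermediateField.adjoin F ({b} : Set K)
      have hbrange : b ∉ (algebraMap F K).range := by rintro ⟨z, rfl⟩; exact hb z.2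
      have hFb : Module.finrank F Fb = p := finrank_adjoin_pth_root p (hroot b) hbrange
      have hab : a ∈ Fb := by
        by_contra hc
        have hle : F ≤ Fb.restrictScalars k := fun z hz => Fb.algebraMap_mem ⟨z, hz⟩
        have := hF.le_of_ge (⟨fun x => hle (hFp x), hc⟩ : Fb.restrictScalars k ∈ P) hle
        exact hb (this (IntermediateField.mem_adjoin_simple_self F b))
      haveI : FiniteDimensional F Fb := Module.finite_of_finrank_pos (hFb ▸ hp.pos)
      have : Fa = Fb := IntermediateField.eq_of_le_of_finrank_le
        (IntermediateField.adjoin_simple_le_iff.mpr hab) (by rw [hFa, hFb])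
      rw [this]
      exact IntermediateField.mem_adjoin_simple_self F b
    have hintA : IsIntegral F a := ⟨X ^ p - C (⟨a ^ p, hFp a⟩ : F), monic_X_pow_sub_C _ hp.ne_zero, by simp⟩
    have hadj : Algebra.adjoin F ({a} : Set K) = ⊤ := by
      rw [← IntermediateField.adjoin_simple_toSubalgebra_of_isAlgebraic hintA.isAlgebraic]
      show Fa.toSubalgebra = ⊤
      rw [htop]; rfl
    have h0 : KaehlerDifferential.D F K a = 0 := by
      rw [show a = algebraMap K K a from rfl, ← KaehlerDifferential.map_D k F K K, hD, map_zero]
    haveI : Subsingleton Ω[K⁄F] := by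
      refine subsingleton_of_forall_eq 0 fun w => ?_
      have hz : KaehlerDifferential.D F K = 0 := Derivation.ext_of_adjoin_eq_top {a} hadj (by
        intro x hx; rw [Set.mem_singleton_iff.mp hx, h0]; rfl)
      have hw : w ∈ Submodule.span K (Set.range (KaehlerDifferential.D F K)) :=
        KaehlerDifferential.span_range_derivation F K ▸ Submodule.mem_top
      induction hw using Submodule.span_induction with
      | mem y hy => obtain ⟨z, rfl⟩ := hy; rw [hz]; rfl
      | zero => rfl
      | add y z _ _ hy hz => rw [hy, hz, add_zero]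
      | smul c y _ hy => rw [hy, smul_zero]
    haveI : Algebra.FormallyUnramified F K := ⟨inferInstance⟩
    haveI : Algebra.FiniteType F K := ⟨⟨{a}, by simpa using hadj⟩⟩
    haveI : Algebra.IsSeparable F K := Algebra.FormallyUnramified.isSeparable F K
    have hsep : IsSeparable F a := Algebra.IsSeparable.isSeparable F a
    have hirr : Irreducible (minpoly F a) := minpoly.irreducible hintA
    have hdeg : (minpoly F a).natDegree = p := by
      rw [← IntermediateField.adjoin.finrank hintA]; exact hFa
    have hmin : minpoly F a = X ^ p - C (⟨a ^ p, hFp a⟩ : F) := by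
      refine (Polynomial.eq_of_monic_of_dvd_of_natDegree_le (minpoly.monic hintA) (monic_X_pow_sub_C _ hp.ne_zero) (minpoly.dvd F a (by simp)) ?_).symm
      rw [hdeg, natDegree_X_pow_sub_C]
    have h2 : (X ^ p - C (⟨a ^ p, hFp a⟩ : F)).Separable := hmin ▸ hsep
    haveI : CharP F p := charP_of_injective_algebraMap (algebraMap k F).injective p
    rw [Polynomial.separable_def, derivative_sub, derivative_X_pow, derivative_C, sub_zero, CharP.cast_eq_zero,
      map_zero, zero_mul, isCoprime_zero_right] at h2
    exact (hmin ▸ hirr).not_isUnit h2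
  · rintro ⟨b, rfl⟩
    rw [Derivation.leibniz_pow, ← Nat.cast_smul_eq_nsmul K, CharP.cast_eq_zero, zero_smul]

end Groth.Agent.S2148
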