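import Groth.Statements.S2149
import Mathlib
import Groth.Prelude.Def_CAlgX
import Groth.Agent.Lib.EpiLocal

set_option autoImplicit false
universe u
open TensorProduct
open Groth.Agent.EpiLocal
open CAlg

namespace Groth.Agent.S2149

/-- Let `R → S` be a ring map and `u : M → M'` a map of `S`-modules. Then `u`, viewed as an `R`-linear
map, is universally injective exactly when, for every maximal ideal `𝔪` of `S`, the localized map
`M_𝔪 → M'_𝔪` is also universally injective as an `R`-linear map. -/
theorem result {R S M M' : Type u} [CommRing R] [CommRing S] [Algebra R S]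
    [AddCommGroup M] [Module S M] [Module R M] [IsScalarTower R S M] [AddCommGroup M'] [Module S M'] [Module R M']
    [IsScalarTower R S M'] (u : M →ₗ[S] M') :
    CAlgX.UniversallyInjective R (u.restrictScalars R) ↔
      ∀ (m : Ideal S) [m.IsMaximal],
        CAlgX.UniversallyInjective R ((LocalizedModule.map m.primeCompl u).restrictScalars R) := by
  have key : ∀ (m : Ideal S) [m.IsMaximal] (Q : Type u) [AddCommGroup Q] [Module R Q],
      IsLocalizedModule.map m.primeCompl (AlgebraTensorModule.rTensor R Q (LocalizedModule.mkLinearMap m.primeCompl M))
        (AlgebraTensorModule.rTensor R Q (LocalizedModule.mkLinearMap m.primeCompl M'))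
        (AlgebraTensorModule.rTensor R Q u) =
      AlgebraTensorModule.rTensor R Q ((LocalizedModule.map m.primeCompl u).restrictScalars S) := by
    intro m _ Q _ _
    apply IsLocalizedModule.linearMap_ext m.primeCompl
      (AlgebraTensorModule.rTensor R Q (LocalizedModule.mkLinearMap m.primeCompl M))
      (AlgebraTensorModule.rTensor R Q (LocalizedModule.mkLinearMap m.primeCompl M'))
    rw [IsLocalizedModule.map_comp]
    ext x q
    simp [LocalizedModule.map_mk]
  constructor
  · intro h m _ Q _ _
    have := IsLocalizedModule.map_injective m.primeCompl
      (AlgebraTensorModule.rTensor R Q (LocalizedModule.mkLinearMap m.primeCompl M))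
      (AlgebraTensorModule.rTensor R Q (LocalizedModule.mkLinearMap m.primeCompl M'))
      (AlgebraTensorModule.rTensor R Q u) (h Q)
    rw [key] at this
    exact this
  · intro h Q _ _
    refine injective_of_isLocalized_maximal (fun P _ => LocalizedModule P.primeCompl M ⊗[R] Q)
      (fun P _ => AlgebraTensorModule.rTensor R Q (LocalizedModule.mkLinearMap P.primeCompl M))
      (fun P _ => LocalizedModule P.primeCompl M' ⊗[R] Q)
      (fun P _ => AlgebraTensorModule.rTensor R Q (LocalizedModule.mkLinearMap P.primeCompl M'))
      (AlgebraTensorModule.rTensor R Q u) fun P _ => ?_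
    rw [key]
    exact h P Q

end Groth.Agent.S2149
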