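import Groth.Statements.S2152
import Mathlib

set_option autoImplicit false
set_option linter.all false
set_option backward.isDefEq.respectTransparency.types false
universe u
open CategoryTheory CategoryTheory.Limits AlgebraicGeometry
open Lim

namespace Groth.Agent.S2152

/-- Let `c` be a limit cone of a diagram of schemes indexed by a small cofiltered category with affine
transition morphisms. Then the image of `c` under the forgetful functor to topological spaces is a
limit cone: the underlying space of the limit scheme is the limit of the underlying spaces. -/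
theorem result {I : Type u} [SmallCategory I] [IsCofiltered I] (D : I ⥤ Scheme.{u})
    [∀ (i j : I) (f : i ⟶ j), IsAffineHom (D.map f)] (c : Limits.Cone D) (hc : Limits.IsLimit c) :
    Nonempty (Limits.IsLimit (Scheme.forgetToTop.mapCone c)) := by
  have inj : ∀ y z : c.pt, (∀ i, c.π.app i y = c.π.app i z) → y = z := by
    intro y z h
    refine (inseparable_iff_forall_isOpen.2 fun U hU => ?_).eq
    obtain ⟨s, hs, hsU⟩ := (TopologicalSpace.Opens.isBasis_iff_cover.1 (isBasis_preimage_isAffineOpen D c hc) ⟨U, hU⟩)
    constructor <;> intro hy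
    · have : y ∈ sSup s := hsU ▸ hy
      obtain ⟨W, hW, hyW⟩ := TopologicalSpace.Opens.mem_sSup.1 this
      obtain ⟨i, V, -, rfl⟩ := hs hW
      have : z ∈ sSup s := TopologicalSpace.Opens.mem_sSup.2 ⟨_, hW, show c.π.app i z ∈ V from h i ▸ hyW⟩
      exact ((SetLike.ext_iff.1 hsU.symm _).1 this)
    · have : z ∈ sSup s := hsU ▸ hy
      obtain ⟨W, hW, hyW⟩ := TopologicalSpace.Opens.mem_sSup.1 this
      obtain ⟨i, V, -, rfl⟩ := hs hW
      have : y ∈ sSup s := TopologicalSpace.Opens.mem_sSup.2 ⟨_, hW, show c.π.app i y ∈ V from (h i).symm ▸ hyW⟩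
      exact ((SetLike.ext_iff.1 hsU.symm _).1 this)
  refine (TopCat.nonempty_isLimit_iff_eq_induced (Scheme.forgetToTop.mapCone c) (Classical.choice ((CategoryTheory.Limits.Types.isLimit_iff _).2 ?_))).2 ?_
  · intro x hx
    have hx' : ∀ {i j : I} (f : i ⟶ j), D.map f (x i) = x j := fun f => hx f
    let m : ∀ {i j : I} (f : i ⟶ j), (D.obj j).residueField (x j) ⟶ (D.obj i).residueField (x i) := fun {i j} f =>
      ((D.obj j).residueFieldCongr (hx' f).symm).hom ≫ (D.map f).residueFieldMap (x i)
    have hm : ∀ {i j : I} (f : i ⟶ j), Spec.map (m f) ≫ (D.obj j).fromSpecResidueField (x j) =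
        (D.obj i).fromSpecResidueField (x i) ≫ D.map f := fun {i j} f => by
      rw [Spec.map_comp, Category.assoc, Scheme.residueFieldCongr_fromSpecResidueField, Scheme.Hom.SpecMap_residueFieldMap_fromSpecResidueField]
    let R : I ⥤ CommRingCat.{u}ᵒᵖ :=
      { obj i := Opposite.op ((D.obj i).residueField (x i))
        map f := (m f).op
        map_id i := by
          apply Quiver.Hom.unop_inj
          apply Spec.map_injective
          rw [← cancel_mono ((D.obj i).fromSpecResidueField (x i)), Quiver.Hom.unop_op, hm]
          simp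
        map_comp {i j k} f g := by
          apply Quiver.Hom.unop_inj
          apply Spec.map_injective
          rw [← cancel_mono ((D.obj k).fromSpecResidueField (x k)), Quiver.Hom.unop_op, hm, unop_comp, Quiver.Hom.unop_op,
            Quiver.Hom.unop_op, Spec.map_comp, Category.assoc, hm, ← Category.assoc, hm, Category.assoc, D.map_comp] }
    let E : I ⥤ Scheme.{u} := R ⋙ Scheme.Spec
    obtain ⟨cE, ⟨hcE⟩⟩ : ∃ cE : Cone E, Nonempty (IsLimit cE) :=
      ⟨Scheme.Spec.mapCone (limit.cone R), ⟨isLimitOfPreserves Scheme.Spec (limit.isLimit R)⟩⟩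
    haveI : ∀ i, IsAffine (E.obj i) := fun i => inferInstanceAs (IsAffine (Spec ((D.obj i).residueField (x i))))
    haveI : ∀ {i j : I} (f : i ⟶ j), IsAffineHom (E.map f) := fun f => inferInstance
    haveI : ∀ i, Nonempty (E.obj i) := fun i => inferInstanceAs (Nonempty (Spec ((D.obj i).residueField (x i))))
    haveI : ∀ i, CompactSpace (E.obj i) := fun i => inferInstance
    obtain ⟨p⟩ := Scheme.nonempty_of_isLimit E cE hcE
    let T : Cone D :=
      { pt := cE.pt
        π :=
          { app i := cE.π.app i ≫ (D.obj i).fromSpecResidueField (x i)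
            naturality i j f := by
              have hw : cE.π.app i ≫ Spec.map (m f) = cE.π.app j := cE.w f
              exact (Category.id_comp _).trans ((congrArg (fun k => k ≫ (D.obj j).fromSpecResidueField (x j)) hw.symm).trans
                ((Category.assoc _ _ _).trans ((congrArg (fun k => cE.π.app i ≫ k) (hm f)).trans (Category.assoc _ _ _).symm))) } }
    have hp : ∀ i, c.π.app i (hc.lift T p) = x i := fun i => by
      have h1 : (hc.lift T ≫ c.π.app i) p = T.π.app i p := congrArg (fun k => k p) (hc.fac T i)
      have h2 : T.π.app i = cE.π.app i ≫ (D.obj i).fromSpecResidueField (x i) := rfl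
      rw [h2, Scheme.Hom.comp_apply] at h1
      exact ((Scheme.Hom.comp_apply _ _ _).symm.trans h1).trans (Scheme.fromSpecResidueField_apply (x i) _)
    exact ⟨hc.lift T p, hp, fun y hy => inj _ _ fun i => (hy i).trans (hp i).symm⟩
  · refine le_antisymm (le_iInf fun i => continuous_iff_le_induced.1 (c.π.app i).continuous) ?_
    intro U hU
    obtain ⟨s, hs, hsU⟩ := TopologicalSpace.Opens.isBasis_iff_cover.1 (isBasis_preimage_isAffineOpen D c hc) ⟨U, hU⟩
    rw [show U = ⋃ W ∈ s, (W : Set c.pt) from by
      have := congrArg (fun W : c.pt.Opens => (W : Set c.pt)) hsU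
      simpa using this]
    refine @isOpen_biUnion _ _ (_) _ _ fun W hW => ?_
    obtain ⟨i, V, -, rfl⟩ := hs hW
    exact (iInf_le (fun j => TopologicalSpace.induced (X := c.pt) (fun y => c.π.app j y) (((D ⋙ Scheme.forgetToTop).obj j).str)) i) _ ⟨(V : Set (D.obj i)), V.isOpen, rfl⟩

end Groth.Agent.S2152
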