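import Groth.Statements.S2158
import Groth.Agent.Lib.H6.OmegaLocal

set_option autoImplicit false
set_option backward.isDefEq.respectTransparency.types false
set_option linter.all false
universe u
open CategoryTheory AlgebraicGeometry
open Mor

namespace Groth.Agent.S2158

theorem subsingleton_tilde_stalk {R : CommRingCat.{u}} (M : ModuleCat.{u} R) (q : PrimeSpectrum.Top R)
    {N : Type u} [AddCommGroup N] [Module R N] (g : M →ₗ[R] N) [IsLocalizedModule q.asIdeal.primeCompl g] :
    Subsingleton ((tilde M).presheaf.stalk q) ↔ Subsingleton N :=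
  (IsLocalizedModule.linearEquiv q.asIdeal.primeCompl (tilde.toStalk M q).hom g).toEquiv.subsingleton_congr

open IsLocalRing in
theorem stalk_iff {X S : Scheme.{u}} (f : X ⟶ S) [QuasiSeparated f] {A : X.Opens} (hA : IsAffineOpen A) {B : S.Opens}
    (hB : IsAffineOpen B) (e : A ≤ f ⁻¹ᵁ B) (x : X) (hx : x ∈ A) :
    Subsingleton ((Omega.sheaf f).presheaf.stalk x) ↔
      letI := ((f.appLE B A e) ≫ X.presheaf.germ A x hx).hom.toAlgebra
      Algebra.FormallyUnramified Γ(S, B) (X.presheaf.stalk x) := by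
  letI iBA := (f.appLE B A e).hom.toAlgebra
  letI iBx := ((f.appLE B A e) ≫ X.presheaf.germ A x hx).hom.toAlgebra
  letI iAx := (X.presheaf.germ A x hx).hom.toAlgebra
  haveI : IsScalarTower Γ(S, B) Γ(X, A) (X.presheaf.stalk x) := IsScalarTower.of_algebraMap_eq' rfl
  let p : (Spec Γ(X, A) : Scheme.{u}) := hA.primeIdealOf ⟨x, hx⟩
  haveI hl : IsLocalization.AtPrime (X.presheaf.stalk x) p.asIdeal := hA.isLocalization_stalk ⟨x, hx⟩
  have hp : hA.fromSpec p = x := hA.fromSpec_primeIdealOf ⟨x, hx⟩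
  obtain ⟨φ⟩ := H6.OmegaLocal.exists_omega_affine f hA hB e
  let M := ModuleCat.of Γ(X, A) (Ω[Γ(X, A)⁄Γ(S, B)])
  let T := Scheme.Modules.toPresheaf (Spec Γ(X, A)) ⋙ TopCat.Presheaf.stalkFunctor Ab.{u} p
  let i₁ : (tilde M).presheaf.stalk p ≅ (Omega.sheaf f).presheaf.stalk (hA.fromSpec p) :=
    (T.mapIso φ).symm ≪≫ (Scheme.Modules.restrictStalkNatIso hA.fromSpec p).app (Omega.sheaf f)
  have h1 : Subsingleton ((Omega.sheaf f).presheaf.stalk x) ↔ Subsingleton ((tilde M).presheaf.stalk p) :=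
    ((eqToIso (by rw [hp] : (Omega.sheaf f).presheaf.stalk x = (Omega.sheaf f).presheaf.stalk (hA.fromSpec p))) ≪≫ i₁.symm).addCommGroupIsoToAddEquiv.toEquiv.subsingleton_congr
  haveI : IsLocalizedModule (R := Γ(X, A)) p.asIdeal.primeCompl (KaehlerDifferential.map Γ(S, B) Γ(S, B) Γ(X, A) (X.presheaf.stalk x)) := inferInstance
  exact h1.trans ((subsingleton_tilde_stalk M p (KaehlerDifferential.map Γ(S, B) Γ(S, B) Γ(X, A) (X.presheaf.stalk x))).trans ⟨fun h => ⟨h⟩, fun h => h.1⟩)

/-- Let `f : X → S` be locally of finite type and quasi-separated (so that the diagonal is quasi-compact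
and the prelude's sheaf of differentials is the conormal sheaf of the diagonal near every point), `x
∈ X`, `s = f(x)`. Then the stalk `Ω_{X/S,x}` vanishes if and only if `𝔪_s O_{X,x} = 𝔪_x` and
`κ(x)/κ(s)` is a finite separable extension. -/
theorem result {X S : Scheme.{u}} (f : X ⟶ S) [LocallyOfFiniteType f] [QuasiSeparated f] (x : X) :
    Subsingleton ((Omega.sheaf f).presheaf.stalk x) ↔
      ((IsLocalRing.maximalIdeal (S.presheaf.stalk (f.base x))).map (f.stalkMap x).hom =
          IsLocalRing.maximalIdeal (X.presheaf.stalk x) ∧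
        (f.residueFieldMap x).hom.Finite ∧
        @Algebra.IsSeparable (S.residueField (f.base x)) (X.residueField x) _ _ (f.residueFieldMap x).hom.toAlgebra) := by
  obtain ⟨B, hB, hxB, -⟩ := exists_isAffineOpen_mem_and_subset (X := S) (x := f x) (U := ⊤) trivial
  obtain ⟨A, hA, hxA, hAB⟩ := exists_isAffineOpen_mem_and_subset (X := X) (x := x) (U := f ⁻¹ᵁ B) hxB
  rw [stalk_iff f hA hB hAB x hxA]
  letI iBA := (f.appLE B A hAB).hom.toAlgebra
  letI iBx := ((f.appLE B A hAB) ≫ X.presheaf.germ A x hxA).hom.toAlgebra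
  letI iAx := (X.presheaf.germ A x hxA).hom.toAlgebra
  letI iBs := (S.presheaf.germ B (f x) hxB).hom.toAlgebra
  letI isx := (f.stalkMap x).hom.toAlgebra
  haveI : IsScalarTower Γ(S, B) Γ(X, A) (X.presheaf.stalk x) := IsScalarTower.of_algebraMap_eq' rfl
  haveI hls : IsLocalization.AtPrime (S.presheaf.stalk (f x)) (hB.primeIdealOf ⟨f x, hxB⟩).asIdeal := hB.isLocalization_stalk ⟨f x, hxB⟩
  haveI hlx : IsLocalization.AtPrime (X.presheaf.stalk x) (hA.primeIdealOf ⟨x, hxA⟩).asIdeal := hA.isLocalization_stalk ⟨x, hxA⟩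
  haveI : IsScalarTower Γ(S, B) (S.presheaf.stalk (f x)) (X.presheaf.stalk x) := IsScalarTower.of_algebraMap_eq' (by
    show ((f.appLE B A hAB) ≫ X.presheaf.germ A x hxA).hom = (S.presheaf.germ B (f x) hxB ≫ f.stalkMap x).hom
    congr 1
    rw [Scheme.Hom.germ_stalkMap, Scheme.Hom.appLE, Category.assoc, TopCat.Presheaf.germ_res])
  haveI : Algebra.FiniteType Γ(S, B) Γ(X, A) := LocallyOfFiniteType.finiteType_appLE f hB hA hAB
  haveI : Algebra.EssFiniteType Γ(X, A) (X.presheaf.stalk x) :=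
    .of_isLocalization _ (hA.primeIdealOf ⟨x, hxA⟩).asIdeal.primeCompl
  haveI : Algebra.EssFiniteType Γ(S, B) (X.presheaf.stalk x) := .comp _ Γ(X, A) _
  haveI : Algebra.EssFiniteType (S.presheaf.stalk (f x)) (X.presheaf.stalk x) := .of_comp Γ(S, B) _ _
  haveI : IsLocalHom (algebraMap (S.presheaf.stalk (f x)) (X.presheaf.stalk x)) :=
    inferInstanceAs (IsLocalHom (f.stalkMap x).hom)
  haveI : Algebra.FormallyUnramified Γ(S, B) (S.presheaf.stalk (f x)) :=
    .of_isLocalization (hB.primeIdealOf ⟨f x, hxB⟩).asIdeal.primeCompl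
  have hiff : Algebra.FormallyUnramified Γ(S, B) (X.presheaf.stalk x) ↔
      Algebra.FormallyUnramified (S.presheaf.stalk (f x)) (X.presheaf.stalk x) :=
    ⟨fun _ => .of_restrictScalars Γ(S, B) _ _, fun _ => .comp _ (S.presheaf.stalk (f x)) _⟩
  have hal : (IsLocalRing.ResidueField.instAlgebra : Algebra (IsLocalRing.ResidueField (S.presheaf.stalk (f x))) (IsLocalRing.ResidueField (X.presheaf.stalk x))) = (f.residueFieldMap x).hom.toAlgebra := by
    refine Algebra.algebra_ext _ _ fun r => ?_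
    obtain ⟨r, rfl⟩ := IsLocalRing.residue_surjective r
    rfl
  rw [hiff, Algebra.FormallyUnramified.iff_map_maximalIdeal_eq]
  constructor
  · rintro ⟨h1, h2⟩
    haveI : Algebra.FormallyUnramified (S.presheaf.stalk (f x)) (X.presheaf.stalk x) := .of_map_maximalIdeal h2
    refine ⟨h2, ?_, hal ▸ h1⟩
    exact RingHom.finite_algebraMap.2 (inferInstance : Module.Finite (IsLocalRing.ResidueField (S.presheaf.stalk (f x))) (IsLocalRing.ResidueField (X.presheaf.stalk x)))
  · rintro ⟨h1, -, h3⟩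
    exact ⟨hal.symm ▸ h3, h1⟩

end Groth.Agent.S2158
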