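import Groth.Statements.S2159
import Mathlib

set_option autoImplicit false
universe u
open TensorProduct
open CAlg

namespace Groth.Agent.S2159

/-- Given surjections `p₁ : P₁ → M` and `p₂ : P₂ → M` from projective modules, with kernels `K` and `L`,
there is an isomorphism `K ⊕ P₂ ≅ L ⊕ P₁`. -/
theorem result {R M P₁ P₂ : Type u} [CommRing R] [AddCommGroup M] [Module R M] [AddCommGroup P₁] [Module R P₁]
    [Module.Projective R P₁] [AddCommGroup P₂] [Module R P₂] [Module.Projective R P₂] (p₁ : P₁ →ₗ[R] M) (p₂ : P₂ →ₗ[R] M)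
    (h₁ : Function.Surjective p₁) (h₂ : Function.Surjective p₂) :
    Nonempty ((LinearMap.ker p₁ × P₂) ≃ₗ[R] (LinearMap.ker p₂ × P₁)) := by
  obtain ⟨f, hf⟩ := Module.projective_lifting_property p₂ p₁ h₂
  obtain ⟨g, hg⟩ := Module.projective_lifting_property p₁ p₂ h₁
  have hf' : ∀ a, p₂ (f a) = p₁ a := fun a => DFunLike.congr_fun hf a
  have hg' : ∀ b, p₁ (g b) = p₂ b := fun b => DFunLike.congr_fun hg b
  -- (k, b) ↦ (k + g b, b - f (k + g b))
  let fwd : (LinearMap.ker p₁ × P₂) →ₗ[R] (LinearMap.ker p₂ × P₁) :=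
    LinearMap.prod
      (LinearMap.codRestrict (LinearMap.ker p₂)
        ((LinearMap.snd R _ _) - f ∘ₗ ((Submodule.subtype _).coprod g)) (fun x => by
          have := x.1.2; simp at this
          simp [hf', hg', this]))
      ((Submodule.subtype _).coprod g)
  let bwd : (LinearMap.ker p₂ × P₁) →ₗ[R] (LinearMap.ker p₁ × P₂) :=
    LinearMap.prod
      (LinearMap.codRestrict (LinearMap.ker p₁)
        ((LinearMap.snd R _ _) - g ∘ₗ ((Submodule.subtype _).coprod f)) (fun x => by
          have := x.1.2; simp at this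
          simp [hf', hg', this]))
      ((Submodule.subtype _).coprod f)
  refine ⟨LinearEquiv.ofLinearMap fwd bwd ?_ ?_⟩
  · apply LinearMap.ext; intro x; ext <;> simp [fwd, bwd]
  · apply LinearMap.ext; intro x; ext <;> simp [fwd, bwd]

end Groth.Agent.S2159
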