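import Groth.Statements.S2160
import Mathlib
import Groth.Agent.Lib.TorsionFreeEmbed
import Groth.Agent.Lib.CAlgSmall1

set_option autoImplicit false
universe u
open TensorProduct Groth.Agent.TorsionFreeEmbed
open Groth.Agent.CAlgSmall1
open CAlg

namespace Groth.Agent.S2160

/-- Let `R` be a Noetherian local domain of Krull dimension at least `2`. Then every nonempty open
subset of `Spec R` is infinite. -/
theorem result {R : Type u} [CommRing R] [IsDomain R] [IsLocalRing R] [IsNoetherianRing R]
    (hdim : 2 ≤ ringKrullDim R) (U : Set (PrimeSpectrum R)) (hU : IsOpen U) (hne : U.Nonempty) : U.Infinite := by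
  obtain ⟨x, hx⟩ := hne
  obtain ⟨_, ⟨f, rfl⟩, hxf, hsub⟩ := PrimeSpectrum.isTopologicalBasis_basic_opens.exists_subset_of_mem_open hx hU
  have hf : f ≠ 0 := fun h => hxf (h ▸ x.asIdeal.zero_mem)
  intro hfin
  haveI := (IsLocalRing.maximalIdeal.isMaximal R).isPrime
  have hm : 2 ≤ (IsLocalRing.maximalIdeal R).height := by
    rw [← IsLocalRing.maximalIdeal_height_eq_ringKrullDim] at hdim
    exact WithBot.coe_le_coe.mp hdim
  refine heightOne_infinite (IsLocalRing.maximalIdeal R) hm ?_
  refine ((hfin.image PrimeSpectrum.asIdeal).union (heightOne_containing_finite hf)).subset ?_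
  rintro q ⟨hq, hh, -⟩
  by_cases hfq : f ∈ q
  · exact Or.inr ⟨hq, hh, hfq⟩
  · exact Or.inl ⟨⟨q, hq⟩, hsub hfq, rfl⟩

end Groth.Agent.S2160
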