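import Groth.Statements.S2163
import Mathlib
import Groth.Agent.Lib.MittagLeffler
import Groth.Agent.Lib.CoherentRings

set_option autoImplicit false
universe u
open TensorProduct
open Groth.Agent.CoherentRings
open CAlg

namespace Groth.Agent.S2163

/-- A ring `R` is coherent — every finitely generated ideal is a finitely presented module — if and only
if for every index set `A` (in the same universe) the product module `R^A` is flat. -/
theorem result {R : Type u} [CommRing R] :
    (∀ I : Ideal R, I.FG → Module.FinitePresentation R I) ↔ ∀ (A : Type u), Module.Flat R (A → R) := by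
  constructor
  · intro hR A
    rw [Module.Flat.iff_forall_isTrivialRelation]
    intro l f x hfx
    let φ : (Fin l → R) →ₗ[R] R := Fintype.linearCombination R f
    haveI := hR (LinearMap.range φ) (Module.Finite.iff_fg.mp inferInstance)
    have hK : (LinearMap.ker φ).FG := by
      rw [← LinearMap.ker_rangeRestrict φ]
      exact Module.FinitePresentation.fg_ker _ φ.surjective_rangeRestrict
    obtain ⟨s, m, hm⟩ := Submodule.fg_iff_exists_fin_generating_family.mp hK
    have hx : ∀ a, (fun j => x j a) ∈ LinearMap.ker φ := by
      intro a
      have := congrFun hfx a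
      simp only [Finset.sum_apply, Pi.smul_apply, smul_eq_mul, Pi.zero_apply] at this
      simp [φ, Fintype.linearCombination_apply, ← this, mul_comm]
    have hc : ∀ a, ∃ c : Fin s → R, ∑ i, c i • m i = fun j => x j a := fun a =>
      Submodule.mem_span_range_iff_exists_fun R |>.mp (hm ▸ hx a)
    choose c hc using hc
    refine ⟨s, fun j i => m i j, fun i a => c a i, fun j => funext fun a => ?_, fun i => ?_⟩
    · have := congrFun (hc a) j
      simp only [Finset.sum_apply, Pi.smul_apply, smul_eq_mul] at this ⊢
      rw [← this]
      simp [mul_comm]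
    · have : m i ∈ LinearMap.ker φ := hm ▸ Submodule.subset_span ⟨i, rfl⟩
      simpa [φ, Fintype.linearCombination_apply, mul_comm] using this
  · intro hA I hI
    haveI := Module.Finite.iff_fg.mpr hI
    obtain ⟨n, g, hg⟩ := Module.Finite.exists_fin' R I
    refine Module.finitePresentation_of_surjective g hg ?_
    let f : Fin n → R := fun j => (g (Pi.single j 1) : R)
    have hgx : ∀ k : Fin n → R, (g k : R) = ∑ j, f j * k j := by
      intro k
      conv_lhs => rw [pi_eq_sum_univ' k]
      simp [f, mul_comm]
    have hrel : ∑ j, f j • (fun k : ↥(LinearMap.ker g) => (k : Fin n → R) j) = 0 := by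
      funext k
      simp only [Finset.sum_apply, Pi.smul_apply, smul_eq_mul, Pi.zero_apply]
      rw [← hgx, show g k = 0 from k.2]; rfl
    obtain ⟨s, a, y, hy, ha⟩ := (Module.Flat.iff_forall_isTrivialRelation.mp (hA ↥(LinearMap.ker g))) hrel
    refine Submodule.fg_def.mpr ⟨Set.range (fun i => fun j => a j i), Set.finite_range _, le_antisymm ?_ ?_⟩
    · rw [Submodule.span_le]
      rintro _ ⟨i, rfl⟩
      exact Subtype.ext ((hgx _).trans (by simpa using ha i))
    · intro k hk
      have : k = ∑ i, y i ⟨k, hk⟩ • (fun j => a j i) := by
        funext j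
        have := congrFun (hy j) ⟨k, hk⟩
        simp only [Finset.sum_apply, Pi.smul_apply, smul_eq_mul] at this ⊢
        rw [this]
        simp [mul_comm]
      rw [this]
      exact Submodule.sum_mem _ fun i _ => Submodule.smul_mem _ _ (Submodule.subset_span ⟨i, rfl⟩)

end Groth.Agent.S2163
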