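import Groth.Statements.S2170
import Mathlib

set_option autoImplicit false
open Finset
open Models

namespace Groth.Agent.S2170

/-- Let A be a symmetric real n × n matrix with non-negative off-diagonal entries and m a vector with
positive entries such that for every i, ∑_{j ≠ i} A_{ij} m_j ≤ −A_{ii} m_i. Then the kernel of A is
the span of the vectors equal to m on an index set I and zero off I, for those I such that A_{ij} =
0 whenever i ∈ I and j ∉ I and such that equality holds in the above inequality for every i ∈ I. The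
published statement omits the symmetry of A (without which it fails) and applies it only to
symmetric matrices; stated here with A symmetric. -/
theorem result {n : ℕ} (A : Matrix (Fin n) (Fin n) ℝ) (m : Fin n → ℝ)
    (hsymm : A.IsSymm) (hA : ∀ i j, i ≠ j → 0 ≤ A i j) (hm : ∀ i, 0 < m i)
    (hle : ∀ i, ∑ j ∈ univ.erase i, A i j * m j ≤ -(A i i * m i)) :
    LinearMap.ker (Matrix.mulVecLin A) = Submodule.span ℝ
      {x : Fin n → ℝ | ∃ I : Finset (Fin n), (∀ i ∈ I, ∀ j ∉ I, A i j = 0) ∧
        (∀ i ∈ I, ∑ j ∈ univ.erase i, A i j * m j = -(A i i * m i)) ∧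
        x = fun i => if i ∈ I then m i else 0} := by
  classical
  apply le_antisymm
  · intro x hx
    have hx0 : ∀ i, ∑ j, A i j * x j = 0 := fun i => by
      have := congrFun (LinearMap.mem_ker.1 hx) i
      simpa [Matrix.mulVec, dotProduct] using this
    set u : Fin n → ℝ := fun i => x i / m i with hu
    have hxu : ∀ i, x i = u i * m i := fun i => (div_mul_cancel₀ _ (hm i).ne').symm
    set d : Fin n → ℝ := fun i => -(A i i * m i) - ∑ j ∈ univ.erase i, A i j * m j with hd
    have hd0 : ∀ i, 0 ≤ d i := fun i => sub_nonneg.2 (hle i)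
    have hsum : ∀ i, ∑ j, A i j * m j = -d i := fun i => by
      rw [← Finset.add_sum_erase _ _ (Finset.mem_univ i), hd]; ring
    set B : Fin n → Fin n → ℝ := fun i j => A i j * m i * m j * (u i - u j) ^ 2 with hB
    have hB0 : ∀ i j, 0 ≤ B i j := fun i j => by
      rcases eq_or_ne i j with rfl | hij
      · simp [hB]
      · exact mul_nonneg (mul_nonneg (mul_nonneg (hA i j hij) (hm i).le) (hm j).le) (sq_nonneg _)
    have key : ∑ i, ∑ j, B i j + 2 * ∑ i, d i * m i * u i ^ 2 = 0 := by
      have e1 : ∀ i, ∑ j, A i j * m i * m j * u i ^ 2 = -d i * m i * u i ^ 2 := fun i => by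
        have e := congrArg (fun t => t * (m i * u i ^ 2)) (hsum i)
        simp only [Finset.sum_mul] at e
        rw [mul_assoc, ← e]
        exact Finset.sum_congr rfl fun j _ => by ring
      have e2 : ∀ i, ∑ j, A i j * m i * m j * (u i * u j) = 0 := fun i => by
        have : ∑ j, A i j * m i * m j * (u i * u j) = x i * ∑ j, A i j * x j := by
          rw [Finset.mul_sum]
          exact Finset.sum_congr rfl fun j _ => by rw [hxu i, hxu j]; ring
        rw [this, hx0, mul_zero]
      have e3 : ∑ i, ∑ j, A i j * m i * m j * u j ^ 2 = ∑ i, ∑ j, A i j * m i * m j * u i ^ 2 := by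
        rw [Finset.sum_comm]
        exact Finset.sum_congr rfl fun i _ => Finset.sum_congr rfl fun j _ => by
          rw [hsymm.apply i j]; ring
      have e4 : ∑ i, ∑ j, B i j = ∑ i, ∑ j, A i j * m i * m j * u i ^ 2 +
          ∑ i, ∑ j, A i j * m i * m j * u j ^ 2 - 2 * ∑ i, ∑ j, A i j * m i * m j * (u i * u j) := by
        simp only [Finset.mul_sum, ← Finset.sum_add_distrib, ← Finset.sum_sub_distrib, hB]
        exact Finset.sum_congr rfl fun i _ => Finset.sum_congr rfl fun j _ => by ring
      rw [e4, e3, Finset.sum_congr rfl fun i _ => e1 i, Finset.sum_congr rfl fun i _ => e2 i]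
      simp only [Finset.sum_const_zero, mul_zero, sub_zero, neg_mul, Finset.sum_neg_distrib]
      ring
    have hp1 : 0 ≤ ∑ i, ∑ j, B i j := Finset.sum_nonneg fun i _ => Finset.sum_nonneg fun j _ => hB0 i j
    have hp2 : 0 ≤ ∑ i, d i * m i * u i ^ 2 :=
      Finset.sum_nonneg fun i _ => mul_nonneg (mul_nonneg (hd0 i) (hm i).le) (sq_nonneg _)
    have hz1 : ∀ i j, u i ≠ u j → A i j = 0 := fun i j hne => by
      have := (Finset.sum_eq_zero_iff_of_nonneg fun j _ => hB0 i j).1
        ((Finset.sum_eq_zero_iff_of_nonneg fun i _ => Finset.sum_nonneg fun j _ => hB0 i j).1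
          (by linarith) i (Finset.mem_univ i)) j (Finset.mem_univ j)
      simpa [hB, (hm i).ne', (hm j).ne', sub_eq_zero, hne] using this
    have hz2 : ∀ i, u i ≠ 0 → d i = 0 := fun i hne => by
      have := (Finset.sum_eq_zero_iff_of_nonneg fun i _ =>
        mul_nonneg (mul_nonneg (hd0 i) (hm i).le) (sq_nonneg (u i))).1 (by linarith) i (Finset.mem_univ i)
      simpa [(hm i).ne', hne] using this
    have hx' : x = ∑ c ∈ (univ.image u).erase 0,
        c • fun i => if i ∈ univ.filter (fun k => u k = c) then m i else 0 := by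
      funext i
      simp only [Finset.sum_apply, Pi.smul_apply, smul_eq_mul, mul_ite, mul_zero, Finset.mem_filter,
        Finset.mem_univ, true_and, Finset.sum_ite_eq]
      split_ifs with h
      · exact hxu i
      · have : u i = 0 := by simpa using h
        rw [hxu i, this, zero_mul]
    rw [hx']
    refine Submodule.sum_mem _ fun c hc => Submodule.smul_mem _ _ (Submodule.subset_span
      ⟨univ.filter fun k => u k = c, fun i hi j hj => hz1 i j ?_, fun i hi => ?_, rfl⟩)
    · simp only [Finset.mem_filter, Finset.mem_univ, true_and] at hi hj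
      exact fun e => hj (e ▸ hi)
    · simp only [Finset.mem_filter, Finset.mem_univ, true_and] at hi
      have := hz2 i (hi ▸ Finset.ne_of_mem_erase hc)
      rw [hd] at this
      linarith
  · rw [Submodule.span_le]
    rintro _ ⟨I, h1, h2, rfl⟩
    rw [SetLike.mem_coe, LinearMap.mem_ker]
    funext i
    simp only [Matrix.mulVecLin_apply, Matrix.mulVec, dotProduct, mul_ite, mul_zero, Pi.zero_apply]
    by_cases hi : i ∈ I
    · rw [Finset.sum_congr rfl (fun j _ => show (if j ∈ I then A i j * m j else 0) = A i j * m j by
        split_ifs with hj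
        · rfl
        · rw [h1 i hi j hj, zero_mul]), ← Finset.add_sum_erase _ _ (Finset.mem_univ i), h2 i hi]
      ring
    · refine Finset.sum_eq_zero fun j _ => ?_
      split_ifs with hj
      · rw [← hsymm.apply i j, h1 j hj i hi, zero_mul]
      · rfl

end Groth.Agent.S2170
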