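import Groth.Statements.S2171
import Mathlib

set_option autoImplicit false
open Finset
open Models

namespace Groth.Agent.S2171

/-- Let A be a symmetric real n by n matrix with non-negative off-diagonal entries, m a vector with
positive entries such that A m = 0, and assume no proper non-empty index set I has A i j = 0 for all
i in I and j outside I. Then x^t A x is at most 0 for every real vector x, with equality exactly
when x is a real multiple of m. -/
theorem result {n : ℕ} (A : Matrix (Fin n) (Fin n) ℝ)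
    (m : Fin n → ℝ) (hsymm : A.IsSymm) (hA : ∀ i j, i ≠ j → 0 ≤ A i j) (hm : ∀ i, 0 < m i)
    (hAm : A.mulVec m = 0)
    (hconn : ∀ I : Finset (Fin n), I.Nonempty → I ≠ univ → ∃ i ∈ I, ∃ j ∉ I, A i j ≠ 0)
    (x : Fin n → ℝ) :
    dotProduct x (A.mulVec x) ≤ 0 ∧ (dotProduct x (A.mulVec x) = 0 ↔ ∃ q : ℝ, x = q • m) := by
  classical
  have key : ∀ i, ∑ j, A i j * m j = 0 := fun i => congrFun hAm i
  set y : Fin n → ℝ := fun i => x i / m i
  have hxy : ∀ i, x i = y i * m i := fun i => (div_mul_cancel₀ _ (hm i).ne').symm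
  have hq : dotProduct x (A.mulVec x) = -(1 / 2 : ℝ) * ∑ i, ∑ j, A i j * m i * m j * (y i - y j) ^ 2 := by
    have e : ∀ i j, A i j * m i * m j * (y i - y j) ^ 2 =
        (y i ^ 2 * m i) * (A i j * m j) + (y j ^ 2 * m j) * (A j i * m i) - 2 * (x i * (A i j * x j)) := fun i j => by
      rw [hxy i, hxy j, hsymm.apply i j]; ring
    simp only [e, Finset.sum_sub_distrib, Finset.sum_add_distrib]
    rw [Finset.sum_comm (f := fun i j => (y j ^ 2 * m j) * (A j i * m i))]
    simp only [← Finset.mul_sum, key, mul_zero, Finset.sum_const_zero, dotProduct, Matrix.mulVec]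
    ring
  have hnn : ∀ i j, 0 ≤ A i j * m i * m j * (y i - y j) ^ 2 := fun i j => by
    rcases eq_or_ne i j with rfl | h
    · simp
    · exact mul_nonneg (mul_nonneg (mul_nonneg (hA i j h) (hm i).le) (hm j).le) (sq_nonneg _)
  have hS := Finset.sum_nonneg fun i (_ : i ∈ (Finset.univ : Finset (Fin n))) => Finset.sum_nonneg fun j (_ : j ∈ (Finset.univ : Finset (Fin n))) => hnn i j
  refine ⟨by rw [hq]; linarith, ⟨fun h => ?_, ?_⟩⟩
  · rcases isEmpty_or_nonempty (Fin n) with he | ⟨⟨i0⟩⟩
    · exact ⟨0, funext fun i => he.elim i⟩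
    refine ⟨y i0, funext fun i => ?_⟩
    suffices hi : y i = y i0 by rw [Pi.smul_apply, smul_eq_mul, ← hi, ← hxy]
    by_contra hne
    obtain ⟨a, ha, b, hb, hab⟩ := hconn (Finset.univ.filter fun i => y i = y i0) ⟨i0, by simp⟩ fun h' => hne (by
      have := Finset.mem_univ i
      rw [← h'] at this
      simpa using this)
    rw [Finset.mem_filter] at ha
    rw [Finset.mem_filter, not_and] at hb
    rw [hq] at h
    have h0 : ∑ i, ∑ j, A i j * m i * m j * (y i - y j) ^ 2 = 0 := by linarith
    have h1 := (Finset.sum_eq_zero_iff_of_nonneg fun i _ => Finset.sum_nonneg fun j _ => hnn i j).1 h0 a (Finset.mem_univ a)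
    have h2 := (Finset.sum_eq_zero_iff_of_nonneg fun j _ => hnn a j).1 h1 b (Finset.mem_univ b)
    have h3 : (y a - y b) ^ 2 ≠ 0 := pow_ne_zero _ (sub_ne_zero.2 fun e => hb (Finset.mem_univ b) (e.symm.trans ha.2))
    exact mul_ne_zero (mul_ne_zero (mul_ne_zero hab (hm a).ne') (hm b).ne') h3 h2
  · rintro ⟨q, rfl⟩
    rw [Matrix.mulVec_smul, hAm, smul_zero, dotProduct_zero]

end Groth.Agent.S2171
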