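import Groth.Statements.S2178
import Groth.Agent.Lib.NumTypeBasic
import Mathlib

set_option autoImplicit false
open Finset
open Models Models.NumericalType

namespace Groth.Agent.S2178

/-- The Picard group of a numerical type (the cokernel of the matrix (a i j / w i) acting on Z^n) has
free rank one: its rank as a Z-module is 1. -/
theorem result {n : ℕ} (T : Models.NumericalType n) : Module.finrank ℤ T.Pic = 1 := by

  classical
  let i₀ : Fin n := ⟨0, T.pos⟩
  let L := Matrix.mulVecLin T.picMatrix
  have hPm : ∀ x : Fin n → ℤ, ∀ i, T.w i * Matrix.mulVec T.picMatrix x i = Matrix.mulVec T.a x i := fun x i => by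
    simp only [Matrix.mulVec, dotProduct, Finset.mul_sum, Models.NumericalType.picMatrix]
    refine Finset.sum_congr rfl fun j _ => ?_
    rw [← mul_assoc, Int.mul_ediv_cancel' (T.w_dvd i j)]
  have hm : T.m ∈ LinearMap.ker L := by
    rw [LinearMap.mem_ker]
    funext i
    have h := hPm T.m i
    rw [T.mulVec_m, Pi.zero_apply, mul_eq_zero] at h
    exact h.resolve_left (T.w_pos i).ne'
  let e : LinearMap.ker L →ₗ[ℤ] ℤ := (LinearMap.proj i₀).comp (LinearMap.ker L).subtype
  have he : Function.Injective e := by
    rw [← LinearMap.ker_eq_bot, LinearMap.ker_eq_bot']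
    intro x hx
    have hax : ∀ i, ∑ j, T.a i j * (x : Fin n → ℤ) j = 0 := fun i => by
      have h := hPm (x : Fin n → ℤ) i
      rw [show Matrix.mulVec T.picMatrix (x : Fin n → ℤ) = 0 from x.2, Pi.zero_apply, mul_zero] at h
      exact h.symm
    obtain ⟨c, hc⟩ := NumTypeLib.prop_of_qf_nonneg T (fun i => ((x : Fin n → ℤ) i : ℚ)) (le_of_eq (by
      symm
      refine Finset.sum_eq_zero fun i _ => ?_
      have h : ∑ j, (T.a i j : ℚ) * ((x : Fin n → ℤ) j : ℚ) = 0 := by exact_mod_cast hax i
      calc _ = ((x : Fin n → ℤ) i : ℚ) * ∑ j, (T.a i j : ℚ) * ((x : Fin n → ℤ) j : ℚ) := by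
            rw [Finset.mul_sum]; exact Finset.sum_congr rfl fun j _ => by ring
        _ = 0 := by rw [h, mul_zero]))
    have hc0 : c = 0 := by
      have h := hc i₀
      rw [show (x : Fin n → ℤ) i₀ = 0 from hx, Int.cast_zero, eq_comm, mul_eq_zero] at h
      exact h.resolve_right (by exact_mod_cast (T.m_pos i₀).ne')
    refine Subtype.ext (funext fun i => ?_)
    have h := hc i
    rw [hc0, zero_mul] at h
    exact_mod_cast h
  have hker : Module.finrank ℤ (LinearMap.ker L) = 1 := by
    refine le_antisymm ((LinearMap.finrank_le_finrank_of_injective he).trans (by rw [Module.finrank_self])) ?_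
    haveI : Nontrivial (LinearMap.ker L) := ⟨⟨⟨T.m, hm⟩, 0, fun h => (T.m_pos i₀).ne' (congrFun (congrArg Subtype.val h) i₀)⟩⟩
    exact Module.finrank_pos
  have h1 := Submodule.finrank_quotient_add_finrank (LinearMap.ker L)
  rw [LinearEquiv.finrank_eq L.quotKerEquivRange, hker, Module.finrank_fin_fun] at h1
  have h2 := Submodule.finrank_quotient_add_finrank (LinearMap.range L)
  rw [Module.finrank_fin_fun] at h2
  show Module.finrank ℤ ((Fin n → ℤ) ⧸ LinearMap.range L) = 1
  omega

end Groth.Agent.S2178
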