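import Groth.Statements.S2179
import Groth.Agent.Lib.NumTypeBasic

set_option autoImplicit false
open Finset
open Models Models.NumericalType

namespace Groth.Agent.S2179

/-- For a numerical type T, the map Z^n -> Z^n multiplying the i-th coordinate by w i induces a
well-defined injective homomorphism from Pic(T), the cokernel of (a i j / w i), to the cokernel of
the matrix a. -/
theorem result {n : ℕ} (T : Models.NumericalType n) :
    ∃ f : T.Pic →+ T.CokerA, Function.Injective f ∧
      ∀ x : Fin n → ℤ, f (Submodule.Quotient.mk x) = Submodule.Quotient.mk (fun i => T.w i * x i) := by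
  have hPm : ∀ x : Fin n → ℤ, (fun i => T.w i * Matrix.mulVec T.picMatrix x i) = Matrix.mulVec T.a x := fun x => by
    funext i
    simp only [Matrix.mulVec, dotProduct, mul_sum, Models.NumericalType.picMatrix]
    refine sum_congr rfl fun j _ => ?_
    rw [← mul_assoc, Int.mul_ediv_cancel' (T.w_dvd i j)]
  let L : (Fin n → ℤ) →ₗ[ℤ] (Fin n → ℤ) := LinearMap.pi fun i => T.w i • LinearMap.proj i
  have hL : ∀ x, L x = fun i => T.w i * x i := fun x => by funext i; simp [L]
  have hle : LinearMap.range (Matrix.mulVecLin T.picMatrix) ≤ (LinearMap.range (Matrix.mulVecLin T.a)).comap L := by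
    rintro _ ⟨x, rfl⟩
    exact ⟨x, by rw [hL]; exact (hPm x).symm⟩
  refine ⟨(Submodule.mapQ _ _ L hle).toAddMonoidHom, ?_, fun x => ?_⟩
  · rw [injective_iff_map_eq_zero]
    intro z hz
    obtain ⟨x, rfl⟩ := Submodule.mkQ_surjective _ z
    rw [LinearMap.toAddMonoidHom_coe, Submodule.mkQ_apply, Submodule.mapQ_apply, Submodule.Quotient.mk_eq_zero] at hz
    obtain ⟨y, hy⟩ := hz
    rw [Submodule.mkQ_apply, Submodule.Quotient.mk_eq_zero]
    refine ⟨y, funext fun i => mul_left_cancel₀ (T.w_pos i).ne' ?_⟩
    have := congrFun ((hPm y).trans hy) i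
    rw [hL] at this
    exact this
  · rw [LinearMap.toAddMonoidHom_coe, Submodule.mapQ_apply, hL]

end Groth.Agent.S2179
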