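import Groth.Statements.S2182
import Groth.Agent.Lib.NumTypeBasic

set_option autoImplicit false
open Finset
open Models Models.NumericalType

namespace Groth.Agent.S2182

/-- In a numerical type, whenever a i j > 0 one has m i * a i j at most m j * |a j j| and m i * w i at
most m j * |a j j|. -/
theorem result {n : ℕ} (T : Models.NumericalType n) (i j : Fin n) (hij : 0 < T.a i j) :
    T.m i * T.a i j ≤ T.m j * |T.a j j| ∧ T.m i * T.w i ≤ T.m j * |T.a j j| := by
  have hne : i ≠ j := by
    rintro rfl
    rcases le_or_gt n 1 with hn | hn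
    · have : Subsingleton (Fin n) := ⟨fun a b => by omega⟩
      have h := NumTypeLib.row T i
      rw [Fintype.sum_subsingleton _ i] at h
      exact (mul_pos hij (T.m_pos i)).ne' h
    · linarith [NumTypeLib.diag_neg T hn i]
  have h1 := NumTypeLib.sum_le_row T j {i} (by simp [hne.symm])
  rw [sum_singleton, NumTypeLib.a_symm T j i] at h1
  have hm := T.m_pos i
  have hpos : 0 < T.m j * -T.a j j := by nlinarith [mul_pos hij hm]
  have haj : T.a j j < 0 := by
    by_contra hc
    nlinarith [mul_nonneg (T.m_pos j).le (not_lt.1 hc)]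
  rw [abs_of_neg haj]
  refine ⟨by linarith, ?_⟩
  have := mul_le_mul_of_nonneg_left (NumTypeLib.w_le T hij) hm.le
  linarith

end Groth.Agent.S2182
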