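import Groth.Statements.S2183
import Groth.Agent.Lib.NumTypeGenus
import Groth.Agent.S2182

set_option autoImplicit false
open Finset
open Models Models.NumericalType

namespace Groth.Agent.S2183

open Classical in
/-- Let T be a minimal numerical type with n > 1 indices and genus g at least 2, and let J be the set of
indices which are not (-2)-indices. Then J has at most 2g - 2 elements, and for j in J one has g j <
g, m j * |a j j| at most 6g - 6, and m i * a i j at most 6g - 6 for every index i. -/
theorem result {n : ℕ} (T : Models.NumericalType n) (hmin : T.IsMinimal) (hn : 1 < n) (hg : 2 ≤ T.genus) :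
    ((univ.filter fun j => ¬T.IsMinusTwo j).card : ℤ) ≤ 2 * T.genus - 2 ∧
      ∀ j, ¬T.IsMinusTwo j →
        T.g j < T.genus ∧ T.m j * |T.a j j| ≤ 6 * T.genus - 6 ∧
          ∀ i, T.m i * T.a i j ≤ 6 * T.genus - 6 := by
  have h2 := NumTypeLib.two_genus T
  refine ⟨?_, fun j hj => ?_⟩
  · classical
    have h3 : ((univ.filter fun j => ¬T.IsMinusTwo j).card : ℤ) ≤ ∑ i, NumTypeLib.term T i := by
      refine le_trans ?_ (sum_le_sum_of_subset_of_nonneg (subset_univ (univ.filter fun j => ¬T.IsMinusTwo j)) fun i _ _ => NumTypeLib.term_nonneg T hn hmin i)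
      rw [card_eq_sum_ones, Nat.cast_sum]
      exact sum_le_sum fun i hi => by simpa using NumTypeLib.term_one_le T hn hmin i (mem_filter.1 hi).2
    linarith
  have ht := NumTypeLib.term_le T hn hmin j
  have ht1 := NumTypeLib.term_one_le T hn hmin j hj
  have hd := NumTypeLib.diag_le T hn j
  have hw := T.w_pos j
  have hm := T.m_pos j
  have ha := NumTypeLib.diag_neg T hn j
  have hgj := T.g_nonneg j
  simp only [NumTypeLib.term] at ht ht1
  have hA : T.m j * |T.a j j| ≤ 6 * T.genus - 6 := by
    rw [abs_of_neg ha]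
    rcases eq_or_lt_of_le hgj with hg0 | hg1
    · rw [← hg0] at ht ht1
      have h3 : 3 * T.w j ≤ -T.a j j := by
        obtain ⟨q, hq⟩ := T.w_dvd j j
        rw [hq] at ht1 ⊢
        have : q ≤ -3 := by
          by_contra hc
          nlinarith [mul_le_mul_of_nonneg_left (show -2 ≤ q by omega) hw.le]
        nlinarith
      nlinarith [mul_le_mul_of_nonneg_left h3 hm.le]
    · nlinarith [mul_nonneg hm.le (mul_nonneg hw.le (show (0 : ℤ) ≤ T.g j - 1 by omega))]
  refine ⟨?_, hA, fun i => ?_⟩
  · rcases eq_or_lt_of_le hgj with hg0 | hg1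
    · omega
    · have h4 : 1 ≤ T.m j * T.w j := mul_pos hm hw
      nlinarith [mul_le_mul_of_nonneg_right h4 (show (0 : ℤ) ≤ T.g j - 1 by omega), mul_pos hm (neg_pos.2 ha)]
  · rcases eq_or_ne i j with rfl | hne
    · nlinarith
    · rcases eq_or_lt_of_le (T.offDiag_nonneg i j hne) with h0 | h0
      · rw [← h0]; linarith
      · exact le_trans (Groth.Agent.S2182.result T i j h0).1 hA

end Groth.Agent.S2183
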