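import Groth.Statements.S2188
import Groth.Agent.Lib.H4FerrandVasc

set_option autoImplicit false
universe u
open CategoryTheory
open LCI

namespace Groth.Agent.S2188

open Groth.Agent.RegLocal

set_option maxHeartbeats 400000

theorem img_mem {R : Type u} [CommRing R] {I : Ideal R} {k : ℕ} (y : Fin k → R) (hy : ∀ i, y i ∈ I)
    (z : R) (hz : z ∈ I) (h : z ∈ Ideal.span (Set.range y) ⊔ I ^ 2) :
    I.toCotangent ⟨z, hz⟩ ∈ Submodule.span (R ⧸ I) (Set.range fun i => I.toCotangent ⟨y i, hy i⟩) := by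
  obtain ⟨a, ha, b, hb, rfl⟩ := Submodule.mem_sup.mp h
  obtain ⟨c, rfl⟩ := Ideal.mem_span_range_iff_exists_fun.mp ha
  have e : I.toCotangent ⟨∑ i, c i * y i + b, hz⟩ = ∑ i, Ideal.Quotient.mk I (c i) • I.toCotangent ⟨y i, hy i⟩ := by
    have h1 : (∑ i, Ideal.Quotient.mk I (c i) • I.toCotangent ⟨y i, hy i⟩) = I.toCotangent (∑ i, c i • (⟨y i, hy i⟩ : I)) := by
      rw [map_sum]
      refine Finset.sum_congr rfl fun i _ => ?_
      rw [map_smul, ← Ideal.Quotient.algebraMap_eq, algebraMap_smul]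
    rw [h1, Ideal.toCotangent_eq]
    simpa using hb
  rw [e]
  exact sum_mem fun i _ => Submodule.smul_mem _ _ (Submodule.subset_span ⟨i, rfl⟩)

theorem list_range {R : Type u} [CommRing R] (zs : List R) :
    Ideal.span (Set.range zs.get) = Ideal.ofList zs := by
  rw [Set.range_list_get]

theorem result {R : Type u} [CommRing R]
    [IsNoetherianRing R] [IsLocalRing R] (I : Ideal R) (hI : I ≠ ⊤) (n : ℕ)
    (hpd : HasProjectiveDimensionLT (ModuleCat.of R I) n)
    (F G : Submodule (R ⧸ I) I.Cotangent) (hFG : IsCompl F G) (r : ℕ)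
    (e : F ≃ₗ[R ⧸ I] (Fin r → R ⧸ I)) :
    ∃ (x : Fin r → R) (hx : ∀ i, x i ∈ I), RingTheory.Sequence.IsRegular R (List.ofFn x) ∧
      Submodule.span (R ⧸ I) (Set.range fun i => I.toCotangent ⟨x i, hx i⟩) = F := by
  classical
  let b : Module.Basis (Fin r) (R ⧸ I) F := Module.Basis.ofEquivFun e
  choose ξ hξ using fun i => I.toCotangent_surjective (b i : I.Cotangent)
  let x : Fin r → R := fun i => ξ i
  have hx : ∀ i, x i ∈ I := fun i => (ξ i).2
  have hbF : Submodule.span (R ⧸ I) (Set.range fun i => I.toCotangent ⟨x i, hx i⟩) = F := by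
    have : (fun i => I.toCotangent ⟨x i, hx i⟩) = F.subtype ∘ b := funext fun i => hξ i
    rw [this, Set.range_comp, Submodule.span_image, b.span_eq, Submodule.map_top, Submodule.range_subtype]
  let G' : Ideal R := Submodule.map I.subtype ((G.restrictScalars R).comap I.toCotangent)
  have hG' : ∀ a, a ∈ G' ↔ ∃ h : a ∈ I, I.toCotangent ⟨a, h⟩ ∈ G := by
    intro a
    constructor
    · rintro ⟨⟨a, ha⟩, h, rfl⟩; exact ⟨ha, h⟩
    · rintro ⟨ha, h⟩; exact ⟨⟨a, ha⟩, h, rfl⟩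
  have hG2 : G' ≤ I := fun a ha => ((hG' a).mp ha).1
  have hG1 : I ^ 2 ≤ G' := fun a ha => (hG' a).mpr ⟨Ideal.pow_le_self two_ne_zero ha, by
    rw [(I.toCotangent_eq_zero ⟨a, _⟩).mpr ha]; exact zero_mem _⟩
  have hsp : Ideal.span (Set.range x) ⊔ G' = I := by
    refine le_antisymm (sup_le (Ideal.span_le.mpr (Set.range_subset_iff.mpr hx)) hG2) fun a ha => ?_
    have h1 : I.toCotangent ⟨a, ha⟩ ∈ F ⊔ G := by rw [hFG.sup_eq_top]; trivial
    obtain ⟨f, hf, g, hg, hfg⟩ := Submodule.mem_sup.mp h1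
    rw [← hbF, Submodule.mem_span_range_iff_exists_fun] at hf
    obtain ⟨c, hc⟩ := hf
    choose d hd using fun i => Ideal.Quotient.mk_surjective (c i)
    have h2 : I.toCotangent (⟨a, ha⟩ - ∑ i, d i • ξ i) = g := by
      rw [map_sub, map_sum, ← hfg]
      have : ∀ i, I.toCotangent (d i • ξ i) = c i • I.toCotangent ⟨x i, hx i⟩ := fun i => by
        rw [map_smul, ← hd i, ← Ideal.Quotient.algebraMap_eq, algebraMap_smul]
      simp only [this, hc, add_sub_cancel_left]
    refine Submodule.mem_sup.mpr ⟨∑ i, d i * x i, sum_mem fun i _ => Ideal.mul_mem_left _ _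
      (Ideal.subset_span ⟨i, rfl⟩), _, (hG' _).mpr ⟨Submodule.coe_mem _, by rw [Subtype.coe_eta, h2]; exact hg⟩, ?_⟩
    simp [x]
  have hli : ∀ a : Fin r → R, ∑ i, a i * x i ∈ G' → ∀ i, a i ∈ I := by
    intro a ha i
    obtain ⟨h, hG⟩ := (hG' _).mp ha
    have e0 : I.toCotangent ⟨_, h⟩ = ((∑ i, Ideal.Quotient.mk I (a i) • b i : F) : I.Cotangent) := by
      have e1 : (⟨_, h⟩ : I) = ∑ i, a i • ξ i := Subtype.ext (by simp [x])
      rw [e1, map_sum, Submodule.coe_sum]
      refine Finset.sum_congr rfl fun i _ => ?_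
      rw [map_smul, Submodule.coe_smul, hξ, ← Ideal.Quotient.algebraMap_eq, algebraMap_smul]
    have h0 : (∑ i, Ideal.Quotient.mk I (a i) • b i : F) = 0 := by
      refine Subtype.ext ((Submodule.disjoint_def.mp hFG.disjoint) _ (SetLike.coe_mem _) ?_)
      rw [← e0]; exact hG
    have h2 := Fintype.linearIndependent_iff.mp b.linearIndependent (fun i => Ideal.Quotient.mk I (a i)) h0 i
    exact Ideal.Quotient.eq_zero_iff_mem.mp h2
  obtain ⟨zs, rfl, hreg, heq⟩ := H4FV.exists_regular r R I G' (IsLocalRing.le_maximalIdeal hI) n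
    (pdLT_mono (Nat.le_succ n) hpd) x hx hG1 hG2 hsp hli
  have hspan : Ideal.span (Set.range zs.get) ⊔ I ^ 2 = Ideal.span (Set.range x) ⊔ I ^ 2 := by
    rw [list_range]; exact heq
  have hzI : ∀ i, zs.get i ∈ I := fun i => by
    have h1 : zs.get i ∈ Ideal.span (Set.range x) ⊔ I ^ 2 := hspan ▸ Ideal.mem_sup_left (Ideal.subset_span ⟨i, rfl⟩)
    exact sup_le (Ideal.span_le.mpr (Set.range_subset_iff.mpr hx)) (Ideal.pow_le_self two_ne_zero) h1
  refine ⟨zs.get, hzI, ?_, ?_⟩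
  · rw [List.ofFn_get]
    refine ⟨hreg, fun h => hI (top_le_iff.mp ?_)⟩
    rw [Ideal.smul_eq_mul, Ideal.mul_top] at h
    rw [h, ← list_range]
    exact Ideal.span_le.mpr (Set.range_subset_iff.mpr hzI)
  · refine le_antisymm (Submodule.span_le.mpr ?_) (hbF.symm.le.trans (Submodule.span_le.mpr ?_))
    · rintro _ ⟨i, rfl⟩
      exact hbF.le (img_mem x hx _ _ (hspan ▸ Ideal.mem_sup_left (Ideal.subset_span ⟨i, rfl⟩)))
    · rintro _ ⟨i, rfl⟩
      exact img_mem zs.get hzI _ _ (hspan ▸ Ideal.mem_sup_left (Ideal.subset_span ⟨i, rfl⟩))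

end Groth.Agent.S2188
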