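import Groth.Statements.S2187
import Groth.Agent.S2188

set_option autoImplicit false
universe u
open CategoryTheory
open LCI

namespace Groth.Agent.S2187

/-- Let R be a Noetherian local ring and I an ideal of finite projective dimension as an R-module. If F
is a direct summand of the conormal module I/I^2 which is isomorphic to R/I, then there is a
nonzerodivisor x in I whose class in I/I^2 generates F. -/
theorem result {R : Type u} [CommRing R]
    [IsNoetherianRing R] [IsLocalRing R] (I : Ideal R) (n : ℕ)
    (hpd : HasProjectiveDimensionLT (ModuleCat.of R I) n)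
    (F G : Submodule (R ⧸ I) I.Cotangent) (hFG : IsCompl F G) (e : F ≃ₗ[R ⧸ I] (R ⧸ I)) :
    ∃ (x : R) (hx : x ∈ I), x ∈ nonZeroDivisors R ∧
      Submodule.span (R ⧸ I) {I.toCotangent ⟨x, hx⟩} = F := by
  by_cases hI : I = ⊤
  · subst hI
    haveI : Subsingleton (R ⧸ (⊤ : Ideal R)) := Ideal.Quotient.subsingleton_iff.mpr rfl
    haveI : Subsingleton (Submodule (R ⧸ (⊤ : Ideal R)) (⊤ : Ideal R).Cotangent) :=
      have : Subsingleton (⊤ : Ideal R).Cotangent := Module.subsingleton (R ⧸ (⊤ : Ideal R)) _
      inferInstance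
    exact ⟨1, trivial, one_mem _, Subsingleton.elim _ _⟩
  obtain ⟨x, hx, hreg, hspan⟩ := S2188.result I hI n hpd F G hFG 1 (e.trans (LinearEquiv.funUnique (Fin 1) _ _).symm)
  refine ⟨x 0, hx 0, ?_, ?_⟩
  · have h := hreg.toIsWeaklyRegular
    simp only [List.ofFn_succ, List.ofFn_zero, RingTheory.Sequence.isWeaklyRegular_cons_iff] at h
    rw [mem_nonZeroDivisors_iff_right]
    intro a ha
    exact h.1.right_eq_zero_of_smul (by rw [smul_eq_mul, mul_comm]; exact ha)
  · rw [← hspan]
    congr 1
    ext v
    simp [Fin.exists_fin_one, eq_comm]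

end Groth.Agent.S2187
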