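import Groth.Statements.S3349
import Groth.Agent.Lib.NumTypeBasic

set_option autoImplicit false
open Finset
open Models Models.NumericalType

namespace Groth.Agent.S3349

/-- Let T be a numerical type with exactly one index. Then a_11 = 0 and the genus of T is g = 1 + m_1
w_1 (g_1 - 1). Consequently: if g < 0 then g_1 = 0 (and m_1 w_1 = 1 - g); if g = 0 then m_1 = w_1 =
1 and g_1 = 0; if g = 1 then g_1 = 1; if g > 1 then g_1 > 1 (and m_1 w_1 (g_1 - 1) = g - 1). -/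
theorem result (T : Models.NumericalType 1) :
    T.a 0 0 = 0 ∧ T.genus = 1 + T.m 0 * T.w 0 * (T.g 0 - 1) ∧
      (T.genus < 0 → T.g 0 = 0) ∧ (T.genus = 0 → T.m 0 = 1 ∧ T.w 0 = 1 ∧ T.g 0 = 0) ∧
      (T.genus = 1 → T.g 0 = 1) ∧ (1 < T.genus → 1 < T.g 0) := by
  have ha : T.a 0 0 = 0 := by
    have h := NumTypeLib.row T 0
    rw [Fin.sum_univ_one] at h
    exact (mul_eq_zero.1 h).resolve_right (T.m_pos 0).ne'
  have hge : T.genus = 1 + T.m 0 * T.w 0 * (T.g 0 - 1) := by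
    simp [Models.NumericalType.genus, ha]
  have hmw : 1 ≤ T.m 0 * T.w 0 := mul_pos (T.m_pos 0) (T.w_pos 0)
  have hg := T.g_nonneg 0
  refine ⟨ha, hge, fun h => ?_, fun h => ?_, fun h => ?_, fun h => ?_⟩ <;> rw [hge] at h
  · by_contra hc
    nlinarith [mul_nonneg (show (0 : ℤ) ≤ T.m 0 * T.w 0 by omega) (show (0 : ℤ) ≤ T.g 0 - 1 by omega)]
  · have h1 : T.g 0 = 0 := by
      by_contra hc
      nlinarith [mul_nonneg (show (0 : ℤ) ≤ T.m 0 * T.w 0 by omega) (show (0 : ℤ) ≤ T.g 0 - 1 by omega)]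
    rw [h1] at h
    have h2 : T.m 0 * T.w 0 = 1 := by linarith
    exact ⟨Int.eq_one_of_mul_eq_one_right (T.m_pos 0).le h2, Int.eq_one_of_mul_eq_one_left (T.w_pos 0).le h2, h1⟩
  · have h1 : T.m 0 * T.w 0 * (T.g 0 - 1) = 0 := by linarith
    have := (mul_eq_zero.1 h1).resolve_left (by omega)
    omega
  · by_contra hc
    nlinarith [mul_nonpos_of_nonneg_of_nonpos (show (0 : ℤ) ≤ T.m 0 * T.w 0 by omega) (show T.g 0 - 1 ≤ 0 by omega)]

end Groth.Agent.S3349
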