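import Groth.Statements.S2203
import Mathlib

set_option autoImplicit false
set_option backward.isDefEq.respectTransparency.types false
universe u
open CategoryTheory
open QCohCat

namespace Groth.Agent.S2203

/-- Ring-isomorphism part of the statement: let A and B be commutative rings whose categories of modules
are equivalent. Then A and B are isomorphic as rings. (The source moreover describes the equivalence
as base change followed by tensoring with an invertible module.) -/
theorem result (A B : Type u) [CommRing A] [CommRing B]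
    (F : ModuleCat.{u} A ≌ ModuleCat.{u} B) : Nonempty (A ≃+* B) := by
  let Φ := F.functor
  let G := F.inverse
  haveI : Limits.PreservesLimitsOfShape (Discrete Limits.WalkingPair) Φ := (F.symm.toAdjunction.rightAdjoint_preservesLimits.{0, 0}).preservesLimitsOfShape
  haveI : Φ.Additive := Functor.additive_of_preserves_binary_products Φ
  have sc : ∀ {R : Type u} [CommRing R] {M N : ModuleCat.{u} R} (r : R) (f : M ⟶ N), (r • 𝟙 M) ≫ f = r • f := fun r f => by
    ext x; simp
  have cs : ∀ {R : Type u} [CommRing R] {M N : ModuleCat.{u} R} (r : R) (f : M ⟶ N), f ≫ (r • 𝟙 N) = r • f := fun r f => by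
    ext x; simp
  let B₀ := ModuleCat.of B B
  let e : A → (B₀ ⟶ B₀) := fun a => F.counitInv.app B₀ ≫ Φ.map (a • 𝟙 (G.obj B₀)) ≫ F.counit.app B₀
  have he : ∀ (f : B₀ ⟶ B₀) (x : B), f.hom x = x * f.hom (1 : B) := fun f x => by
    have := f.hom.map_smul x (1 : B)
    simp only [smul_eq_mul, mul_one] at this
    exact this.trans rfl
  have hmul : ∀ a a', e (a * a') = e a ≫ e a' := fun a a' => by
    have hii : F.counit.app B₀ ≫ F.counitInv.app B₀ = 𝟙 _ := F.counitIso.hom_inv_id_app _
    simp only [e, Category.assoc, reassoc_of% hii]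
    rw [← Φ.map_comp_assoc, sc, smul_smul]
  let ψ : A →+* B :=
    { toFun := fun a => (e a).hom (1 : B)
      map_one' := by
        show (e 1).hom (1 : B) = 1
        have : e 1 = 𝟙 _ := by
          simp only [e, one_smul, CategoryTheory.Functor.map_id, Category.id_comp]
          erw [Φ.map_id, Category.id_comp]
          exact F.counitIso.inv_hom_id_app _
        rw [this]; rfl
      map_mul' := fun a a' => by
        show (e (a * a')).hom (1 : B) = (e a).hom (1 : B) * (e a').hom (1 : B)
        rw [hmul, ModuleCat.hom_comp, LinearMap.comp_apply]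
        exact he _ _
      map_zero' := by
        show (e 0).hom (1 : B) = 0
        have : e 0 = 0 := by simp [e]
        rw [this]; rfl
      map_add' := fun a a' => by
        show (e (a + a')).hom (1 : B) = (e a).hom (1 : B) + (e a').hom (1 : B)
        have : e (a + a') = e a + e a' := by simp [e, add_smul, Φ.map_add]
        rw [this]; rfl }
  haveI h1i : ∀ N, IsIso (F.counitInv.app N) := fun N => (F.counitIso.app N).isIso_inv
  haveI h2i : ∀ N, IsIso (F.counit.app N) := fun N => (F.counitIso.app N).isIso_hom
  haveI h3i : ∀ M, IsIso (F.unit.app M) := fun M => (F.unitIso.app M).isIso_hom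
  haveI : ∀ N, Epi (F.counitInv.app N) := fun N => IsIso.epi_of_iso _
  haveI : ∀ N, Mono (F.counit.app N) := fun N => IsIso.mono_of_iso _
  haveI : ∀ M, Mono (F.unit.app M) := fun M => IsIso.mono_of_iso _
  refine ⟨RingEquiv.ofBijective ψ ⟨?_, ?_⟩⟩
  · rw [injective_iff_map_eq_zero]
    intro a (ha : (e a).hom (1 : B) = 0)
    have h0 : e a = 0 := ModuleCat.hom_ext (LinearMap.ext_ring ha)
    have h1 : Φ.map (a • 𝟙 (G.obj B₀)) = 0 := by
      rw [← cancel_epi (F.counitInv.app B₀), ← cancel_mono (F.counit.app B₀), Category.assoc]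
      simpa [e] using h0
    have hN : ∀ N : ModuleCat.{u} B, a • 𝟙 (G.obj N) = 0 := fun N => by
      apply Φ.map_injective
      rw [Φ.map_zero, ← cancel_epi (F.counitInv.app N), Limits.comp_zero]
      ext x
      let f : B₀ ⟶ N := ModuleCat.ofHom (LinearMap.toSpanSingleton B N x)
      have hn : f ≫ F.counitInv.app N = F.counitInv.app B₀ ≫ Φ.map (G.map f) := F.counitInv.naturality f
      have : f ≫ F.counitInv.app N ≫ Φ.map (a • 𝟙 (G.obj N)) = 0 := by
        rw [reassoc_of% hn, ← Φ.map_comp, cs, ← sc,
          Φ.map_comp, h1, Limits.zero_comp, Limits.comp_zero]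
      have := LinearMap.congr_fun (congrArg ModuleCat.Hom.hom this) (1 : B)
      exact (congrArg (fun y => (Φ.map (a • 𝟙 (G.obj N))).hom ((F.counitInv.app N).hom y)) (one_smul B x).symm).trans this
    have hA : a • 𝟙 (ModuleCat.of A A) = 0 := by
      rw [← cancel_mono (F.unit.app (ModuleCat.of A A)), sc, Limits.zero_comp,
        show a • F.unit.app (ModuleCat.of A A) = F.unit.app (ModuleCat.of A A) ≫ (a • 𝟙 _) by
          rw [cs]]
      exact (congrArg _ (hN _)).trans Limits.comp_zero
    have := LinearMap.congr_fun (congrArg ModuleCat.Hom.hom hA) (1 : A)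
    simpa using this
  · intro b
    let b' : ∀ M, M ⟶ M := fun M => Φ.preimage (b • 𝟙 (Φ.obj M))
    let a : A := (b' (ModuleCat.of A A)).hom (1 : A)
    have hb' : ∀ M, b' M = a • 𝟙 M := fun M => by
      ext x
      let f : ModuleCat.of A A ⟶ M := ModuleCat.ofHom (LinearMap.toSpanSingleton A M x)
      have hn : f ≫ b' M = b' (ModuleCat.of A A) ≫ f := by
        apply Φ.map_injective
        simp only [b', Functor.map_comp, Functor.map_preimage, cs, sc]
      have := LinearMap.congr_fun (congrArg ModuleCat.Hom.hom hn) (1 : A)
      simpa [f, a, LinearMap.toSpanSingleton_apply] using this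
    refine ⟨a, ?_⟩
    have : e a = b • 𝟙 B₀ := by
      simp only [e, ← hb']
      simp only [b', Functor.map_preimage, sc]
      rw [ModuleCat.hom_ext_iff]
      ext
      have := LinearMap.congr_fun (congrArg ModuleCat.Hom.hom (F.counitIso.inv_hom_id_app B₀)) (1 : B)
      simp at this ⊢
      try rw [this]
    show (e a).hom (1 : B) = b
    rw [this]
    exact mul_one b

end Groth.Agent.S2203
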