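import Groth.Statements.S2211
import Mathlib


set_option autoImplicit false
universe u
open DPow

namespace Groth.Agent.S2211

/-- First part: let p be a prime and A a ring in which every integer prime to p is invertible, I an
ideal of A. Two divided power structures on I coincide exactly when their p-th divided power maps
agree on I. -/
theorem result {A : Type u} [CommRing A] (p : ℕ) (hp : p.Prime)
    (hA : ∀ n : ℕ, ¬ p ∣ n → IsUnit (n : A)) {I : Ideal A} (γ γ' : DividedPowers I) :
    γ = γ' ↔ ∀ x ∈ I, γ.dpow p x = γ'.dpow p x := by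
  classical
  refine ⟨fun e => e ▸ fun _ _ => rfl, fun hpe => DividedPowers.ext _ _ ?_⟩
  haveI : Fact p.Prime := ⟨hp⟩
  intro n
  induction n using Nat.strong_induction_on with
  | _ n ih =>
    intro x hx
    rcases Nat.lt_or_ge n 2 with hn | hn
    · interval_cases n
      · rw [γ.dpow_zero hx, γ'.dpow_zero hx]
      · rw [γ.dpow_one hx, γ'.dpow_one hx]
    obtain ⟨e, m, hm, rfl⟩ := Nat.exists_eq_pow_mul_and_not_dvd (show n ≠ 0 by omega) p hp.ne_one
    have hm0 : m ≠ 0 := fun h => hm (h ▸ dvd_zero p)
    rcases eq_or_ne m 1 with rfl | hm1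
    · cases e with
      | zero => simp at hn
      | succ e =>
        have hq : p ^ e ≠ 0 := pow_ne_zero _ hp.ne_zero
        have hu : ¬ p ∣ Nat.uniformBell p (p ^ e) := by
          rw [Nat.uniformBell_eq, hp.prime.dvd_finset_prod_iff]
          rintro ⟨k, -, hk⟩
          have hc : Nat.choose (k * p ^ e + p ^ e - 1) (p ^ e - 1) ≡ 1 [MOD p] := by
            clear hk hn ih hm hq hm0
            induction e with
            | zero => simp [Nat.ModEq]
            | succ e ih =>
              have h1 : 1 ≤ p ^ e := Nat.one_le_pow _ _ hp.pos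
              have hp1 := hp.one_le
              have ea : k * p ^ (e + 1) + p ^ (e + 1) - 1 = (p - 1) + p * (k * p ^ e + p ^ e - 1) := by
                have e1 : k * p ^ (e + 1) + p ^ (e + 1) = p * (k * p ^ e + p ^ e) := by ring
                have e2 : p ≤ p * (k * p ^ e + p ^ e) := Nat.le_mul_of_pos_right _ (by omega)
                rw [e1, Nat.mul_sub, mul_one]; omega
              have eb : p ^ (e + 1) - 1 = (p - 1) + p * (p ^ e - 1) := by
                rw [pow_succ', Nat.mul_sub, mul_one]; have : p ≤ p * p ^ e := Nat.le_mul_of_pos_right _ h1; omega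
              refine (Choose.choose_modEq_choose_mod_mul_choose_div_nat).trans ?_
              rw [ea, eb, Nat.add_mul_mod_self_left, Nat.add_mul_mod_self_left, Nat.add_mul_div_left _ _ hp.pos, Nat.add_mul_div_left _ _ hp.pos, Nat.mod_eq_of_lt (by omega), Nat.div_eq_of_lt (by omega), zero_add, zero_add, Nat.choose_self, one_mul]
              exact ih
          exact hp.not_dvd_one ((hc.dvd_iff dvd_rfl).1 hk)
        have a1 := γ.dpow_comp (m := p) hq hx
        have a2 := γ'.dpow_comp (m := p) hq hx
        rw [hpe _ (γ.dpow_mem hq hx), ih (p ^ e) (by rw [mul_one]; exact Nat.pow_lt_pow_right hp.one_lt e.lt_succ_self) hx, a2] at a1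
        rw [mul_one, pow_succ']
        exact ((hA _ hu).mul_left_cancel a1).symm
    · have hq : 0 < p ^ e := Nat.pow_pos hp.pos
      have hlt : p ^ e < p ^ e * m := lt_mul_of_one_lt_right hq (by omega)
      have hu : ¬ p ∣ Nat.choose (p ^ e * m) (p ^ e) := by
        have hc : ∀ e m : ℕ, Nat.choose (p ^ e * m) (p ^ e) ≡ m [MOD p] := fun e => by
          induction e with
          | zero => intro m; simp [Nat.ModEq.refl]
          | succ e ih =>
            intro m
            refine (Choose.choose_modEq_choose_mod_mul_choose_div_nat).trans ?_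
            rw [pow_succ', mul_assoc, Nat.mul_mod_right, Nat.mul_mod_right, Nat.mul_div_cancel_left _ hp.pos, Nat.mul_div_cancel_left _ hp.pos, Nat.choose_self, one_mul]
            exact ih m
        exact fun h => hm (((hc e m).dvd_iff dvd_rfl).1 h)
      have a1 := γ.mul_dpow (m := p ^ e) (n := p ^ e * m - p ^ e) hx
      have a2 := γ'.mul_dpow (m := p ^ e) (n := p ^ e * m - p ^ e) hx
      rw [ih _ hlt hx, ih _ (by omega) hx, a2, Nat.add_sub_cancel' hlt.le] at a1
      exact ((hA _ hu).mul_left_cancel a1).symm

end Groth.Agent.S2211
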