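import Groth.Agent.Lib.LSumSec
import Mathlib

set_option autoImplicit false
universe u
open CategoryTheory Limits AlgebraicGeometry Opposite TopologicalSpace

namespace Groth.Agent.S2324

open Groth.Agent.LQcoh Groth.Agent.LInv

/-- Let X be a quasi-compact separated scheme, L an ample invertible O_X-module, Z a finite set of
points of X and U an open subset containing Z. Then for some n > 0 and some global section s of
L^{⊗n}, the open X_s where s generates is affine, contains Z and is contained in U. -/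
theorem result (X : Scheme.{u}) [CompactSpace X] [X.IsSeparated] (L : X.Modules) (hL : CohB1.IsAmple L)
    (Z : Set X) (hZ : Z.Finite) (U : X.Opens) (hZU : Z ⊆ U) :
    ∃ (n : ℕ) (s : Coh.structureModule X ⟶ CohB1.tensorPow L (n + 1)),
      Z ⊆ CohB1.genLocus _ s ∧ (CohB1.genLocus _ s : Set X) ⊆ U ∧ IsAffineOpen (CohB1.genLocus _ s) := by
  classical
  obtain ⟨Z₀, V, hV, hVW, hne, hcov⟩ := LSumSec.exists_opens Z hZ U hZU
  choose n s hs hle ha using fun a : Z₀ => LAmple.basis_of_ample hL (hV a)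
  let d : ℕ := (∏ a, (n a + 1)) - 1
  have hd : d + 1 = ∏ a, (n a + 1) := Nat.sub_add_cancel (Finset.prod_pos fun a _ => Nat.succ_pos _)
  have hpow : ∀ a, ∃ t : Coh.structureModule X ⟶ CohB1.tensorPow L (d + 1),
      CohB1.genLocus _ t = CohB1.genLocus _ (s a) := fun a => by
    obtain ⟨k, hk⟩ : ∃ k, (n a + 1) * (k + 1) = d + 1 := by
      obtain ⟨k, hk⟩ := Finset.dvd_prod_of_mem (fun a => n a + 1) (Finset.mem_univ a)
      exact ⟨k - 1, by
        rw [hd, hk, Nat.sub_add_cancel (Nat.pos_of_ne_zero fun h => by rw [h, mul_zero] at hk; omega)]⟩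
    obtain ⟨t, ht⟩ := LAmple.exists_pow_section (isInvertible_tensorPow hL.1 (n a + 1)) (s a) k
    obtain ⟨e⟩ := LAmple.tensorPow_mul L (n a + 1) (k + 1)
    exact ⟨t ≫ (e ≪≫ eqToIso (congrArg (CohB1.tensorPow L) hk)).hom, (genLocus_comp_iso _ t).trans ht⟩
  choose t ht using hpow
  obtain ⟨w, hw, hwa, hwle⟩ := LSumSec.exists_sum (isInvertible_tensorPow hL.1 (d + 1)) t
    (fun a => (ht a).symm ▸ ha a) (fun a => a.1) (fun a => (ht a).symm ▸ hs a)
    (fun i j hij hj => hne i j (Ne.symm hij) (hle i ((ht i).le hj)))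
  exact ⟨d, w, hcov _ fun a h => hwa ⟨a, h⟩,
    hwle.trans (iSup_le fun a => (ht a).le.trans ((hle a).trans (hVW a))), hw⟩

end Groth.Agent.S2324
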