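import Groth.Statements.S2332
import Groth.Agent.Lib.LAmplePull
import Groth.Agent.Lib.LAffPull

set_option autoImplicit false
universe u
open CategoryTheory CategoryTheory.Limits AlgebraicGeometry
open EGA2

namespace Groth.Agent.S2332

/-- Let f : X → Y be quasi-compact, g : Y' → Y any morphism, and L an O_X-module ample relative to f.
Then the pullback of L to X ×_Y Y' is ample relative to the base-changed morphism X ×_Y Y' → Y'. -/
theorem result {X Y Y' : Scheme.{u}} (f : X ⟶ Y) [QuasiCompact f] (g : Y' ⟶ Y) (L : X.Modules)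
    (hL : RelAmple.IsRelAmple f L) :
    RelAmple.IsRelAmple (pullback.snd f g) ((Scheme.Modules.pullback (pullback.fst f g)).obj L) := by
  haveI : QuasiCompact (pullback.snd f g) := MorphismProperty.pullback_snd _ _ ‹_›
  refine ⟨inferInstance, fun V' => LAmple.isAmple_preimage _ V'.2 fun y hy => ?_⟩
  obtain ⟨V, hV, hyV, -⟩ := exists_isAffineOpen_mem_and_subset (U := (⊤ : Y.Opens)) (x := g y) trivial
  obtain ⟨W, hW, hyW, hWV⟩ := exists_isAffineOpen_mem_and_subset (U := g ⁻¹ᵁ V) (x := y) hyV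
  refine ⟨W, hyW, ?_⟩
  let P := (pullback.snd f g) ⁻¹ᵁ W
  haveI : CompactSpace P.toScheme := LAmple.compact_preimage _ hW
  have hle : P ≤ (pullback.fst f g) ⁻¹ᵁ (f ⁻¹ᵁ V) := by
    rw [← Scheme.Hom.comp_preimage, pullback.condition, Scheme.Hom.comp_preimage]
    exact Scheme.Hom.preimage_mono _ hWV
  let h := (pullback.fst f g).resLE (f ⁻¹ᵁ V) P hle
  have hM := hL.2 ⟨V, hV⟩
  haveI := LAmple.qs_of_ample hM
  haveI : QuasiCompact (h ≫ (terminal.from _)) := by
    rw [Subsingleton.elim (h ≫ terminal.from _) (terminal.from _)]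
    exact (HasAffineProperty.iff_of_isAffine (P := @QuasiCompact)).2 inferInstance
  haveI : QuasiSeparated (terminal.from (f ⁻¹ᵁ V).toScheme) := (quasiSeparatedSpace_iff_quasiSeparated _).1 inferInstance
  haveI : QuasiCompact h := QuasiCompact.of_comp h (terminal.from _)
  have hres : CohB1.IsAmple ((Scheme.Modules.pullback h).obj (L.restrict (f ⁻¹ᵁ V).ι)) := by
    refine LAmple.isAmple_pullback h (fun A hA => ?_) hM
    have hAf : IsAffineOpen (pullback.fst f g ⁻¹ᵁ ((f ⁻¹ᵁ V).ι ''ᵁ A) ⊓ pullback.snd f g ⁻¹ᵁ W) :=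
      LAffPull.isAffineOpen_pullback_inf (hA.image_of_isOpenImmersion _) hW hV ((f ⁻¹ᵁ V).ι_image_le A) hWV
    have he : IsAffineOpen (h ⁻¹ᵁ A) := by
      rw [← Scheme.Hom.isAffineOpen_iff_of_isOpenImmersion P.ι]
      convert hAf using 1
      have h1 : h ⁻¹ᵁ A = P.ι ⁻¹ᵁ (pullback.fst f g ⁻¹ᵁ ((f ⁻¹ᵁ V).ι ''ᵁ A)) := by
        rw [← Scheme.Hom.comp_preimage, ← Scheme.Hom.resLE_comp_ι (pullback.fst f g) hle, Scheme.Hom.comp_preimage,
          Scheme.Hom.preimage_image_eq]
      rw [h1, Scheme.Hom.image_preimage_eq_opensRange_inf, Scheme.Opens.opensRange_ι, inf_comm]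
    haveI : IsAffine (h ⁻¹ᵁ A).toScheme := he
    infer_instance
  refine LAmple.isAmple_of_iso (?_ : _ ≅ _) hres
  exact (Scheme.Modules.pullback h).mapIso ((Scheme.Modules.restrictFunctorIsoPullback _).app L) ≪≫
    (Scheme.Modules.pullbackComp h (f ⁻¹ᵁ V).ι).app L ≪≫
    (Scheme.Modules.pullbackCongr (Scheme.Hom.resLE_comp_ι (pullback.fst f g) hle)).app L ≪≫
    (Scheme.Modules.pullbackComp P.ι (pullback.fst f g)).symm.app L ≪≫
    (Scheme.Modules.restrictFunctorIsoPullback P.ι).symm.app _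

end Groth.Agent.S2332
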