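import Groth.Statements.S2333
import Groth.Agent.Lib.LAmpleRel

set_option autoImplicit false
universe u
open CategoryTheory CategoryTheory.Limits AlgebraicGeometry
open EGA2

namespace Groth.Agent.S2333

/-- Let f : X → Y and g : Y → Z be morphisms of schemes with f quasi-compact, and L an O_X-module which
is ample relative to the composite g ∘ f. Then L is ample relative to f. (No separatedness
hypothesis on g is imposed.) -/
theorem result {X Y Z : Scheme.{u}} (f : X ⟶ Y) (g : Y ⟶ Z) [QuasiCompact f]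
    (L : X.Modules) (hL : RelAmple.IsRelAmple (f ≫ g) L) : RelAmple.IsRelAmple f L := by
  refine ⟨inferInstance, fun V => LAmple.isAmple_preimage f V.2 fun y hy => ?_⟩
  obtain ⟨W, hW, hyW, -⟩ := exists_isAffineOpen_mem_and_subset (U := (⊤ : Z.Opens)) (x := g y) trivial
  obtain ⟨W2, hW2, hyW2, hle⟩ := exists_isAffineOpen_mem_and_subset (U := V.1 ⊓ g ⁻¹ᵁ W) (x := y) ⟨hy, hyW⟩
  refine ⟨W2, hyW2, ?_⟩
  haveI := LAmple.compact_preimage f hW2
  refine LAmple.isAmple_factor _ ((f ≫ g) ⁻¹ᵁ W).ι ?_ (hL.2 ⟨W, hW⟩)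
  rw [Scheme.Opens.opensRange_ι, Scheme.Opens.opensRange_ι]
  exact fun x hx => (hle hx).2

end Groth.Agent.S2333
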