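import Groth.Statements.S9210
import Groth.Agent.Lib.H6.DVRVal2

set_option autoImplicit false
set_option linter.all false
universe u
open CategoryTheory CategoryTheory.Limits AlgebraicGeometry
open Lim

namespace Groth.Agent.S9210

/-- Let S be a locally Noetherian scheme, f : X → S a morphism locally of finite type and h : U → X a
morphism of finite type whose image is dense in X. Suppose that for every discrete valuation ring A
with fraction field K and every commutative square formed by a morphism Spec K → U → X and a
morphism Spec A → S, there is at most one morphism Spec A → X making the resulting diagram commute.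
Then f is separated. -/
theorem result {X S U : Scheme.{u}} [IsLocallyNoetherian S] (f : X ⟶ S)
    [LocallyOfFiniteType f] (h : U ⟶ X) [LocallyOfFiniteType h] [QuasiCompact h] (hd : DenseRange h.base)
    (H : ∀ (A : Type u) [CommRing A] [IsDomain A] [IsDiscreteValuationRing A]
      (u : Spec (CommRingCat.of (FractionRing A)) ⟶ U) (y : Spec (CommRingCat.of A) ⟶ S),
      u ≫ h ≫ f = Spec.map (CommRingCat.ofHom (algebraMap A (FractionRing A))) ≫ y →
        ∀ l₁ l₂ : Spec (CommRingCat.of A) ⟶ X, l₁ ≫ f = y → Spec.map (CommRingCat.ofHom (algebraMap A (FractionRing A))) ≫ l₁ = u ≫ h →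
          l₂ ≫ f = y → Spec.map (CommRingCat.ofHom (algebraMap A (FractionRing A))) ≫ l₂ = u ≫ h → l₁ = l₂) :
    IsSeparated f := by
    refine Groth.Agent.H6.DVRVal.isSeparated_of_dvr_at f (Set.range h.base)
      (fun x => ?_) ?_
    · obtain ⟨u, hu⟩ := Groth.Agent.H6.SubtrVal.exists_specializes_of_mem_closure_range h (hd x)
      exact ⟨h u, ⟨u, rfl⟩, hu⟩
    rintro _ ⟨u, rfl⟩ A hA l₁ l₂ hl h1 h2
    haveI := hA
    -- extend the valuation ring to the residue field of `u`
    let φ := h.residueFieldMap u
    obtain ⟨B, hB, hmap⟩ : ∃ (B : ValuationSubring (U.residueField u)) (hB : IsDiscreteValuationRing B),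
        ∃ hm : ∀ a : A, φ.hom a.1 ∈ B, IsLocalHom ((φ.hom.comp A.subtype).codRestrict B.toSubring hm) := by
      letI : Algebra (X.residueField (h u)) (U.residueField u) := φ.hom.toAlgebra
      haveI : Algebra.EssFiniteType (X.residueField (h u)) (U.residueField u) :=
        Groth.Agent.H6.DVRVal.residueFieldMap_essFiniteType h u
      letI : Algebra A (U.residueField u) := (φ.hom.comp A.subtype).toAlgebra
      haveI : IsScalarTower A (X.residueField (h u)) (U.residueField u) := IsScalarTower.of_algebraMap_eq fun x => rfl
      obtain ⟨B, hB, hm, hmm⟩ := Groth.Agent.H6.DVRDom.exists_dvr (R := A) (X.residueField (h u)) (U.residueField u)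
        (IsDiscreteValuationRing.not_isField A)
      refine ⟨B, hB, hm, ⟨fun a ha => ?_⟩⟩
      by_contra hn
      have h1 := hmm a ((IsLocalRing.mem_maximalIdeal a).2 hn)
      rw [show algebraMap A (U.residueField u) a = ((⟨_, hm a⟩ : B) : U.residueField u) from rfl,
        ValuationSubring.coe_mem_nonunits_iff, IsLocalRing.mem_maximalIdeal] at h1
      exact h1 ha
    obtain ⟨hm, hloc⟩ := hmap
    haveI := hB
    let ψ : CommRingCat.of A ⟶ CommRingCat.of B := CommRingCat.ofHom ((φ.hom.comp A.subtype).codRestrict B.toSubring hm)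
    let e : FractionRing B ≃ₐ[B] U.residueField u := FractionRing.algEquiv B (U.residueField u)
    have key : ∀ l : Spec (CommRingCat.of A) ⟶ X, Spec.map (CommRingCat.ofHom A.subtype) ≫ l = X.fromSpecResidueField (h u) →
        Spec.map (CommRingCat.ofHom (algebraMap B (FractionRing B))) ≫ Spec.map ψ ≫ l =
          (Spec.map (CommRingCat.ofHom e.symm.toRingHom) ≫ U.fromSpecResidueField u) ≫ h := fun l hl => by
      rw [Category.assoc, ← Scheme.Hom.SpecMap_residueFieldMap_fromSpecResidueField, ← hl]
      simp only [← Category.assoc, ← Spec.map_comp]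
      congr 2
      ext a
      exact (e.symm.commutes (ψ a)).symm
    have hinj : Function.Injective ψ.hom := fun a b hab =>
      Subtype.val_injective ((φ.hom : _ →+* _).injective (congrArg Subtype.val hab))
    haveI : Epi (Spec.map ψ) := by
      haveI : Flat (Spec.map ψ) := Groth.Agent.H6.SubtrVal.flat_specMap_of_injective ψ.hom hinj
      haveI : Surjective (Spec.map ψ) := by
        haveI := hloc
        refine Groth.Agent.H6.SubtrVal.surjective_of_valuation _ (PrimeSpectrum.ext ?_) (IsLocalRing.comap_closedPoint (S := B) ψ.hom)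
        show (⊥ : Ideal B).comap ψ.hom = ⊥
        rw [← RingHom.ker_eq_comap_bot]
        exact (RingHom.injective_iff_ker_eq_bot _).1 hinj
      exact Flat.epi_of_flat_of_surjective _
    have := H B (Spec.map (CommRingCat.ofHom e.symm.toRingHom) ≫ U.fromSpecResidueField u) (Spec.map ψ ≫ l₁ ≫ f)
      (by rw [← Category.assoc, ← key l₁ h1]; simp only [Category.assoc])
      (Spec.map ψ ≫ l₁) (Spec.map ψ ≫ l₂) (Category.assoc _ _ _) (key l₁ h1)
      (by rw [Category.assoc, ← hl]) (key l₂ h2)
    exact (cancel_epi (Spec.map ψ)).1 this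

end Groth.Agent.S9210
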