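import Groth.Statements.S2334
import Groth.Agent.S9210

set_option autoImplicit false
universe u
open CategoryTheory CategoryTheory.Limits AlgebraicGeometry
open EGA2

namespace Groth.Agent.S2334

/-- Locally Noetherian case of the valuative criterion of separatedness: let Y be a locally Noetherian
scheme and f : X → Y locally of finite type. Then f is separated if and only if for every discrete
valuation ring A with fraction field K, any two morphisms Spec A → X with the same composite to Y
which agree on Spec K are equal. (In the general criterion the diagonal must be assumed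
quasi-compact; that is automatic here.) -/
theorem result {X Y : Scheme.{u}} [IsLocallyNoetherian Y] (f : X ⟶ Y) [LocallyOfFiniteType f] :
    IsSeparated f ↔ ∀ (A : Type u) [CommRing A] [IsDomain A] [IsDiscreteValuationRing A] (g₁ g₂ : (Spec (CommRingCat.of A)) ⟶ X),
      g₁ ≫ f = g₂ ≫ f → (Spec.map (CommRingCat.ofHom (algebraMap A (FractionRing A)))) ≫ g₁ = (Spec.map (CommRingCat.ofHom (algebraMap A (FractionRing A)))) ≫ g₂ → g₁ = g₂ := by
  constructor
  · intro hf A _ _ _ g₁ g₂ w1 w2
    have hu := AlgebraicGeometry.IsSeparated.valuativeCriterion f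
    have := hu ⟨A, FractionRing A, Spec.map (CommRingCat.ofHom (algebraMap A (FractionRing A))) ≫ g₁, g₁ ≫ f,
      ⟨by rw [CategoryTheory.Category.assoc]⟩⟩
    exact congrArg CategoryTheory.CommSq.LiftStruct.l (this.elim ⟨g₁, rfl, rfl⟩ ⟨g₂, w2.symm, w1.symm⟩)
  · intro H
    exact Groth.Agent.S9210.result f (CategoryTheory.CategoryStruct.id X)
      (Function.Surjective.denseRange fun a => ⟨a, rfl⟩)
      (fun A _ _ _ uu y _ l₁ l₂ h1 h2 h3 h4 => H A l₁ l₂ (h1.trans h3.symm) (h2.trans h4.symm))

end Groth.Agent.S2334
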