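import Groth.Statements.S9213
import Groth.Agent.Lib.H6.DVRVal2

set_option autoImplicit false
set_option linter.all false
universe u
open CategoryTheory CategoryTheory.Limits AlgebraicGeometry
open Lim

namespace Groth.Agent.S9213

/-- Let S be a locally Noetherian scheme and f : X → S a morphism of finite type. Then f is universally
closed if and only if for every discrete valuation ring A with fraction field K and every
commutative square formed by morphisms Spec K → X and Spec A → S there is some morphism Spec A → X
making the diagram commute (the existence part of the valuative criterion, tested on discrete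
valuation rings only). -/
theorem result {X S : Scheme.{u}} [IsLocallyNoetherian S] (f : X ⟶ S)
    [LocallyOfFiniteType f] [QuasiCompact f] :
    UniversallyClosed f ↔ ∀ (A : Type u) [CommRing A] [IsDomain A] [IsDiscreteValuationRing A]
      (x : Spec (CommRingCat.of (FractionRing A)) ⟶ X) (y : Spec (CommRingCat.of A) ⟶ S),
      x ≫ f = Spec.map (CommRingCat.ofHom (algebraMap A (FractionRing A))) ≫ y → ∃ l : Spec (CommRingCat.of A) ⟶ X, l ≫ f = y ∧ Spec.map (CommRingCat.ofHom (algebraMap A (FractionRing A))) ≫ l = x := by
    constructor
    · intro hc A _ _ _ x y w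
      have hE : ValuativeCriterion.Existence f := by
        rw [UniversallyClosed.eq_valuativeCriterion] at hc
        exact hc.1
      obtain ⟨⟨l, h1, h2⟩⟩ := (hE ⟨A, FractionRing A, x, y, ⟨w⟩⟩).exists_lift
      exact ⟨l, h2, h1⟩
    · intro H
      refine UniversallyClosed.of_valuativeCriterion f (Groth.Agent.H6.DVRVal.existence_of_dvr f fun sq hdvr => ?_)
      let e : FractionRing sq.R ≃ₐ[sq.R] sq.K := FractionRing.algEquiv sq.R sq.K
      have h1 : Spec.map (CommRingCat.ofHom e.symm.toRingHom) ≫ Spec.map (CommRingCat.ofHom (algebraMap sq.R sq.K)) =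
          Spec.map (CommRingCat.ofHom (algebraMap sq.R (FractionRing sq.R))) := by
        rw [← Spec.map_comp]
        congr 1
        ext c
        exact e.symm.commutes c
      have h2 : Spec.map (CommRingCat.ofHom e.toRingHom) ≫ Spec.map (CommRingCat.ofHom (algebraMap sq.R (FractionRing sq.R))) =
          Spec.map (CommRingCat.ofHom (algebraMap sq.R sq.K)) := by
        rw [← Spec.map_comp]
        congr 1
        ext c
        exact e.commutes c
      obtain ⟨l, hl₁, hl₂⟩ := H sq.R (Spec.map (CommRingCat.ofHom e.symm.toRingHom) ≫ sq.i₁) sq.i₂
        (by rw [Category.assoc, sq.commSq.w, ← Category.assoc, h1])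
      refine ⟨⟨⟨l, ?_, hl₁⟩⟩⟩
      rw [← h2, Category.assoc, hl₂, ← Category.assoc, ← Spec.map_comp, ← CommRingCat.ofHom_comp]
      have : e.toRingHom.comp e.symm.toRingHom = RingHom.id sq.K := RingHom.ext fun c => e.apply_symm_apply c
      rw [this, CommRingCat.ofHom_id, Spec.map_id, Category.id_comp]

end Groth.Agent.S9213
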