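import Groth.Statements.S2335
import Groth.Agent.S9210
import Groth.Agent.S9213

set_option autoImplicit false
universe u
open CategoryTheory CategoryTheory.Limits AlgebraicGeometry
open EGA2

namespace Groth.Agent.S2335

/-- Let Y be locally Noetherian and f : X → Y of finite type. Then f is proper if and only if for every
discrete valuation ring A with fraction field K and every commutative square Spec K → X, Spec A → Y,
there is exactly one morphism Spec A → X making both triangles commute. -/
theorem result {X Y : Scheme.{u}} [IsLocallyNoetherian Y] (f : X ⟶ Y) [LocallyOfFiniteType f] [QuasiCompact f] :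
    IsProper f ↔ ∀ (A : Type u) [CommRing A] [IsDomain A] [IsDiscreteValuationRing A] (x : (Spec (CommRingCat.of (FractionRing A))) ⟶ X) (y : (Spec (CommRingCat.of A)) ⟶ Y),
      x ≫ f = (Spec.map (CommRingCat.ofHom (algebraMap A (FractionRing A)))) ≫ y → ∃! l : (Spec (CommRingCat.of A)) ⟶ X, l ≫ f = y ∧ (Spec.map (CommRingCat.ofHom (algebraMap A (FractionRing A)))) ≫ l = x := by
  constructor
  · intro hf A _ _ _ x y w
    obtain ⟨l, hl1, hl2⟩ := (Groth.Agent.S9213.result f).1 inferInstance A x y w
    refine ⟨l, ⟨hl1, hl2⟩, fun l' hl' => ?_⟩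
    have hu := AlgebraicGeometry.IsSeparated.valuativeCriterion f
    have := hu ⟨A, FractionRing A, x, y, ⟨w⟩⟩
    exact congrArg CategoryTheory.CommSq.LiftStruct.l (this.elim ⟨l', hl'.2, hl'.1⟩ ⟨l, hl2, hl1⟩)
  · intro H
    haveI : AlgebraicGeometry.IsSeparated f := Groth.Agent.S9210.result f (CategoryTheory.CategoryStruct.id X)
      (Function.Surjective.denseRange fun a => ⟨a, rfl⟩)
      (fun A _ _ _ uu y w l₁ l₂ h1 h2 h3 h4 => by
        simp only [CategoryTheory.Category.comp_id, CategoryTheory.Category.id_comp] at w h2 h4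
        exact (H A uu y w).unique ⟨h1, h2⟩ ⟨h3, h4⟩)
    haveI : AlgebraicGeometry.UniversallyClosed f := (Groth.Agent.S9213.result f).2 fun A _ _ _ x y w =>
      (H A x y w).exists
    exact ⟨⟩

end Groth.Agent.S2335
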