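import Groth.Statements.S2347
import Mathlib

set_option autoImplicit false
universe u
open CategoryTheory CategoryTheory.Limits AlgebraicGeometry
open EGA2

namespace Groth.Agent.S2347

theorem integrallyClosed_of_normal {X : Scheme.{u}} [IsIntegral X] (h : Pi1.IsNormalScheme X) {U : X.Opens}
    (hU : IsAffineOpen U) [Nonempty U] : IsIntegrallyClosed Γ(X, U) := by
  refine IsIntegrallyClosed.of_localization_maximal fun P _ hP => ?_
  let q : PrimeSpectrum Γ(X, U) := ⟨P, hP.isPrime⟩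
  let z : X := hU.fromSpec.base q
  have hz : z ∈ U := by
    show z ∈ (U : Set X)
    rw [← hU.range_fromSpec]
    exact Set.mem_range_self q
  letI := X.presheaf.algebra_section_stalk ⟨z, hz⟩
  haveI := hU.isLocalization_stalk ⟨z, hz⟩
  have hp : hU.primeIdealOf ⟨z, hz⟩ = q :=
    hU.fromSpec.injective (hU.fromSpec_primeIdealOf ⟨z, hz⟩)
  have key : ∀ (Q : Ideal Γ(X, U)) [Q.IsPrime], (hU.primeIdealOf ⟨z, hz⟩).asIdeal = Q →
      IsIntegrallyClosed (Localization.AtPrime Q) := by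
    rintro Q _ rfl
    haveI := (h z).2
    exact IsIntegrallyClosed.of_equiv (IsLocalization.algEquiv (hU.primeIdealOf ⟨z, hz⟩).asIdeal.primeCompl
      (X.presheaf.stalk z) (Localization.AtPrime (hU.primeIdealOf ⟨z, hz⟩).asIdeal)).toRingEquiv
  exact key P (congrArg PrimeSpectrum.asIdeal hp)

theorem bijective_of_integral_section {A B K : Type u} [CommRing A] [IsDomain A] [IsIntegrallyClosed A] [CommRing B]
    [IsDomain B] [Field K] [Algebra A K] [IsFractionRing A K]
    (φ : A →+* B) (hφ : φ.IsIntegral) (ψ : B →+* K) (h : ψ.comp φ = algebraMap A K) : Function.Bijective φ := by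
  algebraize [φ]
  haveI : Algebra.IsIntegral A B := ⟨hφ⟩
  have hA : Function.Injective (algebraMap A K) := IsFractionRing.injective A K
  let ψ' : B →ₐ[A] K := { ψ with commutes' := fun a => RingHom.congr_fun h a }
  have hψ : Function.Injective ψ := by
    rw [RingHom.injective_iff_ker_eq_bot]
    refine Ideal.eq_bot_of_comap_eq_bot (R := A) ?_
    rw [eq_bot_iff]
    intro a ha
    have : algebraMap A K a = 0 := (RingHom.congr_fun h a).symm.trans ha
    exact hA (this.trans (map_zero _).symm)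
  refine ⟨fun a b hab => hA ?_, fun b => ?_⟩
  · rw [← h, RingHom.comp_apply, RingHom.comp_apply, hab]
  · obtain ⟨a, ha⟩ := IsIntegrallyClosed.isIntegral_iff.1 ((Algebra.IsIntegral.isIntegral (R := A) b).map ψ')
    exact ⟨a, hψ ((RingHom.congr_fun h a).trans ha)⟩

/-- Let X be an integral normal scheme, X' an integral scheme and g : X' → X an integral morphism. If g
has a rational section (a morphism s from a dense open U of X to X' with g ∘ s the inclusion of U),
then g is an isomorphism. -/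
theorem result {X X' : Scheme.{u}} [IsIntegral X] [IsIntegral X'] (hX : Pi1.IsNormalScheme X)
    (g : X' ⟶ X) [IsIntegralHom g] (U : X.Opens) (hU : Dense (U : Set X)) (s : (U : Scheme.{u}) ⟶ X') (hs : s ≫ g = U.ι) :
    IsIso g := by
  suffices H : ∀ V : X.affineOpens, MorphismProperty.isomorphisms Scheme (g ∣_ V.1) from
    IsZariskiLocalAtTarget.of_iSup_eq_top (P := MorphismProperty.isomorphisms Scheme) _ (iSup_affineOpens_eq_top X) H
  intro V
  haveI hgV : IsAffine (g ⁻¹ᵁ V.1) := V.2.preimage g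
  haveI : IsAffine V.1 := V.2
  rw [HasAffineProperty.iff_of_isAffine (P := MorphismProperty.isomorphisms Scheme)]
  refine ⟨inferInstance, ?_⟩
  rw [Scheme.Hom.appTop, morphismRestrict_app]
  suffices h : IsIso (g.app (V.1.ι ''ᵁ ⊤)) by exact IsIso.comp_isIso' h (X'.presheaf.mapIso ((eqToIso (by rw [image_morphismRestrict_preimage])).op)).isIso_hom
  rw [V.1.ι_image_top]
  by_cases hV : Nonempty V.1
  swap
  · have e : V.1 = ⊥ := by
      ext x
      simpa using fun hx => hV ⟨⟨x, hx⟩⟩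
    rw [e]
    have : g ⁻¹ᵁ (⊥ : X.Opens) = ⊥ := rfl
    refine (ConcreteCategory.isIso_iff_bijective _).2 ⟨fun a b _ => Subsingleton.elim a b, fun b => ⟨0, ?_⟩⟩
    haveI : Subsingleton Γ(X', g ⁻¹ᵁ (⊥ : X.Opens)) := by rw [this]; infer_instance
    exact Subsingleton.elim _ _
  haveI := integrallyClosed_of_normal hX V.2
  obtain ⟨x, hxV, hxU⟩ := hU.inter_open_nonempty V.1 V.1.isOpen (by obtain ⟨x⟩ := hV; exact ⟨x.1, x.2⟩)
  let W : U.toScheme.Opens := U.ι ⁻¹ᵁ V.1
  have hle : W ≤ s ⁻¹ᵁ (g ⁻¹ᵁ V.1) := by rw [← Scheme.Hom.comp_preimage, hs]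
  haveI : Nonempty (U.ι ''ᵁ W) := ⟨⟨x, ⟨⟨x, hxU⟩, hxV, rfl⟩⟩⟩
  haveI : Nonempty (g ⁻¹ᵁ V.1) := ⟨⟨s ⟨x, hxU⟩, by
    show (s ≫ g) ⟨x, hxU⟩ ∈ V.1
    rw [hs]; exact hxV⟩⟩
  let ψ : Γ(X', g ⁻¹ᵁ V.1) ⟶ X.functionField :=
    s.appLE (g ⁻¹ᵁ V.1) W hle ≫ (U.ι.appIso W).inv ≫ X.germToFunctionField (U.ι ''ᵁ W)
  have hψ : g.app V.1 ≫ ψ = X.germToFunctionField V.1 := by
    rw [← Category.assoc, Scheme.Hom.app_eq_appLE, Scheme.Hom.appLE_comp_appLE, Scheme.Opens.ι_appIso]
    simp only [hs, Scheme.Opens.ι_appLE, Iso.refl_inv, Category.id_comp]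
    exact X.presheaf.germ_res _ _ _
  haveI := functionField_isFractionRing_of_isAffineOpen X V.1 V.2
  have := bijective_of_integral_section (K := X.functionField) (g.app V.1).hom
    (IsIntegralHom.isIntegral_app g V.1 V.2) ψ.hom (congrArg CommRingCat.Hom.hom hψ)
  exact (ConcreteCategory.isIso_iff_bijective _).2 this

end Groth.Agent.S2347
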