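import Groth.Statements.S2353
import Groth.Agent.Lib.H6.ValDense2

set_option autoImplicit false
set_option linter.all false
universe u
open CategoryTheory CategoryTheory.Limits AlgebraicGeometry
open EGA2

namespace Groth.Agent.S2353

/-- Let Y be an integral separated locally Noetherian scheme, X an integral separated scheme and f : X →
Y dominant and of finite type, with generic point ξ of X. Suppose that for every discrete valuation
subring R of the function field K(X) and every point y of Y such that R dominates the local ring
O_{Y,y} (through O_{Y,y} → O_{Y,f(ξ)} → K(X): the image lies in R and the maximal ideal maps into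
the maximal ideal of R), there is a point x of X whose local ring is dominated by R (through O_{X,x}
→ K(X)). Then f is proper. -/
theorem result {X Y : Scheme.{u}} [IsIntegral X] [IsIntegral Y] [X.IsSeparated] [Y.IsSeparated]
    [IsLocallyNoetherian Y] (f : X ⟶ Y) [IsDominant f] [LocallyOfFiniteType f] [QuasiCompact f]
    (h : ∀ (R : ValuationSubring X.functionField), IsDiscreteValuationRing R →
      ∀ (y : Y) (hy : f.base (genericPoint X) ⤳ y), ((∀ a : (Y.presheaf.stalk y), (Y.presheaf.stalkSpecializes hy ≫ f.stalkMap (genericPoint X)).hom a ∈ R) ∧ ∀ a ∈ IsLocalRing.maximalIdeal (Y.presheaf.stalk y), R.valuation ((Y.presheaf.stalkSpecializes hy ≫ f.stalkMap (genericPoint X)).hom a) < 1) →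
        ∃ x : X, ((∀ a : (X.presheaf.stalk x), algebraMap (X.presheaf.stalk x) X.functionField a ∈ R) ∧ ∀ a ∈ IsLocalRing.maximalIdeal (X.presheaf.stalk x), R.valuation (algebraMap (X.presheaf.stalk x) X.functionField a) < 1)) :
    IsProper f := by
  haveI hsep : IsSeparated f := by
    haveI : IsSeparated (f ≫ terminal.from Y) := by rw [terminal.comp_from]; infer_instance
    exact IsSeparated.of_comp f (terminal.from Y)
  let ξ := genericPoint X
  let e : X.functionField →+* X.residueField ξ := (X.residue ξ).hom
  have he : Function.Injective e := e.injective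
  have hes : Function.Surjective e := X.residue_surjective ξ
  have hH : ∀ (V : ValuationSubring (X.residueField ξ)), IsDiscreteValuationRing V → ∀ y : Spec (CommRingCat.of V) ⟶ Y,
      Spec.map (CommRingCat.ofHom V.subtype) ≫ y = X.fromSpecResidueField ξ ≫ f →
      ∃ l : Spec (CommRingCat.of V) ⟶ X, l ≫ f = y ∧ Spec.map (CommRingCat.ofHom V.subtype) ≫ l = X.fromSpecResidueField ξ := by
    intro V hV y hy
    let R : ValuationSubring X.functionField := V.comap e
    let ρ : R →+* V := (e.comp R.subtype).codRestrict V.toSubring fun a => a.2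
    have hρ : Function.Bijective ρ := ⟨fun a b hab => Subtype.val_injective (he (congrArg Subtype.val hab)), fun v => by
      obtain ⟨a, ha⟩ := hes v.1
      exact ⟨⟨a, show e a ∈ V by rw [ha]; exact v.2⟩, Subtype.ext ha⟩⟩
    haveI : IsDiscreteValuationRing R :=
      IsDiscreteValuationRing.RingEquivClass.isDiscreteValuationRing (RingEquiv.ofBijective ρ hρ).symm
    have hnu : ∀ a : X.functionField, a ∈ R.nonunits ↔ e a ∈ V.nonunits := fun a => by
      rw [ValuationSubring.mem_nonunits_iff_or, ValuationSubring.mem_nonunits_iff_or, map_eq_zero, ValuationSubring.mem_comap, map_inv₀]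
    let y₀ := y (IsLocalRing.closedPoint V)
    have hgy : f ξ = y (H6.SubtrVal.gen V) := by
      have := congrArg (fun g : Spec (CommRingCat.of (X.residueField ξ)) ⟶ Y => g (IsLocalRing.closedPoint (X.residueField ξ))) hy
      rw [H6.ValDense.gen_apply] at this
      rw [this, Scheme.Hom.comp_apply]
      exact congrArg f (Scheme.fromSpecResidueField_apply ξ _).symm
    have hy₀ : f ξ ⤳ y₀ := hgy ▸ (H6.SubtrVal.gen_specializes V (IsLocalRing.closedPoint V)).map y.continuous
    let δ : Y.presheaf.stalk y₀ ⟶ CommRingCat.of V := Scheme.stalkClosedPointTo y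
    have hδloc : IsLocalHom δ.hom := inferInstanceAs (IsLocalHom (Scheme.stalkClosedPointTo y).hom)
    let χ : Y.presheaf.stalk y₀ ⟶ X.functionField := Y.presheaf.stalkSpecializes hy₀ ≫ f.stalkMap ξ
    have hχ : δ ≫ CommRingCat.ofHom V.subtype = χ ≫ X.residue ξ := by
      apply Spec.map_injective
      rw [← cancel_mono (Y.fromSpecStalk y₀), Spec.map_comp, Category.assoc, Scheme.Spec_stalkClosedPointTo_fromSpecStalk,
        Spec.map_comp, Spec.map_comp, Category.assoc, Category.assoc, Scheme.SpecMap_stalkSpecializes_fromSpecStalk,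
        Scheme.SpecMap_stalkMap_fromSpecStalk, hy, Scheme.fromSpecResidueField, Category.assoc]
    have hmem : ∀ a, χ.hom a ∈ R := fun a => by
      show e (χ.hom a) ∈ V
      rw [show e (χ.hom a) = (δ.hom a).1 from (congrArg (fun g => g.hom a) hχ).symm]
      exact (δ.hom a).2
    obtain ⟨x, hx₁, hx₂⟩ := h R inferInstance y₀ hy₀ ⟨hmem, fun a ha => by
      show χ.hom a ∈ R.nonunits
      rw [hnu, show e (χ.hom a) = (δ.hom a).1 from (congrArg (fun g => g.hom a) hχ).symm, ValuationSubring.coe_mem_nonunits_iff]
      haveI := hδloc
      exact map_nonunit δ.hom a ha⟩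
    let β : X.presheaf.stalk x ⟶ CommRingCat.of V :=
      CommRingCat.ofHom (ρ.comp ((algebraMap (X.presheaf.stalk x) X.functionField).codRestrict R.toSubring hx₁))
    let l : Spec (CommRingCat.of V) ⟶ X := Spec.map β ≫ X.fromSpecStalk x
    have hlg : Spec.map (CommRingCat.ofHom V.subtype) ≫ l = X.fromSpecResidueField ξ := by
      have hξ : ξ ⤳ x := (genericPoint_spec X).specializes trivial
      rw [← Spec.map_comp_assoc, show β ≫ CommRingCat.ofHom V.subtype = X.presheaf.stalkSpecializes hξ ≫ X.residue ξ from rfl,
        Spec.map_comp, Category.assoc, Scheme.SpecMap_stalkSpecializes_fromSpecStalk]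
      rfl
    refine ⟨l, ?_, hlg⟩
    let sq : ValuativeCommSq (terminal.from Y) :=
      { R := V, K := X.residueField ξ, i₁ := X.fromSpecResidueField ξ ≫ f, i₂ := terminal.from _,
        commSq := ⟨Subsingleton.elim _ _⟩ }
    haveI := IsSeparated.valuativeCriterion (terminal.from Y) sq
    exact congrArg CommSq.LiftStruct.l (Subsingleton.elim
      (⟨l ≫ f, by rw [← Category.assoc]; exact congrArg (· ≫ f) hlg, Subsingleton.elim _ _⟩ : sq.commSq.LiftStruct)
      ⟨y, hy, Subsingleton.elim _ _⟩)
  haveI : UniversallyClosed f := UniversallyClosed.of_valuativeCriterion f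
    (H6.ValDense.existence_of_points f {ξ} (fun x => ⟨ξ, rfl, (genericPoint_spec X).specializes trivial⟩)
      (fun d hd A y hy => by
        obtain rfl : d = ξ := hd
        refine H6.ValDense.exists_lift_of_dvr_field f (X.fromSpecResidueField ξ) ∅ Set.finite_empty (fun L _ i hi => ?_) hH A y hy
        refine eq_top_iff.2 fun z _ => ?_
        exact H6.ValDense.image_subset_of_point ξ (𝟙 (X.residueField ξ)) L i
          (hi.trans (by erw [Spec.map_id, Category.id_comp])) z)
      (fun d _ => H6.ValDense.uniqAt_of_isSeparated f d))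
  exact ⟨⟩

end Groth.Agent.S2353
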