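import Groth.Statements.S2355
import Groth.Agent.Lib.LAmplePull

set_option autoImplicit false
universe u
open CategoryTheory CategoryTheory.Limits AlgebraicGeometry
open EGA2

namespace Groth.Agent.S2355

/-- Let f : X → Y be quasi-compact, g : X' → X quasi-affine and L an O_X-module ample relative to f.
Then g^* L is ample relative to g ≫ f. -/
theorem result {X X' Y : Scheme.{u}} (f : X ⟶ Y) [QuasiCompact f] (g : X' ⟶ X) (hg : Mor2.IsQuasiAffine g)
    (L : X.Modules) (hL : RelAmple.IsRelAmple f L) :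
    RelAmple.IsRelAmple (g ≫ f) ((Scheme.Modules.pullback g).obj L) := by
  haveI : QuasiCompact g := hg.1
  refine LAmple.isRelAmple_pullback f g hL fun U M hM => ?_
  haveI : QuasiCompact (g ∣_ U) := MorphismProperty.of_isPullback (P := @QuasiCompact) (isPullback_morphismRestrict g U).flip inferInstance
  refine LAmple.isAmple_pullback (g ∣_ U) (fun W hW => ?_) hM
  haveI := hg.2 _ (hW.image_of_isOpenImmersion U.ι)
  haveI : CompactSpace ((g ∣_ U) ⁻¹ᵁ W).toScheme := LAmple.compact_preimage _ hW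
  have hr : (((g ∣_ U) ⁻¹ᵁ W).ι ≫ (g ⁻¹ᵁ U).ι).opensRange ≤ (g ⁻¹ᵁ (U.ι ''ᵁ W)).ι.opensRange := by
    rw [Scheme.Opens.opensRange_ι, Scheme.Hom.opensRange_comp, Scheme.Opens.opensRange_ι, image_morphismRestrict_preimage]
  haveI : IsOpenImmersion (IsOpenImmersion.lift _ _ hr ≫ (g ⁻¹ᵁ (U.ι ''ᵁ W)).ι) := by
    rw [IsOpenImmersion.lift_fac]; infer_instance
  haveI : IsOpenImmersion (IsOpenImmersion.lift _ _ hr) := IsOpenImmersion.of_comp _ (g ⁻¹ᵁ (U.ι ''ᵁ W)).ι
  exact Scheme.IsQuasiAffine.of_isImmersion (IsOpenImmersion.lift _ _ hr)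

end Groth.Agent.S2355
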