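import Groth.Statements.S2358
import Groth.Agent.S2347
import Groth.Agent.Lib.H6.RedClosed

set_option autoImplicit false
universe u
open CategoryTheory CategoryTheory.Limits AlgebraicGeometry
open EGA2

namespace Groth.Agent.S2358

/-- Let X be an integral normal scheme, g : X' → X an integral morphism, U a dense open of X and s : U →
X' a section of g over U. Then there is a section of g over all of X extending s. -/
theorem result {X X' : Scheme.{u}} [IsIntegral X] (hX : Pi1.IsNormalScheme X)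
    (g : X' ⟶ X) [IsIntegralHom g] (U : X.Opens) (hU : Dense (U : Set X)) (s : (U : Scheme.{u}) ⟶ X') (hs : s ≫ g = U.ι) :
    ∃ s' : X ⟶ X', s' ≫ g = 𝟙 X ∧ U.ι ≫ s' = s := by
  classical
  obtain ⟨x0, hx0⟩ := hU.nonempty
  haveI : Nonempty (U : Scheme.{u}) := ⟨⟨x0, hx0⟩⟩
  haveI : AlgebraicGeometry.IsIntegral (U : Scheme.{u}) := inferInstance
  let C : TopologicalSpace.Closeds X' := ⟨closure (Set.range s.base), isClosed_closure⟩
  have hr := Groth.Agent.H6.RedClosed.range_subschemeι_vanishing C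
  haveI := Groth.Agent.H6.RedClosed.isReduced_vanishing C
  let i := (Scheme.IdealSheafData.vanishingIdeal C).subschemeι
  haveI : IrreducibleSpace (Scheme.IdealSheafData.vanishingIdeal C).subscheme := by
    have h1 : IsIrreducible (Set.range i.base) := by
      rw [hr]
      exact (Set.image_univ ▸ (IrreducibleSpace.isIrreducible_univ (U : Scheme.{u})).image s.base s.base.hom.continuous.continuousOn).closure
    exact (irreducibleSpace_def _).2 (by
      refine ⟨?_, fun u v hu hv hu' hv' => ?_⟩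
      · obtain ⟨_, z, rfl⟩ := h1.nonempty
        exact ⟨z, trivial⟩
      · obtain ⟨u', hu'o, rfl⟩ := i.isEmbedding.isInducing.isOpen_iff.1 hu
        obtain ⟨v', hv'o, rfl⟩ := i.isEmbedding.isInducing.isOpen_iff.1 hv
        obtain ⟨a, -, ha⟩ := hu'
        obtain ⟨b, -, hb⟩ := hv'
        obtain ⟨_, ⟨z, rfl⟩, hz⟩ := h1.2 u' v' hu'o hv'o ⟨_, ⟨a, rfl⟩, ha⟩ ⟨_, ⟨b, rfl⟩, hb⟩
        exact ⟨z, trivial, hz⟩)
  haveI := isIntegral_of_irreducibleSpace_of_isReduced (Scheme.IdealSheafData.vanishingIdeal C).subscheme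
  obtain ⟨t, ht⟩ := Groth.Agent.H6.RedClosed.exists_lift s i (by
    rw [hr]; exact subset_closure)
  have hti : t ≫ (i ≫ g) = U.ι := by rw [← Category.assoc, ht, hs]
  haveI := Groth.Agent.S2347.result hX (i ≫ g) U hU t hti
  refine ⟨inv (i ≫ g) ≫ i, by rw [Category.assoc, IsIso.inv_hom_id], ?_⟩
  rw [← hti, Category.assoc, IsIso.hom_inv_id_assoc, ht]

end Groth.Agent.S2358
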