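import Groth.Statements.S2359
import Groth.Agent.Lib.LAmplePull

set_option autoImplicit false
universe u
open CategoryTheory CategoryTheory.Limits AlgebraicGeometry
open EGA2

namespace Groth.Agent.S2359

/-- Let f : X → Y be quasi-compact, j : X' → X a quasi-compact morphism whose underlying map is a
homeomorphism onto a subspace of X, and L an O_X-module ample relative to f. Then j^* L is ample
relative to j ≫ f. -/
theorem result {X X' Y : Scheme.{u}} (f : X ⟶ Y) [QuasiCompact f] (j : X' ⟶ X) [QuasiCompact j]
    (hj : Topology.IsEmbedding j.base) (L : X.Modules) (hL : RelAmple.IsRelAmple f L) :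
    RelAmple.IsRelAmple (j ≫ f) ((Scheme.Modules.pullback j).obj L) := by
  refine LAmple.isRelAmple_pullback f j hL fun U M hM => ?_
  haveI : QuasiCompact (j ∣_ U) := MorphismProperty.of_isPullback (P := @QuasiCompact) (isPullback_morphismRestrict j U).flip inferInstance
  refine LAmple.isAmple_pullback_embedding (j ∣_ U) ?_ hM
  rw [morphismRestrict_base]
  exact hj.restrictPreimage _

end Groth.Agent.S2359
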