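import Groth.Statements.S2452
import Groth.Prelude.Def_Coh
import Groth.Prelude.Def_Pic
import Groth.Prelude.Def_CohB1
import Groth.Prelude.Def_Curv2
import Mathlib.AlgebraicGeometry.Morphisms.Proper
import Mathlib.Topology.KrullDimension
import Mathlib.LinearAlgebra.Dimension.Finrank
import Mathlib.RingTheory.AdicCompletion.Algebra
import Mathlib.RingTheory.MvPowerSeries.Basic
import Mathlib.RingTheory.LocalRing.ResidueField.Basic
import Mathlib.FieldTheory.Separable
import Mathlib.RingTheory.Noetherian.Basic
import Mathlib.RingTheory.Nilpotent.GeometricallyReduced
import Groth.Prelude.Def_EGA41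
import Mathlib
import Groth.Agent.Lib.H2CohenField

set_option autoImplicit false
universe u
open EGA41

namespace Groth.Agent.S2452
open CategoryTheory CategoryTheory.Limits AlgebraicGeometry
open IsLocalRing Groth.Agent.H2PowerSeries
set_option backward.isDefEq.respectTransparency.types false

open IsLocalRing in
/-- Let A be a local ring which is separated and complete for the adic topology of its maximal ideal
(not necessarily Noetherian), k a field contained in A, and suppose the residue field K of A is a
separable extension of k. Then there is a k-algebra section K → A of the residue map, i.e. a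
coefficient field of A containing k. -/
theorem result {k A : Type u} [Field k] [CommRing A] [IsLocalRing A] [Algebra k A]
    [IsAdicComplete (maximalIdeal A) A] [Algebra.IsGeometricallyReduced k (ResidueField A)] :
    ∃ σ : ResidueField A →ₐ[k] A, ∀ x : ResidueField A, residue A (σ x) = x := by
  haveI := Groth.Agent.H2CohenField.formallySmooth_of_geometricallyReduced k (IsLocalRing.ResidueField A)
  obtain ⟨g, hg⟩ := Algebra.FormallySmooth.exists_mkₐ_comp_eq_of_isAdicComplete (R := k) (A := IsLocalRing.ResidueField A)
    (S := A) (I := IsLocalRing.maximalIdeal A) (AlgHom.id k (IsLocalRing.ResidueField A))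
  exact ⟨g, fun x => AlgHom.congr_fun hg x⟩

end Groth.Agent.S2452
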