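import Groth.Statements.S2453
import Mathlib
import Groth.Prelude.Def_EGA41
import Groth.Prelude.Def_CAlgX
import Groth.Agent.Lib.H2AdicFSField
import Groth.Agent.S2451

set_option autoImplicit false
universe u
open EGA41

namespace Groth.Agent.S2453
open IsLocalRing
set_option maxHeartbeats 1000000
set_option synthInstance.maxHeartbeats 400000
set_option backward.isDefEq.respectTransparency.types false

open IsLocalRing in
/-- Let k be a field and A a Noetherian local k-algebra with maximal ideal 𝔪 and residue field K
separable over k; give A the 𝔪-adic topology (k discrete). The following are equivalent: (a) A is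
formally smooth over k; (b) the 𝔪-adic completion of A is isomorphic to some K[[T_1, …, T_n]] by an
isomorphism carrying the image of k in A to the image of k under k → K → K[[T]]; (b') the completion
is isomorphic as a ring to some K[[T_1, …, T_n]]; (c) A is a regular local ring. -/
theorem result {k A : Type u} [Field k] [CommRing A] [IsLocalRing A] [IsNoetherianRing A] [Algebra k A]
    [Algebra.IsGeometricallyReduced k (ResidueField A)] :
    [CAlgX.IsAdicFormallySmooth k A (maximalIdeal A),
     ∃ (n : ℕ) (e : AdicCompletion (maximalIdeal A) A ≃+* MvPowerSeries (Fin n) (ResidueField A)),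
       ∀ x : k, e (algebraMap A (AdicCompletion (maximalIdeal A) A) (algebraMap k A x)) =
         algebraMap (ResidueField A) (MvPowerSeries (Fin n) (ResidueField A)) (algebraMap k (ResidueField A) x),
     ∃ n : ℕ, Nonempty (AdicCompletion (maximalIdeal A) A ≃+* MvPowerSeries (Fin n) (ResidueField A)),
     IsRegularLocalRing A].TFAE := by
  haveI : Algebra.FormallySmooth k (ResidueField A) := Groth.Agent.S2451.result.2 inferInstance
  tfae_have 1 → 4 := fun h => Groth.Agent.H2AdicFSField.isRegularLocalRing_of_adicFS h
  tfae_have 4 → 1 := fun h => by haveI := h; exact Groth.Agent.H2AdicFSField.adicFS_of_regular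
  tfae_have 2 → 3 := fun ⟨n, e, _⟩ => ⟨n, ⟨e⟩⟩
  tfae_have 3 → 4 := fun ⟨n, ⟨e⟩⟩ => (Groth.Agent.S0548.result A).2
    (@IsRegularLocalRing.of_ringEquiv _ _ (Groth.Agent.H2PowerSeries.regular (ResidueField A) n).1 _ _ e.symm)
  tfae_have 4 → 2 := by
    intro h
    haveI := h
    let Ah := AdicCompletion (maximalIdeal A) A
    haveI : IsNoetherianRing Ah := Groth.Agent.CompletionDim.completion_noetherian
    haveI : IsRegularLocalRing Ah := (Groth.Agent.S0548.result A).1 inferInstance
    let r : ResidueField A →ₐ[k] ResidueField Ah :=
      { toRingHom := ResidueField.map (algebraMap A Ah)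
        commutes' := fun x => by
          show ResidueField.map (algebraMap A Ah) (residue A (algebraMap k A x)) = residue Ah (algebraMap k Ah x)
          rw [ResidueField.map_residue, ← IsScalarTower.algebraMap_apply] }
    have hr : Function.Bijective r := AdicCompletion.residueField_map_bijective_of_fg (maximalIdeal A).fg_of_isNoetherianRing
    haveI : Algebra.FormallySmooth k (ResidueField Ah) := Algebra.FormallySmooth.of_equiv (AlgEquiv.ofBijective r hr)
    obtain ⟨σ, hσ⟩ := Algebra.FormallySmooth.exists_mkₐ_comp_eq_of_isAdicComplete (R := k) (A := ResidueField Ah)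
      (S := Ah) (I := maximalIdeal Ah) (AlgHom.id k (ResidueField Ah))
    letI : Algebra (ResidueField A) Ah := (σ.comp r).toRingHom.toAlgebra
    have hres : Function.Bijective ((residue Ah).comp (algebraMap (ResidueField A) Ah)) := by
      have h2 : ∀ x, residue Ah (σ (r x)) = r x := fun x => AlgHom.congr_fun hσ (r x)
      exact (show ((residue Ah).comp (algebraMap (ResidueField A) Ah) : ResidueField A → ResidueField Ah) = r from funext h2) ▸ hr
    obtain ⟨φ, -, hgen, -⟩ := Groth.Agent.H2AdicFSField.exists_presentation (ResidueField A) Ah hres
    have hbij : Function.Bijective φ :=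
      (Groth.Agent.H2PowerSeries.bijective_iff (k := ResidueField A) hres.2 φ hgen rfl).1 inferInstance
    refine ⟨_, (AlgEquiv.ofBijective φ hbij).symm.toRingEquiv, fun x => ?_⟩
    have h3 : algebraMap (ResidueField A) Ah (algebraMap k (ResidueField A) x) = algebraMap A Ah (algebraMap k A x) := by
      show σ (r (algebraMap k (ResidueField A) x)) = _
      rw [r.commutes, σ.commutes, ← IsScalarTower.algebraMap_apply]
    rw [← h3]
    exact (AlgEquiv.ofBijective φ hbij).symm.commutes _
  tfae_finish

end Groth.Agent.S2453
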