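import Groth.Statements.S4536
import Groth.Prelude.Def_EGA41
import Groth.Agent.Lib.H2AdicLift
import Groth.Agent.Lib.H2PowerSeries
import Mathlib

set_option autoImplicit false
universe u
open EGA41

namespace Groth.Agent.S4536
open TensorProduct
open IsLocalRing
set_option backward.isDefEq.respectTransparency.types false

/-- Let A carry the 𝔞-adic and B the 𝔟-adic topology, A → B being continuous (a power of 𝔞 maps into 𝔟).
Then B is formally smooth over A if and only if for every n the (A/𝔞ⁿ)-algebra B/𝔞ⁿB, with the adic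
topology of the image of 𝔟, is formally smooth over the discrete ring A/𝔞ⁿ. -/
theorem result {A B : Type u} [CommRing A] [CommRing B] [Algebra A B]
    (𝔞 : Ideal A) (𝔟 : Ideal B) (hAB : ∃ k : ℕ, (𝔞 ^ k).map (algebraMap A B) ≤ 𝔟) :
    EGA41.IsFormallySmoothAdic A 𝔞 B 𝔟 ↔
      ∀ n : ℕ, EGA41.IsFormallySmoothAdic (A ⧸ 𝔞 ^ n) ⊥ (B ⧸ (𝔞 ^ n).map (algebraMap A B))
        (𝔟.map (Ideal.Quotient.mk ((𝔞 ^ n).map (algebraMap A B)))) := by
  constructor
  · intro h n C _ _ J hJ _ u hu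
    obtain ⟨m, hm⟩ := hu
    letI : Algebra A C := ((algebraMap (A ⧸ 𝔞 ^ n) C).comp (Ideal.Quotient.mk (𝔞 ^ n))).toAlgebra
    haveI : IsScalarTower A (A ⧸ 𝔞 ^ n) C := IsScalarTower.of_algebraMap_eq' rfl
    let I : Ideal B := (𝔞 ^ n).map (algebraMap A B)
    let u' : B →ₐ[A] C ⧸ J := (u.restrictScalars A).comp (Ideal.Quotient.mkₐ A I)
    have hC : (𝔞 ^ n).map (algebraMap A C) = ⊥ := by
      rw [Ideal.map_eq_bot_iff_le_ker]
      intro x hx
      show algebraMap (A ⧸ 𝔞 ^ n) C (Ideal.Quotient.mk (𝔞 ^ n) x) = 0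
      rw [Ideal.Quotient.eq_zero_iff_mem.2 hx, map_zero]
    obtain ⟨v, hv⟩ := h C J hJ ⟨n, hC⟩ u' ⟨m, fun x hx => hm _ (by
      rw [← Ideal.map_pow]
      exact Ideal.mem_map_of_mem _ hx)⟩
    have hI : ∀ x ∈ I, v x = 0 := fun x hx => by
      have hle : I ≤ RingHom.ker v.toRingHom := by
        refine Ideal.map_le_iff_le_comap.2 fun a ha => ?_
        show v (algebraMap A B a) = 0
        rw [v.commutes, ← Ideal.mem_bot, ← hC]
        exact Ideal.mem_map_of_mem _ ha
      exact hle hx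
    refine ⟨{ toRingHom := Ideal.Quotient.lift I v.toRingHom hI, commutes' := fun r => ?_ }, AlgHom.ext fun x => ?_⟩
    · obtain ⟨a, rfl⟩ := Ideal.Quotient.mk_surjective r
      exact v.commutes a
    · obtain ⟨b, rfl⟩ := Ideal.Quotient.mk_surjective x
      exact AlgHom.congr_fun hv b
  · intro h C _ _ J hJ hC u hu
    obtain ⟨n, hn⟩ := hC
    obtain ⟨m, hm⟩ := hu
    let I : Ideal B := (𝔞 ^ n).map (algebraMap A B)
    letI : Algebra (A ⧸ 𝔞 ^ n) C :=
      (Ideal.Quotient.lift (𝔞 ^ n) (algebraMap A C) fun x hx => by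
        rw [← Ideal.mem_bot, ← hn]; exact Ideal.mem_map_of_mem _ hx).toAlgebra
    haveI : IsScalarTower A (A ⧸ 𝔞 ^ n) C := IsScalarTower.of_algebraMap_eq fun a => rfl
    have hI : ∀ x ∈ I, u x = 0 := fun x hx => by
      have hle : I ≤ RingHom.ker u.toRingHom := by
        refine Ideal.map_le_iff_le_comap.2 fun a ha => ?_
        show u (algebraMap A B a) = 0
        rw [u.commutes]
        show Ideal.Quotient.mk J (algebraMap A C a) = 0
        have : algebraMap A C a ∈ (⊥ : Ideal C) := hn ▸ Ideal.mem_map_of_mem _ ha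
        rw [Ideal.mem_bot.1 this, map_zero]
      exact hle hx
    let u' : (B ⧸ I) →ₐ[A ⧸ 𝔞 ^ n] C ⧸ J :=
      { toRingHom := Ideal.Quotient.lift I u.toRingHom hI
        commutes' := fun r => by
          obtain ⟨a, rfl⟩ := Ideal.Quotient.mk_surjective r
          exact u.commutes a }
    obtain ⟨v, hv⟩ := h n C J hJ ⟨1, by rw [pow_one, Ideal.map_bot]⟩ u' ⟨m, fun x hx => by
      rw [← Ideal.map_pow, Ideal.mem_map_iff_of_surjective _ Ideal.Quotient.mk_surjective] at hx
      obtain ⟨b, hb, rfl⟩ := hx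
      exact hm b hb⟩
    exact ⟨(v.restrictScalars A).comp (Ideal.Quotient.mkₐ A I), AlgHom.ext fun b => AlgHom.congr_fun hv (Ideal.Quotient.mk I b)⟩

end Groth.Agent.S4536
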