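import Groth.Statements.S2454
import Groth.Prelude.Def_EGA41
import Groth.Agent.S4536
import Groth.Agent.Lib.H2FlatThickening
import Groth.Agent.Lib.H2CohenField
import Mathlib

set_option autoImplicit false
universe u
open EGA41

namespace Groth.Agent.S2454
open IsLocalRing
set_option backward.isDefEq.respectTransparency.types false

open IsLocalRing in
/-- Let A → B be a local homomorphism of Noetherian local rings making B a Cohen A-algebra. Then B, with
its adic topology, is formally smooth over A with its adic topology. -/
theorem result {A B : Type u} [CommRing A] [IsLocalRing A] [CommRing B] [IsLocalRing B]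
    [Algebra A B] [IsLocalHom (algebraMap A B)] (h : EGA41.IsCohenAlgebra A B) :
    EGA41.IsFormallySmoothAdic A (maximalIdeal A) B (maximalIdeal B) := by
  obtain ⟨-, -, -, hflat, hmB, hres⟩ := h
  refine (Groth.Agent.S4536.result (maximalIdeal A) (maximalIdeal B) ⟨1, by rw [pow_one, hmB]⟩).2 fun n => ?_
  cases n with
  | zero =>
    intro C _ _ J _ _ u _
    haveI : Subsingleton C := by
      refine subsingleton_of_zero_eq_one ?_
      rw [← map_one (algebraMap (A ⧸ maximalIdeal A ^ 0) C), ← map_zero (algebraMap (A ⧸ maximalIdeal A ^ 0) C)]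
      haveI : Subsingleton (A ⧸ maximalIdeal A ^ 0) := Ideal.Quotient.subsingleton_iff.2 (by simp)
      exact congrArg _ (Subsingleton.elim _ _)
    haveI : Subsingleton (C ⧸ J) := Function.Surjective.subsingleton (f := Ideal.Quotient.mk J) Ideal.Quotient.mk_surjective
    exact ⟨{ toFun := fun _ => 0, map_one' := Subsingleton.elim _ _, map_mul' := fun _ _ => Subsingleton.elim _ _, map_zero' := rfl,
             map_add' := fun _ _ => Subsingleton.elim _ _, commutes' := fun _ => Subsingleton.elim _ _ }, AlgHom.ext fun _ => Subsingleton.elim _ _⟩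
  | succ n =>
    let N := n + 1
    let R := A ⧸ maximalIdeal A ^ N
    let I : Ideal B := (maximalIdeal A ^ N).map (algebraMap A B)
    let L := B ⧸ I
    let k := ResidueField A
    let K := ResidueField B
    have hle : maximalIdeal A ^ N ≤ maximalIdeal A := Ideal.pow_le_self n.succ_ne_zero
    have hI : I ≤ maximalIdeal B := hmB ▸ Ideal.map_mono hle
    letI : Algebra R k := (Ideal.Quotient.lift _ (residue A) fun x hx => (residue_eq_zero_iff x).2 (hle hx)).toAlgebra
    letI : Algebra L K := (Ideal.Quotient.lift I (residue B) fun x hx => (residue_eq_zero_iff x).2 (hI hx)).toAlgebra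
    letI : Algebra R K := ((algebraMap k K).comp (algebraMap R k)).toAlgebra
    haveI : IsScalarTower R k K := IsScalarTower.of_algebraMap_eq' rfl
    haveI : IsScalarTower R L K := IsScalarTower.of_algebraMap_eq fun x => by
      obtain ⟨a, rfl⟩ := Ideal.Quotient.mk_surjective x
      rfl
    haveI : Algebra.FormallySmooth k K := Groth.Agent.H2CohenField.formallySmooth_of_geometricallyReduced k K
    haveI := hflat
    haveI : Module.Flat R L :=
      Module.Flat.of_linearEquiv (Algebra.TensorProduct.quotIdealMapEquivQuotTensor B (maximalIdeal A ^ N)).toLinearEquiv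
    have hk : RingHom.ker (algebraMap R k) = (maximalIdeal A).map (Ideal.Quotient.mk (maximalIdeal A ^ N)) := by
      refine le_antisymm (fun x hx => ?_) (Ideal.map_le_iff_le_comap.2 fun a ha => (residue_eq_zero_iff a).2 ha)
      obtain ⟨a, rfl⟩ := Ideal.Quotient.mk_surjective x
      exact Ideal.mem_map_of_mem _ ((residue_eq_zero_iff a).1 hx)
    have hm : ((maximalIdeal A).map (Ideal.Quotient.mk (maximalIdeal A ^ N))).map (algebraMap R L) =
        (maximalIdeal B).map (Ideal.Quotient.mk I) := by
      rw [Ideal.map_map, ← hmB, Ideal.map_map]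
      congr 1
    haveI : Algebra.FormallySmooth R L :=
      Groth.Agent.H2FlatThickening.formallySmooth_of_flat (R0 := k) (L0 := K)
        ((maximalIdeal A).map (Ideal.Quotient.mk (maximalIdeal A ^ N))) N
        (by rw [← Ideal.map_pow, Ideal.map_quotient_self])
        (fun y => by obtain ⟨a, rfl⟩ := residue_surjective y; exact ⟨Ideal.Quotient.mk _ a, rfl⟩) hk
        (fun y => by obtain ⟨a, rfl⟩ := residue_surjective y; exact ⟨Ideal.Quotient.mk _ a, rfl⟩)
        (by
          rw [hm]
          refine le_antisymm (fun x hx => ?_) (Ideal.map_le_iff_le_comap.2 fun a ha => (residue_eq_zero_iff a).2 ha)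
          obtain ⟨a, rfl⟩ := Ideal.Quotient.mk_surjective x
          exact Ideal.mem_map_of_mem _ ((residue_eq_zero_iff a).1 hx))
    intro C _ _ J hJ _ u _
    exact Algebra.FormallySmooth.exists_lift J hJ u

end Groth.Agent.S2454
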