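import Groth.Statements.S2456
import Groth.Prelude.Def_EGA41
import Groth.Prelude.Def_Found
import Mathlib
import Groth.Agent.S0578
import Groth.Agent.Lib.H2CohenLift

set_option autoImplicit false
universe u
open EGA41

namespace Groth.Agent.S2456
open IsLocalRing Groth.Agent.H2CohenLift
set_option backward.isDefEq.respectTransparency.types false

open IsLocalRing in
/-- Let W be a Cohen ring (a field of characteristic zero, or a complete discrete valuation ring with
maximal ideal generated by the residue characteristic), C a complete Noetherian local ring and J ≠ C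
an ideal of C. Then every local homomorphism u : W → C/J is induced by a local homomorphism v : W →
C. -/
theorem result {W C : Type u} [CommRing W] [IsLocalRing W] (hW : EGA41.IsCohenRingEGA W)
    [CommRing C] [IsLocalRing C] [IsNoetherianRing C] [IsAdicComplete (maximalIdeal C) C]
    (J : Ideal C) (hJ : J ≠ ⊤) [IsLocalRing (C ⧸ J)] (u : W →+* C ⧸ J) [IsLocalHom u] :
    ∃ v : W →+* C, IsLocalHom v ∧ (Ideal.Quotient.mk J).comp v = u := by
  have hle : J ≤ maximalIdeal C := IsLocalRing.le_maximalIdeal hJ
  have hloc : ∀ g : W →+* C, (Ideal.Quotient.mk J).comp g = u → IsLocalHom g := fun g hg => ⟨fun a ha => by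
    refine IsUnit.of_map u a ?_
    rw [← hg]; exact ha.map (Ideal.Quotient.mk J)⟩
  have hkr : ∀ x, (∀ n, x ∈ J ⊔ maximalIdeal C ^ (n + 1)) → x ∈ J := fun x hx => by
    rw [← Ideal.Quotient.eq_zero_iff_mem, ← Ideal.mem_bot, ← Ideal.iInf_pow_eq_bot_of_isLocalRing _ (maximalIdeal.isMaximal (C ⧸ J)).ne_top,
      Ideal.mem_iInf]
    intro n
    refine Ideal.pow_le_pow_right n.le_succ ?_
    obtain ⟨a, ha, c, hc, rfl⟩ := Submodule.mem_sup.1 (hx n)
    rw [map_add, Ideal.Quotient.eq_zero_iff_mem.2 ha, zero_add, ← IsLocalRing.map_maximalIdeal_of_surjective (Ideal.Quotient.mk J)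
      Ideal.Quotient.mk_surjective, ← Ideal.map_pow]
    exact Ideal.mem_map_of_mem _ hc
  rcases hW with ⟨hf, hc⟩ | ⟨hd, hdvr, hcomp, p, hp, hm⟩
  · letI := hf.toField
    haveI := hc
    obtain ⟨g, hg⟩ := exists_lift (hasLift_field W 0) J hle hkr (by simp) u
    exact ⟨g, hloc g hg, hg⟩
  · haveI := hd
    haveI := hdvr
    have hpC : (p : C) ∈ maximalIdeal C := fun h => by
      have h1 : IsUnit (u (p : W)) := by rw [map_natCast, ← map_natCast (Ideal.Quotient.mk J)]; exact h.map _
      exact (hm.ge (Ideal.mem_span_singleton_self (p : W))) (IsUnit.of_map u _ h1)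
    obtain ⟨g, hg⟩ := exists_lift (hasLift_cohen W p hp hm) J hle hkr hpC u
    exact ⟨g, hloc g hg, hg⟩

end Groth.Agent.S2456
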