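import Groth.Statements.S2457
import Groth.Prelude.Def_EGA41
import Groth.Prelude.Def_Found
import Mathlib
import Groth.Agent.S0578
import Groth.Agent.Lib.H2CohenLift

set_option autoImplicit false
universe u
open EGA41

namespace Groth.Agent.S2457
open IsLocalRing Groth.Agent.H2CohenLift
set_option backward.isDefEq.respectTransparency.types false

open IsLocalRing in
/-- Let W and W' be Cohen rings with residue fields K and K' and u : K ≅ K' an isomorphism. Then u is
induced by some isomorphism v : W ≅ W'. -/
theorem result {W W' : Type u} [CommRing W] [IsLocalRing W] [CommRing W'] [IsLocalRing W']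
    (hW : EGA41.IsCohenRingEGA W) (hW' : EGA41.IsCohenRingEGA W') (u : ResidueField W ≃+* ResidueField W') :
    ∃ v : W ≃+* W', ∀ x : W, residue W' (v x) = u (residue W x) := by
  have hres : ∀ (V : Type u) [CommRing V] [IsLocalRing V] (q : ℕ), maximalIdeal V = Ideal.span {(q : V)} →
      (q : ResidueField V) = 0 := fun V _ _ q h => by
    rw [← map_natCast (residue V), residue_eq_zero_iff, h]
    exact Ideal.mem_span_singleton_self _
  rcases hW with ⟨hf, hc⟩ | ⟨hd, hdvr, hcomp, p, hp, hm⟩
  · letI := hf.toField
    haveI := hc
    rcases hW' with ⟨hf', hc'⟩ | ⟨hd', hdvr', hcomp', p', hp', hm'⟩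
    · letI := hf'.toField
      have hb : Function.Bijective (residue W) := ⟨(residue W).injective, residue_surjective⟩
      have hb' : Function.Bijective (residue W') := ⟨(residue W').injective, residue_surjective⟩
      exact ⟨(RingEquiv.ofBijective _ hb).trans (u.trans (RingEquiv.ofBijective _ hb').symm), fun x =>
        (RingEquiv.ofBijective _ hb').apply_symm_apply _⟩
    · exfalso
      have h := congrArg u.symm (hres W' p' hm')
      rw [map_natCast, map_zero, ← map_natCast (residue W), ← map_zero (residue W)] at h
      exact hp'.ne_zero (Nat.cast_eq_zero.1 ((residue W).injective h))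
  · haveI := hd
    haveI := hdvr
    rcases hW' with ⟨hf', hc'⟩ | ⟨hd', hdvr', hcomp', p', hp', hm'⟩
    · exfalso
      letI := hf'.toField
      haveI := hc'
      have h := congrArg u (hres W p hm)
      rw [map_natCast, map_zero, ← map_natCast (residue W'), ← map_zero (residue W')] at h
      exact hp.ne_zero (Nat.cast_eq_zero.1 ((residue W').injective h))
    · haveI := hd'
      haveI := hdvr'
      haveI := hcomp'
      have hpp : p' = p := by
        have h := congrArg u (hres W p hm)
        rw [map_natCast, map_zero] at h
        obtain ⟨q, hq⟩ := CharP.exists (ResidueField W')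
        haveI := hq
        have h1 := (CharP.cast_eq_zero_iff (ResidueField W') q p').1 (hres W' p' hm')
        have h2 := (CharP.cast_eq_zero_iff (ResidueField W') q p).1 h
        rw [← ((Nat.dvd_prime hp').1 h1).resolve_left (CharP.char_ne_one (ResidueField W') q),
          ((Nat.dvd_prime hp).1 h2).resolve_left (CharP.char_ne_one (ResidueField W') q)]
      subst hpp
      obtain ⟨g, hg⟩ := exists_lift (hasLift_cohen W p' hp hm) (maximalIdeal W') le_rfl (fun x hx => by
        have h0 := hx 0
        rwa [zero_add, pow_one, sup_idem] at h0) (hm' ▸ Ideal.mem_span_singleton_self _) (u.toRingHom.comp (residue W))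
      have hgs : Function.Surjective g := by
        have hmap : (maximalIdeal W).map g = maximalIdeal W' := by
          rw [hm, Ideal.map_span, Set.image_singleton, map_natCast, ← hm']
        haveI : IsHausdorff ((maximalIdeal W).map g) W' := by rw [hmap]; infer_instance
        haveI := hcomp
        refine surjective_of_mk_map_comp_surjective (I := maximalIdeal W) g fun y => ?_
        obtain ⟨z, rfl⟩ := Ideal.Quotient.mk_surjective y
        obtain ⟨x, hx⟩ := (u.surjective.comp residue_surjective) (residue W' z)
        refine ⟨x, Ideal.Quotient.eq.2 (hmap ▸ Ideal.Quotient.eq.1 ((RingHom.congr_fun hg x).trans hx))⟩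
      have hgi : Function.Injective g := by
        rw [injective_iff_map_eq_zero]
        intro x hx
        by_contra hne
        obtain ⟨n, e, he⟩ := IsDiscreteValuationRing.eq_unit_mul_pow_irreducible hne
          ((IsDiscreteValuationRing.irreducible_iff_uniformizer _).2 hm)
        have hp0 : (p' : W') ≠ 0 := fun h => IsDiscreteValuationRing.not_a_field W' (by rw [hm', h, Ideal.span_singleton_eq_bot])
        rw [he, map_mul, map_pow, map_natCast] at hx
        exact pow_ne_zero n hp0 ((e.isUnit.map g).mul_right_eq_zero.1 hx)
      exact ⟨RingEquiv.ofBijective g ⟨hgi, hgs⟩, fun x => RingHom.congr_fun hg x⟩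

end Groth.Agent.S2457
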