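import Groth.Statements.S2459
import Groth.Prelude.Def_EGA41
import Groth.Prelude.Def_CAlgX
import Groth.Prelude.Def_Found
import Mathlib
import Groth.Agent.S0578
import Groth.Agent.Lib.H2CohenLift
import Groth.Agent.Lib.H2CohenFinite

set_option autoImplicit false
universe u
open EGA41

namespace Groth.Agent.S2459
open IsLocalRing Groth.Agent.H2CohenLift Groth.Agent.H2CohenFinite
set_option backward.isDefEq.respectTransparency.types false

open IsLocalRing in
/-- Let A be an Artinian local ring with maximal ideal 𝔪 and residue field of characteristic p (p = 0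
allowed). Then A is isomorphic to a quotient of a Cohen ring if and only if 𝔪 is generated by p·1. -/
theorem result {A : Type u} [CommRing A] [IsLocalRing A] [IsArtinianRing A]
    (p : ℕ) [CharP (ResidueField A) p] :
    (∃ (W : Type u) (_ : CommRing W) (I : Ideal W), EGA41.IsCohenRingEGA W ∧ Nonempty (A ≃+* W ⧸ I)) ↔
      maximalIdeal A = Ideal.span {(p : A)} := by
  constructor
  · rintro ⟨W, _, I, hW, ⟨e⟩⟩
    rcases hW with ⟨hf, hc⟩ | ⟨hd, hdvr, hcomp, q, hq, hm⟩
    · letI := hf.toField
      haveI := hc
      rcases Ideal.eq_bot_or_top I with rfl | rfl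
      · let e' : A ≃+* W := e.trans (RingEquiv.quotientBot W)
        have hA : IsField A := MulEquiv.isField hf e'.toMulEquiv
        have hp : p = 0 := by
          have h := CharP.cast_eq_zero (ResidueField A) p
          rw [← map_natCast (residue A), residue_eq_zero_iff, IsLocalRing.isField_iff_maximalIdeal_eq.1 hA, Ideal.mem_bot] at h
          have h2 := congrArg e' h
          rw [map_natCast, map_zero, Nat.cast_eq_zero] at h2
          exact h2
        rw [hp, Nat.cast_zero, Ideal.span_singleton_zero]
        exact IsLocalRing.isField_iff_maximalIdeal_eq.1 hA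
      · haveI : Subsingleton (W ⧸ (⊤ : Ideal W)) := Ideal.Quotient.subsingleton_iff.2 rfl
        exact absurd e.toEquiv.subsingleton (not_subsingleton A)
    · haveI := hd
      haveI := hdvr
      let π : W →+* A := e.symm.toRingHom.comp (Ideal.Quotient.mk I)
      have hπ : Function.Surjective π := e.symm.surjective.comp Ideal.Quotient.mk_surjective
      have hmA : maximalIdeal A = Ideal.span {(q : A)} := by
        rw [← IsLocalRing.map_maximalIdeal_of_surjective π hπ, hm, Ideal.map_span, Set.image_singleton, map_natCast]
      have h : (q : ResidueField A) = 0 := by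
        rw [← map_natCast (residue A), residue_eq_zero_iff, hmA]
        exact Ideal.mem_span_singleton_self _
      rw [((Nat.dvd_prime hq).1 ((CharP.cast_eq_zero_iff (ResidueField A) p q).1 h)).resolve_left
        (CharP.char_ne_one (ResidueField A) p)]
      exact hmA
  · intro hmA
    rcases CharP.char_is_prime_or_zero (ResidueField A) p with hp | rfl
    · haveI := Fact.mk hp
      obtain ⟨Λ, iΛ, iL, hΛ, ⟨e⟩⟩ := Groth.Agent.S0578.result p (ResidueField A)
      obtain ⟨hd, hdvr, hcomp, q, hq, hm⟩ := hΛ
      haveI := hd
      haveI := hdvr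
      haveI := hcomp
      have hqp : q = p := by
        have h1 : (q : ResidueField Λ) = 0 := by
          rw [← map_natCast (residue Λ), residue_eq_zero_iff]
          exact hm.symm ▸ Ideal.mem_span_singleton_self _
        have h2 := congrArg e h1
        rw [map_natCast, map_zero, CharP.cast_eq_zero_iff (ResidueField A) p] at h2
        exact ((Nat.prime_dvd_prime_iff_eq hp hq).1 h2).symm
      subst hqp
      obtain ⟨N, hN⟩ := IsArtinianRing.isNilpotent_jacobson_bot (R := A)
      rw [IsLocalRing.jacobson_eq_maximalIdeal ⊥ bot_ne_top] at hN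
      haveI := Groth.Agent.H2PowerSeries.isAdicComplete_of_pow (maximalIdeal A) hN
      obtain ⟨g, hg⟩ := exists_lift (hasLift_cohen Λ q hq hm) (maximalIdeal A) le_rfl (fun x hx => by
        have h0 := hx 0
        rwa [zero_add, pow_one, sup_idem] at h0) (hmA.symm ▸ Ideal.mem_span_singleton_self _) (e.toRingHom.comp (residue Λ))
      have hmap : (maximalIdeal Λ).map g = maximalIdeal A := by
        rw [hm, Ideal.map_span, Set.image_singleton, map_natCast, hmA]
      haveI : IsHausdorff ((maximalIdeal Λ).map g) A := by rw [hmap]; infer_instance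
      have hgs : Function.Surjective g := by
        refine surjective_of_mk_map_comp_surjective (I := maximalIdeal Λ) g fun y => ?_
        obtain ⟨z, rfl⟩ := Ideal.Quotient.mk_surjective y
        obtain ⟨x, hx⟩ := (e.surjective.comp residue_surjective) (residue A z)
        exact ⟨x, Ideal.Quotient.eq.2 (hmap ▸ Ideal.Quotient.eq.1 ((RingHom.congr_fun hg x).trans hx))⟩
      exact ⟨Λ, iΛ, RingHom.ker g, Or.inr ⟨hd, hdvr, hcomp, q, hq, hm⟩, ⟨(RingHom.quotientKerEquivOfSurjective hgs).symm⟩⟩
    · have hA : IsField A := IsLocalRing.isField_iff_maximalIdeal_eq.2 (by rw [hmA, Nat.cast_zero, Ideal.span_singleton_zero])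
      haveI : CharZero (ResidueField A) := CharP.charP_to_charZero _
      exact ⟨A, inferInstance, ⊥, Or.inl ⟨hA, charZero_of_inj_zero fun m hm => by
        have h := congrArg (residue A) hm
        rw [map_natCast, map_zero, Nat.cast_eq_zero] at h
        exact h⟩, ⟨(RingEquiv.quotientBot A).symm⟩⟩

end Groth.Agent.S2459
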