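import Groth.Statements.S2460
import Groth.Prelude.Def_EGA41
import Groth.Prelude.Def_CAlgX
import Groth.Prelude.Def_Found
import Mathlib
import Groth.Agent.S0578
import Groth.Agent.Lib.H2CohenLift
import Groth.Agent.Lib.H2CohenFinite

set_option autoImplicit false
universe u
open EGA41

namespace Groth.Agent.S2460
open IsLocalRing Groth.Agent.H2CohenLift Groth.Agent.H2CohenFinite
set_option backward.isDefEq.respectTransparency.types false

open IsLocalRing in
/-- Let A be a complete Noetherian local domain containing a field k₀ such that the residue field of A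
is a finite extension of k₀. Then there are n and an injective local k₀-algebra homomorphism from
the power series ring k₀[[T_1, …, T_n]] into A making A a finite module over it. -/
theorem result {k₀ A : Type u} [Field k₀] [CommRing A] [IsDomain A] [IsLocalRing A] [IsNoetherianRing A]
    [IsAdicComplete (maximalIdeal A) A] [Algebra k₀ A] [Module.Finite k₀ (ResidueField A)] :
    ∃ (n : ℕ) (w : MvPowerSeries (Fin n) k₀ →ₐ[k₀] A), Function.Injective w ∧ IsLocalHom w.toRingHom ∧ w.toRingHom.Finite := by
  obtain ⟨n, t, N, hdim, ht, hN⟩ := exists_sop A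
  have hbot : maximalIdeal k₀ = ⊥ := IsLocalRing.isField_iff_maximalIdeal_eq.1 (Field.toIsField k₀)
  haveI : IsAdicComplete (maximalIdeal k₀) k₀ :=
    Groth.Agent.H2PowerSeries.isAdicComplete_of_pow (maximalIdeal k₀) (N := 1) (by rw [pow_one, hbot])
  obtain ⟨f, hC, hX, hinj, hfin⟩ := exists_finite_injective (algebraMap k₀ A)
    (by rw [hbot, Ideal.map_bot]; exact bot_le) (RingHom.finite_algebraMap.2 inferInstance) t ht
    (hN.trans le_sup_right) (d := n) (by rw [hbot, Submodule.spanFinrank_bot, zero_add]) hdim.ge
  refine ⟨n, { toRingHom := f, commutes' := hC }, hinj, ⟨fun a ha => ?_⟩, hfin⟩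
  by_contra hu
  have h0 : a ∈ maximalIdeal (MvPowerSeries (Fin n) k₀) := hu
  rw [maximalIdeal_powerSeries, hbot, Ideal.map_bot, bot_sup_eq] at h0
  have h1 : (Ideal.span (Set.range (MvPowerSeries.X : Fin n → MvPowerSeries (Fin n) k₀))).map f ≤ maximalIdeal A := by
    rw [Ideal.map_span, Ideal.span_le]
    rintro _ ⟨_, ⟨i, rfl⟩, rfl⟩
    rw [hX]
    exact ht i
  exact h1 (Ideal.mem_map_of_mem f h0) ha

end Groth.Agent.S2460
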