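import Groth.Statements.S2461
import Groth.Prelude.Def_CAlgX
import Groth.Prelude.Def_EGA41
import Groth.Agent.Lib.H2AdicComplFS
import Mathlib

set_option autoImplicit false
universe u
open EGA41

namespace Groth.Agent.S2461
open IsLocalRing
set_option backward.isDefEq.respectTransparency.types false

/-- Let A carry the 𝔞-adic topology and let B be a Noetherian A-algebra with the 𝔟-adic topology. Then B
is formally smooth over A if and only if the 𝔟-adic completion of B, with the adic topology of the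
extended ideal, is formally smooth over A. -/
theorem result {A B : Type u} [CommRing A] (𝔞 : Ideal A) [CommRing B] [IsNoetherianRing B] [Algebra A B] (𝔟 : Ideal B) :
    EGA41.IsFormallySmoothAdic A 𝔞 B 𝔟 ↔
      EGA41.IsFormallySmoothAdic A 𝔞 (AdicCompletion 𝔟 B) (𝔟.map (algebraMap B (AdicCompletion 𝔟 B))) := by
  have hfg : 𝔟.FG := IsNoetherian.noetherian 𝔟
  constructor
  · intro h C _ _ J hJ hA u hu
    obtain ⟨k, hk⟩ := hu
    obtain ⟨m, hm⟩ := id hJ
    obtain ⟨v, hv⟩ := h C J hJ hA (u.comp (IsScalarTower.toAlgHom A B _)) ⟨k, fun s hs => hk _ (Groth.Agent.H2AdicComplFS.algebraMap_mem hs)⟩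
    have hvk : ∀ x ∈ 𝔟 ^ (k * m), v.toRingHom x = 0 := Groth.Agent.H2AdicComplFS.kill_of_quotient v.toRingHom J _ k m hm
      fun s hs => (AlgHom.congr_fun hv s).trans (hk _ (Groth.Agent.H2AdicComplFS.algebraMap_mem hs))
    obtain ⟨w, hw1, hw2⟩ := Groth.Agent.H2AdicComplFS.exists_extend hfg v.toRingHom (k * m) hvk
    let wA : AdicCompletion 𝔟 B →ₐ[A] C := { w with
      commutes' := fun r => by
        show w (algebraMap A _ r) = _
        rw [IsScalarTower.algebraMap_apply A B (AdicCompletion 𝔟 B), hw1]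
        exact v.commutes r }
    refine ⟨wA, AlgHom.ext fun x => ?_⟩
    have hext := Groth.Agent.H2AdicComplFS.hom_ext hfg (φ := (Ideal.Quotient.mk J).comp w) (ψ := u.toRingHom) (k * m + k)
      (fun x hx => by rw [RingHom.comp_apply, hw2 x (Ideal.pow_le_pow_right (Nat.le_add_right _ _) hx), map_zero])
      (fun x hx => hk x (Ideal.pow_le_pow_right (Nat.le_add_left _ _) hx))
      (fun s => by rw [RingHom.comp_apply, hw1]; exact AlgHom.congr_fun hv s)
    exact RingHom.congr_fun hext x
  · intro h C _ _ J hJ hA u hu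
    obtain ⟨k, hk⟩ := hu
    obtain ⟨m, hm⟩ := id hJ
    obtain ⟨w, hw1, hw2⟩ := Groth.Agent.H2AdicComplFS.exists_extend hfg u.toRingHom k hk
    let wA : AdicCompletion 𝔟 B →ₐ[A] C ⧸ J := { w with
      commutes' := fun r => by
        show w (algebraMap A _ r) = _
        rw [IsScalarTower.algebraMap_apply A B (AdicCompletion 𝔟 B), hw1]
        exact u.commutes r }
    obtain ⟨v, hv⟩ := h C J hJ hA wA ⟨k, hw2⟩
    exact ⟨v.comp (IsScalarTower.toAlgHom A B _), AlgHom.ext fun s => (AlgHom.congr_fun hv _).trans (hw1 s)⟩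

end Groth.Agent.S2461
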