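import Groth.Statements.S2462
import Groth.Prelude.Def_EGA41
import Groth.Agent.Lib.H2AdicLift
import Groth.Agent.Lib.H2PowerSeries
import Mathlib

set_option autoImplicit false
universe u
open EGA41

namespace Groth.Agent.S2462
open TensorProduct
open IsLocalRing
set_option backward.isDefEq.respectTransparency.types false

open IsLocalRing in
/-- Let A carry the 𝔞-adic and B the 𝔟-adic topology with B formally smooth over A; let C be a complete
Noetherian local A-algebra with 𝔞C inside the maximal ideal (continuity of A → C) and J ≠ C an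
ideal. Then every A-algebra homomorphism u : B → C/J sending 𝔟 into the maximal ideal of C/J
(continuity) is induced by an A-algebra homomorphism v : B → C sending 𝔟 into the maximal ideal of
C. -/
theorem result {A B C : Type u} [CommRing A] (𝔞 : Ideal A) [CommRing B] [Algebra A B] (𝔟 : Ideal B)
    (hB : EGA41.IsFormallySmoothAdic A 𝔞 B 𝔟)
    [CommRing C] [IsLocalRing C] [IsNoetherianRing C] [IsAdicComplete (maximalIdeal C) C] [Algebra A C]
    (hA : 𝔞.map (algebraMap A C) ≤ maximalIdeal C) (J : Ideal C) (hJ : J ≠ ⊤)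
    (u : B →ₐ[A] C ⧸ J) (hu : 𝔟.map u.toRingHom ≤ (maximalIdeal C).map (Ideal.Quotient.mk J)) :
    ∃ v : B →ₐ[A] C, 𝔟.map v.toRingHom ≤ maximalIdeal C ∧ (Ideal.Quotient.mkₐ A J).comp v = u := by
  haveI : Nontrivial (C ⧸ J) := Ideal.Quotient.nontrivial_iff.2 hJ
  haveI : IsLocalRing (C ⧸ J) := IsLocalRing.of_surjective' _ Ideal.Quotient.mk_surjective
  have hne : (maximalIdeal C).map (Ideal.Quotient.mk J) ≠ ⊤ := by
    rw [← Ideal.map_top (Ideal.Quotient.mk J)]
    intro h
    have := congrArg (Ideal.comap (Ideal.Quotient.mk J)) h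
    rw [Ideal.map_top, Ideal.comap_top, Ideal.comap_map_of_surjective _ Ideal.Quotient.mk_surjective,
      ← RingHom.ker_eq_comap_bot, Ideal.mk_ker, sup_eq_left.2 (IsLocalRing.le_maximalIdeal hJ)] at this
    exact (maximalIdeal.isMaximal C).ne_top this
  haveI : IsHausdorff ((maximalIdeal C).map (Ideal.Quotient.mk J)) (C ⧸ J) := IsHausdorff.of_isLocalRing (I := (maximalIdeal C).map (Ideal.Quotient.mk J)) (C ⧸ J) hne
  obtain ⟨v, ⟨k, hk⟩, hv⟩ := Groth.Agent.H2AdicLift.exists_lift (a := 1) (t := 1) (k := 1) 𝔞 𝔟 (maximalIdeal C) hB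
    (by rwa [pow_one]) J (by rw [pow_one]; exact IsLocalRing.le_maximalIdeal hJ) u (by rwa [pow_one])
  refine ⟨v, Ideal.map_le_iff_le_comap.2 fun x hx => ?_, hv⟩
  have := hk (Ideal.mem_map_of_mem v.toRingHom (Ideal.pow_mem_pow hx k))
  rw [map_pow] at this
  exact (maximalIdeal.isMaximal C).isPrime.mem_of_pow_mem k this

end Groth.Agent.S2462
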