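import Groth.Statements.S2478
import Mathlib
import Groth.Agent.Lib.H4ProCons


set_option autoImplicit false
universe u
open EGA41

namespace Groth.Agent.S2478

open Topology in
/-- Equivalence of (a'') and (b) for X = Spec A affine: a subset E of Spec A is the image of the map
Spec B → Spec A induced by some ring homomorphism A → B if and only if E is an intersection of a
family of constructible subsets of Spec A. -/
theorem result {A : Type u} [CommRing A] (E : Set (PrimeSpectrum A)) :
    (∃ (B : Type u) (_ : CommRing B) (f : A →+* B), Set.range (PrimeSpectrum.comap f) = E) ↔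
      ∃ S : Set (Set (PrimeSpectrum A)), (∀ s ∈ S, IsConstructible s) ∧ E = ⋂₀ S := by
  constructor
  · rintro ⟨B, _, f, rfl⟩
    have h : H4ProCons.ProC (Set.range (PrimeSpectrum.comap f)) := by
      rw [← Set.image_univ]
      exact H4ProCons.proC_image f (H4ProCons.proC_constructible Topology.IsConstructible.univ)
    refine ⟨{s | Topology.IsConstructible s ∧ Set.range (PrimeSpectrum.comap f) ⊆ s}, fun s hs => hs.1,
      subset_antisymm (Set.subset_sInter fun s hs => hs.2) fun x hx => ?_⟩
    by_contra hxE
    obtain ⟨C, hC, hxC, hCE⟩ := h x hxE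
    exact hx Cᶜ ⟨hC.compl, fun y hy hyC => hCE hyC hy⟩ hxC
  · rintro ⟨S, hS, rfl⟩
    have h : H4ProCons.ProC (⋂₀ S) := fun x hx => by
      simp only [Set.mem_compl_iff, Set.mem_sInter, not_forall] at hx
      obtain ⟨s, hs, hxs⟩ := hx
      exact ⟨sᶜ, (hS s hs).compl, hxs, fun y hy hy' => hy (hy' s hs)⟩
    exact ⟨_, inferInstance, _, H4ProCons.range_pi_residueField h⟩

end Groth.Agent.S2478
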