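import Groth.Statements.S2481
import Groth.Prelude.Def_CAlgX
import Groth.Prelude.Def_EGA41
import Groth.Agent.Lib.H2AdicTest
import Groth.Agent.Lib.H2AdicNilp
import Mathlib

set_option autoImplicit false
universe u
open EGA41

namespace Groth.Agent.S2481
open IsLocalRing
set_option backward.isDefEq.respectTransparency.types false

open IsLocalRing in
/-- Let A → B be a local homomorphism of Noetherian local rings with the adic topologies, K the residue
field of B. Then B is formally smooth over A if and only if: for every Artinian local ring C with a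
local homomorphism A → C, every nilpotent ideal J of C and every local A-algebra homomorphism u : B
→ C/J inducing a bijection of residue fields (so that C has residue field K and u induces the
identity on it), u is induced by a local A-algebra homomorphism B → C. -/
theorem result {A B : Type u} [CommRing A] [IsLocalRing A] [IsNoetherianRing A] [CommRing B] [IsLocalRing B] [IsNoetherianRing B]
    [Algebra A B] [IsLocalHom (algebraMap A B)] :
    EGA41.IsFormallySmoothAdic A (maximalIdeal A) B (maximalIdeal B) ↔
      ∀ (C : Type u) [CommRing C] [IsLocalRing C] [IsArtinianRing C] [Algebra A C] [IsLocalHom (algebraMap A C)]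
        (J : Ideal C), IsNilpotent J → ∀ [IsLocalRing (C ⧸ J)] (u : B →ₐ[A] C ⧸ J) [IsLocalHom u.toRingHom],
        Function.Bijective (ResidueField.map u.toRingHom) →
        ∃ f : B →ₐ[A] C, IsLocalHom f.toRingHom ∧ (Ideal.Quotient.mkₐ A J).comp f = u := by
  constructor
  · intro h C _ _ _ _ _ J hJ _ u _ _
    obtain ⟨n, hn⟩ := (isArtinianRing_iff_isNilpotent_maximalIdeal C).1 inferInstance
    rw [Ideal.zero_eq_bot] at hn
    haveI : IsLocalHom (Ideal.Quotient.mk J) := IsLocalHom.of_surjective _ Ideal.Quotient.mk_surjective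
    have h1 : (maximalIdeal A ^ n).map (algebraMap A C) = ⊥ := by
      rw [Ideal.map_pow, ← le_bot_iff, ← hn]
      refine Ideal.pow_right_mono (Ideal.map_le_iff_le_comap.2 fun a ha => ?_) n
      exact (mem_maximalIdeal _).2 fun hu => (mem_maximalIdeal a).1 ha (isUnit_of_map_unit (algebraMap A C) a hu)
    have hle : (maximalIdeal B).map u.toRingHom ≤ (maximalIdeal C).map (Ideal.Quotient.mk J) := by
      rw [Ideal.map_le_iff_le_comap]
      intro y hy
      obtain ⟨c, hc⟩ := Ideal.Quotient.mk_surjective (u y)
      show u y ∈ (maximalIdeal C).map (Ideal.Quotient.mk J)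
      rw [← hc]
      refine Ideal.mem_map_of_mem _ ((mem_maximalIdeal c).2 fun hu => (mem_maximalIdeal y).1 hy ?_)
      exact isUnit_of_map_unit u.toRingHom y (by
        show IsUnit (u y)
        rw [← hc]; exact hu.map _)
    have h2 := Ideal.pow_right_mono hle n
    rw [← Ideal.map_pow, ← Ideal.map_pow, hn, Ideal.map_bot] at h2
    obtain ⟨f, hf⟩ := h C J hJ ⟨n, h1⟩ u ⟨n, fun x hx => h2 (Ideal.mem_map_of_mem u.toRingHom hx)⟩
    refine ⟨f, ⟨fun x hx => ?_⟩, hf⟩
    refine isUnit_of_map_unit u.toRingHom x ?_
    show IsUnit (u x)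
    rw [← hf]
    exact IsUnit.map (Ideal.Quotient.mk J) hx
  · intro H
    refine Groth.Agent.H2AdicNilp.isFormallySmoothAdic_of_isAdicFormallySmooth _ _
      (Groth.Agent.H2AdicTest.isAdicFormallySmooth_of_length_one fun C _ _ _ _ k π hπ hsq _ => ?_)
    obtain ⟨h1, -, h3, φ, h4, hb, hφ⟩ := Groth.Agent.H2AdicTest.test_data k π hπ hsq
    haveI := h1
    haveI := h3
    haveI := h4
    obtain ⟨χ, -, hχ⟩ := H C _ ⟨2, hsq⟩ φ hb
    exact ⟨χ, AlgHom.ext fun s => hφ _ _ (AlgHom.congr_fun hχ s)⟩

end Groth.Agent.S2481
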