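import Groth.Statements.S2483
import Groth.Prelude.Def_CAlgX
import Groth.Prelude.Def_EGA41
import Groth.Agent.Lib.H2GeomRed
import Groth.Agent.Lib.H2CohenField
import Groth.Agent.Lib.H2AdicLift
import Groth.Agent.Lib.H2AdicNilp
import Groth.Agent.Lib.CohenRing
import Mathlib

set_option autoImplicit false
universe u
open EGA41

namespace Groth.Agent.S2483
open IsLocalRing
set_option backward.isDefEq.respectTransparency.types false

open IsLocalRing in
/-- Let C be a complete Noetherian local ring with maximal ideal 𝔍 ≠ 0 and residue field K, and u : K →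
C a ring homomorphism which is a section of the residue map. Then u is the only such section if and
only if Ω_{K/ℤ} = 0. -/
theorem result {C : Type u} [CommRing C] [IsLocalRing C] [IsNoetherianRing C] [IsAdicComplete (maximalIdeal C) C]
    (hm : maximalIdeal C ≠ ⊥) (u : ResidueField C →+* C) (hu : ∀ x, residue C (u x) = x) :
    (∀ v : ResidueField C →+* C, (∀ x, residue C (v x) = x) → v = u) ↔ Subsingleton (Ω[ResidueField C⁄ℤ]) := by
  constructor
  · intro h
    let K := ResidueField C
    letI : Algebra K C := u.toAlgebra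
    by_contra hns
    haveI : Nontrivial (Ω[K⁄ℤ]) := not_subsingleton_iff_nontrivial.1 hns
    let M := maximalIdeal C
    have hM2 : M ^ 2 ≠ M := fun he => hm (Submodule.eq_bot_of_le_smul_of_le_jacobson_bot M M (IsNoetherian.noetherian M)
      (by rw [smul_eq_mul, ← pow_two]; exact he.ge) (IsLocalRing.maximalIdeal_le_jacobson _))
    obtain ⟨m, hmM, hm2⟩ := SetLike.exists_of_lt (lt_of_le_of_ne (Ideal.pow_le_self two_ne_zero) hM2)
    obtain ⟨ω, hω⟩ := exists_ne (0 : Ω[K⁄ℤ])
    obtain ⟨f, hf⟩ : ∃ f : Module.Dual K (Ω[K⁄ℤ]), f ω ≠ 0 := by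
      by_contra hall
      push Not at hall
      exact hω ((Module.forall_dual_apply_eq_zero_iff K _).1 hall)
    have hD : ∃ x : K, f (KaehlerDifferential.D ℤ K x) ≠ 0 := by
      by_contra hall
      push Not at hall
      refine hf (LinearMap.congr_fun (?_ : f = 0) ω)
      exact LinearMap.ext_on (KaehlerDifferential.span_range_derivation ℤ K) (by rintro _ ⟨x, rfl⟩; exact hall x)
    obtain ⟨x0, hx0⟩ := hD
    let d : Derivation ℤ K K := Derivation.mk' (f.toAddMonoidHom.comp (KaehlerDifferential.D ℤ K).toLinearMap.toAddMonoidHom).toIntLinearMap fun a b => by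
      show f (KaehlerDifferential.D ℤ K (a * b)) = a • f (KaehlerDifferential.D ℤ K b) + b • f (KaehlerDifferential.D ℤ K a)
      rw [Derivation.leibniz, map_add, map_smul, map_smul]
    let ψ : K →+* C ⧸ M ^ 2 :=
      { toFun := fun x => Ideal.Quotient.mk _ (u x + u (d x) * m)
        map_one' := by rw [Derivation.map_one_eq_zero, map_zero, zero_mul, add_zero, map_one, map_one]
        map_zero' := by simp
        map_add' := fun x y => by simp only [map_add, map_mul, add_mul]; ring
        map_mul' := fun x y => by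
          rw [← map_mul, Ideal.Quotient.eq, map_mul, Derivation.leibniz, map_add, smul_eq_mul, smul_eq_mul, map_mul, map_mul]
          have : m * m ∈ M ^ 2 := by rw [pow_two]; exact Ideal.mul_mem_mul hmM hmM
          have h2 := Ideal.mul_mem_left (M ^ 2) (-(u (d x) * u (d y))) this
          convert h2 using 1
          ring }
    obtain ⟨P, hPperf, hPK⟩ : ∃ P : Subfield K, PerfectField P ∧ ∀ z : P, ψ z = Ideal.Quotient.mk _ (u z) := by
      have hperf : PerfectField (⊥ : Subfield K) := by
        obtain _ | ⟨q, hq, hqK⟩ := CharP.exists' K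
        · haveI : CharZero (⊥ : Subfield K) := charZero_of_inj_zero fun n hn => by
            have := congrArg (Subtype.val) hn
            exact_mod_cast this
          infer_instance
        · haveI := Fact.mk hq.out
          haveI : Finite (⊥ : Subfield K) := by
            have hle : (⊥ : Subfield K) ≤ (ZMod.castHom (dvd_refl q) K).fieldRange := bot_le
            haveI : Finite (ZMod.castHom (dvd_refl q) K).fieldRange := Finite.of_surjective _ (RingHom.rangeRestrictField_bijective _).2
            exact Finite.of_injective _ (Subfield.inclusion hle).injective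
          infer_instance
      refine ⟨⊥, hperf, fun z => ?_⟩
      let E : Subfield K :=
        { carrier := {x | d x = 0}
          mul_mem' := fun {a b} ha hb => by simp [show d a = 0 from ha, show d b = 0 from hb]
          one_mem' := d.map_one_eq_zero
          add_mem' := fun {a b} ha hb => by simp [show d a = 0 from ha, show d b = 0 from hb]
          zero_mem' := map_zero d
          neg_mem' := fun {a} ha => by simp [show d a = 0 from ha]
          inv_mem' := fun a ha => by simp [show d a = 0 from ha, Derivation.leibniz_inv] }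
      show Ideal.Quotient.mk _ (u z + u (d z) * m) = _
      rw [show d z = 0 from (bot_le : (⊥ : Subfield K) ≤ E) z.2, map_zero, zero_mul, add_zero]
    haveI := hPperf
    haveI : Algebra.FormallySmooth P K := Groth.Agent.H2PerfectSmooth.formallySmooth P K
    letI : Algebra P C := (u.comp (algebraMap P K)).toAlgebra
    let ψ' : K →ₐ[P] C ⧸ M ^ 2 := { ψ with commutes' := fun z => hPK z }
    have hfs : EGA41.IsFormallySmoothAdic P ⊥ K ⊥ := fun D _ _ J hJ _ w _ => Algebra.FormallySmooth.exists_lift J hJ w
    have hne : M.map (Ideal.Quotient.mk (M ^ 2)) ≠ ⊤ := by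
      intro htop
      have := congrArg (Ideal.comap (Ideal.Quotient.mk (M ^ 2))) htop
      rw [Ideal.comap_top, Ideal.comap_map_of_surjective _ Ideal.Quotient.mk_surjective,
        ← RingHom.ker_eq_comap_bot, Ideal.mk_ker, sup_eq_left.2 (Ideal.pow_le_self two_ne_zero)] at this
      exact (maximalIdeal.isMaximal C).ne_top this
    haveI : Nontrivial (C ⧸ M ^ 2) := Ideal.Quotient.nontrivial_iff.2 fun htop =>
      (maximalIdeal.isMaximal C).ne_top (top_le_iff.1 (htop.ge.trans (Ideal.pow_le_self two_ne_zero)))
    haveI : IsLocalRing (C ⧸ M ^ 2) := IsLocalRing.of_surjective' _ Ideal.Quotient.mk_surjective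
    haveI : IsHausdorff (M.map (Ideal.Quotient.mk (M ^ 2))) (C ⧸ M ^ 2) := IsHausdorff.of_isLocalRing (I := M.map (Ideal.Quotient.mk (M ^ 2))) (C ⧸ M ^ 2) hne
    obtain ⟨v, -, hv⟩ := Groth.Agent.H2AdicLift.exists_lift (a := 1) (t := 1) (k := 1) (⊥ : Ideal P) (⊥ : Ideal K) M hfs
      (by simp) (M ^ 2) (by rw [pow_one]; exact Ideal.pow_le_self two_ne_zero) ψ' (by simp)
    have hv' : ∀ x, v x - (u x + u (d x) * m) ∈ M ^ 2 := fun x => Ideal.Quotient.eq.1 (AlgHom.congr_fun hv x)
    have hsec : ∀ x, residue C (v x) = x := fun x => by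
      have h1 : residue C (v x - (u x + u (d x) * m)) = 0 := (residue_eq_zero_iff _).2 (Ideal.pow_le_self two_ne_zero (hv' x))
      rw [map_sub, map_add, map_mul, hu, (residue_eq_zero_iff m).2 hmM, mul_zero, add_zero, sub_eq_zero] at h1
      exact h1
    have heq := RingHom.congr_fun (h v.toRingHom hsec) x0
    have h2 := hv' x0
    rw [show v x0 = u x0 from heq, sub_add_cancel_left, neg_mem_iff] at h2
    refine hm2 ?_
    have h3 := Ideal.mul_mem_left _ (u (d x0)⁻¹) h2
    rwa [← mul_assoc, ← map_mul, inv_mul_cancel₀ (show d x0 ≠ 0 from hx0), map_one, one_mul] at h3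
  · intro hsub v hv
    haveI : Algebra.FormallyUnramified ℤ (ResidueField C) := ⟨hsub⟩
    refine RingHom.ext fun x => sub_eq_zero.1 (IsHausdorff.haus' (I := maximalIdeal C) _ fun n => ?_)
    rw [SModEq.zero, smul_eq_mul, Ideal.mul_top, ← Ideal.Quotient.eq_zero_iff_mem, map_sub, sub_eq_zero]
    let I : Ideal (C ⧸ maximalIdeal C ^ n) := (maximalIdeal C).map (Ideal.Quotient.mk _)
    let g1 : ResidueField C →ₐ[ℤ] C ⧸ maximalIdeal C ^ n := ((Ideal.Quotient.mk _).comp v).toIntAlgHom
    let g2 : ResidueField C →ₐ[ℤ] C ⧸ maximalIdeal C ^ n := ((Ideal.Quotient.mk _).comp u).toIntAlgHom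
    have : g1 = g2 := Algebra.FormallyUnramified.ext (I := I)
      ⟨n, by rw [← Ideal.map_pow, Ideal.map_quotient_self, Ideal.zero_eq_bot]⟩ fun y => by
        show Ideal.Quotient.mk I (Ideal.Quotient.mk _ (v y)) = Ideal.Quotient.mk I (Ideal.Quotient.mk _ (u y))
        rw [Ideal.Quotient.eq, ← map_sub]
        refine Ideal.mem_map_of_mem _ ?_
        rw [← residue_eq_zero_iff, map_sub, hv, hu, sub_self]
    exact AlgHom.congr_fun this x

end Groth.Agent.S2483
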