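import Groth.Statements.S2563
import Mathlib


set_option autoImplicit false
open TensorProduct
universe u
open EGA43

namespace Groth.Agent.S2563

theorem coeff_mem_of_map_eq_zero {A : Type u} [CommRing A] (J : Ideal A) (B : Type u) [CommRing B]
    [Algebra A B] {M : Type u} [AddCommGroup M] [Module A M] {κ : Type u}
    (c : Module.Basis κ (A ⧸ J) ((A ⧸ J) ⊗[A] M)) (m : κ → M) (hm : ∀ k, c k = 1 ⊗ₜ m k)
    (x : κ →₀ B) (hx : Finsupp.linearCombination B (fun k => (1 : B) ⊗ₜ[A] m k) x = 0) (k : κ) :
    x k ∈ J.map (algebraMap A B) := by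
  classical
  let Q := B ⧸ J.map (algebraMap A B)
  let j : A ⧸ J →ₐ[A] Q := Ideal.Quotient.liftₐ J (Algebra.ofId A Q) fun a ha => by
    rw [Algebra.ofId_apply, IsScalarTower.algebraMap_apply A B Q]
    exact Ideal.Quotient.eq_zero_iff_mem.mpr (Ideal.mem_map_of_mem _ ha)
  let l : M →ₗ[A] Q := j.toLinearMap.comp
    ((((c.coord k).restrictScalars A)).comp (TensorProduct.mk A (A ⧸ J) M 1))
  let ψ : B ⊗[A] M →ₗ[B] Q := l.liftBaseChange B
  have hψ : ∀ k', ψ ((1 : B) ⊗ₜ m k') = if k' = k then 1 else 0 := by
    intro k'
    simp [ψ, l, ← hm, Finsupp.single_apply, apply_ite j]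
  have h := congrArg ψ hx
  rw [Finsupp.linearCombination_apply, Finsupp.sum, map_sum, map_zero] at h
  simp only [map_smul, hψ] at h
  rw [← Ideal.Quotient.eq_zero_iff_mem]
  refine Eq.trans ?_ h
  rw [Finset.sum_eq_single k]
  · rw [if_pos rfl, Algebra.smul_def, mul_one]; rfl
  · intro b _ hb; simp [hb]
  · intro hk; simp [Finsupp.notMem_support_iff.mp hk]

theorem free_of_free {A : Type u} [CommRing A] (J : Ideal A) (hJ : IsNilpotent J)
    {ι : Type u} (B : ι → Type u) [∀ i, CommRing (B i)] [∀ i, Algebra A (B i)]
    (hB : ∀ a : A, (∀ i, algebraMap A (B i) a = 0) → a = 0)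
    (M : Type u) [AddCommGroup M] [Module A M]
    (hfree : ∀ i, Module.Free (B i) (B i ⊗[A] M))
    (hfreeJ : Module.Free (A ⧸ J) ((A ⧸ J) ⊗[A] M)) : Module.Free A M := by
  classical
  obtain ⟨N, hN⟩ := hJ
  let c := Module.Free.chooseBasis (A ⧸ J) ((A ⧸ J) ⊗[A] M)
  have hsurj : ∀ y : (A ⧸ J) ⊗[A] M, ∃ m : M, (1 : A ⧸ J) ⊗ₜ[A] m = y :=
    TensorProduct.mk_surjective A M (A ⧸ J) Ideal.Quotient.mk_surjective
  choose m hm using fun k => hsurj (c k)
  let f := Finsupp.linearCombination A m
  have hf : LinearMap.range f = ⊤ := by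
    have hstep : ∀ y : M, y ∈ LinearMap.range f ⊔ J • ⊤ := by
      intro y
      have hmem : TensorProduct.mk A (A ⧸ J) M 1 y ∈
          Submodule.map (TensorProduct.mk A (A ⧸ J) M 1) (LinearMap.range f) := by
        have := c.mem_span (TensorProduct.mk A (A ⧸ J) M 1 y)
        rw [Finsupp.range_linearCombination, Submodule.map_span, ← Set.range_comp,
          show (TensorProduct.mk A (A ⧸ J) M 1) ∘ m = c from funext hm]
        rwa [← Submodule.restrictScalars_span A (A ⧸ J) Ideal.Quotient.mk_surjective,
          Submodule.restrictScalars_mem]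
      obtain ⟨z, hz, hzy⟩ := hmem
      have h0 : y - z ∈ J • (⊤ : Submodule A M) := by
        rw [← Submodule.Quotient.mk_eq_zero]
        have h1 := congrArg (TensorProduct.quotTensorEquivQuotSMul M J) hzy
        simp only [TensorProduct.mk_apply] at h1
        rw [show (1 : A ⧸ J) = Ideal.Quotient.mk J 1 from rfl, TensorProduct.quotTensorEquivQuotSMul_mk_tmul,
          TensorProduct.quotTensorEquivQuotSMul_mk_tmul, one_smul, one_smul] at h1
        rw [Submodule.Quotient.mk_sub, ← h1, sub_self]
      rw [← add_sub_cancel z y]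
      exact add_mem (Submodule.mem_sup_left hz) (Submodule.mem_sup_right h0)
    have hpow : ∀ n : ℕ, (⊤ : Submodule A M) ≤ LinearMap.range f ⊔ (J ^ n) • ⊤ := by
      intro n
      induction n with
      | zero => simp
      | succ n ih =>
        refine ih.trans (sup_le le_sup_left ?_)
        calc (J ^ n) • (⊤ : Submodule A M) ≤ (J ^ n) • (LinearMap.range f ⊔ J • ⊤) :=
              Submodule.smul_mono le_rfl fun y _ => hstep y
          _ ≤ LinearMap.range f ⊔ (J ^ (n + 1)) • ⊤ := by
              rw [Submodule.smul_sup, ← Submodule.smul_assoc, smul_eq_mul, ← pow_succ]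
              exact sup_le_sup_right Submodule.smul_le_right _
    exact top_le_iff.mp ((hpow N).trans (by simp [hN]))
  have hinj : Function.Injective f := by
    rw [injective_iff_map_eq_zero]
    intro x hx
    refine Finsupp.ext fun k => hB _ fun i => ?_
    let g := Finsupp.linearCombination (B i) fun k => (1 : B i) ⊗ₜ[A] m k
    have hg : Function.Surjective g := by
      rw [← LinearMap.range_eq_top, Finsupp.range_linearCombination, eq_top_iff]
      rintro y -
      induction y with
      | zero => exact zero_mem _
      | add a b ha hb => exact add_mem ha hb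
      | tmul b y =>
        obtain ⟨z, rfl⟩ : y ∈ LinearMap.range f := hf ▸ Submodule.mem_top
        rw [show b ⊗ₜ[A] f z = b • ((1 : B i) ⊗ₜ[A] f z) by simp [TensorProduct.smul_tmul']]
        refine Submodule.smul_mem _ _ ?_
        simp only [f, Finsupp.linearCombination_apply, Finsupp.sum, TensorProduct.tmul_sum,
          TensorProduct.tmul_smul]
        exact Submodule.sum_mem _ fun k _ => Submodule.smul_of_tower_mem _ _
          (Submodule.subset_span ⟨k, rfl⟩)
    obtain ⟨s, hs⟩ := Module.projective_lifting_property g LinearMap.id hg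
    let P := LinearMap.id - s.comp g
    have hP : ∀ y, g (P y) = 0 := fun y => by
      simp only [P, LinearMap.sub_apply, LinearMap.comp_apply, LinearMap.id_apply, map_sub]
      rw [sub_eq_zero]
      exact (LinearMap.congr_fun hs (g y)).symm
    have key : ∀ (n : ℕ) y, g y = 0 → ∀ k, y k ∈ (J.map (algebraMap A (B i))) ^ n := by
      intro n
      induction n with
      | zero => simp
      | succ n ih =>
        intro y hy k
        have hPy : P y = y := by simp [P, hy]
        rw [← hPy]
        conv in P y => rw [← Finsupp.sum_single y]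
        rw [map_finsuppSum, Finsupp.sum_apply]
        refine Ideal.sum_mem _ fun j _ => ?_
        show P (Finsupp.single j (y j)) k ∈ _
        rw [show Finsupp.single j (y j) = y j • Finsupp.single j (1 : B i) by simp, map_smul,
          Finsupp.smul_apply, smul_eq_mul, pow_succ']
        exact Ideal.mul_mem_mul (coeff_mem_of_map_eq_zero J (B i) c m (fun k => (hm k).symm) y hy j)
          (ih _ (hP _) k)
    have hxi : g (x.mapRange (algebraMap A (B i)) (map_zero _)) = 0 := by
      have hgf : ∀ z : (Module.Free.ChooseBasisIndex (A ⧸ J) ((A ⧸ J) ⊗[A] M)) →₀ A,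
          g (z.mapRange (algebraMap A (B i)) (map_zero _)) = (1 : B i) ⊗ₜ[A] f z := fun z => by
        induction z using Finsupp.induction_linear with
        | zero => simp
        | add a b ha hb =>
          rw [Finsupp.mapRange_add (map_add (algebraMap A (B i))), map_add, map_add, ha, hb,
            TensorProduct.tmul_add]
        | single k a => simp [g, f, algebraMap_smul, TensorProduct.tmul_smul]
      rw [hgf, hx, TensorProduct.tmul_zero]
    simpa [← Ideal.map_pow, hN] using key N _ hxi k
  exact Module.Free.of_equiv (LinearEquiv.ofBijective f ⟨hinj, LinearMap.range_eq_top.mp hf⟩)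

/-- Let A be a commutative ring, J a nilpotent ideal of A, and (B_i) a family of commutative A-algebras
such that an element of A vanishing in every B_i is zero. Let M be an A-module such that each B_i
⊗_A M is a free B_i-module and (A/J) ⊗_A M is a free (A/J)-module. Then M is a free A-module. -/
theorem result {A : Type u} [CommRing A] (J : Ideal A) (hJ : IsNilpotent J)
    {ι : Type u} (B : ι → Type u) [∀ i, CommRing (B i)] [∀ i, Algebra A (B i)]
    (hB : ∀ a : A, (∀ i, algebraMap A (B i) a = 0) → a = 0)
    (M : Type u) [AddCommGroup M] [Module A M]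
    (hfree : ∀ i, Module.Free (B i) (B i ⊗[A] M)) (hfreeJ : Module.Free (A ⧸ J) ((A ⧸ J) ⊗[A] M)) :
    Module.Free A M := by
  exact free_of_free J hJ B hB M hfree hfreeJ

end Groth.Agent.S2563
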