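import Groth.Statements.S4704
import Mathlib
import Groth.Prelude.Def_EGA4b
import Groth.Prelude.Def_CAlg
import Groth.Prelude.Def_Found
import Groth.Agent.Lib.H2ComplReg
import Groth.Agent.S9295

set_option autoImplicit false
universe u
open EGA4

namespace Groth.Agent.S4704
open IsLocalRing
set_option backward.isDefEq.respectTransparency.types false
set_option synthInstance.maxHeartbeats 400000
set_option maxHeartbeats 1000000

/-- Let A → A' be a local homomorphism of Noetherian local rings which is regular (flat, with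
geometrically regular fibres). If the completion map of A' is regular (the formal fibres of A' are
geometrically regular), then the completion map of A is regular. -/
theorem result (A A' : Type u) [CommRing A] [CommRing A'] [IsNoetherianRing A]
    [IsNoetherianRing A'] [IsLocalRing A] [IsLocalRing A'] [Algebra A A'] [IsLocalHom (algebraMap A A')]
    (hf : CAlg.IsRegularHom A A') (hA' : CAlg.IsRegularHom A' (EGA4.Cpl A')) :
    CAlg.IsRegularHom A (EGA4.Cpl A) := by
  haveI : IsNoetherianRing (EGA4.Cpl A) := Groth.Agent.CplNoeth.isNoetherianRing_completion _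
  haveI : IsNoetherianRing (EGA4.Cpl A') := Groth.Agent.CplNoeth.isNoetherianRing_completion _
  have hI : (maximalIdeal A).FG := IsNoetherian.noetherian _
  have hAC : CAlg.IsRegularHom A (EGA4.Cpl A') := Groth.Agent.H2GeomRegMore.isRegularHom_trans hf hA'
  obtain ⟨Φ, hΦ⟩ := Groth.Agent.H2ComplReg.exists_map (maximalIdeal A) hI (maximalIdeal A') (algebraMap A A')
    (((local_hom_TFAE (algebraMap A A')).out 0 2).1 ‹_›)
  letI : Algebra (EGA4.Cpl A) (EGA4.Cpl A') := Φ.toAlgebra
  haveI : IsScalarTower A (EGA4.Cpl A) (EGA4.Cpl A') := IsScalarTower.of_algebraMap_eq fun a => by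
    show _ = Φ (algebraMap A _ a)
    rw [hΦ]
    exact IsScalarTower.algebraMap_apply A A' (EGA4.Cpl A') a
  have hle : (maximalIdeal A).map (algebraMap A (EGA4.Cpl A')) ≤ maximalIdeal (EGA4.Cpl A') := by
    rw [IsScalarTower.algebraMap_eq A A' (EGA4.Cpl A'), ← Ideal.map_map, AdicCompletion.maximalIdeal_eq_map]
    exact Ideal.map_mono (((local_hom_TFAE (algebraMap A A')).out 0 2).1 ‹_›)
  haveI : Module.Flat A A' := hf.1
  haveI : Module.Flat A' (EGA4.Cpl A') := hA'.1
  haveI : Module.Flat A (EGA4.Cpl A') := Module.Flat.trans A A' _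
  haveI : Module.Flat (EGA4.Cpl A) (EGA4.Cpl A') :=
    Groth.Agent.H2ComplReg.flat_of_dense (maximalIdeal A)
      (by rw [IsLocalRing.jacobson_eq_maximalIdeal ⊥ bot_ne_top]; exact hle)
      fun n x => Groth.Agent.H2AdicComplFS.exists_sub_mem hI n x
  haveI : IsLocalHom (algebraMap (EGA4.Cpl A) (EGA4.Cpl A')) := by
    refine ((local_hom_TFAE (algebraMap (EGA4.Cpl A) (EGA4.Cpl A'))).out 0 2).2 ?_
    rw [AdicCompletion.maximalIdeal_eq_map, Ideal.map_map, ← IsScalarTower.algebraMap_eq]
    exact hle
  haveI : Module.FaithfullyFlat (EGA4.Cpl A) (EGA4.Cpl A') := Module.FaithfullyFlat.of_flat_of_isLocalHom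
  exact Groth.Agent.S9295.result A (EGA4.Cpl A) (EGA4.Cpl A') hAC PrimeSpectrum.comap_surjective_of_faithfullyFlat

end Groth.Agent.S4704
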