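import Groth.Statements.S9126
import Mathlib
import Groth.Prelude.Def_Found
import Groth.Prelude.Def_CAlg
import Groth.Agent.Lib.Catenary
import Groth.Agent.Lib.H2DepthLocal
import Groth.Agent.Lib.UnivCatenary

set_option autoImplicit false
universe u
open Groth.Agent.Catenary
open Groth.Agent.UnivCatenary
open CAlg

namespace Groth.Agent.S9126

/-- An algebra essentially of finite type over a Noetherian universally catenary ring is universally
catenary. -/
theorem result (A : Type u) [CommRing A] (B : Type u) [CommRing B]
    [Algebra A B] [Algebra.EssFiniteType A B]
    (hA : CAlg.IsUniversallyCatenary A) : CAlg.IsUniversallyCatenary B := by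
  exact univCat_of_essFiniteType hA

end Groth.Agent.S9126
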