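import Groth.Statements.S9324
import Mathlib
import Groth.Prelude.Def_Hens2
import Groth.Agent.Lib.H4Hensel
import Groth.Agent.Lib.H4HenselPair
import Groth.Agent.Lib.H4HenselApps

set_option autoImplicit false
universe u
open Hensel

namespace Groth.Agent.S9324
open TensorProduct
set_option maxHeartbeats 1000000
set_option synthInstance.maxHeartbeats 400000
set_option backward.isDefEq.respectTransparency.types false

open TensorProduct in
/-- Let `(A, I) → (B, J)` be a map of pairs, i.e. `I B ⊆ J`, such that `J` and `I B` have the same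
radical, and suppose `A → B` is integral. Let `A^h` be a henselization of the pair `(A, I)`, `B^h` a
henselization of the pair `(B, J)`, and `φ : A^h → B^h` an `A`-algebra homomorphism (there is
exactly one, by the universal property of `A^h`). Then the induced map `A^h ⊗_A B → B^h` is
bijective: henselization commutes with integral base change. -/
theorem result {A B Ah Bh : Type u} [CommRing A]
    [CommRing B] [CommRing Ah] [CommRing Bh] [Algebra A B] (I : Ideal A) (J : Ideal B)
    (hIJ : I.map (algebraMap A B) ≤ J) (hrad : J.radical = (I.map (algebraMap A B)).radical)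
    [Algebra.IsIntegral A B] [Algebra A Ah] (hA : Hens2.IsPairHenselization A I Ah)
    [Algebra B Bh] [Algebra A Bh] [IsScalarTower A B Bh] (hB : Hens2.IsPairHenselization B J Bh)
    (φ : Ah →ₐ[A] Bh) :
    Function.Bijective (Algebra.TensorProduct.productMap φ (IsScalarTower.toAlgHom A B Bh)) := by
  let T := Ah ⊗[A] B
  haveI := hA.1
  let inl : Ah →ₐ[A] T := Algebra.TensorProduct.includeLeft
  let inr : B →ₐ[A] T := Algebra.TensorProduct.includeRight
  let IAh := I.map (algebraMap A Ah)
  haveI : Algebra.IsIntegral Ah T := inferInstance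
  haveI hT : HenselianRing T (IAh.map (algebraMap Ah T)) := Groth.Agent.H4HenselPair.of_idempotents_finite _ (fun B' _ _ _ => by
    letI : Algebra Ah B' := ((algebraMap T B').comp (algebraMap Ah T)).toAlgebra
    haveI : IsScalarTower Ah T B' := IsScalarTower.of_algebraMap_eq fun _ => rfl
    haveI : Algebra.IsIntegral T B' := inferInstance
    haveI : Algebra.IsIntegral Ah B' := Algebra.IsIntegral.trans T
    rw [Ideal.map_map, ← IsScalarTower.algebraMap_eq]
    exact Groth.Agent.H4HenselPair.idempotents_bijOn IAh B')
  letI : Algebra B T := inr.toRingHom.toAlgebra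
  have hmapI : IAh.map (algebraMap Ah T) = (I.map (algebraMap A B)).map (algebraMap B T) := by
    rw [Ideal.map_map, Ideal.map_map]
    congr 1
    exact inl.comp_algebraMap.trans inr.comp_algebraMap.symm
  haveI hTJ : HenselianRing T (J.map (algebraMap B T)) := Groth.Agent.H4Hensel.of_le_radical (I := IAh.map (algebraMap Ah T)) (by
    rw [hmapI]
    exact (Ideal.map_mono (hrad ▸ Ideal.le_radical : J ≤ (I.map (algebraMap A B)).radical)).trans (Ideal.map_radical_le _))
  let Φ : T →ₐ[A] Bh := Algebra.TensorProduct.productMap φ (IsScalarTower.toAlgHom A B Bh)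
  obtain ⟨ψ, hψ, -⟩ := hB.2 T (J.map (algebraMap B T)) (algebraMap B T) hTJ le_rfl
  haveI := hB.1
  obtain ⟨i, -, hiu⟩ := hB.2 Bh _ (algebraMap B Bh) hB.1 le_rfl
  have hψA : ∀ a : A, ψ (algebraMap A Bh a) = algebraMap A T a := fun a => by
    rw [IsScalarTower.algebraMap_apply A B Bh, ← RingHom.comp_apply, hψ]
    exact inr.commutes a
  -- the two composites are the identity
  have h1 : Φ.toRingHom.comp ψ = RingHom.id Bh := by
    refine (hiu _ ?_).trans (hiu _ (RingHom.id_comp _)).symm
    show (Φ.toRingHom.comp ψ).comp (algebraMap B Bh) = algebraMap B Bh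
    rw [RingHom.comp_assoc, hψ]
    refine RingHom.ext fun b => ?_
    show φ 1 * algebraMap B Bh b = algebraMap B Bh b
    rw [map_one, one_mul]
  have hIA : I.map (algebraMap A T) ≤ J.map (algebraMap B T) := by
    refine (le_of_eq ?_).trans (Ideal.map_mono hIJ)
    rw [Ideal.map_map]
    exact congrArg (fun f => Ideal.map f I) inr.comp_algebraMap.symm
  obtain ⟨j, -, hju⟩ := hA.2 T (J.map (algebraMap B T)) (algebraMap A T) hTJ hIA
  have h2 : ψ.comp φ.toRingHom = inl.toRingHom := (hju _ (RingHom.ext fun a => by
    show ψ (φ (algebraMap A Ah a)) = _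
    rw [φ.commutes, hψA])).trans (hju _ inl.comp_algebraMap).symm
  refine ⟨Function.LeftInverse.injective (g := ψ) fun t => ?_, fun y => ⟨ψ y, RingHom.congr_fun h1 y⟩⟩
  induction t using TensorProduct.induction_on with
  | zero => simp
  | tmul a b =>
    rw [Algebra.TensorProduct.productMap_apply_tmul, map_mul]
    have h3 : ψ (φ a) = a ⊗ₜ 1 := RingHom.congr_fun h2 a
    have h4 : ψ (algebraMap B Bh b) = 1 ⊗ₜ b := RingHom.congr_fun hψ b
    rw [h3, IsScalarTower.coe_toAlgHom', h4, Algebra.TensorProduct.tmul_mul_tmul, mul_one, one_mul]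
  | add x y hx hy => rw [map_add, map_add, hx, hy]

end Groth.Agent.S9324
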