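import Groth.Statements.S4809
import Groth.Agent.Lib.H6.BirationalNormal

set_option autoImplicit false
set_option linter.all false
set_option backward.isDefEq.respectTransparency.types false
universe u
open CategoryTheory AlgebraicGeometry
open Lim8

namespace Groth.Agent.S4809

/-- Let Y be an integral normal scheme (every local ring integrally closed), X an integral scheme, and f
: X ⟶ Y a locally quasi-finite morphism (locally of finite type with discrete fibres) which is
birational: f maps the generic point of X to that of Y and its stalk map at the generic point of X,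
the induced homomorphism of function fields, is an isomorphism. Then f is a local isomorphism, and f
is an open immersion as soon as it is separated. -/
theorem result {X Y : Scheme.{u}} [IsIntegral X] [IsIntegral Y]
    (hN : ∀ y : Y, IsIntegrallyClosed (Y.presheaf.stalk y)) (f : X ⟶ Y) [LocallyQuasiFinite f]
    [LocallyOfFiniteType f] (hgen : f (genericPoint X) = genericPoint Y)
    (hbir : IsIso (f.stalkMap (genericPoint X))) :
    IsLocalIso f ∧ (IsSeparated f → IsOpenImmersion f) := by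
  have key : ∀ (V : X.Opens), IsSeparated (V.ι ≫ f) → ∀ x : X, x ∈ V →
      ∃ U : Y.Opens, f x ∈ U ∧ IsIso ((V.ι ≫ f) ∣_ U) := by
    intro V hV x hx
    haveI := hV
    haveI : Nonempty V := ⟨⟨x, hx⟩⟩
    haveI : IsIntegral (V : Scheme.{u}) := isIntegral_of_isOpenImmersion V.ι
    let g := V.ι ≫ f
    have hξ : V.ι (genericPoint (V : Scheme.{u})) = genericPoint X := genericPoint_eq_of_isOpenImmersion V.ι
    have hg : g (genericPoint (V : Scheme.{u})) = genericPoint Y := by rw [Scheme.Hom.comp_apply, hξ, hgen]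
    have hb : IsIso (g.stalkMap (genericPoint (V : Scheme.{u}))) := by
      rw [Scheme.Hom.stalkMap_comp]
      have h1 : IsIso (f.stalkMap (V.ι (genericPoint (V : Scheme.{u})))) := by
        rw [hξ]; exact hbir
      exact @IsIso.comp_isIso _ _ _ _ _ _ _ h1 inferInstance
    haveI : LocallyQuasiFinite g := inferInstance
    have hop := (Scheme.Hom.quasiFiniteAt_iff_isOpen_singleton_asFiber).1 (g.quasiFiniteAt (⟨x, hx⟩ : V))
    obtain ⟨O, hO, e⟩ := (g.fiberι (g ⟨x, hx⟩)).isEmbedding.isInducing.isOpen_iff.1 hop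
    have hxO : (⟨x, hx⟩ : V) ∈ O := by
      have : g.asFiber ⟨x, hx⟩ ∈ (g.fiberι (g ⟨x, hx⟩)) ⁻¹' O := e ▸ rfl
      rw [Set.mem_preimage, Scheme.Hom.fiberι_asFiber] at this
      exact this
    exact H6.BirationalNormal.exists_isIso_nhd g hg hb ⟨x, hx⟩ (hN _) ⟨O, hO⟩ hxO (fun x' hx'O hx' => by
      obtain ⟨z, rfl⟩ : x' ∈ Set.range (g.fiberι (g ⟨x, hx⟩)) := by rw [g.range_fiberι]; exact hx'
      have : z ∈ (g.fiberι (g ⟨x, hx⟩)) ⁻¹' O := hx'O
      rw [e, Set.mem_singleton_iff] at this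
      rw [this]
      exact g.fiberι_asFiber _)
  constructor
  · refine ⟨fun x => ?_⟩
    obtain ⟨V, hV, hxV, -⟩ := exists_isAffineOpen_mem_and_subset (X := X) (x := x) (U := ⊤) trivial
    haveI : IsAffine V := hV
    obtain ⟨U, hxU, hU⟩ := key V inferInstance x hxV
    haveI := hU
    refine ⟨V.ι ''ᵁ ((V.ι ≫ f) ⁻¹ᵁ U), ⟨⟨x, hxV⟩, hxU, rfl⟩, ?_⟩
    let W := (V.ι ≫ f) ⁻¹ᵁ U
    have h1 : IsOpenImmersion ((W.ι ≫ V.ι) ≫ f) := by
      rw [Category.assoc, ← morphismRestrict_ι]
      infer_instance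
    have e : (V.ι ''ᵁ W).ι ≫ f = (V.ι.isoImage W).inv ≫ (W.ι ≫ V.ι) ≫ f := by
      simp
    rw [e]
    haveI := h1
    infer_instance
  intro hs
  haveI := hs
  have hall : ∀ x : X, ∃ U : Y.Opens, f x ∈ U ∧ IsIso (f ∣_ U) := by
    intro x
    obtain ⟨U, hxU, hU⟩ := key ⊤ (inferInstance) x trivial
    refine ⟨U, hxU, ?_⟩
    rw [morphismRestrict_comp] at hU
    haveI := hU
    haveI : IsIso ((⊤ : X.Opens).ι) := by rw [← Scheme.topIso_hom]; infer_instance
    haveI : IsIso ((⊤ : X.Opens).ι ∣_ (f ⁻¹ᵁ U)) :=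
      IsZariskiLocalAtTarget.restrict (P := MorphismProperty.isomorphisms Scheme.{u}) (f := (⊤ : X.Opens).ι) ‹_› _
    exact @IsIso.of_isIso_comp_left _ _ _ _ _ ((⊤ : X.Opens).ι ∣_ (f ⁻¹ᵁ U)) (f ∣_ U) ‹_› hU
  choose U hxU hU using hall
  let R : Y.Opens := ⨆ x, U x
  have hR : f ⁻¹ᵁ R = ⊤ := top_le_iff.1 fun x _ => show f x ∈ R from (TopologicalSpace.Opens.mem_iSup).2 ⟨x, hxU x⟩
  haveI : IsIso (f ∣_ R) := by
    refine (IsZariskiLocalAtTarget.iff_of_iSup_eq_top (P := MorphismProperty.isomorphisms Scheme.{u})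
      (U := fun x => R.ι ⁻¹ᵁ U x) ?_).2 fun x => ?_
    · ext p
      simp [R, TopologicalSpace.Opens.mem_iSup]
      exact TopologicalSpace.Opens.mem_iSup.1 p.2
    · show IsIso _
      haveI := hU x
      exact ((MorphismProperty.isomorphisms Scheme.{u}).arrow_mk_iso_iff
        (morphismRestrictRestrict f R (R.ι ⁻¹ᵁ U x) ≪≫ morphismRestrictEq f (by
          rw [Scheme.Hom.image_preimage_eq_opensRange_inf, Scheme.Opens.opensRange_ι]
          exact inf_eq_right.2 (le_iSup U x)))).2 (hU x)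
  have : f = (X.isoOfEq hR ≪≫ X.topIso).inv ≫ (f ∣_ R) ≫ R.ι := by
    rw [morphismRestrict_ι, ← Category.assoc]
    have : (X.isoOfEq hR ≪≫ X.topIso).inv ≫ (f ⁻¹ᵁ R).ι = 𝟙 X := by simp
    rw [this, Category.id_comp]
  rw [this]
  infer_instance

end Groth.Agent.S4809
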