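import Groth.Statements.S2909
import Groth.Agent.Lib.H6.QuotAffine
import Groth.Agent.Lib.LClSub

set_option autoImplicit false
set_option backward.isDefEq.respectTransparency.types false
set_option linter.all false
open CategoryTheory CategoryTheory.Limits AlgebraicGeometry
universe u
open SGA1

namespace Groth.Agent.S2909

/-- Let a finite group G act on a scheme X by automorphisms over a scheme Z (structure morphism f), and
let p : X ⟶ Y be a quotient of X by G with Y ⟶ Z the induced morphism q (so p ≫ q = f). Then X is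
affine over Z iff Y is, X is separated over Z iff Y is; if f is locally of finite type then p is
finite; and if moreover Z is locally Noetherian and f quasi-compact then q is of finite type
(locally of finite type and quasi-compact). -/
theorem result {X Y Z : Scheme.{u}} {G : Type u} [Group G] [Finite G] (ρ : G →* Aut X)
    (p : X ⟶ Y) (hp : SGA1.IsQuot ρ p) (f : X ⟶ Z) (q : Y ⟶ Z) (hq : p ≫ q = f) (hρ : ∀ g : G, (ρ g).hom ≫ f = f) :
    (IsAffineHom f ↔ IsAffineHom q) ∧ (IsSeparated f ↔ IsSeparated q) ∧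
    (LocallyOfFiniteType f → IsFinite p) ∧
    (IsLocallyNoetherian Z → LocallyOfFiniteType f → QuasiCompact f → LocallyOfFiniteType q ∧ QuasiCompact q) := by
  haveI := hp.affine
  haveI := H6.Quot.isIntegralHom hp
  haveI : Surjective p := ⟨H6.Quot.surjective hp⟩
  have hfin : LocallyOfFiniteType f → IsFinite p := fun h => by
    haveI : LocallyOfFiniteType (p ≫ q) := hq.symm ▸ h
    haveI := locallyOfFiniteType_of_comp p q
    exact (IsFinite.iff_isIntegralHom_and_locallyOfFiniteType p).2 ⟨inferInstance, inferInstance⟩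
  refine ⟨⟨fun h => H6.QuotAffine.isAffineHom hp f q hq, fun h => hq ▸ inferInstance⟩, ⟨fun h => ?_, fun h => hq ▸ inferInstance⟩, hfin, fun hZ hft hqc => ⟨?_, ?_⟩⟩
  · exact LClSub.isSeparated_of_family (fun _ : PUnit.{1} => p) q (by rw [Set.iUnion_const]; exact Set.range_eq_univ.2 p.surjective)
      (fun _ => inferInstance) (fun _ => hq.symm ▸ h)
  · haveI := hfin hft
    rw [HasRingHomProperty.iff_appLE (P := @LocallyOfFiniteType)]
    intro W V e
    haveI := IsLocallyNoetherian.component_noetherian (X := Z) W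
    letI : Algebra Γ(Z, W.1) Γ(Y, V.1) := (q.appLE W.1 V.1 e).hom.toAlgebra
    letI : Algebra Γ(Y, V.1) Γ(X, p ⁻¹ᵁ V.1) := (p.app V.1).hom.toAlgebra
    letI : Algebra Γ(Z, W.1) Γ(X, p ⁻¹ᵁ V.1) := (q.appLE W.1 V.1 e ≫ p.app V.1).hom.toAlgebra
    haveI : IsScalarTower Γ(Z, W.1) Γ(Y, V.1) Γ(X, p ⁻¹ᵁ V.1) := IsScalarTower.of_algebraMap_eq' rfl
    haveI : Module.Finite Γ(Y, V.1) Γ(X, p ⁻¹ᵁ V.1) := IsFinite.finite_app p V.1 V.2
    have hc : (q.appLE W.1 V.1 e ≫ p.app V.1) = f.appLE W.1 (p ⁻¹ᵁ V.1) (hq ▸ Scheme.Hom.preimage_mono p e) := by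
      subst hq
      rw [Scheme.Hom.app_eq_appLE, Scheme.Hom.appLE_comp_appLE]
    have hC : (f.appLE W.1 (p ⁻¹ᵁ V.1) (hq ▸ Scheme.Hom.preimage_mono p e)).hom.FiniteType :=
      LocallyOfFiniteType.finiteType_appLE f W.2 (V.2.preimage p) _
    rw [← hc] at hC
    show (q.appLE W.1 V.1 e).hom.FiniteType
    exact (⟨fg_of_fg_of_fg Γ(Z, W.1) Γ(Y, V.1) Γ(X, p ⁻¹ᵁ V.1) (show Algebra.FiniteType _ _ from hC).out Module.Finite.fg_top (hp.injective V.1)⟩ : Algebra.FiniteType Γ(Z, W.1) Γ(Y, V.1))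
  · refine ⟨fun U hU hc => ?_⟩
    have h1 : IsCompact (f ⁻¹' U) := QuasiCompact.isCompact_preimage (f := f) U hU hc
    rw [← hq] at h1
    have := h1.image p.continuous
    rwa [show p '' ((p ≫ q) ⁻¹' U) = q ⁻¹' U by rw [Scheme.Hom.comp_base, TopCat.coe_comp, Set.preimage_comp, Set.image_preimage_eq _ p.surjective]] at this

end Groth.Agent.S2909
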