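import Groth.Statements.S2910
import Groth.Agent.Lib.H6.QuotFree

set_option autoImplicit false
set_option backward.isDefEq.respectTransparency.types false
set_option linter.all false
open CategoryTheory CategoryTheory.Limits AlgebraicGeometry
universe u
open SGA1

namespace Groth.Agent.S2910

/-- Let a finite group G act faithfully on a connected scheme X, let p : X ⟶ Y be a quotient of X by G
with Y locally Noetherian and p finite, and suppose p is etale. Then G acts freely on the geometric
points of X (all inertia groups are trivial), and every automorphism of X over Y is the action of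
exactly one element of G. -/
theorem result {X Y : Scheme.{u}} {G : Type u} [Group G] [Finite G] (ρ : G →* Aut X)
    (p : X ⟶ Y) (hp : SGA1.IsQuot ρ p) [IsLocallyNoetherian Y] [IsFinite p] [ConnectedSpace X]
    (hfaith : Function.Injective ρ) [Etale p] :
    (∀ (K : Type u) [Field K] [IsAlgClosed K] (ξ : Spec (CommRingCat.of K) ⟶ X) (g : G), ξ ≫ (ρ g).hom = ξ → g = 1) ∧
    ∀ u : Aut X, u.hom ≫ p = p → ∃! g : G, ρ g = u := by
  haveI := hp.affine
  have key : ∀ (K : Type u) [Field K] (ξ : Spec (CommRingCat.of K) ⟶ X) (a b : X ⟶ X), a ≫ p = b ≫ p → ξ ≫ a = ξ ≫ b → a = b := by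
    intro K _ ξ a b hab hξ
    let m : X ⟶ pullback p p := pullback.lift a b hab
    let j := pullback.snd (pullback.diagonal p) m
    let l : Spec (CommRingCat.of K) ⟶ pullback (pullback.diagonal p) m :=
      pullback.lift (ξ ≫ a) ξ (by
        apply pullback.hom_ext
        · rw [Category.assoc, pullback.diagonal_fst, Category.comp_id, Category.assoc, pullback.lift_fst]
        · rw [Category.assoc, pullback.diagonal_snd, Category.comp_id, Category.assoc, pullback.lift_snd, hξ])
    have hop : IsClopen (Set.range j) := ⟨j.isClosedEmbedding.isClosed_range, j.isOpenEmbedding.isOpen_range⟩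
    have huniv : Set.range j = Set.univ := hop.eq_univ ⟨j (l (IsLocalRing.closedPoint K)), _, rfl⟩
    haveI : Surjective j := ⟨Set.range_eq_univ.1 huniv⟩
    haveI : IsIso j := (isIso_iff_isOpenImmersion_and_surjective _).2 ⟨inferInstance, inferInstance⟩
    have hm : m = (inv j ≫ pullback.fst (pullback.diagonal p) m) ≫ pullback.diagonal p := by
      rw [Category.assoc, pullback.condition, IsIso.inv_hom_id_assoc]
    have e1 := congrArg (· ≫ pullback.fst p p) hm
    have e2 := congrArg (· ≫ pullback.snd p p) hm
    simp only [m, pullback.lift_fst, pullback.lift_snd, Category.assoc, pullback.diagonal_fst, pullback.diagonal_snd, Category.comp_id] at e1 e2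
    exact e1.trans e2.symm
  have hfree : H6.QuotFree.GeomFree ρ := by
    intro K _ _ ξ g h
    apply hfaith
    rw [map_one]
    apply Iso.ext
    exact key K ξ (ρ g).hom (𝟙 X) (by rw [hp.inv, Category.id_comp]) (by rw [h, Category.comp_id])
  refine ⟨hfree, fun u hu => ?_⟩
  obtain ⟨x⟩ := (inferInstance : Nonempty X)
  let κ : CommRingCat.{u} := X.residueField x
  let K := AlgebraicClosure κ
  let ξ : Spec (CommRingCat.of K) ⟶ X := Spec.map (CommRingCat.ofHom (algebraMap κ K)) ≫ X.fromSpecResidueField x
  obtain ⟨g, hg⟩ := H6.QuotFree.transitive hp hfree K ξ (ξ ≫ u.hom) ((congrArg (ξ ≫ ·) hu).symm.trans (Category.assoc _ _ _).symm)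
  refine ⟨g, Iso.ext (key K ξ (ρ g).hom u.hom (by rw [hp.inv, hu]) hg.symm), fun g' hg' => hfaith (hg'.trans ?_)⟩
  exact (Iso.ext (key K ξ (ρ g).hom u.hom (by rw [hp.inv, hu]) hg.symm)).symm

end Groth.Agent.S2910
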