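import Groth.Statements.S2911
import Groth.Agent.Lib.H6.QuotGalois
import Groth.Agent.Lib.H6.QuotAffine
import Groth.Agent.Lib.SourceDescent

set_option autoImplicit false
set_option backward.isDefEq.respectTransparency.types false
set_option linter.all false
open CategoryTheory CategoryTheory.Limits AlgebraicGeometry
universe u
open SGA1

namespace Groth.Agent.S2911

/-- With the existence of the quotient taken as a hypothesis: Let Y be locally Noetherian, f : X ⟶ Y
etale, separated and quasi-compact, G a finite group acting on X by Y-automorphisms, p : X ⟶ X' a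
quotient of X by G and q : X' ⟶ Y the induced morphism. Then p and q are etale, and if f is finite
then q is finite. -/
theorem result {X X' Y : Scheme.{u}} {G : Type u} [Group G] [Finite G] (ρ : G →* Aut X)
    [IsLocallyNoetherian Y] (f : X ⟶ Y) [Etale f] [IsSeparated f] [QuasiCompact f] (hρ : ∀ g : G, (ρ g).hom ≫ f = f)
    (p : X ⟶ X') (hp : SGA1.IsQuot ρ p) (q : X' ⟶ Y) (hq : p ≫ q = f) :
    Etale p ∧ Etale q ∧ (IsFinite f → IsFinite q) := by
  haveI := hp.affine
  haveI : Surjective p := ⟨H6.Quot.surjective hp⟩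
  haveI he : Etale p := H6.QuotGalois.etale_of_unramified hp q f hq
  haveI : Etale (p ≫ q) := by rw [hq]; infer_instance
  refine ⟨he, SourceDescent.etale_of_etale' p q, fun hfin => ?_⟩
  haveI := H6.QuotAffine.isAffineHom hp f q hq
  refine ⟨fun W hW => ?_⟩
  haveI := IsLocallyNoetherian.component_noetherian (X := Y) ⟨W, hW⟩
  have h1 : (q.app W ≫ p.app (q ⁻¹ᵁ W)).hom.Finite := by
    have h2 := IsFinite.finite_app f W hW
    subst hq
    exact h2
  letI : Algebra Γ(Y, W) Γ(X', q ⁻¹ᵁ W) := (q.app W).hom.toAlgebra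
  letI : Algebra Γ(Y, W) Γ(X, p ⁻¹ᵁ (q ⁻¹ᵁ W)) := (q.app W ≫ p.app (q ⁻¹ᵁ W)).hom.toAlgebra
  haveI : Module.Finite Γ(Y, W) Γ(X, p ⁻¹ᵁ (q ⁻¹ᵁ W)) := h1
  let L : Γ(X', q ⁻¹ᵁ W) →ₐ[Γ(Y, W)] Γ(X, p ⁻¹ᵁ (q ⁻¹ᵁ W)) := { (p.app (q ⁻¹ᵁ W)).hom with commutes' := fun r => rfl }
  exact Module.Finite.of_injective L.toLinearMap (hp.injective _)

end Groth.Agent.S2911
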