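import Groth.Statements.S2913


set_option autoImplicit false
open CategoryTheory CategoryTheory.Limits AlgebraicGeometry Opposite
universe u
open SGA1

namespace Groth.Agent.S2913

/-- Let g : S' ⟶ S be a surjective morphism of schemes such that for every open U of S the map O_S(U) →
O_{S'}(g⁻¹U) is injective. Then g is an epimorphism in the category of schemes. -/
theorem result {S' S : Scheme.{u}} (g : S' ⟶ S) [Surjective g]
    (hinj : ∀ U : S.Opens, Function.Injective (g.app U).hom) : Epi g := by
  refine ⟨fun {Z} a b h => ?_⟩
  have hb : a.base = b.base := by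
    ext x
    obtain ⟨y, rfl⟩ := g.surjective x
    exact (Scheme.Hom.comp_apply g a y).symm.trans ((congrArg (fun k : S' ⟶ Z => k y) h).trans (Scheme.Hom.comp_apply g b y))
  refine Scheme.Hom.ext hb fun U => ?_
  ext z
  apply hinj (b ⁻¹ᵁ U)
  have hc := congrArg (fun k => k.hom z) (Scheme.Hom.congr_app h U)
  simp only [Scheme.Hom.comp_app, CommRingCat.hom_comp, RingHom.comp_apply] at hc ⊢
  rw [← CommRingCat.comp_apply (S.presheaf.map _) (g.app _), g.naturality, CommRingCat.comp_apply]
  erw [hc]
  erw [← CommRingCat.comp_apply, ← Functor.map_comp, Subsingleton.elim (_ ≫ _) (𝟙 _), CategoryTheory.Functor.map_id]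
  rfl

end Groth.Agent.S2913
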