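import Groth.Statements.S2914
import Groth.Agent.Lib.H6.Quot
import Groth.Agent.Lib.H6.UnivThick

set_option autoImplicit false
set_option backward.isDefEq.respectTransparency.types false
set_option linter.all false
open CategoryTheory CategoryTheory.Limits AlgebraicGeometry Opposite
universe u
open SGA1

namespace Groth.Agent.S2914

/-- Let g : S' ⟶ S be a morphism of schemes whose underlying map is a quotient map, and such that for
every open U of S the sequence O_S(U) → O_{S'}(g⁻¹U) ⇉ O_{S''}(h⁻¹U) is an equalizer, where S'' = S'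
×_S S' with structure map h and the two arrows are restriction along the projections. Then g is an
effective epimorphism in the category of schemes. -/
theorem result {S' S : Scheme.{u}} (g : S' ⟶ S) (hq : Topology.IsQuotientMap g.base)
    (hinj : ∀ U : S.Opens, Function.Injective (g.app U).hom)
    (heq : ∀ (U : S.Opens) (s' : Γ(S', g ⁻¹ᵁ U)), (SGA1.overlapFstApp g U).hom s' = (SGA1.overlapSndApp g U).hom s' →
      s' ∈ Set.range (g.app U).hom) :
    EffectiveEpi g := by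
  haveI hsurj : Surjective g := ⟨hq.surjective⟩
  have hext : ∀ (V : S.Opens) {Z : Scheme.{u}} {a b : (V : Scheme.{u}) ⟶ Z}, (g ∣_ V) ≫ a = (g ∣_ V) ≫ b → a = b := by
    intro V Z a b h
    refine H6.Quot.hom_ext_of (p := g ∣_ V) (fun y => ?_) (fun W => ?_) h
    · obtain ⟨x, hx⟩ := g.surjective y.1
      refine ⟨⟨x, show g x ∈ V from hx ▸ y.2⟩, V.ι.isOpenEmbedding.injective ?_⟩
      rw [← Scheme.Hom.comp_apply, morphismRestrict_ι]
      exact hx
    · rw [morphismRestrict_app]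
      exact (ConcreteCategory.bijective_of_isIso (S'.presheaf.map (eqToHom (image_morphismRestrict_preimage g V W)).op)).1.comp (hinj _)
  have hdesc : ∀ {Z : Scheme.{u}} (h : S' ⟶ Z), pullback.fst g g ≫ h = pullback.snd g g ≫ h → ∃ h' : S ⟶ Z, g ≫ h' = h := by
    intro Z h hh
    let ι := {V : S.Opens // IsAffineOpen V ∧ ∃ W : Z.Opens, IsAffineOpen W ∧ g ⁻¹ᵁ V ≤ h ⁻¹ᵁ W}
    have hnhd : ∀ (y : S) (O : S.Opens), y ∈ O → ∃ V : ι, y ∈ V.1 ∧ V.1 ≤ O := by
      intro y O hy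
      obtain ⟨x, rfl⟩ := g.surjective y
      obtain ⟨W, hW, hxW, -⟩ := exists_isAffineOpen_mem_and_subset (X := Z) (x := h x) (U := ⊤) trivial
      have hsat : ⇑g ⁻¹' (⇑g '' (h ⁻¹ᵁ W : Set S')) = (h ⁻¹ᵁ W : Set S') := by
        refine subset_antisymm ?_ (Set.subset_preimage_image _ _)
        rintro x' ⟨x'', hx'', e⟩
        obtain ⟨z, rfl, rfl⟩ := Scheme.Pullback.exists_preimage_pullback x'' x' e
        show h (pullback.snd g g z) ∈ W
        rw [← Scheme.Hom.comp_apply, ← hh]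
        exact hx''
      have hop : IsOpen (⇑g '' (h ⁻¹ᵁ W : Set S')) := by
        rw [← hq.isOpen_preimage, hsat]
        exact (h ⁻¹ᵁ W).2
      obtain ⟨V, hV, hxV, hVle⟩ := exists_isAffineOpen_mem_and_subset (X := S) (x := g x) (U := O ⊓ ⟨_, hop⟩) ⟨hy, x, hxW, rfl⟩
      exact ⟨⟨V, hV, W, hW, fun x' hx' => (Set.ext_iff.1 hsat x').1 (hVle hx').2⟩, hxV, fun z hz => (hVle hz).1⟩
    have hloc : ∀ V : ι, ∃ k : (V.1 : Scheme.{u}) ⟶ Z, (g ∣_ V.1) ≫ k = (g ⁻¹ᵁ V.1).ι ≫ h := by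
      rintro ⟨V, hV, W, hW, e⟩
      let ψ := h.appLE W (g ⁻¹ᵁ V) e
      have hψ : ∀ b, ψ b ∈ Set.range (g.app V).hom := fun b => by
        apply heq
        have hc := H6.Quot.appLE_congr_hom hh W ((pullback.fst g g) ⁻¹ᵁ (g ⁻¹ᵁ V)) (Scheme.Hom.preimage_mono _ e)
          ((SGA1.fst_preimage_eq_snd_preimage g V).le.trans (Scheme.Hom.preimage_mono _ e))
        rw [← Scheme.Hom.appLE_comp_appLE _ _ _ (g ⁻¹ᵁ V) _ e le_rfl,
          ← Scheme.Hom.appLE_comp_appLE _ _ _ (g ⁻¹ᵁ V) _ e (SGA1.fst_preimage_eq_snd_preimage g V).le, ← Scheme.Hom.app_eq_appLE] at hc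
        exact congrArg (fun k => k b) (congrArg (fun k => (ConcreteCategory.hom k)) hc)
      choose φ hφ using hψ
      let φ' : Γ(Z, W) →+* Γ(S, V) :=
        { toFun := φ
          map_one' := hinj V (by rw [hφ, map_one]; exact (map_one (g.app V).hom).symm)
          map_mul' := fun a b => hinj V (by rw [hφ, map_mul]; refine Eq.trans ?_ (map_mul (g.app V).hom _ _).symm; rw [hφ, hφ])
          map_zero' := hinj V (by rw [hφ, map_zero]; exact (map_zero (g.app V).hom).symm)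
          map_add' := fun a b => hinj V (by rw [hφ, map_add]; refine Eq.trans ?_ (map_add (g.app V).hom _ _).symm; rw [hφ, hφ]) }
      refine ⟨V.toSpecΓ ≫ Spec.map (CommRingCat.ofHom φ') ≫ hW.fromSpec, ?_⟩
      have h2 : CommRingCat.ofHom φ' ≫ g.app V = ψ := by ext b; exact hφ b
      have h3 : (g ∣_ V) ≫ V.toSpecΓ = (g ⁻¹ᵁ V).toSpecΓ ≫ Spec.map (g.app V) := by
        rw [Scheme.Hom.app_eq_appLE, Scheme.Opens.toSpecΓ_SpecMap_appLE, Scheme.Hom.resLE_eq_morphismRestrict]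
      rw [reassoc_of% h3, ← Spec.map_comp_assoc, h2]
      change (g ⁻¹ᵁ V).toSpecΓ ≫ Spec.map (h.appLE W (g ⁻¹ᵁ V) e) ≫ hW.fromSpec = _
      rw [Scheme.Opens.toSpecΓ_SpecMap_appLE_assoc, IsAffineOpen.toSpecΓ_fromSpec, Scheme.Hom.resLE_comp_ι]
    choose k hk using hloc
    have hcov : ∀ y : S, ∃ V : ι, y ∈ V.1 := fun y => (hnhd y ⊤ trivial).imp fun V hV => hV.1
    obtain ⟨h', hh'⟩ := H6.UnivThick.exists_glue (fun V : ι => V.1) hcov (fun V V' => V.1 ≤ V'.1) (fun _ _ e => e)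
      (fun V V' y hy hy' => by
        obtain ⟨U, hyU, hle⟩ := hnhd y (V.1 ⊓ V'.1) ⟨hy, hy'⟩
        exact ⟨U, fun z hz => (hle hz).1, fun z hz => (hle hz).2, hyU⟩)
      k (fun V V' e => by
        refine hext V.1 ?_
        rw [hk]
        have : (g ∣_ V.1) ≫ S.homOfLE e = S'.homOfLE (Scheme.Hom.preimage_mono g e) ≫ (g ∣_ V'.1) := by
          simp [← cancel_mono V'.1.ι]
        rw [reassoc_of% this, hk, Scheme.homOfLE_ι_assoc])
    refine ⟨h', Scheme.hom_ext_of_forall _ _ fun x => ?_⟩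
    obtain ⟨V, hV⟩ := hcov (g x)
    exact ⟨g ⁻¹ᵁ V.1, hV, by rw [← morphismRestrict_ι_assoc, hh', hk]⟩
  refine ⟨⟨{
    desc := fun {Z} e he => (hdesc e (he _ _ pullback.condition)).choose
    fac := fun {Z} e he => (hdesc e (he _ _ pullback.condition)).choose_spec
    uniq := fun {Z} e he m hm => H6.Quot.hom_ext_of hq.surjective hinj
      (hm.trans (hdesc e (he _ _ pullback.condition)).choose_spec.symm) }⟩⟩

end Groth.Agent.S2914
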