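import Groth.Statements.S2919
import Groth.Agent.Lib.H6.QuotFree

set_option autoImplicit false
set_option backward.isDefEq.respectTransparency.types false
set_option linter.all false
open CategoryTheory CategoryTheory.Limits AlgebraicGeometry
universe u
open SGA1

namespace Groth.Agent.S2919

/-- Let a finite group G act on X, p : X ⟶ Y a quotient with Y locally Noetherian and p finite, G acting
freely on geometric points, and suppose p has a section. Then the morphism from the disjoint union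
of copies of Y indexed by G to X which is s followed by the action of g on the g-th copy is an
isomorphism. -/
theorem result {X Y : Scheme.{u}} {G : Type u} [Group G] [Finite G] (ρ : G →* Aut X)
    (p : X ⟶ Y) (hp : SGA1.IsQuot ρ p) [IsLocallyNoetherian Y] [IsFinite p]
    (hfree : (∀ (K : Type u) [Field K] [IsAlgClosed K] (ξ : Spec (CommRingCat.of K) ⟶ X) (g : G), ξ ≫ (ρ g).hom = ξ → g = 1)) (s : Y ⟶ X) (hs : s ≫ p = 𝟙 Y) :
    IsIso (Sigma.desc (fun g : G => s ≫ (ρ g).hom) : (∐ fun _ : G => Y) ⟶ X) := by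
  haveI := H6.QuotFree.etale hp hfree
  haveI : Etale (s ≫ p) := by rw [hs]; infer_instance
  haveI : Mono s := (SplitMono.mk p hs).mono
  haveI : Etale s := Etale.of_comp s p
  haveI : IsOpenImmersion s := IsOpenImmersion.of_flat_of_mono s
  haveI : ∀ g : G, IsOpenImmersion (s ≫ (ρ g).hom) := fun g => inferInstance
  have hdisj : ∀ g h : G, g ≠ h → Disjoint (Set.range (s ≫ (ρ g).hom)) (Set.range (s ≫ (ρ h).hom)) := fun g h hne => by
    rw [Set.disjoint_left]
    rintro z ⟨y, hy⟩ ⟨y', hy'⟩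
    have hyy : y = y' := by
      have e1 := congrArg (fun w : X => p w) (hy.trans hy'.symm)
      simp only [← Scheme.Hom.comp_apply, Category.assoc, hp.inv, hs] at e1
      exact e1
    subst hyy
    let κ : CommRingCat.{u} := Y.residueField y
    let K := AlgebraicClosure κ
    let ζ : Spec (CommRingCat.of K) ⟶ Y := Spec.map (CommRingCat.ofHom (algebraMap κ K)) ≫ Y.fromSpecResidueField y
    have hζ : ∀ w, ζ w = y := fun w => by
      simp only [ζ, Scheme.Hom.comp_apply]
      exact Y.fromSpecResidueField_apply y _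
    obtain ⟨η, hη⟩ : ∃ η, η ≫ (s ≫ (ρ h).hom) = (ζ ≫ (s ≫ (ρ g).hom)) := ⟨_, IsOpenImmersion.lift_fac (s ≫ (ρ h).hom) (ζ ≫ (s ≫ (ρ g).hom))
      (by rintro _ ⟨w, rfl⟩; exact ⟨y, by rw [Scheme.Hom.comp_apply ζ, hζ]; exact hy'.trans hy.symm⟩)⟩
    have eζ : η = ζ := by
      have := congrArg (· ≫ p) hη
      simpa [Category.assoc, hp.inv, hs] using this
    subst eζ
    apply hne
    have : ((ζ ≫ s) ≫ (ρ h).hom) ≫ (ρ (g * h⁻¹)).hom = (ζ ≫ s) ≫ (ρ g).hom := by
      rw [map_mul, Category.assoc]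
      simp [Aut.Aut_mul_def, map_inv, Aut.Aut_inv_def]
    have e2 : (ζ ≫ s) ≫ (ρ h).hom = (ζ ≫ s) ≫ (ρ g).hom := by simpa [Category.assoc] using hη
    rw [← e2] at this
    exact absurd (mul_inv_eq_one.1 (hfree K _ _ this)) hne
  haveI : IsOpenImmersion (Sigma.desc (fun g : G => s ≫ (ρ g).hom) : (∐ fun _ : G => Y) ⟶ X) :=
    isOpenImmersion_sigmaDesc _ _ (fun g h hne => hdisj g h hne)
  haveI : Surjective (Sigma.desc (fun g : G => s ≫ (ρ g).hom) : (∐ fun _ : G => Y) ⟶ X) := ⟨fun x => by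
    obtain ⟨g, hg⟩ := H6.Quot.exists_eq hp (s (p x)) x (by rw [← Scheme.Hom.comp_apply, hs]; rfl)
    refine ⟨Sigma.ι (fun _ : G => Y) g (p x), ?_⟩
    rw [← Scheme.Hom.comp_apply, Sigma.ι_desc, Scheme.Hom.comp_apply]
    exact hg⟩
  exact (isIso_iff_isOpenImmersion_and_surjective _).2 ⟨‹_›, ‹_›⟩

end Groth.Agent.S2919
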