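import Groth.Statements.S2931
import Mathlib
import Groth.Prelude.Def_Wider
import Groth.Prelude.Def_CAlg
import Groth.Prelude.Def_SGA2
import Groth.Agent.Lib.H2RelCodim2

set_option autoImplicit false
universe u
open LocCoh

namespace Groth.Agent.S2931
set_option backward.isDefEq.respectTransparency.types false
set_option linter.style.haveILetI false
open Groth.Agent

/-- Affine form (coherence of R^p i_*(F) for p < n being finiteness of H^i_I for i ≤ n). Let A be a
Noetherian ring which is a quotient of a regular ring, I an ideal and M a finite A-module such that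
M_p is zero or Cohen–Macaulay for every prime p not containing I. Then H^i_I(M) is a finite A-module
for every i ≤ n if and only if for every prime p not containing I which is minimal in the support of
M, the codimension of V(p) ∩ V(I) in V(p) is greater than n. -/
theorem result (R : Type u) [CommRing R] [IsRegularRing R] (A : Type u) [CommRing A] [IsNoetherianRing A] (π : R →+* A) (hπ : Function.Surjective π) (I : Ideal A) (M : Type u) [AddCommGroup M] [Module A M] [Module.Finite A M] (hCM : ∀ p : PrimeSpectrum A, ¬ I ≤ p.asIdeal → Subsingleton (LocalizedModule p.asIdeal.primeCompl M) ∨ LocCoh.IsCohenMacaulayModule (Localization.AtPrime p.asIdeal) (LocalizedModule p.asIdeal.primeCompl M)) (n : ℕ) : (∀ i : ℕ, i ≤ n → Module.Finite A (LocCoh.H I i M)) ↔ ∀ p : PrimeSpectrum A, ¬ I ≤ p.asIdeal → p.asIdeal ∈ (Module.annihilator A M).minimalPrimes → (n : ℕ∞) < SGA2.relCodim I p := by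
  constructor
  · intro h p hp hmin
    have hh := H2LCFin.hyp_of_covBy (fun p q hp hq hpq => H2LCFin.le_depth_of_finite h hp hq hpq)
    have := H2LCFin.lt_relCodim_add (D := LocCoh.depth (Localization.AtPrime p.asIdeal) (LocalizedModule p.asIdeal.primeCompl M))
      fun q hq hpq => hh p q hp hq hpq
    rwa [H2LCFin.depth_eq_zero_of_minimal p hmin, zero_add] at this
  · intro h i hi
    refine H2LCFin.finite_of_hyp π hπ I i M (H2LCFin.Hyp.mono hi fun p q hp hq hpq => ?_)
    rcases hCM p hp with hz | hcm
    · haveI := hz
      rw [show LocCoh.depth (Localization.AtPrime p.asIdeal) (LocalizedModule p.asIdeal.primeCompl M) = ⊤ from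
        H2DepthLocal.depth_eq_top_of_subsingleton hz, top_add]
      exact ENat.natCast_lt_top n
    by_cases hs : p ∈ Module.support A M
    swap
    · rw [show LocCoh.depth (Localization.AtPrime p.asIdeal) (LocalizedModule p.asIdeal.primeCompl M) = ⊤ from
        H2DepthLocal.depth_eq_top_of_subsingleton (Module.notMem_support_iff.1 hs), top_add]
      exact ENat.natCast_lt_top n
    obtain ⟨P, hP, hPp⟩ := Ideal.exists_minimalPrimes_le ((Module.mem_support_iff_of_finite).1 hs)
    haveI := hP.1.1
    let p₀ : PrimeSpectrum A := ⟨P, inferInstance⟩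
    have h0q : p₀ ≤ q := le_trans (show p₀ ≤ p from hPp) hpq
    have h1 := lt_of_lt_of_le (h p₀ (fun hI => hp (hI.trans hPp)) hP) (H2LCFin.relCodim_le h0q hq)
    obtain ⟨c1, e1, f1⟩ := H2LCFin.height_Ici_add π hπ p₀ p hPp
    obtain ⟨c2, e2, f2⟩ := H2LCFin.height_Ici_add π hπ p q hpq
    obtain ⟨c3, e3, f3⟩ := H2LCFin.height_Ici_add π hπ p₀ q h0q
    rw [e3, Nat.cast_lt] at h1
    have h2 := H2LCFin.height_le_supportDim (M := M) (Module.mem_support_iff_of_finite.2 hP.1.2) hPp e1
    rw [show Module.supportDim (Localization.AtPrime p.asIdeal) (LocalizedModule p.asIdeal.primeCompl M) = _ from hcm] at h2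
    have h2' : (c1 : ℕ∞) ≤ LocCoh.depth (Localization.AtPrime p.asIdeal) (LocalizedModule p.asIdeal.primeCompl M) := WithBot.coe_le_coe.1 h2
    rw [e2]
    exact lt_of_lt_of_le (by rw [← Nat.cast_add]; exact Nat.cast_lt.2 (show n < c1 + c2 by omega)) (add_le_add h2' le_rfl)

end Groth.Agent.S2931
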