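import Groth.Statements.S2938
import Mathlib
import Groth.Agent.Lib.H2DepthMore
import Groth.Prelude.Def_DRing3

set_option autoImplicit false
universe u
open scoped TensorProduct
open LocCoh

namespace Groth.Agent.S2938
set_option linter.style.haveILetI false
open TensorProduct RingTheory.Sequence Groth.Agent.H2Depth Groth.Agent.H2DepthMore
open scoped Pointwise

/-- Suppose A and B are Noetherian rings with a ring map A → B, I is an ideal of A and M is a finitely
generated A-module. When B is A-flat, depth_{IB}(B ⊗_A M) ≥ depth_I(M); when B is faithfully flat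
over A, the two depths are equal. -/
theorem result (A B : Type u) [CommRing A] [CommRing B] [Algebra A B] [IsNoetherianRing A] [IsNoetherianRing B] (I : Ideal A) (M : Type u) [AddCommGroup M] [Module A M] [Module.Finite A M] : (Module.Flat A B → LocCoh.idealDepth I M ≤ LocCoh.idealDepth (I.map (algebraMap A B)) (B ⊗[A] M)) ∧ (Module.FaithfullyFlat A B → LocCoh.idealDepth (I.map (algebraMap A B)) (B ⊗[A] M) = LocCoh.idealDepth I M) := by
  set J := I.map (algebraMap A B)
  have hf : IsBaseChange B (TensorProduct.mk A B M 1) := TensorProduct.isBaseChange A M B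
  have hres : ∀ K : Ideal A, ∀ t : B ⊗[A] M, t ∈ (K.map (algebraMap A B)) • (⊤ : Submodule B (B ⊗[A] M)) ↔ t ∈ LinearMap.range (LinearMap.lTensor B (K • (⊤ : Submodule A M)).subtype) := by
    intro K t
    constructor
    · intro ht
      refine Submodule.smul_induction_on ht (fun r hr m _ => ?_) (fun a b ha hb => add_mem ha hb)
      induction hr using Submodule.span_induction generalizing m with
      | mem r hr =>
        obtain ⟨s, hs, rfl⟩ := hr
        induction m using TensorProduct.induction_on with
        | zero => simp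
        | tmul c w =>
          exact ⟨c ⊗ₜ ⟨s • w, Submodule.smul_mem_smul hs trivial⟩, by simp [algebraMap_smul, TensorProduct.smul_tmul']⟩
        | add a b ha hb => rw [smul_add]; exact add_mem (ha trivial) (hb trivial)
      | zero => simp
      | add x y _ _ hx hy => rw [add_smul]; exact add_mem (hx m trivial) (hy m trivial)
      | smul c x _ hx => rw [smul_eq_mul, mul_comm, mul_smul]; exact hx _ trivial
    · rintro ⟨z, rfl⟩
      induction z using TensorProduct.induction_on with
      | zero => simp
      | tmul c w =>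
        obtain ⟨w, hw⟩ := w
        rw [LinearMap.lTensor_tmul, Submodule.coe_subtype]
        simp only
        refine Submodule.smul_induction_on hw (fun r hr m _ => ?_) (fun a b ha hb => by rw [TensorProduct.tmul_add]; exact add_mem ha hb)
        rw [TensorProduct.tmul_smul, ← algebraMap_smul B r (c ⊗ₜ[A] m)]
        exact Submodule.smul_mem_smul (Ideal.mem_map_of_mem _ hr) trivial
      | add a b ha hb => rw [map_add]; exact add_mem ha hb
  have hIM : I • (⊤ : Submodule A M) = ⊤ → J • (⊤ : Submodule B (B ⊗[A] M)) = ⊤ := fun h => by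
    refine eq_top_iff.2 fun t _ => (hres I t).2 ?_
    rw [LinearMap.range_eq_top.2 (LinearMap.lTensor_surjective B (fun m => ⟨⟨m, by rw [h]; exact Submodule.mem_top⟩, rfl⟩))]
    trivial
  have hle : Module.Flat A B → LocCoh.idealDepth I M ≤ LocCoh.idealDepth J (B ⊗[A] M) := by
    intro _
    by_cases h : I • (⊤ : Submodule A M) = ⊤
    · rw [LocCoh.idealDepth, if_pos h, LocCoh.idealDepth, if_pos (hIM h)]
    obtain ⟨ss, h1, h2, -, h4⟩ := exists_idealDepth_eq h
    rw [h4]
    exact le_idealDepth (hasReg_baseChange hf (fun r hr => Ideal.mem_map_of_mem _ hr) ⟨ss, rfl, h1, h2⟩)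
  refine ⟨hle, fun hff => ?_⟩
  by_cases h : I • (⊤ : Submodule A M) = ⊤
  · rw [LocCoh.idealDepth, if_pos (hIM h), LocCoh.idealDepth, if_pos h]
  have hinj : ∀ K : Ideal A, ∀ m : M, (1 : B) ⊗ₜ[A] m ∈ (K.map (algebraMap A B)) • (⊤ : Submodule B (B ⊗[A] M)) → m ∈ K • (⊤ : Submodule A M) := by
    intro K m hm
    rw [hres] at hm
    rw [← Submodule.Quotient.mk_eq_zero]
    refine (Module.FaithfullyFlat.one_tmul_eq_zero_iff A _ (A := B) _).1 ?_
    have hex := lTensor_exact B (LinearMap.exact_subtype_mkQ (K • (⊤ : Submodule A M))) (Submodule.mkQ_surjective _)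
    simpa using (hex _).2 hm
  have hJ : J • (⊤ : Submodule B (B ⊗[A] M)) ≠ ⊤ := fun hc =>
    h (eq_top_iff.2 fun m _ => hinj I m (by rw [hc]; exact Submodule.mem_top))
  obtain ⟨ss, h1, h2, h3, h4⟩ := exists_idealDepth_eq h
  rw [h4, idealDepth_eq_length hJ (h1.of_flat_of_isBaseChange hf)]
  · simp
  · intro r hr
    obtain ⟨s, hs, rfl⟩ := List.mem_map.1 hr
    exact Ideal.mem_map_of_mem _ (h2 s hs)
  · obtain ⟨u, hu, hku⟩ := exists_killed_of_noReg h3
    obtain ⟨u, rfl⟩ := Submodule.Quotient.mk_surjective _ u
    refine noReg_of_killed (u := Submodule.Quotient.mk ((1 : B) ⊗ₜ[A] u)) ?_ ?_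
    · rw [Ne, Submodule.Quotient.mk_eq_zero] at hu ⊢
      rw [← Ideal.map_ofList]
      exact fun hc => hu (hinj _ u hc)
    · intro r hr
      rw [← Submodule.Quotient.mk_smul, Submodule.Quotient.mk_eq_zero]
      induction hr using Submodule.span_induction with
      | mem r hr =>
        obtain ⟨s, hs, rfl⟩ := hr
        rw [← Ideal.map_ofList, algebraMap_smul, ← TensorProduct.tmul_smul, hres]
        have := hku s hs
        rw [← Submodule.Quotient.mk_smul, Submodule.Quotient.mk_eq_zero] at this
        exact ⟨1 ⊗ₜ ⟨s • u, this⟩, rfl⟩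
      | zero => simp
      | add x y _ _ hx hy => rw [add_smul]; exact add_mem hx hy
      | smul c x _ hx => rw [smul_eq_mul, mul_smul]; exact Submodule.smul_mem _ c hx

end Groth.Agent.S2938
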