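import Groth.Statements.S2953
import Groth.Agent.Lib.RootBase

set_option autoImplicit false
open RootPairing
open scoped Pointwise
universe u
open RootD

namespace Groth.Agent.S2953

/-- For a finite crystallographic reduced root pairing with a base b: an element of the Weyl group which
maps positive roots (relative to b) to positive roots is the identity. -/
theorem result {ι R M N : Type*} [CommRing R] [CharZero R] [IsDomain R] [AddCommGroup M] [Module R M]
    [AddCommGroup N] [Module R N] (P : RootPairing ι R M N) [Finite ι] [P.IsCrystallographic] [P.IsReduced]
    (b : P.Base) (g : P.Aut) (hg : g ∈ P.weylGroup) (hpos : ∀ i, b.IsPos i → b.IsPos (g • i)) : g = 1 := by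
  refine RootLib.eq_one_of_mapsTo_posOf (RootLib.base_isSimpleSys b) hg fun a ha => ?_
  exact (RootLib.isPos_iff_mem_posOf b _).1 (hpos a (RootPairing.Base.isPos_of_mem_support ha))

end Groth.Agent.S2953
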