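import Groth.Statements.S2954
import Groth.Agent.Lib.RootBase

set_option autoImplicit false
open RootPairing
open scoped Pointwise
universe u
open RootD

namespace Groth.Agent.S2954

/-- For a finite crystallographic reduced root pairing (over a domain of characteristic zero), the Weyl
group acts freely and transitively on bases: for two bases b, b' there is exactly one element of the
Weyl group carrying the set of simple roots of b onto that of b'. -/
theorem result {ι R M N : Type*} [CommRing R] [CharZero R] [IsDomain R] [AddCommGroup M] [Module R M]
    [AddCommGroup N] [Module R N] (P : RootPairing ι R M N) [Finite ι] [P.IsCrystallographic] [P.IsReduced]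
    (b b' : P.Base) :
    ∃! g : P.weylGroup, (fun i : ι => (g : P.Aut) • i) '' (b.support : Set ι) = (b'.support : Set ι) := by
  obtain ⟨g, hg, himg⟩ := RootLib.exists_img_eq_simpleSys (RootLib.base_isSimpleSys b) (RootLib.base_isSimpleSys b')
  refine ⟨⟨g, hg⟩, himg, fun v hv => Subtype.ext ?_⟩
  have h1 : RootLib.img ((v : P.Aut)⁻¹ * g) (b.support : Set ι) = b.support := by
    have imul : ∀ (g h : P.Aut) (T : Set ι), RootLib.img (g * h) T = RootLib.img g (RootLib.img h T) :=
      fun g h T => by simp only [RootLib.img, Set.image_image, mul_smul]
    have hv' : RootLib.img (v : P.Aut) (b.support : Set ι) = b'.support := hv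
    rw [imul, himg, ← hv', ← imul, inv_mul_cancel]
    simp only [RootLib.img, one_smul, Set.image_id']
  exact inv_mul_eq_one.1 (RootLib.eq_one_of_img_eq (RootLib.base_isSimpleSys b) (Subgroup.mul_mem _ (Subgroup.inv_mem _ v.2) hg) h1)

end Groth.Agent.S2954
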