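import Groth.Statements.S2955
import Groth.Agent.Lib.RootBase

set_option autoImplicit false
open RootPairing
open scoped Pointwise Classical
universe u
open RootD

namespace Groth.Agent.S2955

/-- Let P be a finite crystallographic reduced root pairing over a domain of characteristic zero, with a
base b, and write 2ρ for the sum of the positive roots with respect to b. Then for every simple root
β (an index in the support of b) the reflection in β sends 2ρ to 2ρ − 2β (equivalently, the coroot
of β pairs to 1 with ρ; only the reflection identity is asserted). -/
theorem result {ι R M N : Type*} [CommRing R] [CharZero R] [IsDomain R] [AddCommGroup M] [Module R M]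
    [AddCommGroup N] [Module R N] (P : RootPairing ι R M N) [Finite ι] [P.IsCrystallographic] [P.IsReduced]
    [Fintype ι] (b : P.Base) (j : ι) (hj : j ∈ b.support) :
    P.reflection j (∑ i, if b.IsPos i then P.root i else 0) =
      (∑ i, if b.IsPos i then P.root i else 0) - (2 : R) • P.root j := by
  classical
  have hΔ := RootLib.base_isSimpleSys b
  have hsum : (∑ i, if b.IsPos i then P.root i else 0) = ∑ i, (if i ∈ RootD.posOf P (b.support : Set ι) then P.root i else 0) :=
    Finset.sum_congr rfl fun i _ => by simp only [RootLib.isPos_iff_mem_posOf b]
  have h := RootLib.pos_sum_refl hΔ (fun i => P.root i) (a := j) (by simpa using hj)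
  rw [hsum, map_sum]
  have heq : ∀ i, P.reflection j (if i ∈ RootD.posOf P (b.support : Set ι) then P.root i else 0) =
      if i ∈ RootD.posOf P (b.support : Set ι) then P.root (RootPairing.Equiv.reflection P j • i) else 0 := fun i => by
    split_ifs
    · rw [RootLib.refl_smul_idx, P.root_reflectionPerm]
    · simp
  simp only [heq]
  convert h using 1
  · congr!
  · rw [RootLib.root_nr, two_smul]
    simp only [sub_add, sub_neg_eq_add]
    congr!

end Groth.Agent.S2955
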