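import Groth.Statements.S2966
import Groth.Agent.Lib.H8UnipMult
import Mathlib

set_option autoImplicit false
universe u
open scoped TensorProduct
open SGA3t2b

namespace Groth.Agent.S2966


section Aux
open TensorProduct
variable {k : Type u} [Field k] {A : Type u} [CommRing A] [HopfAlgebra k A]

/-- The unipotent filtration. -/
noncomputable def U (k : Type u) (A : Type u) [Field k] [CommRing A] [HopfAlgebra k A] : ℕ → Submodule k A
  | 0 => ⊥
  | i + 1 => (LinearMap.range ((U k A i).subtype.rTensor A)).comap
      (CoalgebraStruct.comul (R := k) - (TensorProduct.mk k A A).flip 1)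

theorem U_mono : ∀ i, U k A i ≤ U k A (i + 1)
  | 0 => bot_le
  | i + 1 => by
    intro a ha
    rw [U, Submodule.mem_comap] at ha ⊢
    have h : ((U k A i).subtype.rTensor A) =
        ((U k A (i + 1)).subtype.rTensor A) ∘ₗ ((Submodule.inclusion (U_mono i)).rTensor A) := by
      rw [← LinearMap.rTensor_comp]; rfl
    rw [h] at ha
    exact LinearMap.range_comp_le_range _ _ ha

theorem exists_mem_U [Algebra.FiniteType k A] (hU : HopfRep.IsUnipotent k A) (a : A) : ∃ m, a ∈ U k A m := by
  obtain ⟨W, hWfin, haW, hW⟩ := Groth.Agent.S7952.result k A A a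
  letI : HopfRep.Comod k A W := Groth.Agent.H8Comod.subComod (k := k) (C := A) W hW
  haveI := hWfin
  obtain ⟨m, F, -, hF0, hFm, -, hF⟩ := (Groth.Agent.S7960.result k A).mp hU W hWfin
  have hcoact : ∀ w : W, (W.subtype.rTensor A) (HopfRep.Comod.coact (k := k) (A := A) w) =
      CoalgebraStruct.comul (R := k) (w : A) := fun w =>
    (LinearMap.congr_fun (Groth.Agent.H8Comod.subComod_subtype (k := k) (C := A) W hW) w).symm
  suffices H : ∀ i, ∀ w : W, w ∈ F i → (w : A) ∈ U k A i from ⟨m, H m ⟨a, haW⟩ (by rw [hFm]; trivial)⟩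
  intro i
  induction i with
  | zero => intro w hw; rw [hF0, Submodule.mem_bot] at hw; subst hw; exact zero_mem _
  | succ i ih =>
    intro w hw
    obtain ⟨z, hz⟩ := hF i w hw
    let j : (F i) →ₗ[k] U k A i := LinearMap.codRestrict _ (W.subtype ∘ₗ (F i).subtype) fun p => ih _ p.2
    rw [U, Submodule.mem_comap]
    refine ⟨j.rTensor A z, ?_⟩
    rw [← LinearMap.comp_apply, ← LinearMap.rTensor_comp,
      show (U k A i).subtype ∘ₗ j = W.subtype ∘ₗ (F i).subtype from rfl,
      LinearMap.rTensor_comp, LinearMap.comp_apply, hz, map_sub, hcoact, LinearMap.rTensor_tmul]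
    rfl

/-- Unipotent groups have no nontrivial characters after extension of the field. -/
theorem groupLike_eq_one [Algebra.FiniteType k A] (hU : HopfRep.IsUnipotent k A) (K : Type u) [Field K]
    [Algebra k K] (g : K ⊗[k] A) (hg : IsGroupLikeElem K g) : g = 1 := by
  classical
  by_contra hne
  let M : ℕ → Submodule K (K ⊗[k] A) := fun i => Submodule.span K {x | ∃ u ∈ U k A i, x = (1 : K) ⊗ₜ[k] u}
  have hMmono : Monotone M := monotone_nat_of_le_succ fun i =>
    Submodule.span_mono fun x ⟨u, hu, hx⟩ => ⟨u, U_mono i hu, hx⟩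
  have hex : ∀ x : K ⊗[k] A, ∃ m, x ∈ M m := by
    intro x
    induction x using TensorProduct.induction_on with
    | zero => exact ⟨0, zero_mem _⟩
    | add p q hp hq =>
      obtain ⟨m, hm⟩ := hp
      obtain ⟨n, hn⟩ := hq
      exact ⟨max m n, add_mem (hMmono (le_max_left _ _) hm) (hMmono (le_max_right _ _) hn)⟩
    | tmul r a =>
      obtain ⟨m, hm⟩ := exists_mem_U hU a
      refine ⟨m, ?_⟩
      rw [show r ⊗ₜ[k] a = r • ((1 : K) ⊗ₜ[k] a) by simp [smul_tmul']]
      exact Submodule.smul_mem _ _ (Submodule.subset_span ⟨a, hm, rfl⟩)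
  obtain ⟨m, hm⟩ := hex g
  induction m with
  | zero =>
    have h0 : M 0 = ⊥ := by
      refine Submodule.span_eq_bot.2 ?_
      rintro x ⟨u, hu, rfl⟩
      rw [U, Submodule.mem_bot] at hu
      rw [hu, tmul_zero]
    rw [h0, Submodule.mem_bot] at hm
    exact hg.ne_zero hm
  | succ m ih =>
    obtain ⟨f, hf⟩ := Module.Projective.exists_dual_ne_zero K (sub_ne_zero.2 hne)
    let C : (K ⊗[k] A) ⊗[K] (K ⊗[k] A) →ₗ[K] (K ⊗[k] A) :=
      (TensorProduct.rid K (K ⊗[k] A)).toLinearMap ∘ₗ f.lTensor (K ⊗[k] A)
    have hC : ∀ x ∈ M (m + 1), C (CoalgebraStruct.comul (R := K) x - x ⊗ₜ[K] (1 : K ⊗[k] A)) ∈ M m := by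
      intro x hx
      induction hx using Submodule.span_induction with
      | zero => simp
      | add p q _ _ hp hq =>
        rw [map_add (CoalgebraStruct.comul (R := K)), add_tmul, add_sub_add_comm, map_add]
        exact add_mem hp hq
      | smul c p _ hp =>
        rw [LinearMap.map_smul (CoalgebraStruct.comul (R := K)), ← smul_tmul', ← smul_sub, map_smul]
        exact Submodule.smul_mem _ _ hp
      | mem x hx =>
        obtain ⟨u, hu, rfl⟩ := hx
        rw [U, Submodule.mem_comap] at hu
        obtain ⟨z, hz⟩ := hu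
        rw [Groth.Agent.H8Mult.comul_one_tmul, show ((1 : K) ⊗ₜ[k] u) ⊗ₜ[K] (1 : K ⊗[k] A) =
          Groth.Agent.H8Mult.sq (R := k) K A (u ⊗ₜ[k] (1 : A)) from rfl, ← map_sub,
          show CoalgebraStruct.comul (R := k) u - u ⊗ₜ[k] (1 : A) =
            (CoalgebraStruct.comul (R := k) (A := A) - (TensorProduct.mk k A A).flip 1) u from rfl, ← hz]
        clear hz
        induction z using TensorProduct.induction_on with
        | zero => simp
        | add p q hp hq => simp only [map_add]; exact add_mem hp hq
        | tmul p q =>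
          simp only [LinearMap.rTensor_tmul, Groth.Agent.H8Mult.sq_tmul, C, LinearMap.comp_apply,
            LinearMap.lTensor_tmul, LinearEquiv.coe_coe, TensorProduct.rid_tmul]
          exact Submodule.smul_mem _ _ (Submodule.subset_span ⟨_, p.2, rfl⟩)
    refine ih ?_
    have h := hC g hm
    rw [hg.comul_eq_tmul_self, ← tmul_sub, LinearMap.comp_apply, LinearMap.lTensor_tmul,
      LinearEquiv.coe_coe, TensorProduct.rid_tmul] at h
    have h' := Submodule.smul_mem _ (f (g - 1))⁻¹ h
    rwa [smul_smul, inv_mul_cancel₀ hf, one_smul] at h'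

end Aux

/-- In Hopf-algebra form (with unipotent taken in the representation-theoretic sense: affine and every
non-zero finite-dimensional representation has a non-zero fixed vector): let k be a field, A_M the
coordinate Hopf algebra of an affine k-group M of finite type which is of multiplicative type in the
sense that it becomes diagonalisable over an algebraic closure of k, and A_U that of a unipotent
affine k-group U of finite type. Then (i) every homomorphism M -> U and (ii) every homomorphism U ->
M is trivial: every bialgebra map A_U -> A_M, resp. A_M -> A_U, factors through the counit. -/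
theorem result {k : Type u} [Field k] {AM AU : Type u} [CommRing AM] [CommRing AU]
    [HopfAlgebra k AM] [HopfAlgebra k AU] [Algebra.FiniteType k AM] [Algebra.FiniteType k AU]
    (hM : HopfRep.IsDiagonalizable (AlgebraicClosure k) (AlgebraicClosure k ⊗[k] AM)) (hU : HopfRep.IsUnipotent k AU) :
    (∀ φ : AU →ₐc[k] AM, SGA3t2b.IsTrivialBialgHom φ) ∧ (∀ ψ : AM →ₐc[k] AU, SGA3t2b.IsTrivialBialgHom ψ) := by

  let K := AlgebraicClosure k
  have halg : ∀ (A : Type u) [CommRing A] [HopfAlgebra k A] (c : k),
      (algebraMap K (K ⊗[k] A)) (algebraMap k K c) = (1 : K) ⊗ₜ[k] algebraMap k A c := fun A _ _ c => by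
    rw [← IsScalarTower.algebraMap_apply, Algebra.TensorProduct.algebraMap_apply']
  constructor
  · intro φ a
    have hinj := Groth.Agent.H8UnipMult.prim_injective (k := k) (A := AM) K hM
    let φ' : k ⊗[k] AU →ₐc[k] k ⊗[k] AM := Bialgebra.TensorProduct.map (BialgHom.id k k) φ
    have h := Groth.Agent.H8UnipMult.trivial_of_unipotent hinj hU φ' a
    simp only [φ', Bialgebra.TensorProduct.map_tmul] at h
    have h2 := congrArg (TensorProduct.lid k AM) h
    simpa [Algebra.TensorProduct.algebraMap_apply, Algebra.smul_def] using h2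
  · intro ψ a
    let Ψ : K ⊗[k] AM →ₐc[K] K ⊗[k] AU := Bialgebra.TensorProduct.map (BialgHom.id K K) ψ
    have hΨ : ∀ x, Ψ x = algebraMap K _ (CoalgebraStruct.counit (R := K) x) := by
      intro x
      have hx : x ∈ Submodule.span K {y : K ⊗[k] AM | IsGroupLikeElem K y} := by
        rw [show Submodule.span K {y : K ⊗[k] AM | IsGroupLikeElem K y} = ⊤ from hM]; trivial
      induction hx using Submodule.span_induction with
      | mem y hy => rw [groupLike_eq_one hU K (Ψ y) (hy.map Ψ), hy.counit_eq_one, map_one]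
      | zero => simp
      | add p q _ _ hp hq => simp only [map_add, hp, hq]
      | smul c p _ hp => rw [map_smul, hp, map_smul, smul_eq_mul, map_mul, Algebra.smul_def]
    refine Module.FaithfullyFlat.tensorProduct_mk_injective (A := k) (B := K) AU ?_
    show (1 : K) ⊗ₜ[k] ψ a = (1 : K) ⊗ₜ[k] _
    have h := hΨ ((1 : K) ⊗ₜ[k] a)
    simp only [Ψ, Bialgebra.TensorProduct.map_tmul] at h
    refine (h.trans ?_)
    rw [← halg AU, TensorProduct.counit_tmul]
    congr 1
    simp [Algebra.smul_def]

end Groth.Agent.S2966
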