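import Groth.Statements.S2974
import Mathlib
import Groth.Agent.Lib.H8MultHensel
import Groth.Agent.Lib.H8MultField
import Groth.Agent.Lib.H4HenselSections
import Groth.Agent.S0518

set_option autoImplicit false
universe u
open TensorProduct SGA3b
open SGA3b

namespace Groth.Agent.S2974

open TensorProduct in
lemma isotrivial_aux (R : Type u) [CommRing R] (A : Type u) [CommRing A] [HopfAlgebra R A] [HenselianLocalRing R]
    (hft : Algebra.FiniteType R A) (h : SGA3b.IsMultType R A) : SGA3b.IsIsotrivial R A := by
  classical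
  haveI := hft
  have hA := H8MultGL.hasSplitting_of_isMultType h
  have hAk := hA.baseChange (IsLocalRing.ResidueField R)
  obtain ⟨k', _, _, hfin, hsep, M, _, -, ⟨e⟩⟩ := H8MultField.exists_sep_split_of_splitting
    (k := IsLocalRing.ResidueField R) (A := IsLocalRing.ResidueField R ⊗[R] A) inferInstance hAk
  haveI := hfin
  haveI := hsep
  haveI : Algebra.FormallyEtale (IsLocalRing.ResidueField R) k' := Algebra.FormallyEtale.of_isSeparable _ _
  haveI : Algebra.Etale (IsLocalRing.ResidueField R) k' :=
    { finitePresentation := Algebra.FinitePresentation.of_finiteType.mp inferInstance }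
  obtain ⟨S, _, _, hSfin, hSet, ⟨ε⟩⟩ := Groth.Agent.S0518.result R k'
  haveI := hSfin
  haveI := hSet
  haveI : HenselianRing S ((IsLocalRing.maximalIdeal R).map (algebraMap R S)) :=
    H4HenselPair.henselianRing_of_isIntegral _ S
  let I := (IsLocalRing.maximalIdeal R).map (algebraMap R S)
  letI : Algebra R k' := ((algebraMap (IsLocalRing.ResidueField R) k').comp (algebraMap R _)).toAlgebra
  haveI : IsScalarTower R (IsLocalRing.ResidueField R) k' := IsScalarTower.of_algebraMap_eq' rfl
  let φ : k' →ₐ[R] S ⧸ I :=
    (Algebra.TensorProduct.lift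
      (Ideal.Quotient.liftₐ _ (Algebra.ofId R (S ⧸ I)) fun r hr => by
        rw [Algebra.ofId_apply, IsScalarTower.algebraMap_apply R S, Ideal.Quotient.algebraMap_eq]
        exact Ideal.Quotient.eq_zero_iff_mem.mpr (Ideal.mem_map_of_mem _ hr))
      (Ideal.Quotient.mkₐ R I) fun _ _ => Commute.all _ _).comp
      ((ε.symm.toAlgHom).restrictScalars R)
  letI : Algebra k' (S ⧸ I) := φ.toRingHom.toAlgebra
  haveI : IsScalarTower R k' (S ⧸ I) := IsScalarTower.of_algebraMap_eq fun r => (φ.commutes r).symm
  have hd0 : SGA3b.IsDiag k' (k' ⊗[R] A) :=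
    H8MultGL.isDiag_cancel k' (IsLocalRing.ResidueField R) ⟨M, inferInstance, ⟨e⟩⟩
  have hdS : SGA3b.IsDiag S (S ⊗[R] A) := H8MultHensel.isDiag_of_henselian (hA.baseChange S) I
    (H8MultGL.isDiag_uncancel _ S (H8MultGL.isDiag_cancel (S ⧸ I) k' (H8MultGL.isDiag_baseChange _ hd0)))
  refine ⟨S, inferInstance, inferInstance, hSet, hSfin, ?_, hdS⟩
  refine (Module.FaithfullyFlat.iff_flat_and_proper_ideal R S).mpr ⟨inferInstance, fun J hJ htop => ?_⟩
  have hle : J ≤ IsLocalRing.maximalIdeal R := IsLocalRing.le_maximalIdeal hJ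
  have h1 : (1 : S) ∈ IsLocalRing.maximalIdeal R • (⊤ : Submodule R S) :=
    Submodule.smul_mono_left hle (by rw [htop]; trivial)
  have h2 : ε ((1 : IsLocalRing.ResidueField R) ⊗ₜ[R] (1 : S)) = 0 := by
    rw [show (1 : IsLocalRing.ResidueField R) ⊗ₜ[R] (1 : S) = 0 from H8Mult.one_tmul_eq_zero_of_mem h1, map_zero]
  rw [← Algebra.TensorProduct.one_def, map_one] at h2
  exact one_ne_zero h2


/-- Let R be a henselian local ring and H = Spec A an R-group of multiplicative type and of finite type.
Then H is isotrivial: split by a finite etale faithfully flat R-algebra. (Affine group schemes over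
an affine base are taken in Hopf-algebra form; base change is the tensor product.) -/
theorem result (R : Type u) [CommRing R] (A : Type u) [CommRing A] [HopfAlgebra R A] [HenselianLocalRing R] (hft : Algebra.FiniteType R A) (h : IsMultType R A) :
    IsIsotrivial R A := by
  exact isotrivial_aux R A hft h

end Groth.Agent.S2974
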