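import Groth.Statements.S3015
import Mathlib
import Groth.Agent.Lib.H8Artin

set_option autoImplicit false
universe u
open CategoryTheory MonoidalCategory CartesianMonoidalCategory MonObj GrpObj AlgebraicGeometry TensorProduct
open SGA3

namespace Groth.Agent.S3015

/-- Let A be a local artinian ring, G a group scheme over A, and U, V dense open subsets of G. Then U ·
V, the image of U ×_A V under the multiplication, is the whole underlying space of G: every point of
G is the product of a point of G ×_A G whose two projections lie in U and V. -/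
theorem result (A : Type u) [CommRing A] [IsArtinianRing A] [IsLocalRing A]
    (G : Over (Spec (CommRingCat.of A))) [GrpObj G] (U V : G.left.Opens)
    (hU : Dense (U : Set G.left)) (hV : Dense (V : Set G.left)) (g : G.left) :
    ∃ z : ↥(G ⊗ G).left, (fst G G).left.base z ∈ U ∧ (snd G G).left.base z ∈ V ∧ μ[G].left.base z = g := by
  obtain ⟨K, _, s, p, hp⟩ : ∃ (K : Type u) (_ : Field K)
      (s : Spec (CommRingCat.of K) ⟶ Spec (CommRingCat.of A)) (p : Over.mk s ⟶ G),
      p.left (IsLocalRing.closedPoint K) = g :=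
    ⟨G.left.residueField g, inferInstance, G.left.fromSpecResidueField g ≫ G.hom,
      Over.homMk (G.left.fromSpecResidueField g) rfl, Scheme.fromSpecResidueField_apply _ _⟩
  let T := Over.mk s
  haveI : UniversallyOpen s := Groth.Agent.H8Artin.universallyOpen A s
  haveI : UniversallyOpen T.hom := ‹UniversallyOpen s›
  haveI : UniversallyOpen (fst G T).left := by rw [Over.fst_left]; infer_instance
  let e : G ⊗ T ≅ G ⊗ T :=
    { hom := lift ((fst G T)⁻¹ * (snd G T ≫ p)) (snd G T)
      inv := lift ((snd G T ≫ p) * (fst G T)⁻¹) (snd G T)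
      hom_inv_id := by
        apply CartesianMonoidalCategory.hom_ext <;> simp [MonObj.comp_mul, GrpObj.comp_inv]
      inv_hom_id := by
        apply CartesianMonoidalCategory.hom_ext <;> simp [MonObj.comp_mul, GrpObj.comp_inv] }
  have he : IsOpenMap e.hom.left := by
    haveI : IsIso e.hom.left := ((Over.forget _).mapIso e).isIso_hom
    exact e.hom.left.isOpenEmbedding.isOpenMap
  have hU' : Dense ((fst G T).left ⁻¹' (U : Set G.left)) := hU.preimage (fst G T).left.isOpenMap
  have hV' : Dense (e.hom.left ⁻¹' ((fst G T).left ⁻¹' (V : Set G.left))) :=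
    (hV.preimage (fst G T).left.isOpenMap).preimage he
  have hopen : IsOpen (e.hom.left ⁻¹' ((fst G T).left ⁻¹' (V : Set G.left))) :=
    (V.2.preimage (fst G T).left.continuous).preimage e.hom.left.continuous
  obtain ⟨w, hwU, hwV⟩ : (((fst G T).left ⁻¹' (U : Set G.left)) ∩
      (e.hom.left ⁻¹' ((fst G T).left ⁻¹' (V : Set G.left)))).Nonempty := by
    haveI : Nonempty ↥(G ⊗ T).left := ⟨(lift p (𝟙 T)).left (IsLocalRing.closedPoint K)⟩
    exact hU'.inter_open_nonempty _ hopen hV'.nonempty |>.mono (Set.inter_comm _ _).le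
  let m : G ⊗ T ⟶ G ⊗ G := lift (fst G T) ((fst G T)⁻¹ * (snd G T ≫ p))
  refine ⟨m.left w, ?_, ?_, ?_⟩
  · show ((m ≫ fst G G).left : (G ⊗ T).left ⟶ G.left) w ∈ U
    rw [show m ≫ fst G G = fst G T from lift_fst _ _]
    exact hwU
  · show ((m ≫ snd G G).left : (G ⊗ T).left ⟶ G.left) w ∈ V
    rw [show m ≫ snd G G = e.hom ≫ fst G T by simp [m, e]]
    exact hwV
  · show ((m ≫ μ[G]).left : (G ⊗ T).left ⟶ G.left) w = g
    rw [show m ≫ μ[G] = snd G T ≫ p by
      show (fst G T) * ((fst G T)⁻¹ * (snd G T ≫ p)) = _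
      rw [← _root_.mul_assoc, mul_inv_cancel, _root_.one_mul], Over.comp_left,
      Scheme.Hom.comp_apply, ← hp]
    haveI : Subsingleton ↥T.left := inferInstanceAs (Subsingleton ↥(Spec (CommRingCat.of K)))
    exact congrArg _ (Subsingleton.elim _ _)

end Groth.Agent.S3015
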