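import Groth.Statements.S4106
import Mathlib
import Groth.Agent.Lib.H8GrpImage
import Groth.Agent.Lib.H8Affinize

set_option autoImplicit false
universe u
open CategoryTheory MonoidalCategory CartesianMonoidalCategory MonObj GrpObj AlgebraicGeometry CategoryTheory.Limits
open SGA3

namespace Groth.Agent.S4106
open Groth.Agent CategoryTheory.Limits

/-- Let G be an algebraic group over a field k (a k-group scheme of finite type) and ρ : G → G_af = Spec
O(G) the canonical morphism to its affine hull. Then ρ is surjective and flat, and G_af is of finite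
type over k: the morphism G_af → Spec k through which the structure morphism of G factors is locally
of finite type. -/
theorem result (k : Type u) [Field k] (G : Over (Spec (CommRingCat.of k))) [GrpObj G]
    [LocallyOfFiniteType G.hom] [QuasiCompact G.hom] :
    Surjective G.left.toSpecΓ ∧ Flat G.left.toSpecΓ ∧
      LocallyOfFiniteType (Spec.map G.hom.appTop ≫ (Spec (CommRingCat.of k)).isoSpec.inv) := by
  let A : Over (Spec (CommRingCat.of k)) :=
    Over.mk (Spec.map G.hom.appTop ≫ (Spec (CommRingCat.of k)).isoSpec.inv)
  let q : G ⟶ A := Over.homMk G.left.toSpecΓ (by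
    show G.left.toSpecΓ ≫ Spec.map G.hom.appTop ≫ _ = G.hom
    rw [← Scheme.toSpecΓ_naturality_assoc]
    simp [Scheme.isoSpec])
  haveI : CompactSpace G.left := QuasiCompact.compactSpace_of_compactSpace G.hom
  haveI : IsLocallyNoetherian G.left := LocallyOfFiniteType.isLocallyNoetherian G.hom
  haveI : QuasiSeparatedSpace G.left := inferInstance
  haveI : LocallyOfFiniteType (G ⊗ G).hom :=
    inferInstanceAs (LocallyOfFiniteType (pullback.fst G.hom G.hom ≫ G.hom))
  haveI : QuasiCompact (G ⊗ G).hom :=
    inferInstanceAs (QuasiCompact (pullback.fst G.hom G.hom ≫ G.hom))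
  haveI : CompactSpace (G ⊗ G).left := QuasiCompact.compactSpace_of_compactSpace (G ⊗ G).hom
  haveI : IsLocallyNoetherian (G ⊗ G).left :=
    LocallyOfFiniteType.isLocallyNoetherian (G ⊗ G).hom
  haveI : QuasiSeparatedSpace (G ⊗ G).left := inferInstance
  haveI : IsAffine A.left := inferInstanceAs (IsAffine (Spec Γ(G.left, ⊤)))
  haveI hq : IsIso q.left.appTop := by
    show IsIso G.left.toSpecΓ.appTop
    rw [Scheme.toSpecΓ_appTop]
    infer_instance
  obtain ⟨g, hg⟩ := H8Affinize.exists_grpObj q
  letI := g
  haveI := hg
  obtain ⟨hf, hs, hl⟩ := H8GrpImage.main G A q (ConcreteCategory.bijective_of_isIso q.left.appTop).1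
  exact ⟨hs, hf, hl⟩

end Groth.Agent.S4106
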