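import Groth.Statements.S3042
import Mathlib
import Groth.Agent.Lib.H8EtaleFibre

set_option autoImplicit false
universe u
open CategoryTheory MonoidalCategory CartesianMonoidalCategory MonObj GrpObj AlgebraicGeometry TensorProduct
open SGA3

namespace Groth.Agent.S3042
open CategoryTheory.Limits
set_option backward.isDefEq.respectTransparency false in
lemma unramified_of_fibres {X Y : Scheme.{u}} (f : X ⟶ Y) [LocallyOfFiniteType f]
    (h : ∀ y, FormallyUnramified (f.fiberToSpecResidueField y)) : FormallyUnramified f := by
  wlog hY : ∃ R, Y = Spec R generalizing X Y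
  · rw [IsZariskiLocalAtTarget.iff_of_openCover (P := @FormallyUnramified) Y.affineCover]
    intro i
    dsimp [Scheme.Cover.pullbackHom]
    refine this _ (fun y ↦ ?_) ⟨_, rfl⟩
    apply MorphismProperty.of_isPullback
    · exact isPullback_fiberToSpecResidueField_of_isPullback (IsPullback.of_hasPullback _ _) _
    · infer_instance
  obtain ⟨R, rfl⟩ := hY
  wlog hX : ∃ S, X = Spec S generalizing f X
  · rw [IsZariskiLocalAtSource.iff_of_openCover (P := @FormallyUnramified) X.affineCover]
    intro i
    have _ (y) : FormallyUnramified (CategoryTheory.Limits.pullback.snd f ((Spec R).fromSpecResidueField y)) :=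
      inferInstanceAs <| FormallyUnramified (f.fiberToSpecResidueField y)
    refine this _ (fun y ↦ ?_) ⟨_, rfl⟩
    rw [Scheme.Hom.fiberToSpecResidueField, ← pullbackRightPullbackFstIso_inv_snd_snd]
    haveI (a b : Scheme.{u}) (g : a ⟶ b) [Mono g] [LocallyOfFiniteType g] : FormallyUnramified g := by
      haveI := (pullback.isIso_diagonal_iff g).mpr inferInstance
      infer_instance
    exact MorphismProperty.comp_mem @FormallyUnramified _ _ inferInstance
      (MorphismProperty.comp_mem @FormallyUnramified _ _ inferInstance inferInstance)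
  obtain ⟨S, rfl⟩ := hX
  obtain ⟨φ, rfl⟩ := Spec.map_surjective f
  simp only [HasRingHomProperty.Spec_iff] at *
  algebraize [φ.hom]
  have : Algebra.EssFiniteType R S := inferInstance
  refine RingHom.formallyUnramified_algebraMap.mpr (Groth.Agent.H8EtaleFibre.formallyUnramified_of_fiber fun p hp => ?_)
  refine RingHom.formallyUnramified_algebraMap.mp ?_
  rw [← CommRingCat.hom_ofHom (algebraMap p.ResidueField (p.Fiber ↑S)),
    ← HasRingHomProperty.Spec_iff (P := @FormallyUnramified), ← MorphismProperty.arrow_mk_iso_iff (P := @FormallyUnramified)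
    (Spec.fiberToSpecResidueFieldIso R S ⟨p, hp⟩)]
  exact h ⟨p, hp⟩

/-- Let f : X → Y be a morphism of schemes locally of finite type. Then f is a monomorphism if and only
if, for every point y of Y, the fibre X_y → Spec κ(y) is a monomorphism. -/
theorem result (X Y : Scheme.{u}) (f : X ⟶ Y) [LocallyOfFiniteType f] :
    Mono f ↔ ∀ y : Y, Mono (f.fiberToSpecResidueField y) := by
  refine ⟨fun h y => by
    haveI := h
    exact inferInstanceAs (Mono (CategoryTheory.Limits.pullback.snd f (Y.fromSpecResidueField y))), fun h => ?_⟩
  haveI : FormallyUnramified f := unramified_of_fibres f fun y => by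
    haveI := h y
    infer_instance
  haveI : UniversallyInjective f := by
    refine ((tfae_universallyInjective f).out 1 0).mp fun K hK g₁ g₂ hg => ?_
    letI : Field K := hK
    dsimp only at hg
    obtain ⟨⟨y, φ⟩, hy⟩ := (Y.SpecToEquivOfField K).symm.surjective (g₁ ≫ f)
    haveI := h y
    change Spec.map φ ≫ Y.fromSpecResidueField y = g₁ ≫ f at hy
    have e : CategoryTheory.Limits.pullback.lift g₁ (Spec.map φ) hy.symm = CategoryTheory.Limits.pullback.lift g₂ (Spec.map φ) (hg ▸ hy.symm) := by
      haveI : Mono (CategoryTheory.Limits.pullback.snd f (Y.fromSpecResidueField y)) := h y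
      rw [← cancel_mono (CategoryTheory.Limits.pullback.snd f (Y.fromSpecResidueField y))]
      exact (CategoryTheory.Limits.pullback.lift_snd _ _ _).trans (CategoryTheory.Limits.pullback.lift_snd _ _ _).symm
    exact (CategoryTheory.Limits.pullback.lift_fst _ _ _).symm.trans
      ((congrArg (fun l => l ≫ CategoryTheory.Limits.pullback.fst f (Y.fromSpecResidueField y)) e).trans
        (CategoryTheory.Limits.pullback.lift_fst _ _ _))
  haveI : Surjective (CategoryTheory.Limits.pullback.diagonal f) := (UniversallyInjective.iff_diagonal f).mp inferInstance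
  haveI : Epi (CategoryTheory.Limits.pullback.diagonal f).base :=
    (TopCat.epi_iff_surjective _).mpr (CategoryTheory.Limits.pullback.diagonal f).surjective
  exact (CategoryTheory.Limits.pullback.isIso_diagonal_iff f).mp (IsOpenImmersion.isIso _)

end Groth.Agent.S3042
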