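import Groth.Statements.S3043
import Mathlib

set_option autoImplicit false
universe u
open CategoryTheory MonoidalCategory CartesianMonoidalCategory MonObj GrpObj AlgebraicGeometry TensorProduct
open SGA3

namespace Groth.Agent.S3043
open CategoryTheory CategoryTheory.Limits AlgebraicGeometry

/-- Let π : X → S be a morphism of schemes admitting a section ε (ε followed by π is the identity). If π
is injective on underlying points, then π is an integral morphism. -/
theorem result (X S : Scheme.{u}) (π : X ⟶ S) (ε : S ⟶ X) (hε : ε ≫ π = 𝟙 S)
    (hinj : Function.Injective π.base) : IsIntegralHom π := by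
  have hsurj : Function.Surjective ε.base := fun x => ⟨π.base x, hinj (by
    show (ε ≫ π).base (π.base x) = π.base x
    rw [hε]; rfl)⟩
  haveI : Surjective ε := ⟨hsurj⟩
  haveI : UniversallyClosed (ε ≫ π) := by rw [hε]; infer_instance
  haveI := UniversallyClosed.of_comp_surjective ε π
  have hc := Topology.IsClosedEmbedding.of_continuous_injective_isClosedMap π.continuous hinj π.isClosedMap
  haveI : IsAffineHom π := isAffineHom_of_isInducing π hc.isInducing hc.isClosed_range
  exact AlgebraicGeometry.IsIntegralHom.iff_universallyClosed_and_isAffineHom.2 ⟨inferInstance, inferInstance⟩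

end Groth.Agent.S3043
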