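import Groth.Statements.S3044
import Mathlib
import Groth.Agent.Lib.H8FiniteKill

set_option autoImplicit false
universe u
open CategoryTheory MonoidalCategory CartesianMonoidalCategory MonObj GrpObj AlgebraicGeometry TensorProduct
open SGA3

namespace Groth.Agent.S3044
open scoped TensorProduct in
lemma descend (k : Type u) [Field k] (K : Type u) [Field K] [Algebra k K] (A : Type u) [CommRing A]
    [HopfAlgebra k A] (n : ℕ)
    (h : (WithConv.toConv (AlgHom.id K (K ⊗[k] A))) ^ n = 1) :
    (WithConv.toConv (AlgHom.id k A)) ^ n = 1 := by
  let inc : A →ₐ[k] K ⊗[k] A := Algebra.TensorProduct.includeRight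
  let res : WithConv (K ⊗[k] A →ₐ[K] K ⊗[k] A) → WithConv (A →ₐ[k] K ⊗[k] A) :=
    fun f => WithConv.toConv ((f.ofConv.restrictScalars k).comp inc)
  have hone : res 1 = 1 := by
    refine WithConv.ofConv_injective (AlgHom.ext fun a => ?_)
    simp [res, inc, AlgHom.convOne_apply, Algebra.algebraMap_eq_smul_one]
  have hmul : ∀ f g, res (f * g) = res f * res g := by
    intro f g
    refine WithConv.ofConv_injective (AlgHom.ext fun a => ?_)
    show (f * g) ((1 : K) ⊗ₜ[k] a) = (res f * res g) a
    rw [AlgHom.convMul_apply, AlgHom.convMul_apply, TensorProduct.comul_tmul]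
    induction CoalgebraStruct.comul (R := k) a using TensorProduct.induction_on with
    | zero => simp
    | add y z hy hz => simp only [TensorProduct.tmul_add, map_add, hy, hz]
    | tmul y z =>
      simp [res, inc, Bialgebra.comul_one, Algebra.TensorProduct.one_def]
  have hpow : ∀ (f : WithConv (K ⊗[k] A →ₐ[K] K ⊗[k] A)) (i : ℕ), res (f ^ i) = res f ^ i := by
    intro f i
    induction i with
    | zero => rw [pow_zero, pow_zero, hone]
    | succ i ih => rw [pow_succ, pow_succ, hmul, ih]
  have hi : Function.Injective inc :=
    Algebra.TensorProduct.includeRight_injective (algebraMap k K).injective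
  have h2 : (WithConv.toConv inc) ^ n = 1 := by
    have := congrArg res h
    rw [hone, hpow] at this
    exact this
  refine WithConv.ofConv_injective (AlgHom.ext fun a => hi ?_)
  have h3 : inc.comp ((WithConv.toConv (AlgHom.id k A)) ^ n).ofConv = (1 : WithConv (A →ₐ[k] K ⊗[k] A)).ofConv := by
    rw [Groth.Agent.H8FiniteKill.comp_pow, ← h2]
    rfl
  rw [← AlgHom.comp_apply, h3]
  simp [AlgHom.convOne_apply]

/-- Let A be a commutative Hopf algebra over a field k which is finite-dimensional, of dimension n (a
finite algebraic k-group G of rank n, not assumed commutative). Then the morphism g ↦ gⁿ of G is the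
trivial morphism: in the convolution group of algebra endomorphisms of A, the n-th power of the
identity is the neutral element (the counit followed by the unit). -/
theorem result (k : Type u) [Field k] (A : Type u) [CommRing A] [HopfAlgebra k A]
    [Module.Finite k A] :
    (WithConv.toConv (AlgHom.id k A)) ^ (Module.finrank k A) = 1 := by
  refine descend k (AlgebraicClosure k) A _ ?_
  rw [← Module.finrank_baseChange (R := AlgebraicClosure k) (S := k) (M' := A)]
  exact Groth.Agent.H8FiniteKill.pow_finrank_eq_one_of_isAlgClosed

end Groth.Agent.S3044
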