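import Groth.Statements.S3133
import Mathlib

set_option autoImplicit false
set_option backward.isDefEq.respectTransparency.types false
set_option maxHeartbeats 1000000
set_option linter.all false
open Polynomial
open SGA4h

namespace Groth.Agent.S3133
open Groth.Agent Polynomial

/-- Let A be a square matrix over a commutative ring and n ≥ 1, and let B be the matrix on n blocks of
the endomorphism (x_1, …, x_n) ↦ (A x_n, x_1, …, x_{n-1}). Then det(1 − B·T) = det(1 − A·Tⁿ), i.e.
the reverse characteristic polynomial of B is that of A expanded by n. -/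
theorem result (R : Type) [CommRing R] (m : Type) [Fintype m] [DecidableEq m]
    (A : Matrix m m R) (n : ℕ) (hn : 1 ≤ n) :
    (Matrix.of fun (p q : Fin n × m) =>
        if p.1.val = 0 then (if q.1.val = n - 1 then A p.2 q.2 else 0)
        else (if q.1.val + 1 = p.1.val ∧ p.2 = q.2 then 1 else 0)).charpolyRev =
      Polynomial.expand R n A.charpolyRev := by
  classical
  set M : Matrix (Fin n × m) (Fin n × m) R := Matrix.of fun (p q : Fin n × m) =>
          if p.1.val = 0 then (if q.1.val = n - 1 then A p.2 q.2 else 0)
          else (if q.1.val + 1 = p.1.val ∧ p.2 = q.2 then 1 else 0) with hM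
  let S : Matrix (Fin n × m) (Fin n × m) R[X] := Matrix.of fun p q => if q.1.val + 1 = p.1.val ∧ p.2 = q.2 then X else 0
  let W : Matrix (Fin n × m) m R[X] := Matrix.of fun p b => if p.2 = b then X ^ p.1.val else 0
  let U : Matrix (Fin n × m) m R[X] := Matrix.of fun p b => if p.1.val = 0 ∧ p.2 = b then 1 else 0
  let V : Matrix m (Fin n × m) R[X] := Matrix.of fun a q => if q.1.val = n - 1 then X * C (A a q.2) else 0
  have hLW : (1 - S) * W = U := by
    ext p b
    rw [Matrix.sub_mul, Matrix.one_mul, Matrix.sub_apply, Matrix.mul_apply]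
    rcases Nat.eq_zero_or_pos p.1.val with h0 | h0
    · rw [Finset.sum_eq_zero fun q _ => by simp [S, h0]]
      simp [W, U, h0]
    · rw [Finset.sum_eq_single (⟨p.1.val - 1, by omega⟩, p.2)]
      · have : p.1.val ≠ 0 := by omega
        simp only [S, W, U, Matrix.of_apply, this, false_and, if_false, and_true, Nat.sub_add_cancel h0, if_true]
        split_ifs with h
        · rw [← pow_succ', Nat.sub_add_cancel h0, sub_self]
        · simp
      · intro q _ hq
        simp only [S, Matrix.of_apply]
        rw [if_neg, zero_mul]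
        rintro ⟨h1, h2⟩
        exact hq (Prod.ext (Fin.ext (show q.1.val = p.1.val - 1 by omega)) h2.symm)
      · simp
  have hM' : (1 - (X : R[X]) • M.map C : Matrix (Fin n × m) (Fin n × m) R[X]) = (1 - S) * (1 - W * V) := by
    rw [Matrix.mul_sub, Matrix.mul_one, ← Matrix.mul_assoc, hLW, sub_sub]
    congr 1
    ext ⟨p, a⟩ ⟨q, c⟩
    simp only [Matrix.smul_apply, Matrix.map_apply, Matrix.add_apply, Matrix.mul_apply, hM, Matrix.of_apply, S, U, V, smul_eq_mul]
    by_cases hp : p.val = 0
    · rw [Finset.sum_eq_single a (fun b _ hb => by rw [if_neg (fun h => hb h.2.symm), zero_mul]) (by simp)]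
      simp only [hp, if_true, true_and, Nat.succ_ne_zero, false_and, if_false, one_mul, zero_add]
      split_ifs <;> simp
    · rw [Finset.sum_eq_zero (fun b _ => by rw [if_neg (fun h => hp h.1), zero_mul]), add_zero, if_neg hp]
      split_ifs <;> simp
  have hdetS : (1 - S).det = 1 := by
    have htri : (1 - S).BlockTriangular (fun p : Fin n × m => OrderDual.toDual p.1) := by
      intro p q h
      replace h : p.1 < q.1 := h
      have h1 : p ≠ q := fun e => h.ne (congrArg Prod.fst e)
      simp only [Matrix.sub_apply, Matrix.one_apply_ne h1, S, Matrix.of_apply]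
      rw [if_neg, sub_zero]
      rintro ⟨h2, -⟩
      have : p.1.val < q.1.val := h
      omega
    rw [htri.det_fintype]
    refine Finset.prod_eq_one fun k _ => ?_
    rw [show (1 - S).toSquareBlock (fun p : Fin n × m => OrderDual.toDual p.1) k = 1 from ?_, Matrix.det_one]
    ext ⟨p, hp⟩ ⟨q, hq⟩
    have hpq : p.1 = q.1 := OrderDual.toDual.injective (hp.trans hq.symm)
    simp only [Matrix.toSquareBlock_def, Matrix.of_apply, Matrix.sub_apply, S, hpq, Nat.succ_ne_self, false_and, if_false, sub_zero]
    simp [Matrix.one_apply]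
  have hVW : V * W = (X : R[X]) ^ n • A.map C := by
    ext a b
    rw [Matrix.mul_apply, Finset.sum_eq_single (⟨n - 1, by omega⟩, b)]
    · simp only [V, W, Matrix.of_apply, if_true, Matrix.smul_apply, Matrix.map_apply, smul_eq_mul]
      rw [mul_comm X (C (A a b)), mul_assoc, ← pow_succ', Nat.sub_add_cancel hn, mul_comm]
    · intro q _ hq
      simp only [V, W, Matrix.of_apply]
      split_ifs with h1 h2
      · exact absurd (Prod.ext (Fin.ext h1) h2) hq
      all_goals simp
    · simp
  rw [Matrix.charpolyRev, hM', Matrix.det_mul, hdetS, one_mul, Matrix.det_one_sub_mul_comm, hVW, Matrix.charpolyRev, AlgHom.map_det]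
  congr 1
  ext a b : 1
  by_cases h : a = b
  · subst h; simp
  · simp [Matrix.one_apply_ne h]

end Groth.Agent.S3133
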