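import Groth.Statements.S3208
import Mathlib
import Groth.Agent.S8116

set_option autoImplicit false
open SGA7

namespace Groth.Agent.S3208
theorem eq_one_of_three (E : Type) [CommRing E] [NoZeroSMulDivisors ℤ E] [Module.Finite ℤ E] (u : E) (m : ℕ) (hm : 0 < m)
    (hu : u ^ m = 1) (n : ℕ) (hn : 3 ≤ n) (hcong : ∃ v : E, 1 - u = (n : E) * v) : u = 1 := by
  obtain ⟨v, hv⟩ := hcong
  have hmem : u - 1 ∈ nilradical E := by
    rw [nilradical, ← Ideal.sInf_minimalPrimes, Ideal.mem_sInf]
    intro P hP
    haveI := Ideal.minimalPrimes_isPrime hP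
    have hz : ∀ z : ℤ, z ≠ 0 → algebraMap ℤ E z ∉ P := fun z hz hzP => by
      have hd := Ideal.disjoint_nonZeroDivisors_of_mem_minimalPrimes hP
      refine Set.disjoint_left.mp hd hzP (mem_nonZeroDivisors_iff_right.mpr fun y hy => ?_)
      have : z • y = 0 := by rw [Algebra.smul_def, mul_comm]; exact hy
      exact (smul_eq_zero.mp this).resolve_left hz
    let F := FractionRing (E ⧸ P)
    let φ : E →+* F := (algebraMap (E ⧸ P) F).comp (Ideal.Quotient.mk P)
    haveI : CharZero F := by
      refine charZero_of_inj_zero fun k hk => ?_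
      by_contra hk0
      apply hz (k:ℤ) (by exact_mod_cast hk0)
      rw [← Ideal.Quotient.eq_zero_iff_mem]
      apply IsFractionRing.injective (E ⧸ P) F
      simpa using hk
    obtain ⟨q, hq1, hq2⟩ := IsIntegral.of_finite ℤ (-v)
    have h1 := Groth.Agent.S8116.result F (φ u) (φ (-v)) m n hm (by rw [← map_pow, hu, map_one])
      ⟨q, hq1, by
        have h := Polynomial.hom_eval₂ q (algebraMap ℤ E) φ (-v)
        rw [hq2, map_zero] at h
        refine Eq.trans ?_ h.symm
        congr 1; exact Subsingleton.elim _ _⟩ hn (by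
      rw [show u = 1 + (n : E) * (-v) by linear_combination -hv]; simp only [map_add, map_mul, map_neg, map_one, map_natCast])
    rw [← Ideal.Quotient.eq_zero_iff_mem]
    apply IsFractionRing.injective (E ⧸ P) F
    simpa [φ] using sub_eq_zero.mpr h1
  obtain ⟨k, hk⟩ := hmem
  have hdesc : ∀ j, (u - 1) ^ (j + 1) = 0 → u - 1 = 0 := by
    intro j
    induction j with
    | zero => intro h; simpa using h
    | succ j ih =>
      intro h
      apply ih
      obtain ⟨t, ht⟩ : (u - 1) ∣ (∑ i ∈ Finset.range m, u ^ i) - (m : E) := by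
        have : (∑ i ∈ Finset.range m, u ^ i) - (m : E) = ∑ i ∈ Finset.range m, (u ^ i - 1) := by simp
        rw [this]
        exact Finset.dvd_sum fun i _ => sub_one_dvd_pow_sub_one u i
      have h0 : (u - 1) * ∑ i ∈ Finset.range m, u ^ i = 0 := by rw [mul_geom_sum, hu, sub_self]
      have h1 : ((m:ℕ):ℤ) • (u - 1) ^ (j + 1) = 0 := by
        rw [natCast_zsmul, nsmul_eq_mul]
        have : (m:E) = (∑ i ∈ Finset.range m, u ^ i) - (u - 1) * t := by rw [← ht]; ring
        calc (m:E) * (u-1)^(j+1) = (u-1)^j * ((u-1) * ∑ i ∈ Finset.range m, u ^ i) - (u-1)^(j+1+1) * t := by rw [this]; ring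
          _ = 0 := by rw [h0, h]; ring
      exact (smul_eq_zero.mp h1).resolve_left (by exact_mod_cast hm.ne')
  exact sub_eq_zero.mp (hdesc k (by rw [pow_succ, hk, zero_mul]))


/-- Let E be a commutative ring which is finitely generated and torsion-free as an additive group, u an
element of E of finite multiplicative order (u^m = 1 for some m > 0), and n ≥ 2 an integer with u ≡
1 modulo nE (i.e. 1 - u = n·v for some v ∈ E). Then u² = 1, and if n ≥ 3 then u = 1. -/
theorem result (E : Type) [CommRing E] [NoZeroSMulDivisors ℤ E] [Module.Finite ℤ E] (u : E) (m : ℕ) (hm : 0 < m)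
    (hu : u ^ m = 1) (n : ℕ) (hn : 2 ≤ n) (hcong : ∃ v : E, 1 - u = (n : E) * v) :
    u ^ 2 = 1 ∧ (3 ≤ n → u = 1) := by
  refine ⟨?_, fun h3 => eq_one_of_three E u m hm hu n h3 hcong⟩
  rcases eq_or_lt_of_le hn with h | h
  · obtain ⟨v, hv⟩ := hcong
    subst h
    refine eq_one_of_three E (u ^ 2) m hm (by rw [← pow_mul, mul_comm, pow_mul, hu, one_pow]) 4 (by norm_num) ⟨v - v ^ 2, ?_⟩
    have : u = 1 - 2 * v := by push_cast at hv; linear_combination -hv
    subst this
    push_cast; ring
  · rw [eq_one_of_three E u m hm hu n h hcong, one_pow]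

end Groth.Agent.S3208
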