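import Groth.Statements.S3212
import Mathlib
import Groth.Agent.Lib.H6.ArtSchreier

set_option autoImplicit false
set_option backward.isDefEq.respectTransparency.types false
set_option maxHeartbeats 1000000
set_option linter.all false
universe u v
open SGA7II

namespace Groth.Agent.S3212
open Groth.Agent

/-- Let k be a separably closed field of characteristic p > 0, q = p^r (r >= 1), V a finite-dimensional
k-vector space and phi : V -> V an additive map with phi(c v) = c^q phi(v) (a q-linear
endomorphism). If phi is semisimple, i.e. its image spans V over k, then V has a k-basis consisting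
of fixed vectors of phi, and the coordinates of every fixed vector in such a basis satisfy c^q = c
(so V is obtained from the F_q-space of fixed vectors by extension of scalars). -/
theorem result (k : Type u) [Field k] [IsSepClosed k] (p : ℕ)
    [Fact p.Prime] [CharP k p] (r : ℕ) (hr : 0 < r) (V : Type v) [AddCommGroup V] [Module k V]
    [FiniteDimensional k V] (φ : V →+ V) (hφ : ∀ (c : k) (v : V), φ (c • v) = c ^ (p ^ r) • φ v)
    (hss : Submodule.span k (Set.range φ) = ⊤) :
    ∃ b : Module.Basis (Fin (Module.finrank k V)) k V, (∀ i, φ (b i) = b i) ∧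
      ∀ v : V, φ v = v → ∀ i, (b.repr v i) ^ (p ^ r) = b.repr v i := by
  classical
  set q := p ^ r with hqdef
  have hq : 1 < q := Nat.one_lt_pow hr.ne' (Fact.out : p.Prime).one_lt
  have hq0 : (q : k) = 0 := by rw [hqdef, Nat.cast_pow, CharP.cast_eq_zero, zero_pow hr.ne']
  haveI : ExpChar k p := ExpChar.prime Fact.out
  let σ : k →+* k := iterateFrobenius k p r
  have hσ : ∀ x, σ x = x ^ q := fun x => iterateFrobenius_def p r x
  let T : V →ₛₗ[σ] V := { φ with map_smul' := fun c v => by rw [hσ]; exact hφ c v }
  obtain ⟨⟨b, hb⟩, -⟩ := H6SigLin.main k σ V T hss (H6AS.h2 k σ q hq hq0 hσ) (H6AS.h3 k σ q hq hq0 hσ)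
  refine ⟨b, hb, fun v hv i => ?_⟩
  have h1 : φ v = ∑ j, (b.repr v j) ^ q • b j := by
    conv_lhs => rw [← b.sum_repr v, map_sum]
    exact Finset.sum_congr rfl fun j _ => by rw [hφ]; exact congrArg _ (hb j)
  rw [hv] at h1
  have := congrArg (fun w => b.repr w i) h1
  simp only [b.repr_sum_self] at this
  exact this.symm

end Groth.Agent.S3212
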