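import Groth.Statements.S3213
import Mathlib
import Groth.Agent.Lib.H6.ArtSchreier

set_option autoImplicit false
set_option backward.isDefEq.respectTransparency.types false
set_option maxHeartbeats 1000000
set_option linter.all false
universe u v
open SGA7II

namespace Groth.Agent.S3213
open Groth.Agent

/-- Let k be a separably closed field of characteristic p > 0, q = p^r (r >= 1), V a finite-dimensional
k-vector space and phi : V -> V additive with phi(c v) = c^q phi(v). Then the additive map v |-> v -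
phi(v) is surjective. -/
theorem result (k : Type u) [Field k] [IsSepClosed k] (p : ℕ) [Fact p.Prime] [CharP k p]
    (r : ℕ) (hr : 0 < r) (V : Type v) [AddCommGroup V] [Module k V] [FiniteDimensional k V] (φ : V →+ V)
    (hφ : ∀ (c : k) (v : V), φ (c • v) = c ^ (p ^ r) • φ v) :
    Function.Surjective (fun v : V => v - φ v) := by
  classical
  set q := p ^ r with hqdef
  have hq : 1 < q := Nat.one_lt_pow hr.ne' (Fact.out : p.Prime).one_lt
  have hq0 : (q : k) = 0 := by rw [hqdef, Nat.cast_pow, CharP.cast_eq_zero, zero_pow hr.ne']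
  haveI : ExpChar k p := ExpChar.prime Fact.out
  let σ : k →+* k := iterateFrobenius k p r
  have hσ : ∀ x, σ x = x ^ q := fun x => iterateFrobenius_def p r x
  let T : V →ₛₗ[σ] V := { φ with map_smul' := fun c v => by rw [hσ]; exact hφ c v }
  let Un : ℕ →o (Submodule k V)ᵒᵈ :=
    ⟨fun n => OrderDual.toDual (Submodule.span k (Set.range ((⇑T)^[n]))), fun m n h => by
      show Submodule.span k (Set.range ((⇑T)^[n])) ≤ Submodule.span k (Set.range ((⇑T)^[m]))
      refine Submodule.span_mono ?_
      rintro _ ⟨w, rfl⟩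
      obtain ⟨d, rfl⟩ := Nat.exists_eq_add_of_le h
      exact ⟨(⇑T)^[d] w, (Function.iterate_add_apply _ _ _ _).symm⟩⟩
  obtain ⟨N, hN⟩ := IsArtinian.monotone_stabilizes Un
  set U := Submodule.span k (Set.range ((⇑T)^[N]))
  have hU1 : U = Submodule.span k (Set.range ((⇑T)^[N + 1])) := congrArg OrderDual.ofDual (hN (N + 1) (Nat.le_succ N))
  have hmaps : ∀ x ∈ U, T x ∈ U := by
    intro x hx
    induction hx using Submodule.span_induction with
    | mem x hx => obtain ⟨w, rfl⟩ := hx; exact Submodule.subset_span ⟨T w, by rw [← Function.iterate_succ_apply, Function.iterate_succ_apply']⟩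
    | zero => rw [map_zero]; exact zero_mem _
    | add a b _ _ ha hb => rw [map_add]; exact add_mem ha hb
    | smul c a _ ha => rw [LinearMap.map_smulₛₗ]; exact U.smul_mem _ ha
  let TU : U →ₛₗ[σ] U := { toFun := fun x => ⟨T x, hmaps _ x.2⟩, map_add' := fun x y => Subtype.ext (map_add T _ _), map_smul' := fun c x => Subtype.ext (LinearMap.map_smulₛₗ T c _) }
  have h1 : Submodule.span k (Set.range ⇑TU) = ⊤ := by
    apply Submodule.map_injective_of_injective U.injective_subtype
    rw [Submodule.map_span, Submodule.map_top, Submodule.range_subtype]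
    refine le_antisymm (Submodule.span_le.2 ?_) ?_
    · rintro _ ⟨_, ⟨y, rfl⟩, rfl⟩
      exact (TU y).2
    · refine hU1.le.trans ?_
      refine Submodule.span_le.2 ?_
      rintro _ ⟨w, rfl⟩
      rw [Function.iterate_succ_apply']
      exact Submodule.subset_span ⟨TU ⟨(⇑T)^[N] w, Submodule.subset_span ⟨w, rfl⟩⟩, ⟨_, rfl⟩, rfl⟩
  obtain ⟨-, hs⟩ := H6SigLin.main k σ U TU h1 (H6AS.h2 k σ q hq hq0 hσ) (H6AS.h3 k σ q hq hq0 hσ)
  intro v
  obtain ⟨x, hx⟩ := hs ⟨(⇑T)^[N] v, Submodule.subset_span ⟨v, rfl⟩⟩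
  refine ⟨(∑ i ∈ Finset.range N, (⇑T)^[i] v) + x, ?_⟩
  show ((∑ i ∈ Finset.range N, (⇑T)^[i] v) + (x : V)) - T ((∑ i ∈ Finset.range N, (⇑T)^[i] v) + (x : V)) = v
  have hx' : (x : V) - T x = (⇑T)^[N] v := congrArg Subtype.val hx
  rw [map_add, add_sub_add_comm, map_sum, ← Finset.sum_sub_distrib, hx']
  simp only [← Function.iterate_succ_apply' (⇑T)]
  rw [Finset.sum_range_sub' (fun i => (⇑T)^[i] v)]
  simp

end Groth.Agent.S3213
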