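import Groth.Statements.S3214
import Mathlib

set_option autoImplicit false
open Polynomial
universe u
open SGA7II

namespace Groth.Agent.S3214

/-- In the recursive form established in its proof: let A = Z[X_1, ..., X_a] (a >= 1), P = prod_i (T -
X_i) in A[T] and S_i the i-th elementary symmetric function. Writing a_j for the coefficient of
T^{a-1} in the remainder of T^{a-1+j} modulo P, one has a_0 = 1 and sum_{i=0}^{a} (-1)^i S_i a_{j-i}
= 0 for every j > 0 (with a_m = 0 for m < 0); equivalently sum_j (-1)^j a_j is the inverse of sum_i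
S_i. (The source works in formal power series; the identity involves only polynomials.) -/
theorem result (a : ℕ) (ha : 0 < a) :
    let P : (MvPolynomial (Fin a) ℤ)[X] := ∏ i : Fin a, (X - C (MvPolynomial.X i))
    let coef : ℤ → MvPolynomial (Fin a) ℤ := fun j =>
      if j < 0 then 0 else ((X : (MvPolynomial (Fin a) ℤ)[X]) ^ (a - 1 + j.toNat) %ₘ P).coeff (a - 1)
    coef 0 = 1 ∧ ∀ j : ℕ, 0 < j →
      (∑ i ∈ Finset.range (a + 1), (-1 : MvPolynomial (Fin a) ℤ) ^ i * MvPolynomial.esymm (Fin a) ℤ i *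
        coef ((j : ℤ) - i)) = 0 := by
  intro P coef
  have hcard : (Finset.univ.val.map fun i : Fin a => (MvPolynomial.X i : MvPolynomial (Fin a) ℤ)).card = a := by simp
  have hP : P = ∑ i ∈ Finset.range (a + 1),
      C ((-1 : MvPolynomial (Fin a) ℤ) ^ i * MvPolynomial.esymm (Fin a) ℤ i) * X ^ (a - i) := by
    have h := Multiset.prod_X_sub_X_eq_sum_esymm
      (Finset.univ.val.map fun i : Fin a => (MvPolynomial.X i : MvPolynomial (Fin a) ℤ))
    rw [hcard, Multiset.map_map] at h
    refine h.trans (Finset.sum_congr rfl fun i _ => ?_)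
    rw [MvPolynomial.esymm_eq_multiset_esymm, map_mul, map_pow, map_neg, map_one, mul_assoc]
  have hmon : P.Monic := monic_prod_of_monic _ _ fun i _ => monic_X_sub_C _
  have hdeg : P.degree = (a : WithBot ℕ) := by
    simp [P, degree_prod, degree_X_sub_C]
  have hsmall : ∀ n, n < a → (X : (MvPolynomial (Fin a) ℤ)[X]) ^ n %ₘ P = X ^ n := fun n hn => by
    rw [modByMonic_eq_self_iff hmon, hdeg, degree_X_pow]
    exact_mod_cast hn
  have hc0 : coef 0 = 1 := by
    simp [coef, hsmall (a - 1) (by omega), coeff_X_pow]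
  refine ⟨hc0, fun j hj => ?_⟩
  have hc : ∀ i ∈ Finset.range (a + 1), coef ((j : ℤ) - i) =
      ((X : (MvPolynomial (Fin a) ℤ)[X]) ^ (j - 1 + (a - i)) %ₘ P).coeff (a - 1) := by
    intro i hi
    rw [Finset.mem_range] at hi
    by_cases h : j < i
    · rw [show coef ((j : ℤ) - i) = 0 from if_pos (by omega), hsmall _ (by omega), coeff_X_pow,
        if_neg (by omega)]
    · rw [show coef ((j : ℤ) - i) = _ from if_neg (by omega)]
      rw [show a - 1 + ((j : ℤ) - i).toNat = j - 1 + (a - i) by omega]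
  have h0 : ((X : (MvPolynomial (Fin a) ℤ)[X]) ^ (j - 1) * P) %ₘ P = 0 :=
    (modByMonic_eq_zero_iff_dvd hmon).2 (Dvd.intro_left _ rfl)
  have h1 := congrArg (fun q => coeff q (a - 1)) h0
  have hlin : ∀ q : (MvPolynomial (Fin a) ℤ)[X], q %ₘ P = Polynomial.modByMonicHom P q := fun q => rfl
  conv at h1 => enter [1]; rw [hlin]; enter [1, 2, 2]; rw [hP]
  rw [Finset.mul_sum, map_sum, finsetSum_coeff] at h1
  simp only [coeff_zero] at h1
  refine (Finset.sum_congr rfl fun i hi => ?_).trans h1
  rw [hc i hi, mul_left_comm, ← smul_eq_C_mul, map_smul, coeff_smul, smul_eq_mul, ← pow_add, ← hlin]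

end Groth.Agent.S3214
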