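import Groth.Statements.S3248
import Groth.Agent.Lib.BrauerEquiv

set_option autoImplicit false
set_option backward.isDefEq.respectTransparency.types false
set_option maxHeartbeats 1000000
set_option linter.all false
universe u
open TensorProduct
open Dix

namespace Groth.Agent.S3248
open Groth.Agent

/-- Stated for a commutative subalgebra: let A be a central simple algebra of dimension r² over a field
k and L a commutative k-algebra embedded in A by an injective k-algebra homomorphism ι, such that A
is free of rank r for the right L-module structure a · l = a ι(l) (given here as a module structure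
together with that compatibility). Then L ⊗_k A is isomorphic as an L-algebra to the matrix algebra
M_r(L). (Only the existence of an isomorphism is stated; the text names the map a ⊗ l ↦ (y ↦ a y
l).) -/
theorem result (k : Type u) [Field k] (A : Type u) [Ring A] [Algebra k A] [Algebra.IsCentral k A] [IsSimpleRing A] [FiniteDimensional k A] (L : Type u) [CommRing L] [Algebra k L] (ι : L →ₐ[k] A) (hι : Function.Injective ι) [Module L A] (hmod : ∀ (l : L) (a : A), l • a = a * ι l) [Module.Free L A] (r : ℕ) (hr : 0 < r) (hA : Module.finrank k A = r ^ 2) (hrank : Module.finrank L A = r) : Nonempty ((L ⊗[k] A) ≃ₐ[L] Matrix (Fin r) (Fin r) L) := by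
    haveI : IsScalarTower k L A := ⟨fun c l a => by rw [hmod, hmod, map_smul, mul_smul_comm]⟩
    haveI : SMulCommClass L L A := ⟨fun l l' a => by rw [← mul_smul, ← mul_smul, mul_comm]⟩
    haveI : FiniteDimensional k L := FiniteDimensional.of_injective ι.toLinearMap hι
    haveI : Nontrivial L := ι.toRingHom.domain_nontrivial
    haveI : Module.Finite L A := Module.Finite.of_restrictScalars_finite k L A
    let g : A →ₐ[k] Module.End L A :=
      AlgHom.ofLinearMap
        { toFun := fun a => { toFun := fun x => a * x
                              map_add' := fun x y => mul_add a x y
                              map_smul' := fun l x => by simp only [hmod, RingHom.id_apply, mul_assoc] }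
          map_add' := fun a b => LinearMap.ext fun x => add_mul a b x
          map_smul' := fun c a => LinearMap.ext fun x => smul_mul_assoc c a x }
        (LinearMap.ext fun x => one_mul x)
        (fun a b => LinearMap.ext fun x => mul_assoc a b x)
    let F : (L ⊗[k] A) →ₐ[L] Module.End L A :=
      Algebra.TensorProduct.lift (Algebra.ofId L (Module.End L A)) g
        (fun l a => Algebra.commute_algebraMap_left l (g a))
    let h : (L ⊗[k] A) →ₗ[k] A ⊗[k] Aᵐᵒᵖ :=
      (((MulOpposite.opLinearEquiv k).toLinearMap.comp ι.toLinearMap).lTensor A).comp
        (TensorProduct.comm k L A).toLinearMap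
    have hh : Function.Injective h := by
      have e := Module.Flat.lTensor_preserves_injective_linearMap (M := A)
        ((MulOpposite.opLinearEquiv k).toLinearMap.comp ι.toLinearMap)
        ((MulOpposite.opLinearEquiv k).injective.comp hι)
      exact e.comp (TensorProduct.comm k L A).injective
    have hF : ∀ z x, F z x = AlgHom.mulLeftRight k A (h z) x := by
      intro z x
      induction z using TensorProduct.induction_on with
      | zero => simp
      | tmul l a =>
        simp only [F, h, Algebra.TensorProduct.lift_tmul, LinearMap.comp_apply, LinearEquiv.coe_coe,
          TensorProduct.comm_tmul, LinearMap.lTensor_tmul, AlgHom.mulLeftRight_apply]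
        show l • (a * x) = a * x * ι l
        rw [hmod]
      | add u v hu hv => simp [map_add, LinearMap.add_apply, hu, hv]
    have hinj : Function.Injective F := by
      intro z w hzw
      apply hh
      apply BrauerLib.mulLeftRight_bijective.injective
      ext x
      rw [← hF, ← hF, hzw]
    let b := Module.finBasisOfFinrankEq L A hrank
    let G : (L ⊗[k] A) →ₐ[L] Matrix (Fin r) (Fin r) L := (LinearMap.toMatrixAlgEquiv b).toAlgHom.comp F
    have hG : Function.Injective G := (LinearMap.toMatrixAlgEquiv b).injective.comp hinj
    refine ⟨AlgEquiv.ofBijective G ⟨hG, ?_⟩⟩
    have hfr : Module.finrank k (L ⊗[k] A) = Module.finrank k (Matrix (Fin r) (Fin r) L) := by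
      rw [Module.finrank_tensorProduct, Module.finrank_matrix, hA, Fintype.card_fin]
      ring
    exact (LinearMap.injective_iff_surjective_of_finrank_eq_finrank hfr (f := G.toLinearMap.restrictScalars k)).1 hG

end Groth.Agent.S3248
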