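import Groth.Statements.S3252
import Mathlib

set_option autoImplicit false
universe u
open Zeta

namespace Groth.Agent.S3252

/-- Let V and W be finite-dimensional vector spaces over a field L, B : V × W -> L a perfect pairing, F
an endomorphism of V and G an endomorphism of W with B(F v, G w) = c · B(v, w) for all v, w, where c
is a scalar (in the application, V = H^i, W = H^{2d-i}, F and G Frobenius, c = q^d). Then det F ·
det G = c ^ dim V. -/
theorem result (L : Type u) [Field L] (V W : Type u)
    [AddCommGroup V] [Module L V] [FiniteDimensional L V] [AddCommGroup W] [Module L W] [FiniteDimensional L W]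
    (B : V →ₗ[L] W →ₗ[L] L) [B.IsPerfPair] (F : V →ₗ[L] V) (G : W →ₗ[L] W) (c : L)
    (hFG : ∀ (v : V) (w : W), B (F v) (G w) = c * B v w) :
    LinearMap.det F * LinearMap.det G = c ^ Module.finrank L V := by
  let e : V ≃ₗ[L] Module.Dual L W := LinearEquiv.ofBijective B (LinearMap.IsPerfPair.bijective_left B)
  have h : (G.dualMap).comp (e.toLinearMap.comp F) = c • e.toLinearMap := by
    refine LinearMap.ext fun v => LinearMap.ext fun w => ?_
    exact hFG v w
  have h2 : (e.symm.toLinearMap.comp (G.dualMap.comp e.toLinearMap)).comp F = c • LinearMap.id := by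
    rw [LinearMap.comp_assoc, LinearMap.comp_assoc, h]
    refine LinearMap.ext fun v => ?_
    simp
  have h3 := congrArg LinearMap.det h2
  rw [LinearMap.det_comp, LinearMap.det_smul, LinearMap.det_id, mul_one] at h3
  have h4 : LinearMap.det (e.symm.toLinearMap.comp (G.dualMap.comp e.toLinearMap)) = LinearMap.det G.dualMap := by
    rw [← LinearMap.det_conj G.dualMap e.symm]
    rfl
  rw [h4, LinearMap.det_dualMap] at h3
  rw [mul_comm]
  exact h3

end Groth.Agent.S3252
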