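import Groth.Statements.S3292
import Mathlib
import Groth.Agent.Lib.H7AdamsFil

set_option autoImplicit false
universe u
open Finset
open LambdaRing

namespace Groth.Agent.S3292

open Groth.Agent


/-- In a λ-ring with positive structure having the splitting property, for j ≥ 1 and x in F^n K one has
ψ^j(x) − j^n x ∈ F^(n+1) K. -/
theorem result (K : Type u) [CommRing K] [LambdaRing.LambdaOps K] (P : LambdaRing.PosStructure K) (hK : LambdaRing.HasSplitting K P)
    (j : ℕ) (hj : 1 ≤ j) (n : ℕ) (x : K) (hx : x ∈ LambdaRing.gammaFiltration P n) :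
    LambdaRing.adams P j x - (j : K) ^ n * x ∈ LambdaRing.gammaFiltration P (n + 1) := by
  exact H7AdamsFil.adams_fil hK j n x hx

end Groth.Agent.S3292
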