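import Groth.Statements.S3296
import Mathlib
import Groth.Agent.Lib.H7AdamsEigen

set_option autoImplicit false
universe u
open Finset
open TensorProduct
open LambdaRing

namespace Groth.Agent.S3296

open Groth.Agent


/-- Let K be a λ-ring with positive structure having the splitting property, whose γ-filtration
satisfies F^(d+1) K = 0. For j ≥ 2 let Ψ_j be the ℚ-linear endomorphism of ℚ ⊗ K induced by ψ^j.
Then ℚ ⊗ K is the sum of the eigenspaces of Ψ_j for the eigenvalues j^m, 0 ≤ m ≤ d, and the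
eigenspace for j^m does not depend on j. -/
theorem result (K : Type u) [CommRing K] [LambdaRing.LambdaOps K] (P : LambdaRing.PosStructure K) (hK : LambdaRing.HasSplitting K P) (d : ℕ)
    (hd : LambdaRing.gammaFiltration P (d + 1) = ⊥)
    (j l : ℕ) (hj : 2 ≤ j) (hl : 2 ≤ l)
    (Ψj Ψl : ℚ ⊗[ℤ] K →ₗ[ℚ] ℚ ⊗[ℤ] K)
    (hΨj : ∀ x : K, Ψj (1 ⊗ₜ[ℤ] x) = 1 ⊗ₜ[ℤ] LambdaRing.adams P j x)
    (hΨl : ∀ x : K, Ψl (1 ⊗ₜ[ℤ] x) = 1 ⊗ₜ[ℤ] LambdaRing.adams P l x) :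
    (⨆ m ∈ range (d + 1), Module.End.eigenspace Ψj ((j : ℚ) ^ m)) = ⊤ ∧
    ∀ m : ℕ, Module.End.eigenspace Ψj ((j : ℚ) ^ m) = Module.End.eigenspace Ψl ((l : ℚ) ^ m) := by
  have hqj : (1 : ℚ) < (j : ℚ) := by exact_mod_cast (show 1 < j by omega)
  have hql : (1 : ℚ) < (l : ℚ) := by exact_mod_cast (show 1 < l by omega)
  have hj' := H7AdamsEigen.QF_step P hK j Ψj hΨj
  have hl' := H7AdamsEigen.QF_step P hK l Ψl hΨl
  have hA := H7AdamsEigen.QF_anti P
  have hB := H7AdamsEigen.QF_bot P hd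
  have h0 := H7AdamsEigen.QF_zero P
  refine ⟨eq_top_iff.2 ?_, fun m => le_antisymm ?_ ?_⟩
  · rw [← h0]
    refine (H7AdamsEigen.decomp hA hB hqj hj' (d + 1) 0 (by omega)).trans (iSup₂_le fun m hm => ?_)
    exact inf_le_left.trans (le_iSup₂_of_le m (Finset.mem_range.2 (Finset.mem_Ico.1 hm).2) le_rfl)
  · exact H7AdamsEigen.eigen_le_other hA hB hqj hj' h0 (H7AdamsEigen.comm P hK hΨj hΨl) hl' m
  · exact H7AdamsEigen.eigen_le_other hA hB hql hl' h0 (H7AdamsEigen.comm P hK hΨl hΨj) hj' m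

end Groth.Agent.S3296
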