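import Groth.Statements.S3350
import Groth.Agent.Lib.NumTypeBasic

set_option autoImplicit false
open Finset
open Models Models.NumericalType

namespace Groth.Agent.S3350

/-- Classification of proper subgraphs with two vertices: Let T be a numerical type on n > 2 indices and
i ≠ j two (-2)-indices (g = 0 and a_ii = -2 w_i, a_jj = -2 w_j) with a_ij > 0. Then, after possibly
exchanging i and j, one of the following holds with w = w_i: (A2) w_j = w, a_ij = w, 2 m_i ≥ m_j and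
2 m_j ≥ m_i; (B2) w_j = 2w, a_ij = 2w, m_i ≥ m_j and 2 m_j ≥ m_i; (G2) w_j = 3w, a_ij = 3w, 2 m_i ≥
3 m_j and 2 m_j ≥ m_i. -/
theorem result {n : ℕ} (T : Models.NumericalType n) (hn : 2 < n) (i j : Fin n)
    (hij : i ≠ j) (hi : T.IsMinusTwo i) (hj : T.IsMinusTwo j) (hpos : 0 < T.a i j) :
    ∃ i' j' : Fin n, ((i' = i ∧ j' = j) ∨ (i' = j ∧ j' = i)) ∧
      ((T.w j' = T.w i' ∧ T.a i' j' = T.w i' ∧ T.m j' ≤ 2 * T.m i' ∧ T.m i' ≤ 2 * T.m j') ∨
        (T.w j' = 2 * T.w i' ∧ T.a i' j' = 2 * T.w i' ∧ T.m j' ≤ T.m i' ∧ T.m i' ≤ 2 * T.m j') ∨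
        (T.w j' = 3 * T.w i' ∧ T.a i' j' = 3 * T.w i' ∧ 3 * T.m j' ≤ 2 * T.m i' ∧ T.m i' ≤ 2 * T.m j')) := by
  have hd : T.a i i = -2 * T.w i := hi.2
  have hd' : T.a j j = -2 * T.w j := hj.2
  have hlt := NumTypeLib.pair_lt T hn hi hj hpos
  have hmp := NumTypeLib.mu_pos T hpos
  obtain ⟨c1, c2, c3⟩ := NumTypeLib.mu_cases T hpos
  have r1 := NumTypeLib.row_two T hi {j} (by simp [hij])
  have r2 := NumTypeLib.row_two T hj {i} (by simp [hij.symm])
  rw [sum_singleton] at r1 r2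
  rw [NumTypeLib.a_symm T j i] at r2
  have hwi := T.w_pos i; have hwj := T.w_pos j
  have s := NumTypeLib.a_symm T j i
  rcases (show NumTypeLib.mu T i j = 1 ∨ NumTypeLib.mu T i j = 2 ∨ NumTypeLib.mu T i j = 3 by omega) with h | h | h
  · obtain ⟨e1, e2⟩ := c1 h
    rw [e1] at r1 r2
    refine ⟨i, j, Or.inl ⟨rfl, rfl⟩, Or.inl ⟨by linarith, e1, ?_, ?_⟩⟩
    · exact le_of_mul_le_mul_left (by linarith) hwi
    · exact le_of_mul_le_mul_left (by rw [show T.w j = T.w i by linarith] at r2; linarith) hwi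
  · rcases c2 h with ⟨e1, e2⟩ | ⟨e1, e2⟩
    · rw [e1, e2] at r1 r2
      refine ⟨i, j, Or.inl ⟨rfl, rfl⟩, Or.inr (Or.inl ⟨e2, by linarith, ?_, ?_⟩)⟩
      · exact le_of_mul_le_mul_left (by linarith) hwi
      · exact le_of_mul_le_mul_left (by linarith) hwi
    · rw [e1, e2] at r1 r2
      refine ⟨j, i, Or.inr ⟨rfl, rfl⟩, Or.inr (Or.inl ⟨e2, by linarith, ?_, ?_⟩)⟩
      · exact le_of_mul_le_mul_left (by linarith) hwj
      · exact le_of_mul_le_mul_left (by linarith) hwj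
  · rcases c3 h with ⟨e1, e2⟩ | ⟨e1, e2⟩
    · rw [e1, e2] at r1 r2
      refine ⟨i, j, Or.inl ⟨rfl, rfl⟩, Or.inr (Or.inr ⟨e2, by linarith, ?_, ?_⟩)⟩
      · exact le_of_mul_le_mul_left (by linarith) hwi
      · exact le_of_mul_le_mul_left (by linarith) hwi
    · rw [e1, e2] at r1 r2
      refine ⟨j, i, Or.inr ⟨rfl, rfl⟩, Or.inr (Or.inr ⟨e2, by linarith, ?_, ?_⟩)⟩
      · exact le_of_mul_le_mul_left (by linarith) hwj
      · exact le_of_mul_le_mul_left (by linarith) hwj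

end Groth.Agent.S3350
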