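import Groth.Statements.S3352
import Groth.Agent.Lib.PosDefLattice

set_option autoImplicit false
open Models

namespace Groth.Agent.S3352

/-- Let L₀, L₁ be finite free ℤ-modules with positive definite symmetric integral bilinear forms, the
form on L₀ unimodular (x ↦ ⟨x, −⟩ is a bijection L₀ → Hom(L₀, ℤ)), and let d : L₀ → L₁ and d* : L₁ →
L₀ be adjoint. Identify Im(d)^# (the dual lattice of Im(d)) with Hom(Im(d), ℤ) through the form on
L₁. Then there is an isomorphism Φ from the torsion subgroup of Coker(d* d) onto Im(d)^#/Im(d),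
determined by: for x ∈ L₀ whose class is torsion, Φ[x] is the class of the functional d(y') ↦ ⟨x,
y'⟩ (equivalently the class of (1/a)·d(y) when a·x = d* d(y)). -/
theorem result {L₀ L₁ : Type} [AddCommGroup L₀] [AddCommGroup L₁]
    [Module.Finite ℤ L₀] [Module.Free ℤ L₀] [Module.Finite ℤ L₁] [Module.Free ℤ L₁]
    (B₀ : LinearMap.BilinForm ℤ L₀) (B₁ : LinearMap.BilinForm ℤ L₁) (h₀s : B₀.IsSymm) (h₁s : B₁.IsSymm)
    (h₀p : ∀ x, x ≠ 0 → 0 < B₀ x x) (h₁p : ∀ x, x ≠ 0 → 0 < B₁ x x) (huni : Function.Bijective B₀)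
    (d : L₀ →ₗ[ℤ] L₁) (ds : L₁ →ₗ[ℤ] L₀) (hadj : ∀ x y, B₁ (d x) y = B₀ x (ds y)) :
    ∃ Φ : ↥(Submodule.torsion ℤ (L₀ ⧸ LinearMap.range (ds ∘ₗ d))) ≃ₗ[ℤ]
        (Module.Dual ℤ ↥(LinearMap.range d) ⧸
          LinearMap.range ((B₁.compl₂ (LinearMap.range d).subtype) ∘ₗ (LinearMap.range d).subtype)),
      ∀ (x : L₀) (hx : Submodule.Quotient.mk x ∈ Submodule.torsion ℤ (L₀ ⧸ LinearMap.range (ds ∘ₗ d)))
        (ψ : Module.Dual ℤ ↥(LinearMap.range d)),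
        (∀ y' : L₀, ψ ⟨d y', LinearMap.mem_range_self d y'⟩ = B₀ x y') →
          Φ ⟨Submodule.Quotient.mk x, hx⟩ = Submodule.Quotient.mk ψ := by
  let e : L₀ ≃ₗ[ℤ] Module.Dual ℤ L₀ := LinearEquiv.ofBijective B₀ huni
  let R := LinearMap.range d
  let Ψ₀ : Module.Dual ℤ R →ₗ[ℤ] L₀ := e.symm.toLinearMap ∘ₗ d.rangeRestrict.dualMap
  have hΨ : ∀ (ψ : Module.Dual ℤ R) (y : L₀), B₀ (Ψ₀ ψ) y = ψ ⟨d y, LinearMap.mem_range_self d y⟩ := fun ψ y => by
    show (e (e.symm (d.rangeRestrict.dualMap ψ))) y = _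
    rw [LinearEquiv.apply_symm_apply]
    rfl
  have hext : ∀ x x' : L₀, (∀ y, B₀ x y = B₀ x' y) → x = x' := fun x x' h => huni.1 (LinearMap.ext h)
  let K := LinearMap.range (ds ∘ₗ d)
  let N := LinearMap.range ((B₁.compl₂ R.subtype) ∘ₗ R.subtype)
  have hN : ∀ (r : R) (y : R), ((B₁.compl₂ R.subtype) ∘ₗ R.subtype) r y = B₁ r y := fun _ _ => rfl
  have hΨN : N ≤ LinearMap.ker (K.mkQ ∘ₗ Ψ₀) := by
    rintro _ ⟨⟨_, ⟨z, rfl⟩⟩, rfl⟩
    rw [LinearMap.mem_ker, LinearMap.comp_apply, Submodule.mkQ_apply, Submodule.Quotient.mk_eq_zero]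
    refine ⟨z, hext _ _ fun y => ?_⟩
    rw [hΨ, hN, LinearMap.comp_apply, h₀s.eq (ds (d z)) y, ← hadj, h₁s.eq]
  have htor : ∀ ψ, (Submodule.Quotient.mk (Ψ₀ ψ) : L₀ ⧸ K) ∈ Submodule.torsion ℤ (L₀ ⧸ K) := fun ψ => by
    obtain ⟨c, hc, ⟨_, ⟨z, rfl⟩⟩, ha⟩ := PosDefLattice.exists_smul_rep h₁p R ψ
    rw [Submodule.mem_torsion_iff]
    refine ⟨⟨c, mem_nonZeroDivisors_of_ne_zero hc⟩, ?_⟩
    rw [Submonoid.mk_smul, ← Submodule.Quotient.mk_smul, Submodule.Quotient.mk_eq_zero]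
    refine ⟨z, hext _ _ fun y => ?_⟩
    rw [map_smul, LinearMap.smul_apply, smul_eq_mul, hΨ, ha, LinearMap.comp_apply, h₀s.eq (ds (d z)) y, ← hadj, h₁s.eq]
  let Ψ : (Module.Dual ℤ R ⧸ N) →ₗ[ℤ] ↥(Submodule.torsion ℤ (L₀ ⧸ K)) :=
    LinearMap.codRestrict _ (N.liftQ (K.mkQ ∘ₗ Ψ₀) hΨN) fun q => by
      obtain ⟨ψ, rfl⟩ := N.mkQ_surjective q
      exact htor ψ
  have hΨmk : ∀ ψ, (Ψ (Submodule.Quotient.mk ψ) : L₀ ⧸ K) = Submodule.Quotient.mk (Ψ₀ ψ) := fun ψ => rfl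
  have hinj : Function.Injective Ψ := by
    rw [injective_iff_map_eq_zero]
    intro q hq
    obtain ⟨ψ, rfl⟩ := N.mkQ_surjective q
    have h1 : (Submodule.Quotient.mk (Ψ₀ ψ) : L₀ ⧸ K) = 0 := by
      rw [← hΨmk, ← Submodule.mkQ_apply, hq]; rfl
    rw [Submodule.Quotient.mk_eq_zero] at h1
    obtain ⟨z, hz⟩ := h1
    rw [Submodule.mkQ_apply, Submodule.Quotient.mk_eq_zero]
    refine ⟨⟨d z, LinearMap.mem_range_self d z⟩, LinearMap.ext fun r => ?_⟩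
    obtain ⟨_, y, rfl⟩ := r
    rw [hN, ← hΨ, ← hz, LinearMap.comp_apply, h₀s.eq (ds (d z)) y, ← hadj, h₁s.eq]
  -- a torsion class is orthogonal to the kernel of `d`, hence comes from a functional on the image
  have hsurj : Function.Surjective Ψ := by
    rintro ⟨q, hq⟩
    obtain ⟨x, rfl⟩ := K.mkQ_surjective q
    obtain ⟨⟨c, hc⟩, hcx⟩ := (Submodule.mem_torsion_iff _).1 hq
    rw [Submonoid.mk_smul, ← map_smul, Submodule.mkQ_apply, Submodule.Quotient.mk_eq_zero] at hcx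
    obtain ⟨z, hz⟩ := hcx
    have hker : LinearMap.ker d.rangeRestrict ≤ LinearMap.ker (B₀ x) := by
      intro y hy
      rw [LinearMap.mem_ker] at hy ⊢
      have h0 : d y = 0 := congrArg Subtype.val hy
      have h1 : B₀ (c • x) y = 0 := by
        rw [← hz, LinearMap.comp_apply, h₀s.eq (ds (d z)) y, ← hadj, h0, map_zero, LinearMap.zero_apply]
      rw [map_smul, LinearMap.smul_apply, smul_eq_mul] at h1
      exact (mul_eq_zero.1 h1).resolve_left (nonZeroDivisors.ne_zero hc)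
    let ψ : Module.Dual ℤ R :=
      ((LinearMap.ker d.rangeRestrict).liftQ (B₀ x) hker) ∘ₗ
        (d.rangeRestrict.quotKerEquivOfSurjective d.surjective_rangeRestrict).symm.toLinearMap
    refine ⟨Submodule.Quotient.mk ψ, Subtype.ext ?_⟩
    rw [hΨmk]
    show (Submodule.Quotient.mk (Ψ₀ ψ) : L₀ ⧸ K) = Submodule.Quotient.mk x
    congr 1
    refine hext _ _ fun y => ?_
    rw [hΨ]
    have h1 : (d.rangeRestrict.quotKerEquivOfSurjective d.surjective_rangeRestrict).symm (d.rangeRestrict y)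
        = Submodule.Quotient.mk y := by
      rw [LinearEquiv.symm_apply_eq]; rfl
    show ((LinearMap.ker d.rangeRestrict).liftQ (B₀ x) hker)
      ((d.rangeRestrict.quotKerEquivOfSurjective d.surjective_rangeRestrict).symm (d.rangeRestrict y)) = _
    rw [h1, Submodule.liftQ_apply]
  refine ⟨(LinearEquiv.ofBijective Ψ ⟨hinj, hsurj⟩).symm, fun x hx ψ hψ => ?_⟩
  rw [LinearEquiv.symm_apply_eq]
  refine Subtype.ext ?_
  show Submodule.Quotient.mk x = (Ψ (Submodule.Quotient.mk ψ) : L₀ ⧸ K)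
  rw [hΨmk]
  congr 1
  exact hext _ _ fun y => by rw [hΨ, hψ]

end Groth.Agent.S3352
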