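import Groth.Statements.S3401
import Mathlib
import Groth.Agent.Lib.H4ProCons


set_option autoImplicit false
open CategoryTheory AlgebraicGeometry
universe u
open EGA41

namespace Groth.Agent.S3401

/-- Let X be a scheme and E a subset of X. If E is ind-constructible then for every point x of E the set
E ∩ cl{x} is a neighbourhood of x in cl{x}; when X is locally Noetherian the converse holds. (As
published, the necessity clause quantifies over all points x of X; for x outside E the condition
cannot hold, and the argument uses x ∈ E, so it is stated here for x ∈ E.) Stated as an equivalence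
for X locally Noetherian. -/
theorem result (X : Scheme.{u}) [IsLocallyNoetherian X]
    (E : Set X) :
    ProCons.IsIndConstructible E ↔
      ∀ x ∈ E, (Subtype.val ⁻¹' E : Set ↥(closure ({x} : Set X))) ∈ nhds (⟨x, subset_closure rfl⟩ : ↥(closure ({x} : Set X))) := by
  constructor
  · intro hE x hx
    obtain ⟨_, ⟨V, hV, rfl⟩, hxV, -⟩ :=
      X.isBasis_affineOpens.exists_subset_of_mem_open (Set.mem_univ x) isOpen_univ
    rw [← hV.range_fromSpec] at hxV
    obtain ⟨p, rfl⟩ := hxV
    obtain ⟨C, hC, hpC, hCE⟩ := H4ProCons.indC_of_isInd hE hV p hx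
    obtain ⟨S, hS⟩ := PrimeSpectrum.exists_constructibleSetData_iff.mpr hC
    rw [← hS] at hpC hCE
    obtain ⟨B, hB, hpg, hpf⟩ := Set.mem_iUnion₂.mp hpC
    rw [nhds_subtype]
    refine ⟨hV.fromSpec '' (PrimeSpectrum.zeroLocus ({B.f} : Set Γ(X, V)))ᶜ,
      (hV.fromSpec.isOpenEmbedding.isOpenMap _
        (PrimeSpectrum.isClosed_zeroLocus _).isOpen_compl).mem_nhds ⟨p, hpf, rfl⟩, ?_⟩
    rintro ⟨y, hy⟩ ⟨q, hq, hqy⟩
    have hq' : hV.fromSpec q ∈ closure {hV.fromSpec p} := by rw [hqy]; exact hy
    show y ∈ E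
    rw [← show hV.fromSpec q = y from hqy]
    refine hCE (Set.mem_iUnion₂.mpr ⟨B, hB, ?_, hq⟩)
    exact ((hV.fromSpec.isOpenEmbedding.isInducing.specializes_iff).mp
      (specializes_iff_mem_closure.mpr hq')).mem_closed (PrimeSpectrum.isClosed_zeroLocus _) hpg
  · intro h
    refine H4ProCons.isInd_of_indC fun V hV p hp => ?_
    have := h _ hp
    rw [nhds_subtype] at this
    obtain ⟨W, hW, hWE⟩ := this
    obtain ⟨O, hOW, hO, hpO⟩ := mem_nhds_iff.mp hW
    obtain ⟨_, ⟨f, rfl⟩, hpf, hfO⟩ := PrimeSpectrum.isTopologicalBasis_basic_opens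
      |>.exists_subset_of_mem_open (show p ∈ hV.fromSpec ⁻¹' O from hpO)
        (hO.preimage hV.fromSpec.continuous)
    haveI : IsNoetherianRing Γ(X, V) := IsLocallyNoetherian.component_noetherian ⟨V, hV⟩
    refine ⟨↑(PrimeSpectrum.basicOpen f) ∩ closure {p}, Topology.IsConstructible.inter
      ((PrimeSpectrum.isCompact_basicOpen f).isConstructible (PrimeSpectrum.basicOpen f).2) ?_,
      ⟨hpf, subset_closure rfl⟩, ?_⟩
    · rw [← compl_compl (closure {p})]
      exact ((TopologicalSpace.NoetherianSpace.isCompact (closure {p})ᶜ).isConstructible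
        isClosed_closure.isOpen_compl).compl
    · rintro q ⟨hqf, hqc⟩
      have hy : hV.fromSpec q ∈ closure {hV.fromSpec p} := specializes_iff_mem_closure.mp
        ((specializes_iff_mem_closure.mpr hqc).map hV.fromSpec.continuous)
      exact hWE (show (⟨_, hy⟩ : ↥(closure ({hV.fromSpec p} : Set X))) ∈ Subtype.val ⁻¹' W from
        hOW (hfO hqf))

end Groth.Agent.S3401
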