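import Groth.Statements.S3403
import Mathlib
import Groth.Agent.Lib.H4ProCons
import Groth.Agent.Lib.H6.ProConsSpec


set_option autoImplicit false
open CategoryTheory AlgebraicGeometry
universe u
open EGA41

namespace Groth.Agent.S3403

/-- Let X be a scheme, E an ind-constructible subset of X and x a point of X. Then x is an interior
point of E if and only if every generization of x belongs to E. -/
theorem result (X : Scheme.{u}) (E : Set X)
    (hE : ProCons.IsIndConstructible E) (x : X) :
    x ∈ interior E ↔ ∀ x' : X, x' ⤳ x → x' ∈ E := by
  rw [interior_eq_compl_closure_compl, Set.mem_compl_iff]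
  refine ⟨fun h x' hx' => by_contra fun hx'E => h (hx'.mem_closed isClosed_closure (subset_closure hx'E)),
    fun h hc => ?_⟩
  obtain ⟨y, hy, hyx⟩ :=
    H6.ProConsSpec.closure_eq_specializations ((H4ProCons.isInd_iff_compl E).mp hE) hc
  exact hy (h y hyx)

end Groth.Agent.S3403
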