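import Groth.Statements.S3404
import Mathlib
import Groth.Agent.Lib.H4ProCons
import Groth.Agent.Lib.H6.ProConsSpec


set_option autoImplicit false
open CategoryTheory AlgebraicGeometry
universe u
open EGA41

namespace Groth.Agent.S3404

/-- Let f : X ⟶ Y be a morphism of schemes, x a point of X and y = f x. If f is open at x then every
generization of y is the image of a generization of x; when f is locally of finite presentation the
converse holds. -/
theorem result {X Y : Scheme.{u}} (f : X ⟶ Y) (x : X) :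
    (EGA43.IsOpenAt f.base x → ∀ y' : Y, y' ⤳ f.base x → ∃ x' : X, x' ⤳ x ∧ f.base x' = y') ∧
    (LocallyOfFinitePresentation f →
      ((EGA43.IsOpenAt f.base x) ↔ ∀ y' : Y, y' ⤳ f.base x → ∃ x' : X, x' ⤳ x ∧ f.base x' = y')) := by
  have h1 : EGA43.IsOpenAt f.base x → ∀ y' : Y, y' ⤳ f.base x → ∃ x' : X, x' ⤳ x ∧ f.base x' = y' := by
    intro h y' hy'
    have hx : x ∈ closure (f ⁻¹' {y'}) := by
      rw [mem_closure_iff]
      intro O hO hxO
      obtain ⟨a, ha, rfl⟩ := mem_of_mem_nhds (show f.base '' O ∈ nhds y' from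
        mem_nhds_iff.mpr (by
          obtain ⟨W, hWO, hW, hxW⟩ := mem_nhds_iff.mp (h O (hO.mem_nhds hxO))
          exact ⟨W, hWO, hW, hy'.mem_open hW hxW⟩))
      exact ⟨a, ha, rfl⟩
    obtain ⟨x', h1, h2⟩ := H6.ProConsSpec.exists_specializes_of_mem_closure_fibre f y' hx
    exact ⟨x', h2, h1⟩
  refine ⟨h1, fun hf => ⟨h1, fun h U hU => ?_⟩⟩
  obtain ⟨O, hOU, hO, hxO⟩ := mem_nhds_iff.mp hU
  refine Filter.mem_of_superset ?_ (Set.image_mono hOU)
  rw [← mem_interior_iff_mem_nhds, interior_eq_compl_closure_compl, Set.mem_compl_iff]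
  intro hc
  obtain ⟨y', hy', hsp⟩ := H6.ProConsSpec.closure_eq_specializations
    ((H4ProCons.isInd_iff_compl _).mp (H4ProCons.isInd_image f (H4ProCons.isInd_of_isOpen hO))) hc
  obtain ⟨x', hx', rfl⟩ := h y' hsp
  exact hy' ⟨x', hx'.mem_open hO hxO, rfl⟩

end Groth.Agent.S3404
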