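import Groth.Statements.S3431
import Mathlib
import Groth.Agent.Lib.H4NoethTop


set_option autoImplicit false
universe u
open EGA43

namespace Groth.Agent.S3431

/-- Let A be a Noetherian ring. Then A is a Jacobson ring if and only if there is no prime ideal p of A
such that A/p is semi-local (finitely many maximal ideals) of Krull dimension 1. -/
theorem result (A : Type u) [CommRing A] [IsNoetherianRing A] :
    IsJacobsonRing A ↔
      ∀ (p : Ideal A) [p.IsPrime], ¬ (Finite (MaximalSpectrum (A ⧸ p)) ∧ ringKrullDim (A ⧸ p) = 1) := by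
  constructor
  · intro hJ p _ ⟨hfin, hd⟩
    have h := H4NoethTop.not_semilocal_dim_one_of_jacobson (R := A ⧸ p) hfin
    rw [hd] at h
    exact absurd h (by norm_num)
  · intro h
    rw [PrimeSpectrum.isJacobsonRing_iff_jacobsonSpace, jacobsonSpace_iff_locallyClosed]
    intro Z hne hZ
    obtain ⟨x, hxZ, hx⟩ := H4NoethTop.exists_locallyClosed_point (X := AlgebraicGeometry.Spec (CommRingCat.of A)) hZ hne
    refine ⟨x, hxZ, ?_⟩
    rw [mem_closedPoints_iff, PrimeSpectrum.isClosed_singleton_iff_isMaximal]
    by_contra hm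
    obtain ⟨M, hM, hxM⟩ := Ideal.exists_le_maximal x.asIdeal x.2.ne_top
    have hlt : @LT.lt (PrimeSpectrum A) _ x ⟨M, hM.isPrime⟩ :=
      lt_of_le_of_ne hxM fun e => hm (congrArg PrimeSpectrum.asIdeal e ▸ hM)
    haveI := x.2
    exact h x.asIdeal (H4NoethTop.semilocal_dim_one (R := A) hx hlt)

end Groth.Agent.S3431
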