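import Groth.Statements.S3432
import Mathlib
import Groth.Agent.Lib.H4NoethTop


set_option autoImplicit false
open CategoryTheory AlgebraicGeometry
universe u
open EGA43

namespace Groth.Agent.S3432

/-- Let X be a locally Noetherian scheme and Y a closed subset of X such that every nonempty closed
subset of X meets Y. Then the open subscheme X ∖ Y (equivalently, the subspace X ∖ Y) is a Jacobson
space. -/
theorem result (X : Scheme.{u}) [IsLocallyNoetherian X] (Y : Set X)
    (hY : IsClosed Y) (hmeet : ∀ Z : Set X, IsClosed Z → Z.Nonempty → (Z ∩ Y).Nonempty) :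
    JacobsonSpace ↥(Yᶜ) := by
  rw [jacobsonSpace_iff_locallyClosed]
  intro S hne hS
  have hemb : Topology.IsEmbedding (Subtype.val : ↥(Yᶜ) → X) := Topology.IsEmbedding.subtypeVal
  have hS' : IsLocallyClosed (Subtype.val '' S) :=
    hS.image hemb.isInducing (by rw [Subtype.range_coe]; exact hY.isOpen_compl.isLocallyClosed)
  obtain ⟨x, ⟨s, hs, rfl⟩, hx⟩ := H4NoethTop.exists_locallyClosed_point hS' (hne.image _)
  refine ⟨s, hs, ?_⟩
  rw [mem_closedPoints_iff, ← closure_subset_iff_isClosed]
  intro t ht
  by_contra hts
  obtain ⟨z, hzc, hzY⟩ := hmeet (closure {(t : X)}) isClosed_closure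
    (Set.singleton_nonempty _).closure
  exact H4NoethTop.not_chain hx
    (hemb.isInducing.specializes_iff.mpr (specializes_iff_mem_closure.mpr ht))
    (specializes_iff_mem_closure.mpr hzc) (fun e => hts (Subtype.ext e).symm)
    fun e => t.2 (e ▸ hzY)

end Groth.Agent.S3432
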