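import Groth.Statements.S3433
import Mathlib
import Groth.Agent.Lib.H4NoethTop


set_option autoImplicit false
universe u
open EGA43

namespace Groth.Agent.S3433

/-- Let A be a Noetherian local ring with maximal ideal m and let Y be the punctured spectrum Spec A ∖
{m}. Then Y is a Jacobson space, and a point p of Y is closed in Y if and only if dim A/p = 1. -/
theorem result (A : Type u) [CommRing A] [IsNoetherianRing A] [IsLocalRing A] :
    JacobsonSpace ↥({IsLocalRing.closedPoint A}ᶜ : Set (PrimeSpectrum A)) ∧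
      ∀ p : ↥({IsLocalRing.closedPoint A}ᶜ : Set (PrimeSpectrum A)),
        IsClosed ({p} : Set ↥({IsLocalRing.closedPoint A}ᶜ : Set (PrimeSpectrum A))) ↔
          ringKrullDim (A ⧸ p.1.asIdeal) = 1 := by
  have hemb : Topology.IsEmbedding
      (Subtype.val : ↥({IsLocalRing.closedPoint A}ᶜ : Set (PrimeSpectrum A)) → PrimeSpectrum A) :=
    Topology.IsEmbedding.subtypeVal
  have hm : ∀ q : PrimeSpectrum A, q ≤ IsLocalRing.closedPoint A := fun q =>
    IsLocalRing.le_maximalIdeal q.2.ne_top
  have hclosed : ∀ p : ↥({IsLocalRing.closedPoint A}ᶜ : Set (PrimeSpectrum A)),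
      IsClosed ({p} : Set ↥({IsLocalRing.closedPoint A}ᶜ : Set (PrimeSpectrum A))) ↔
        ∀ q : PrimeSpectrum A, p.1 < q → q = IsLocalRing.closedPoint A := by
    intro p
    rw [← closure_subset_iff_isClosed]
    constructor
    · intro h q hq
      by_contra hne
      have := h (a := ⟨q, hne⟩) (specializes_iff_mem_closure.mp
        (hemb.isInducing.specializes_iff.mp ((PrimeSpectrum.le_iff_specializes _ _).mp hq.le)))
      exact hq.ne' (congrArg Subtype.val this)
    · intro h t ht
      by_contra hne
      refine t.2 (h t.1 (lt_of_le_of_ne ((PrimeSpectrum.le_iff_specializes _ _).mpr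
        (hemb.isInducing.specializes_iff.mpr (specializes_iff_mem_closure.mpr ht))) ?_))
      exact fun e => hne (Subtype.ext e.symm)
  constructor
  · rw [jacobsonSpace_iff_locallyClosed]
    intro S hne hS
    have hS' : IsLocallyClosed (Subtype.val '' S) :=
      hS.image hemb.isInducing (by
        rw [Subtype.range_coe]
        exact (IsLocalRing.isClosed_singleton_closedPoint A).isOpen_compl.isLocallyClosed)
    obtain ⟨x, ⟨s, hs, rfl⟩, hx⟩ :=
      H4NoethTop.exists_locallyClosed_point (X := AlgebraicGeometry.Spec (CommRingCat.of A)) hS' (hne.image _)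
    refine ⟨s, hs, ?_⟩
    rw [mem_closedPoints_iff, hclosed]
    exact fun q hq => le_antisymm (hm q) (H4NoethTop.isMax_of_gt hx hq (hm q))
  · intro p
    rw [hclosed]
    let e := p.1.asIdeal.primeSpectrumQuotientOrderIsoZeroLocus
    change _ ↔ Order.krullDim _ = 1
    rw [Order.krullDim_eq_of_orderIso e]
    have hmem : ∀ q : PrimeSpectrum A, p.1 ≤ q → q ∈ PrimeSpectrum.zeroLocus (p.1.asIdeal : Set A) :=
      fun q hq => hq
    constructor
    · intro h
      refine le_antisymm (Order.krullDim_le_one_iff.mpr fun a => ?_) (Order.one_le_krullDim_iff.mpr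
        ⟨⟨p.1, hmem _ le_rfl⟩, ⟨_, hmem _ (hm p.1)⟩,
          lt_of_le_of_ne (hm p.1) fun e => p.2 (congrArg Subtype.val e)⟩)
      rcases eq_or_lt_of_le (show p.1 ≤ a.1 from a.2) with e' | e'
      · refine Or.inl fun b _ => ?_
        show a.1 ≤ b.1
        rw [← e']
        exact b.2
      · refine Or.inr fun b _ => ?_
        show b.1 ≤ a.1
        rw [h a.1 e']
        exact hm b.1
    · intro h q hq
      rcases Order.krullDim_le_one_iff.mp h.le ⟨q, hmem q hq.le⟩ with h' | h'
      · exact absurd (h' (b := ⟨p.1, hmem _ le_rfl⟩) hq.le) hq.not_ge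
      · exact le_antisymm (hm q) (h' (b := ⟨_, hmem _ (hm p.1)⟩) (hm q))

end Groth.Agent.S3433
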