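import Groth.Statements.S3434
import Groth.Agent.Lib.H6.ProperNhd

set_option autoImplicit false
set_option linter.all false
set_option backward.isDefEq.respectTransparency.types false
open CategoryTheory AlgebraicGeometry
universe u
open EGA43

namespace Groth.Agent.S3434

/-- Let Y be an integral locally Noetherian scheme, X an integral scheme, f : X ⟶ Y separated, dominant
and of finite type, and y a point of Y; write K for the function field of X (the local ring at its
generic point ξ), into which O_{Y,y} maps through O_{Y,f ξ}. Then f is proper over some open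
neighbourhood of y if and only if every discrete valuation ring of K which dominates (the image of)
O_{Y,y} dominates (the image of) O_{X,x} for some point x of X; such an x lies over y. -/
theorem result {X Y : Scheme.{u}} [IsIntegral X] [IsIntegral Y] [IsLocallyNoetherian Y]
    (f : X ⟶ Y) [IsSeparated f] [IsDominant f] [LocallyOfFiniteType f] [QuasiCompact f] (y : Y)
    (hξ : f.base (genericPoint X) ⤳ y) :
    (∃ U : Y.Opens, y ∈ U ∧ IsProper (f ∣_ U)) ↔
      ∀ A : ValuationSubring X.functionField, IsDiscreteValuationRing A →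
        (∀ r : Y.presheaf.stalk y, A.valuation ((Y.presheaf.stalkSpecializes hξ ≫ f.stalkMap (genericPoint X)) r) ≤ 1) →
        (∀ r ∈ IsLocalRing.maximalIdeal (Y.presheaf.stalk y),
            A.valuation ((Y.presheaf.stalkSpecializes hξ ≫ f.stalkMap (genericPoint X)) r) < 1) →
        ∃ x : X, f.base x = y ∧
          (∀ r : X.presheaf.stalk x, A.valuation (X.presheaf.stalkSpecializes (genericPoint_specializes x) r) ≤ 1) ∧
          (∀ r ∈ IsLocalRing.maximalIdeal (X.presheaf.stalk x),
            A.valuation (X.presheaf.stalkSpecializes (genericPoint_specializes x) r) < 1) := by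
  let c := Y.presheaf.stalkSpecializes hξ ≫ f.stalkMap (genericPoint X)
  constructor
  · rintro ⟨U, hyU, hU⟩ A hA h1 h2
    have hc : ∀ r, c.hom r ∈ A := fun r => (A.valuation_le_one_iff _).1 (h1 r)
    let a : Y.presheaf.stalk y ⟶ CommRingCat.of A := CommRingCat.ofHom (c.hom.codRestrict A.toSubring hc)
    haveI hloc : IsLocalHom a.hom := ⟨fun r hr => by
      by_contra hn
      have hlt := h2 r ((IsLocalRing.mem_maximalIdeal r).2 hn)
      rw [← ((ValuationSubring.valuation_eq_one_iff A (a.hom r)).1 hr)] at hlt
      exact lt_irrefl _ hlt⟩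
    let z : Spec (CommRingCat.of A) ⟶ (U : Scheme.{u}) := Spec.map a ≫ U.fromSpecStalkOfMem y hyU
    have hz : z ≫ U.ι = Spec.map a ≫ Y.fromSpecStalk y := by rw [Category.assoc, Scheme.Opens.fromSpecStalkOfMem_ι]
    have hac : a ≫ CommRingCat.ofHom A.subtype = c := rfl
    have hgen : Spec.map (CommRingCat.ofHom A.subtype) ≫ z ≫ U.ι = X.fromSpecStalk (genericPoint X) ≫ f := by
      rw [hz, ← Spec.map_comp_assoc, hac, Spec.map_comp, Category.assoc, Scheme.SpecMap_stalkSpecializes_fromSpecStalk,
        Scheme.SpecMap_stalkMap_fromSpecStalk]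
    have hξU : f (genericPoint X) ∈ U := hξ.mem_open U.2 hyU
    let j : Spec (CommRingCat.of X.functionField) ⟶ ((f ⁻¹ᵁ U : X.Opens) : Scheme.{u}) :=
      IsOpenImmersion.lift (f ⁻¹ᵁ U).ι (X.fromSpecStalk (genericPoint X)) (by
        rw [Scheme.Opens.range_ι, Scheme.range_fromSpecStalk]
        intro p hp
        exact (Specializes.map hp f.continuous).mem_open U.2 hξU)
    have hsq : CommSq j (Spec.map (CommRingCat.ofHom (algebraMap A X.functionField))) (f ∣_ U) z := ⟨by
      rw [← cancel_mono U.ι, Category.assoc, morphismRestrict_ι, IsOpenImmersion.lift_fac_assoc, Category.assoc]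
      exact hgen.symm⟩
    have hE : ValuativeCriterion.Existence (f ∣_ U) := by
      have h : UniversallyClosed (f ∣_ U) := inferInstance
      rw [UniversallyClosed.eq_valuativeCriterion] at h
      exact h.1
    obtain ⟨⟨l', hl1, hl2⟩⟩ := (hE ⟨A, X.functionField, j, z, hsq⟩).exists_lift
    change Spec (CommRingCat.of A) ⟶ _ at l'
    let l := l' ≫ (f ⁻¹ᵁ U).ι
    have hlf : l ≫ f = Spec.map a ≫ Y.fromSpecStalk y := by
      rw [← hz, Category.assoc, ← morphismRestrict_ι, ← Category.assoc]
      exact congrArg (· ≫ U.ι) hl2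
    set b := Scheme.stalkClosedPointTo l with hb
    have hcomp : b ≫ CommRingCat.ofHom (algebraMap A X.functionField) =
        X.presheaf.stalkSpecializes (genericPoint_specializes (l (IsLocalRing.closedPoint A))) := by
      apply Spec.map_injective
      rw [← cancel_mono (X.fromSpecStalk _), Spec.map_comp, Category.assoc, hb, Scheme.Spec_stalkClosedPointTo_fromSpecStalk]
      rw [Scheme.SpecMap_stalkSpecializes_fromSpecStalk]
      exact (congrArg (· ≫ (f ⁻¹ᵁ U).ι) hl1).trans (IsOpenImmersion.lift_fac _ _ _)
    have hval : ∀ s, ((b.hom s : A) : X.functionField) =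
        X.presheaf.stalkSpecializes (genericPoint_specializes (l (IsLocalRing.closedPoint A))) s :=
      fun s => congrArg (fun h => h.hom s) hcomp
    refine ⟨l (IsLocalRing.closedPoint A), ?_, fun s => ?_, fun s hs => ?_⟩
    · have := congrArg (fun k => k (IsLocalRing.closedPoint A)) hlf
      simp only [Scheme.Hom.comp_apply] at this
      refine this.trans ?_
      rw [show Spec.map a (IsLocalRing.closedPoint A) = IsLocalRing.closedPoint (Y.presheaf.stalk y) from
        IsLocalRing.comap_closedPoint (S := A) a.hom]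
      exact Scheme.fromSpecStalk_closedPoint
    · rw [← hval]; exact (A.valuation_le_one_iff _).2 (b.hom s : A).2
    · rw [← hval]
      exact (ValuationSubring.valuation_lt_one_iff A _).1 (map_nonunit b.hom s hs)
  intro H
  refine H6.ProperNhd.exists_isProper_nhd f y fun ξ hmax V hV g hgy hg => ?_
  obtain rfl : ξ = genericPoint X := (hmax _ (genericPoint_specializes ξ)).symm
  let ξ := genericPoint X
  let e : X.functionField ≃+* X.residueField ξ := RingEquiv.ofBijective (X.residue ξ).hom
    ⟨RingHom.injective _, X.residue_surjective ξ⟩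
  let A : ValuationSubring X.functionField := V.comap e.toRingHom
  let eA : A ≃+* V :=
    { toFun := fun s => ⟨e s, s.2⟩
      invFun := fun s => ⟨e.symm s, show e (e.symm s) ∈ V by rw [e.apply_symm_apply]; exact s.2⟩
      left_inv := fun s => Subtype.ext (e.symm_apply_apply _)
      right_inv := fun s => Subtype.ext (e.apply_symm_apply _)
      map_mul' := fun s t => Subtype.ext (map_mul e _ _)
      map_add' := fun s t => Subtype.ext (map_add e _ _) }
  haveI hAdvr : IsDiscreteValuationRing A := IsDiscreteValuationRing.RingEquivClass.isDiscreteValuationRing eA.symm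
  obtain ⟨b, hbg, hbloc⟩ : ∃ b : Y.presheaf.stalk y ⟶ CommRingCat.of V, Spec.map b ≫ Y.fromSpecStalk y = g ∧ IsLocalHom b.hom := by
    subst hgy
    exact ⟨Scheme.stalkClosedPointTo g, Scheme.Spec_stalkClosedPointTo_fromSpecStalk g, inferInstance⟩
  have hbc : b ≫ CommRingCat.ofHom V.subtype = c ≫ X.residue ξ := by
    apply Spec.map_injective
    rw [← cancel_mono (Y.fromSpecStalk y), Spec.map_comp, Category.assoc, hbg, hg, Spec.map_comp, Spec.map_comp, Category.assoc,
      Category.assoc, Scheme.SpecMap_stalkSpecializes_fromSpecStalk, Scheme.SpecMap_stalkMap_fromSpecStalk]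
    rfl
  have hcA : ∀ r, c.hom r ∈ A := fun r => by
    show e (c.hom r) ∈ V
    rw [show e (c.hom r) = ((b.hom r : V) : X.residueField ξ) from (congrArg (fun k => k.hom r) hbc).symm]
    exact (b.hom r : V).2
  have heA : ∀ r, eA ⟨c.hom r, hcA r⟩ = b.hom r := fun r => Subtype.ext (congrArg (fun k => k.hom r) hbc).symm
  obtain ⟨x, hxy, hx1, hx2⟩ := H A hAdvr (fun r => (A.valuation_le_one_iff _).2 (hcA r)) fun r hr => by
    refine (ValuationSubring.valuation_lt_one_iff A ⟨_, hcA r⟩).1 ((IsLocalRing.mem_maximalIdeal _).2 fun hu => ?_)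
    have := hu.map eA
    rw [heA] at this
    exact (IsLocalRing.mem_maximalIdeal r).1 hr (isUnit_of_map_unit b.hom r this)
  let cx := X.presheaf.stalkSpecializes (genericPoint_specializes x)
  let d : X.presheaf.stalk x ⟶ CommRingCat.of A :=
    CommRingCat.ofHom (cx.hom.codRestrict A.toSubring fun r => (A.valuation_le_one_iff _).1 (hx1 r))
  haveI : IsLocalHom d.hom := ⟨fun r hr => by
    by_contra hn
    have hlt := hx2 r ((IsLocalRing.mem_maximalIdeal r).2 hn)
    rw [← ((ValuationSubring.valuation_eq_one_iff A (d.hom r)).1 hr)] at hlt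
    exact lt_irrefl _ hlt⟩
  let l : Spec (CommRingCat.of V) ⟶ X := Spec.map (d ≫ CommRingCat.ofHom eA.toRingHom) ≫ X.fromSpecStalk x
  have hlgen : Spec.map (CommRingCat.ofHom V.subtype) ≫ l = X.fromSpecResidueField ξ := by
    rw [← Spec.map_comp_assoc,
      show (d ≫ CommRingCat.ofHom eA.toRingHom) ≫ CommRingCat.ofHom V.subtype = cx ≫ X.residue ξ from rfl,
      Spec.map_comp, Category.assoc, Scheme.SpecMap_stalkSpecializes_fromSpecStalk]
    rfl
  have hlc : l (IsLocalRing.closedPoint V) = x := by
    rw [Scheme.Hom.comp_apply]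
    haveI : IsLocalHom eA.toRingHom := ⟨fun r hr => by simpa using hr.map eA.symm⟩
    haveI : IsLocalHom ((eA.toRingHom).comp d.hom) := RingHom.isLocalHom_comp _ _
    rw [show Spec.map (d ≫ CommRingCat.ofHom eA.toRingHom) (IsLocalRing.closedPoint V) = IsLocalRing.closedPoint (X.presheaf.stalk x) from
      IsLocalRing.comap_closedPoint (S := V) ((eA.toRingHom).comp d.hom)]
    exact Scheme.fromSpecStalk_closedPoint
  exact ⟨l, H6.ValDense.ext_of_gen _ _ (by rw [← Category.assoc, hlgen, hg]) (by rw [Scheme.Hom.comp_apply, hlc, hxy, hgy]), hlgen⟩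

end Groth.Agent.S3434
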