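import Groth.Statements.S3439
import Mathlib
import Groth.Agent.Lib.H4ProCons


set_option autoImplicit false
open CategoryTheory AlgebraicGeometry
universe u
open EGA41

namespace Groth.Agent.S3439

/-- Let X be a quasi-compact scheme, E an ind-constructible subset of X and (F_i) a family of
pro-constructible subsets of X whose intersection is contained in E. Then there is a finite set J of
indices such that the intersection of the F_i for i in J is already contained in E. (Taking E = ∅: a
family of pro-constructible subsets with empty intersection has a finite subfamily with empty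
intersection.) -/
theorem result (X : Scheme.{u}) [CompactSpace X] (E : Set X)
    (hE : ProCons.IsIndConstructible E) {ι : Type u} (F : ι → Set X) (hF : ∀ i, ProCons.IsProConstructible (F i))
    (h : ⋂ i, F i ⊆ E) :
    ∃ J : Finset ι, ⋂ i ∈ J, F i ⊆ E := by
  obtain ⟨J, hJ⟩ := H4ProCons.exists_finite_subcover ((H4ProCons.isInd_iff_compl E).mp hE)
    (fun i => (F i)ᶜ) (fun i => (H4ProCons.isPro_iff_compl (F i)).mp (hF i))
    (by rw [← Set.compl_iInter]; exact Set.compl_subset_compl.mpr h)
  refine ⟨J, fun x hx => by_contra fun hxE => ?_⟩
  obtain ⟨i, hi, hxi⟩ := Set.mem_iUnion₂.mp (hJ hxE)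
  exact hxi (Set.mem_iInter₂.mp hx i hi)

end Groth.Agent.S3439
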