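import Groth.Statements.S3441
import Mathlib
import Groth.Prelude.Def_FSRel
import Groth.Prelude.Def_EGA41
import Groth.Agent.Lib.H2FSRelDer

set_option autoImplicit false
universe u
open EGA41

namespace Groth.Agent.S3441
open TensorProduct
set_option maxHeartbeats 1000000
set_option synthInstance.maxHeartbeats 400000
set_option backward.isDefEq.respectTransparency.types false

open TensorProduct in
/-- Let A → B → C be ring homomorphisms. The canonical C-linear map Ω_{B/A} ⊗_B C → Ω_{C/A} is left
invertible (has a C-linear left inverse) if and only if C is a formally smooth B-algebra relative to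
A for the discrete topologies: every B-algebra homomorphism from C to a quotient C'/J of a B-algebra
C' by an ideal J of square zero that lifts to C' as an A-algebra homomorphism also lifts to C' as a
B-algebra homomorphism. (The published definition of relative formal smoothness tests every
nilpotent ideal J; its reduction to ideals of square zero does not carry over to the relative
setting, and the square-zero form, which is what the published proof of this statement uses, is the
one taken here.) -/
theorem result (A B C : Type u) [CommRing A] [CommRing B]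
    [CommRing C] [Algebra A B] [Algebra B C] [Algebra A C] [IsScalarTower A B C] :
    (∃ l : Ω[C⁄A] →ₗ[C] C ⊗[B] Ω[B⁄A], l ∘ₗ KaehlerDifferential.mapBaseChange A B C = LinearMap.id) ↔
      EGA41.IsFormallySmoothRel A B C := by
  constructor
  · rintro ⟨l, hl⟩ X _ _ _ _ J hJ u₀ ⟨u, hu⟩
    have hφ : ∀ b, algebraMap B X b - u (algebraMap B C b) ∈ J := fun b => by
      rw [← Ideal.Quotient.eq_zero_iff_mem, map_sub, sub_eq_zero]
      refine Eq.trans ?_ (AlgHom.congr_fun hu (algebraMap B C b)).symm
      exact (u₀.commutes b).symm
    obtain ⟨v, hv, hvJ⟩ := @Groth.Agent.H2FSRelDer.lift_of_leftInverse A B C _ _ _ _ _ _ _ l hl X _ _ u.toRingHom.toAlgebra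
      (@IsScalarTower.of_algebraMap_eq A C X _ _ _ _ u.toRingHom.toAlgebra _ fun a => (u.commutes a).symm)
      (u.comp (IsScalarTower.toAlgHom A B C)).toRingHom.toAlgebra
      (@IsScalarTower.of_algebraMap_eq B C X _ _ _ _ u.toRingHom.toAlgebra (u.comp (IsScalarTower.toAlgHom A B C)).toRingHom.toAlgebra fun b => rfl)
      (@IsScalarTower.of_algebraMap_eq A B X _ _ _ _ (u.comp (IsScalarTower.toAlgHom A B C)).toRingHom.toAlgebra _
        fun a => ((u.comp (IsScalarTower.toAlgHom A B C)).commutes a).symm)
      J hJ (IsScalarTower.toAlgHom A B X) hφ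
    refine ⟨{ v.toRingHom with commutes' := fun b => hv b }, AlgHom.ext fun c => ?_⟩
    show Ideal.Quotient.mk J (v c) = u₀ c
    refine Eq.trans ?_ (AlgHom.congr_fun hu c)
    exact Ideal.Quotient.eq.2 (hvJ c)
  · intro h
    obtain ⟨D, hD⟩ := Groth.Agent.H2FSRelDer.extend_derivation h (M := C ⊗[B] Ω[B⁄A])
      ((TensorProduct.mk B C Ω[B⁄A] 1).compDer (KaehlerDifferential.D A B))
    refine ⟨D.liftKaehlerDifferential, TensorProduct.AlgebraTensorModule.curry_injective (LinearMap.ext_ring (LinearMap.ext_on
      (KaehlerDifferential.span_range_derivation A B) ?_))⟩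
    rintro _ ⟨b, rfl⟩
    show D.liftKaehlerDifferential (KaehlerDifferential.mapBaseChange A B C ((1 : C) ⊗ₜ[B] KaehlerDifferential.D A B b)) = (1 : C) ⊗ₜ[B] KaehlerDifferential.D A B b
    rw [KaehlerDifferential.mapBaseChange_tmul, one_smul, KaehlerDifferential.map_D, Derivation.liftKaehlerDifferential_comp_D]
    exact hD b

end Groth.Agent.S3441
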