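import Groth.Statements.S3527
import Groth.Agent.Lib.H1TorBal
import Mathlib

set_option autoImplicit false
universe u
open HTor

namespace Groth.Agent.S3527

open Groth.Agent.H1TorRes Groth.Agent.H1TorBal
open scoped TensorProduct
open CategoryTheory

theorem ex_of_flat_target {A : Type u} [CommRing A] {X : ModuleCat.{u} A} [Module.Flat A X] (P : ProjectiveResolution X)
    (q : ℕ) (N : Type u) [AddCommGroup N] [Module A N] : Ex (cd P.complex) N (q + 1) := by
  haveI := flat_resolution P
  refine ex_module (cd P.complex) (cd_comp P.complex) (augm P) (aug_surjective P) (aug_exact P) A (q + 1) ?_ N (q + 1)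
    (Nat.le_add_left 1 q) le_rfl
  intro i hi _
  obtain ⟨j, rfl⟩ := Nat.exists_eq_add_of_le' hi
  exact ex_flat P A j

/-- If A is a commutative ring and M is a flat A-module, then Tor_p^A(M, N) = 0 and Tor_p^A(N, M) = 0
for every A-module N and every p ≥ 1. (The published statement is about local hypertor sheaves over
general S, X, Y; in the affine case these are the sheaves attached to Tor_n^A, and only the
resulting statement about A-modules is given here. Tor is Mathlib's, left derived in the second
variable; vanishing is stated as Subsingleton, and both orders are stated.) -/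
theorem result (A : Type u) [CommRing A] (M N : Type u) [AddCommGroup M] [Module A M]
    [AddCommGroup N] [Module A N] [Module.Flat A M] (p : ℕ) (hp : 0 < p) :
    Subsingleton (DRing.Tor A p M N) ∧ Subsingleton (DRing.Tor A p N M) := by
  obtain ⟨q, rfl⟩ := Nat.exists_eq_add_of_le' hp
  let X := ModuleCat.of A M
  let Y := ModuleCat.of A N
  constructor
  · exact ModuleCat.subsingleton_of_isZero ((isZero_tor_iff X Y (Classical.choice HasProjectiveResolution.out) (q + 1)).2
      (ex_flat _ M q))
  · let P : ProjectiveResolution X := Classical.choice HasProjectiveResolution.out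
    haveI := flat_resolution P
    refine ModuleCat.subsingleton_of_isZero ((isZero_tor_iff Y X P (q + 1)).2 ?_)
    exact Groth.Agent.S3527.ex_of_flat_target P q N

end Groth.Agent.S3527
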