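import Groth.Statements.S3553
import Mathlib

set_option autoImplicit false
universe u
open CategoryTheory CategoryTheory.Limits AlgebraicGeometry
open EGA2

namespace Groth.Agent.S3553

/-- In the case where the induced morphism is defined on all of Proj S: let φ : S' → S be a homomorphism
of graded rings such that S_+ is contained in the ideal generated by φ(S'_+), and suppose every
element of the kernel of φ is nilpotent. Then the induced morphism from Proj S to Proj S' has dense
image. -/
theorem result {R A : Type u} [CommRing R] [CommRing A] [Algebra R A] (𝒜 : ℕ → Submodule R A) [GradedAlgebra 𝒜]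
    {B : Type u} [CommRing B] [Algebra R B] (ℬ : ℕ → Submodule R B) [GradedAlgebra ℬ]
    (φ : 𝒜 →+*ᵍ ℬ) (hφ : HomogeneousIdeal.irrelevant ℬ ≤ (HomogeneousIdeal.irrelevant 𝒜).map φ)
    (hker : ∀ a : A, φ a = 0 → IsNilpotent a) :
    DenseRange (Proj.map φ hφ).base := by
  classical
  intro y
  rw [mem_closure_iff]
  intro o ho hy
  obtain ⟨_, ⟨_, ⟨r, rfl⟩, rfl⟩, hyr, hro⟩ := (Proj.isBasis_basicOpen 𝒜).exists_subset_of_mem_open hy ho
  obtain ⟨b, hb, hby⟩ := Set.not_subset.1 y.not_irrelevant_le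
  have hf : r * b ∈ (HomogeneousIdeal.irrelevant 𝒜).toIdeal := Ideal.mul_mem_left _ _ hb
  have hfy : r * b ∉ y.asHomogeneousIdeal.toIdeal := fun h => (y.isPrime.mem_or_mem h).elim hyr hby
  by_contra hc
  have hall : ∀ x : ProjectiveSpectrum ℬ, φ (r * b) ∈ x.asHomogeneousIdeal.toIdeal := by
    intro x
    by_contra hx
    refine hc ⟨(Proj.map φ hφ).base x, hro ?_, ⟨x, rfl⟩⟩
    show r ∉ ((Proj.map φ hφ).base x).asHomogeneousIdeal
    intro hr
    have hr' : φ r ∈ x.asHomogeneousIdeal.toIdeal := hr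
    exact hx (by rw [map_mul]; exact Ideal.mul_mem_right _ _ hr')
  refine hfy ?_
  have hnil : IsNilpotent (φ (r * b)) := by
    refine nilpotent_iff_mem_prime.2 fun P hP => ?_
    by_contra hfP
    have hle : ¬ (HomogeneousIdeal.irrelevant ℬ).toIdeal ≤ (P.homogeneousCore ℬ).toIdeal := fun hle => hfP (by
      have h1 : φ (r * b) ∈ (HomogeneousIdeal.irrelevant ℬ).toIdeal := by
        show GradedRing.proj ℬ 0 (φ (r * b)) = 0
        rw [GradedRing.proj_apply, ← GradedRingHom.map_directSumDecompose,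
          show (DirectSum.decompose 𝒜 (r * b) 0 : A) = 0 from (HomogeneousIdeal.mem_irrelevant_iff 𝒜 _).1 hf, map_zero]
      exact Ideal.toIdeal_homogeneousCore_le ℬ P (hle h1))
    exact hfP (Ideal.toIdeal_homogeneousCore_le ℬ P (hall ⟨P.homogeneousCore ℬ, hP.homogeneousCore, hle⟩))
  obtain ⟨k, hk⟩ := hnil
  obtain ⟨j, hj⟩ := hker _ (show φ ((r * b) ^ k) = 0 by rw [map_pow, hk])
  refine y.isPrime.mem_of_pow_mem (k * j) ?_
  rw [pow_mul, hj]
  exact zero_mem _

end Groth.Agent.S3553
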