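import Groth.Statements.S3557
import Groth.Agent.Lib.LProjTop

set_option autoImplicit false
universe u
open CategoryTheory CategoryTheory.Limits AlgebraicGeometry
open EGA2

namespace Groth.Agent.S3557

open CategoryTheory AlgebraicGeometry DirectSum Groth.Agent

variable {R A : Type u} [CommRing R] [CommRing A] [Algebra R A] (𝒜 : ℕ → Submodule R A) [GradedAlgebra 𝒜]
  (hred : ∀ f ∈ (HomogeneousIdeal.irrelevant 𝒜).toIdeal, IsNilpotent f → f = 0)

include hred in
theorem exists_mem_basicOpen {f : A} {d : ℕ} (hd : 0 < d) (hf : f ∈ 𝒜 d) (hne : f ≠ 0) :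
    ∃ x : ProjectiveSpectrum 𝒜, f ∉ x.asHomogeneousIdeal := by
  by_contra hc
  push_neg at hc
  have hf' : f ∈ (HomogeneousIdeal.irrelevant 𝒜).toIdeal := HomogeneousIdeal.mem_irrelevant_of_mem _ hd hf
  refine hne (hred f hf' (nilpotent_iff_mem_prime.2 fun P hP => ?_))
  by_contra hfP
  let x : ProjectiveSpectrum 𝒜 := ⟨P.homogeneousCore 𝒜, hP.homogeneousCore,
    fun hle => hfP (Ideal.toIdeal_homogeneousCore_le 𝒜 P (hle hf'))⟩
  exact hfP (Ideal.toIdeal_homogeneousCore_le 𝒜 P (hc x))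

omit hred in
theorem exists_homog_basicOpen_le {U : (Proj 𝒜).Opens} {x : Proj 𝒜} (hx : x ∈ U) :
    ∃ (d : ℕ) (f : A), 0 < d ∧ f ∈ 𝒜 d ∧ x ∈ Proj.basicOpen 𝒜 f ∧ Proj.basicOpen 𝒜 f ≤ U := by
  classical
  obtain ⟨_, ⟨_, ⟨r, rfl⟩, rfl⟩, hxr, hrU⟩ := (Proj.isBasis_basicOpen 𝒜).exists_subset_of_mem_open hx U.2
  have hr : r ∉ x.asHomogeneousIdeal := hxr
  obtain ⟨i, hi⟩ : ∃ i, (decompose 𝒜 r i : A) ∉ x.asHomogeneousIdeal.toIdeal := by
    by_contra hc
    push_neg at hc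
    exact hr ((x.asHomogeneousIdeal.isHomogeneous.mem_iff).2 hc)
  obtain ⟨g, hg, hgx⟩ : ∃ g ∈ (HomogeneousIdeal.irrelevant 𝒜).toIdeal, g ∉ x.asHomogeneousIdeal.toIdeal :=
    Set.not_subset.1 x.not_irrelevant_le
  obtain ⟨j, hj⟩ : ∃ j, (decompose 𝒜 g j : A) ∉ x.asHomogeneousIdeal.toIdeal := by
    by_contra hc
    push_neg at hc
    exact hgx ((x.asHomogeneousIdeal.isHomogeneous.mem_iff).2 hc)
  have hj0 : 0 < j := by
    rcases j.eq_zero_or_pos with rfl | h
    · refine absurd ?_ hj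
      rw [show (decompose 𝒜 g 0 : A) = 0 from (HomogeneousIdeal.mem_irrelevant_iff 𝒜 g).1 hg]
      exact zero_mem _
    · exact h
  refine ⟨i + j, decompose 𝒜 r i * decompose 𝒜 g j, by omega, SetLike.mul_mem_graded (Subtype.mem _) (Subtype.mem _),
    fun h => (x.isPrime.mem_or_mem h).elim hi hj, fun y hy => hrU ?_⟩
  show r ∉ y.asHomogeneousIdeal
  intro hry
  exact hy (Ideal.mul_mem_right _ _ (y.asHomogeneousIdeal.isHomogeneous i hry))

omit hred in
theorem exists_lowest {f : A} (hne : f ≠ 0) :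
    ∃ i, (decompose 𝒜 f i : A) ≠ 0 ∧ ∀ j < i, (decompose 𝒜 f j : A) = 0 := by
  classical
  have h : ∃ i, (decompose 𝒜 f i : A) ≠ 0 := by
    by_contra hc
    push_neg at hc
    refine hne ?_
    rw [← DirectSum.sum_support_decompose 𝒜 f]
    exact Finset.sum_eq_zero fun i _ => hc i
  exact ⟨Nat.find h, Nat.find_spec h, fun j hj => not_not.1 (Nat.find_min h hj)⟩

include hred in
theorem domain_of_irreducible [IrreducibleSpace (Proj 𝒜)] {f g : A} (hf : f ∈ (HomogeneousIdeal.irrelevant 𝒜).toIdeal)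
    (hg : g ∈ (HomogeneousIdeal.irrelevant 𝒜).toIdeal) (hfg : f * g = 0) : f = 0 ∨ g = 0 := by
  classical
  by_contra hc
  push_neg at hc
  obtain ⟨i, hi, hi'⟩ := exists_lowest 𝒜 hc.1
  obtain ⟨j, hj, hj'⟩ := exists_lowest 𝒜 hc.2
  have pos : ∀ {a : A} {k : ℕ}, a ∈ (HomogeneousIdeal.irrelevant 𝒜).toIdeal → (decompose 𝒜 a k : A) ≠ 0 → 0 < k := by
    intro a k ha hk
    rcases k.eq_zero_or_pos with rfl | h
    · exact absurd ((HomogeneousIdeal.mem_irrelevant_iff 𝒜 a).1 ha) hk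
    · exact h
  have hprod : (decompose 𝒜 f i : A) * decompose 𝒜 g j = 0 := by
    have h := congrArg (fun a => (decompose 𝒜 a (i + j) : A)) hfg
    simp only [decompose_zero, DirectSum.zero_apply, ZeroMemClass.coe_zero, decompose_mul] at h
    rw [DirectSum.coe_mul_apply, Finset.sum_eq_single (i, j)] at h
    · exact h
    · rintro ⟨a, b⟩ hab hne
      simp only [Finset.mem_filter] at hab
      rcases lt_trichotomy a i with ha | ha | ha
      · rw [hi' a ha, zero_mul]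
      · exact absurd (by simp [ha]; omega) hne
      · rw [hj' b (by omega), mul_zero]
    · intro hn
      simp only [Finset.mem_filter, Finset.mem_product, DFinsupp.mem_support_iff, ne_eq, and_true] at hn
      push_neg at hn
      by_cases h1 : decompose 𝒜 f i = 0
      · rw [h1, ZeroMemClass.coe_zero, zero_mul]
      · rw [hn h1, ZeroMemClass.coe_zero, mul_zero]
  obtain ⟨x, hx⟩ := exists_mem_basicOpen 𝒜 hred (pos hf hi) (Subtype.mem _) hi
  obtain ⟨y, hy⟩ := exists_mem_basicOpen 𝒜 hred (pos hg hj) (Subtype.mem _) hj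
  obtain ⟨z, hz1, hz2⟩ := nonempty_preirreducible_inter (Proj.basicOpen 𝒜 (decompose 𝒜 f i : A)).2
    (Proj.basicOpen 𝒜 (decompose 𝒜 g j : A)).2 ⟨x, hx⟩ ⟨y, hy⟩
  exact (z.isPrime.mem_or_mem (hprod ▸ zero_mem z.asHomogeneousIdeal.toIdeal)).elim hz1 hz2


/-- Let S be a graded ring which is essentially reduced (S_+ contains no nonzero nilpotent). Then Proj S
is an integral scheme if and only if S is essentially integral, i.e. S_+ is nonzero and the product
of two nonzero elements of S_+ is nonzero. -/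
theorem result {R A : Type u} [CommRing R] [CommRing A] [Algebra R A] (𝒜 : ℕ → Submodule R A) [GradedAlgebra 𝒜]
    (hred : ∀ f ∈ (HomogeneousIdeal.irrelevant 𝒜).toIdeal, IsNilpotent f → f = 0) :
    AlgebraicGeometry.IsIntegral (Proj 𝒜) ↔
      ((∃ f ∈ (HomogeneousIdeal.irrelevant 𝒜).toIdeal, f ≠ 0) ∧
        ∀ f ∈ (HomogeneousIdeal.irrelevant 𝒜).toIdeal, ∀ g ∈ (HomogeneousIdeal.irrelevant 𝒜).toIdeal,
          f * g = 0 → f = 0 ∨ g = 0) := by
  haveI := LProjTop.isReduced 𝒜 hred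
  constructor
  · intro h
    refine ⟨?_, fun f hf g hg hfg => domain_of_irreducible 𝒜 hred hf hg hfg⟩
    by_contra hc
    push_neg at hc
    exact not_isEmpty_of_nonempty (Proj 𝒜) ((LProjTop.isEmpty_iff 𝒜).2 fun f hf => by rw [hc f hf]; exact IsNilpotent.zero)
  · rintro ⟨⟨f, hf, hne⟩, hdom⟩
    haveI : Nonempty (Proj 𝒜) := by
      by_contra hc
      exact hne (hred f hf ((LProjTop.isEmpty_iff 𝒜).1 (not_nonempty_iff.1 hc) f hf))
    haveI : PreirreducibleSpace (Proj 𝒜) := ⟨fun (u v : Set (Proj 𝒜)) hu hv ⟨x, _, hx⟩ ⟨y, _, hy⟩ => by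
      obtain ⟨a, fa, ha, hfa, hxa, hau⟩ := exists_homog_basicOpen_le 𝒜 (U := ⟨u, hu⟩) hx
      obtain ⟨b, gb, hb, hgb, hyb, hbv⟩ := exists_homog_basicOpen_le 𝒜 (U := ⟨v, hv⟩) hy
      have hfa' := HomogeneousIdeal.mem_irrelevant_of_mem _ ha hfa
      have hgb' := HomogeneousIdeal.mem_irrelevant_of_mem _ hb hgb
      have hne' : fa * gb ≠ 0 := fun h => (hdom _ hfa' _ hgb' h).elim
        (fun h => hxa (h ▸ zero_mem x.asHomogeneousIdeal.toIdeal)) (fun h => hyb (h ▸ zero_mem y.asHomogeneousIdeal.toIdeal))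
      obtain ⟨z, hz⟩ := exists_mem_basicOpen 𝒜 hred (d := a + b) (by omega) (SetLike.mul_mem_graded hfa hgb) hne'
      exact ⟨z, trivial, hau (fun h => hz (Ideal.mul_mem_right _ _ h)), hbv (fun h => hz (Ideal.mul_mem_left _ _ h))⟩⟩
    haveI : IrreducibleSpace (Proj 𝒜) := ⟨‹_›⟩
    exact isIntegral_of_irreducibleSpace_of_isReduced _

end Groth.Agent.S3557
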