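import Groth.Statements.S3563
import Mathlib

set_option autoImplicit false
universe u
open CategoryTheory CategoryTheory.Limits AlgebraicGeometry
open EGA2

namespace Groth.Agent.S3563

open CategoryTheory AlgebraicGeometry DirectSum

theorem away_map_surjective {R A : Type u} [CommRing R] [CommRing A] [Algebra R A] {𝒜 : ℕ → Submodule R A}
    [GradedAlgebra 𝒜] {B : Type u} [CommRing B] [Algebra R B] {ℬ : ℕ → Submodule R B} [GradedAlgebra ℬ]
    (φ : 𝒜 →+*ᵍ ℬ) (hsurj : Function.Surjective φ) {d : ℕ} {s : A} (hs : s ∈ 𝒜 d) :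
    Function.Surjective (HomogeneousLocalization.Away.map φ s) := by
  intro x
  obtain ⟨n, b, hb, rfl⟩ := HomogeneousLocalization.Away.mk_surjective ℬ (φ.2 hs) x
  obtain ⟨a, rfl⟩ := hsurj b
  refine ⟨HomogeneousLocalization.Away.mk 𝒜 hs n (decompose 𝒜 a (n • d) : A) (Subtype.mem _), ?_⟩
  rw [HomogeneousLocalization.Away.map_mk]
  apply HomogeneousLocalization.val_injective
  rw [HomogeneousLocalization.Away.val_mk, HomogeneousLocalization.Away.val_mk]
  congr 1
  rw [GradedRingHom.map_directSumDecompose, DirectSum.decompose_of_mem_same ℬ hb]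


/-- Let φ : S → S' be a surjective homomorphism of graded rings (graded algebras over a base ring R).
Then the induced morphism Proj S' → Proj S is defined everywhere and is a closed immersion. The
hypothesis that the irrelevant ideal of S' is contained in the extension of the irrelevant ideal of
S, needed to define the morphism on all of Proj S', is carried explicitly; it follows from
surjectivity. This is the case of a surjective φ; the published statement is more general. -/
theorem result {R A : Type u} [CommRing R] [CommRing A] [Algebra R A] (𝒜 : ℕ → Submodule R A) [GradedAlgebra 𝒜]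
    {B : Type u} [CommRing B] [Algebra R B] (ℬ : ℕ → Submodule R B) [GradedAlgebra ℬ]
    (φ : 𝒜 →+*ᵍ ℬ) (hsurj : Function.Surjective φ)
    (hφ : HomogeneousIdeal.irrelevant ℬ ≤ (HomogeneousIdeal.irrelevant 𝒜).map φ) :
    IsClosedImmersion (Proj.map φ hφ) := by
  let U : (Σ i : PNat, 𝒜 i) → (Proj 𝒜).Opens := fun s => Proj.basicOpen 𝒜 (s.2 : A)
  have hU : iSup U = ⊤ := Proj.iSup_basicOpen_eq_top 𝒜 (fun s : Σ i : PNat, 𝒜 i => (s.2 : A))
    (by
      classical
      intro z hz
      rw [← DirectSum.sum_support_decompose 𝒜 z]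
      refine Ideal.sum_mem _ fun c _ => ?_
      rcases c.eq_zero_or_pos with rfl | hc
      · rw [show (DirectSum.decompose 𝒜 z 0 : A) = 0 from (HomogeneousIdeal.mem_irrelevant_iff 𝒜 z).1 hz]
        exact zero_mem _
      · exact Ideal.subset_span ⟨⟨⟨c, hc⟩, _⟩, rfl⟩)
  refine IsZariskiLocalAtTarget.of_iSup_eq_top (P := @IsClosedImmersion) U hU fun s => ?_
  haveI : IsAffine (U s : Scheme.{u}) := Proj.isAffineOpen_basicOpen 𝒜 _ s.2.2 s.1.2
  haveI : IsAffine (Proj.map φ hφ ⁻¹ᵁ U s : Scheme.{u}) := by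
    have := Proj.isAffineOpen_basicOpen ℬ _ (φ.2 s.2.2) s.1.2
    exact this
  refine IsClosedImmersion.of_surjective_of_isAffine _ ?_
  rw [Scheme.Hom.appTop, morphismRestrict_app]
  suffices h : Function.Surjective ((Proj.map φ hφ).app ((U s).ι ''ᵁ ⊤)) by
    have e : (Proj.map φ hφ ⁻¹ᵁ U s).ι ''ᵁ ((Proj.map φ hφ ∣_ U s) ⁻¹ᵁ ⊤) = Proj.map φ hφ ⁻¹ᵁ ((U s).ι ''ᵁ ⊤) := by
      rw [image_morphismRestrict_preimage]
    show Function.Surjective (((Proj ℬ).presheaf.map (eqToHom e).op).hom ∘ ((Proj.map φ hφ).app ((U s).ι ''ᵁ ⊤)).hom)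
    refine Function.Surjective.comp ?_ h
    exact ((ConcreteCategory.isIso_iff_bijective _).1
      ((Proj ℬ).presheaf.mapIso (eqToIso e).op).isIso_hom).2
  rw [(U s).ι_image_top]
  have h2 := congrArg CommRingCat.Hom.hom (Proj.awayToSection_comp_appLE φ hφ s.2.2)
  have h3 : Function.Surjective (Proj.awayToSection ℬ (φ s.2)).hom := by
    rw [← Proj.basicOpenIsoAway_hom ℬ (φ s.2) (φ.2 s.2.2) s.1.2]
    exact ((ConcreteCategory.isIso_iff_bijective _).1 inferInstance).2
  rw [Scheme.Hom.app_eq_appLE]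
  refine Function.Surjective.of_comp (g := (Proj.awayToSection 𝒜 (s.2 : A)).hom) ?_
  rw [← RingHom.coe_comp]
  erw [← CommRingCat.hom_comp, h2, CommRingCat.hom_comp, RingHom.coe_comp]
  exact h3.comp (away_map_surjective φ hsurj s.2.2)

end Groth.Agent.S3563
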