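import Groth.Statements.S3566
import Groth.Agent.Lib.LAmple

set_option autoImplicit false
universe u
open CategoryTheory CategoryTheory.Limits AlgebraicGeometry
open EGA2

namespace Groth.Agent.S3566

/-- Let X be a quasi-compact separated scheme (the published statement also allows a prescheme with
Noetherian underlying space) and L an invertible O_X-module. Then L is ample, i.e. the affine ones
among the opens X_s (s a global section of a positive tensor power of L, X_s the locus where s
generates) cover X, if and only if all the opens X_s form a base of the topology of X. -/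
theorem result (X : Scheme.{u}) [CompactSpace X] [X.IsSeparated]
    (L : X.Modules) (hL : PicF.IsInvertible L) :
    CohB1.IsAmple L ↔
      TopologicalSpace.IsTopologicalBasis
        {U : Set X | ∃ (n : ℕ) (s : Coh.structureModule X ⟶ CohB1.tensorPow L (n + 1)),
          U = (CohB1.genLocus (CohB1.tensorPow L (n + 1)) s : Set X)} := by
  constructor
  · intro h
    refine TopologicalSpace.isTopologicalBasis_of_isOpen_of_nhds ?_ ?_
    · rintro _ ⟨n, s, rfl⟩
      exact (CohB1.genLocus _ s).2
    · intro x U hx hU
      obtain ⟨n, s, hs, hle, -⟩ := LAmple.basis_of_ample h (U := ⟨U, hU⟩) hx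
      exact ⟨_, ⟨n, s, rfl⟩, hs, hle⟩
  · intro h
    refine ⟨hL, inferInstance, fun x => ?_⟩
    obtain ⟨A, hA, hxA, -⟩ := exists_isAffineOpen_mem_and_subset (U := (⊤ : X.Opens)) (x := x) trivial
    obtain ⟨_, ⟨n, s, rfl⟩, hxs, hle⟩ := h.exists_subset_of_mem_open hxA A.2
    refine ⟨n, s, hxs, ?_⟩
    have := LAmple.isAffineOpen_genLocus_inf (LInv.isInvertible_tensorPow hL (n + 1)) s hA
    rwa [inf_eq_left.2 (show CohB1.genLocus _ s ≤ A from hle)] at this

end Groth.Agent.S3566
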