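import Groth.Statements.S3568
import Mathlib
import Groth.Agent.S2347

set_option autoImplicit false
universe u
open CategoryTheory CategoryTheory.Limits AlgebraicGeometry
open EGA2

namespace Groth.Agent.S3568

theorem stalk_field {S : Scheme.{u}} [AlgebraicGeometry.IsIntegral S] (y : S) (hy : y = genericPoint S) :
    IsField (S.presheaf.stalk y) := by
  subst hy
  exact Field.toIsField S.functionField

theorem residue_bijective {S : Scheme.{u}} (y : S) (hy : IsField (S.presheaf.stalk y)) :
    Function.Bijective (S.residue y).hom := by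
  letI := hy.toField
  exact ⟨RingHom.injective _, Ideal.Quotient.mk_surjective⟩

theorem app_bijective {U V : Scheme.{u}} [AlgebraicGeometry.IsIntegral U] [AlgebraicGeometry.IsIntegral V]
    (hN : Pi1.IsNormalScheme V) (h : U ⟶ V) [IsIntegralHom h] (y : V) (hy : y = genericPoint V)
    (hgen : h.base (genericPoint U) = y) (hst : Function.Bijective (h.stalkMap (genericPoint U)).hom)
    {W : V.Opens} (hW : IsAffineOpen W) (hyW : y ∈ W) : Function.Bijective (h.app W).hom := by
  subst hgen
  haveI : Nonempty W := ⟨⟨_, hyW⟩⟩
  haveI := S2347.integrallyClosed_of_normal hN hW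
  haveI : Nonempty (h ⁻¹ᵁ W) := ⟨⟨genericPoint U, hyW⟩⟩
  haveI : IsIso (h.stalkMap (genericPoint U)) := (ConcreteCategory.isIso_iff_bijective _).2 hst
  haveI := functionField_isFractionRing_of_isAffineOpen V W hW
  let e : V.presheaf.stalk (h.base (genericPoint U)) ⟶ V.functionField :=
    eqToHom (by rw [hy])
  let ψ : Γ(U, h ⁻¹ᵁ W) ⟶ V.functionField :=
    U.presheaf.germ (h ⁻¹ᵁ W) (genericPoint U) hyW ≫ inv (h.stalkMap (genericPoint U)) ≫ e
  have hψ : h.app W ≫ ψ = V.germToFunctionField W := by
    have : ∀ (z : V) (hz : z ∈ W) (hz' : z = genericPoint V) (e : V.presheaf.stalk z ⟶ V.functionField),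
        e = eqToHom (by rw [hz']) → V.presheaf.germ W z hz ≫ e = V.germToFunctionField W := by
      rintro z hz rfl e rfl
      simp [Scheme.germToFunctionField]
    rw [← this _ hyW hy e rfl]
    simp only [ψ, ← Category.assoc, ← Scheme.Hom.germ_stalkMap]
    simp only [Category.assoc, IsIso.hom_inv_id_assoc]
  exact S2347.bijective_of_integral_section (K := V.functionField) (h.app W).hom
    (IsIntegralHom.isIntegral_app h W hW) ψ.hom (congrArg CommRingCat.Hom.hom hψ)


/-- Let U be an integral scheme, V a normal integral scheme (all local rings integrally closed domains)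
and h : U → V a morphism which is universally closed, radicial (universally injective) and
birational (it sends the generic point of U to that of V and induces an isomorphism of the residue
fields there). Then h is an isomorphism. (The source assumes only V normal; integrality of V, needed
here to speak of its generic point, follows from the other hypotheses.) -/
theorem result {U V : Scheme.{u}} [AlgebraicGeometry.IsIntegral U] [AlgebraicGeometry.IsIntegral V]
    (hN : Pi1.IsNormalScheme V) (h : U ⟶ V) [UniversallyClosed h]
    [UniversallyInjective h] (hgen : h.base (genericPoint U) = genericPoint V)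
    (hbir : Function.Bijective (h.residueFieldMap (genericPoint U)).hom) :
    IsIso h := by
  have hinj : Function.Injective h.base := h.injective
  have hclosed : IsClosedMap h.base := h.isClosedMap
  have hemb : Topology.IsClosedEmbedding h.base := .of_continuous_injective_isClosedMap h.continuous hinj hclosed
  haveI : IsAffineHom h := isAffineHom_of_isInducing h hemb.isEmbedding.toIsInducing hemb.isClosed_range
  haveI : IsIntegralHom h := IsIntegralHom.iff_universallyClosed_and_isAffineHom.2 ⟨inferInstance, inferInstance⟩
  have hst : Function.Bijective (h.stalkMap (genericPoint U)).hom := by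
    have e : (U.residue (genericPoint U)).hom ∘ (h.stalkMap (genericPoint U)).hom =
        (h.residueFieldMap (genericPoint U)).hom ∘ (V.residue (h.base (genericPoint U))).hom := by
      rw [← RingHom.coe_comp, ← RingHom.coe_comp, ← CommRingCat.hom_comp, ← CommRingCat.hom_comp]
      exact congrArg (fun m => ⇑(CommRingCat.Hom.hom m)) (Scheme.residue_residueFieldMap h _).symm
    refine (Function.Bijective.of_comp_iff' (residue_bijective _ (stalk_field _ rfl)) _).1 ?_
    rw [e]
    exact hbir.comp (residue_bijective _ (stalk_field _ hgen))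
  suffices H : ∀ W : V.affineOpens, MorphismProperty.isomorphisms Scheme (h ∣_ W.1) from
    IsZariskiLocalAtTarget.of_iSup_eq_top (P := MorphismProperty.isomorphisms Scheme) _ (iSup_affineOpens_eq_top V) H
  intro W
  haveI : IsAffine (h ⁻¹ᵁ W.1) := W.2.preimage h
  haveI : IsAffine W.1 := W.2
  rw [HasAffineProperty.iff_of_isAffine (P := MorphismProperty.isomorphisms Scheme)]
  refine ⟨inferInstance, ?_⟩
  rw [Scheme.Hom.appTop, morphismRestrict_app]
  suffices h' : IsIso (h.app (W.1.ι ''ᵁ ⊤)) by exact IsIso.comp_isIso' h' (U.presheaf.mapIso ((eqToIso (by rw [image_morphismRestrict_preimage])).op)).isIso_hom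
  rw [W.1.ι_image_top]
  refine (ConcreteCategory.isIso_iff_bijective _).2 ?_
  by_cases hWn : (W.1 : Set V).Nonempty
  · exact app_bijective hN h _ hgen rfl hst W.2 (hgen ▸ ((genericPoint_spec V).mem_open_set_iff W.1.2).2 (by simpa using hWn))
  · obtain ⟨⟨W, hW⟩, rfl⟩ : ∃ W', W' = W := ⟨W, rfl⟩
    obtain rfl : W = ⊥ := by
      ext x
      simpa using fun hx => hWn ⟨x, hx⟩
    have : h ⁻¹ᵁ (⊥ : V.Opens) = ⊥ := rfl
    haveI : Subsingleton Γ(U, h ⁻¹ᵁ (⊥ : V.Opens)) := by rw [this]; infer_instance
    exact ⟨fun a b _ => Subsingleton.elim a b, fun b => ⟨0, Subsingleton.elim _ _⟩⟩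

end Groth.Agent.S3568
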