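import Groth.Statements.S3574
import Mathlib
import Groth.Agent.Lib.LGlueMul

set_option autoImplicit false
universe u
open CategoryTheory CategoryTheory.Limits AlgebraicGeometry
open EGA2

namespace Groth.Agent.S3574

theorem awayι_congr {R A : Type u} [CommRing R] [CommRing A] [Algebra R A] (𝒜 : ℕ → Submodule R A) [GradedAlgebra 𝒜]
    (f : A) {m m' : ℕ} (h : m = m') (h1 : f ∈ 𝒜 m) (h2 : 0 < m) (h1' : f ∈ 𝒜 m') (h2' : 0 < m') :
    Proj.awayι 𝒜 f h1 h2 = Proj.awayι 𝒜 f h1' h2' := by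
  subst h
  rfl

theorem step {R A : Type u} [CommRing R] [CommRing A] [Algebra R A] {𝒜 : ℕ → Submodule R A} [GradedAlgebra 𝒜]
    {d e : ℕ} {f g x : A} (hd : 0 < d) (hf : f ∈ 𝒜 d) (hg : g ∈ 𝒜 e) (hx : x = f * g) {m : ℕ} (hm : 0 < m) (hxm : x ∈ 𝒜 m)
    (h : m = d + e) :
    ∃ r : Spec (CommRingCat.of (Localization.Away x)) ⟶ Spec (CommRingCat.of (Localization.Away f)),
      r ≫ Cone.chart hf hd = Cone.chart hxm hm ∧
      r ≫ (Spec.map (CommRingCat.ofHom (algebraMap (HomogeneousLocalization.Away 𝒜 f) (Localization.Away f))) ≫ Proj.awayι 𝒜 f hf hd) =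
        Spec.map (CommRingCat.ofHom (algebraMap (HomogeneousLocalization.Away 𝒜 x) (Localization.Away x))) ≫ Proj.awayι 𝒜 x hxm hm := by
  subst h
  let a := Localization.awayLift (algebraMap A (Localization.Away x)) f
    (isUnit_of_dvd_unit (map_dvd _ ⟨_, hx⟩) (IsLocalization.Away.algebraMap_isUnit x))
  have ha : a.comp (algebraMap A (Localization.Away f)) = algebraMap A (Localization.Away x) := IsLocalization.lift_comp _
  have hb : a.comp (algebraMap (HomogeneousLocalization.Away 𝒜 f) (Localization.Away f)) =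
      (algebraMap (HomogeneousLocalization.Away 𝒜 x) (Localization.Away x)).comp (HomogeneousLocalization.awayMap 𝒜 hg hx) :=
    RingHom.ext fun z => (HomogeneousLocalization.val_awayMap 𝒜 hg hx z).symm
  refine ⟨Spec.map (CommRingCat.ofHom a), ?_, ?_⟩
  · rw [← cancel_mono (Cone.pointed 𝒜).ι, Category.assoc, Cone.chart, Cone.chart, IsOpenImmersion.lift_fac,
      IsOpenImmersion.lift_fac, ← Spec.map_comp, ← CommRingCat.ofHom_comp, ha]
  · rw [← Category.assoc, ← Spec.map_comp, ← CommRingCat.ofHom_comp, hb, CommRingCat.ofHom_comp, Spec.map_comp,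
      Category.assoc, Proj.SpecMap_awayMap_awayι]


/-- Let S be an ℕ-graded algebra over a ring, C = Spec S its affine cone, E = C − V(S_+) the pointed
affine cone and X = Proj S. Then there is exactly one morphism π : E → X (the canonical retraction)
whose restriction to each chart Spec S_f of E, for f homogeneous of positive degree, is the
composite Spec S_f → Spec S_(f) ≅ D_+(f) ⊆ X induced by the inclusion S_(f) → S_f. The published
statement is not limited to an affine base. -/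
theorem result {R A : Type u} [CommRing R] [CommRing A] [Algebra R A] (𝒜 : ℕ → Submodule R A) [GradedAlgebra 𝒜] :
    ∃! π : (Cone.pointed 𝒜 : Scheme.{u}) ⟶ Proj 𝒜,
      ∀ (d : ℕ) (f : A) (hd : 0 < d) (hf : f ∈ 𝒜 d),
        Cone.chart hf hd ≫ π =
          Spec.map (CommRingCat.ofHom (algebraMap (HomogeneousLocalization.Away 𝒜 f) (Localization.Away f))) ≫
            Proj.awayι 𝒜 f hf hd := by
  classical
  let J : Type u := {x : ℕ × A // 0 < x.1 ∧ x.2 ∈ 𝒜 x.1}
  haveI hoi : ∀ j : J, IsOpenImmersion (Cone.chart j.2.2 j.2.1) := fun j => by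
    haveI : IsOpenImmersion (Cone.chart j.2.2 j.2.1 ≫ (Cone.pointed 𝒜).ι) := by
      rw [Cone.chart, IsOpenImmersion.lift_fac]
      exact IsOpenImmersion.of_isLocalization j.1.2
    exact IsOpenImmersion.of_comp _ (Cone.pointed 𝒜).ι
  have hrange : ∀ j : J, Set.range (Cone.chart j.2.2 j.2.1).base = (Cone.pointed 𝒜).ι ⁻¹' (PrimeSpectrum.basicOpen j.1.2 : Set (PrimeSpectrum A)) := by
    intro j
    rw [← PrimeSpectrum.localization_away_comap_range (Localization.Away j.1.2) j.1.2]
    show _ = (Cone.pointed 𝒜).ι ⁻¹' Set.range (Spec.map (CommRingCat.ofHom (algebraMap A (Localization.Away j.1.2)))).base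
    rw [show Spec.map (CommRingCat.ofHom (algebraMap A (Localization.Away j.1.2))) = Cone.chart j.2.2 j.2.1 ≫ (Cone.pointed 𝒜).ι from
      (IsOpenImmersion.lift_fac _ _ _).symm, Scheme.Hom.comp_base, TopCat.coe_comp, Set.range_comp,
      Set.preimage_image_eq _ (Cone.pointed 𝒜).ι.isOpenEmbedding.injective]
  obtain ⟨p, hp, huniq⟩ := LGlueMul.existsUnique (J := J) _ (fun j => Cone.chart j.2.2 j.2.1)
    (fun w => by
      obtain ⟨z, hz, hzw⟩ := Set.not_subset.1 (fun h => w.2 ((PrimeSpectrum.mem_zeroLocus _ _).2 h) :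
        ¬ ((HomogeneousIdeal.irrelevant 𝒜).toIdeal : Set A) ⊆ (w.1 : PrimeSpectrum A).asIdeal)
      obtain ⟨i, hi⟩ : ∃ i, (DirectSum.decompose 𝒜 z i : A) ∉ (w.1 : PrimeSpectrum A).asIdeal := by
        by_contra hc
        push_neg at hc
        refine hzw ?_
        rw [SetLike.mem_coe, ← DirectSum.sum_support_decompose 𝒜 z]
        exact sum_mem fun i _ => hc i
      have hi0 : 0 < i := by
        rcases i.eq_zero_or_pos with rfl | h
        · refine absurd ?_ hi
          rw [show (DirectSum.decompose 𝒜 z 0 : A) = 0 from (HomogeneousIdeal.mem_irrelevant_iff 𝒜 z).1 hz]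
          exact zero_mem _
        · exact h
      exact ⟨⟨(i, DirectSum.decompose 𝒜 z i), hi0, Subtype.mem _⟩, by rw [hrange]; exact hi⟩)
    (fun j => Spec.map (CommRingCat.ofHom (algebraMap (HomogeneousLocalization.Away 𝒜 j.1.2) (Localization.Away j.1.2))) ≫
      Proj.awayι 𝒜 j.1.2 j.2.2 j.2.1)
    (by
      rintro ⟨⟨d, f⟩, hd, hf⟩ ⟨⟨e, g⟩, he, hg⟩
      obtain ⟨r, h1, h3⟩ := step hd hf hg rfl (Nat.add_pos_left hd e) (SetLike.mul_mem_graded hf hg) rfl
      obtain ⟨r', h2, h4⟩ := step he hg hf (mul_comm f g) (Nat.add_pos_left hd e) (SetLike.mul_mem_graded hf hg) (add_comm d e)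
      refine ⟨⟨(d + e, f * g), Nat.add_pos_left hd e, SetLike.mul_mem_graded hf hg⟩, r, r', h1, h2, h3, h4, ?_⟩
      rintro w ⟨h5, h6⟩
      rw [hrange] at h5 h6 ⊢
      show (Cone.pointed 𝒜).ι.base w ∈ PrimeSpectrum.basicOpen (f * g)
      rw [PrimeSpectrum.basicOpen_mul]
      exact ⟨h5, h6⟩)
  exact ⟨p, fun d f hd hf => hp ⟨(d, f), hd, hf⟩, fun q hq => huniq q fun j => hq _ _ j.2.1 j.2.2⟩

end Groth.Agent.S3574
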