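import Groth.Statements.S3578
import Mathlib

set_option autoImplicit false
universe u
open EGA2

namespace Groth.Agent.S3578

/-- Via the correspondence between closed subsets of Proj S and radical graded ideals of S_+: let S be a
graded ring and Z a closed subset of Proj S, with J = S_+ ∩ (vanishing ideal of Z). Then Z is
irreducible if and only if J is a prime ideal of the ring-without-unit S_+: J ≠ S_+ and a product of
two elements of S_+ lies in J only if one factor does. -/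
theorem result {R A : Type u} [CommRing R] [CommRing A] [Algebra R A] (𝒜 : ℕ → Submodule R A) [GradedAlgebra 𝒜]
    (Z : Set (ProjectiveSpectrum 𝒜)) (hZ : IsClosed Z) :
    IsIrreducible Z ↔
      (¬ (HomogeneousIdeal.irrelevant 𝒜).toIdeal ≤ (ProjectiveSpectrum.vanishingIdeal Z).toIdeal ∧
        ∀ f ∈ (HomogeneousIdeal.irrelevant 𝒜).toIdeal, ∀ g ∈ (HomogeneousIdeal.irrelevant 𝒜).toIdeal,
          f * g ∈ (ProjectiveSpectrum.vanishingIdeal Z).toIdeal →
            f ∈ (ProjectiveSpectrum.vanishingIdeal Z).toIdeal ∨ g ∈ (ProjectiveSpectrum.vanishingIdeal Z).toIdeal) := by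
  constructor
  · rintro ⟨⟨x, hx⟩, hpre⟩
    refine ⟨fun h => x.not_irrelevant_le (h.trans fun a ha => (ProjectiveSpectrum.mem_vanishingIdeal Z a).1 ha x hx),
      fun f _ g _ hfg => ?_⟩
    have hsub : Z ⊆ ProjectiveSpectrum.zeroLocus 𝒜 {f} ∪ ProjectiveSpectrum.zeroLocus 𝒜 {g} := fun y hy =>
      (y.isPrime.mem_or_mem ((ProjectiveSpectrum.mem_vanishingIdeal Z _).1 hfg y hy)).imp
        Set.singleton_subset_iff.2 Set.singleton_subset_iff.2
    refine (isPreirreducible_iff_isClosed_union_isClosed.1 hpre _ _ (ProjectiveSpectrum.isClosed_zeroLocus 𝒜 _)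
      (ProjectiveSpectrum.isClosed_zeroLocus 𝒜 _) hsub).imp (fun h => ?_) (fun h => ?_)
    all_goals exact (ProjectiveSpectrum.mem_vanishingIdeal Z _).2 fun y hy => Set.singleton_subset_iff.1 (h hy)
  · rintro ⟨hne, hprime⟩
    refine ⟨?_, isPreirreducible_iff_isClosed_union_isClosed.2 fun Z₁ Z₂ h₁ h₂ hsub => ?_⟩
    · by_contra hc
      exact hne fun a _ => (ProjectiveSpectrum.mem_vanishingIdeal Z a).2 fun x hx => absurd ⟨x, hx⟩ hc
    by_contra hc
    push_neg at hc
    have key : ∀ W : Set (ProjectiveSpectrum 𝒜), IsClosed W → ¬ Z ⊆ W → ∃ f ∈ (HomogeneousIdeal.irrelevant 𝒜).toIdeal,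
        f ∉ (ProjectiveSpectrum.vanishingIdeal Z).toIdeal ∧ ∀ y ∈ W, f ∈ y.asHomogeneousIdeal.toIdeal := by
      intro W hW hZW
      obtain ⟨x, hxZ, hxW⟩ := Set.not_subset.1 hZW
      rw [← hW.closure_eq, ← ProjectiveSpectrum.zeroLocus_vanishingIdeal_eq_closure 𝒜] at hxW
      obtain ⟨a, ha, hax⟩ := Set.not_subset.1 (fun h => hxW h)
      obtain ⟨b, hb, hbx⟩ := Set.not_subset.1 x.not_irrelevant_le
      refine ⟨a * b, Ideal.mul_mem_left _ _ hb, fun h => ?_, fun y hy => ?_⟩
      · exact (x.isPrime.mem_or_mem ((ProjectiveSpectrum.mem_vanishingIdeal Z _).1 h x hxZ)).elim hax hbx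
      · exact Ideal.mul_mem_right _ _ ((ProjectiveSpectrum.mem_vanishingIdeal W a).1 ha y hy)
    obtain ⟨f, hf, hfZ, hfW⟩ := key Z₁ h₁ hc.1
    obtain ⟨g, hg, hgZ, hgW⟩ := key Z₂ h₂ hc.2
    refine (hprime f hf g hg ((ProjectiveSpectrum.mem_vanishingIdeal Z _).2 fun y hy => ?_)).elim hfZ hgZ
    rcases hsub hy with h | h
    · exact Ideal.mul_mem_right _ _ (hfW y h)
    · exact Ideal.mul_mem_left _ _ (hgW y h)

end Groth.Agent.S3578
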