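import Groth.Statements.S3580
import Mathlib
import Groth.Agent.Lib.LGlueMul

set_option autoImplicit false
universe u
open CategoryTheory CategoryTheory.Limits AlgebraicGeometry
open EGA2

namespace Groth.Agent.S3580

open DirectSum HomogeneousLocalization

theorem exists_pos_not_mem {R A : Type u} [CommRing R] [CommRing A] [Algebra R A] (𝒜 : ℕ → Submodule R A) [GradedAlgebra 𝒜]
    (x : ProjectiveSpectrum 𝒜) : ∃ (i : ℕ) (f : A), 0 < i ∧ f ∈ 𝒜 i ∧ f ∉ x.asHomogeneousIdeal.toIdeal := by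
  classical
  obtain ⟨g, hg, hgx⟩ := Set.not_subset.1 x.not_irrelevant_le
  obtain ⟨i, hi⟩ : ∃ i, (decompose 𝒜 g i : A) ∉ x.asHomogeneousIdeal.toIdeal := by
    by_contra hc
    push_neg at hc
    exact hgx ((x.asHomogeneousIdeal.isHomogeneous.mem_iff).2 hc)
  refine ⟨i, _, ?_, Subtype.mem _, hi⟩
  rcases i.eq_zero_or_pos with rfl | h
  · refine absurd ?_ hi
    rw [show (decompose 𝒜 g 0 : A) = 0 from (HomogeneousIdeal.mem_irrelevant_iff 𝒜 g).1 hg]
    exact zero_mem _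
  · exact h

theorem awayι_congr {R A : Type u} [CommRing R] [CommRing A] [Algebra R A] (𝒜 : ℕ → Submodule R A) [GradedAlgebra 𝒜]
    (f : A) {m m' : ℕ} (h : m = m') (h1 : f ∈ 𝒜 m) (h2 : 0 < m) (h1' : f ∈ 𝒜 m') (h2' : 0 < m') :
    Proj.awayι 𝒜 f h1 h2 = Proj.awayι 𝒜 f h1' h2' := by
  subst h
  rfl

variable {R A : Type u} [CommRing R] [CommRing A] [Algebra R A] {𝒜 : ℕ → Submodule R A} [GradedAlgebra 𝒜]
    {B : Type u} [CommRing B] [Algebra R B] {ℬ : ℕ → Submodule R B} [GradedAlgebra ℬ]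
    {d : ℕ} {φ : B →ₐ[R] A}

theorem deg_mem (hdeg : ∀ n : ℕ, Submodule.map φ.toLinearMap (ℬ n) = 𝒜 (n * d)) {n : ℕ} {g : B} (hg : g ∈ ℬ n) :
    φ g ∈ 𝒜 (n * d) :=
  (hdeg n).le (Submodule.mem_map_of_mem hg)

theorem exists_θ (hφ : Function.Injective φ) (hdeg : ∀ n : ℕ, Submodule.map φ.toLinearMap (ℬ n) = 𝒜 (n * d))
    {n : ℕ} {g : B} (hg : g ∈ ℬ n) :
    ∃ θ : Away ℬ g ≃+* Away 𝒜 (φ g), ∀ z, (θ z).val = Localization.awayMap φ.toRingHom g z.val := by
  classical
  let ι : Away 𝒜 (φ g) →+* Localization.Away (φ g) := algebraMap _ _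
  have hι : Function.Injective ι := val_injective _
  let G : Away ℬ g →+* Localization.Away (φ g) :=
    (Localization.awayMap φ.toRingHom g).comp (algebraMap (Away ℬ g) (Localization.Away g))
  have hmk : ∀ (k : ℕ) (b : B) (hb : b ∈ ℬ (k • n)), ∃ hm : φ b ∈ 𝒜 (k • (n * d)),
      G (Away.mk ℬ hg k b hb) = ι (Away.mk 𝒜 (deg_mem hdeg hg) k (φ b) hm) := by
    intro k b hb
    refine ⟨by rw [smul_eq_mul, ← mul_assoc]; exact deg_mem hdeg hb, ?_⟩
    show Localization.awayMap φ.toRingHom g (Away.mk ℬ hg k b hb).val = (Away.mk 𝒜 (deg_mem hdeg hg) k (φ b) (by rw [smul_eq_mul, ← mul_assoc]; exact deg_mem hdeg hb)).val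
    rw [Away.val_mk, Away.val_mk, Localization.mk_eq_mk', Localization.mk_eq_mk', Localization.awayMap,
      IsLocalization.Away.map, IsLocalization.map_mk']
    congr 1
    exact Subtype.ext (map_pow φ g k)
  have hrange : ∀ z, ∃ w, ι w = G z := fun z => by
    obtain ⟨k, b, hb, rfl⟩ := Away.mk_surjective ℬ hg z
    obtain ⟨hm, e⟩ := hmk k b hb
    exact ⟨_, e.symm⟩
  choose ψ hψ using hrange
  let Ψ : Away ℬ g →+* Away 𝒜 (φ g) :=
    { toFun := ψ
      map_one' := hι (by rw [hψ, map_one, map_one])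
      map_mul' := fun a b => hι (by simp only [map_mul, hψ])
      map_zero' := hι (by rw [hψ, map_zero, map_zero])
      map_add' := fun a b => hι (by simp only [map_add, hψ]) }
  have hbij : Function.Bijective Ψ := by
    refine ⟨(injective_iff_map_eq_zero _).2 fun z hz => ?_, fun w => ?_⟩
    · have hz' : G z = 0 := by rw [← hψ z, show ψ z = 0 from hz, map_zero]
      obtain ⟨k, b, hb, rfl⟩ := Away.mk_surjective ℬ hg z
      obtain ⟨hm, e⟩ := hmk k b hb
      rw [e] at hz'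
      change (Away.mk 𝒜 (deg_mem hdeg hg) k (φ b) hm).val = 0 at hz'
      rw [Away.val_mk, Localization.mk_eq_mk', IsLocalization.mk'_eq_zero_iff] at hz'
      obtain ⟨⟨_, j, rfl⟩, hj⟩ := hz'
      apply val_injective
      rw [Away.val_mk, val_zero, Localization.mk_eq_mk', IsLocalization.mk'_eq_zero_iff]
      exact ⟨⟨_, j, rfl⟩, hφ (by rw [map_mul, map_pow, map_zero]; exact hj)⟩
    · obtain ⟨k, a, ha, rfl⟩ := Away.mk_surjective 𝒜 (deg_mem hdeg hg) w
      have ha' : a ∈ Submodule.map φ.toLinearMap (ℬ (k • n)) := by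
        rw [hdeg, smul_eq_mul, mul_assoc, ← smul_eq_mul k]
        exact ha
      obtain ⟨b, hb, rfl⟩ := ha'
      obtain ⟨hm, e⟩ := hmk k b hb
      exact ⟨_, hι ((hψ _).trans e)⟩
  exact ⟨RingEquiv.ofBijective Ψ hbij, fun z => hψ z⟩

theorem square (θf : ∀ {g : B} {n : ℕ}, g ∈ ℬ n → (Away ℬ g ≃+* Away 𝒜 (φ g)))
    (hθ : ∀ {g : B} {n : ℕ} (hg : g ∈ ℬ n) z, (θf hg z).val = Localization.awayMap φ.toRingHom g z.val)
    (hdeg : ∀ n : ℕ, Submodule.map φ.toLinearMap (ℬ n) = 𝒜 (n * d))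
    {m n k : ℕ} {f g x : B} (hf : f ∈ ℬ m) (hg : g ∈ ℬ n) (hxk : x ∈ ℬ k) (hx : x = f * g) (hxφ : φ x = φ f * φ g) :
    (θf hxk).toRingHom.comp (awayMap ℬ hg hx) = (awayMap 𝒜 (deg_mem hdeg hg) hxφ).comp (θf hf).toRingHom := by
  refine RingHom.ext fun z => val_injective _ ?_
  show (θf hxk (awayMap ℬ hg hx z)).val = (awayMap 𝒜 (deg_mem hdeg hg) hxφ (θf hf z)).val
  rw [hθ, val_awayMap, val_awayMap, hθ]
  refine RingHom.congr_fun (?_ : (Localization.awayMap φ.toRingHom x).comp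
    (Localization.awayLift (algebraMap B (Localization.Away x)) f
      (isUnit_of_dvd_unit (map_dvd _ ⟨_, hx⟩) (IsLocalization.Away.algebraMap_isUnit x))) =
    (Localization.awayLift (algebraMap A (Localization.Away (φ x))) (φ f)
      (isUnit_of_dvd_unit (map_dvd _ ⟨_, hxφ⟩) (IsLocalization.Away.algebraMap_isUnit (φ x)))).comp
      (Localization.awayMap φ.toRingHom f)) z.val
  refine IsLocalization.ringHom_ext (Submonoid.powers f) (RingHom.ext fun b => ?_)
  simp [Localization.awayLift, Localization.awayMap, IsLocalization.Away.map]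


/-- Let S be a graded ring, d > 0, and S^{(d)} the graded ring with S^{(d)}_n = S_{nd} (here: any graded
ring S' with an injective algebra homomorphism φ : S' → S carrying S'_n onto S_{nd} for every n).
Then there is an isomorphism of schemes Proj S ≅ Proj S^{(d)} sending a homogeneous prime p to
φ⁻¹(p), and which over each standard open D_+(g), g ∈ S'_n with n > 0, is induced by the ring
isomorphism S'_(g) ≅ S_(φ g), b/g^k ↦ φ(b)/φ(g)^k; precisely: for every ring map θ : S'_(g) → S_(φ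
g) compatible with b/g^k ↦ φ(b)/φ(g)^k inside the localizations, the composite of Spec S_(φ g) →
Proj S with the isomorphism equals Spec θ followed by Spec S'_(g) → Proj S'. -/
theorem result {R A : Type u} [CommRing R] [CommRing A] [Algebra R A] (𝒜 : ℕ → Submodule R A) [GradedAlgebra 𝒜]
    {B : Type u} [CommRing B] [Algebra R B] (ℬ : ℕ → Submodule R B) [GradedAlgebra ℬ]
    (d : ℕ) (hd : 0 < d) (φ : B →ₐ[R] A) (hφ : Function.Injective φ)
    (hdeg : ∀ n : ℕ, Submodule.map φ.toLinearMap (ℬ n) = 𝒜 (n * d)) :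
    ∃ e : Proj 𝒜 ≅ Proj ℬ,
      (∀ p : Proj 𝒜, (e.hom.base p).asHomogeneousIdeal.toIdeal = Ideal.comap φ p.asHomogeneousIdeal.toIdeal) ∧
      ∀ (n : ℕ) (g : B) (hn : 0 < n) (hg : g ∈ ℬ n)
        (θ : CommRingCat.of (HomogeneousLocalization.Away ℬ g) ⟶ CommRingCat.of (HomogeneousLocalization.Away 𝒜 (φ g))),
        (algebraMap (HomogeneousLocalization.Away 𝒜 (φ g)) (Localization.Away (φ g))).comp θ.hom =
          (Localization.awayMap φ.toRingHom g).comp
            (algebraMap (HomogeneousLocalization.Away ℬ g) (Localization.Away g)) →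
        Proj.awayι 𝒜 (φ g) ((hdeg n).le (Submodule.mem_map_of_mem hg)) (Nat.mul_pos hn hd) ≫ e.hom =
          Spec.map θ ≫ Proj.awayι ℬ g hg hn := by
  classical
  choose θf hθ using fun (g : B) (n : ℕ) (hg : g ∈ ℬ n) => exists_θ hφ hdeg hg
  let J : Type u := {x : ℕ × B // 0 < x.1 ∧ x.2 ∈ ℬ x.1}
  let cA : ∀ j : J, Spec (CommRingCat.of (Away 𝒜 (φ j.1.2))) ⟶ Proj 𝒜 := fun j =>
    Proj.awayι 𝒜 (φ j.1.2) (deg_mem hdeg j.2.2) (Nat.mul_pos j.2.1 hd)
  let cB : ∀ j : J, Spec (CommRingCat.of (Away ℬ j.1.2)) ⟶ Proj ℬ := fun j => Proj.awayι ℬ j.1.2 j.2.2 j.2.1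
  let s : ∀ j : J, Spec (CommRingCat.of (Away 𝒜 (φ j.1.2))) ⟶ Spec (CommRingCat.of (Away ℬ j.1.2)) := fun j =>
    Spec.map (CommRingCat.ofHom (θf j.1.2 j.1.1 j.2.2).toRingHom)
  let t : ∀ j : J, Spec (CommRingCat.of (Away ℬ j.1.2)) ⟶ Spec (CommRingCat.of (Away 𝒜 (φ j.1.2))) := fun j =>
    Spec.map (CommRingCat.ofHom (θf j.1.2 j.1.1 j.2.2).symm.toRingHom)
  have hst : ∀ j, s j ≫ t j = 𝟙 _ := fun j => by
    rw [← Spec.map_comp, ← CommRingCat.ofHom_comp, RingEquiv.toRingHom_comp_symm_toRingHom]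
    exact Spec.map_id _
  have hts : ∀ j, t j ≫ s j = 𝟙 _ := fun j => by
    rw [← Spec.map_comp, ← CommRingCat.ofHom_comp, RingEquiv.symm_toRingHom_comp_toRingHom]
    exact Spec.map_id _
  -- the transition data
  have hmul : ∀ i j : J, ∃ (k : J) (r : Spec (CommRingCat.of (Away ℬ k.1.2)) ⟶ Spec (CommRingCat.of (Away ℬ i.1.2)))
      (r' : Spec (CommRingCat.of (Away ℬ k.1.2)) ⟶ Spec (CommRingCat.of (Away ℬ j.1.2)))
      (q : Spec (CommRingCat.of (Away 𝒜 (φ k.1.2))) ⟶ Spec (CommRingCat.of (Away 𝒜 (φ i.1.2))))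
      (q' : Spec (CommRingCat.of (Away 𝒜 (φ k.1.2))) ⟶ Spec (CommRingCat.of (Away 𝒜 (φ j.1.2)))),
      r ≫ cB i = cB k ∧ r' ≫ cB j = cB k ∧ q ≫ cA i = cA k ∧ q' ≫ cA j = cA k ∧
      q ≫ s i = s k ≫ r ∧ q' ≫ s j = s k ≫ r' ∧
      Set.range (cB i).base ∩ Set.range (cB j).base ⊆ Set.range (cB k).base ∧
      Set.range (cA i).base ∩ Set.range (cA j).base ⊆ Set.range (cA k).base := by
    rintro ⟨⟨m, f⟩, hm, hf⟩ ⟨⟨n, g⟩, hn, hg⟩
    have hxφ : φ (f * g) = φ f * φ g := map_mul φ f g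
    have hxφ' : φ (f * g) = φ g * φ f := by rw [hxφ, mul_comm]
    refine ⟨⟨(m + n, f * g), Nat.add_pos_left hm n, SetLike.mul_mem_graded hf hg⟩,
      Spec.map (CommRingCat.ofHom (awayMap ℬ hg rfl)), Spec.map (CommRingCat.ofHom (awayMap ℬ hf (mul_comm f g))),
      Spec.map (CommRingCat.ofHom (awayMap 𝒜 (deg_mem hdeg hg) hxφ)),
      Spec.map (CommRingCat.ofHom (awayMap 𝒜 (deg_mem hdeg hf) hxφ')), ?_, ?_, ?_, ?_, ?_, ?_, ?_, ?_⟩
    · exact Proj.SpecMap_awayMap_awayι ℬ hf hm hg rfl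
    · exact (Proj.SpecMap_awayMap_awayι ℬ hg hn hf (mul_comm f g)).trans (awayι_congr ℬ _ (Nat.add_comm n m) _ _ _ _)
    · exact (Proj.SpecMap_awayMap_awayι 𝒜 (deg_mem hdeg hf) (Nat.mul_pos hm hd) (deg_mem hdeg hg) hxφ).trans
        (awayι_congr 𝒜 _ (Nat.add_mul m n d).symm _ _ _ _)
    · exact (Proj.SpecMap_awayMap_awayι 𝒜 (deg_mem hdeg hg) (Nat.mul_pos hn hd) (deg_mem hdeg hf) hxφ').trans
        (awayι_congr 𝒜 _ (by rw [Nat.add_mul, Nat.add_comm]) _ _ _ _)
    · simp only [s]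
      rw [← Spec.map_comp, ← Spec.map_comp, ← CommRingCat.ofHom_comp, ← CommRingCat.ofHom_comp,
        square (fun {g n} hg => θf g n hg) (fun {g n} hg => hθ g n hg) hdeg hf hg _ rfl hxφ]
    · simp only [s]
      rw [← Spec.map_comp, ← Spec.map_comp, ← CommRingCat.ofHom_comp, ← CommRingCat.ofHom_comp,
        square (fun {g n} hg => θf g n hg) (fun {g n} hg => hθ g n hg) hdeg hg hf _ (mul_comm f g) hxφ']
    · show ((Proj.awayι ℬ f hf hm).opensRange ⊓ (Proj.awayι ℬ g hg hn).opensRange : (Proj ℬ).Opens) ≤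
        (Proj.awayι ℬ (f * g) (SetLike.mul_mem_graded hf hg) (Nat.add_pos_left hm n)).opensRange
      rw [Proj.opensRange_awayι, Proj.opensRange_awayι, Proj.opensRange_awayι, Proj.basicOpen_mul]
    · show ((Proj.awayι 𝒜 (φ f) (deg_mem hdeg hf) (Nat.mul_pos hm hd)).opensRange ⊓
          (Proj.awayι 𝒜 (φ g) (deg_mem hdeg hg) (Nat.mul_pos hn hd)).opensRange : (Proj 𝒜).Opens) ≤
        (Proj.awayι 𝒜 (φ (f * g)) (deg_mem hdeg (SetLike.mul_mem_graded hf hg)) (Nat.mul_pos (Nat.add_pos_left hm n) hd)).opensRange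
      rw [Proj.opensRange_awayι, Proj.opensRange_awayι, Proj.opensRange_awayι, hxφ, Proj.basicOpen_mul]
  have hcovB : ∀ y : Proj ℬ, ∃ j, y ∈ Set.range (cB j).base := fun y => by
    obtain ⟨i, b, hi, hb, hby⟩ := exists_pos_not_mem ℬ y
    refine ⟨⟨(i, b), hi, hb⟩, ?_⟩
    show y ∈ (Proj.awayι ℬ b hb hi).opensRange
    rw [Proj.opensRange_awayι]
    exact hby
  have hcovA : ∀ x : Proj 𝒜, ∃ j, x ∈ Set.range (cA j).base := fun x => by
    obtain ⟨i, a, hi, ha, hax⟩ := exists_pos_not_mem 𝒜 x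
    have h : a ^ d ∈ Submodule.map φ.toLinearMap (ℬ i) := by
      rw [hdeg, mul_comm, ← smul_eq_mul]
      exact SetLike.pow_mem_graded d ha
    obtain ⟨b, hb, e⟩ := h
    refine ⟨⟨(i, b), hi, hb⟩, ?_⟩
    show x ∈ (Proj.awayι 𝒜 (φ b) (deg_mem hdeg hb) (Nat.mul_pos hi hd)).opensRange
    rw [Proj.opensRange_awayι]
    show φ b ∉ x.asHomogeneousIdeal.toIdeal
    rw [show φ b = a ^ d from e]
    exact fun h => hax (x.isPrime.mem_of_pow_mem d h)
  obtain ⟨p, hp, -⟩ := LGlueMul.existsUnique (J := J) _ cA hcovA (fun j => s j ≫ cB j) (fun i j => by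
    obtain ⟨k, r, r', q, q', h1, h2, h3, h4, h5, h6, -, h8⟩ := hmul i j
    refine ⟨k, q, q', h3, h4, ?_, ?_, h8⟩
    · rw [← Category.assoc, h5, Category.assoc, h1]
    · rw [← Category.assoc, h6, Category.assoc, h2])
  obtain ⟨p', hp', -⟩ := LGlueMul.existsUnique (J := J) _ cB hcovB (fun j => t j ≫ cA j) (fun i j => by
    obtain ⟨k, r, r', q, q', h1, h2, h3, h4, h5, h6, h7, -⟩ := hmul i j
    refine ⟨k, r, r', h1, h2, ?_, ?_, h7⟩
    · have e : r ≫ t i = t k ≫ q := by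
        rw [← Category.comp_id q, ← hst i, ← Category.assoc q, h5, Category.assoc (s k), ← Category.assoc (t k), hts k,
          Category.id_comp]
      rw [← Category.assoc, e, Category.assoc, h3]
    · have e : r' ≫ t j = t k ≫ q' := by
        rw [← Category.comp_id q', ← hst j, ← Category.assoc q', h6, Category.assoc (s k), ← Category.assoc (t k), hts k,
          Category.id_comp]
      rw [← Category.assoc, e, Category.assoc, h4])
  have hext : ∀ {Z : Scheme.{u}} {S : J → Scheme.{u}} (c : ∀ j, S j ⟶ Z) [∀ j, IsOpenImmersion (c j)],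
      (∀ z : Z, ∃ j, z ∈ Set.range (c j).base) → ∀ u : Z ⟶ Z, (∀ j, c j ≫ u = c j) → u = 𝟙 Z := by
    intro Z S c _ hc u hu
    refine Scheme.hom_ext_of_forall _ _ fun z => ?_
    obtain ⟨j, hj⟩ := hc z
    refine ⟨(c j).opensRange, hj, ?_⟩
    rw [← cancel_epi (c j).isoOpensRange.hom, Category.comp_id, Scheme.Hom.isoOpensRange_hom_ι,
      ← Category.assoc, Scheme.Hom.isoOpensRange_hom_ι, hu]
  have e1 : p ≫ p' = 𝟙 _ := hext cA hcovA _ fun j => by
    rw [← Category.assoc, hp, Category.assoc, hp', ← Category.assoc, hst, Category.id_comp]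
  have e2 : p' ≫ p = 𝟙 _ := hext cB hcovB _ fun j => by
    rw [← Category.assoc, hp', Category.assoc, hp, ← Category.assoc, hts, Category.id_comp]
  refine ⟨⟨p, p', e1, e2⟩, fun x => ?_, fun n g hn hg θ hθ' => ?_⟩
  · -- the formula on points
    have hpre : ∀ (m : ℕ) (b : B), 0 < m → b ∈ ℬ m →
        (b ∈ (p.base x).asHomogeneousIdeal.toIdeal ↔ φ b ∈ x.asHomogeneousIdeal.toIdeal) := by
      intro m b hm hb
      let j : J := ⟨(m, b), hm, hb⟩
      have h1 : p.base x ∈ Set.range (cB j).base ↔ x ∈ Set.range (cA j).base := by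
        constructor
        · rintro ⟨z, hz⟩
          refine ⟨(t j).base z, ?_⟩
          rw [← Scheme.Hom.comp_apply, ← hp' j, Scheme.Hom.comp_apply, hz, ← Scheme.Hom.comp_apply, e1]
          rfl
        · rintro ⟨z, rfl⟩
          refine ⟨(s j).base z, ?_⟩
          rw [← Scheme.Hom.comp_apply, ← hp j, Scheme.Hom.comp_apply]
      rw [show Set.range (cB j).base = (Proj.basicOpen ℬ b : Set (Proj ℬ)) from
          congrArg (fun W : (Proj ℬ).Opens => (W : Set (Proj ℬ))) (Proj.opensRange_awayι ℬ b hb hm),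
        show Set.range (cA j).base = (Proj.basicOpen 𝒜 (φ b) : Set (Proj 𝒜)) from
          congrArg (fun W : (Proj 𝒜).Opens => (W : Set (Proj 𝒜))) (Proj.opensRange_awayι 𝒜 (φ b) _ _)] at h1
      exact not_iff_not.1 h1
    have hhom : ∀ (m : ℕ) (b : B), b ∈ ℬ m →
        (b ∈ (p.base x).asHomogeneousIdeal.toIdeal ↔ φ b ∈ x.asHomogeneousIdeal.toIdeal) := by
      intro m b hb
      obtain ⟨i, g, hi, hg, hgx⟩ := exists_pos_not_mem ℬ (p.base x)
      have hgx' := fun h => hgx ((hpre i g hi hg).2 h)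
      have h2 := hpre (m + i) (b * g) (Nat.add_pos_right m hi) (SetLike.mul_mem_graded hb hg)
      rw [map_mul] at h2
      exact ⟨fun h => (x.isPrime.mem_or_mem (h2.1 (Ideal.mul_mem_right _ _ h))).resolve_right hgx',
        fun h => ((p.base x).isPrime.mem_or_mem (h2.2 (Ideal.mul_mem_right _ _ h))).resolve_right hgx⟩
    show (p.base x).asHomogeneousIdeal.toIdeal = Ideal.comap φ x.asHomogeneousIdeal.toIdeal
    ext b
    rw [Ideal.mem_comap]
    constructor
    · intro hb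
      rw [← DirectSum.sum_support_decompose ℬ b, map_sum]
      exact sum_mem fun m _ => (hhom m _ (Subtype.mem _)).1 ((p.base x).asHomogeneousIdeal.isHomogeneous m hb)
    · intro hb
      rw [← DirectSum.sum_support_decompose ℬ b]
      refine sum_mem fun m _ => (hhom m _ (Subtype.mem _)).2 ?_
      have : φ (decompose ℬ b m : B) = (decompose 𝒜 (φ b) (m * d) : A) := by
        conv_rhs => rw [← DirectSum.sum_support_decompose ℬ b, map_sum, decompose_sum, DFinsupp.finsetSum_apply,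
          AddSubmonoidClass.coe_finsetSum]
        rw [Finset.sum_eq_single m]
        · rw [decompose_of_mem_same 𝒜 (deg_mem hdeg (Subtype.mem _))]
        · intro i _ hi
          exact decompose_of_mem_ne 𝒜 (deg_mem hdeg (Subtype.mem _)) fun h => hi (Nat.eq_of_mul_eq_mul_right hd h)
        · intro hm
          rw [DFinsupp.notMem_support_iff.1 hm, ZeroMemClass.coe_zero, map_zero, decompose_zero, DirectSum.zero_apply,
            ZeroMemClass.coe_zero]
      rw [this]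
      exact x.asHomogeneousIdeal.isHomogeneous _ hb
  · have hθeq : θ = CommRingCat.ofHom (θf g n hg).toRingHom :=
      CommRingCat.hom_ext (RingHom.ext fun z => val_injective _ (by
        rw [CommRingCat.hom_ofHom]
        exact (RingHom.congr_fun hθ' z).trans (hθ g n hg z).symm))
    rw [hθeq]
    exact hp ⟨(n, g), hn, hg⟩

end Groth.Agent.S3580
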