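import Groth.Statements.S3581
import Mathlib

set_option autoImplicit false
universe u
open CategoryTheory CategoryTheory.Limits AlgebraicGeometry
open EGA2

namespace Groth.Agent.S3581

/-- Over an affine base Spec A, Proj of the graded polynomial algebra A[T] (T of degree one) is
identified with Spec A by its structure morphism: the structure morphism from projective 0-space
over A to Spec A is an isomorphism. -/
theorem result (A : Type u) [CommRing A] :
    IsIso (CohB1.ProjSpace.toSpec 0 A) := by
  classical
  let X0 : MvPolynomial (Fin 1) A := MvPolynomial.X 0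
  have hX : X0 ∈ (CohB1.polyGrading 0 A) 1 := MvPolynomial.isHomogeneous_X A 0
  have hspan : (HomogeneousIdeal.irrelevant (CohB1.polyGrading 0 A)).toIdeal ≤ Ideal.span (Set.range fun _ : Unit => X0) := by
    intro z hz
    rw [Set.range_const]
    have h0 : MvPolynomial.constantCoeff z = 0 := by
      have := (HomogeneousIdeal.mem_irrelevant_iff (CohB1.polyGrading 0 A) z).1 hz
      rw [GradedRing.proj_apply] at this
      erw [MvPolynomial.decomposition.decompose'_apply] at this
      rw [MvPolynomial.homogeneousComponent_zero] at this
      simpa [MvPolynomial.constantCoeff_eq] using this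
    show z ∈ Ideal.span {X0}
    rw [← Set.image_singleton, MvPolynomial.mem_ideal_span_X_image]
    intro m hm
    refine ⟨0, rfl, fun h => MvPolynomial.mem_support_iff.1 hm ?_⟩
    have : m = 0 := Finsupp.ext fun i => by rw [Subsingleton.elim i 0]; exact h
    rw [this, ← MvPolynomial.constantCoeff_eq]
    exact h0
  have htop : Proj.basicOpen (CohB1.polyGrading 0 A) X0 = ⊤ := by
    have := Proj.iSup_basicOpen_eq_top (CohB1.polyGrading 0 A) (fun _ : Unit => X0) hspan
    rwa [iSup_const] at this
  haveI : IsIso (Proj.basicOpen (CohB1.polyGrading 0 A) X0).ι := by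
    rw [htop]
    exact inferInstanceAs (IsIso (Scheme.topIso _).hom)
  haveI : IsIso (Proj.awayι (CohB1.polyGrading 0 A) X0 hX Nat.one_pos) := by
    rw [← Proj.basicOpenIsoSpec_inv_ι]
    infer_instance
  let ψ : A →+* HomogeneousLocalization.Away (CohB1.polyGrading 0 A) X0 :=
    (HomogeneousLocalization.fromZeroRingHom (CohB1.polyGrading 0 A) _).comp (algebraMap A ((CohB1.polyGrading 0 A) 0))
  have hv : ∀ a, (ψ a).val = algebraMap (MvPolynomial (Fin 1) A) (Localization.Away X0) (MvPolynomial.C a) := by
    intro a
    show (HomogeneousLocalization.mk _).val = _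
    rw [HomogeneousLocalization.val_mk, Localization.mk_eq_mk', ← IsLocalization.mk'_one (M := Submonoid.powers X0) (Localization.Away X0) (MvPolynomial.C a)]
    rfl
  have hψ : Function.Bijective ψ := by
    constructor
    · intro a b h
      have h' := congrArg HomogeneousLocalization.val h
      rw [hv, hv] at h'
      obtain ⟨⟨_, n, rfl⟩, hn⟩ := (IsLocalization.eq_iff_exists (Submonoid.powers X0) (Localization.Away X0)).1 h'
      have := congrArg (MvPolynomial.coeff (Finsupp.single 0 n)) hn
      simpa [X0, MvPolynomial.X_pow_eq_monomial, mul_comm _ (MvPolynomial.C _), MvPolynomial.C_mul_monomial] using this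
    · intro x
      obtain ⟨n, z, hz, rfl⟩ := HomogeneousLocalization.Away.mk_surjective (CohB1.polyGrading 0 A) hX x
      refine ⟨MvPolynomial.coeff (Finsupp.single 0 n) z, HomogeneousLocalization.val_injective _ ?_⟩
      have hz' : z = MvPolynomial.C (MvPolynomial.coeff (Finsupp.single 0 n) z) * X0 ^ n := by
        rw [MvPolynomial.X_pow_eq_monomial, MvPolynomial.C_mul_monomial, mul_one]
        ext m
        rw [MvPolynomial.coeff_monomial]
        split_ifs with h
        · rw [h]
        · refine MvPolynomial.IsHomogeneous.coeff_eq_zero (φ := z) (n := n • 1) hz ?_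
          intro hd
          refine h ?_
          refine Finsupp.ext fun i => ?_
          rw [Subsingleton.elim i 0, Finsupp.single_eq_same]
          have : m.degree = m 0 := by
            rw [Finsupp.degree_eq_sum, Fin.sum_univ_one]
          simp at hd
          omega
      rw [hv, HomogeneousLocalization.Away.val_mk, Localization.mk_eq_mk']
      refine (IsLocalization.eq_mk'_iff_mul_eq).2 ?_
      rw [← map_mul]
      exact congrArg _ hz'.symm
  haveI : IsIso (CommRingCat.ofHom ψ) := (ConcreteCategory.isIso_iff_bijective _).2 hψ
  have hfac : Proj.awayι (CohB1.polyGrading 0 A) X0 hX Nat.one_pos ≫ CohB1.ProjSpace.toSpec 0 A = Spec.map (CommRingCat.ofHom ψ) := by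
    rw [CohB1.ProjSpace.toSpec]
    erw [← Category.assoc, Proj.awayι_toSpecZero, ← Spec.map_comp]
    rfl
  haveI : IsIso (Proj.awayι (CohB1.polyGrading 0 A) X0 hX Nat.one_pos ≫ CohB1.ProjSpace.toSpec 0 A) := by
    rw [hfac]
    infer_instance
  exact IsIso.of_isIso_comp_left (Proj.awayι (CohB1.polyGrading 0 A) X0 hX Nat.one_pos) _

end Groth.Agent.S3581
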