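import Groth.Statements.S3582
import Mathlib

set_option autoImplicit false
universe u
open CategoryTheory CategoryTheory.Limits AlgebraicGeometry
open EGA2

namespace Groth.Agent.S3582

open CategoryTheory Limits AlgebraicGeometry

theorem surjective_toSpec (n : ℕ) (R : Type u) [CommRing R] : Surjective (CohB1.ProjSpace.toSpec n R) := by
  let f : MvPolynomial (Fin (n + 1)) R := MvPolynomial.X 0
  have hf : f ∈ CohB1.polyGrading n R 1 := MvPolynomial.isHomogeneous_X R 0
  let ev : MvPolynomial (Fin (n + 1)) R →+* R := (MvPolynomial.aeval (fun i => if i = 0 then (1 : R) else 0)).toRingHom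
  have hev : IsUnit (ev f) := by simp [ev, f]
  let ψ : HomogeneousLocalization.Away (CohB1.polyGrading n R) f →+* R :=
    (IsLocalization.Away.lift (S := Localization.Away f) f hev).comp
      (algebraMap (HomogeneousLocalization.Away (CohB1.polyGrading n R) f) (Localization.Away f))
  have key : ψ.comp ((HomogeneousLocalization.fromZeroRingHom (CohB1.polyGrading n R) _).comp
      (algebraMap R (CohB1.polyGrading n R 0))) = RingHom.id R := by
    ext r
    simp only [ψ, RingHom.comp_apply, HomogeneousLocalization.algebraMap_apply, RingHom.id_apply]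
    have : HomogeneousLocalization.val ((HomogeneousLocalization.fromZeroRingHom (CohB1.polyGrading n R) (Submonoid.powers f))
        (algebraMap R (CohB1.polyGrading n R 0) r)) = algebraMap (MvPolynomial (Fin (n + 1)) R) (Localization.Away f) (MvPolynomial.C r) := by
      show Localization.mk _ _ = _
      rw [← Localization.mk_one_eq_algebraMap]
      rfl
    rw [this, IsLocalization.Away.lift_eq]
    simp [ev]
  refine ⟨fun y => ⟨(Spec.map (CommRingCat.ofHom ψ) ≫ Proj.awayι (CohB1.polyGrading n R) f hf one_pos) y, ?_⟩⟩
  show ((Spec.map (CommRingCat.ofHom ψ) ≫ Proj.awayι (CohB1.polyGrading n R) f hf one_pos) ≫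
    Proj.toSpecZero (CohB1.polyGrading n R) ≫ Spec.map (CommRingCat.ofHom (algebraMap R (CohB1.polyGrading n R 0)))) y = y
  rw [Category.assoc, Proj.awayι_toSpecZero_assoc,
    ← Spec.map_comp, ← Spec.map_comp]
  rw [← CommRingCat.ofHom_comp, ← CommRingCat.ofHom_comp, key]
  simp


/-- For every scheme Y and every r ≥ 0 the structure morphism from projective r-space over Y to Y is
surjective. -/
theorem result (r : ℕ) (Y : Scheme.{u}) :
    Surjective (CohB1.ProjSpaceOver.toBase r Y) := by
  haveI := surjective_toSpec r (ULift.{u} ℤ)
  exact MorphismProperty.pullback_snd (P := @Surjective) _ _ inferInstance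

end Groth.Agent.S3582
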