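import Groth.Statements.S3588
import Mathlib
import Groth.Agent.Lib.LProjTop
import Groth.Agent.Lib.LProjMap

set_option autoImplicit false
universe u
open CategoryTheory CategoryTheory.Limits AlgebraicGeometry
open EGA2

namespace Groth.Agent.S3588

/-- Let S be a graded ring, N_+ the set of nilpotent elements of S_+ (an ideal of S), and S → S/N_+ the
quotient (here: any surjective homomorphism of graded rings φ : S → S' whose kernel is N_+). Then
the induced morphism Proj S' → Proj S is a closed immersion which is a homeomorphism of the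
underlying spaces, and Proj S' is reduced; thus Proj S' is the reduced closed subscheme (Proj
S)_red. -/
theorem result {R A : Type u} [CommRing R] [CommRing A] [Algebra R A] (𝒜 : ℕ → Submodule R A) [GradedAlgebra 𝒜]
    {B : Type u} [CommRing B] [Algebra R B] (ℬ : ℕ → Submodule R B) [GradedAlgebra ℬ]
    (φ : 𝒜 →+*ᵍ ℬ) (hsurj : Function.Surjective φ)
    (hker : ∀ a : A, φ a = 0 ↔ a ∈ (HomogeneousIdeal.irrelevant 𝒜).toIdeal ∧ IsNilpotent a)
    (hφ : HomogeneousIdeal.irrelevant ℬ ≤ (HomogeneousIdeal.irrelevant 𝒜).map φ) :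
    IsClosedImmersion (Proj.map φ hφ) ∧ IsHomeomorph (Proj.map φ hφ).base ∧
      AlgebraicGeometry.IsReduced (Proj ℬ) := by
  classical
  haveI := LProjMap.isClosedImmersion φ hφ fun d s _ hs => LProjMap.away_map_surjective φ hsurj hs
  have hkerle : ∀ (y : ProjectiveSpectrum 𝒜), RingHom.ker φ.toRingHom ≤ y.asHomogeneousIdeal.toIdeal := fun y a ha => by
    obtain ⟨-, n, hn⟩ := (hker a).1 ha
    exact y.isPrime.mem_of_pow_mem n (by rw [hn]; exact zero_mem _)
  haveI : Surjective (Proj.map φ hφ) := ⟨fun y => by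
    let q : HomogeneousIdeal ℬ := y.asHomogeneousIdeal.map φ
    have hq : q.toIdeal = Ideal.map φ.toRingHom y.asHomogeneousIdeal.toIdeal := rfl
    have hcomap : Ideal.comap φ.toRingHom q.toIdeal = y.asHomogeneousIdeal.toIdeal := by
      rw [hq]
      refine (Ideal.comap_map_of_surjective φ.toRingHom hsurj _).trans ?_
      exact sup_eq_left.2 (hkerle y)
    haveI := y.isPrime
    have hprime : q.toIdeal.IsPrime := hq ▸ Ideal.map_isPrime_of_surjective hsurj (hkerle y)
    have hne : ¬ HomogeneousIdeal.irrelevant ℬ ≤ q := fun hle => y.not_irrelevant_le fun a ha => show a ∈ y.asHomogeneousIdeal.toIdeal by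
      rw [← hcomap]
      refine hle ?_
      show GradedRing.proj ℬ 0 (φ a) = 0
      rw [GradedRing.proj_apply, ← GradedRingHom.map_directSumDecompose,
        show (DirectSum.decompose 𝒜 a 0 : A) = 0 from (HomogeneousIdeal.mem_irrelevant_iff 𝒜 a).1 ha, map_zero]
    exact ⟨⟨q, hprime, hne⟩, ProjectiveSpectrum.ext (HomogeneousIdeal.toIdeal_injective hcomap)⟩⟩
  refine ⟨inferInstance, isHomeomorph_iff_isEmbedding_surjective.2
    ⟨(Proj.map φ hφ).isClosedEmbedding.isEmbedding, (Proj.map φ hφ).surjective⟩, ?_⟩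
  refine LProjTop.isReduced ℬ fun b hb ⟨k, hk⟩ => ?_
  obtain ⟨a, rfl⟩ := hsurj b
  let a' : A := a - DirectSum.decompose 𝒜 a 0
  have hb0 : φ (DirectSum.decompose 𝒜 a 0 : A) = 0 := by
    rw [GradedRingHom.map_directSumDecompose]
    exact (HomogeneousIdeal.mem_irrelevant_iff ℬ _).1 hb
  have ha' : a' ∈ (HomogeneousIdeal.irrelevant 𝒜).toIdeal := by
    show GradedRing.proj 𝒜 0 a' = 0
    rw [GradedRing.proj_apply, DirectSum.decompose_sub, DirectSum.sub_apply, AddSubgroupClass.coe_sub,
      DirectSum.decompose_coe, DirectSum.of_eq_same, sub_self]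
  have he : φ a' = φ a := by rw [map_sub, hb0, sub_zero]
  obtain ⟨-, n, hn⟩ := (hker (a' ^ k)).1 (by rw [map_pow, he, hk])
  rw [← he]
  exact (hker a').2 ⟨ha', k * n, by rw [pow_mul, hn]⟩

end Groth.Agent.S3588
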