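import Groth.Statements.S3595
import Mathlib
import Groth.Agent.Lib.LGlueMul

set_option autoImplicit false
universe u
open CategoryTheory CategoryTheory.Limits AlgebraicGeometry
open EGA2

namespace Groth.Agent.S3595

open HomogeneousLocalization in
theorem away_square {R A : Type u} [CommRing R] [CommRing A] [Algebra R A] {𝒜 : ℕ → Submodule R A} [GradedAlgebra 𝒜]
    {B : Type u} [CommRing B] [Algebra R B] {ℬ : ℕ → Submodule R B} [GradedAlgebra ℬ] (φ : 𝒜 →+*ᵍ ℬ)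
    {d e : ℕ} {f g x : A} (hf : f ∈ 𝒜 d) (hg : g ∈ 𝒜 e) (hx : x = f * g) (hxφ : φ x = φ f * φ g) :
    (Away.map φ x).comp (awayMap 𝒜 hg hx) = (awayMap ℬ (φ.2 hg) hxφ).comp (Away.map φ f) := by
  subst hx
  refine RingHom.ext fun a => val_injective _ ?_
  obtain ⟨n, b, hb, rfl⟩ := Away.mk_surjective 𝒜 hf a
  have hb' : b * g ^ n ∈ 𝒜 (n • (d + e)) := by
    rw [smul_add]
    exact SetLike.mul_mem_graded hb (SetLike.pow_mem_graded n hg)
  have e1 : awayMap 𝒜 hg rfl (Away.mk 𝒜 hf n b hb) = Away.mk 𝒜 (SetLike.mul_mem_graded hf hg) n (b * g ^ n) hb' :=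
    val_injective _ (val_awayMap_mk 𝒜 hg rfl (n • d) ⟨b, hb⟩ n (SetLike.pow_mem_graded n hf))
  rw [RingHom.comp_apply, RingHom.comp_apply, e1, Away.map_mk, Away.map_mk, Away.val_mk]
  refine Eq.trans ?_ (val_awayMap_mk ℬ (φ.2 hg) hxφ (n • d) ⟨φ b, φ.2 hb⟩ n (SetLike.pow_mem_graded n (φ.2 hf))).symm
  rw [Localization.mk_eq_mk_iff, Localization.r_iff_exists]
  refine ⟨1, ?_⟩
  simp [map_mul, map_pow]

theorem awayι_congr {R A : Type u} [CommRing R] [CommRing A] [Algebra R A] (𝒜 : ℕ → Submodule R A) [GradedAlgebra 𝒜]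
    (f : A) {m m' : ℕ} (h : m = m') (h1 : f ∈ 𝒜 m) (h2 : 0 < m) (h1' : f ∈ 𝒜 m') (h2' : 0 < m') :
    Proj.awayι 𝒜 f h1 h2 = Proj.awayι 𝒜 f h1' h2' := by
  subst h
  rfl


/-- Let φ : S′ → S be a homomorphism of graded rings and G(φ) ⊆ Proj S the open union of the basic opens
D_+(φ(f′)) for f′ ∈ S′ homogeneous of positive degree. There is exactly one morphism p : G(φ) → Proj
S′ whose restriction to each chart Spec S_(φ(f′)) of G(φ) is Spec of the induced map S′_(f′) →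
S_(φ(f′)) followed by Spec S′_(f′) ≅ D_+(f′) ⊆ Proj S′. -/
theorem result {R A : Type u} [CommRing R] [CommRing A] [Algebra R A] (𝒜 : ℕ → Submodule R A) [GradedAlgebra 𝒜]
    {B : Type u} [CommRing B] [Algebra R B] (ℬ : ℕ → Submodule R B) [GradedAlgebra ℬ] (φ : 𝒜 →+*ᵍ ℬ) :
    ∃! p : (PCone.dom φ : Scheme.{u}) ⟶ Proj 𝒜,
      ∀ (d : ℕ) (f : A) (hd : 0 < d) (hf : f ∈ 𝒜 d),
        PCone.chart φ hf hd ≫ p =
          Spec.map (CommRingCat.ofHom (HomogeneousLocalization.Away.map φ f)) ≫ Proj.awayι 𝒜 f hf hd := by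
  classical
  let J : Type u := {x : ℕ × A // 0 < x.1 ∧ x.2 ∈ 𝒜 x.1}
  haveI hoi : ∀ j : J, IsOpenImmersion (PCone.chart φ j.2.2 j.2.1) := fun j => by
    haveI : IsOpenImmersion (PCone.chart φ j.2.2 j.2.1 ≫ (PCone.dom φ).ι) := by
      rw [PCone.chart, IsOpenImmersion.lift_fac]
      infer_instance
    exact IsOpenImmersion.of_comp _ (PCone.dom φ).ι
  have hrange : ∀ j : J, Set.range (PCone.chart φ j.2.2 j.2.1).base = (PCone.dom φ).ι ⁻¹' (Proj.basicOpen ℬ (φ j.1.2) : Set (Proj ℬ)) := by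
    intro j
    rw [← Proj.opensRange_awayι ℬ (φ j.1.2) (φ.2 j.2.2) j.2.1]
    show _ = (PCone.dom φ).ι ⁻¹' Set.range (Proj.awayι ℬ (φ j.1.2) (φ.2 j.2.2) j.2.1).base
    rw [show Proj.awayι ℬ (φ j.1.2) (φ.2 j.2.2) j.2.1 = PCone.chart φ j.2.2 j.2.1 ≫ (PCone.dom φ).ι from
      (IsOpenImmersion.lift_fac _ _ _).symm, Scheme.Hom.comp_base, TopCat.coe_comp, Set.range_comp,
      Set.preimage_image_eq _ (PCone.dom φ).ι.isOpenEmbedding.injective]
  obtain ⟨p, hp, huniq⟩ := LGlueMul.existsUnique (J := J) _ (fun j => PCone.chart φ j.2.2 j.2.1)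
    (fun w => by
      obtain ⟨⟨f, d, hd, hf⟩, hw⟩ := TopologicalSpace.Opens.mem_iSup.1 w.2
      exact ⟨⟨(d, f), hd, hf⟩, by rw [hrange]; exact hw⟩)
    (fun j => Spec.map (CommRingCat.ofHom (HomogeneousLocalization.Away.map φ j.1.2)) ≫ Proj.awayι 𝒜 j.1.2 j.2.2 j.2.1)
    (by
      rintro ⟨⟨d, f⟩, hd, hf⟩ ⟨⟨e, g⟩, he, hg⟩
      have hx : φ (f * g) = φ f * φ g := map_mul φ f g
      have hx' : φ (f * g) = φ g * φ f := by rw [hx, mul_comm]
      refine ⟨⟨(d + e, f * g), Nat.add_pos_left hd e, SetLike.mul_mem_graded hf hg⟩,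
        Spec.map (CommRingCat.ofHom (HomogeneousLocalization.awayMap ℬ (φ.2 hg) hx)),
        Spec.map (CommRingCat.ofHom (HomogeneousLocalization.awayMap ℬ (φ.2 hf) hx')), ?_, ?_, ?_, ?_, ?_⟩
      · rw [← cancel_mono (PCone.dom φ).ι, Category.assoc, PCone.chart, PCone.chart, IsOpenImmersion.lift_fac, IsOpenImmersion.lift_fac]
        exact Proj.SpecMap_awayMap_awayι ℬ (φ.2 hf) hd (φ.2 hg) hx
      · rw [← cancel_mono (PCone.dom φ).ι, Category.assoc, PCone.chart, PCone.chart, IsOpenImmersion.lift_fac, IsOpenImmersion.lift_fac]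
        exact Proj.SpecMap_awayMap_awayι ℬ (φ.2 hg) he (φ.2 hf) hx'
      · rw [← Category.assoc, ← Spec.map_comp, ← CommRingCat.ofHom_comp, ← away_square φ hf hg rfl hx,
          CommRingCat.ofHom_comp, Spec.map_comp, Category.assoc, Proj.SpecMap_awayMap_awayι]
      · rw [← Category.assoc, ← Spec.map_comp, ← CommRingCat.ofHom_comp,
          ← away_square φ hg hf (mul_comm f g) hx', CommRingCat.ofHom_comp, Spec.map_comp, Category.assoc,
          Proj.SpecMap_awayMap_awayι, awayι_congr 𝒜 (f * g) (Nat.add_comm e d) _ _ (SetLike.mul_mem_graded hf hg) (Nat.add_pos_left hd e)]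
      · rintro w ⟨h1, h2⟩
        rw [hrange] at h1 h2 ⊢
        show (PCone.dom φ).ι.base w ∈ Proj.basicOpen ℬ (φ (f * g))
        rw [hx, Proj.basicOpen_mul]
        exact ⟨h1, h2⟩)
  exact ⟨p, fun d f hd hf => hp ⟨(d, f), hd, hf⟩, fun q hq => huniq q fun j => hq _ _ j.2.1 j.2.2⟩

end Groth.Agent.S3595
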