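import Groth.Statements.S3596
import Mathlib

set_option autoImplicit false
universe u
open CategoryTheory CategoryTheory.Limits AlgebraicGeometry
open EGA2

namespace Groth.Agent.S3596

/-- For a homomorphism of graded rings φ : S' → S, the induced morphism p : G(φ) → Proj S'
(characterised on the charts as in the previous result) is affine. -/
theorem result {R A : Type u} [CommRing R] [CommRing A] [Algebra R A] (𝒜 : ℕ → Submodule R A) [GradedAlgebra 𝒜]
    {B : Type u} [CommRing B] [Algebra R B] (ℬ : ℕ → Submodule R B) [GradedAlgebra ℬ] (φ : 𝒜 →+*ᵍ ℬ)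
    (p : (PCone.dom φ : Scheme.{u}) ⟶ Proj 𝒜) (hp : ∀ (d : ℕ) (f : A) (hd : 0 < d) (hf : f ∈ 𝒜 d),
        PCone.chart φ hf hd ≫ p =
          Spec.map (CommRingCat.ofHom (HomogeneousLocalization.Away.map φ f)) ≫ Proj.awayι 𝒜 f hf hd) :
    IsAffineHom p := by
  classical
  let U : (Σ i : PNat, 𝒜 i) → (Proj 𝒜).Opens := fun s => Proj.basicOpen 𝒜 (s.2 : A)
  have hU : iSup U = ⊤ := Proj.iSup_basicOpen_eq_top 𝒜 (fun s : Σ i : PNat, 𝒜 i => (s.2 : A))
    (by
      intro z hz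
      rw [← DirectSum.sum_support_decompose 𝒜 z]
      refine Ideal.sum_mem _ fun c _ => ?_
      rcases c.eq_zero_or_pos with rfl | hc
      · rw [show (DirectSum.decompose 𝒜 z 0 : A) = 0 from (HomogeneousIdeal.mem_irrelevant_iff 𝒜 z).1 hz]
        exact zero_mem _
      · exact Ideal.subset_span ⟨⟨⟨c, hc⟩, _⟩, rfl⟩)
  refine isAffineHom_of_forall_exists_isAffineOpen _ fun z => ?_
  obtain ⟨⟨⟨d, hd⟩, f, hf⟩, hz⟩ := TopologicalSpace.Opens.mem_iSup.1 (hU.ge (Set.mem_univ z : z ∈ (⊤ : (Proj 𝒜).Opens)))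
  refine ⟨_, hz, Proj.isAffineOpen_basicOpen 𝒜 f hf hd, ?_⟩
  have key : p ⁻¹ᵁ Proj.basicOpen 𝒜 f = (PCone.dom φ).ι ⁻¹ᵁ Proj.basicOpen ℬ (φ f) := by
    ext ⟨x, hx⟩
    obtain ⟨⟨g, e, he, hg⟩, hxg⟩ := TopologicalSpace.Opens.mem_iSup.1 hx
    rw [← Proj.opensRange_awayι ℬ (φ g) (φ.2 hg) he] at hxg
    obtain ⟨y, hy⟩ := hxg
    have hy' : (PCone.chart φ hg he).base y = ⟨x, hx⟩ := by
      refine (PCone.dom φ).ι.isOpenEmbedding.injective ?_
      rw [← Scheme.Hom.comp_apply, PCone.chart, IsOpenImmersion.lift_fac]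
      exact hy
    have h1 : PCone.chart φ hg he ⁻¹ᵁ (p ⁻¹ᵁ Proj.basicOpen 𝒜 f) =
        PCone.chart φ hg he ⁻¹ᵁ ((PCone.dom φ).ι ⁻¹ᵁ Proj.basicOpen ℬ (φ f)) := by
      rw [← Scheme.Hom.comp_preimage, hp e g he hg, ← Scheme.Hom.comp_preimage]
      rw [show PCone.chart φ hg he ≫ (PCone.dom φ).ι = Proj.awayι ℬ (φ g) (φ.2 hg) he from IsOpenImmersion.lift_fac _ _ _]
      rw [Scheme.Hom.comp_preimage, Proj.awayι_preimage_basicOpen 𝒜 hg he hf hd]
      erw [Proj.awayι_preimage_basicOpen ℬ (φ.2 hg) he (φ.2 hf) hd]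
      show TopologicalSpace.Opens.comap _ _ = _
      ext q
      change (HomogeneousLocalization.Away.map φ g) (HomogeneousLocalization.Away.isLocalizationElem hg hf) ∉ q.asIdeal ↔ _
      rw [show HomogeneousLocalization.Away.map φ g (HomogeneousLocalization.Away.isLocalizationElem hg hf) =
        HomogeneousLocalization.Away.isLocalizationElem (φ.2 hg) (φ.2 hf) from by
          apply HomogeneousLocalization.val_injective
          simp [HomogeneousLocalization.Away.map_mk, HomogeneousLocalization.Away.val_mk, map_pow]]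
      rfl
    have h2 := congrArg (fun W : (Spec (CommRingCat.of (HomogeneousLocalization.Away ℬ (φ g)))).Opens => y ∈ W) h1
    simp only [Scheme.Hom.mem_preimage, eq_iff_iff, hy'] at h2
    exact h2
  rw [key]
  refine (PCone.dom φ).ι.isAffineOpen_iff_of_isOpenImmersion.1 ?_
  rw [Scheme.Hom.image_preimage_eq_opensRange_inf, Scheme.Opens.opensRange_ι, inf_eq_right.2 ?_]
  · exact Proj.isAffineOpen_basicOpen ℬ _ (φ.2 hf) hd
  · exact le_iSup (fun f : {f : A // ∃ d : ℕ, 0 < d ∧ f ∈ 𝒜 d} => Proj.basicOpen ℬ (φ f.1)) ⟨f, d, hd, hf⟩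

end Groth.Agent.S3596
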