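import Groth.Statements.S3805
import Mathlib
import Groth.Agent.Lib.H4PP16


set_option autoImplicit false
universe u
open scoped TensorProduct
open PP16

namespace Groth.Agent.S3805

/-- For an A-algebra B, the image of the principal-part map d^n : B → P^n_{B/A} generates P^n_{B/A} as a
B-module (for the B-module structure through the first factor). -/
theorem result (n : ℕ) (A B : Type u) [CommRing A] [CommRing B] [Algebra A B] :
    Submodule.span B (Set.range (PP16.dn n A B)) = ⊤ := by
  rw [eq_top_iff]
  intro x _
  obtain ⟨x, rfl⟩ := Ideal.Quotient.mk_surjective x
  induction x using TensorProduct.induction_on with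
  | zero => simp
  | tmul b c =>
    rw [H4PP16.mk_tmul, ← Algebra.smul_def]
    exact Submodule.smul_mem _ b (Submodule.subset_span ⟨c, rfl⟩)
  | add x y hx hy =>
    rw [map_add]
    exact add_mem (hx trivial) (hy trivial)

end Groth.Agent.S3805
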