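import Groth.Statements.S3807
import Mathlib
import Groth.Agent.Lib.H4PP16


set_option autoImplicit false
universe u
open scoped TensorProduct
attribute [local instance] PP16.mapAlgebra PP16.isScalarTower_mapAlgebra
open PP16

namespace Groth.Agent.S3807

set_option backward.isDefEq.respectTransparency false
theorem main (n : ℕ) (A B B' : Type u) [CommRing A] [CommRing B] [Algebra A B]
    [CommRing B'] [Algebra B B'] [Algebra A B'] [IsScalarTower A B B'] (S : Submonoid B) [IsLocalization S B']
    [Algebra (PP16.P n A B) (PP16.P n A B')]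
    (halg : ∀ x, algebraMap (PP16.P n A B) (PP16.P n A B') x = PP16.map n A B A B' x)
    (L : Type u) [CommRing L] [Algebra (PP16.P n A B) L]
    [IsLocalization (S.map (algebraMap B (PP16.P n A B))) L] :
    Nonempty (L ≃ₐ[PP16.P n A B] PP16.P n A B') := by
  let M := S.map (algebraMap B (PP16.P n A B))
  let j : PP16.P n A B →+* L := algebraMap _ L
  let g1 : B →+* L := j.comp (algebraMap B (PP16.P n A B))
  let g2 : B →+* L := j.comp (PP16.dn n A B).toRingHom
  let N : Ideal L := (PP16.augIdeal n A B).map j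
  have hN : N ^ (n + 1) = ⊥ := by
    show (PP16.augIdeal n A B).map j ^ (n + 1) = ⊥
    rw [← Ideal.map_pow, H4PP16.augIdeal_pow, Ideal.map_bot]
  have hu1 : ∀ s : S, IsUnit (g1 s) := fun s =>
    IsLocalization.map_units L (⟨_, ⟨s, s.2, rfl⟩⟩ : M)
  have hg : ∀ b, g2 b - g1 b ∈ N := fun b => by
    change j (PP16.dn n A B b) - j (algebraMap B (PP16.P n A B) b) ∈ N
    rw [← map_sub]
    exact Ideal.mem_map_of_mem j (H4PP16.dn_sub_mem n A B b)
  have hu2 : ∀ s : S, IsUnit (g2 s) := fun s =>
    H4PP16.isUnit_of_sub_nilpotent (hu1 s) ⟨n + 1, by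
      have := Ideal.pow_mem_pow (hg s) (n + 1)
      rwa [hN] at this⟩
  let f1 : B' →+* L := IsLocalization.lift hu1
  let f2 : B' →+* L := IsLocalization.lift hu2
  have hf1 : ∀ b, f1 (algebraMap B B' b) = g1 b := IsLocalization.lift_eq hu1
  have hf2 : ∀ b, f2 (algebraMap B B' b) = g2 b := IsLocalization.lift_eq hu2
  letI : Algebra B' L := f1.toAlgebra
  letI : Algebra A L := (f1.comp (algebraMap A B')).toAlgebra
  haveI : IsScalarTower A B' L := IsScalarTower.of_algebraMap_eq fun _ => rfl
  have hA : ∀ a, f2 (algebraMap A B' a) = f1 (algebraMap A B' a) := fun a => by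
    rw [IsScalarTower.algebraMap_apply A B B', hf1, hf2]
    change j (PP16.dn n A B (algebraMap A B a)) = j (algebraMap B (PP16.P n A B) (algebraMap A B a))
    rw [AlgHom.commutes, ← IsScalarTower.algebraMap_apply A B (PP16.P n A B)]
  let τ : B' →ₐ[A] L := { f2 with commutes' := hA }
  have hτ : (Ideal.Quotient.mk N).comp f2 = (Ideal.Quotient.mk N).comp f1 :=
    IsLocalization.ringHom_ext S (RingHom.ext fun b => by
      rw [RingHom.comp_apply, RingHom.comp_apply, RingHom.comp_apply, RingHom.comp_apply, hf1, hf2]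
      exact Ideal.Quotient.eq.2 (hg b))
  let Φ := H4PP16.lift (n := n) τ N hN fun b => Ideal.Quotient.eq.1 (RingHom.congr_fun hτ b)
  have hΦd : ∀ b', Φ (PP16.dn n A B' b') = f2 b' := fun b' => H4PP16.lift_dn _ _ _ _ b'
  have hΦa : ∀ b', Φ (algebraMap B' (PP16.P n A B') b') = f1 b' := fun b' => AlgHom.commutes Φ b'
  let m : PP16.P n A B →+* PP16.P n A B' := (PP16.map n A B A B').toRingHom
  have hum : ∀ y : M, IsUnit (m y) := by
    rintro ⟨_, s, hs, rfl⟩
    change IsUnit (PP16.map n A B A B' (algebraMap B (PP16.P n A B) s))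
    rw [PP16.map_algebraMap]
    exact (IsLocalization.map_units B' ⟨s, hs⟩).map _
  let Ψ : L →+* PP16.P n A B' := IsLocalization.lift hum
  have hΨ : ∀ x, Ψ (j x) = PP16.map n A B A B' x := IsLocalization.lift_eq hum
  have h1 : Ψ.comp Φ.toRingHom = RingHom.id _ := by
    have e1 : (Ψ.comp f1) = algebraMap B' (PP16.P n A B') := IsLocalization.ringHom_ext S (RingHom.ext fun b => by
      rw [RingHom.comp_apply, RingHom.comp_apply, hf1, RingHom.comp_apply]
      change Ψ (j _) = _
      rw [hΨ, PP16.map_algebraMap]; rfl)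
    have e2 : (Ψ.comp f2) = (PP16.dn n A B').toRingHom := IsLocalization.ringHom_ext S (RingHom.ext fun b => by
      rw [RingHom.comp_apply, RingHom.comp_apply, hf2, RingHom.comp_apply]
      change Ψ (j _) = _
      exact (hΨ _).trans (PP16.map_dn n A B A B' b))
    refine H4PP16.hom_ext (fun b' => ?_) fun b' => ?_
    · change Ψ (Φ _) = _
      rw [hΦa]
      exact RingHom.congr_fun e1 b'
    · change Ψ (Φ _) = _
      rw [hΦd]
      exact RingHom.congr_fun e2 b'
  have h2 : Φ.toRingHom.comp Ψ = RingHom.id _ := by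
    refine IsLocalization.ringHom_ext M ?_
    refine H4PP16.hom_ext (fun b => ?_) fun b => ?_
    · change Φ (Ψ (j _)) = j _
      rw [hΨ, PP16.map_algebraMap, hΦa, hf1]
      rfl
    · change Φ (Ψ (j _)) = j _
      rw [hΨ, PP16.map_dn, hΦd, hf2]
      rfl
  exact ⟨{ RingEquiv.ofRingHom Ψ Φ.toRingHom h1 h2 with
    commutes' := fun x => (hΨ x).trans (halg x).symm }⟩

/-- Let B be an A-algebra, S a multiplicative subset of B and B' = S⁻¹B. Then the canonical map
S⁻¹P^n_{B/A} → P^n_{B'/A} induced by functoriality is an isomorphism: P^n_{B'/A} is the localization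
of P^n_{B/A} at the image of S. -/
theorem result (n : ℕ) (A B B' : Type u) [CommRing A] [CommRing B] [Algebra A B]
    [CommRing B'] [Algebra B B'] [Algebra A B'] [IsScalarTower A B B'] (S : Submonoid B) [IsLocalization S B'] :
    IsLocalization (S.map (algebraMap B (PP16.P n A B))) (PP16.P n A B') := by
  obtain ⟨e⟩ := main n A B B' S (fun _ => rfl) (Localization (S.map (algebraMap B (PP16.P n A B))))
  exact IsLocalization.isLocalization_of_algEquiv _ e

end Groth.Agent.S3807
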