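import Groth.Statements.S3808
import Mathlib
import Groth.Agent.Lib.H4PP16


set_option autoImplicit false
universe u
open scoped TensorProduct
open PP16

namespace Groth.Agent.S3808

/-- Let A → B be a ring map, R a multiplicative subset of A, S one of B containing the image of R, and
A' = R⁻¹A, B' = S⁻¹B with the induced map A' → B'. Then the canonical map P^n_{B'/A} → P^n_{B'/A'}
is bijective. -/
theorem result (n : ℕ) (A B A' B' : Type u) [CommRing A] [CommRing B] [Algebra A B]
    [CommRing A'] [CommRing B'] [Algebra A A'] [Algebra B B'] [Algebra A' B'] [Algebra A B']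
    [IsScalarTower A A' B'] [IsScalarTower A B B'] (R : Submonoid A) (S : Submonoid B) [IsLocalization R A']
    [IsLocalization S B'] (hRS : ∀ r ∈ R, algebraMap A B r ∈ S) :
    Function.Bijective (PP16.map n A B' A' B') := by
  have hs : Function.Surjective (algebraMap B' B') := fun x => ⟨x, rfl⟩
  refine ⟨?_, H4PP16.map_surjective n A B' A' B' hs⟩
  rw [RingHom.injective_iff_ker_eq_bot, H4PP16.ker_map n A B' A' B' hs _ (H4PP16.ker_tensorMap_self A A' B'),
    Ideal.map_span, ← Set.range_comp, Ideal.span_eq_bot]
  rintro _ ⟨a, rfl⟩
  have := IsLocalization.tensorProduct_compatibleSMul R A' B' B'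
  simp only [Function.comp_apply]
  rw [show algebraMap A' B' a = a • (1 : B') by rw [Algebra.smul_def, mul_one],
    TensorProduct.smul_tmul, sub_self, map_zero]

end Groth.Agent.S3808
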