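import Groth.Statements.S3809
import Mathlib
import Groth.Agent.Lib.H4PP16


set_option autoImplicit false
universe u
open scoped TensorProduct
open PP16

namespace Groth.Agent.S3809

/-- Let A → B → C be ring maps. Then the canonical map P^n_{C/A} → P^n_{C/B} is surjective, and its
kernel is the ideal generated by the image, under the canonical map P^n_{B/A} → P^n_{C/A}, of the
augmentation ideal of P^n_{B/A}. -/
theorem result (n : ℕ) (A B C : Type u) [CommRing A] [CommRing B] [CommRing C]
    [Algebra A B] [Algebra B C] [Algebra A C] [IsScalarTower A B C] :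
    Function.Surjective (PP16.map n A C B C) ∧
      RingHom.ker (PP16.map n A C B C) = (PP16.augIdeal n A B).map (PP16.map n A B A C) := by
  have hs : Function.Surjective (algebraMap C C) := fun x => ⟨x, rfl⟩
  refine ⟨H4PP16.map_surjective n A C B C hs, ?_⟩
  rw [H4PP16.ker_map n A C B C hs _ (H4PP16.ker_tensorMap_self A B C), Ideal.map_span, PP16.augIdeal]
  refine Eq.trans ?_ (Ideal.map_map (I := KaehlerDifferential.ideal A B) _ (PP16.map n A B A C).toRingHom).symm
  refine Eq.trans ?_ (((congrArg (Ideal.map _) (KaehlerDifferential.span_range_eq_ideal A B).symm).trans (Ideal.map_span _ _)).symm)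
  rw [← Set.range_comp, ← Set.range_comp]
  congr 1
  refine congrArg Set.range (funext fun b => ?_)
  simp only [Function.comp_apply, RingHom.comp_apply, AlgHom.toRingHom_eq_coe, RingHom.coe_coe, map_sub, PP16.map_mk, PP16.tensorMap_tmul, map_one]

end Groth.Agent.S3809
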