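import Groth.Statements.S3810
import Mathlib
import Groth.Agent.Lib.H4PP16


set_option autoImplicit false
universe u
open scoped TensorProduct
open PP16

namespace Groth.Agent.S3810

theorem map_map_eq {R S T : Type*} [CommSemiring R] [Semiring S] [Semiring T]
    {F G H : Type*} [FunLike F R S] [RingHomClass F R S] [FunLike G S T] [RingHomClass G S T]
    [FunLike H R T] [RingHomClass H R T] (f : F) (g : G) (h : H) (hc : ∀ x, g (f x) = h x) (I : Ideal R) :
    (I.map f).map g = I.map h := by
  refine le_antisymm (Ideal.map_le_iff_le_comap.2 (Ideal.map_le_iff_le_comap.2 fun x hx => ?_))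
    (Ideal.map_le_iff_le_comap.2 fun x hx => ?_)
  · simpa [hc] using Ideal.mem_map_of_mem h hx
  · simpa [hc] using Ideal.mem_map_of_mem g (Ideal.mem_map_of_mem f hx)

/-- Let B be an A-algebra, K an ideal of B and C = B/K. Then the canonical map P^n_{B/A} → P^n_{C/A} is
surjective and its kernel is the ideal generated by the image of K under the structure map B →
P^n_{B/A} together with the image of K under the principal-part map d^n (the latter is an additive
subgroup, not a B-submodule, in general). -/
theorem result (n : ℕ) (A B : Type u) [CommRing A] [CommRing B] [Algebra A B]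
    (K : Ideal B) :
    Function.Surjective (PP16.map n A B A (B ⧸ K)) ∧
      RingHom.ker (PP16.map n A B A (B ⧸ K)) =
        K.map (algebraMap B (PP16.P n A B)) ⊔ K.map (PP16.dn n A B) := by
  have hs : Function.Surjective (algebraMap B (B ⧸ K)) := Ideal.Quotient.mk_surjective
  refine ⟨H4PP16.map_surjective n A B A (B ⧸ K) hs, ?_⟩
  have hJ : RingHom.ker (PP16.tensorMap A B A (B ⧸ K)) =
      K.map (Algebra.TensorProduct.includeLeft : B →ₐ[A] B ⊗[A] B) ⊔
        K.map (Algebra.TensorProduct.includeRight : B →ₐ[A] B ⊗[A] B) := by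
    have h1 : PP16.tensorMap A B A (B ⧸ K) =
        Algebra.TensorProduct.map (Ideal.Quotient.mkₐ A K) (Ideal.Quotient.mkₐ A K) :=
      Algebra.TensorProduct.ext' fun a b => by rw [PP16.tensorMap_tmul]; rfl
    have hk : RingHom.ker (Ideal.Quotient.mkₐ A K) = K := Ideal.Quotient.mkₐ_ker A K
    rw [h1, Algebra.TensorProduct.map_ker _ _ (Ideal.Quotient.mkₐ_surjective A K) (Ideal.Quotient.mkₐ_surjective A K), hk]
  rw [H4PP16.ker_map n A B A (B ⧸ K) hs _ hJ, Ideal.map_sup]
  congr 1
  all_goals exact map_map_eq _ _ _ (fun _ => rfl) K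

end Groth.Agent.S3810
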