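import Groth.Statements.S3811
import Mathlib
import Groth.Agent.Lib.H4PP16


set_option autoImplicit false
universe u
open scoped TensorProduct
open PP16

namespace Groth.Agent.S3811

/-- Let B be an A-algebra with an A-algebra retraction g : B → A, and K the kernel of g. The composite
of d^n : B → P^n_{B/A} with the projection P^n_{B/A} → P^n_{B/A} / K P^n_{B/A} (base change of
P^n_{B/A} along g) is surjective with kernel K^(n+1); thus P^n_{B/A} ⊗_B A is identified with
B/K^(n+1), the class of d^n t corresponding to the class of t. -/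
theorem result (n : ℕ) (A B : Type u) [CommRing A] [CommRing B] [Algebra A B]
    (g : B →ₐ[A] A) :
    Function.Surjective ((Ideal.Quotient.mk ((RingHom.ker g).map (algebraMap B (PP16.P n A B)))).comp
        (PP16.dn n A B).toRingHom) ∧
      RingHom.ker ((Ideal.Quotient.mk ((RingHom.ker g).map (algebraMap B (PP16.P n A B)))).comp
        (PP16.dn n A B).toRingHom) = RingHom.ker g ^ (n + 1) := by
  set m := RingHom.ker g
  let q : PP16.P n A B →+* PP16.P n A B ⧸ m.map (algebraMap B (PP16.P n A B)) := Ideal.Quotient.mk _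
  have hgm : ∀ b : B, b - algebraMap A B (g b) ∈ m := fun b => by
    rw [RingHom.mem_ker, map_sub, AlgHom.commutes]
    exact sub_self _
  have hq : ∀ b : B, q (algebraMap B (PP16.P n A B) b) = q (algebraMap A (PP16.P n A B) (g b)) := fun b => by
    rw [← sub_eq_zero, ← map_sub, Ideal.Quotient.eq_zero_iff_mem,
      IsScalarTower.algebraMap_apply A B (PP16.P n A B), ← map_sub]
    exact Ideal.mem_map_of_mem _ (hgm b)
  refine ⟨fun y => ?_, le_antisymm (fun x hx => ?_) fun x hx => ?_⟩
  · obtain ⟨y, rfl⟩ := Ideal.Quotient.mk_surjective y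
    obtain ⟨y, rfl⟩ := Ideal.Quotient.mk_surjective y
    induction y using TensorProduct.induction_on with
    | zero => exact ⟨0, by simp⟩
    | tmul b c =>
      refine ⟨algebraMap A B (g b) * c, ?_⟩
      change q (PP16.dn n A B (algebraMap A B (g b) * c)) = q (Ideal.Quotient.mk _ (b ⊗ₜ[A] c))
      rw [H4PP16.mk_tmul, map_mul, map_mul, map_mul, hq, AlgHom.commutes]
    | add u v hu hv =>
      obtain ⟨u', hu'⟩ := hu
      obtain ⟨v', hv'⟩ := hv
      exact ⟨u' + v', by rw [map_add, hu', hv', ← map_add, ← map_add]⟩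
  · let N : Ideal (B ⧸ m ^ (n + 1)) := m.map (Ideal.Quotient.mk _)
    have hN : N ^ (n + 1) = ⊥ := by rw [← Ideal.map_pow, Ideal.map_quotient_self]
    -- left factor through `g`
    let f1 : B →ₐ[A] B ⧸ m ^ (n + 1) := (Algebra.ofId A (B ⧸ m ^ (n + 1))).comp g
    let φ0 := Algebra.TensorProduct.lift f1 (Ideal.Quotient.mkₐ A (m ^ (n + 1))) fun _ _ => Commute.all _ _
    have hI : (KaehlerDifferential.ideal A B).map φ0 ≤ N := by
      rw [← KaehlerDifferential.span_range_eq_ideal, Ideal.map_span, Ideal.span_le]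
      rintro _ ⟨_, ⟨b, rfl⟩, rfl⟩
      rw [SetLike.mem_coe, map_sub, Algebra.TensorProduct.lift_tmul, Algebra.TensorProduct.lift_tmul,
        map_one, one_mul, map_one, mul_one]
      change Ideal.Quotient.mk _ b - Ideal.Quotient.mk _ (algebraMap A B (g b)) ∈ N
      rw [← map_sub]
      exact Ideal.mem_map_of_mem _ (hgm b)
    have hI' : KaehlerDifferential.ideal A B ^ (n + 1) ≤ RingHom.ker φ0 := fun y hy => by
      have h := Ideal.pow_right_mono hI (n + 1)
      rw [← Ideal.map_pow, hN] at h
      exact RingHom.mem_ker.2 ((Submodule.mem_bot _).1 (h (Ideal.mem_map_of_mem _ hy)))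
    let φ : PP16.P n A B →+* B ⧸ m ^ (n + 1) := Ideal.Quotient.lift _ φ0.toRingHom hI'
    have hφdn : φ (PP16.dn n A B x) = Ideal.Quotient.mk _ x := by
      change φ0 ((1 : B) ⊗ₜ[A] x) = _
      rw [Algebra.TensorProduct.lift_tmul, map_one, one_mul]
      rfl
    have hle : m.map (algebraMap B (PP16.P n A B)) ≤ RingHom.ker φ := by
      rw [Ideal.map_le_iff_le_comap]
      intro b hb
      rw [Ideal.mem_comap, RingHom.mem_ker]
      change φ0 (b ⊗ₜ[A] (1 : B)) = 0
      rw [Algebra.TensorProduct.lift_tmul, map_one, mul_one]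
      change algebraMap A _ (g b) = 0
      rw [RingHom.mem_ker.1 hb, map_zero]
    have h1 : φ (PP16.dn n A B x) = 0 := hle (Ideal.Quotient.eq_zero_iff_mem.1 hx)
    rw [hφdn] at h1
    exact Ideal.Quotient.eq_zero_iff_mem.1 h1
  · have h1 : m.map ((q.comp (PP16.dn n A B).toRingHom)) ≤ (PP16.augIdeal n A B).map q := by
      rw [Ideal.map_le_iff_le_comap]
      intro b hb
      have : q (PP16.dn n A B b) = q (PP16.dn n A B b - algebraMap B (PP16.P n A B) b) := by
        rw [map_sub, hq, RingHom.mem_ker.1 hb, map_zero, map_zero, sub_zero]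
      rw [Ideal.mem_comap, RingHom.comp_apply]
      exact this ▸ Ideal.mem_map_of_mem q (H4PP16.dn_sub_mem n A B b)
    have h3 : ((PP16.augIdeal n A B).map q) ^ (n + 1) = ⊥ := by
      rw [eq_bot_iff]
      refine (Ideal.map_pow (R := PP16.P n A B) (S := PP16.P n A B ⧸ m.map (algebraMap B (PP16.P n A B))) q
        (PP16.augIdeal n A B) (n + 1)).ge.trans ?_
      rw [H4PP16.augIdeal_pow, Ideal.map_bot]
    exact RingHom.mem_ker.2 (H4PP16.map_eq_zero_of_mem_pow (R := B)
      (S := PP16.P n A B ⧸ m.map (algebraMap B (PP16.P n A B))) (q.comp (PP16.dn n A B).toRingHom) h1 h3 hx)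

end Groth.Agent.S3811
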