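import Groth.Statements.S3812
import Mathlib
import Groth.Agent.Lib.H4PP16


set_option autoImplicit false
universe u
open scoped TensorProduct
open PP16

namespace Groth.Agent.S3812

/-- Let B = A[T_i] be a polynomial algebra. There is an isomorphism of B-algebras from P^n_{B/A} onto
B[U_i]/(U)^(n+1), where (U) is the ideal generated by the new indeterminates, sending the principal
part d^n T_i to the class of T_i + U_i for every i (so d^n F(T) goes to the class of F(T + U)). -/
theorem result (n : ℕ) (A : Type u) [CommRing A] (σ : Type u) :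
    ∃ e : PP16.P n A (MvPolynomial σ A) ≃ₐ[MvPolynomial σ A]
        (MvPolynomial σ (MvPolynomial σ A) ⧸
          Ideal.span (Set.range (MvPolynomial.X : σ → MvPolynomial σ (MvPolynomial σ A))) ^ (n + 1)),
      ∀ i : σ, e (PP16.dn n A (MvPolynomial σ A) (MvPolynomial.X i)) =
        Ideal.Quotient.mk _ (MvPolynomial.C (MvPolynomial.X i : MvPolynomial σ A) +
          (MvPolynomial.X i : MvPolynomial σ (MvPolynomial σ A))) := by
  let B := MvPolynomial σ A
  let J : Ideal (MvPolynomial σ B) := Ideal.span (Set.range MvPolynomial.X)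
  let T : B →ₐ[A] MvPolynomial σ B := MvPolynomial.aeval fun i => MvPolynomial.C (MvPolynomial.X i) + MvPolynomial.X i
  have hT : (Ideal.Quotient.mkₐ A J).comp T = IsScalarTower.toAlgHom A B (MvPolynomial σ B ⧸ J) :=
    MvPolynomial.algHom_ext fun i => by
      change Ideal.Quotient.mk J (T (MvPolynomial.X i)) = Ideal.Quotient.mk J (MvPolynomial.C (MvPolynomial.X i))
      rw [show T (MvPolynomial.X i) = MvPolynomial.C (MvPolynomial.X i) + MvPolynomial.X i from MvPolynomial.aeval_X _ i,
        Ideal.Quotient.eq, add_sub_cancel_left]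
      exact Ideal.subset_span ⟨i, rfl⟩
  obtain ⟨e, he, -⟩ := H4PP16.exists_coord n A B (fun i => MvPolynomial.X i)
    ((Ideal.Quotient.mkₐ A (J ^ (n + 1))).comp T)
    (fun b => by
      change Ideal.Quotient.mk _ (T b) - Ideal.Quotient.mk _ (MvPolynomial.C b) ∈ _
      rw [← map_sub]
      exact Ideal.mem_map_of_mem _ (Ideal.Quotient.eq.1 (AlgHom.congr_fun hT b)))
    (fun i => by
      change Ideal.Quotient.mk _ (T (MvPolynomial.X i)) = _
      rw [show T (MvPolynomial.X i) = MvPolynomial.C (MvPolynomial.X i) + MvPolynomial.X i from MvPolynomial.aeval_X _ i])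
    fun f g h => MvPolynomial.algHom_ext h
  refine ⟨e, fun i => ?_⟩
  rw [he]
  change Ideal.Quotient.mk _ (T (MvPolynomial.X i)) = _
  rw [show T (MvPolynomial.X i) = MvPolynomial.C (MvPolynomial.X i) + MvPolynomial.X i from MvPolynomial.aeval_X _ i]

end Groth.Agent.S3812
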