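import Groth.Statements.S3813
import Mathlib
import Groth.Agent.Lib.H4PP16


set_option autoImplicit false
universe u
open scoped TensorProduct
open PP16

namespace Groth.Agent.S3813

open scoped TensorProduct in
theorem general (n : ℕ) (A : Type u) [CommRing A] (E : Type u) [AddCommGroup E] [Module A E]
    (S : Type u) [CommRing S] [Algebra A S] (ι : E →ₗ[A] S) (l : S →ₐ[A] A) (hl : ∀ t, l (ι t) = 0)
    (hlift : ∀ {R : Type u} [CommRing R] [Algebra A R] (g : E →ₗ[A] R), ∃ f : S →ₐ[A] R, ∀ t, f (ι t) = g t)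
    (hext : ∀ {R : Type u} [CommRing R] [Algebra A R] (f g : S →ₐ[A] R), (∀ t, f (ι t) = g (ι t)) → f = g) :
    ∃ e : PP16.P n A S ≃ₐ[S] (S ⊗[A] (S ⧸ RingHom.ker l ^ (n + 1))),
      ∀ t : E, e (PP16.dn n A S (ι t)) = ι t ⊗ₜ 1 + 1 ⊗ₜ Ideal.Quotient.mk _ (ι t) := by
  classical
  let m : Ideal S := RingHom.ker l
  let N : Ideal (S ⊗[A] (S ⧸ m ^ (n + 1))) :=
    (m.map (Ideal.Quotient.mk (m ^ (n + 1)))).map
      (Algebra.TensorProduct.includeRight : (S ⧸ m ^ (n + 1)) →ₐ[A] S ⊗[A] (S ⧸ m ^ (n + 1))).toRingHom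
  have hN : N ^ (n + 1) = ⊥ := by
    show Ideal.map _ (m.map (Ideal.Quotient.mk (m ^ (n + 1)))) ^ (n + 1) = ⊥
    rw [← Ideal.map_pow, H4PP16.map_mk_pow, Ideal.map_bot]
  obtain ⟨τ, hτ'⟩ := hlift (R := S ⊗[A] (S ⧸ m ^ (n + 1)))
    ((Algebra.TensorProduct.includeLeft : S →ₐ[A] S ⊗[A] (S ⧸ m ^ (n + 1))).toLinearMap ∘ₗ ι +
     ((Algebra.TensorProduct.includeRight : (S ⧸ m ^ (n + 1)) →ₐ[A] S ⊗[A] (S ⧸ m ^ (n + 1))).comp
        (Ideal.Quotient.mkₐ A (m ^ (n + 1)))).toLinearMap ∘ₗ ι)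
  have hτι : ∀ t, τ (ι t) =
      ι t ⊗ₜ 1 + 1 ⊗ₜ Ideal.Quotient.mk _ (ι t) := fun t => by
    simp [hτ']
  have hτ0 : (Ideal.Quotient.mkₐ A N).comp τ =
      (Ideal.Quotient.mkₐ A N).comp (Algebra.TensorProduct.includeLeft : S →ₐ[A] S ⊗[A] (S ⧸ m ^ (n + 1))) :=
    hext (R := (S ⊗[A] (S ⧸ m ^ (n + 1))) ⧸ N) _ _ (fun t => by
      change Ideal.Quotient.mk N (τ (ι t)) = Ideal.Quotient.mk N (ι t ⊗ₜ 1)
      rw [hτι, Ideal.Quotient.eq, add_sub_cancel_left]
      exact Ideal.mem_map_of_mem _ (Ideal.mem_map_of_mem _ (RingHom.mem_ker.2 (hl t))))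
  let φ := H4PP16.lift (n := n) τ N hN (fun b => Ideal.Quotient.eq.1 (AlgHom.congr_fun hτ0 b))
  obtain ⟨h0, hh0'⟩ := hlift (R := PP16.P n A S)
    ((PP16.dn n A S).toLinearMap ∘ₗ ι -
      (IsScalarTower.toAlgHom A S (PP16.P n A S)).toLinearMap ∘ₗ ι)
  have hh0 : ∀ t, h0 (ι t) =
      PP16.dn n A S (ι t) - algebraMap S (PP16.P n A S) (ι t) := fun t => by
    simp [hh0']
  have haug : ((H4PP16.aug n A S).restrictScalars A).comp h0 =
      (Algebra.ofId A S).comp (l) :=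
    hext (R := S) _ _ (fun t => by
      change H4PP16.aug n A S (h0 (ι t)) =
        Algebra.ofId A S (l (ι t))
      rw [hh0, map_sub, H4PP16.aug_dn, AlgHom.commutes, hl,
        Algebra.algebraMap_self, RingHom.id_apply, sub_self, map_zero])
  have hkill : ∀ x ∈ m ^ (n + 1), h0 x = 0 := fun x hx =>
    H4PP16.map_eq_zero_of_mem_pow (R := S) (S := PP16.P n A S) h0.toRingHom
      (Ideal.map_le_iff_le_comap.2 fun y hy => H4PP16.mem_augIdeal n A S (by
        have := AlgHom.congr_fun haug y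
        rw [AlgHom.comp_apply, AlgHom.comp_apply, RingHom.mem_ker.1 hy, map_zero] at this
        exact this))
      (H4PP16.augIdeal_pow n A S) hx
  let h : (S ⧸ m ^ (n + 1)) →ₐ[A] PP16.P n A S := Ideal.Quotient.liftₐ _ h0 hkill
  let ψ : S ⊗[A] (S ⧸ m ^ (n + 1)) →ₐ[S] PP16.P n A S :=
    Algebra.TensorProduct.lift (Algebra.ofId S _) h fun _ _ => Commute.all _ _
  have hψr : ∀ y, ψ (1 ⊗ₜ y) = h y := fun y => by
    simp [ψ]
  have hψl : ∀ y, ψ (y ⊗ₜ 1) = algebraMap S _ y := fun y => by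
    simp [ψ, Algebra.ofId_apply]
  have h1 : φ.comp ψ = AlgHom.id S _ := by
    refine Algebra.TensorProduct.ext (Subsingleton.elim _ _) (Ideal.Quotient.algHom_ext A (hext (R := S ⊗[A] (S ⧸ m ^ (n + 1))) _ _ (fun t => ?_)))
    change φ (ψ ((1 : S) ⊗ₜ Ideal.Quotient.mk _ (ι t))) = (1 : S) ⊗ₜ Ideal.Quotient.mk _ (ι t)
    rw [hψr]
    change φ (h0 (ι t)) = _
    rw [hh0, map_sub, H4PP16.lift_dn, AlgHom.commutes, hτι,
      show algebraMap S (S ⊗[A] (S ⧸ m ^ (n + 1))) (ι t) = ι t ⊗ₜ 1 from rfl,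
      add_sub_cancel_left]
  have key : (ψ.restrictScalars A).comp τ = PP16.dn n A S :=
    hext (R := PP16.P n A S) _ _ (fun t => by
      change ψ (τ (ι t)) = PP16.dn n A S (ι t)
      rw [hτι, map_add, hψl, hψr]
      change _ + h0 (ι t) = _
      rw [hh0, add_sub_cancel])
  have h2 : ψ.comp φ = AlgHom.id S _ := AlgHom.coe_ringHom_injective
    (H4PP16.hom_ext (fun b => by simp only [RingHom.coe_coe, AlgHom.commutes]) fun b => by
      change ψ (φ (PP16.dn n A S b)) = PP16.dn n A S b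
      rw [H4PP16.lift_dn]
      exact AlgHom.congr_fun key b)
  refine ⟨AlgEquiv.ofAlgHom φ ψ h1 h2, fun t => ?_⟩
  change φ (PP16.dn n A S (ι t)) = _
  rw [H4PP16.lift_dn]
  exact hτι t

/-- Let E be an A-module, B = Sym_A(E) its symmetric algebra and K the augmentation ideal of B (the
kernel of the A-algebra map B → A killing E). For every n there is an isomorphism of B-algebras from
P^n_{B/A} onto B ⊗_A (B/K^(n+1)) sending the principal part d^n t of an element t of E to t ⊗ 1 + 1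
⊗ (class of t). -/
theorem result (n : ℕ) (A : Type u) [CommRing A] (E : Type u) [AddCommGroup E]
    [Module A E] :
    ∃ e : PP16.P n A (SymmetricAlgebra A E) ≃ₐ[SymmetricAlgebra A E]
        (SymmetricAlgebra A E ⊗[A] (SymmetricAlgebra A E ⧸
          RingHom.ker (SymmetricAlgebra.lift (0 : E →ₗ[A] A)) ^ (n + 1))),
      ∀ t : E, e (PP16.dn n A (SymmetricAlgebra A E) (SymmetricAlgebra.ι A E t)) =
        SymmetricAlgebra.ι A E t ⊗ₜ 1 + 1 ⊗ₜ Ideal.Quotient.mk _ (SymmetricAlgebra.ι A E t) := by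
  exact general n A E (SymmetricAlgebra A E) (SymmetricAlgebra.ι A E) _
    (fun t => SymmetricAlgebra.lift_ι_apply 0 t)
    (fun g => ⟨SymmetricAlgebra.lift g, fun t => SymmetricAlgebra.lift_ι_apply g t⟩)
    (fun f g h => SymmetricAlgebra.algHom_ext (LinearMap.ext h))

end Groth.Agent.S3813
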