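import Groth.Statements.S5002
import Mathlib
import Groth.Agent.Lib.H4PP16


set_option autoImplicit false
universe u
open PP16

namespace Groth.Agent.S5002

/-- Suppose A is a commutative ring and B is a finite-type A-algebra. For each n, the ring of principal
parts of order n of B over A is then finitely generated as a B-module, where B acts via the first
factor. -/
theorem result (n : ℕ) (A B : Type u) [CommRing A] [CommRing B] [Algebra A B]
    [Algebra.FiniteType A B] : Module.Finite B (PP16.P n A B) := by
  have : Algebra.FiniteType B (PP16.P n A B) :=
    (inferInstance : Algebra.FiniteType B (TensorProduct A B B)).of_surjective (Ideal.Quotient.mkₐ B _)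
      (Ideal.Quotient.mkₐ_surjective B _)
  have : Algebra.IsIntegral B (PP16.P n A B) := ⟨fun x => by
    obtain ⟨x, rfl⟩ := Ideal.Quotient.mk_surjective x
    induction x using TensorProduct.induction_on with
    | zero => simpa using isIntegral_zero
    | tmul b c =>
      rw [H4PP16.mk_tmul]
      refine isIntegral_algebraMap.mul ?_
      obtain ⟨k, hk⟩ := H4PP16.isNilpotent_dn_sub n A B c
      have h1 : IsIntegral B (PP16.dn n A B c - algebraMap B (PP16.P n A B) c) :=
        ⟨Polynomial.X ^ (k + 1), Polynomial.monic_X_pow _, by simp [pow_succ, hk]⟩
      simpa using h1.add (isIntegral_algebraMap (x := c))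
    | add x y hx hy => rw [map_add]; exact hx.add hy⟩
  exact Algebra.IsIntegral.finite

end Groth.Agent.S5002
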