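import Groth.Statements.S3815
import Mathlib
import Groth.Agent.Lib.H4PP16


set_option autoImplicit false
universe u
open scoped TensorProduct
open scoped BigOperators
open PP16

namespace Groth.Agent.S3815

/-- The identity into the type synonym. -/
def toPr {n : ℕ} {A B : Type u} [CommRing A] [CommRing B] [Algebra A B] (x : PP16.P n A B) : PP16.Pr n A B := x

/-- The identity out of the type synonym. -/
def ofPr {n : ℕ} {A B : Type u} [CommRing A] [CommRing B] [Algebra A B] (z : PP16.Pr n A B) : PP16.P n A B := z

open scoped TensorProduct in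
/-- `b ⊗ c ↦ (m ↦ b • D (c • m))`. -/
noncomputable def T (A B : Type u) [CommRing A] [CommRing B] [Algebra A B]
    (M N : Type u) [AddCommGroup M] [Module A M] [Module B M] [IsScalarTower A B M]
    [AddCommGroup N] [Module A N] [Module B N] [IsScalarTower A B N] (D : M →ₗ[A] N) :
    B ⊗[A] B →+ (M →+ N) :=
  TensorProduct.liftAddHom
    { toFun := fun b =>
        { toFun := fun c => AddMonoidHom.mk' (fun m => b • D (c • m)) fun x y => by simp [smul_add]
          map_zero' := by ext m; simp
          map_add' := fun c c' => by ext m; simp [add_smul, smul_add] }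
      map_zero' := by ext c m; simp
      map_add' := fun b b' => by ext c m; simp [add_smul] }
    fun a b c => by
      ext m
      simp [smul_assoc, map_smul, smul_comm a b]

open scoped TensorProduct in
theorem order_iff (A B : Type u) [CommRing A] [CommRing B] [Algebra A B]
    (M N : Type u) [AddCommGroup M] [Module A M] [Module B M] [IsScalarTower A B M]
    [AddCommGroup N] [Module A N] [Module B N] [IsScalarTower A B N] (n : ℕ) :
    ∀ D : M →ₗ[A] N, Diff16.IsDiffOpLE A B M N n D ↔
      ∀ x ∈ KaehlerDifferential.ideal A B ^ (n + 1), T A B M N D x = 0 := by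
  have hT : ∀ (D : M →ₗ[A] N) (b c : B) (m : M), T A B M N D (b ⊗ₜ c) m = b • D (c • m) :=
    fun D b c m => rfl
  have hδ : ∀ (D : M →ₗ[A] N) (b : B) (y : B ⊗[A] B),
      T A B M N D (((1 : B) ⊗ₜ[A] b - b ⊗ₜ[A] (1 : B)) * y) = T A B M N (Diff16.commutator A B M N D b) y := by
    intro D b y
    induction y using TensorProduct.induction_on with
    | zero => simp
    | tmul p c =>
      ext m
      rw [sub_mul, map_sub, AddMonoidHom.sub_apply, Algebra.TensorProduct.tmul_mul_tmul,
        Algebra.TensorProduct.tmul_mul_tmul, one_mul, one_mul, hT, hT, hT]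
      simp [Diff16.commutator, smul_sub, smul_smul, mul_comm b p, mul_comm b c]
    | add x y hx hy => rw [mul_add, map_add, map_add, hx, hy]
  have hI : ∀ (D : M →ₗ[A] N) (J : Ideal (B ⊗[A] B)),
      (∀ b, ∀ y ∈ J, T A B M N (Diff16.commutator A B M N D b) y = 0) →
      ∀ x ∈ KaehlerDifferential.ideal A B * J, T A B M N D x = 0 := by
    intro D J h x hx
    refine Submodule.mul_induction_on hx (fun z hz y hy => ?_) fun u v hu hv => by rw [map_add, hu, hv, add_zero]
    rw [← KaehlerDifferential.span_range_eq_ideal] at hz
    revert y
    induction hz using Submodule.span_induction with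
    | mem z hz => obtain ⟨b, rfl⟩ := hz; intro y hy; rw [hδ]; exact h b y hy
    | zero => simp
    | add u v _ _ hu hv => intro y hy; rw [add_mul, map_add, hu y hy, hv y hy, add_zero]
    | smul r u _ hu => intro y hy; rw [smul_eq_mul, mul_assoc, mul_left_comm]; exact hu _ (J.mul_mem_left r hy)
  induction n with
  | zero =>
    intro D
    refine ⟨fun hD x hx => hI D ⊤ (fun b y _ => ?_) x (by simpa using hx), fun h b m => ?_⟩
    · have : Diff16.commutator A B M N D b = 0 := LinearMap.ext fun m => by simp [Diff16.commutator, hD b m]
      induction y using TensorProduct.induction_on with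
      | zero => simp
      | tmul p c => ext m; rw [hT, this]; simp
      | add u v hu hv => rw [map_add, hu trivial, hv trivial, add_zero]
    · have := DFunLike.congr_fun (h _ (by rw [zero_add, pow_one]; exact KaehlerDifferential.one_smul_sub_smul_one_mem_ideal A b)) m
      rw [map_sub, AddMonoidHom.sub_apply, hT, hT, one_smul, one_smul] at this
      exact sub_eq_zero.1 this
  | succ n ih =>
    intro D
    refine ⟨fun hD x hx => hI D _ (fun b => (ih _).1 (hD b)) x (by rwa [← pow_succ']), fun h b => (ih _).2 fun y hy => ?_⟩
    rw [← hδ]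
    refine h _ ?_
    rw [pow_succ' _ (n + 1)]
    exact Ideal.mul_mem_mul (KaehlerDifferential.one_smul_sub_smul_one_mem_ideal A b) hy

/-- Let B be an A-algebra, M and N two B-modules and D : M → N an A-linear map. Let P^n(M) = P^n_{B/A}
⊗_B M, the tensor product formed with the B-module structure of P^n_{B/A} through d^n, regarded as a
B-module through the first factor of P^n_{B/A}, with d^n_M : M → P^n(M), m ↦ 1 ⊗ m. Then D is a
differential operator of order at most n relative to A (order defined through iterated commutators
with multiplication by elements of B) if and only if there is exactly one additive map u : P^n(M) →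
N which is B-linear for the first-factor structure and satisfies u(1 ⊗ m) = D(m) for all m ∈ M. -/
theorem result (n : ℕ) (A B : Type u) [CommRing A] [CommRing B] [Algebra A B]
    (M N : Type u) [AddCommGroup M] [Module A M] [Module B M] [IsScalarTower A B M]
    [AddCommGroup N] [Module A N] [Module B N] [IsScalarTower A B N] (D : M →ₗ[A] N) :
    Diff16.IsDiffOpLE A B M N n D ↔
      ∃! u : PP16.PM n A B M →+ N,
        (∀ (b : B) (t : PP16.PM n A B M), u (algebraMap B (PP16.P n A B) b • t) = b • u t) ∧
          ∀ m : M, u (PP16.dM n A B M m) = D m := by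
  have hT : ∀ (b c : B) (m : M), T A B M N D (b ⊗ₜ c) m = b • D (c • m) := fun b c m => rfl
  have gen : ∀ (b c : B) (m : M),
      toPr (Ideal.Quotient.mk _ (b ⊗ₜ[A] c) : PP16.P n A B) ⊗ₜ[B] m =
        algebraMap B (PP16.P n A B) b • PP16.dM n A B M (c • m) := fun b c m => by
    change _ = algebraMap B (PP16.P n A B) b • ((1 : PP16.Pr n A B) ⊗ₜ[B] (c • m))
    rw [← TensorProduct.smul_tmul, TensorProduct.smul_tmul']
    congr 1
    change (Ideal.Quotient.mk _ (b ⊗ₜ[A] c) : PP16.P n A B) =
      algebraMap B (PP16.P n A B) b * (PP16.dn n A B c * (1 : PP16.P n A B))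
    rw [mul_one, H4PP16.mk_tmul]
  rw [order_iff A B M N n D]
  refine ⟨fun h => ?_, fun ⟨u, ⟨hu1, hu2⟩, _⟩ x hx => ?_⟩
  · let q : PP16.P n A B →+ (M →+ N) :=
      QuotientAddGroup.lift (KaehlerDifferential.ideal A B ^ (n + 1)).toAddSubgroup (T A B M N D) h
    have hq : ∀ y, q (Ideal.Quotient.mk _ y) = T A B M N D y := fun y => rfl
    let u : PP16.PM n A B M →+ N := TensorProduct.liftAddHom (q : PP16.Pr n A B →+ (M →+ N)) fun b x m => by
      obtain ⟨y, hy⟩ := Ideal.Quotient.mk_surjective (ofPr x)
      change q (PP16.dn n A B b * (ofPr x)) m = q (ofPr x) (b • m)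
      rw [← hy]
      change q (Ideal.Quotient.mk _ (((1 : B) ⊗ₜ[A] b) * y)) m = _
      rw [hq, hq]
      clear hy
      induction y using TensorProduct.induction_on with
      | zero => simp
      | tmul p c => rw [Algebra.TensorProduct.tmul_mul_tmul, one_mul, hT, hT, smul_smul, mul_comm b c]
      | add u v hu hv => rw [mul_add, map_add, map_add, AddMonoidHom.add_apply, AddMonoidHom.add_apply, hu, hv]
    refine ⟨u, ⟨fun b t => ?_, fun m => ?_⟩, fun u' ⟨h1, h2⟩ => ?_⟩
    · induction t using TensorProduct.induction_on with
      | zero => simp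
      | tmul x m =>
        obtain ⟨y, hy⟩ := Ideal.Quotient.mk_surjective (ofPr x)
        rw [TensorProduct.smul_tmul']
        change q (algebraMap B (PP16.P n A B) b * (ofPr x)) m = b • q (ofPr x) m
        rw [← hy]
        change q (Ideal.Quotient.mk _ ((b ⊗ₜ[A] (1 : B)) * y)) m = _
        rw [hq, hq]
        clear hy
        induction y using TensorProduct.induction_on with
        | zero => simp
        | tmul p c => rw [Algebra.TensorProduct.tmul_mul_tmul, one_mul, hT, hT, smul_smul]
        | add u v hu hv => rw [mul_add, map_add, map_add, AddMonoidHom.add_apply, AddMonoidHom.add_apply, smul_add, hu, hv]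
      | add s t hs ht => rw [smul_add, map_add, map_add, hs, ht, smul_add]
    · change T A B M N D ((1 : B) ⊗ₜ[A] (1 : B)) m = D m
      rw [hT, one_smul, one_smul]
    · refine AddMonoidHom.ext fun t => ?_
      induction t using TensorProduct.induction_on with
      | zero => simp
      | tmul x m =>
        obtain ⟨y, hy⟩ := Ideal.Quotient.mk_surjective (ofPr x)
        change u' (toPr (ofPr x) ⊗ₜ[B] m) = q (ofPr x) m
        rw [← hy, hq]
        clear hy
        induction y using TensorProduct.induction_on with
        | zero =>
          rw [map_zero, map_zero, AddMonoidHom.zero_apply]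
          exact (congrArg u' (TensorProduct.zero_tmul _ m)).trans (map_zero u')
        | tmul p c => rw [gen, h1, h2, hT]
        | add u v hu hv =>
          rw [map_add, map_add, AddMonoidHom.add_apply, ← hu, ← hv]
          exact (congrArg u' (TensorProduct.add_tmul _ _ m)).trans (map_add u' _ _)
      | add s t hs ht => rw [map_add, map_add, hs, ht]
  · ext m
    have key : ∀ y, T A B M N D y m =
        u (toPr (Ideal.Quotient.mk (KaehlerDifferential.ideal A B ^ (n + 1)) y) ⊗ₜ[B] m) := by
      intro y
      induction y using TensorProduct.induction_on with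
      | zero =>
        rw [map_zero, map_zero, AddMonoidHom.zero_apply]
        exact ((congrArg u (TensorProduct.zero_tmul _ m)).trans (map_zero u)).symm
      | tmul p c => rw [gen, hu1, hu2, hT]
      | add v w hv hw =>
        rw [map_add, AddMonoidHom.add_apply, hv, hw, ← map_add, ← TensorProduct.add_tmul]
        rfl
    rw [key, Ideal.Quotient.eq_zero_iff_mem.2 hx]
    exact (congrArg u (TensorProduct.zero_tmul _ m)).trans (map_zero u)

end Groth.Agent.S3815
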