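import Groth.Statements.S3825
import Mathlib
import Groth.Agent.Lib.H4QReg


set_option autoImplicit false
universe u
open QReg16

namespace Groth.Agent.S3825

/-- a) iff c) (affine local form): let A be a local ring and I a proper ideal generated by some
quasi-regular sequence. For a finite family (f_i) of elements of I, the following are equivalent:
(a) (f_i) is a quasi-regular sequence generating I; (c) the classes of the f_i form a basis of the
A/I-module I/I² (equivalently, b): (f_i) is a minimal system of generators of I). -/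
theorem result {A : Type u} [CommRing A] [IsLocalRing A]
    (I : Ideal A) (hI : I ≤ IsLocalRing.maximalIdeal A)
    (hq : ∃ (r : ℕ) (g : Fin r → A), CAlgX.IsQuasiRegular g ∧ Ideal.span (Set.range g) = I)
    {m : ℕ} (f : Fin m → I) :
    (CAlgX.IsQuasiRegular (fun i => (f i : A)) ∧ Ideal.span (Set.range fun i => (f i : A)) = I) ↔
      (LinearIndependent (A ⧸ I) (fun i => I.toCotangent (f i)) ∧
        Submodule.span (A ⧸ I) (Set.range fun i => I.toCotangent (f i)) = ⊤) := by
  obtain ⟨r, g, hg, hgI⟩ := hq
  have hnt : Nontrivial (A ⧸ I) := Ideal.Quotient.nontrivial_iff.mpr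
    (fun h => (IsLocalRing.maximalIdeal.isMaximal A).ne_top (top_le_iff.mp (h ▸ hI)))
  have hqLI : ∀ {n : ℕ} (u : Fin n → I), CAlgX.IsQuasiRegular (fun i => (u i : A)) →
      Ideal.span (Set.range fun i => (u i : A)) = I →
      LinearIndependent (A ⧸ I) (fun i => I.toCotangent (u i)) ∧
        Submodule.span (A ⧸ I) (Set.range fun i => I.toCotangent (u i)) = ⊤ := by
    intro n u hu hsp
    refine ⟨Fintype.linearIndependent_iff.mpr fun a ha i => ?_, ?_⟩
    · choose a' ha' using fun i => Ideal.Quotient.mk_surjective (a i)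
      have h0 : I.toCotangent (∑ i, a' i • u i) = 0 := by
        rw [map_sum, ← ha]
        refine Finset.sum_congr rfl fun i _ => ?_
        rw [map_smul, ← ha' i]
        rfl
      rw [Ideal.toCotangent_eq_zero, AddSubmonoidClass.coe_finsetSum] at h0
      have h1 := Groth.Agent.H4QReg.linear_coeff hu (a := a') (by rw [hsp]; simpa using h0) i
      rw [hsp] at h1
      rw [← ha' i]
      exact Ideal.Quotient.eq_zero_iff_mem.mpr h1
    · rw [eq_top_iff]
      rintro x -
      obtain ⟨⟨y, hy⟩, rfl⟩ := I.toCotangent_surjective x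
      obtain ⟨a, ha⟩ := Ideal.mem_span_range_iff_exists_fun.mp (hsp.symm ▸ hy)
      have he : (⟨y, hy⟩ : I) = ∑ i, a i • u i := Subtype.ext (by simp [← ha])
      rw [he, map_sum]
      refine Submodule.sum_mem _ fun i _ => ?_
      rw [map_smul]
      exact (Submodule.span (A ⧸ I) (Set.range fun i => I.toCotangent (u i))).smul_mem (Ideal.Quotient.mk I (a i)) (Submodule.subset_span (R := A ⧸ I) (Set.mem_range_self i))
  refine ⟨fun h => hqLI f h.1 h.2, fun ⟨hli, hsp⟩ => ?_⟩
  have hgmem : ∀ i, g i ∈ I := fun i => hgI ▸ Ideal.subset_span (Set.mem_range_self i)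
  obtain ⟨hgli, hgsp⟩ := hqLI (fun i => (⟨g i, hgmem i⟩ : I)) hg hgI
  have hmr : r = m := by
    have h1 := Module.finrank_eq_card_basis (Module.Basis.mk hgli hgsp.ge)
    have h2 := Module.finrank_eq_card_basis (Module.Basis.mk hli hsp.ge)
    rw [h1, Fintype.card_fin, Fintype.card_fin] at h2
    exact h2
  subst hmr
  have hfI : Ideal.span (Set.range fun i => (f i : A)) = I := by
    refine le_antisymm (Ideal.span_le.mpr ?_) ?_
    · rintro _ ⟨i, rfl⟩; exact (f i).2
    · refine Submodule.le_of_le_smul_of_le_jacobson_bot (I := I) (N' := I) ?_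
        (hI.trans (IsLocalRing.maximalIdeal_le_jacobson ⊥)) ?_
      · rw [← hgI]; exact Submodule.fg_span (Set.finite_range g)
      · intro y hy
        have hy' : I.toCotangent ⟨y, hy⟩ ∈ Submodule.span (A ⧸ I) (Set.range fun i => I.toCotangent (f i)) := by
          rw [hsp]; exact Submodule.mem_top
        obtain ⟨a, ha⟩ := (Submodule.mem_span_range_iff_exists_fun (A ⧸ I)).mp hy'
        choose a' ha' using fun i => Ideal.Quotient.mk_surjective (a i)
        have he : I.toCotangent ⟨y, hy⟩ = I.toCotangent (∑ i, a' i • f i) := by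
          rw [← ha, map_sum]
          refine Finset.sum_congr rfl fun i _ => ?_
          rw [map_smul, ← ha' i]
          rfl
        rw [Ideal.toCotangent_eq, AddSubmonoidClass.coe_finsetSum] at he
        rw [← sub_add_cancel y (∑ i, ((a' i • f i : I) : A)), add_comm]
        refine Submodule.add_mem_sup (Submodule.sum_mem _ fun i _ => ?_) ?_
        · exact Ideal.mul_mem_left _ _ (Ideal.subset_span ⟨i, rfl⟩)
        · rw [smul_eq_mul, ← pow_two]; exact he
  exact ⟨Groth.Agent.H4QReg.isQuasiRegular_of_span_eq g _ hg (hfI.trans hgI.symm), hfI⟩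

end Groth.Agent.S3825
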