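import Groth.Statements.S3830
import Mathlib
import Groth.Agent.Lib.LSmoothQF

set_option autoImplicit false
universe u
open Unram17

namespace Groth.Agent.S3830

/-- b) implies a) (affine pointwise form): let B be an A-algebra of finite presentation and q a prime of
B. If B is smooth over A at q and quasi-finite over A at q, then B is étale over A at q. -/
theorem result (A B : Type u) [CommRing A] [CommRing B] [Algebra A B]
    [Algebra.FinitePresentation A B] (q : Ideal B) [q.IsPrime] [Algebra.QuasiFiniteAt A q]
    (h : Algebra.IsSmoothAt A q) : Algebra.IsEtaleAt A q := by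
  obtain ⟨g, hg, hsm⟩ := Algebra.IsSmoothAt.exists_notMem_smooth (R := A) q
  let C := Localization.Away g
  let qC := Ideal.map (algebraMap B C) q
  have hd : Disjoint (Submonoid.powers g : Set B) (q : Set B) := by
    rw [Ideal.disjoint_powers_iff_notMem_of_isPrime]; exact hg
  have : qC.IsPrime := IsLocalization.isPrime_of_isPrime_disjoint (Submonoid.powers g) C q ‹_› hd
  have hcomap : qC.comap (algebraMap B C) = q :=
    IsLocalization.under_map_of_isPrime_disjoint (Submonoid.powers g) C ‹_› hd
  haveI : qC.LiesOver q := ⟨hcomap.symm⟩
  have : Algebra.QuasiFiniteAt A qC :=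
    Algebra.QuasiFiniteAt.of_surjectiveOnStalks_of_liesOver q
      (RingHom.surjectiveOnStalks_of_isLocalization (Submonoid.powers g) C) qC
  have := Groth.Agent.LSmoothQF.isUnramifiedAt_of_smooth A C qC
  have : Algebra.IsEtaleAt A qC := Algebra.IsEtaleAt.of_isUnramifiedAt_of_flat qC
  haveI : IsLocalization.AtPrime (Localization.AtPrime qC) q := by
    have : IsLocalization.AtPrime (Localization.AtPrime qC) (qC.comap (algebraMap B C)) := inferInstance
    simpa only [hcomap] using this
  exact Algebra.FormallyEtale.of_equiv
    ((IsLocalization.algEquiv q.primeCompl (Localization.AtPrime qC) (Localization.AtPrime q)).restrictScalars A)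

end Groth.Agent.S3830
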