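import Groth.Statements.S3833
import Groth.Prelude.Def_CInt
import Groth.Prelude.Def_Pi1
import Groth.Prelude.Def_Flat
import Mathlib

set_option autoImplicit false
universe u
open CategoryTheory CategoryTheory.Limits AlgebraicGeometry TopologicalSpace
open Rat20

namespace Groth.Agent.S3833
open CategoryTheory CategoryTheory.Limits AlgebraicGeometry TopologicalSpace Opposite

/-- Stated for a global section, the case of a section over an open subset U being the same statement
for the open subscheme U: let X be a scheme and s a global section of O_X which is regular in the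
sense that its germ at every point x is a non-zero-divisor of the local ring O_{X,x} (on an affine
scheme this is the same as being a non-zero-divisor of Γ(X, O_X), but not in general). Then the open
subset X_s where s is invertible is schematically dense in X. -/
theorem result (X : Scheme.{u}) (s : Γ(X, ⊤))
    (hs : ∀ x : ↥X, (X.presheaf.germ ⊤ x trivial s) ∈ nonZeroDivisors ↑(X.presheaf.stalk x)) :
    CInt.IsSchematicallyDense (X.basicOpen s) := by
  intro V
  rw [injective_iff_map_eq_zero]
  intro t ht
  refine TopCat.Presheaf.section_ext X.sheaf V t 0 fun x hx => ?_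
  obtain ⟨_, ⟨W, hW, rfl⟩, hxW, hWV'⟩ := X.isBasis_affineOpens.exists_subset_of_mem_open hx V.2
  have hWV : W ≤ V := hWV'
  let sW : Γ(X, W) := X.presheaf.map (homOfLE le_top).op s
  let tW : Γ(X, W) := X.presheaf.map (homOfLE hWV).op t
  have hloc := hW.isLocalization_basicOpen sW
  have hle : X.basicOpen sW ≤ V ⊓ X.basicOpen s := by
    simp only [sW, Scheme.basicOpen_res]
    exact le_inf (inf_le_left.trans hWV) inf_le_right
  have h0 : algebraMap Γ(X, W) Γ(X, X.basicOpen sW) tW = 0 := by
    have := congrArg (X.presheaf.map (homOfLE hle).op).hom ht
    rw [map_zero] at this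
    show (X.presheaf.map (homOfLE (X.basicOpen_le sW)).op).hom ((X.presheaf.map (homOfLE hWV).op).hom t) = 0
    rw [← CommRingCat.comp_apply, ← Functor.map_comp]
    erw [← CommRingCat.comp_apply, ← Functor.map_comp] at this
    exact this
  obtain ⟨⟨_, n, rfl⟩, hn⟩ := (IsLocalization.map_eq_zero_iff (Submonoid.powers sW) _ _).1 h0
  have := congrArg (X.presheaf.germ W x hxW).hom hn
  simp only [map_mul, map_pow, map_zero, sW, tW] at this
  erw [X.presheaf.germ_res_apply, X.presheaf.germ_res_apply] at this
  erw [map_zero]
  exact (mul_left_mem_nonZeroDivisors_eq_zero_iff (pow_mem (hs x) n)).1 this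

end Groth.Agent.S3833
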