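import Groth.Statements.S3836
import Groth.Agent.Lib.H6.NormalGraph

set_option autoImplicit false
set_option linter.all false
set_option backward.isDefEq.respectTransparency.types false
universe u
open CategoryTheory CategoryTheory.Limits AlgebraicGeometry TopologicalSpace
open Rat20

namespace Groth.Agent.S3836

/-- Let X be a locally integral S-scheme, Y an S-scheme locally of finite type and separated over S, and
h : U → Y an S-morphism on a dense open subset (a rational S-map ω). Let Γ be the closure in X ×_S Y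
of the graph of h and p : Γ → X the projection. If x is a point of X whose local ring is integrally
closed and the fibre p⁻¹(x) contains an isolated point, then ω is defined at x: some S-morphism from
an open neighbourhood of x to Y agrees with h on U. -/
theorem result {X Y S : Scheme.{u}} (pX : X ⟶ S) (pY : Y ⟶ S)
    [LocallyOfFiniteType pY] [IsSeparated pY] (hX : ∀ y : ↥X, ∃ W : X.Opens, y ∈ W ∧ IsIntegral (W : Scheme.{u}))
    (U : X.Opens) (hU : Dense (U : Set ↥X)) (h : (U : Scheme.{u}) ⟶ Y) (hh : U.ι ≫ pX = h ≫ pY)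
    (x : ↥X) (hx : IsIntegrallyClosed (X.presheaf.stalk x))
    (z : ↥(pullback pX pY)) (hz : pullback.fst pX pY z = x)
    (hzΓ : z ∈ closure (Set.range (pullback.lift U.ι h hh)))
    (hiso : ∃ W : (pullback pX pY).Opens, (W : Set ↥(pullback pX pY)) ∩ closure (Set.range (pullback.lift U.ι h hh)) ∩
      (pullback.fst pX pY) ⁻¹' {x} = {z}) :
    ∃ (V : X.Opens) (v : (V : Scheme.{u}) ⟶ Y), x ∈ V ∧ v ≫ pY = V.ι ≫ pX ∧
      X.homOfLE (inf_le_right : U ⊓ V ≤ V) ≫ v = X.homOfLE (inf_le_left : U ⊓ V ≤ U) ≫ h := by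
  let P := pullback pX pY
  let q : P ⟶ X := pullback.fst pX pY
  let s : (U : Scheme.{u}) ⟶ P := pullback.lift U.ι h hh
  have hs : s ≫ q = U.ι := pullback.lift_fst _ _ _
  obtain ⟨W₀, hxW₀, hW₀⟩ := hX x
  obtain ⟨W, hW, hxW, hWW₀⟩ := exists_isAffineOpen_mem_and_subset (X := X) (x := x) (U := W₀) hxW₀
  haveI : Nonempty W := ⟨⟨x, hxW⟩⟩
  haveI : IsIntegral (W : Scheme.{u}) := isIntegral_of_isOpenImmersion (X.homOfLE hWW₀)
  haveI : IsIntegral (W₀ : Scheme.{u}) := hW₀
  haveI : IsDomain (X.presheaf.stalk x) :=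
    MulEquiv.isDomain _ (asIso ((W : X.Opens).ι.stalkMap ⟨x, hxW⟩)).commRingCatIsoToRingEquiv.toMulEquiv
  haveI := hx
  obtain ⟨O, hO⟩ := hiso
  have hzO : z ∈ (O : Set P) ∩ closure (Set.range s) ∩ q ⁻¹' {x} := hO.symm ▸ rfl
  obtain ⟨U', hUU', hxU', h', hq', hres⟩ := H6.NormalExtend.exists_extension_of_isolated q U hU s hs x W hxW hW z hz hzΓ O hzO.1.1
    (fun z' h1 h2 h3 => hO.subset ⟨⟨h1, h2⟩, h3⟩)
  refine ⟨U', h' ≫ pullback.snd pX pY, hxU', ?_, ?_⟩
  · rw [Category.assoc, ← pullback.condition, ← Category.assoc, hq']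
  · have : X.homOfLE (inf_le_right : U ⊓ U' ≤ U') = X.homOfLE (inf_le_left : U ⊓ U' ≤ U) ≫ X.homOfLE hUU' := by simp
    rw [this, Category.assoc, reassoc_of% hres, pullback.lift_snd]

end Groth.Agent.S3836
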