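import Groth.Statements.S3837
import Groth.Agent.Lib.H6.NormalGraph

set_option autoImplicit false
set_option linter.all false
set_option backward.isDefEq.respectTransparency.types false
universe u
open CategoryTheory CategoryTheory.Limits AlgebraicGeometry TopologicalSpace
open Rat20

namespace Groth.Agent.S3837

/-- Let X be a normal S-scheme (locally integral with integrally closed local rings), Y an S-scheme
locally of finite type and separated over S, h : U → Y an S-morphism on a dense open subset (a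
rational S-map ω), and f : X' → X a morphism locally of finite type and universally open with X'
reduced, so that f⁻¹(U) is dense and ω ∘ f is defined. Then for x' in X' with image x, ω is defined
at x if and only if ω ∘ f is defined at x': some S-morphism on an open neighbourhood of x agrees
with h on U if and only if some S-morphism on an open neighbourhood of x' agrees with h ∘ f on the
preimage of U. -/
theorem result {X X' Y S : Scheme.{u}} (pX : X ⟶ S) (pY : Y ⟶ S)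
    [LocallyOfFiniteType pY] [IsSeparated pY] (hX : ∀ y : ↥X, ∃ W : X.Opens, y ∈ W ∧ IsIntegral (W : Scheme.{u}))
    (hXn : ∀ y : ↥X, IsIntegrallyClosed (X.presheaf.stalk y))
    (U : X.Opens) (hU : Dense (U : Set ↥X)) (h : (U : Scheme.{u}) ⟶ Y) (hh : h ≫ pY = U.ι ≫ pX)
    (f : X' ⟶ X) [LocallyOfFiniteType f] [UniversallyOpen f] [IsReduced X'] (x' : ↥X') :
    (∃ (V : X.Opens) (v : (V : Scheme.{u}) ⟶ Y), f x' ∈ V ∧ v ≫ pY = V.ι ≫ pX ∧
        X.homOfLE (inf_le_right : U ⊓ V ≤ V) ≫ v = X.homOfLE (inf_le_left : U ⊓ V ≤ U) ≫ h) ↔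
      ∃ (V' : X'.Opens) (v' : (V' : Scheme.{u}) ⟶ Y), x' ∈ V' ∧ v' ≫ pY = V'.ι ≫ f ≫ pX ∧
        X'.homOfLE (inf_le_right : f ⁻¹ᵁ U ⊓ V' ≤ V') ≫ v' =
          X'.homOfLE (inf_le_left : f ⁻¹ᵁ U ⊓ V' ≤ f ⁻¹ᵁ U) ≫ (f ∣_ U) ≫ h := by
  constructor
  · rintro ⟨V, v, hxV, hv, hcompat⟩
    refine ⟨f ⁻¹ᵁ V, (f ∣_ V) ≫ v, hxV, ?_, ?_⟩
    · rw [Category.assoc, hv, ← Category.assoc, morphismRestrict_ι, Category.assoc]
    · let r : ((f ⁻¹ᵁ U ⊓ f ⁻¹ᵁ V : X'.Opens) : Scheme.{u}) ⟶ ((U ⊓ V : X.Opens) : Scheme.{u}) :=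
        IsOpenImmersion.lift (U ⊓ V).ι ((f ⁻¹ᵁ U ⊓ f ⁻¹ᵁ V).ι ≫ f) (by
          rw [Scheme.Opens.range_ι]; rintro _ ⟨a, rfl⟩; exact a.2)
      have h1 : X'.homOfLE (inf_le_right : f ⁻¹ᵁ U ⊓ f ⁻¹ᵁ V ≤ f ⁻¹ᵁ V) ≫ (f ∣_ V) = r ≫ X.homOfLE inf_le_right := by
        rw [← cancel_mono V.ι]; simp [r]
      have h2 : X'.homOfLE (inf_le_left : f ⁻¹ᵁ U ⊓ f ⁻¹ᵁ V ≤ f ⁻¹ᵁ U) ≫ (f ∣_ U) = r ≫ X.homOfLE inf_le_left := by
        rw [← cancel_mono U.ι]; simp [r]
      rw [reassoc_of% h1, hcompat, reassoc_of% h2]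
  rintro ⟨V', v', hxV', hv', hcompat⟩
  let P := pullback pX pY
  let q : P ⟶ X := pullback.fst pX pY
  let s : (U : Scheme.{u}) ⟶ P := pullback.lift U.ι h hh.symm
  have hs : s ≫ q = U.ι := pullback.lift_fst _ _ _
  let σ : (V' : Scheme.{u}) ⟶ P := pullback.lift (V'.ι ≫ f) v' (by rw [hv', Category.assoc])
  have hσ : σ ≫ q = V'.ι ≫ f := pullback.lift_fst _ _ _
  let x : X := f x'
  let z : P := σ ⟨x', hxV'⟩
  have hz : q z = x := by
    show q (σ ⟨x', hxV'⟩) = f x'
    rw [← Scheme.Hom.comp_apply, hσ]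
    rfl
  -- the two sections agree over the preimage of `U`
  have hag : X'.homOfLE (inf_le_right : f ⁻¹ᵁ U ⊓ V' ≤ V') ≫ σ = X'.homOfLE (inf_le_left : f ⁻¹ᵁ U ⊓ V' ≤ f ⁻¹ᵁ U) ≫ (f ∣_ U) ≫ s := by
    apply pullback.hom_ext
    · simp only [Category.assoc, σ, s]
      erw [pullback.lift_fst, pullback.lift_fst]
      simp
    · simp only [Category.assoc, σ, s]
      erw [pullback.lift_snd, pullback.lift_snd]
      exact hcompat
  have hzΓ : z ∈ closure (Set.range s) := by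
    have hd : Dense (f ⁻¹' (U : Set X)) := hU.preimage f.isOpenMap
    have h1 : x' ∈ closure ((V' : Set X') ∩ f ⁻¹' (U : Set X)) := V'.2.inter_closure ⟨hxV', hd x'⟩
    have h2 : (⟨x', hxV'⟩ : V') ∈ closure (Subtype.val ⁻¹' (f ⁻¹' (U : Set X))) := by
      rw [closure_subtype]
      refine closure_mono ?_ h1
      rintro a ⟨ha, haU⟩
      exact ⟨⟨a, ha⟩, haU, rfl⟩
    refine closure_mono ?_ (image_closure_subset_closure_image σ.continuous ⟨_, h2, rfl⟩)
    rintro _ ⟨a, ha, rfl⟩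
    refine ⟨(f ∣_ U) ⟨a.1, ha⟩, ?_⟩
    have := congrArg (fun m => m (⟨a.1, ha, a.2⟩ : (f ⁻¹ᵁ U ⊓ V' : X'.Opens))) hag
    simp only [Scheme.Hom.comp_apply, Scheme.homOfLE_apply'] at this
    exact this.symm
  have huniq : ∀ w : P, w ∈ closure (Set.range s) → q w = x → w = z := by
    intro w hwΓ hwx
    let p1 : pullback f q ⟶ X' := pullback.fst f q
    let p2 : pullback f q ⟶ P := pullback.snd f q
    obtain ⟨w', hw1, hw2⟩ := Scheme.Pullback.exists_preimage_pullback (f := f) (g := q) x' w hwx.symm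
    let σ' : (V' : Scheme.{u}) ⟶ pullback f q := pullback.lift V'.ι σ hσ.symm
    let N : (pullback f q).Opens := p1 ⁻¹ᵁ V'
    let σN : (V' : Scheme.{u}) ⟶ (N : Scheme.{u}) := IsOpenImmersion.lift N.ι σ' (by
      rw [Scheme.Opens.range_ι]; rintro _ ⟨a, rfl⟩
      show p1 (σ' a) ∈ V'
      rw [← Scheme.Hom.comp_apply, pullback.lift_fst]
      exact a.2)
    have hN : σN ≫ (p1 ∣_ V') = 𝟙 _ := by
      rw [← cancel_mono V'.ι, Category.assoc, morphismRestrict_ι, IsOpenImmersion.lift_fac_assoc, pullback.lift_fst, Category.id_comp]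
    haveI : IsSeparated p1 := inferInstance
    haveI : IsSeparated (p1 ∣_ V') := IsZariskiLocalAtTarget.restrict ‹_› V'
    haveI : IsClosedImmersion (σN ≫ (p1 ∣_ V')) := by rw [hN]; infer_instance
    haveI : IsClosedImmersion σN := IsClosedImmersion.of_comp σN (p1 ∣_ V')
    have hsub : p2 ⁻¹' Set.range s ∩ (N : Set _) ⊆ Set.range σ' := by
      rintro v ⟨⟨p, hp⟩, hvN⟩
      obtain ⟨t, ht1, ht2⟩ := Scheme.Pullback.exists_preimage_pullback (f := p2) (g := s) v p hp.symm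
      let a' : pullback p2 s ⟶ X' := pullback.fst p2 s ≫ p1
      have ha' : a' ≫ f = pullback.snd p2 s ≫ U.ι := by
        rw [Category.assoc, pullback.condition, ← Category.assoc, pullback.condition, Category.assoc, hs]
      let l : pullback p2 s ⟶ ((f ⁻¹ᵁ U : X'.Opens) : Scheme.{u}) := IsOpenImmersion.lift (f ⁻¹ᵁ U).ι a' (by
        rw [Scheme.Opens.range_ι]; rintro _ ⟨b, rfl⟩
        show f (a' b) ∈ U
        rw [← Scheme.Hom.comp_apply, ha', Scheme.Hom.comp_apply]
        exact (pullback.snd p2 s b).2)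
      let s' : ((f ⁻¹ᵁ U : X'.Opens) : Scheme.{u}) ⟶ pullback f q := pullback.lift (f ⁻¹ᵁ U).ι ((f ∣_ U) ≫ s) (by rw [Category.assoc, hs, morphismRestrict_ι])
      have hl : pullback.fst p2 s = l ≫ s' := by
        apply pullback.hom_ext
        · rw [Category.assoc, pullback.lift_fst, IsOpenImmersion.lift_fac]
        · rw [Category.assoc, pullback.lift_snd]
          refine pullback.condition.trans ?_
          rw [← Category.assoc]
          congr 1
          rw [← cancel_mono U.ι, Category.assoc, morphismRestrict_ι, IsOpenImmersion.lift_fac_assoc, ha']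
      have hb : s' (l t) = v := by rw [← Scheme.Hom.comp_apply, ← hl, ht1]
      have hbV : (l t).1 ∈ V' := by
        have h1 : p1 (s' (l t)) ∈ V' := by rw [hb]; exact hvN
        rwa [← Scheme.Hom.comp_apply, pullback.lift_fst] at h1
      refine ⟨⟨(l t).1, hbV⟩, Eq.trans ?_ hb⟩
      have he : X'.homOfLE (inf_le_right : f ⁻¹ᵁ U ⊓ V' ≤ V') ≫ σ' = X'.homOfLE (inf_le_left : f ⁻¹ᵁ U ⊓ V' ≤ f ⁻¹ᵁ U) ≫ s' := by
        apply pullback.hom_ext
        · simp only [Category.assoc, σ', s']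
          erw [pullback.lift_fst, pullback.lift_fst]
          simp
        · simp only [Category.assoc, σ', s']
          erw [pullback.lift_snd, pullback.lift_snd]
          exact hag
      have := congrArg (fun m => m (⟨(l t).1, (l t).2, hbV⟩ : (f ⁻¹ᵁ U ⊓ V' : X'.Opens))) he
      simp only [Scheme.Hom.comp_apply, Scheme.homOfLE_apply'] at this
      exact this
    haveI : UniversallyOpen p2 := inferInstance
    have hw'N : w' ∈ N := by show p1 w' ∈ V'; rw [hw1]; exact hxV'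
    have h3 : w' ∈ closure (p2 ⁻¹' Set.range s) := by
      rw [← p2.isOpenMap.preimage_closure_eq_closure_preimage p2.continuous]
      show p2 w' ∈ closure _
      rw [hw2]; exact hwΓ
    have h4 : (⟨w', hw'N⟩ : N) ∈ closure (Set.range σN) := by
      refine (closure_subtype (p := fun v => v ∈ N)).2 ?_
      refine closure_mono ?_ (N.2.inter_closure ⟨hw'N, h3⟩)
      rintro v ⟨hvN, hv⟩
      obtain ⟨a, ha⟩ := hsub ⟨hv, hvN⟩
      refine ⟨⟨v, hvN⟩, ⟨a, Subtype.ext ?_⟩, rfl⟩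
      show N.ι (σN a) = v
      rw [← Scheme.Hom.comp_apply, IsOpenImmersion.lift_fac, ha]
    rw [σN.isClosedEmbedding.isClosed_range.closure_eq] at h4
    obtain ⟨a, ha⟩ := h4
    have h5 : σ' a = w' := by
      have := congrArg N.ι ha
      rwa [← Scheme.Hom.comp_apply, IsOpenImmersion.lift_fac] at this
    have hax : a = ⟨x', hxV'⟩ := Subtype.ext (by
      show V'.ι a = x'
      refine Eq.trans ?_ ((congrArg p1 h5).trans hw1)
      rw [← Scheme.Hom.comp_apply, pullback.lift_fst])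
    rw [← hw2, ← h5, hax]
    show p2 (σ' _) = σ _
    rw [← Scheme.Hom.comp_apply, pullback.lift_snd]
  obtain ⟨W₀, hxW₀, hW₀⟩ := hX x
  obtain ⟨W, hW, hxW, hWW₀⟩ := exists_isAffineOpen_mem_and_subset (X := X) (x := x) (U := W₀) hxW₀
  haveI : Nonempty W := ⟨⟨x, hxW⟩⟩
  haveI : IsIntegral (W₀ : Scheme.{u}) := hW₀
  haveI : IsIntegral (W : Scheme.{u}) := isIntegral_of_isOpenImmersion (X.homOfLE hWW₀)
  haveI : IsDomain (X.presheaf.stalk x) :=
    MulEquiv.isDomain _ (asIso ((W : X.Opens).ι.stalkMap ⟨x, hxW⟩)).commRingCatIsoToRingEquiv.toMulEquiv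
  haveI := hXn x
  obtain ⟨U', hUU', hxU', h', hq', hres⟩ := H6.NormalExtend.exists_extension_of_isolated q U hU s hs x W hxW hW z hz hzΓ ⊤ trivial
    (fun z' _ h2 h3 => huniq z' h2 h3)
  refine ⟨U', h' ≫ pullback.snd pX pY, hxU', ?_, ?_⟩
  · rw [Category.assoc, ← pullback.condition, ← Category.assoc, hq']
  · have : X.homOfLE (inf_le_right : U ⊓ U' ≤ U') = X.homOfLE (inf_le_left : U ⊓ U' ≤ U) ≫ X.homOfLE hUU' := by simp
    rw [this, Category.assoc, reassoc_of% hres, pullback.lift_snd]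

end Groth.Agent.S3837
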