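import Groth.Statements.S3846


set_option autoImplicit false
universe u
open CategoryTheory CategoryTheory.Limits AlgebraicGeometry TopologicalSpace
open Unram17

namespace Groth.Agent.S3846

/-- a) iff b''): let f : X → Y be locally of finite presentation and x a point of X. Then f is
unramified on some open neighbourhood of x if and only if, for every base change g : Y' → Y and
every section s' of X ×_Y Y' → Y', s' is a local isomorphism at every point y' of Y' such that
s'(y') lies over x. -/
theorem result {X Y : Scheme.{u}} (f : X ⟶ Y) [LocallyOfFinitePresentation f]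
    (x : ↥X) :
    (∃ U : X.Opens, x ∈ U ∧ FormallyUnramified (U.ι ≫ f)) ↔
      ∀ (Y' : Scheme.{u}) (g : Y' ⟶ Y) (s' : Y' ⟶ pullback f g), s' ≫ pullback.snd f g = 𝟙 Y' →
        ∀ y' : ↥Y', pullback.fst f g (s' y') = x → SchLoc.IsLocalIsoAt s' y' := by
  constructor
  · rintro ⟨U, hxU, hU⟩ Y' g s' hs y' hy'
    haveI := hU
    let q := pullback.snd f g
    let V := pullback.fst f g ⁻¹ᵁ U
    have hV : FormallyUnramified (V.ι ≫ q) := by
      have sq := (isPullback_morphismRestrict (pullback.fst f g) U).paste_vert (IsPullback.of_hasPullback f g)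
      exact MorphismProperty.of_isPullback (P := @FormallyUnramified) sq hU
    let W := s' ⁻¹ᵁ V
    refine ⟨W, show pullback.fst f g (s' y') ∈ U by rw [hy']; exact hxU, ?_⟩
    let t := s' ∣_ V
    have ht : IsOpenImmersion (t ≫ (V.ι ≫ q)) := by
      rw [morphismRestrict_ι_assoc, hs, Category.comp_id]
      infer_instance
    haveI : IsOpenImmersion t :=
      (MorphismProperty.hasOfPostcompProperty_iff_le_diagonal (P := @IsOpenImmersion)
        (Q := MorphismProperty.diagonal @IsOpenImmersion)).mpr le_rfl |>.of_postcomp t (V.ι ≫ q)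
        (show IsOpenImmersion (pullback.diagonal (V.ι ≫ q)) from inferInstance) ht
    show IsOpenImmersion (W.ι ≫ s')
    rw [← morphismRestrict_ι]
    infer_instance
  · intro h
    obtain ⟨U, hxU, hU⟩ := h X f (pullback.diagonal f) (pullback.diagonal_snd f) x
      (by rw [← Scheme.Hom.comp_apply, pullback.diagonal_fst]; rfl)
    refine ⟨U, hxU, ?_⟩
    haveI := hU
    haveI : IsOpenImmersion (pullback.diagonal (U.ι ≫ f) ≫
        pullback.map (U.ι ≫ f) (U.ι ≫ f) f f U.ι U.ι (𝟙 Y) (by simp) (by simp)) := by
      convert hU using 1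
      apply pullback.hom_ext
      · simp only [pullback.map, Category.assoc]
        erw [pullback.lift_fst]
        simp
      · simp only [pullback.map, Category.assoc]
        erw [pullback.lift_snd]
        simp
    haveI : IsOpenImmersion (pullback.diagonal (U.ι ≫ f)) :=
      IsOpenImmersion.of_comp _ (pullback.map (U.ι ≫ f) (U.ι ≫ f) f f U.ι U.ι (𝟙 Y) _ _)
    infer_instance

end Groth.Agent.S3846
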