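import Groth.Statements.S3848
import Groth.Agent.Lib.H6.NormalExtend2

set_option autoImplicit false
set_option linter.all false
set_option backward.isDefEq.respectTransparency.types false
set_option maxHeartbeats 1000000
universe u
open CategoryTheory CategoryTheory.Limits AlgebraicGeometry TopologicalSpace
open Rat20

namespace Groth.Agent.S3848

/-- In the case S = X (valuative criterion for a rational map to be defined at a point): let X be a
locally Noetherian scheme, q : Y → X a morphism locally of finite type, U a dense open subset of X,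
h : U → Y a section of q over U, x a point of X outside U whose local ring is an integrally closed
domain, and y₀ a point of Y over x with trivial residue field extension (an X-morphism Spec k(x) →
Y). Then h extends to a section h' of q over an open subset U' containing U and x with h'(x) = y₀ if
and only if: for every discrete valuation ring R and every morphism u : Spec R → X sending the
closed point to x and the generic point into U, there is a morphism h₁ : Spec R → Y over X sending
the closed point to y₀ and agreeing with h at the generic point. -/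
theorem result {X Y : Scheme.{u}} [IsLocallyNoetherian X] (q : Y ⟶ X)
    [LocallyOfFiniteType q] (U : X.Opens) (hU : Dense (U : Set ↥X)) (h : (U : Scheme.{u}) ⟶ Y)
    (hh : h ≫ q = U.ι) (x : ↥X) (hxU : x ∉ U) [IsDomain ↑(X.presheaf.stalk x)]
    (hx : IsIntegrallyClosed ↑(X.presheaf.stalk x)) (y₀ : ↥Y) (hy₀ : q y₀ = x)
    (hk : Function.Bijective (q.residueFieldMap y₀)) :
    (∃ (U' : X.Opens) (hUU' : U ≤ U') (hxU' : x ∈ U') (h' : (U' : Scheme.{u}) ⟶ Y),
        h' ≫ q = U'.ι ∧ X.homOfLE hUU' ≫ h' = h ∧ h' ⟨x, hxU'⟩ = y₀) ↔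
      ∀ (R : Type u) [CommRing R] [IsDomain R] [IsDiscreteValuationRing R]
        (u : Spec (CommRingCat.of R) ⟶ X), u (IsLocalRing.closedPoint R) = x →
        ∀ ub : Spec (CommRingCat.of (FractionRing R)) ⟶ (U : Scheme.{u}),
          ub ≫ U.ι = Spec.map (CommRingCat.ofHom (algebraMap R (FractionRing R))) ≫ u →
          ∃ h₁ : Spec (CommRingCat.of R) ⟶ Y, h₁ ≫ q = u ∧ h₁ (IsLocalRing.closedPoint R) = y₀ ∧
            Spec.map (CommRingCat.ofHom (algebraMap R (FractionRing R))) ≫ h₁ = ub ≫ h := by
  constructor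
  · rintro ⟨U', hUU', hxU', h', hq', hres, hy⟩ R _ _ _ u hu ub hub
    have hr : Set.range u ⊆ Set.range U'.ι := by
      rw [Scheme.Opens.range_ι]
      rintro _ ⟨a, rfl⟩
      exact H6.DVRVal.mem_of_closed u (hu.symm ▸ hxU') a
    let u' := IsOpenImmersion.lift U'.ι u hr
    refine ⟨u' ≫ h', by rw [Category.assoc, hq', IsOpenImmersion.lift_fac], ?_, ?_⟩
    · rw [Scheme.Hom.comp_apply]
      refine (congrArg h' (Subtype.ext ?_)).trans hy
      show U'.ι (u' (IsLocalRing.closedPoint R)) = x
      rw [← Scheme.Hom.comp_apply, IsOpenImmersion.lift_fac, hu]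
    · rw [← hres, ← Category.assoc, ← Category.assoc]
      congr 1
      rw [← cancel_mono U'.ι, Category.assoc, Category.assoc, IsOpenImmersion.lift_fac, Scheme.homOfLE_ι, hub]
  intro H
  open H6.NormalExtend IsLocalRing in
  obtain ⟨W, hxW, hW, hWi⟩ := exists_integral_nhd x
  obtain ⟨V, hV, hyV, hVW⟩ := exists_isAffineOpen_mem_and_subset (X := Y) (x := y₀) (U := q ⁻¹ᵁ W)
    (show q y₀ ∈ W by rw [hy₀]; exact hxW)
  have hjU := H6.NormalExtend.range_jK_subset x hU
  haveI := hx
  let A := X.presheaf.stalk x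
  let K := FractionRing A
  have hne : ¬ IsField A := by
    intro hf
    have hx' : H6.NormalExtend.jK x (IsLocalRing.closedPoint K) = x := by
      rw [H6.NormalExtend.jK, Scheme.Hom.comp_apply]
      have hcl : Spec.map (CommRingCat.ofHom (algebraMap A K)) (IsLocalRing.closedPoint K) = IsLocalRing.closedPoint A := by
        refine PrimeSpectrum.ext ?_
        show (IsLocalRing.closedPoint K).asIdeal.comap (algebraMap A K) = IsLocalRing.maximalIdeal A
        rw [show (IsLocalRing.closedPoint K).asIdeal = ⊥ from (Ideal.eq_bot_or_top _).resolve_right (IsLocalRing.closedPoint K).2.ne_top,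
          ← RingHom.ker_eq_comap_bot, (RingHom.injective_iff_ker_eq_bot _).1 (IsFractionRing.injective A K)]
        exact (IsLocalRing.isField_iff_maximalIdeal_eq.1 hf).symm
      exact (congrArg (X.fromSpecStalk x) hcl).trans Scheme.fromSpecStalk_closedPoint
    exact hxU (hx' ▸ hjU ⟨_, rfl⟩)
  let i := IsOpenImmersion.lift U.ι (H6.NormalExtend.jK x) (by simpa using hjU)
  -- lifts along dominating discrete valuation rings of the function field
  have key : ∀ (D : ValuationSubring K), IsDiscreteValuationRing D → (∀ a : A, algebraMap A K a ∈ D) →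
      (∀ a ∈ IsLocalRing.maximalIdeal A, algebraMap A K a ∈ D.nonunits) →
      ∃ (a : A ⟶ CommRingCat.of D) (h₁ : Spec (CommRingCat.of D) ⟶ Y),
        a ≫ CommRingCat.ofHom D.subtype = CommRingCat.ofHom (algebraMap A K) ∧ IsLocalHom a.hom ∧
        h₁ ≫ q = Spec.map a ≫ X.fromSpecStalk x ∧ h₁ (IsLocalRing.closedPoint D) = y₀ ∧
        Spec.map (CommRingCat.ofHom D.subtype) ≫ h₁ = H6.NormalExtend.gK x U h hjU := by
    intro D hD h1 h2
    let a : A ⟶ CommRingCat.of D := CommRingCat.ofHom ((algebraMap A K).codRestrict D.toSubring h1)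
    haveI hloc : IsLocalHom a.hom := ⟨fun s hs => by
      by_contra hn
      obtain ⟨hm', hm⟩ := ValuationSubring.mem_nonunits_iff_exists_mem_maximalIdeal.1 (h2 s ((IsLocalRing.mem_maximalIdeal s).2 hn))
      exact (IsLocalRing.mem_maximalIdeal _).1 hm hs⟩
    let e := (FractionRing.algEquiv D K).toRingEquiv
    have he : (CommRingCat.ofHom (algebraMap D (FractionRing D))) ≫ CommRingCat.ofHom e.toRingHom = CommRingCat.ofHom D.subtype := by
      ext s
      exact (FractionRing.algEquiv D K).commutes s
    have he' : CommRingCat.ofHom D.subtype ≫ CommRingCat.ofHom e.symm.toRingHom = CommRingCat.ofHom (algebraMap D (FractionRing D)) := by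
      ext s
      exact (FractionRing.algEquiv D K).symm.commutes s
    have hsub : Spec.map (CommRingCat.ofHom D.subtype) ≫ Spec.map a ≫ X.fromSpecStalk x = H6.NormalExtend.jK x := by
      rw [← Spec.map_comp_assoc]
      rfl
    obtain ⟨h₁, hq₁, hc₁, hg₁⟩ := H D (Spec.map a ≫ X.fromSpecStalk x) (by
      rw [Scheme.Hom.comp_apply, show Spec.map a (IsLocalRing.closedPoint D) = IsLocalRing.closedPoint A from
        IsLocalRing.comap_closedPoint (S := D) a.hom]
      exact Scheme.fromSpecStalk_closedPoint)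
      (Spec.map (CommRingCat.ofHom e.symm.toRingHom) ≫ i)
      (by rw [Category.assoc, IsOpenImmersion.lift_fac, ← hsub, ← Spec.map_comp_assoc, he'])
    refine ⟨a, h₁, rfl, hloc, hq₁, hc₁, ?_⟩
    rw [← he, Spec.map_comp, Category.assoc, hg₁, ← Category.assoc, ← Spec.map_comp_assoc,
      show CommRingCat.ofHom e.symm.toRingHom ≫ CommRingCat.ofHom e.toRingHom = 𝟙 _ from by ext s; exact e.apply_symm_apply s]
    simp [H6.NormalExtend.gK, i]
  obtain ⟨D₀, hD₀, h1₀, h2₀⟩ := H6.DVRDom.exists_dvr (R := A) K K hne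
  obtain ⟨a₀, l₀, ha₀, hloc₀, hq₀, hc₀, hg₀⟩ := key D₀ hD₀ h1₀ h2₀
  have hmem : H6.NormalExtend.gK x U h hjU (IsLocalRing.closedPoint K) ∈ V := by
    rw [← hg₀, Scheme.Hom.comp_apply]
    exact H6.DVRVal.mem_of_closed l₀ (hc₀.symm ▸ hyV) _
  obtain ⟨θ, hθ⟩ := H6.NormalExtend.exists_theta x U h hjU hV hmem
  have hr : ∀ b, θ.hom b ∈ (algebraMap A K).range := by
    intro b
    by_contra hn
    obtain ⟨D, hD, h1, h2, hbD⟩ := H6.NormalExtend.exists_dvr_not_mem hne hn
    obtain ⟨a, l, -, -, -, hc, hg⟩ := key D hD h1 h2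
    obtain ⟨η, hη⟩ := H6.DVRVal.exists_factor hV l (H6.DVRVal.mem_of_closed l (hc.symm ▸ hyV))
    have : η ≫ CommRingCat.ofHom D.subtype = θ := by
      apply H6.DVRVal.factor_unique hV
      rw [Spec.map_comp, Category.assoc, hη, hg, hθ]
    exact hbD (this ▸ (η.hom b).2)
  obtain ⟨β, hβθ, hm, hβ⟩ := H6.NormalExtend.exists_beta x q U h hh hjU hW hxW hV hVW θ hθ hr
  have hpts : ∀ p : U, (p : X) ⤳ x → h p ∈ V := by
    intro p hp
    have hne' : (p : X) ≠ x := fun e => hxU (e ▸ p.2)
    obtain ⟨D, hD, g, hg1, hg2⟩ := H6.DVRDom.exists_dvr_pair hp hne' (X.residueField p) (𝟙 _) (RingHom.FiniteType.id _).essFiniteType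
    let e := (FractionRing.algEquiv D (X.residueField (p : X))).toRingEquiv
    let ρ : (U : Scheme.{u}).residueField p ⟶ CommRingCat.of (FractionRing D) :=
      inv (U.ι.residueFieldMap p) ≫ CommRingCat.ofHom e.symm.toRingHom
    obtain ⟨l, -, hc, hl⟩ := H D g hg1 (Spec.map ρ ≫ (U : Scheme.{u}).fromSpecResidueField p) (by
      rw [Category.assoc, ← Scheme.Hom.SpecMap_residueFieldMap_fromSpecResidueField, ← Spec.map_comp_assoc]
      simp only [ρ, IsIso.hom_inv_id_assoc]
      have he' : CommRingCat.ofHom D.subtype ≫ CommRingCat.ofHom e.symm.toRingHom = CommRingCat.ofHom (algebraMap D (FractionRing D)) := by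
        ext s
        exact (FractionRing.algEquiv D (X.residueField (p : X))).symm.commutes s
      rw [← he', Spec.map_comp, Category.assoc, hg2, Spec.map_id]
      erw [Category.id_comp]
      rfl)
    have h1 := congrArg (fun k => k (IsLocalRing.closedPoint (FractionRing D))) hl
    simp only [Scheme.Hom.comp_apply] at h1
    rw [Scheme.fromSpecResidueField_apply] at h1
    rw [← h1]
    exact H6.DVRVal.mem_of_closed l (hc.symm ▸ hyV) _
  obtain ⟨U', hUU', hxU', h', hq', hres, hval⟩ := H6.NormalExtend.exists_extension x q U h hh hjU hV β hm hβ (Or.inr hpts)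
  refine ⟨U', hUU', hxU', h', hq', hres, hval.trans ?_⟩
  obtain ⟨η, hη⟩ := H6.DVRVal.exists_factor hV l₀ (H6.DVRVal.mem_of_closed l₀ (hc₀.symm ▸ hyV))
  have hηβ : η = β ≫ a₀ := by
    ext b
    have h1 : η ≫ CommRingCat.ofHom D₀.subtype = θ := by
      apply H6.DVRVal.factor_unique hV
      rw [Spec.map_comp, Category.assoc, hη, hg₀, hθ]
    calc ((η.hom b : D₀) : K) = θ.hom b := congrArg (fun k => k.hom b) h1
      _ = ((β ≫ a₀) ≫ CommRingCat.ofHom D₀.subtype).hom b := by rw [Category.assoc, ha₀]; exact congrArg (fun k => k.hom b) hβθ.symm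
      _ = _ := rfl
  rw [← hc₀, ← hη, hηβ, Spec.map_comp, Category.assoc, Scheme.Hom.comp_apply, Scheme.Hom.comp_apply]
  congr 2
  haveI := hloc₀
  exact (IsLocalRing.comap_closedPoint (S := D₀) a₀.hom).symm

end Groth.Agent.S3848
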