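import Groth.Statements.S3849
import Groth.Agent.Lib.H6.NormalExtend2

set_option autoImplicit false
set_option linter.all false
set_option backward.isDefEq.respectTransparency.types false
set_option maxHeartbeats 400000
open scoped TensorProduct
universe u
open CategoryTheory CategoryTheory.Limits AlgebraicGeometry TopologicalSpace
open Rat20

namespace Groth.Agent.S3849

/-- In the case S = X (sections of q : Y → X): let X be a locally Noetherian scheme, q : Y → X
separated, locally of finite type and locally quasi-finite, U a dense open subset of X, h : U → Y a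
section of q over U, and x a point of X outside U whose local ring is an integrally closed domain.
Then h extends to a section of q over an open subset containing U and x if and only if there exist a
discrete valuation ring R, a morphism u : Spec R → X sending the closed point to x and the generic
point into U, and a morphism Spec R → Y over X agreeing with h at the generic point. -/
theorem result {X Y : Scheme.{u}} [IsLocallyNoetherian X] (q : Y ⟶ X)
    [LocallyOfFiniteType q] [IsSeparated q] [LocallyQuasiFinite q] (U : X.Opens) (hU : Dense (U : Set ↥X))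
    (h : (U : Scheme.{u}) ⟶ Y) (hh : h ≫ q = U.ι) (x : ↥X) (hxU : x ∉ U) [IsDomain ↑(X.presheaf.stalk x)]
    (hx : IsIntegrallyClosed ↑(X.presheaf.stalk x)) :
    (∃ (U' : X.Opens) (hUU' : U ≤ U') (h' : (U' : Scheme.{u}) ⟶ Y),
        x ∈ U' ∧ h' ≫ q = U'.ι ∧ X.homOfLE hUU' ≫ h' = h) ↔
      ∃ (R : Type u) (_ : CommRing R) (_ : IsDomain R) (_ : IsDiscreteValuationRing R)
        (u : Spec (CommRingCat.of R) ⟶ X) (ub : Spec (CommRingCat.of (FractionRing R)) ⟶ (U : Scheme.{u}))
        (h₁ : Spec (CommRingCat.of R) ⟶ Y),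
        u (IsLocalRing.closedPoint R) = x ∧
          ub ≫ U.ι = Spec.map (CommRingCat.ofHom (algebraMap R (FractionRing R))) ≫ u ∧
          h₁ ≫ q = u ∧ Spec.map (CommRingCat.ofHom (algebraMap R (FractionRing R))) ≫ h₁ = ub ≫ h := by
  constructor
  · rintro ⟨U', hUU', h', hxU', hq', hres⟩
    have hjU := H6.NormalExtend.range_jK_subset x hU
    haveI := hx
    let A := X.presheaf.stalk x
    let K := FractionRing A
    have hne : ¬ IsField A := by
      intro hf
      have hx' : H6.NormalExtend.jK x (IsLocalRing.closedPoint K) = x := by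
        rw [H6.NormalExtend.jK, Scheme.Hom.comp_apply]
        exact (congrArg (X.fromSpecStalk x) (PrimeSpectrum.ext (by
          show (IsLocalRing.closedPoint K).asIdeal.comap (algebraMap A K) = IsLocalRing.maximalIdeal A
          rw [show (IsLocalRing.closedPoint K).asIdeal = ⊥ from (Ideal.eq_bot_or_top _).resolve_right (IsLocalRing.closedPoint K).2.ne_top,
            ← RingHom.ker_eq_comap_bot, (RingHom.injective_iff_ker_eq_bot _).1 (IsFractionRing.injective A K)]
          exact (IsLocalRing.isField_iff_maximalIdeal_eq.1 hf).symm) :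
            Spec.map (CommRingCat.ofHom (algebraMap A K)) (IsLocalRing.closedPoint K) = IsLocalRing.closedPoint A)).trans Scheme.fromSpecStalk_closedPoint
      exact hxU (hx' ▸ hjU ⟨_, rfl⟩)
    obtain ⟨D, hD, h1, h2⟩ := H6.DVRDom.exists_dvr (R := A) K K hne
    let a : A ⟶ CommRingCat.of D := CommRingCat.ofHom ((algebraMap A K).codRestrict D.toSubring h1)
    haveI hloc : IsLocalHom a.hom := ⟨fun s hs => by
      by_contra hn
      obtain ⟨hm', hm⟩ := ValuationSubring.mem_nonunits_iff_exists_mem_maximalIdeal.1 (h2 s ((IsLocalRing.mem_maximalIdeal s).2 hn))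
      exact (IsLocalRing.mem_maximalIdeal _).1 hm hs⟩
    let e := (FractionRing.algEquiv D K).toRingEquiv
    have he' : CommRingCat.ofHom D.subtype ≫ CommRingCat.ofHom e.symm.toRingHom = CommRingCat.ofHom (algebraMap D (FractionRing D)) := by
      ext s
      exact (FractionRing.algEquiv D K).symm.commutes s
    let u : Spec (CommRingCat.of D) ⟶ X := Spec.map a ≫ X.fromSpecStalk x
    have hu : u (IsLocalRing.closedPoint D) = x := by
      rw [Scheme.Hom.comp_apply, show Spec.map a (IsLocalRing.closedPoint D) = IsLocalRing.closedPoint A from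
        IsLocalRing.comap_closedPoint (S := D) a.hom]
      exact Scheme.fromSpecStalk_closedPoint
    have hr : Set.range u ⊆ Set.range U'.ι := by
      rw [Scheme.Opens.range_ι]
      rintro _ ⟨c, rfl⟩
      exact H6.DVRVal.mem_of_closed u (hu.symm ▸ hxU') c
    let i := IsOpenImmersion.lift U.ι (H6.NormalExtend.jK x) (by simpa using hjU)
    have hub : (Spec.map (CommRingCat.ofHom e.symm.toRingHom) ≫ i) ≫ U.ι = Spec.map (CommRingCat.ofHom (algebraMap D (FractionRing D))) ≫ u := by
      rw [Category.assoc, IsOpenImmersion.lift_fac, ← he', Spec.map_comp, Category.assoc]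
      congr 1
      rw [← Spec.map_comp_assoc]
      rfl
    refine ⟨D, inferInstance, inferInstance, hD, u, Spec.map (CommRingCat.ofHom e.symm.toRingHom) ≫ i,
      IsOpenImmersion.lift U'.ι u hr ≫ h', hu, hub, ?_, ?_⟩
    · rw [Category.assoc, hq', IsOpenImmersion.lift_fac]
    · rw [← hres, ← Category.assoc, ← Category.assoc _ (X.homOfLE hUU')]
      congr 1
      rw [← cancel_mono U'.ι, Category.assoc, Category.assoc _ (X.homOfLE hUU'), IsOpenImmersion.lift_fac, Scheme.homOfLE_ι, hub]
  rintro ⟨R, _, _, _, u, ub, h₁, hu, hub, hq₁, hh₁⟩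
  haveI := hx
  obtain ⟨W, hxW, hW, hWi⟩ := H6.NormalExtend.exists_integral_nhd x
  obtain ⟨V, hV, hyV, hVW⟩ := exists_isAffineOpen_mem_and_subset (X := Y) (x := h₁ (IsLocalRing.closedPoint R)) (U := q ⁻¹ᵁ W)
    (show q (h₁ (IsLocalRing.closedPoint R)) ∈ W by rw [← Scheme.Hom.comp_apply, hq₁, hu]; exact hxW)
  have hjU := H6.NormalExtend.range_jK_subset x hU
  let A := X.presheaf.stalk x
  let K := FractionRing A
  let L := FractionRing R
  obtain ⟨a, hua, haloc⟩ : ∃ a : A ⟶ CommRingCat.of R, Spec.map a ≫ X.fromSpecStalk x = u ∧ IsLocalHom a.hom := by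
    subst hu
    exact ⟨Scheme.stalkClosedPointTo u, Scheme.Spec_stalkClosedPointTo_fromSpecStalk u, inferInstance⟩
  haveI := haloc
  let aL : A →+* L := (algebraMap R L).comp a.hom
  let P : Ideal A := RingHom.ker aL
  haveI : P.IsPrime := RingHom.ker_isPrime _
  let AP := Localization.AtPrime P
  letI : Algebra AP K := (IsLocalization.lift (M := P.primeCompl) (g := algebraMap A K) (fun s => by
    rw [isUnit_iff_ne_zero]
    exact fun h0 => s.2 (by rw [IsFractionRing.injective A K (h0.trans (map_zero _).symm)]; exact zero_mem _))).toAlgebra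
  haveI : IsScalarTower A AP K := IsScalarTower.of_algebraMap_eq fun s => (IsLocalization.lift_eq _ s).symm
  have hAPinj : Function.Injective (algebraMap AP K) := by
    haveI : IsFractionRing AP K := IsFractionRing.isFractionRing_of_isDomain_of_isLocalization P.primeCompl AP K
    exact IsFractionRing.injective AP K
  have hunit : ∀ s : P.primeCompl, IsUnit (aL (s : A)) := fun s => isUnit_iff_ne_zero.2 fun h0 => s.2 (RingHom.mem_ker.2 h0)
  let lft : AP →+* L := IsLocalization.lift (M := P.primeCompl) (g := aL) hunit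
  have hlift : ∀ s : A, lft (algebraMap A AP s) = algebraMap R L (a.hom s) := fun s => IsLocalization.lift_eq hunit s
  let c : Spec (CommRingCat.of AP) ⟶ X := Spec.map (CommRingCat.ofHom (algebraMap A AP)) ≫ X.fromSpecStalk x
  have hlc : Spec.map (CommRingCat.ofHom lft) ≫ c = Spec.map (CommRingCat.ofHom (algebraMap R L)) ≫ u := by
    refine Eq.trans ?_ (congrArg (fun k => Spec.map (CommRingCat.ofHom (algebraMap R L)) ≫ k) hua)
    rw [← Spec.map_comp_assoc, ← Spec.map_comp_assoc]
    congr 2
    ext s
    exact hlift s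
  have hclL : Spec.map (CommRingCat.ofHom lft) (IsLocalRing.closedPoint L) = IsLocalRing.closedPoint AP := by
    haveI : IsLocalHom lft := ⟨fun z hz => by
      obtain ⟨p, s, rfl⟩ := IsLocalization.exists_mk'_eq P.primeCompl z
      rw [IsLocalization.AtPrime.isUnit_mk'_iff AP P]
      intro hp
      refine hz.ne_zero ?_
      rw [IsLocalization.lift_mk', RingHom.mem_ker.1 hp, zero_mul]⟩
    exact IsLocalRing.comap_closedPoint lft
  have hcU : Set.range c ⊆ Set.range U.ι := by
    rw [Scheme.Opens.range_ι]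
    rintro _ ⟨z, rfl⟩
    refine H6.DVRVal.mem_of_closed c ?_ z
    have : (Spec.map (CommRingCat.ofHom lft) ≫ c) (IsLocalRing.closedPoint L) ∈ U := by
      rw [hlc, ← hub, Scheme.Hom.comp_apply]
      exact (ub _).2
    rwa [Scheme.Hom.comp_apply, hclL] at this
  let cU := IsOpenImmersion.lift U.ι c hcU
  have hcub : Spec.map (CommRingCat.ofHom lft) ≫ cU = ub := by
    rw [← cancel_mono U.ι, Category.assoc, IsOpenImmersion.lift_fac, hlc, hub]
  have hlcl : (cU ≫ h) (IsLocalRing.closedPoint AP) ∈ V := by
    rw [← hclL, ← Scheme.Hom.comp_apply, reassoc_of% hcub, ← hh₁, Scheme.Hom.comp_apply]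
    exact H6.DVRVal.mem_of_closed h₁ hyV _
  obtain ⟨ν, hν⟩ := H6.DVRVal.exists_factor hV (cU ≫ h) (H6.DVRVal.mem_of_closed _ hlcl)
  have hgen : Spec.map (CommRingCat.ofHom (algebraMap AP K)) ≫ cU ≫ h = H6.NormalExtend.gK x U h hjU := by
    rw [H6.NormalExtend.gK, ← Category.assoc]
    congr 1
    rw [← cancel_mono U.ι, Category.assoc, IsOpenImmersion.lift_fac, IsOpenImmersion.lift_fac, ← Spec.map_comp_assoc,
      H6.NormalExtend.jK]
    congr 2
    ext s
    exact (IsScalarTower.algebraMap_apply A AP K s).symm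
  let θ : Γ(Y, V) ⟶ CommRingCat.of K := ν ≫ CommRingCat.ofHom (algebraMap AP K)
  have hθ : Spec.map θ ≫ hV.fromSpec = H6.NormalExtend.gK x U h hjU := by
    rw [Spec.map_comp, Category.assoc, hν, hgen]
  obtain ⟨ρ, hρ⟩ := H6.DVRVal.exists_factor hV h₁ (H6.DVRVal.mem_of_closed h₁ hyV)
  have hρν : ρ ≫ CommRingCat.ofHom (algebraMap R L) = ν ≫ CommRingCat.ofHom lft := by
    apply H6.DVRVal.factor_unique hV
    rw [Spec.map_comp, Category.assoc, hρ, hh₁, Spec.map_comp, Category.assoc, hν, reassoc_of% hcub]
  -- the algebra generated in the function field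
  algebraize [(q.appLE W V hVW).hom]
  letI : Algebra Γ(X, W) A := (X.presheaf.germ W x hxW).hom.toAlgebra
  haveI : Algebra.FiniteType Γ(X, W) Γ(Y, V) := q.finiteType_appLE hW hV hVW
  haveI : Algebra.QuasiFinite Γ(X, W) Γ(Y, V) := LocallyQuasiFinite.quasiFinite_appLE hW hV hVW
  have hθA : ∀ s, θ.hom (algebraMap Γ(X, W) Γ(Y, V) s) = algebraMap Γ(X, W) K s := fun s =>
    (congrArg (fun k => k.hom s) (H6.NormalExtend.appLE_theta x q U h hh hjU hW hxW hV hVW θ hθ)).trans
      (IsScalarTower.algebraMap_apply Γ(X, W) A K s).symm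
  let θa : Γ(Y, V) →ₐ[Γ(X, W)] K := { θ.hom with commutes' := hθA }
  let φ : TensorProduct Γ(X, W) A Γ(Y, V) →ₐ[A] K :=
    Algebra.TensorProduct.lift (Algebra.ofId A K) θa fun _ _ => Commute.all _ _
  let B := φ.range
  haveI : Algebra.FiniteType A B := Algebra.FiniteType.of_surjective φ.rangeRestrict φ.rangeRestrict_surjective
  haveI : Algebra.QuasiFinite A B := Algebra.QuasiFinite.of_surjective_algHom φ.rangeRestrict φ.rangeRestrict_surjective
  have hBT : ∀ b : B, ∃ t : AP, algebraMap AP K t = (b : K) ∧ ∃ r : R, lft t = algebraMap R L r := by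
    rintro ⟨_, t, rfl⟩
    induction t using TensorProduct.induction_on with
    | zero => exact ⟨0, by simp, 0, by simp⟩
    | tmul p b =>
      refine ⟨algebraMap A AP p * ν.hom b, ?_, a.hom p * ρ.hom b, ?_⟩
      · rw [map_mul, ← IsScalarTower.algebraMap_apply A AP K]
        show _ = φ (p ⊗ₜ b)
        rw [show φ (p ⊗ₜ b) = Algebra.ofId A K p * θa b from rfl]
        rfl
      · rw [map_mul, map_mul]
        refine congrArg₂ (· * ·) (hlift p) ?_
        exact (congrArg (fun k => k.hom b) hρν).symm
    | add p p' hp hp' =>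
      obtain ⟨t, ht, r, hr⟩ := hp
      obtain ⟨t', ht', r', hr'⟩ := hp'
      refine ⟨t + t', ?_, r + r', by rw [map_add, map_add, hr, hr']⟩
      show _ = φ (p + p')
      rw [map_add, map_add, ht, ht']
      rfl
  choose τ hτ σ hσ using hBT
  let σ' : B →+* R :=
    { toFun := σ
      map_one' := IsFractionRing.injective R L (by
        rw [← hσ, map_one, hAPinj ((hτ 1).trans (map_one (algebraMap AP K)).symm), map_one])
      map_mul' := fun p p' => IsFractionRing.injective R L (by
        rw [map_mul, ← hσ, ← hσ, ← hσ, ← map_mul,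
          hAPinj ((hτ (p * p')).trans (by rw [map_mul, hτ, hτ]; rfl) : algebraMap AP K (τ (p * p')) = algebraMap AP K (τ p * τ p'))])
      map_zero' := IsFractionRing.injective R L (by
        rw [← hσ, map_zero, hAPinj ((hτ 0).trans (map_zero (algebraMap AP K)).symm), map_zero])
      map_add' := fun p p' => IsFractionRing.injective R L (by
        rw [map_add, ← hσ, ← hσ, ← hσ, ← map_add,
          hAPinj ((hτ (p + p')).trans (by rw [map_add, hτ, hτ]; rfl) : algebraMap AP K (τ (p + p')) = algebraMap AP K (τ p + τ p'))]) }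
  let Q : Ideal B := (IsLocalRing.maximalIdeal R).comap σ'
  haveI : Q.IsPrime := Ideal.comap_isPrime _ _
  haveI : Algebra.QuasiFiniteAt A Q := inferInstance
  obtain ⟨r, hrQ, hrint, hrx⟩ := (Algebra.zariskisMainProperty_iff).1 (Algebra.ZariskisMainProperty.of_finiteType (R := A) Q)
  have hint : ∀ b : B, IsIntegral A b → (b : K) ∈ (algebraMap A K).range := fun b hb =>
    IsIntegrallyClosed.isIntegral_iff.1 (hb.map B.val)
  obtain ⟨r₀, hr₀⟩ := hint r hrint
  have hru : IsUnit r₀ := by
    by_contra hn
    refine hrQ ?_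
    have hbA : r = algebraMap A B r₀ := Subtype.ext hr₀.symm
    have hσA : ∀ p : A, σ (algebraMap A B p) = a.hom p := fun p => IsFractionRing.injective R L (by
      rw [← hσ, hAPinj ((hτ _).trans (IsScalarTower.algebraMap_apply A AP K p))]
      exact hlift p)
    show σ r ∈ IsLocalRing.maximalIdeal R
    rw [hbA, hσA, IsLocalRing.mem_maximalIdeal, mem_nonunits_iff]
    exact fun hu' => hn (isUnit_of_map_unit a.hom r₀ hu')
  have hr : ∀ b, θ.hom b ∈ (algebraMap A K).range := by
    intro b
    have hb : θ.hom b ∈ B := ⟨1 ⊗ₜ b, (Algebra.TensorProduct.lift_tmul _ _ _ _ _).trans (by rw [map_one, one_mul]; rfl)⟩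
    obtain ⟨n, hn⟩ := hrx ⟨_, hb⟩
    obtain ⟨p, hp⟩ := hint _ hn
    refine ⟨((hru.pow n).unit⁻¹ : Aˣ) * p, ?_⟩
    change algebraMap A K p = (r : K) ^ n * θ.hom b at hp
    rw [map_mul, hp, ← hr₀, ← map_pow, ← mul_assoc, ← map_mul]
    rw [show ((hru.pow n).unit⁻¹ : Aˣ) * r₀ ^ n = 1 from IsUnit.val_inv_mul (hru.pow n), map_one, one_mul]
  obtain ⟨β, -, hm, hβ⟩ := H6.NormalExtend.exists_beta x q U h hh hjU hW hxW hV hVW θ hθ hr
  obtain ⟨U', hUU', hxU', h', hq', hres, -⟩ := H6.NormalExtend.exists_extension x q U h hh hjU hV β hm hβ (Or.inl inferInstance)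
  exact ⟨U', hUU', h', hxU', hq', hres⟩

end Groth.Agent.S3849
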