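import Groth.Statements.S3852
import Mathlib

set_option autoImplicit false
universe u
open FCompl

namespace Groth.Agent.S3852
open CategoryTheory CategoryTheory.Limits AlgebraicGeometry TopologicalSpace

open AlgebraicGeometry in
/-- Second assertion; stated for quasi-coherent ideal sheaves, with the condition on supports as an
inclusion, which is what the proof uses: Let X be a Noetherian scheme and I, J ideal sheaves such
that the zero locus of J is contained in the zero locus of I. Then I^n ≤ J for some n ≥ 1. -/
theorem result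
    (X : Scheme.{u}) [IsNoetherian X] (I J : X.IdealSheafData)
    (h : (J.support : Set X) ⊆ I.support) :
    ∃ n : ℕ, I ^ (n + 1) ≤ J := by
  have hle : I ≤ J.radical := by
    rw [← Scheme.IdealSheafData.vanishingIdeal_support]
    exact Scheme.IdealSheafData.le_support_iff_le_vanishingIdeal.1 h
  obtain ⟨s, hs⟩ := isCompact_univ.elim_finite_subcover (fun U : X.affineOpens => (U.1 : Set X)) (fun U => U.1.2) (fun x _ => by
    obtain ⟨_, ⟨W, hW, rfl⟩, hxW, -⟩ := X.isBasis_affineOpens.exists_subset_of_mem_open (Set.mem_univ x) isOpen_univ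
    exact Set.mem_iUnion.2 ⟨⟨W, hW⟩, hxW⟩)
  have hn : ∀ U : X.affineOpens, ∃ n, I.ideal U ^ n ≤ J.ideal U := fun U => by
    haveI : IsNoetherianRing Γ(X, U.1) := IsLocallyNoetherian.component_noetherian U
    exact Ideal.exists_pow_le_of_le_radical_of_fg (hle U) (IsNoetherian.noetherian _)
  choose n hn using hn
  refine ⟨s.sup n, Scheme.IdealSheafData.le_of_iSup_eq_top (fun U : {U // U ∈ s} => U.1) (top_le_iff.1 fun x _ => by obtain ⟨U, hU, hx⟩ := Set.mem_iUnion₂.1 (hs (Set.mem_univ x)); exact TopologicalSpace.Opens.mem_iSup.2 ⟨⟨U, hU⟩, hx⟩) fun U => ?_⟩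
  simp only [Scheme.IdealSheafData.ideal_pow, Pi.pow_apply]
  exact (Ideal.pow_le_pow_right ((Finset.le_sup U.2).trans (Nat.le_succ _))).trans (hn U.1)

end Groth.Agent.S3852
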