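import Groth.Statements.S3856
import Mathlib
import Groth.Agent.Lib.H4AdicLim
import Groth.Agent.Lib.CompleteNoetherian


set_option autoImplicit false
universe u
open AdicRing

namespace Groth.Agent.S3856

theorem fg_of_complete {A : Type u} [CommRing A] (J : Ideal A) [IsAdicComplete J A]
    {r : ℕ} (y : Fin r → A) (hy : ∀ i, y i ∈ J) (hJ : J ≤ Ideal.span (Set.range y) ⊔ J ^ 2) :
    J.FG := by
  classical
  set φ := Fintype.linearCombination A y
  have hφJ : ∀ (k : ℕ) (c : Fin r → A), c ∈ J ^ k • (⊤ : Submodule A (Fin r → A)) → φ c ∈ J ^ (k + 1) := fun k c hc => by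
    refine Submodule.smul_induction_on hc (fun a ha b _ => ?_) fun a b ha hb => by rw [map_add]; exact add_mem ha hb
    rw [map_smul, smul_eq_mul, pow_succ]
    exact Ideal.mul_mem_mul ha (by
      simp only [φ, Fintype.linearCombination_apply, smul_eq_mul]
      exact Ideal.sum_mem _ fun i _ => Ideal.mul_mem_left _ _ (hy i))
  have step : ∀ (k : ℕ) (z : A), z ∈ J ^ (k + 1) → ∃ c ∈ J ^ k • (⊤ : Submodule A (Fin r → A)), z - φ c ∈ J ^ (k + 2) := by
    intro k z hz
    rw [pow_succ] at hz
    refine Submodule.mul_induction_on hz (fun a ha b hb => ?_) ?_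
    · obtain ⟨p, hp, q, hq, rfl⟩ := Submodule.mem_sup.1 (hJ hb)
      obtain ⟨c, rfl⟩ := (Submodule.mem_span_range_iff_exists_fun A).1 hp
      refine ⟨a • c, Submodule.smul_mem_smul ha trivial, ?_⟩
      rw [map_smul, smul_eq_mul, show φ c = ∑ i, c i • y i from rfl, ← mul_sub, add_sub_cancel_left,
        pow_add]
      exact Ideal.mul_mem_mul ha hq
    · rintro a b ⟨c, hc, hc'⟩ ⟨d, hd, hd'⟩
      exact ⟨c + d, add_mem hc hd, by rw [map_add, add_sub_add_comm]; exact add_mem hc' hd'⟩
  choose! g hg1 hg2 using step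
  refine ⟨Finset.univ.image y, ?_⟩
  rw [Finset.coe_image, Finset.coe_univ, Set.image_univ]
  refine le_antisymm (Ideal.span_le.2 (Set.range_subset_iff.2 hy)) fun x hx => ?_
  let F : ℕ → (Fin r → A) := fun k => Nat.rec 0 (fun k F => F + g k (x - φ F)) k
  have hF : ∀ k, x - φ (F k) ∈ J ^ (k + 1) := by
    intro k
    induction k with
    | zero => simpa [F] using hx
    | succ k ih =>
      rw [show F (k + 1) = F k + g k (x - φ (F k)) from rfl, map_add, ← sub_sub]
      exact hg2 _ _ ih
  have hcauchy : ∀ a b, a ≤ b → F b - F a ∈ J ^ a • (⊤ : Submodule A (Fin r → A)) := by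
    intro a b hab
    induction b, hab using Nat.le_induction with
    | base => simp
    | succ b hab ih =>
      rw [show F (b + 1) = F b + g b (x - φ (F b)) from rfl, add_sub_right_comm]
      exact add_mem ih (Submodule.smul_mono_left (Ideal.pow_le_pow_right hab) (hg1 _ _ (hF b)))
  obtain ⟨C, hC⟩ := IsPrecomplete.prec (inferInstance : IsPrecomplete J (Fin r → A)) (f := F)
    fun {a b} hab => (SModEq.sub_mem.2 (hcauchy a b hab)).symm
  have : x = φ C := by
    rw [← sub_eq_zero]
    refine IsHausdorff.haus (inferInstance : IsHausdorff J A) _ fun k => SModEq.zero.2 ?_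
    rw [smul_eq_mul, Ideal.mul_top, show x - φ C = (x - φ (F k)) + φ (F k - C) by rw [map_sub]; abel]
    exact add_mem (Ideal.pow_le_pow_right k.le_succ (hF k))
      (Ideal.pow_le_pow_right k.le_succ (hφJ k _ (SModEq.sub_mem.1 (hC k))))
  exact (Submodule.mem_span_range_iff_exists_fun A).2 ⟨C, this.symm⟩

/-- Let A be a ring that is complete and separated for the J-adic topology of an ideal J. If A/J² is
Noetherian (equivalently, A/J is Noetherian and J/J² is a finitely generated A/J-module), then A is
Noetherian. The published statement is phrased for a formal spectrum Spf(A) all of whose levels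
Spec(A/J^(n+1)) are Noetherian; it is stated here with the weaker hypothesis that A/J² is
Noetherian. -/
theorem result (A : Type u) [CommRing A]
    (J : Ideal A) [IsAdicComplete J A] [IsNoetherianRing (A ⧸ J ^ 2)] : IsNoetherianRing A := by
  have : IsNoetherianRing (A ⧸ J) :=
    isNoetherianRing_of_surjective _ _ (Ideal.Quotient.factor (Ideal.pow_le_self two_ne_zero : J ^ 2 ≤ J))
      (Ideal.Quotient.factor_surjective _)
  obtain ⟨r, e, he⟩ := Submodule.fg_iff_exists_fin_generating_family.1
    (IsNoetherian.noetherian (J.map (Ideal.Quotient.mk (J ^ 2))))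
  have hmem : ∀ i, ∃ y ∈ J, Ideal.Quotient.mk (J ^ 2) y = e i := fun i =>
    (Ideal.mem_map_iff_of_surjective _ Ideal.Quotient.mk_surjective).1 (he ▸ Submodule.subset_span ⟨i, rfl⟩)
  choose y hy hye using hmem
  have hfg : J.FG := fg_of_complete J y hy fun x hx => by
    have h1 : Ideal.Quotient.mk (J ^ 2) x ∈ (Ideal.span (Set.range y)).map (Ideal.Quotient.mk (J ^ 2)) := by
      rw [Ideal.map_span, ← Set.range_comp, show (Ideal.Quotient.mk (J ^ 2)) ∘ y = e from funext hye]
      exact he.ge (Ideal.mem_map_of_mem _ hx)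
    rwa [Ideal.mem_quotient_iff_mem_sup] at h1
  exact CplNoeth.isNoetherianRing_of_isAdicComplete J hfg

end Groth.Agent.S3856
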