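import Groth.Statements.S3859
import Mathlib

set_option autoImplicit false
universe u
open FCompl

namespace Groth.Agent.S3859
open CategoryTheory.Limits

open AlgebraicGeometry in
open CategoryTheory in
/-- In the presentation by systems of thickenings: For morphisms of systems X -> S and Y -> S, the
levelwise fibre product with its two projections is a fibre product in the category of systems; it
presents the fibre product of formal schemes when one factor is adic over the base, and otherwise
only up to cofinality of the levels. -/
theorem result {𝔛 𝔜 𝔖 : FSch.Sys.{u}} (f : 𝔛 ⟶ 𝔖) (g : 𝔜 ⟶ 𝔖) :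
    IsPullback (FSch.pullbackFst f g) (FSch.pullbackSnd f g) f g := by
  have w : FSch.pullbackFst f g ≫ f = FSch.pullbackSnd f g ≫ g :=
    FSch.Hom.ext (funext fun _ => pullback.condition)
  have hc : ∀ (s : PullbackCone f g) (n : ℕ),
      (s.fst : FSch.Hom _ _).app n ≫ (f : FSch.Hom _ _).app n =
        (s.snd : FSch.Hom _ _).app n ≫ (g : FSch.Hom _ _).app n :=
    fun s n => congrArg (fun h => (h : FSch.Hom _ _).app n) s.condition
  refine ⟨⟨w⟩, ⟨PullbackCone.IsLimit.mk _
    (fun s => ⟨fun n => pullback.lift _ _ (hc s n), fun n => ?_⟩)
    (fun s => FSch.Hom.ext (funext fun n => pullback.lift_fst _ _ _))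
    (fun s => FSch.Hom.ext (funext fun n => pullback.lift_snd _ _ _))
    (fun s m h1 h2 => FSch.Hom.ext (funext fun n => ?_))⟩⟩
  · apply pullback.hom_ext
    · refine (CategoryTheory.Category.assoc _ _ _).trans ((congrArg _ (pullback.lift_fst _ _ _)).trans ?_)
      refine ((CategoryTheory.Category.assoc _ _ _).symm.trans (congrArg (fun z => CategoryTheory.CategoryStruct.comp z _) (pullback.lift_fst _ _ _))).trans (((s.fst : FSch.Hom _ _).comm n).trans ?_)
      exact ((CategoryTheory.Category.assoc _ _ _).trans (congrArg _ (pullback.lift_fst _ _ _))).symm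
    · refine (CategoryTheory.Category.assoc _ _ _).trans ((congrArg _ (pullback.lift_snd _ _ _)).trans ?_)
      refine ((CategoryTheory.Category.assoc _ _ _).symm.trans (congrArg (fun z => CategoryTheory.CategoryStruct.comp z _) (pullback.lift_snd _ _ _))).trans (((s.snd : FSch.Hom _ _).comm n).trans ?_)
      exact ((CategoryTheory.Category.assoc _ _ _).trans (congrArg _ (pullback.lift_snd _ _ _))).symm
  · apply pullback.hom_ext
    · exact (congrArg (fun h => (h : FSch.Hom _ _).app n) h1).trans (pullback.lift_fst _ _ _).symm
    · exact (congrArg (fun h => (h : FSch.Hom _ _).app n) h2).trans (pullback.lift_snd _ _ _).symm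

end Groth.Agent.S3859
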