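import Groth.Statements.S3873
import Mathlib

set_option autoImplicit false
universe u
open FCompl

namespace Groth.Agent.S3873
open AlgebraicGeometry CategoryTheory
lemma key (A : Type u) [CommRing A] (J : Ideal A) :
    (FSch.idealSpec A J).ideal ⟨⊤, isAffineOpen_top _⟩ =
      J.comap (Scheme.ΓSpecIso (CommRingCat.of A)).hom.hom := by
  rw [FSch.idealSpec, Scheme.Hom.ker_apply]
  ext x
  rw [RingHom.mem_ker, Ideal.mem_comap, ← Ideal.Quotient.eq_zero_iff_mem]
  have h : (Scheme.ΓSpecIso _).hom ((Spec.map (CommRingCat.ofHom (Ideal.Quotient.mk J))).appTop x) =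
      Ideal.Quotient.mk J ((Scheme.ΓSpecIso (CommRingCat.of A)).hom x) :=
    CategoryTheory.congr_fun (Scheme.ΓSpecIso_naturality (CommRingCat.ofHom (Ideal.Quotient.mk J))) x
  refine Iff.trans ?_ (Eq.congr_left h)
  exact (map_eq_zero_iff _ (ConcreteCategory.bijective_of_isIso (Scheme.ΓSpecIso _).hom).1).symm

open AlgebraicGeometry in
/-- Its content on the affine schemes underlying the formal spectra: the inverse image ideal of b^Δ is
(bA)^Δ, read on Spec: For a ring homomorphism φ : B -> A and an ideal b of B, the inverse image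
along Spec(φ) of the ideal sheaf of b on Spec B is the ideal sheaf on Spec A of the ideal generated
by φ(b). -/
theorem result (A B : Type u) [CommRing A] [CommRing B] (φ : B →+* A) (𝔟 : Ideal B) :
    (FSch.idealSpec B 𝔟).comap (Spec.map (CommRingCat.ofHom φ)) = FSch.idealSpec A (𝔟.map φ) := by
  set f := Spec.map (CommRingCat.ofHom φ) with hf
  have hnat : ∀ x, (Scheme.ΓSpecIso (CommRingCat.of A)).hom (f.appTop x) = φ ((Scheme.ΓSpecIso (CommRingCat.of B)).hom x) :=
    fun x => CategoryTheory.congr_fun (Scheme.ΓSpecIso_naturality (CommRingCat.ofHom φ)) x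
  apply le_antisymm
  · rw [← Scheme.IdealSheafData.le_map_iff_comap_le]
    apply Scheme.IdealSheafData.le_of_isAffine
    rw [Scheme.IdealSheafData.ideal_map_of_isAffineHom, key]
    show _ ≤ Ideal.comap f.appTop.hom ((FSch.idealSpec A (𝔟.map φ)).ideal ⟨⊤, isAffineOpen_top _⟩)
    rw [key]
    intro x hx
    show (Scheme.ΓSpecIso (CommRingCat.of A)).hom (f.appTop x) ∈ 𝔟.map φ
    rw [hnat]
    exact Ideal.mem_map_of_mem _ hx
  · apply Scheme.IdealSheafData.le_of_isAffine
    rw [key]
    intro y hy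
    have h := Scheme.IdealSheafData.le_map_comap (J := FSch.idealSpec B 𝔟) (f := f) ⟨⊤, isAffineOpen_top _⟩
    rw [Scheme.IdealSheafData.ideal_map_of_isAffineHom, key] at h
    set T := ((FSch.idealSpec B 𝔟).comap f).ideal ⟨⊤, isAffineOpen_top _⟩
    have hle : 𝔟.map φ ≤ T.comap (Scheme.ΓSpecIso (CommRingCat.of A)).inv.hom := by
      rw [Ideal.map_le_iff_le_comap]
      intro b hb
      obtain ⟨x, rfl⟩ := (ConcreteCategory.bijective_of_isIso (Scheme.ΓSpecIso (CommRingCat.of B)).hom).2 b
      show (Scheme.ΓSpecIso (CommRingCat.of A)).inv (φ _) ∈ T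
      rw [← hnat, Iso.hom_inv_id_apply]
      exact h hb
    have := hle hy
    rwa [Ideal.mem_comap, Iso.hom_inv_id_apply] at this

end Groth.Agent.S3873
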