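import Groth.Statements.S3894
import Mathlib

set_option autoImplicit false
universe u
open CategoryTheory CategoryTheory.Limits Opposite
open Tors

namespace Groth.Agent.S3894

open CategoryTheory Limits


/-- A torsor P under an abelian sheaf G is trivial, i.e. equivariantly isomorphic to G acting on itself
by translations, if and only if P has a global section (a morphism from the final sheaf of sets). -/
theorem result {C : Type u} [SmallCategory C] {J : GrothendieckTopology C}
    {G : Sheaf J AddCommGrpCat.{u}} (T : Tors.Torsor G) : T.IsTrivial ↔ T.HasSection := by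
  let G' : Sheaf J (Type u) := (sheafCompose J (forget AddCommGrpCat.{u})).obj G
  constructor
  · rintro ⟨e, he⟩
    refine ⟨⟨{ app := fun U => TypeCat.ofHom fun _ => e.hom.hom.app U (0 : G.obj.obj U), naturality := fun U V f => ?_ }⟩⟩
    ext t
    refine Eq.trans ?_ (NatTrans.naturality_apply e.hom.hom f (0 : G.obj.obj U))
    exact congrArg (e.hom.hom.app V) (map_zero (G.obj.map f).hom).symm
  · rintro ⟨s⟩
    let z : G' ⟶ T.P := terminal.from G' ≫ s
    let σ : ∀ U, T.P.obj.obj U := fun U => z.hom.app U (0 : G.obj.obj U)
    have hσ : ∀ {U V} (f : U ⟶ V), T.P.obj.map f (σ U) = σ V := fun {U V} f =>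
      (NatTrans.naturality_apply z.hom f (0 : G.obj.obj U)).symm.trans (congrArg (z.hom.app V) (map_zero (G.obj.map f).hom))
    let φ : G'.obj ≅ T.P.obj := NatIso.ofComponents
      (fun U => (Equiv.ofBijective (fun g : G.obj.obj U => T.vadd g (σ U)) ⟨fun a b h => by
          obtain ⟨c, -, hc⟩ := T.free_transitive (σ U) (T.vadd a (σ U))
          exact (hc a rfl).trans (hc b h.symm).symm,
        fun q => (T.free_transitive (σ U) q).exists⟩).toIso)
      (fun {U V} f => by
        ext g
        show T.vadd (G.obj.map f g) (σ V) = T.P.obj.map f (T.vadd g (σ U))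
        rw [T.map_vadd, hσ])
    exact ⟨(fullyFaithfulSheafToPresheaf J (Type u)).preimageIso φ, fun U g h => T.add_vadd g h (σ U)⟩

end Groth.Agent.S3894
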