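import Groth.Statements.S4101
import Mathlib
import Groth.Agent.Lib.H8EssFree

set_option autoImplicit false
universe u
open CategoryTheory MonoidalCategory CartesianMonoidalCategory MonObj GrpObj AlgebraicGeometry CategoryTheory.Limits
open SGA3

namespace Groth.Agent.S4101

open AlgebraicGeometry CategoryTheory Limits in
theorem isIso_snd_iff {S S' Z Y : Scheme.{u}} (f : Z ⟶ S) (g : S' ⟶ S) (j : Y ⟶ Z) [Mono j] :
    IsIso (pullback.snd j (pullback.fst f g)) ↔ ∃ l, l ≫ j = pullback.fst f g := by
  constructor
  · intro h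
    exact ⟨inv (pullback.snd j (pullback.fst f g)) ≫ pullback.fst j _, by
      rw [Category.assoc, pullback.condition, IsIso.inv_hom_id_assoc]⟩
  · rintro ⟨l, hl⟩
    let σ := pullback.lift l (𝟙 _) (by rw [hl, Category.id_comp]) (f := j) (g := pullback.fst f g)
    have h1 : σ ≫ pullback.snd j (pullback.fst f g) = 𝟙 _ := pullback.lift_snd _ _ _
    exact ⟨σ, by rw [← cancel_mono (pullback.snd j (pullback.fst f g)), Category.assoc, h1,
      Category.comp_id, Category.id_comp], h1⟩

open AlgebraicGeometry CategoryTheory Limits in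
theorem lands_iff' {S S' Z Y : Scheme.{u}} (f : Z ⟶ S) (g : S' ⟶ S) (j : Y ⟶ Z) :
    Groth.Agent.H8Weil.Lands (𝟙 S) f (j ≫ inv (pullback.snd (𝟙 S) f)) g ↔
      ∃ l, l ≫ j = pullback.fst f g := by
  unfold Groth.Agent.H8Weil.Lands
  constructor
  · rintro ⟨l, hl⟩
    have hl' := congrArg (fun r => r ≫ pullback.snd (𝟙 S) f) hl
    simp only [Category.assoc, IsIso.inv_hom_id, Category.comp_id,
      Groth.Agent.H8Weil.mapX_snd] at hl'
    refine ⟨pullback.lift (pullback.snd f g) (pullback.fst f g)
      (by rw [Category.comp_id]; exact pullback.condition.symm) ≫ l, ?_⟩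
    rw [Category.assoc, hl', pullback.lift_snd]
  · rintro ⟨l, hl⟩
    refine ⟨pullback.lift (pullback.snd (g ≫ 𝟙 S) f) (pullback.fst (g ≫ 𝟙 S) f)
      (pullback.condition.symm.trans (congrArg _ (Category.comp_id g))) ≫ l, ?_⟩
    rw [← cancel_mono (pullback.snd (𝟙 S) f)]
    simp only [Category.assoc, IsIso.inv_hom_id, Category.comp_id,
      Groth.Agent.H8Weil.mapX_snd, hl, pullback.lift_fst]

/-- Let f : Z → S be essentially free (every point of S has an affine open neighbourhood U and a flat
surjective morphism S' → U from an affine scheme S' such that Z ×_S S' is covered by affine opens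
whose rings of sections are projective Γ(S')-modules) and j : Y → Z a closed immersion. Then there
is a closed immersion t : T → S such that a morphism g : S' → S factors through T exactly when the
closed immersion Y ×_Z Z_{S'} → Z_{S'} deduced from j by base change is an isomorphism; if moreover
Z is quasi-compact over S and j is of finite presentation, then t is of finite presentation. (The
published statement omits the quasi-compactness of Z over S in the last clause; it is stated here
with it.) -/
theorem result (S Z Y : Scheme.{u}) (f : Z ⟶ S)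
    (hf : SGA3x.IsEssentiallyFree f) (j : Y ⟶ Z) [IsClosedImmersion j] :
    ∃ (T : Scheme.{u}) (t : T ⟶ S), IsClosedImmersion t ∧
      (∀ (S' : Scheme.{u}) (g : S' ⟶ S),
        (∃ g' : S' ⟶ T, g' ≫ t = g) ↔ IsIso (pullback.snd j (pullback.fst f g))) ∧
      (QuasiCompact f → LocallyOfFinitePresentation j → LocallyOfFinitePresentation t) := by
  have hiso : IsIso (Limits.pullback.snd (𝟙 S) f) := inferInstance
  let j' : Y ⟶ Limits.pullback (Over.mk (𝟙 S)).hom f := j ≫ inv (Limits.pullback.snd (𝟙 S) f)
  have : IsClosedImmersion j' := inferInstanceAs (IsClosedImmersion (j ≫ _))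
  obtain ⟨T, i, hi, hT, hfp⟩ := Groth.Agent.H8WeilFF.exists_restrict (X := Over.mk (𝟙 S)) f
    (Groth.Agent.H8EssFree.locFF_of_essentiallyFree hf) j'
  refine ⟨T.left, i.left, hi, fun S' g => ?_, fun h₁ h₂ => hfp h₁ ?_⟩
  · let x : Over.mk g ⟶ Over.mk (𝟙 S) := Over.homMk g (Category.comp_id _)
    have h1 := hT _ x
    have h2 : (∃ g' : S' ⟶ T.left, g' ≫ i.left = g) ↔ ∃ z : Over.mk g ⟶ T, z ≫ i = x := by
      constructor
      · rintro ⟨g', hg'⟩
        refine ⟨Over.homMk g' ?_, Over.OverMorphism.ext hg'⟩
        rw [← Over.w i, reassoc_of% hg']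
        exact Category.comp_id _
      · rintro ⟨z, hz⟩
        exact ⟨z.left, congrArg Over.Hom.left hz⟩
    rw [h2, ← h1, isIso_snd_iff]
    exact lands_iff' f g j
  · exact inferInstanceAs (LocallyOfFinitePresentation (j ≫ _))

end Groth.Agent.S4101
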