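import Groth.Statements.S4104
import Mathlib
import Groth.Agent.Lib.H8HopfSub
import Groth.Agent.S0617

set_option autoImplicit false
universe u
open CategoryTheory MonoidalCategory CartesianMonoidalCategory MonObj GrpObj AlgebraicGeometry CategoryTheory.Limits
open SGA3

namespace Groth.Agent.S4104

/-- Let φ : A' → A be a bialgebra map between commutative Hopf algebras over a field k (a homomorphism
of affine k-groups Spec A → Spec A', not necessarily of finite type). If the corresponding morphism
of schemes is a monomorphism, i.e. φ is an epimorphism in the category of commutative rings, then φ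
is surjective (the homomorphism is a closed immersion). -/
theorem result (k : Type u) [Field k] (A' A : Type u) [CommRing A'] [HopfAlgebra k A']
    [CommRing A] [HopfAlgebra k A] (φ : A' →ₐc[k] A)
    (hepi : ∀ (R : Type u) [CommRing R] (f g : A →+* R), f.comp (φ : A' →+* A) = g.comp (φ : A' →+* A) → f = g) :
    Function.Surjective φ := by
  have hB : Groth.Agent.H8HopfSub.IsHopfSub (φ : A' →ₐ[k] A).range := by
    refine ⟨?_, ?_⟩
    · rintro _ ⟨a, rfl⟩
      refine ⟨TensorProduct.map (φ : A' →ₐ[k] A).rangeRestrict.toLinearMap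
        (φ : A' →ₐ[k] A).rangeRestrict.toLinearMap (CoalgebraStruct.comul a), ?_⟩
      rw [← LinearMap.comp_apply, ← TensorProduct.map_comp]
      exact LinearMap.congr_fun (CoalgHomClass.map_comp_comul φ) a
    · rintro _ ⟨a, rfl⟩
      exact ⟨HopfAlgebra.antipode k a, (AlgHom.congr_fun (Groth.Agent.S0617.antipode_comp φ) a).symm⟩
  set B := (φ : A' →ₐ[k] A).range
  haveI : Module.FaithfullyFlat B A := Groth.Agent.H8HopfSub.faithfullyFlat hB
  intro a
  have h2 := RingHom.congr_fun (hepi (TensorProduct B A A) Algebra.TensorProduct.includeLeftRingHom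
    (Algebra.TensorProduct.includeRight : A →ₐ[B] TensorProduct B A A).toRingHom
    (RingHom.ext fun b => by
      show TensorProduct.tmul B (φ b) (1 : A) = TensorProduct.tmul B (1 : A) (φ b)
      have e : φ b = (⟨φ b, b, rfl⟩ : B) • (1 : A) := by rw [Subalgebra.smul_def]; simp
      conv_lhs => rw [e]
      rw [TensorProduct.smul_tmul]
      simp [Subalgebra.smul_def])) a
  change TensorProduct.tmul B a (1 : A) = TensorProduct.tmul B (1 : A) a at h2
  let N : Submodule B A := LinearMap.range (Algebra.linearMap B A)
  have h3 : TensorProduct.tmul B (1 : A) (N.mkQ a) = 0 := by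
    have := congrArg (LinearMap.lTensor A N.mkQ) h2
    simp only [LinearMap.lTensor_tmul] at this
    rw [← this, show N.mkQ (1 : A) = 0 from (Submodule.Quotient.mk_eq_zero N).mpr ⟨1, map_one (algebraMap B A)⟩,
      TensorProduct.tmul_zero]
  have h4 : N.mkQ a = 0 :=
    Module.FaithfullyFlat.tensorProduct_mk_injective (A := B) (B := A) (A ⧸ N) (by
      rw [TensorProduct.mk_apply, TensorProduct.mk_apply, h3, TensorProduct.tmul_zero])
  obtain ⟨⟨_, x, rfl⟩, hx⟩ := (Submodule.Quotient.mk_eq_zero N).mp h4
  exact ⟨x, hx⟩

end Groth.Agent.S4104
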