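import Groth.Statements.S4114
import Mathlib
import Groth.Agent.Lib.H8DeligneScheme
import Groth.Agent.S7948

set_option autoImplicit false
universe u
open CategoryTheory MonoidalCategory CartesianMonoidalCategory MonObj GrpObj AlgebraicGeometry CategoryTheory.Limits
open SGA3

namespace Groth.Agent.S4114
open CategoryTheory.Limits
set_option backward.isDefEq.respectTransparency false in
lemma pow_eq_one_affine (R : CommRingCat.{u}) [_root_.IsReduced R] (G : Over (Spec R)) [GrpObj G]
    [IsFinite G.hom] [Flat G.hom] [LocallyOfFinitePresentation G.hom]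
    (r : ℕ) (hr : ∀ s, G.hom.finrank s = r) : (𝟙 G : G ⟶ G) ^ r = 1 := by
  have : IsAffine G.left := isAffine_of_isAffineHom G.hom
  obtain ⟨A', ⟨e⟩⟩ : (hopfSpec R).essImage (Grp.mk G) := essImage_hopfSpec.mpr this
  let A := A'.unop
  let Y : Over (Spec R) := (Spec (CommRingCat.of A)).asOver (Spec (CommRingCat.of R))
  let i : Y ⟶ G := e.hom.hom.hom
  let j : G ⟶ Y := e.inv.hom.hom
  have hij : i ≫ j = 𝟙 Y := congrArg (fun m => m.hom.hom) e.hom_inv_id
  have hji : j ≫ i = 𝟙 G := congrArg (fun m => m.hom.hom) e.inv_hom_id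
  have hmul : ∀ {T : Over (Spec R)} (a b : T ⟶ Y), (a * b) ≫ i = (a ≫ i) * (b ≫ i) := by
    intro T a b
    haveI : IsMonHom i := inferInstanceAs (IsMonHom e.hom.hom.hom)
    exact MonObj.mul_comp a b i
  have hY : Y.hom = i.left ≫ G.hom := (Over.w i).symm
  have : IsIso i.left := ⟨j.left, congrArg Over.Hom.left hij, congrArg Over.Hom.left hji⟩
  have hfin : IsFinite Y.hom := by rw [hY]; infer_instance
  have hflat : Flat Y.hom := by rw [hY]; infer_instance
  have hlfp : LocallyOfFinitePresentation Y.hom := by rw [hY]; infer_instance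
  have hYs : Y.hom = Spec.map (CommRingCat.ofHom (algebraMap R A)) := rfl
  rw [hYs] at hfin hflat hlfp
  have : Module.Finite R A := RingHom.finite_algebraMap.mp ((IsFinite.SpecMap_iff _).mp hfin)
  have : Module.Flat R A := RingHom.flat_algebraMap_iff.mp (Flat.SpecMap_iff.mp hflat)
  have : Algebra.FinitePresentation R A := RingHom.finitePresentation_algebraMap.mp
    ((LocallyOfFinitePresentation.SpecMap_iff _).mp hlfp)
  have := Module.FinitePresentation.of_finite_of_finitePresentation (R := R) (S := A)
  have : Module.Projective R A := Module.Flat.projective_of_finitePresentation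
  have hn : ∀ p : PrimeSpectrum R, Module.rankAtStalk A p = r := fun p => by
    rw [← hr p, ← Scheme.Hom.finrank_SpecMap_algebraMap R A p, ← hYs, hY,
      Scheme.Hom.finrank_comp_left_of_isIso]
  have h1 := congrArg (Spec.mapMulEquiv (R := R) (S := A) (T := A))
    (Groth.Agent.S7948.result R A r hn A (AlgHom.id R A))
  rw [map_pow, map_one] at h1
  have hid : Spec.mapMulEquiv (R := R) (S := A) (T := A) (WithConv.toConv (AlgHom.id R A)) = 𝟙 Y := by
    ext1
    exact Spec.map_id _
  rw [hid] at h1
  let conj : (Y ⟶ Y) →* (G ⟶ G) :=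
    { toFun := fun f => j ≫ f ≫ i
      map_one' := by
        haveI : IsMonHom i := inferInstanceAs (IsMonHom e.hom.hom.hom)
        rw [MonObj.one_comp, MonObj.comp_one]
      map_mul' := fun a b => by rw [hmul, MonObj.comp_mul] }
  have h2 : conj (𝟙 Y) = 𝟙 G := by show j ≫ 𝟙 Y ≫ i = 𝟙 G; rw [Category.id_comp, hji]
  rw [← h2, ← map_pow]
  exact (congrArg conj h1).trans conj.map_one

/-- Let S be a reduced scheme and G an S-group scheme which is finite locally free of constant rank n
over S. Then the n-th power morphism of G is the trivial endomorphism (g ↦ gⁿ factors through the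
unit section). -/
theorem result (S : Scheme.{u}) [IsReduced S] (G : Over S) [GrpObj G] (n : ℕ)
    (hG : Mor2.IsFinLocFreeOfDeg n G.hom) : (𝟙 G : G ⟶ G) ^ n = 1 := by
  obtain ⟨⟨hfin, hflat, hlfp⟩, hr⟩ := hG
  apply Over.OverMorphism.ext
  refine Scheme.Cover.hom_ext (S.affineCover.pullback₁ G.hom) _ _ fun i => ?_
  let s : Spec (S.affineOpenCover.X i) ⟶ S := S.affineCover.f i
  let Gi := Red.bc s G
  haveI : IsFinite Gi.hom := inferInstanceAs (IsFinite (CategoryTheory.Limits.pullback.snd G.hom s))
  haveI : Flat Gi.hom := inferInstanceAs (Flat (CategoryTheory.Limits.pullback.snd G.hom s))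
  haveI : LocallyOfFinitePresentation Gi.hom :=
    inferInstanceAs (LocallyOfFinitePresentation (CategoryTheory.Limits.pullback.snd G.hom s))
  haveI : IsOpenImmersion (S.affineCover.f i) := S.affineCover.map_prop i
  haveI : AlgebraicGeometry.IsReduced (S.affineCover.X i) := isReduced_of_isOpenImmersion (S.affineCover.f i)
  haveI : AlgebraicGeometry.IsReduced (Spec (S.affineOpenCover.X i)) := inferInstanceAs (AlgebraicGeometry.IsReduced (S.affineCover.X i))
  haveI : _root_.IsReduced (S.affineOpenCover.X i) := (affine_isReduced_iff _).mp inferInstance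
  have h := pow_eq_one_affine (S.affineOpenCover.X i) Gi n fun x => by
    show (CategoryTheory.Limits.pullback.snd G.hom s).finrank x = n
    exact (Scheme.Hom.finrank_pullback_snd _ _ _).trans (hr _)
  let F : (G ⟶ G) →* (Gi ⟶ Gi) :=
    { toFun := fun f => (Over.pullback s).map f
      map_one' := Functor.map_one _
      map_mul' := fun a b => Functor.map_mul _ a b }
  have h' : F ((𝟙 G) ^ n) = F 1 := by
    rw [map_pow, map_one]
    show ((Over.pullback s).map (𝟙 G)) ^ n = 1
    rw [CategoryTheory.Functor.map_id]
    exact h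
  have h'' := congrArg (fun f => f.left ≫ CategoryTheory.Limits.pullback.fst G.hom s) h'
  exact (CategoryTheory.Limits.pullback.lift_fst _ _ _).symm.trans (h''.trans (CategoryTheory.Limits.pullback.lift_fst _ _ _))

end Groth.Agent.S4114
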