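import Groth.Statements.S4130
import Mathlib
import Groth.Agent.Lib.H8Unip
import Groth.Agent.Lib.H8LineChar

set_option autoImplicit false
universe u
open TensorProduct
open SGA3

namespace Groth.Agent.S4130


open TensorProduct

lemma hopfIdeal_map_aug {k : Type u} [Field k] {A B : Type u} [CommRing A] [HopfAlgebra k A] [CommRing B]
    [HopfAlgebra k B] (φ : B →ₐc[k] A) (hS : ∀ b, φ (HopfAlgebra.antipode k b) = HopfAlgebra.antipode k (φ b)) :
    (Ideal.map (φ : B →+* A) (RingHom.ker (Bialgebra.counitAlgHom k B))).IsHopfIdeal k := by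
  set J := Ideal.map (φ : B →+* A) (RingHom.ker (Bialgebra.counitAlgHom k B)) with hJ
  have hmem : ∀ b, CoalgebraStruct.counit (R := k) b = 0 → φ b ∈ J := fun b hb =>
    Ideal.mem_map_of_mem _ hb
  haveI : (J.restrictScalars k).IsCoideal := by
    refine H8FiniteHopf.isCoideal_of_mkₐ J (fun x hx => ?_) fun x hx => ?_
    · have : J ≤ RingHom.ker (Bialgebra.counitAlgHom k A) := by
        rw [hJ, Ideal.map_le_iff_le_comap]
        intro b hb
        show CoalgebraStruct.counit (R := k) (φ b) = 0
        rw [CoalgHomClass.counit_comp_apply φ]; exact hb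
      exact this hx
    · let Φ := (Algebra.TensorProduct.map (Ideal.Quotient.mkₐ k J) (Ideal.Quotient.mkₐ k J)).comp
        (Bialgebra.comulAlgHom k A)
      have : J ≤ RingHom.ker Φ := by
        refine Ideal.map_le_iff_le_comap.mpr ?_
        intro b hb
        show TensorProduct.map (Ideal.Quotient.mkₐ k J).toLinearMap (Ideal.Quotient.mkₐ k J).toLinearMap
          (CoalgebraStruct.comul (R := k) (φ b)) = 0
        refine (congrArg _ (CoalgHomClass.map_comp_comul_apply φ b).symm).trans ?_
        have hc : ∀ b : B, Ideal.Quotient.mk J (φ b) = CoalgebraStruct.counit (R := k) b • 1 := by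
          intro b
          have := hmem (b - CoalgebraStruct.counit (R := k) b • 1) (by simp)
          rw [map_sub, map_smul, map_one, ← Ideal.Quotient.eq] at this
          exact this
        have key : ∀ z : B ⊗[k] B, TensorProduct.map (Ideal.Quotient.mkₐ k J).toLinearMap
            (Ideal.Quotient.mkₐ k J).toLinearMap (TensorProduct.map (φ : B →ₗ[k] A) (φ : B →ₗ[k] A) z) =
            (TensorProduct.lid k k (TensorProduct.map (CoalgebraStruct.counit (R := k) (A := B))
              (CoalgebraStruct.counit (R := k) (A := B)) z)) • ((1 : A ⧸ J) ⊗ₜ[k] (1 : A ⧸ J)) := by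
          intro z
          induction z using TensorProduct.induction_on with
          | zero => simp
          | tmul p q => simp [hc, smul_tmul', tmul_smul, smul_smul, mul_comm]
          | add p q hp hq => simp only [map_add, add_smul, hp, hq]
        refine (key _).trans ?_
        rw [show TensorProduct.map (CoalgebraStruct.counit (R := k) (A := B)) (CoalgebraStruct.counit (R := k)
          (A := B)) (CoalgebraStruct.comul (R := k) b) = 1 ⊗ₜ CoalgebraStruct.counit (R := k) b by
          rw [← LinearMap.lTensor_comp_rTensor, LinearMap.comp_apply, Coalgebra.rTensor_counit_comul,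
            LinearMap.lTensor_tmul]]
        simp [show CoalgebraStruct.counit (R := k) b = 0 from hb]
      exact this hx
  refine ⟨fun x hx => ?_⟩
  have : J ≤ J.comap (HopfAlgebra.antipodeAlgHom k A) := by
    conv_lhs => rw [hJ]
    rw [Ideal.map_le_iff_le_comap]
    intro b hb
    show HopfAlgebra.antipode k (φ b) ∈ J
    rw [← hS]
    exact hmem _ (by rw [HopfAlgebra.counit_antipode]; exact hb)
  exact this hx

/-- Let A be a finitely generated commutative and cocommutative Hopf algebra over a field k (a
commutative affine algebraic group G = Spec A). Then G has a largest subgroup M of multiplicative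
type and G/M is unipotent: there is a Hopf ideal J of A (defining M) such that A/J is of
multiplicative type (diagonalizable after a faithfully flat extension of k), J is contained in every
Hopf ideal I with A/I of multiplicative type, and J is the ideal generated by the augmentation ideal
of the image of an injective bialgebra map φ : B → A from a Hopf algebra B (so Spec B = G/M) which
is unipotent in the fixed-vector sense. -/
theorem result (k : Type u) [Field k]
    (A : Type u) [CommRing A] [HopfAlgebra k A] [Algebra.FiniteType k A] [Coalgebra.IsCocomm k A] :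
    ∃ (J : Ideal A) (_ : J.IsHopfIdeal k), SGA3b.IsMultTypeConst k (A ⧸ J) ∧
      (∀ (I : Ideal A) [I.IsHopfIdeal k], SGA3b.IsMultTypeConst k (A ⧸ I) → J ≤ I) ∧
      ∃ (B : Type u) (_ : CommRing B) (_ : HopfAlgebra k B) (φ : B →ₐc[k] A), Function.Injective φ ∧
        J = Ideal.map (φ : B →+* A) (RingHom.ker (Bialgebra.counitAlgHom k B)) ∧ HopfRep.IsUnipotent k B := by
  letI := H8HopfSub.hopf (H8Unip.isHopfSub_U (k := k) (A := A))
  let φ : (H8Unip.U k A) →ₐc[k] A := H8HopfSub.valHom (H8Unip.isHopfSub_U (k := k) (A := A))
  set J := Ideal.map (φ : (H8Unip.U k A) →+* A) (RingHom.ker (Bialgebra.counitAlgHom k (H8Unip.U k A))) with hJ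
  haveI hHopf : J.IsHopfIdeal k := hopfIdeal_map_aug φ fun b => (LinearMap.congr_fun (H8Line.antipode_comp φ) b).symm
  have hU : ∀ a ∈ H8Unip.U k A, Ideal.Quotient.mk J a = algebraMap k (A ⧸ J) (CoalgebraStruct.counit (R := k) a) := by
    intro a ha
    have h0 : Bialgebra.counitAlgHom k (H8Unip.U k A)
        (⟨a, ha⟩ - algebraMap k (H8Unip.U k A) (CoalgebraStruct.counit (R := k) a)) = 0 := by
      rw [map_sub, AlgHom.commutes]
      exact sub_self _
    have h1 : φ (⟨a, ha⟩ - algebraMap k (H8Unip.U k A) (CoalgebraStruct.counit (R := k) a)) ∈ J :=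
      Ideal.mem_map_of_mem (φ : (H8Unip.U k A) →+* A) (RingHom.mem_ker.mpr h0)
    have h2 := (Ideal.Quotient.eq (I := J)).mpr
      (show a - algebraMap k A (CoalgebraStruct.counit (R := k) a) ∈ J from h1)
    exact h2
  refine ⟨J, hHopf, ?_, ?_, _, _, _, φ, Subtype.val_injective, hJ, H8Unip.isUnipotent_U⟩
  · refine ⟨AlgebraicClosure k, inferInstance, inferInstance, inferInstance, ?_⟩
    apply H8Unip.isDiag_of_span
    let K := AlgebraicClosure k
    let π : (K ⊗[k] A) →ₐc[K] (K ⊗[k] (A ⧸ J)) :=
      Bialgebra.TensorProduct.map (BialgHom.id K K) (Bialgebra.Quotient.mkBialgHom (R := k) J)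
    have hπ : Function.Surjective π := by
      intro z
      induction z using TensorProduct.induction_on with
      | zero => exact ⟨0, map_zero π⟩
      | tmul c q => obtain ⟨a, rfl⟩ := Ideal.Quotient.mk_surjective q; exact ⟨c ⊗ₜ a, rfl⟩
      | add p q hp hq =>
        obtain ⟨p', rfl⟩ := hp
        obtain ⟨q', rfl⟩ := hq
        exact ⟨p' + q', map_add π _ _⟩
    have hconst : ∀ b ∈ H8Unip.U K (K ⊗[k] A), π b ∈ Submodule.span K {(1 : K ⊗[k] (A ⧸ J))} := by
      intro b hb
      have := H8Unip.mem_span_of_mem_U K hb
      clear hb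
      induction this using Submodule.span_induction with
      | mem y hy =>
        obtain ⟨a, ha, rfl⟩ := hy
        show (1 : K) ⊗ₜ[k] Ideal.Quotient.mk J a ∈ _
        rw [hU a ha, Algebra.algebraMap_eq_smul_one, tmul_smul, ← algebraMap_smul K, ← Algebra.TensorProduct.one_def]
        exact Submodule.smul_mem _ _ (Submodule.mem_span_singleton_self _)
      | zero => rw [map_zero]; exact zero_mem _
      | add y z _ _ hy hz => rw [map_add]; exact add_mem hy hz
      | smul c y _ hy => rw [map_smul]; exact Submodule.smul_mem _ c hy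
    rw [eq_top_iff]
    intro z _
    obtain ⟨x, rfl⟩ := hπ z
    have hx : x ∈ H8Unip.S K (K ⊗[k] A) := by rw [H8Unip.S_eq_top]; exact Submodule.mem_top
    induction hx using Submodule.span_induction with
    | mem y hy =>
      obtain ⟨g, b, hg, hb, rfl⟩ := hy
      obtain ⟨c, hc⟩ := Submodule.mem_span_singleton.mp (hconst b hb)
      rw [map_mul, ← hc, mul_smul_comm, mul_one]
      exact Submodule.smul_mem _ c (Submodule.subset_span (hg.map π))
    | zero => rw [map_zero]; exact zero_mem _
    | add y z _ _ hy hz => rw [map_add]; exact add_mem (hy trivial) (hz trivial)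
    | smul c y _ hy => rw [map_smul]; exact Submodule.smul_mem _ c (hy trivial)
  · intro I _ hI
    rw [hJ, Ideal.map_le_iff_le_comap]
    intro b hb
    have key : ∀ n, ∀ x ∈ H8Unip.F k A n,
        Ideal.Quotient.mk I x = CoalgebraStruct.counit (R := k) x • (1 : A ⧸ I) := by
      intro n
      induction n with
      | zero => intro x hx; simp [H8Unip.F] at hx; simp [hx]
      | succ n ih =>
        intro x hx
        let p := Bialgebra.Quotient.mkBialgHom (R := k) I
        obtain ⟨z, hz⟩ := H8Unip.mem_succ_iff_D.mp hx
        have hz' : ∃ y, TensorProduct.map (p : A →ₗ[k] A ⧸ I) (p : A →ₗ[k] A ⧸ I)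
            ((H8Unip.F k A n).subtype.rTensor A z) = 1 ⊗ₜ y := by
          clear hz
          induction z using TensorProduct.induction_on with
          | zero => exact ⟨0, by simp⟩
          | tmul a c => exact ⟨CoalgebraStruct.counit (R := k) (a : A) • p c, by
              simp [p, ih _ a.2, smul_tmul', tmul_smul]⟩
          | add u v hu hv =>
            obtain ⟨y, hy⟩ := hu
            obtain ⟨y', hy'⟩ := hv
            exact ⟨y + y', by rw [map_add, map_add, hy, hy', tmul_add]⟩
        obtain ⟨y, hy⟩ := hz'
        rw [hz, map_sub, sub_eq_iff_eq_add'] at hy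
        have h := H8Unip.eq_counit_of_isMultTypeConst hI (p x) y (by
          rw [← CoalgHomClass.map_comp_comul_apply]
          refine hy.trans ?_
          rw [TensorProduct.map_tmul]
          congr 2)
        rw [CoalgHomClass.counit_comp_apply p] at h
        exact h
    obtain ⟨n, hn⟩ := H8Unip.mem_U.mp b.2
    show φ b ∈ I
    rw [← Ideal.Quotient.eq_zero_iff_mem]
    refine (key n _ hn).trans ?_
    rw [show CoalgebraStruct.counit (R := k) (b : A) = 0 from hb, zero_smul]

end Groth.Agent.S4130
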