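import Groth.Statements.S4183
import Mathlib
import Groth.Agent.Lib.H4AnAffine


set_option autoImplicit false
open CategoryTheory AlgebraicGeometry Topology TopologicalSpace
open An

namespace Groth.Agent.S4183

/-- For affine n-space over ℂ, the map sending a ℂ-point to the values of the n coordinate functions is
a homeomorphism from its space of ℂ-points, with the complex topology of this problem, onto ℂ^n with
its usual topology. -/
theorem result (n : ℕ) :
    IsHomeomorph (fun (x : An.Pts (𝔸(Fin n; An.SC))) (i : Fin n) => x.evTop (AffineSpace.coord An.SC i)) := by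
  have : IsAffine An.SC := inferInstance
  let e := AffineSpace.isoOfIsAffine (Fin n) An.SC
  have : IsIso e.hom.appTop := (Scheme.Γ.mapIso e.op).isIso_hom
  have key : MvPolynomial.eval₂Hom (An.strHom (𝔸(Fin n; An.SC))) (AffineSpace.coord An.SC) =
      (e.hom.appTop.hom.comp (Scheme.ΓSpecIso _).inv.hom).comp
        (MvPolynomial.map (Scheme.ΓSpecIso (CommRingCat.of ℂ)).inv.hom) := by
    refine MvPolynomial.ringHom_ext (fun c => ?_) (fun i => ?_)
    · simp [e, An.strHom, AffineSpace.isoOfIsAffine_hom_appTop]
    · simp [e, AffineSpace.isoOfIsAffine_hom_appTop]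
  have hbij : Function.Bijective
      (MvPolynomial.eval₂Hom (An.strHom (𝔸(Fin n; An.SC))) (AffineSpace.coord An.SC)) := by
    rw [key]
    have b1 : Function.Bijective (MvPolynomial.map (σ := Fin n)
        (Scheme.ΓSpecIso (CommRingCat.of ℂ)).inv.hom) :=
      ⟨MvPolynomial.map_injective _ (ConcreteCategory.bijective_of_isIso
        (Scheme.ΓSpecIso (CommRingCat.of ℂ)).inv).1,
       MvPolynomial.map_surjective _ (ConcreteCategory.bijective_of_isIso
        (Scheme.ΓSpecIso (CommRingCat.of ℂ)).inv).2⟩
    exact ((ConcreteCategory.bijective_of_isIso e.hom.appTop).comp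
      (ConcreteCategory.bijective_of_isIso (Scheme.ΓSpecIso (CommRingCat.of
        (MvPolynomial (Fin n) Γ(An.SC, ⊤)))).inv)).comp b1
  have h := Groth.Agent.H4AnAffine.isClosedEmbedding_gens
    (X := 𝔸(Fin n; An.SC)) (AffineSpace.coord An.SC) hbij.2
  refine isHomeomorph_iff_isEmbedding_surjective.2 ⟨h.isEmbedding, ?_⟩
  rw [← Set.range_eq_univ, Groth.Agent.H4AnAffine.range_gens _ hbij.2]
  refine Set.eq_univ_of_forall fun z => ?_
  simp only [Set.mem_iInter]
  intro p hp
  have : p = 0 := hbij.1 (by rw [RingHom.mem_ker.mp hp, map_zero])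
  simp [this]

end Groth.Agent.S4183
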