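import Groth.Statements.S4185
import Mathlib
import Groth.Agent.Lib.H4AnAffine


set_option autoImplicit false
open CategoryTheory AlgebraicGeometry Topology TopologicalSpace
open An

namespace Groth.Agent.S4185

/-- For X locally of finite type over ℂ the space X(ℂ) with its complex topology is locally compact. -/
theorem result (X : Scheme.{0}) [X.Over An.SC] [LocallyOfFiniteType (X ↘ An.SC)] :
    LocallyCompactSpace (An.Pts X) := by
  have key : ∀ a : An.Pts X, ∃ U : Set (An.Pts X), IsOpen U ∧ a ∈ U ∧ LocallyCompactSpace U := by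
    intro a
    obtain ⟨U, hU, haU, -⟩ := exists_isAffineOpen_mem_and_subset (x := a.pt) (U := ⊤) trivial
    let iU : U.toScheme.Over An.SC := ⟨U.ι ≫ X ↘ An.SC⟩
    have : U.ι.IsOver An.SC := ⟨rfl⟩
    have : IsAffine U.toScheme := hU
    have : LocallyOfFiniteType (U.toScheme ↘ An.SC) := by
      show LocallyOfFiniteType (U.ι ≫ X ↘ An.SC); infer_instance
    obtain ⟨n, s, hs⟩ := Groth.Agent.H4AnAffine.exists_gens (X := U.toScheme)
    have h1 := (Groth.Agent.H4AnAffine.isClosedEmbedding_gens s hs).locallyCompactSpace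
    have h2 := Groth.Agent.H4AnPts.isEmbedding_map U.ι
    refine ⟨Set.range (An.Pts.map U.ι), ?_, ?_, ?_⟩
    · rw [Groth.Agent.H4AnPts.range_map]
      exact U.ι.isOpenEmbedding.isOpen_range.preimage An.Pts.continuous_pt
    · rw [Groth.Agent.H4AnPts.range_map]
      simpa using haU
    · exact h2.toHomeomorph.symm.isClosedEmbedding.locallyCompactSpace
  refine ⟨fun a s hs => ?_⟩
  obtain ⟨U, hUo, haU, hUlc⟩ := key a
  obtain ⟨t, ht, hts, htc⟩ := local_compact_nhds (x := (⟨a, haU⟩ : U))
    (n := Subtype.val ⁻¹' s) (continuous_subtype_val.continuousAt.preimage_mem_nhds hs)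
  exact ⟨Subtype.val '' t, hUo.isOpenEmbedding_subtypeVal.isOpenMap.image_mem_nhds ht,
    Set.image_subset_iff.2 hts, htc.image continuous_subtype_val⟩

end Groth.Agent.S4185
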