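import Groth.Statements.S4187
import Mathlib
import Groth.Agent.Lib.H4AnClosure


set_option autoImplicit false
open CategoryTheory AlgebraicGeometry Topology TopologicalSpace
open An

namespace Groth.Agent.S4187

/-- For X locally of finite type over ℂ, the underlying space of X is discrete if and only if the space
X(ℂ) (complex topology) is discrete. -/
theorem result (X : Scheme.{0}) [X.Over An.SC] [LocallyOfFiniteType (X ↘ An.SC)] :
    DiscreteTopology ↥X ↔ DiscreteTopology (An.Pts X) := by
  constructor
  · intro h
    rw [discreteTopology_iff_forall_isOpen]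
    intro s
    have : s = (An.Pts.pt : An.Pts X → X) ⁻¹' (An.Pts.pt '' s) :=
      (Groth.Agent.H4AnPts.pt_injective.preimage_image s).symm
    rw [this]
    exact (isOpen_discrete _).preimage An.Pts.continuous_pt
  · intro h
    have hopen : ∀ x : X, IsClosed ({x} : Set X) → IsOpen ({x} : Set X) := fun x hx =>
      Groth.Agent.H4AnClosure.isOpen_of_isOpen_preimage (X := X)
        (Groth.Agent.H4AnClosure.isLocallyConstructible_of_isLocallyClosed (X := X) hx.isLocallyClosed)
        (isOpen_discrete _)
    rw [discreteTopology_iff_isOpen_singleton]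
    intro y
    obtain ⟨a, ha⟩ := Groth.Agent.H4AnPts.exists_pt_mem (X := X) (Z := closure {y})
      ⟨y, subset_closure rfl⟩ isClosed_closure.isLocallyClosed
    have hcl := Groth.Agent.H4AnPts.isClosed_pt a
    obtain ⟨z, hz1, hz2⟩ := mem_closure_iff.1 ha _ (hopen _ hcl) rfl
    rw [Set.mem_singleton_iff] at hz1 hz2
    rw [← hz2, hz1]
    exact hopen _ hcl

end Groth.Agent.S4187
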