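import Groth.Statements.S4194
import Mathlib
import Groth.Agent.Lib.H4AnPts


set_option autoImplicit false
open CategoryTheory AlgebraicGeometry Topology TopologicalSpace
open An

namespace Groth.Agent.S4194

/-- A morphism f : X → Y of schemes locally of finite type over ℂ is injective (on underlying points) if
and only if the induced map X(ℂ) → Y(ℂ) is injective. -/
theorem result (X Y : Scheme.{0}) [X.Over An.SC] [LocallyOfFiniteType (X ↘ An.SC)]
    [Y.Over An.SC] [LocallyOfFiniteType (Y ↘ An.SC)] (f : X ⟶ Y) [f.IsOver An.SC] :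
    Function.Injective f.base ↔ Function.Injective (An.Pts.map f) := by
  constructor
  · intro h a b hab
    refine Groth.Agent.H4AnPts.pt_injective (h ?_)
    have := congrArg An.Pts.pt hab
    rw [An.Pts.pt_map, An.Pts.pt_map] at this
    exact this
  · intro h x1 x2 hx
    by_contra hne
    obtain ⟨p, hp1, hp2⟩ := Scheme.Pullback.exists_preimage_pullback (f := f) (g := f) x1 x2 hx
    have : LocallyOfFiniteType (Limits.pullback f f ↘ An.SC) := by
      show LocallyOfFiniteType (Limits.pullback.fst f f ≫ X ↘ An.SC)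
      have : LocallyOfFiniteType f := by
        have : LocallyOfFiniteType (f ≫ Y ↘ An.SC) := by rw [comp_over f]; infer_instance
        exact locallyOfFiniteType_of_comp f (Y ↘ An.SC)
      infer_instance
    have hD : IsLocallyClosed (Set.range (Limits.pullback.diagonal f)) := (Limits.pullback.diagonal f).isLocallyClosed_range
    have hpD : p ∉ Set.range (Limits.pullback.diagonal f) := by
      rintro ⟨z, hz⟩
      refine hne ?_
      rw [← hp1, ← hp2, ← hz, ← Scheme.Hom.comp_apply, ← Scheme.Hom.comp_apply,
        Limits.pullback.diagonal_fst, Limits.pullback.diagonal_snd]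
    obtain ⟨U, C, hU, hC, hUC⟩ := hD
    have hZ : ∃ a : An.Pts (Limits.pullback f f), a.pt ∉ Set.range (Limits.pullback.diagonal f) := by
      rw [hUC] at hpD ⊢
      by_cases hpU : p ∈ U
      · obtain ⟨a, ha⟩ := Groth.Agent.H4AnPts.exists_pt_mem (X := Limits.pullback f f) (Z := Cᶜ)
          ⟨p, fun h => hpD ⟨hpU, h⟩⟩ hC.isOpen_compl.isLocallyClosed
        exact ⟨a, fun h => ha h.2⟩
      · obtain ⟨a, ha⟩ := Groth.Agent.H4AnPts.exists_pt_mem (X := Limits.pullback f f) (Z := Uᶜ)
          ⟨p, hpU⟩ hU.isClosed_compl.isLocallyClosed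
        exact ⟨a, fun h => ha h.1⟩
    obtain ⟨a, ha⟩ := hZ
    have hfs := h (An.Pts.map_pullback_condition f f a)
    have hfs' : a.1 ≫ Limits.pullback.fst f f = a.1 ≫ Limits.pullback.snd f f :=
      congrArg Subtype.val hfs
    have e : (a.1 ≫ Limits.pullback.fst f f) ≫ Limits.pullback.diagonal f = a.1 := by
      refine Limits.pullback.hom_ext ?_ ?_
      · simp
      · simp [hfs']
    refine ha ⟨(a.1 ≫ Limits.pullback.fst f f) An.cpt, ?_⟩
    rw [← Scheme.Hom.comp_apply, e]
    rfl

end Groth.Agent.S4194
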