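import Groth.Statements.S4198
import Mathlib
import Groth.Agent.Lib.H4AnPts
import Groth.Agent.Lib.H4ProCons


set_option autoImplicit false
open CategoryTheory AlgebraicGeometry Topology TopologicalSpace
open An

namespace Groth.Agent.S4198

/-- Let f : X → Y be a morphism of finite type (here: quasi-compact, X and Y being locally of finite
type over ℂ). Then f is surjective if and only if the induced map on complex points X(ℂ) → Y(ℂ) is
surjective. (The finite-type hypothesis cannot be dropped.) -/
theorem result (X Y : Scheme.{0}) [X.Over An.SC] [LocallyOfFiniteType (X ↘ An.SC)]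
    [Y.Over An.SC] [LocallyOfFiniteType (Y ↘ An.SC)] (f : X ⟶ Y) [f.IsOver An.SC] [QuasiCompact f] :
    Function.Surjective f.base ↔ Function.Surjective (An.Pts.map f) := by
  constructor
  · intro h b
    have : b ∈ Set.range (An.Pts.map f) := by
      rw [Groth.Agent.H4AnPts.range_map]; exact h b.pt
    exact this
  · intro h y
    by_contra hy
    have : LocallyOfFiniteType f := by
      have : LocallyOfFiniteType (f ≫ Y ↘ An.SC) := by rw [comp_over f]; infer_instance
      exact locallyOfFiniteType_of_comp f (Y ↘ An.SC)
    have : IsLocallyNoetherian Y := LocallyOfFiniteType.isLocallyNoetherian (Y ↘ An.SC)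
    have hc : IsLocallyConstructible (Set.range f) := by
      simpa using f.isLocallyConstructible_image (IsLocallyConstructible.univ)
    obtain ⟨b, hb⟩ := Groth.Agent.H4AnPts.nonempty_inter_closedPoints_constructible (X := Y)
      (Groth.Agent.H4ProCons.isLocallyConstructible_compl hc) ⟨y, hy⟩
    obtain ⟨a, rfl⟩ := h b
    exact hb ⟨a.pt, (An.Pts.pt_map f a).symm⟩

end Groth.Agent.S4198
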