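import Groth.Statements.S4199
import Mathlib
import Groth.Agent.Lib.H4AnClosure


set_option autoImplicit false
open CategoryTheory AlgebraicGeometry Topology TopologicalSpace
open An

namespace Groth.Agent.S4199

/-- Let f : X → Y be quasi-compact, with X and Y locally of finite type over ℂ. Then f is dominant if
and only if the image of X(ℂ) → Y(ℂ) is dense. -/
theorem result (X Y : Scheme.{0}) [X.Over An.SC] [LocallyOfFiniteType (X ↘ An.SC)]
    [Y.Over An.SC] [LocallyOfFiniteType (Y ↘ An.SC)] (f : X ⟶ Y) [f.IsOver An.SC] [QuasiCompact f] :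
    DenseRange f.base ↔ DenseRange (An.Pts.map f) := by
  have : LocallyOfFiniteType f := by
    have : LocallyOfFiniteType (f ≫ Y ↘ An.SC) := by rw [comp_over f]; infer_instance
    exact locallyOfFiniteType_of_comp f (Y ↘ An.SC)
  have : IsLocallyNoetherian Y := LocallyOfFiniteType.isLocallyNoetherian (Y ↘ An.SC)
  have hc : IsLocallyConstructible (Set.range f) := by
    simpa using f.isLocallyConstructible_image (IsLocallyConstructible.univ)
  have h := Groth.Agent.H4AnClosure.dense_iff (X := Y) hc
  rw [← Groth.Agent.H4AnPts.range_map f] at h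
  exact h

end Groth.Agent.S4199
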