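import Groth.Statements.S4204
import Mathlib
import Groth.Agent.Lib.H4AnPullback


set_option autoImplicit false
open CategoryTheory AlgebraicGeometry Topology TopologicalSpace
open An

namespace Groth.Agent.S4204

/-- Let X be a scheme locally of finite type over ℂ. Then X is separated over ℂ if and only if X(ℂ) with
the complex topology is Hausdorff. -/
theorem result (X : Scheme.{0}) [X.Over An.SC] [LocallyOfFiniteType (X ↘ An.SC)] :
    IsSeparated (X ↘ An.SC) ↔ T2Space (An.Pts X) := by
  letI iS : An.SC.Over An.SC := ⟨𝟙 _⟩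
  have : LocallyOfFiniteType (An.SC ↘ An.SC) := by
    show LocallyOfFiniteType (𝟙 An.SC); infer_instance
  have : (X ↘ An.SC).IsOver An.SC := ⟨Category.comp_id _⟩
  rw [Groth.Agent.H4AnPullback.isSeparated_iff (X ↘ An.SC)]
  have hs : ∀ a b : An.Pts X, An.Pts.map (X ↘ An.SC) a = An.Pts.map (X ↘ An.SC) b := fun a b =>
    Subtype.ext (a.2.trans b.2.symm)
  constructor
  · intro h
    exact ⟨fun a b hab => h a b (hs a b) hab⟩
  · intro h a b _ hab
    exact t2_separation hab

end Groth.Agent.S4204
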