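import Groth.Statements.S4205
import Mathlib
import Groth.Agent.Lib.H4AnProper


set_option autoImplicit false
open CategoryTheory AlgebraicGeometry Topology TopologicalSpace
open An

namespace Groth.Agent.S4205

/-- Let X be a scheme of finite type over ℂ (locally of finite type and quasi-compact over ℂ, carried as
two instance hypotheses). Then X is proper over ℂ if and only if X(ℂ) with the complex topology is
compact and Hausdorff. -/
theorem result (X : Scheme.{0}) [X.Over An.SC] [LocallyOfFiniteType (X ↘ An.SC)] [QuasiCompact (X ↘ An.SC)] :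
    IsProper (X ↘ An.SC) ↔ CompactSpace (An.Pts X) ∧ T2Space (An.Pts X) := by
  letI iS : An.SC.Over An.SC := ⟨𝟙 _⟩
  have : LocallyOfFiniteType (An.SC ↘ An.SC) := by
    show LocallyOfFiniteType (𝟙 An.SC); infer_instance
  have : (X ↘ An.SC).IsOver An.SC := ⟨Category.comp_id _⟩
  rw [Groth.Agent.H4AnProper.isProper_iff (X ↘ An.SC)]
  have hs : ∀ a b : An.Pts X, An.Pts.map (X ↘ An.SC) a = An.Pts.map (X ↘ An.SC) b := fun a b =>
    Subtype.ext (a.2.trans b.2.symm)
  have : Subsingleton (An.Pts An.SC) := ⟨fun a b => Subtype.ext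
    ((Category.comp_id a.1).symm.trans (a.2.trans (b.2.symm.trans (Category.comp_id b.1))))⟩
  constructor
  · rintro ⟨h1, h2⟩
    refine ⟨⟨?_⟩, ⟨fun a b hab => h2 a b (hs a b) hab⟩⟩
    have := h1.isCompact_preimage (Set.subsingleton_of_subsingleton (s := Set.univ)).isCompact
    rwa [Set.preimage_univ] at this
  · rintro ⟨h1, h2⟩
    exact ⟨(An.Pts.continuous_map (X ↘ An.SC)).isProperMap, fun a b _ hab => t2_separation hab⟩

end Groth.Agent.S4205
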