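import Groth.Statements.S4206
import Mathlib
import Groth.Agent.Lib.H4AnProper


set_option autoImplicit false
open CategoryTheory AlgebraicGeometry Topology TopologicalSpace
open An

namespace Groth.Agent.S4206

theorem isCoveringMap_of {E B : Type} [TopologicalSpace E] [TopologicalSpace B] {p : E → B}
    (hp : IsProperMap p) (hl : IsLocalHomeomorph p) (hs : IsSeparatedMap p)
    (hf : ∀ b, (p ⁻¹' {b}).Finite) : IsCoveringMap p := by
  classical
  intro b
  have := (hf b).to_subtype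
  have hd : DiscreteTopology (p ⁻¹' {b}) := by
    rw [discreteTopology_iff_isOpen_singleton]
    rintro ⟨x, hx⟩
    obtain ⟨e, hxe, he⟩ := hl x
    refine ⟨e.source, e.open_source, ?_⟩
    ext ⟨z, hz⟩
    simp only [Set.mem_preimage, Set.mem_singleton_iff, Subtype.mk.injEq]
    refine ⟨fun hze => e.injOn hze hxe ?_, fun h => h ▸ hxe⟩
    rw [← he]
    exact hz.trans hx.symm
  choose e hxe he using fun x : p ⁻¹' {b} => hl x.1
  have hdisj : ∀ x y : p ⁻¹' {b}, x ≠ y → ∃ U V, IsOpen U ∧ IsOpen V ∧ x.1 ∈ U ∧ y.1 ∈ V ∧ Disjoint U V :=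
    fun x y h => hs x.1 y.1 (x.2.trans y.2.symm) (fun e => h (Subtype.ext e))
  choose U V hU hV hxU hyV hUV using hdisj
  let O : p ⁻¹' {b} → Set E := fun x => (e x).source ∩ ⋂ y : p ⁻¹' {b},
    if h : x = y then Set.univ else (U x y h ∩ V y x (Ne.symm h))
  have hO : ∀ x, IsOpen (O x) := fun x => (e x).open_source.inter (isOpen_iInter_of_finite fun y => by
    split_ifs with h
    exacts [isOpen_univ, (hU x y h).inter (hV y x _)])
  have hxO : ∀ x, x.1 ∈ O x := fun x => ⟨hxe x, Set.mem_iInter.2 fun y => by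
    split_ifs with h
    exacts [trivial, ⟨hxU x y h, hyV y x _⟩]⟩
  have hdis : ∀ x y, x ≠ y → Disjoint (O x) (O y) := fun x y h => by
    rw [Set.disjoint_left]
    intro z hzx hzy
    have h1 := Set.mem_iInter.1 hzx.2 y
    have h2 := Set.mem_iInter.1 hzy.2 x
    rw [dif_neg h] at h1
    rw [dif_neg (Ne.symm h)] at h2
    exact Set.disjoint_left.1 (hUV x y h) h1.1 h2.2
  have hcl : IsClosed (p '' (⋃ x, O x)ᶜ) :=
    hp.isClosedMap _ (isOpen_iUnion hO).isClosed_compl
  let W : Set B := (⋂ x, p '' O x) ∩ (p '' (⋃ x, O x)ᶜ)ᶜ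
  have hW : IsOpen W := (isOpen_iInter_of_finite fun x => hl.isOpenMap _ (hO x)).inter hcl.isOpen_compl
  have hbW : b ∈ W := ⟨Set.mem_iInter.2 fun x => ⟨x.1, hxO x, x.2⟩, by
    rintro ⟨z, hz, hzb⟩
    exact hz (Set.mem_iUnion.2 ⟨⟨z, hzb⟩, hxO ⟨z, hzb⟩⟩)⟩
  have hidx : ∀ z, p z ∈ W → ∃ x, z ∈ O x := fun z hz => by
    by_contra h
    exact hz.2 ⟨z, fun hu => h (Set.mem_iUnion.1 hu), rfl⟩
  have hsym : ∀ x, ∀ w ∈ W, w ∈ (e x).target ∧ (e x).symm w ∈ O x ∧ p ((e x).symm w) = w := by
    intro x w hw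
    obtain ⟨z, hz, rfl⟩ := Set.mem_iInter.1 hw.1 x
    have h1 : p z = e x z := congrFun (he x) z
    have h2 : (e x).symm (p z) = z := by rw [h1, (e x).left_inv hz.1]
    exact ⟨h1 ▸ (e x).map_source hz.1, h2.symm ▸ hz, congrArg p h2⟩
  choose idx hidx' using fun z : p ⁻¹' W => hidx z.1 z.2
  have huniq : ∀ (z : p ⁻¹' W) x, z.1 ∈ O x → idx z = x := fun z x hx => by
    by_contra h
    exact Set.disjoint_left.1 (hdis _ _ h) (hidx' z) hx
  let H : p ⁻¹' W ≃ₜ W × (p ⁻¹' {b}) :=
    { toFun := fun z => (⟨p z.1, z.2⟩, idx z)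
      invFun := fun q => ⟨(e q.2).symm q.1.1, by
        show p _ ∈ W
        rw [(hsym q.2 q.1.1 q.1.2).2.2]; exact q.1.2⟩
      left_inv := fun z => Subtype.ext (by
        show (e (idx z)).symm (p z.1) = z.1
        rw [congrFun (he (idx z)) z.1, (e (idx z)).left_inv (hidx' z).1])
      right_inv := fun q => Prod.ext (Subtype.ext (hsym q.2 q.1.1 q.1.2).2.2)
        (huniq _ _ (hsym q.2 q.1.1 q.1.2).2.1)
      continuous_toFun := by
        refine ((hp.continuous.comp continuous_subtype_val).subtype_mk _).prodMk ?_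
        refine continuous_discrete_rng.2 fun x => ?_
        have : idx ⁻¹' {x} = Subtype.val ⁻¹' O x :=
          Set.ext fun z => ⟨fun h => (show idx z = x from h) ▸ hidx' z, huniq z x⟩
        rw [this]
        exact (hO x).preimage continuous_subtype_val
      continuous_invFun := by
        refine Continuous.subtype_mk ?_ _
        refine continuous_prod_of_discrete_right.2 fun x => ?_
        exact (e x).continuousOn_symm.comp_continuous continuous_subtype_val fun w => (hsym x w.1 w.2).1 }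
  exact ⟨hd, W, hbW, hW, hW.preimage hp.continuous, H, fun _ => rfl⟩

/-- A finite etale morphism f : X → Y of schemes locally of finite type over ℂ (f a ℂ-morphism) induces
a covering map X(ℂ) → Y(ℂ) with finite fibres for the complex topologies. -/
theorem result (X Y : Scheme.{0}) [X.Over An.SC] [LocallyOfFiniteType (X ↘ An.SC)]
    [Y.Over An.SC] [LocallyOfFiniteType (Y ↘ An.SC)] (f : X ⟶ Y) [f.IsOver An.SC] [IsFinite f] [Etale f] :
    IsCoveringMap (An.Pts.map f) ∧ ∀ y : An.Pts Y, (An.Pts.map f ⁻¹' {y}).Finite := by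
  have hf := Groth.Agent.H4AnProper.finite_fibre_of_isFinite f
  exact ⟨isCoveringMap_of (Groth.Agent.H4AnProper.isProperMap_of_isProper f)
    (Groth.Agent.H4AnEtale.etale_isLocalHomeomorph X Y f)
    ((Groth.Agent.H4AnPullback.isSeparated_iff f).1 inferInstance) hf, hf⟩

end Groth.Agent.S4206
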