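import Groth.Statements.S4243
import Mathlib

set_option autoImplicit false
open SGA4h

namespace Groth.Agent.S4243

/-- Let k be a finite field with q elements and P a nonzero homogeneous polynomial of degree d in r+1
variables over k. If P vanishes at every point of k^{r+1} (that is, the hypersurface P = 0 in
projective r-space passes through every rational point), then d ≥ q + 1. -/
theorem result (k : Type) [Field k] [Fintype k] (r d : ℕ)
    (P : MvPolynomial (Fin (r + 1)) k) (hP : P.IsHomogeneous d) (hP0 : P ≠ 0)
    (hvan : ∀ x : Fin (r + 1) → k, MvPolynomial.eval x P = 0) :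
    Fintype.card k + 1 ≤ d := by
  classical
  have hhom : ∀ mn ∈ P.support, Finsupp.degree mn = d := fun mn hm => by
    have := hP (MvPolynomial.mem_support_iff.1 hm)
    simpa [Finsupp.degree, Finsupp.weight, Finsupp.linearCombination, Finsupp.sum] using this
  have hcard : 1 < Fintype.card k := Fintype.one_lt_card
  by_contra hd
  refine hP0 (MvPolynomial.eq_zero_of_eval_eq_zero _ _ P hvan ?_)
  rw [MvPolynomial.mem_restrictDegree]
  intro mn hm i
  have hdeg := hhom mn hm
  have hle : mn i ≤ d := by rw [← hdeg]; exact Finsupp.le_degree i mn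
  by_contra hbig
  have hi : mn i = d := by omega
  have heq : mn = Finsupp.single i d := by
    ext j
    by_cases hji : j = i
    · subst hji; simp [hi]
    · rw [Finsupp.single_eq_of_ne hji]
      have h1 : ∑ l ∈ ({i, j} : Finset (Fin (r + 1))), mn l ≤ ∑ l, mn l := Finset.sum_le_univ_sum_of_nonneg fun _ => Nat.zero_le _
      rw [Finset.sum_pair (Ne.symm hji)] at h1
      have h2 : ∑ l, mn l = d := by rw [← hdeg, Finsupp.degree_eq_sum]
      omega
  apply MvPolynomial.mem_support_iff.1 hm
  have hev := hvan (Pi.single i 1)
  rw [MvPolynomial.eval_eq'] at hev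
  rw [Finset.sum_eq_single mn] at hev
  · rw [Finset.prod_eq_one (fun l _ => by
      by_cases hl : l = i
      · subst hl; simp
      · rw [heq, Finsupp.single_eq_of_ne hl, pow_zero]), mul_one] at hev
    exact hev
  · intro m' hm' hne
    obtain ⟨l, hl, hl0⟩ : ∃ l, l ≠ i ∧ m' l ≠ 0 := by
      by_contra hall
      push_neg at hall
      apply hne
      rw [heq]
      have hd' := hhom m' hm'
      rw [Finsupp.degree_eq_sum, Finset.sum_eq_single i (fun l _ hl => hall l hl) (by simp)] at hd'
      ext l
      by_cases hl : l = i
      · subst hl; simp [hd']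
      · rw [Finsupp.single_eq_of_ne hl, hall l hl]
    rw [Finset.prod_eq_zero (Finset.mem_univ l) (by simp [Pi.single_apply, hl, hl0]), mul_zero]
  · intro h; exact absurd hm h

end Groth.Agent.S4243
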