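import Groth.Statements.S4256
-- import your own Groth.Agent.* helpers here

set_option autoImplicit false
open scoped BigOperators
open SGA4h

namespace Groth.Agent.S4256

/-- Let k be a finite field, ψ a nontrivial additive character of k with values in a domain R, and n ≥
1. Then the generalised Kloosterman sum with parameter 0, Σ ψ(x_1 + ⋯ + x_n) over all (x_1, …, x_n)
∈ k^n with x_1 ⋯ x_n = 0, equals (-1)^{n-1}. -/
theorem result (k : Type) [Field k] [Fintype k] [DecidableEq k] (R : Type) [CommRing R] [IsDomain R]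
    (ψ : AddChar k R) (hψ : ψ ≠ 1) (n : ℕ) (hn : 1 ≤ n) :
    ∑ x ∈ (Finset.univ : Finset (Fin n → k)).filter (fun x => ∏ i, x i = 0), ψ (∑ i, x i) = (-1) ^ (n - 1) := by
  classical
  have htot : ∑ a : k, ψ a = 0 := by
    rw [AddChar.sum_eq_ite, if_neg (by rwa [AddChar.one_eq_zero] at hψ)]
  have hnz : ∑ a ∈ (Finset.univ : Finset k).filter (fun a => a ≠ 0), ψ a = -1 := by
    have h := Finset.add_sum_erase (Finset.univ : Finset k) (fun a => ψ a) (Finset.mem_univ (0 : k))
    rw [htot, AddChar.map_zero_eq_one] at h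
    rw [show (Finset.univ : Finset k).filter (fun a => a ≠ 0) = Finset.univ.erase 0 by ext; simp]
    linear_combination h
  have hsum : ∀ (s : Finset k), ∑ x ∈ Fintype.piFinset (fun _ : Fin n => s), ψ (∑ i, x i) =
      (∑ a ∈ s, ψ a) ^ n := by
    intro s
    rw [Finset.sum_pow']
    refine Finset.sum_congr rfl fun x _ => ?_
    exact map_sum ψ.toAddMonoidHom x Finset.univ
  have h1 : ∑ x : Fin n → k, ψ (∑ i, x i) = 0 := by
    have := hsum Finset.univ
    rw [Fintype.piFinset_univ, htot, zero_pow (by omega)] at this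
    exact this
  have h2 := Finset.sum_filter_add_sum_filter_not (Finset.univ : Finset (Fin n → k))
    (fun x => ∏ i, x i = 0) (fun x => ψ (∑ i, x i))
  rw [h1] at h2
  have h3 : ∑ x ∈ (Finset.univ : Finset (Fin n → k)).filter (fun x => ¬ ∏ i, x i = 0), ψ (∑ i, x i)
      = (-1) ^ n := by
    rw [← hnz, ← hsum]
    refine Finset.sum_congr ?_ fun _ _ => rfl
    ext x
    simp [Finset.prod_eq_zero_iff]
  rw [h3] at h2
  obtain ⟨m, rfl⟩ : ∃ m, n = m + 1 := ⟨n - 1, by omega⟩
  rw [Nat.add_sub_cancel]
  rw [pow_succ] at h2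
  linear_combination h2

end Groth.Agent.S4256
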