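import Groth.Statements.S4307
import Mathlib
import Groth.Agent.Lib.H4AnAffine
import Groth.Agent.S4183


set_option autoImplicit false
open CategoryTheory AlgebraicGeometry Topology TopologicalSpace
open An

namespace Groth.Agent.S4307

theorem coord_surjective (n : ℕ) : Function.Surjective
    (MvPolynomial.eval₂Hom (An.strHom (𝔸(Fin n; An.SC))) (AffineSpace.coord An.SC)) := by
  have : IsAffine An.SC := inferInstance
  let e := AffineSpace.isoOfIsAffine (Fin n) An.SC
  have : IsIso e.hom.appTop := (Scheme.Γ.mapIso e.op).isIso_hom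
  have key : MvPolynomial.eval₂Hom (An.strHom (𝔸(Fin n; An.SC))) (AffineSpace.coord An.SC) =
      (e.hom.appTop.hom.comp (Scheme.ΓSpecIso _).inv.hom).comp
        (MvPolynomial.map (Scheme.ΓSpecIso (CommRingCat.of ℂ)).inv.hom) := by
    refine MvPolynomial.ringHom_ext (fun c => ?_) (fun i => ?_)
    · simp [e, An.strHom, AffineSpace.isoOfIsAffine_hom_appTop]
    · simp [e, AffineSpace.isoOfIsAffine_hom_appTop]
  rw [key]
  exact ((ConcreteCategory.bijective_of_isIso e.hom.appTop).2.comp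
    (ConcreteCategory.bijective_of_isIso (Scheme.ΓSpecIso (CommRingCat.of
      (MvPolynomial (Fin n) Γ(An.SC, ⊤)))).inv).2).comp
    (MvPolynomial.map_surjective _ (ConcreteCategory.bijective_of_isIso
      (Scheme.ΓSpecIso (CommRingCat.of ℂ)).inv).2)

theorem differentiable_eval {n : ℕ} (p : MvPolynomial (Fin n) ℂ) :
    Differentiable ℂ (fun z : Fin n → ℂ => MvPolynomial.eval z p) := by
  induction p using MvPolynomial.induction_on with
  | C a => simp
  | add p q hp hq => simp only [map_add]; exact hp.add hq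
  | mul_X p i hp => simp only [map_mul, MvPolynomial.eval_X]; exact hp.mul (differentiable_apply i)

theorem differentiableAt_ev {n : ℕ} (e : An.Pts (𝔸(Fin n; An.SC)) ≃ₜ (Fin n → ℂ))
    (he : ∀ x i, e x i = x.evTop (AffineSpace.coord An.SC i))
    (W : (𝔸(Fin n; An.SC)).Opens) (s : Γ(𝔸(Fin n; An.SC), W)) (a : An.Pts (𝔸(Fin n; An.SC)))
    (ha : a.pt ∈ W) :
    ∃ F : (Fin n → ℂ) → ℂ, DifferentiableAt ℂ F (e a) ∧
      ∀ᶠ z in 𝓝 (e a), ∃ h : (e.symm z).pt ∈ W, (e.symm z).ev W h s = F z := by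
  obtain ⟨g, hg, hag⟩ := (isAffineOpen_top 𝔸(Fin n; An.SC)).exists_basicOpen_le (V := W) ⟨a.pt, ha⟩ trivial
  have := (isAffineOpen_top 𝔸(Fin n; An.SC)).isLocalization_basicOpen g
  obtain ⟨⟨f0, ⟨_, m, rfl⟩⟩, hf⟩ := IsLocalization.surj (Submonoid.powers g)
    ((𝔸(Fin n; An.SC)).presheaf.map (homOfLE hg).op s)
  obtain ⟨P, hP⟩ := coord_surjective n g
  obtain ⟨Q, hQ⟩ := coord_surjective n f0
  have hev : ∀ b : An.Pts (𝔸(Fin n; An.SC)), ∀ R,
      Groth.Agent.H4AnAffine.evTopHom b (MvPolynomial.eval₂Hom (An.strHom _) (AffineSpace.coord An.SC) R) =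
        MvPolynomial.eval (e b) R := by
    intro b R
    rw [Groth.Agent.H4AnAffine.evTopHom_eval₂]
    congr 2
    funext i
    exact (he b i).symm
  have hne : MvPolynomial.eval (e a) P ≠ 0 := by
    rw [← hev, hP]; exact (Groth.Agent.H4AnAffine.mem_basicOpen_iff a g).1 hag
  have hd1 : DifferentiableAt ℂ (fun z : Fin n → ℂ => MvPolynomial.eval z P ^ m) (e a) :=
    (differentiable_eval P (e a)).fun_pow m
  have hne' : (fun z : Fin n → ℂ => MvPolynomial.eval z P ^ m) (e a) ≠ 0 := pow_ne_zero _ hne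
  have hd2 := (differentiable_eval Q (e a)).fun_mul (hd1.fun_inv hne')
  refine ⟨_, hd2, ?_⟩
  have hU : ∀ᶠ z in 𝓝 (e a), MvPolynomial.eval z P ≠ 0 :=
    (isOpen_ne_fun (MvPolynomial.continuous_eval P) continuous_const).mem_nhds hne
  filter_upwards [hU] with z hz
  have hb : (e.symm z).pt ∈ (𝔸(Fin n; An.SC)).basicOpen g := by
    rw [Groth.Agent.H4AnAffine.mem_basicOpen_iff, ← hP, hev, e.apply_symm_apply]
    exact hz
  refine ⟨hg hb, ?_⟩
  have h := congrArg (Groth.Agent.H4AnAffine.evHom (e.symm z) _ hb) hf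
  rw [map_mul] at h
  simp only [RingHom.algebraMap_toAlgebra] at h
  have et : ∀ t, Groth.Agent.H4AnAffine.evHom (e.symm z) ((𝔸(Fin n; An.SC)).basicOpen g) hb
      ((𝔸(Fin n; An.SC)).presheaf.map (homOfLE le_top).op t) =
      Groth.Agent.H4AnAffine.evTopHom (e.symm z) t :=
    fun t => Groth.Agent.H4AnPts.ev_map_res (e.symm z) le_top hb t
  have h1 : (e.symm z).ev W (hg hb) s * MvPolynomial.eval z P ^ m = MvPolynomial.eval z Q := by
    have e1 := hev (e.symm z) P
    have e2 := hev (e.symm z) Q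
    rw [e.apply_symm_apply, hP] at e1
    rw [e.apply_symm_apply, hQ] at e2
    rw [← e1, ← e2, ← map_pow, ← et (g ^ m), ← et f0,
      ← Groth.Agent.H4AnPts.ev_map_res (e.symm z) hg hb s]
    exact h
  rw [← h1, mul_assoc, mul_inv_cancel₀ (pow_ne_zero _ hz), mul_one]

/-- A sanity check of the definition of holomorphic functions: for an open set U of complex points of
affine n-space over ℂ and g : U → ℂ, g is holomorphic (satisfies the local predicate An.holPred of
the prelude) if and only if g = G ∘ (coordinates) for some G : ℂ^n → ℂ complex-differentiable on the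
image of U in ℂ^n. -/
theorem result (n : ℕ) (U : TopologicalSpace.Opens (An.Pts (𝔸(Fin n; An.SC))))
    (g : U → ℂ) :
    (An.holPred (𝔸(Fin n; An.SC))).pred g ↔
      ∃ G : (Fin n → ℂ) → ℂ,
        DifferentiableOn ℂ G ((fun (x : An.Pts (𝔸(Fin n; An.SC))) (i : Fin n) =>
          x.evTop (AffineSpace.coord An.SC i)) '' (U : Set (An.Pts (𝔸(Fin n; An.SC))))) ∧
        ∀ x : U, g x = G (fun i => (x : An.Pts (𝔸(Fin n; An.SC))).evTop (AffineSpace.coord An.SC i)) := by
  classical
  let e : An.Pts (𝔸(Fin n; An.SC)) ≃ₜ (Fin n → ℂ) := (Groth.Agent.S4183.result n).homeomorph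
  have he : ∀ x i, e x i = x.evTop (AffineSpace.coord An.SC i) := fun x i => rfl
  have hV : IsOpen (e '' (U : Set (An.Pts (𝔸(Fin n; An.SC))))) := e.isOpenMap _ U.isOpen
  constructor
  · intro hg
    let G : (Fin n → ℂ) → ℂ := fun z => if h : e.symm z ∈ U then g ⟨e.symm z, h⟩ else 0
    refine ⟨G, ?_, fun x => ?_⟩
    swap
    · show g x = G (e x.1)
      have h : e.symm (e x.1) ∈ U := by rw [e.symm_apply_apply]; exact x.2
      simp only [G, dif_pos h]
      exact congrArg g (Subtype.ext (e.symm_apply_apply x.1).symm)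
    rintro _ ⟨x, hx, rfl⟩
    refine DifferentiableAt.differentiableWithinAt ?_
    show DifferentiableAt ℂ G (e x)
    obtain ⟨U', hxU', i, hi⟩ := hg ⟨x, hx⟩
    have hx' : x ∈ U' := hxU'
    -- locally in the algebra of chart functions
    have key : ∀ f : (U' → ℂ), f ∈ An.chartAlg U' →
        ∃ F : (Fin n → ℂ) → ℂ, DifferentiableAt ℂ F (e x) ∧
          ∀ᶠ z in 𝓝 (e x), ∀ h : e.symm z ∈ U', f ⟨e.symm z, h⟩ = F z := by
      intro f hf
      induction hf using Algebra.adjoin_induction with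
      | algebraMap c => exact ⟨fun _ => c, differentiableAt_const c, Filter.Eventually.of_forall fun _ _ => rfl⟩
      | add f₁ f₂ _ _ h₁ h₂ =>
        obtain ⟨F₁, d₁, e₁⟩ := h₁
        obtain ⟨F₂, d₂, e₂⟩ := h₂
        refine ⟨F₁ + F₂, d₁.add d₂, ?_⟩
        filter_upwards [e₁, e₂] with z a b h
        simp [a h, b h]
      | mul f₁ f₂ _ _ h₁ h₂ =>
        obtain ⟨F₁, d₁, e₁⟩ := h₁
        obtain ⟨F₂, d₂, e₂⟩ := h₂
        refine ⟨F₁ * F₂, d₁.mul d₂, ?_⟩
        filter_upwards [e₁, e₂] with z a b h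
        simp [a h, b h]
      | mem f hf =>
        obtain ⟨W, hW, k, s, V, G', hVo, hG', hG''⟩ := hf
        choose F hFd hFe using fun j => differentiableAt_ev e he W (s j) x (hW ⟨x, hx'⟩)
        have hFx : (fun j => F j (e x)) = fun j => x.ev W (hW ⟨x, hx'⟩) (s j) := by
          funext j
          obtain ⟨h, hh⟩ := (hFe j).self_of_nhds
          rw [← hh]
          congr 1 <;> simp
        refine ⟨fun z => G' (fun j => F j z), ?_, ?_⟩
        · have h1 : DifferentiableAt ℂ G' (fun j => F j (e x)) :=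
            hG'.differentiableAt (hVo.mem_nhds (by rw [hFx]; exact (hG'' ⟨x, hx'⟩).1))
          exact h1.comp (e x) (differentiableAt_pi.2 hFd)
        · filter_upwards [Filter.eventually_all.2 hFe] with z hz h
          rw [(hG'' ⟨e.symm z, h⟩).2]
          congr 1
          funext j
          obtain ⟨h', hh⟩ := hz j
          exact hh
    obtain ⟨F, hFd, hFe⟩ := key _ hi
    refine hFd.congr_of_eventuallyEq ?_
    have hmem : ∀ᶠ z in 𝓝 (e x), e.symm z ∈ U' :=
      (e.symm.continuous.tendsto' _ _ (e.symm_apply_apply x)).eventually_mem (U'.isOpen.mem_nhds hx')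
    filter_upwards [hFe, hmem] with z hz hzU'
    have hzU : e.symm z ∈ U := i.le hzU'
    simp only [G, dif_pos hzU]
    exact hz hzU'
  · rintro ⟨G, hG, hgG⟩
    refine An.holPred_of_chartAlg (Algebra.subset_adjoin ?_)
    exact ⟨⊤, fun x => trivial, n, fun i => AffineSpace.coord An.SC i, _, G, hV, hG,
      fun x => ⟨⟨x.1, x.2, rfl⟩, hgG x⟩⟩

end Groth.Agent.S4307
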