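import Groth.Statements.S4337
import Mathlib
import Groth.Agent.Lib.H4LinTop


set_option autoImplicit false
universe u
open LinTop

namespace Groth.Agent.S4337

/-- Let A be an admissible ring, J an ideal of definition, and u : M -> N a homomorphism of A-modules
with N of finite type. Then u is surjective if and only if u tensored with A/J is surjective. -/
theorem result
    (A : Type u) [CommRing A] [UniformSpace A] [IsUniformAddGroup A] [IsTopologicalRing A]
    (hA : LinTop.IsAdmissible A) (J : Ideal A) (hJ : LinTop.IsIdealOfDefinition A J)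
    (M N : Type u) [AddCommGroup M] [Module A M] [AddCommGroup N] [Module A N] [Module.Finite A N]
    (u : M →ₗ[A] N) :
    Function.Surjective u ↔ Function.Surjective (u.rTensor (A ⧸ J)) := by
  refine ⟨fun h => LinearMap.rTensor_surjective _ h, fun h => ?_⟩
  obtain ⟨hp, hT, hC⟩ := hA
  have := hp.1
  rw [← LinearMap.range_eq_top, eq_top_iff]
  refine Submodule.le_of_le_smul_of_le_jacobson_bot (I := J) Module.Finite.fg_top
    (H4LinTop.le_jacobson fun x hx => H4LinTop.isTopologicallyNilpotent_of_mem hJ hx) ?_
  intro n _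
  obtain ⟨t, ht⟩ := h (n ⊗ₜ Ideal.Quotient.mk J 1)
  obtain ⟨m, hm⟩ : ∃ m : M, t = m ⊗ₜ Ideal.Quotient.mk J 1 := by
    clear ht
    induction t using TensorProduct.induction_on with
    | zero => exact ⟨0, by simp⟩
    | tmul m c =>
      obtain ⟨a, rfl⟩ := Ideal.Quotient.mk_surjective c
      refine ⟨a • m, ?_⟩
      rw [TensorProduct.smul_tmul, Algebra.smul_def, map_one, mul_one]
      rfl
    | add x y hx hy =>
      obtain ⟨a, rfl⟩ := hx
      obtain ⟨b, rfl⟩ := hy
      exact ⟨a + b, by rw [TensorProduct.add_tmul]⟩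
  rw [hm, LinearMap.rTensor_tmul] at ht
  have h2 := congrArg (TensorProduct.tensorQuotEquivQuotSMul N J) ht
  rw [TensorProduct.tensorQuotEquivQuotSMul_tmul_mk, TensorProduct.tensorQuotEquivQuotSMul_tmul_mk,
    one_smul, one_smul, Submodule.Quotient.eq] at h2
  rw [← sub_sub_cancel (u m) n]
  exact sub_mem (Submodule.mem_sup_left ⟨m, rfl⟩) (Submodule.mem_sup_right h2)

end Groth.Agent.S4337
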