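import Groth.Statements.S4341
import Groth.Agent.Lib.LQcqs
import Mathlib

set_option autoImplicit false
universe u
open QCohSup

namespace Groth.Agent.S4341

open AlgebraicGeometry in
open CategoryTheory in
open Opposite in
/-- Case of the trivial invertible sheaf. Let X be a quasi-compact quasi-separated scheme, f a global
section of O_X, F a quasi-coherent O_X-module and t a section of F over X_f. Then there is an n > 0
such that f^n t is the restriction of a global section of F. (The published statement assumes X with
Noetherian underlying space, or separated and quasi-compact; both are quasi-compact quasi-separated,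
which is what the argument uses: a finite affine cover with quasi-compact pairwise intersections.) -/
theorem result
    (X : Scheme.{u}) [CompactSpace X] [QuasiSeparatedSpace X] (f : Γ(X, ⊤))
    (F : X.Modules) [Coh.IsQCoh F] (t : F.val.obj (op (X.basicOpen f))) :
    ∃ n : ℕ, 0 < n ∧ ∃ s : F.val.obj (op ⊤),
      (F.val.map (homOfLE (le_top : X.basicOpen f ≤ ⊤)).op).hom s =
        (show X.ringCatSheaf.obj.obj (op (X.basicOpen f)) from
          X.presheaf.map (homOfLE (le_top : X.basicOpen f ≤ ⊤)).op f) ^ n • t := by
  have : F.IsQuasicoherent := ‹Coh.IsQCoh F›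
  obtain ⟨N, y, hy⟩ := ((Groth.Agent.LQcoh.locAt_of_qcqs F (W := ⊤) CompactSpace.isCompact_univ
    (fun A B hA hB _ _ => hA.isCompact.inter_of_isOpen hB.isCompact A.2 B.2)) f).1 t
  let r := X.presheaf.map (homOfLE (le_top : X.basicOpen f ≤ ⊤)).op f
  refine ⟨N + 1, N.succ_pos, f • (show Γ(F, ⊤) from y), ?_⟩
  show Groth.Agent.LQcoh.res F (le_top) (f • y) = r ^ (N + 1) • (show Γ(F, X.basicOpen f) from t)
  have key : ∀ c : Γ(F, X.basicOpen f), r • (Groth.Agent.LQcoh.resO (le_top : X.basicOpen f ≤ ⊤) (f ^ N) • c) = r ^ (N + 1) • c := fun c => by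
    rw [smul_smul, pow_succ']
    congr 2
    exact map_pow (X.presheaf.map (homOfLE (le_top : X.basicOpen f ≤ ⊤)).op).hom f N
  exact (Groth.Agent.LQcoh.res_smul F _ f y).trans ((congrArg (r • ·) hy).trans (key _))

end Groth.Agent.S4341
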