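import Groth.Statements.S4343
import Groth.Agent.Lib.H6.SpreadUnique

set_option autoImplicit false
set_option linter.all false
universe u
open RatMapD

namespace Groth.Agent.S4343

open AlgebraicGeometry in
open CategoryTheory in
/-- Let X, Y be S-schemes with X irreducible and Y locally of finite type over S. Two S-rational maps
from X to Y to which corresponds the same morphism Spec(O_x) -> Y, x the generic point of X, are
equal. (The published statement has Y of finite type over S; only local finite type is used. X is
not assumed reduced.) -/
theorem result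
    (S X Y : Scheme.{u}) [X.Over S] [Y.Over S] [IrreducibleSpace X]
    [LocallyOfFiniteType (Y ↘ S)] (f g : X ⤏ Y) [f.IsOver S] [g.IsOver S]
    (h : f.fromFunctionField = g.fromFunctionField) : f = g := by
    obtain ⟨f', hf', rfl⟩ := Scheme.RationalMap.exists_partialMap_over S f
    obtain ⟨g', hg', rfl⟩ := Scheme.RationalMap.exists_partialMap_over S g
    refine Scheme.PartialMap.toRationalMap_eq_iff.mpr ?_
    rw [Scheme.RationalMap.fromFunctionField_toRationalMap, Scheme.RationalMap.fromFunctionField_toRationalMap] at h
    have hd : Dense ((f'.domain ⊓ g'.domain : X.Opens) : Set X) :=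
      f'.dense_domain.inter_of_isOpen_left g'.dense_domain f'.domain.2
    have hx : genericPoint X ∈ f'.domain ⊓ g'.domain :=
      (genericPoint_specializes _).mem_open (f'.domain ⊓ g'.domain).2 hd.nonempty.choose_spec
    let W := f'.domain ⊓ g'.domain
    have h1 := f'.fromSpecStalkOfMem_restrict hd inf_le_left hx
    have h2 := g'.fromSpecStalkOfMem_restrict hd inf_le_right hx
    have h' : (f'.restrict W hd inf_le_left).fromSpecStalkOfMem hx = (g'.restrict W hd inf_le_right).fromSpecStalkOfMem hx := by
      rw [h1, h2]; exact h
    obtain ⟨U, hU, e⟩ := Groth.Agent.H6.SpreadUnique.spread_out_unique (X := W.toScheme)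
      (f'.restrict W hd inf_le_left).hom (g'.restrict W hd inf_le_right).hom (Y ↘ S)
      (by simp [hf'.1, hg'.1]) ⟨genericPoint X, hx⟩
      (by
        have h'' : (W.fromSpecStalkOfMem (genericPoint X) hx) ≫ (f'.restrict W hd inf_le_left).hom =
          (W.fromSpecStalkOfMem (genericPoint X) hx) ≫ (g'.restrict W hd inf_le_right).hom := h'
        simp only [Scheme.Opens.fromSpecStalkOfMem, Category.assoc] at h''
        exact (cancel_epi _).1 h'')
    refine ⟨W.ι ''ᵁ U, (W.ι ''ᵁ U).2.dense ⟨_, ⟨_, hU, rfl⟩⟩,
        ((Set.image_subset_range _ _).trans_eq (Subtype.range_val)).trans inf_le_left,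
        ((Set.image_subset_range _ _).trans_eq (Subtype.range_val)).trans inf_le_right, ?_⟩
    simp only [Scheme.PartialMap.restrict_hom, ← Category.assoc] at e ⊢
    refine (cancel_epi (Scheme.Hom.isoImage W.ι U).hom).1 ?_
    simp only [← Category.assoc]
    convert e using 2 <;> rw [← cancel_mono (Scheme.Opens.ι _)] <;> simp [W]

end Groth.Agent.S4343
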