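import Groth.Statements.S4344
import Mathlib.AlgebraicGeometry.Birational.RationalMap

set_option autoImplicit false
set_option linter.all false
universe u
open RatMapD CategoryTheory.Limits

namespace Groth.Agent.S4344

open AlgebraicGeometry in
open CategoryTheory in
/-- Let X be a reduced S-scheme, Y an S-scheme separated over S and f an S-rational map from X to Y.
There is a representative g of f which is an S-morphism and of which every S-morphism representing f
is a restriction; in particular g is the unique S-morphism of the class of f defined on the largest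
open where some S-representative is defined. (The published statement speaks of the domain of
definition among all representatives; over a base that is not separated that domain can be larger
than the one on which an S-representative exists, and this row takes the latter.) -/
theorem result
    (S X Y : Scheme.{u}) [X.Over S] [Y.Over S] [IsReduced X] [IsSeparated (Y ↘ S)]
    (f : X ⤏ Y) [f.IsOver S] :
    ∃ g : X.PartialMap Y, g.IsOver S ∧ g.toRationalMap = f ∧
      ∀ h : X.PartialMap Y, h.IsOver S → h.toRationalMap = f →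
        ∃ hle : h.domain ≤ g.domain, h = g.restrict h.domain h.dense_domain hle := by
    classical
    let s : Set X.Opens := { U | ∃ h : X.PartialMap Y, h.IsOver S ∧ h.toRationalMap = f ∧ h.domain = U }
    let D : X.Opens := sSup s
    obtain ⟨h₀, hh₀, hh₀f⟩ := Scheme.RationalMap.exists_partialMap_over S f
    have hD : Dense (D : Set X) := h₀.dense_domain.mono fun y hy => TopologicalSpace.Opens.mem_sSup.2 ⟨h₀.domain, ⟨h₀, hh₀, hh₀f, rfl⟩, hy⟩
    have hle : ∀ h : X.PartialMap Y, h.IsOver S → h.toRationalMap = f → h.domain ≤ D :=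
      fun h h1 h2 => le_sSup ⟨h, h1, h2, rfl⟩
    let I := { h : X.PartialMap Y // h.IsOver S ∧ h.toRationalMap = f }
    let 𝒰 : D.toScheme.OpenCover :=
      { I₀ := I
        X := fun h => h.1.domain.toScheme
        f := fun h => X.homOfLE (hle h.1 h.2.1 h.2.2)
        mem₀ := by
          rw [Scheme.presieve₀_mem_precoverage_iff]
          refine ⟨fun x => ?_, inferInstance⟩
          obtain ⟨U, ⟨h, h1, h2, rfl⟩, hxU⟩ := TopologicalSpace.Opens.mem_sSup.mp x.2
          exact ⟨⟨h, h1, h2⟩, ⟨x.1, hxU⟩, Subtype.ext (by simp)⟩ }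
    have hcompat : ∀ a b : I, pullback.fst (𝒰.f a) (𝒰.f b) ≫ a.1.hom = pullback.snd (𝒰.f a) (𝒰.f b) ≫ b.1.hom := by
      intro a b
      haveI := a.2.1
      haveI := b.2.1
      refine (cancel_epi (isPullback_opens_inf_le (hle a.1 a.2.1 a.2.2) (hle b.1 b.2.1 b.2.2)).isoPullback.hom).mp ?_
      simp only [𝒰, IsPullback.isoPullback_hom_fst_assoc, IsPullback.isoPullback_hom_snd_assoc]
      have := (Scheme.PartialMap.equiv_iff_of_isSeparated (S := S) (f := a.1) (g := b.1)).mp
        (Scheme.PartialMap.toRationalMap_eq_iff.mp (a.2.2.trans b.2.2.symm))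
      simp only [Scheme.PartialMap.restrict_hom] at this
      exact this
    let g : X.PartialMap Y := ⟨D, hD, 𝒰.glueMorphisms (fun a => a.1.hom) hcompat⟩
    have hg : ∀ a : I, X.homOfLE (hle a.1 a.2.1 a.2.2) ≫ g.hom = a.1.hom := fun a =>
      𝒰.ι_glueMorphisms (fun a => a.1.hom) hcompat a
    have hover : g.IsOver S := by
      constructor
      refine 𝒰.hom_ext _ _ fun a => ?_
      haveI := a.2.1
      change X.homOfLE (hle a.1 a.2.1 a.2.2) ≫ g.hom ≫ (Y ↘ S) = X.homOfLE (hle a.1 a.2.1 a.2.2) ≫ (D.ι ≫ (X ↘ S))
      rw [← Category.assoc, hg a, Scheme.homOfLE_ι_assoc]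
      exact comp_over a.1.hom S
    refine ⟨g, hover, ?_, fun h h1 h2 => ⟨hle h h1 h2, ?_⟩⟩
    · rw [← hh₀f, Scheme.PartialMap.toRationalMap_eq_iff]
      refine ⟨h₀.domain, h₀.dense_domain, hle h₀ hh₀ hh₀f, le_rfl, ?_⟩
      simp only [Scheme.PartialMap.restrict_hom, Scheme.homOfLE_rfl, Category.id_comp]
      exact hg ⟨h₀, hh₀, hh₀f⟩
    · refine Scheme.PartialMap.ext _ _ rfl ?_
      have e : (X.isoOfEq (rfl : h.domain = h.domain)).hom = 𝟙 h.domain.toScheme := by
        rw [← cancel_mono h.domain.ι]
        simp
      exact (hg ⟨h, h1, h2⟩).symm.trans ((Category.id_comp _).symm.trans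
        (congrArg (· ≫ (X.homOfLE (hle h h1 h2) ≫ g.hom)) e.symm))

end Groth.Agent.S4344
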