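import Groth.Statements.S4346
import Mathlib

set_option autoImplicit false
universe u
open SchLoc

namespace Groth.Agent.S4346
open CategoryTheory CategoryTheory.Limits AlgebraicGeometry

open AlgebraicGeometry in
/-- On an integral separated scheme distinct points have distinct local rings inside the function field. -/
theorem result (X : Scheme.{u}) [IsIntegral X] [X.IsSeparated] :
    Function.Injective (fun x : X ↦ (algebraMap (X.presheaf.stalk x) X.functionField).range) := by
  open CategoryTheory CategoryTheory.Limits in
  intro x y h
  let ax := algebraMap (X.presheaf.stalk x) X.functionField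
  let ay := algebraMap (X.presheaf.stalk y) X.functionField
  have hix : Function.Injective ax := IsFractionRing.injective _ _
  have hiy : Function.Injective ay := IsFractionRing.injective _ _
  let e : X.presheaf.stalk y ≃+* X.presheaf.stalk x :=
    (RingEquiv.ofBijective ay.rangeRestrict ⟨fun a b hab => hiy (congrArg Subtype.val hab), ay.rangeRestrict_surjective⟩).trans
      ((RingEquiv.subringCongr h.symm).trans
        (RingEquiv.ofBijective ax.rangeRestrict ⟨fun a b hab => hix (congrArg Subtype.val hab), ax.rangeRestrict_surjective⟩).symm)
  have he : ∀ a, ax (e a) = ay a := by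
    intro a
    simp only [e, RingEquiv.trans_apply]
    exact congrArg Subtype.val ((RingEquiv.ofBijective ax.rangeRestrict ⟨fun a b hab => hix (congrArg Subtype.val hab), ax.rangeRestrict_surjective⟩).apply_symm_apply _)
  let φ : X.presheaf.stalk y ⟶ X.presheaf.stalk x := e.toCommRingCatIso.hom
  have hcomp : φ ≫ CommRingCat.ofHom ax = CommRingCat.ofHom ay := by ext a; exact he a
  let j : Spec X.functionField ⟶ Spec (X.presheaf.stalk x) := Spec.map (CommRingCat.ofHom ax)
  haveI : IsDominant j :=
    ⟨(PrimeSpectrum.denseRange_comap_iff_ker_le_nilRadical _).2 (by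
      show RingHom.ker ax ≤ _
      rw [(RingHom.injective_iff_ker_eq_bot _).1 hix]; exact bot_le)⟩
  have key : Spec.map φ ≫ X.fromSpecStalk y = X.fromSpecStalk x := by
    haveI := ‹X.IsSeparated›.isSeparated_terminal_from
    refine ext_of_isDominant_of_isSeparated (terminal.from X) (terminal.hom_ext _ _) j ?_
    simp only [j]
    erw [← Spec.map_comp_assoc]
    erw [hcomp]
    have h1 := Scheme.SpecMap_stalkSpecializes_fromSpecStalk ((genericPoint_spec X).specializes (y := x) trivial)
    have h2 := Scheme.SpecMap_stalkSpecializes_fromSpecStalk ((genericPoint_spec X).specializes (y := y) trivial)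
    exact h2.trans h1.symm
  have hpt := congrArg (fun g : Spec (X.presheaf.stalk x) ⟶ X => g (IsLocalRing.closedPoint (X.presheaf.stalk x))) key
  haveI : IsIso φ := inferInstanceAs (IsIso e.toCommRingCatIso.hom)
  change X.fromSpecStalk y ((Spec.map φ) (IsLocalRing.closedPoint (X.presheaf.stalk x))) = _ at hpt
  rw [Spec_closedPoint, Scheme.fromSpecStalk_closedPoint, Scheme.fromSpecStalk_closedPoint] at hpt
  exact hpt.symm

end Groth.Agent.S4346
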