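import Groth.Statements.S4348
import Groth.Agent.Lib.LQcqs
import Groth.Agent.Lib.H7QCoh
import Mathlib

set_option autoImplicit false
universe u
open QCohSup

namespace Groth.Agent.S4348

open AlgebraicGeometry in
open CategoryTheory in
open CategoryTheory.Limits in
/-- Let X be a scheme and U an open subscheme such that the inclusion j : U -> X is quasi-compact. For a
quasi-coherent O_X-module F and a quasi-coherent submodule G of F|U, the canonical extension of G to
X (the preimage of j_*(G) under F -> j_*(F|U), here the fibre product in the category of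
O_X-modules) is quasi-coherent. -/
theorem result
    {X : Scheme.{u}} (U : X.Opens) [QuasiCompact U.ι] (F : X.Modules) [Coh.IsQCoh F]
    (G : (U : Scheme.{u}).Modules) [Coh.IsQCoh G]
    (i : G ⟶ (Scheme.Modules.pullback U.ι).obj F) [Mono i] :
    Coh.IsQCoh (pullback ((Scheme.Modules.pushforward U.ι).map i)
      ((Scheme.Modules.pullbackPushforwardAdjunction U.ι).unit.app F)) := by
  have hF : Coh.IsQCoh F := ‹Coh.IsQCoh F›
  have hF' : Coh.IsQCoh ((Scheme.Modules.pullback U.ι).obj F) :=
    Groth.Agent.H7AffineD.qcoh_of_iso ((Scheme.Modules.restrictFunctorIsoPullback U.ι).app F)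
      (Groth.Agent.H7QCoh.isQCoh_restrict U.ι hF)
  have : QuasiSeparated U.ι := inferInstance
  have : G.IsQuasicoherent := ‹Coh.IsQCoh G›
  have : ((Scheme.Modules.pullback U.ι).obj F).IsQuasicoherent := hF'
  have hA := Groth.Agent.LQcoh.isQuasicoherent_push U.ι G
  have hC := Groth.Agent.LQcoh.isQuasicoherent_push U.ι ((Scheme.Modules.pullback U.ι).obj F)
  let A := (Scheme.Modules.pushforward U.ι).obj G
  let T := ShortComplex.mk (biprod.inl : A ⟶ A ⊞ F) biprod.snd (by simp)
  have hT : T.ShortExact := (ShortComplex.Splitting.ofHasBinaryBiproduct A F).shortExact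
  have : T.X₁.IsQuasicoherent := hA
  have : T.X₃.IsQuasicoherent := hF
  have hB : (A ⊞ F).IsQuasicoherent := Groth.Agent.LQcoh.isQuasicoherent_X₂ hT
  let f₁ := (Scheme.Modules.pushforward U.ι).map i
  let g₁ := (Scheme.Modules.pullbackPushforwardAdjunction U.ι).unit.app F
  have hK : Coh.IsQCoh (kernel (biprod.desc f₁ (-g₁))) :=
    @Groth.Agent.LQcoh.isQuasicoherent_kernel _ _ _ hB hC (biprod.desc f₁ (-g₁))
  let e : kernel (biprod.desc f₁ (-g₁)) ≅ pullback f₁ g₁ :=
    IsLimit.conePointUniqueUpToIso (kernelIsKernel (biprod.desc f₁ (-g₁)))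
      (Abelian.PullbackToBiproductIsKernel.isLimitPullbackToBiproduct f₁ g₁)
  exact Groth.Agent.H7AffineD.qcoh_of_iso e hK

end Groth.Agent.S4348
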