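import Groth.Statements.S4349
import Mathlib
import Groth.Agent.Lib.H4RatFun


set_option autoImplicit false
universe u
open RatFun

namespace Groth.Agent.S4349

open AlgebraicGeometry in
/-- Second assertion (in the form: sections over a dense open inject into the ring of rational
functions). Let X be a reduced scheme and V a dense open subset of X. The canonical map from the
sections of O_X over V to the ring R(X) of rational functions on X is injective. (The published
statement also assumes X locally integral or locally Noetherian; that hypothesis serves the
quasi-coherence of the sheaf of rational functions and is not needed here.) -/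
theorem result (X : Scheme.{u}) [IsReduced X]
    (V : X.Opens) (hV : Dense (V : Set X)) :
    Function.Injective (RatFun.toRing X V hV) := by
  refine (injective_iff_map_eq_zero _).2 fun s hs => ?_
  obtain ⟨W, h, hW, he⟩ := (Groth.Agent.H4RatFun.toRing_eq_zero_iff X hV s).1 hs
  rw [← basicOpen_eq_bot_iff]
  ext x
  simp only [TopologicalSpace.Opens.coe_bot, Set.mem_empty_iff_false, iff_false]
  intro hx
  obtain ⟨y, hy, hyW⟩ := hW.inter_open_nonempty _ (X.basicOpen s).2 ⟨x, hx⟩
  have : y ∈ X.basicOpen (X.presheaf.map (CategoryTheory.homOfLE h).op s) := by
    rw [Scheme.basicOpen_res]; exact ⟨hyW, hy⟩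
  rw [he, Scheme.basicOpen_zero] at this
  exact this

end Groth.Agent.S4349
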