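import Groth.Statements.S4369
import Mathlib

set_option autoImplicit false
universe u
open AffSch

namespace Groth.Agent.S4369

/-- Let φ : A' -> A be a ring homomorphism such that every f in A can be written f = h φ(f') with h
invertible in A (this holds in particular when φ is surjective). Then the associated continuous map
Spec A -> Spec A' is a homeomorphism onto its image. -/
theorem result
    {A' A : Type u} [CommRing A'] [CommRing A] (φ : A' →+* A)
    (h : ∀ f : A, ∃ (u : Aˣ) (f' : A'), f = (u : A) * φ f') :
    Topology.IsEmbedding (PrimeSpectrum.comap φ) := by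
  have key : ∀ (f : A), ∃ f' : A', ∀ p : PrimeSpectrum A,
      f ∈ p.asIdeal ↔ f' ∈ (PrimeSpectrum.comap φ p).asIdeal := by
    intro f
    obtain ⟨u, f', rfl⟩ := h f
    refine ⟨f', fun p => ?_⟩
    exact ⟨fun h => (p.2.mem_or_mem h).resolve_left
      (fun hu => p.2.ne_top (Ideal.eq_top_of_isUnit_mem _ hu u.isUnit)),
      fun h => p.asIdeal.mul_mem_left _ h⟩
  refine ⟨⟨?_⟩, ?_⟩
  · apply le_antisymm
    · exact continuous_iff_le_induced.mp (PrimeSpectrum.continuous_comap φ)
    · conv_rhs => rw [PrimeSpectrum.isTopologicalBasis_basic_opens.eq_generateFrom]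
      apply le_generateFrom
      rintro _ ⟨f, rfl⟩
      obtain ⟨f', hf'⟩ := key f
      refine ⟨_, (PrimeSpectrum.basicOpen f').2, ?_⟩
      ext p
      simp only [Set.mem_preimage, SetLike.mem_coe, PrimeSpectrum.mem_basicOpen]
      exact (not_congr (hf' p)).symm
  · intro p q hpq
    ext f
    obtain ⟨f', hf'⟩ := key f
    rw [hf' p, hf' q, hpq]

end Groth.Agent.S4369
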