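import Groth.Statements.S4380
import Groth.Agent.Lib.LAmpleRel

set_option autoImplicit false
universe u
open CategoryTheory CategoryTheory.Limits AlgebraicGeometry
open EGA2

namespace Groth.Agent.S4380

/-- Let f : X → Y be a quasi-compact morphism, L an O_X-module and (U_i) a cover of Y by open subsets.
Then L is ample relative to f if and only if, for every i, the restriction of L to f⁻¹(U_i) is ample
relative to the restriction f⁻¹(U_i) → U_i of f. -/
theorem result {X Y : Scheme.{u}} (f : X ⟶ Y) [QuasiCompact f] (L : X.Modules)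
    {ι : Type u} (U : ι → Y.Opens) (hU : ⨆ i, U i = ⊤) :
    RelAmple.IsRelAmple f L ↔ ∀ i, RelAmple.IsRelAmple (f ∣_ (U i)) (L.restrict (f ⁻¹ᵁ (U i)).ι) := by
  constructor
  · intro h i
    refine ⟨MorphismProperty.of_isPullback (P := @QuasiCompact) (isPullback_morphismRestrict f (U i)).flip inferInstance, fun V => ?_⟩
    have hW : IsAffineOpen ((U i).ι ''ᵁ V.1) := V.2.image_of_isOpenImmersion _
    haveI : CompactSpace ((f ∣_ U i) ⁻¹ᵁ V.1 : (f ⁻¹ᵁ U i).toScheme.Opens) := by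
      haveI : QuasiCompact (f ∣_ U i) := MorphismProperty.of_isPullback (P := @QuasiCompact) (isPullback_morphismRestrict f (U i)).flip inferInstance
      exact LAmple.compact_preimage _ V.2
    refine LAmple.isAmple_of_iso ((Scheme.Modules.restrictFunctorComp _ (f ⁻¹ᵁ U i).ι).app L) ?_
    refine LAmple.isAmple_factor _ (f ⁻¹ᵁ ((U i).ι ''ᵁ V.1)).ι ?_ (h.2 ⟨_, hW⟩)
    rw [Scheme.Opens.opensRange_ι, Scheme.Hom.opensRange_comp, Scheme.Opens.opensRange_ι, image_morphismRestrict_preimage]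
  · intro h
    refine ⟨inferInstance, fun V => LAmple.isAmple_preimage f V.2 fun y hy => ?_⟩
    obtain ⟨i, hi⟩ := TopologicalSpace.Opens.mem_iSup.1 (hU.ge (show y ∈ (⊤ : Y.Opens) from trivial))
    obtain ⟨W, hW, hyW, -⟩ := exists_isAffineOpen_mem_and_subset (X := (U i).toScheme) (U := ⊤) (x := (⟨y, hi⟩ : U i)) trivial
    refine ⟨(U i).ι ''ᵁ W, ⟨⟨y, hi⟩, hyW, rfl⟩, ?_⟩
    haveI := LAmple.compact_preimage f (hW.image_of_isOpenImmersion (U i).ι)
    refine LAmple.isAmple_factor _ (((f ∣_ U i) ⁻¹ᵁ W).ι ≫ (f ⁻¹ᵁ U i).ι) ?_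
      (LAmple.isAmple_of_iso ((Scheme.Modules.restrictFunctorComp _ (f ⁻¹ᵁ U i).ι).symm.app L) ((h i).2 ⟨W, hW⟩))
    rw [Scheme.Opens.opensRange_ι, Scheme.Hom.opensRange_comp, Scheme.Opens.opensRange_ι, image_morphismRestrict_preimage]

end Groth.Agent.S4380
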