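import Groth.Statements.S4389
import Groth.Agent.Lib.LGrGen
import Mathlib

set_option autoImplicit false
universe u
open EGA2

namespace Groth.Agent.S4389

/-- Let S be a ring graded in nonnegative degrees, S_0 its degree-zero subring, S_+ its irrelevant
ideal, and E a set of homogeneous elements of positive degree. Then E generates S_+ as an ideal of S
if and only if E generates S as an S_0-algebra. -/
theorem result {R A : Type u} [CommRing R] [CommRing A] [Algebra R A] (𝒜 : ℕ → Submodule R A) [GradedAlgebra 𝒜]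
    (E : Set A) (hE : ∀ e ∈ E, ∃ d : ℕ, 0 < d ∧ e ∈ 𝒜 d) :
    (HomogeneousIdeal.irrelevant 𝒜).toIdeal = Ideal.span E ↔ Algebra.adjoin (𝒜 0) E = ⊤ := by
  exact ⟨fun h => Groth.Agent.LGrGen.adjoin_of_irrelevant_le 𝒜 hE h.le,
    fun h => le_antisymm (Groth.Agent.LGrGen.irrelevant_le_of_adjoin 𝒜 hE h) (Groth.Agent.LGrGen.span_le 𝒜 hE)⟩

end Groth.Agent.S4389
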