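import Groth.Statements.S4393
import Mathlib

set_option autoImplicit false
universe u
open EGA2

namespace Groth.Agent.S4393

open DirectSum in
theorem split {R A : Type u} [CommRing R] [CommRing A] [Algebra R A] (𝒜 : ℕ → Submodule R A) [GradedAlgebra 𝒜]
    [Algebra.FiniteType (𝒜 0) A] :
    ∃ L N : ℕ, 0 < L ∧ 0 < N ∧ ∀ D : ℕ, N * L ≤ D → 𝒜 D ≤ 𝒜 L * 𝒜 (D - L) := by
  classical
  obtain ⟨s, h₁, h₂⟩ := GradedAlgebra.exists_finset_adjoin_eq_top_and_homogeneous_ne_zero 𝒜
  choose! d hd hed using h₂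
  let L := ∏ e ∈ s, d e
  have hL : 0 < L := Finset.prod_pos fun e he => Nat.pos_of_ne_zero (hd e he)
  refine ⟨L, s.card + 1, hL, Nat.succ_pos _, fun D hD a ha => ?_⟩
  have hspan : a ∈ Submodule.span (𝒜 0) (Submonoid.closure (s : Set A) : Set A) := by
    rw [← Algebra.adjoin_eq_span, h₁]
    trivial
  suffices ∀ x ∈ Submodule.span (𝒜 0) (Submonoid.closure (s : Set A) : Set A),
      (decompose 𝒜 x D : A) ∈ 𝒜 L * 𝒜 (D - L) by
    simpa [decompose_of_mem_same 𝒜 ha] using this a hspan
  intro x hx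
  induction hx using Submodule.span_induction with
  | zero => simp
  | add x y _ _ hx hy =>
    rw [decompose_add, DirectSum.add_apply, Submodule.coe_add]
    exact add_mem hx hy
  | smul c x _ hx =>
    rw [Algebra.smul_def, show algebraMap (𝒜 0) A c = (c : A) from rfl,
      DirectSum.coe_decompose_mul_of_left_mem_of_le 𝒜 c.2 (Nat.zero_le D), Nat.sub_zero]
    obtain ⟨y, hy, e⟩ : ∃ y, y ∈ 𝒜 L * 𝒜 (D - L) ∧ y = (decompose 𝒜 x D : A) := ⟨_, hx, rfl⟩
    rw [← e]; clear e
    induction hy using Submodule.mul_induction_on' with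
    | mem_mul_mem u hu v hv =>
      rw [mul_left_comm]
      refine Submodule.mul_mem_mul hu ?_
      simpa using SetLike.mul_mem_graded c.2 hv
    | add u _ v _ hu hv =>
      rw [mul_add]
      exact add_mem hu hv
  | mem x hx =>
    obtain ⟨n, hsupp, rfl⟩ : ∃ n : A → ℕ, (∀ e, e ∉ s → n e = 0) ∧ ∏ e ∈ s, e ^ n e = x := by
      induction hx using Submonoid.closure_induction with
      | mem e he =>
        refine ⟨Pi.single e 1, fun e' h => Pi.single_eq_of_ne (fun (h' : e' = e) => h (h' ▸ he)) _, ?_⟩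
        rw [Finset.prod_eq_single e (fun b _ hb => by simp [Pi.single_eq_of_ne hb]) (fun h => absurd he h)]
        simp
      | one => exact ⟨0, by simp, by simp⟩
      | mul u v _ _ hu hv =>
        obtain ⟨n, hn, rfl⟩ := hu
        obtain ⟨m, hm, rfl⟩ := hv
        exact ⟨n + m, fun e he => by simp [hn e he, hm e he], by simp [pow_add, Finset.prod_mul_distrib]⟩
    have hmem : ∏ e ∈ s, e ^ n e ∈ 𝒜 (∑ e ∈ s, n e • d e) :=
      SetLike.prod_pow_mem_graded 𝒜 (i := d) id n (fun e he => hed e he)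
    by_cases hDn : ∑ e ∈ s, n e • d e = D
    swap
    · rw [decompose_of_mem_ne 𝒜 hmem hDn]
      exact zero_mem _
    rw [← hDn, decompose_of_mem_same 𝒜 hmem, hDn]
    obtain ⟨e, he, hbig⟩ : ∃ e ∈ s, L ≤ n e * d e := by
      by_contra hc
      push_neg at hc
      have h3 : ∑ e ∈ s, n e • d e ≤ ∑ _e ∈ s, L :=
        Finset.sum_le_sum fun e he => by rw [smul_eq_mul]; exact (hc e he).le
      rw [Finset.sum_const, smul_eq_mul, hDn] at h3
      nlinarith
    obtain ⟨q, hq⟩ : d e ∣ L := Finset.dvd_prod_of_mem _ he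
    have hqn : q ≤ n e := by
      have := Nat.pos_of_ne_zero (hd e he)
      nlinarith
    have hsplit : ∏ x ∈ s, x ^ n x = e ^ q * (e ^ (n e - q) * ∏ x ∈ s.erase e, x ^ n x) := by
      rw [← mul_assoc, ← pow_add, Nat.add_sub_cancel' hqn]
      exact (Finset.mul_prod_erase s (fun x => x ^ n x) he).symm
    rw [hsplit]
    refine Submodule.mul_mem_mul ?_ ?_
    · have := SetLike.pow_mem_graded (A := 𝒜) q (hed e he)
      rwa [smul_eq_mul, mul_comm, ← hq] at this
    · have h4 := SetLike.mul_mem_graded (A := 𝒜) (SetLike.pow_mem_graded (n e - q) (hed e he))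
        (SetLike.prod_pow_mem_graded 𝒜 (F := s.erase e) (i := d) id n (fun x hx => hed x (Finset.mem_of_mem_erase hx)))
      simp only [id_eq] at h4
      convert h4 using 2
      rw [← Finset.add_sum_erase s _ he, smul_eq_mul] at hDn
      rw [← hDn, smul_eq_mul, hq, mul_comm (d e) q, Nat.sub_mul]
      have : q * d e ≤ n e * d e := Nat.mul_le_mul_right _ hqn
      omega


/-- Let S be a ring graded in nonnegative degrees which is an S_0-algebra of finite type. Then there is
an integer h > 0 such that S_{mh} = (S_h)^m (the S_0-submodule spanned by m-fold products of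
elements of S_h) for every m > 0. -/
theorem result {R A : Type u} [CommRing R] [CommRing A] [Algebra R A] (𝒜 : ℕ → Submodule R A) [GradedAlgebra 𝒜] [Algebra.FiniteType (𝒜 0) A] :
    ∃ h : ℕ, 0 < h ∧ ∀ m : ℕ, 0 < m → 𝒜 (m * h) = (𝒜 h : Submodule R A) ^ m := by
  obtain ⟨L, N, hL, hN, hs⟩ := split 𝒜
  refine ⟨N * L, Nat.mul_pos hN hL, ?_⟩
  have hmul : ∀ a b : ℕ, 𝒜 a * 𝒜 b ≤ 𝒜 (a + b) := fun a b =>
    Submodule.mul_le.2 fun x hx y hy => SetLike.mul_mem_graded hx hy
  have key : ∀ j D : ℕ, N * L ≤ D → 𝒜 (D + j * L) ≤ 𝒜 (j * L) * 𝒜 D := by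
    intro j
    induction j with
    | zero =>
      intro D _ x hx
      rw [zero_mul, add_zero] at hx
      simpa using Submodule.mul_mem_mul (M := 𝒜 (0 * L)) (N := 𝒜 D) (m := 1) (by simpa using SetLike.one_mem_graded 𝒜) hx
    | succ j ih =>
      intro D hD
      refine (hs _ (hD.trans (Nat.le_add_right _ _))).trans ?_
      rw [show D + (j + 1) * L - L = D + j * L by rw [add_mul, one_mul]; omega]
      refine (mul_le_mul' le_rfl (ih D hD)).trans ?_
      rw [← mul_assoc]
      refine mul_le_mul' ((hmul _ _).trans ?_) le_rfl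
      rw [add_mul, one_mul, add_comm]
  intro m hm
  induction m with
  | zero => omega
  | succ m ih =>
    rcases Nat.eq_zero_or_pos m with rfl | hm'
    · simp
    rw [pow_succ, ← ih hm']
    refine le_antisymm ?_ ((hmul _ _).trans (le_of_eq (congrArg 𝒜 (by ring))))
    refine le_trans (le_of_eq (congrArg 𝒜 (show (m + 1) * (N * L) = N * L + (m * N) * L by ring))) ?_
    refine (key (m * N) (N * L) le_rfl).trans ?_
    rw [mul_assoc]

end Groth.Agent.S4393
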