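import Groth.Statements.S4395
import Mathlib

set_option autoImplicit false
universe u
open EGA2

namespace Groth.Agent.S4395

open DirectSum in
theorem exists_high {R A : Type u} [CommRing R] [CommRing A] [Algebra R A] (𝒜 : ℕ → Submodule R A) [GradedAlgebra 𝒜]
    (n₀ : ℕ) {𝔭 : HomogeneousIdeal 𝒜} (hp : 𝔭.toIdeal.IsPrime) (hne : ¬ HomogeneousIdeal.irrelevant 𝒜 ≤ 𝔭) :
    ∃ k, n₀ ≤ k ∧ ∃ h ∈ 𝒜 k, h ∉ 𝔭.toIdeal := by
  classical
  obtain ⟨g, hg, hgp⟩ := Set.not_subset.1 hne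
  obtain ⟨i, hi⟩ : ∃ i, (decompose 𝒜 g i : A) ∉ 𝔭.toIdeal := by
    by_contra hc
    push_neg at hc
    exact hgp ((𝔭.isHomogeneous.mem_iff).2 hc)
  have hi0 : 0 < i := by
    rcases i.eq_zero_or_pos with rfl | h
    · refine absurd ?_ hi
      rw [show (decompose 𝒜 g 0 : A) = 0 from (HomogeneousIdeal.mem_irrelevant_iff 𝒜 g).1 hg]
      exact zero_mem _
    · exact h
  exact ⟨(n₀ + 1) • i, by rw [smul_eq_mul]; nlinarith, _, SetLike.pow_mem_graded _ (Subtype.mem _),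
    fun h => hi (hp.mem_of_pow_mem _ h)⟩


/-- Let S be a ring graded in nonnegative degrees, n₀ > 0 an integer and, for every n ≥ n₀, p_n an
additive subgroup of S_n. Then there is a graded prime ideal p of S not containing S_+ with p ∩ S_n
= p_n for all n ≥ n₀ if and only if: (1) S_m p_n ⊆ p_{m+n} for all m ≥ 0 and n ≥ n₀; (2) for m ≥ n₀,
n ≥ n₀, f ∈ S_m, g ∈ S_n, fg ∈ p_{m+n} implies f ∈ p_m or g ∈ p_n; (3) p_n ≠ S_n for at least one n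
≥ n₀. Moreover such a graded prime ideal is unique. -/
theorem result {R A : Type u} [CommRing R] [CommRing A] [Algebra R A] (𝒜 : ℕ → Submodule R A) [GradedAlgebra 𝒜]
    (n₀ : ℕ) (hn₀ : 0 < n₀) (p : ℕ → AddSubgroup A) (hp : ∀ n : ℕ, n₀ ≤ n → (p n : Set A) ⊆ 𝒜 n) :
    ((∃ 𝔭 : HomogeneousIdeal 𝒜, 𝔭.toIdeal.IsPrime ∧ ¬ HomogeneousIdeal.irrelevant 𝒜 ≤ 𝔭 ∧
        ∀ n : ℕ, n₀ ≤ n → (𝔭.toIdeal : Set A) ∩ 𝒜 n = p n) ↔
      ((∀ m n : ℕ, n₀ ≤ n → ∀ a ∈ 𝒜 m, ∀ b ∈ p n, a * b ∈ p (m + n)) ∧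
        (∀ m n : ℕ, n₀ ≤ m → n₀ ≤ n → ∀ f ∈ 𝒜 m, ∀ g ∈ 𝒜 n, f * g ∈ p (m + n) → f ∈ p m ∨ g ∈ p n) ∧
        ∃ n : ℕ, n₀ ≤ n ∧ (p n : Set A) ≠ 𝒜 n)) ∧
    ∀ 𝔭 𝔮 : HomogeneousIdeal 𝒜, 𝔭.toIdeal.IsPrime → 𝔮.toIdeal.IsPrime →
      ¬ HomogeneousIdeal.irrelevant 𝒜 ≤ 𝔭 → ¬ HomogeneousIdeal.irrelevant 𝒜 ≤ 𝔮 →
      (∀ n : ℕ, n₀ ≤ n → (𝔭.toIdeal : Set A) ∩ 𝒜 n = p n) → (∀ n : ℕ, n₀ ≤ n → (𝔮.toIdeal : Set A) ∩ 𝒜 n = p n) →
      𝔭 = 𝔮 := by
  classical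
  refine ⟨⟨?_, ?_⟩, ?_⟩
  · rintro ⟨𝔭, hprime, hne, h⟩
    have hmem : ∀ {n : ℕ}, n₀ ≤ n → ∀ {x : A}, x ∈ p n ↔ x ∈ 𝔭.toIdeal ∧ x ∈ 𝒜 n := fun {n} hn {x} => by
      rw [← SetLike.mem_coe, ← h _ hn]
      rfl
    refine ⟨fun m n hn a ha b hb => ?_, fun m n hm hn f hf g hg hfg => ?_, ?_⟩
    · rw [hmem (hn.trans (Nat.le_add_left n m))]
      exact ⟨Ideal.mul_mem_left _ _ ((hmem hn).1 hb).1, SetLike.mul_mem_graded ha (hp n hn hb)⟩
    · exact (hprime.mem_or_mem ((hmem (hm.trans (Nat.le_add_right m n))).1 hfg).1).imp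
        (fun h => (hmem hm).2 ⟨h, hf⟩) (fun h => (hmem hn).2 ⟨h, hg⟩)
    · obtain ⟨k, hk, x, hx, hxp⟩ := exists_high 𝒜 n₀ hprime hne
      exact ⟨k, hk, fun e => hxp ((hmem hk).1 (e.ge hx)).1⟩
  · rintro ⟨h1, h2, k, hk, hkne⟩
    obtain ⟨h, hh, hhp⟩ : ∃ h ∈ 𝒜 k, h ∉ p k := by
      by_contra hc
      push_neg at hc
      exact hkne (Set.Subset.antisymm (hp k hk) hc)
    let I : Ideal A :=
      { carrier := {x | ∀ i, (DirectSum.decompose 𝒜 x i : A) * h ∈ p (i + k)}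
        add_mem' := fun {x y} hx hy i => by
          rw [DirectSum.decompose_add, DirectSum.add_apply, Submodule.coe_add, add_mul]
          exact add_mem (hx i) (hy i)
        zero_mem' := fun i => by simp [zero_mem]
        smul_mem' := fun c x hx i => by
          rw [smul_eq_mul, ← DirectSum.sum_support_decompose 𝒜 c, Finset.sum_mul, DirectSum.decompose_sum,
            DFinsupp.finsetSum_apply, AddSubmonoidClass.coe_finsetSum, Finset.sum_mul]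
          refine sum_mem fun j _ => ?_
          rw [DirectSum.coe_decompose_mul_of_left_mem 𝒜 i (Subtype.mem _)]
          split_ifs with hji
          · have := h1 j (i - j + k) (hk.trans (Nat.le_add_left _ _)) _ (Subtype.mem (DirectSum.decompose 𝒜 c j)) _ (hx (i - j))
            rw [← mul_assoc, show j + (i - j + k) = i + k by omega] at this
            exact this
          · rw [zero_mul]
            exact zero_mem _ }
    have hhom : ∀ {m : ℕ} {x : A}, x ∈ 𝒜 m → (x ∈ I ↔ x * h ∈ p (m + k)) := by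
      intro m x hx
      refine ⟨fun hI => ?_, fun hI i => ?_⟩
      · have := hI m
        rwa [DirectSum.decompose_of_mem_same 𝒜 hx] at this
      · by_cases him : m = i
        · subst him
          rwa [DirectSum.decompose_of_mem_same 𝒜 hx]
        · rw [DirectSum.decompose_of_mem_ne 𝒜 hx him, zero_mul]
          exact zero_mem _
    have hI : I.IsHomogeneous 𝒜 := fun i x hx => by
      rw [hhom (Subtype.mem _)]
      exact hx i
    have hhI : h ∉ I := fun hc => (h2 k k hk hk h hh h hh ((hhom hh).1 hc)).elim hhp hhp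
    refine ⟨⟨I, hI⟩, hI.isPrime_of_homogeneous_mem_or_mem (fun e => hhI (by rw [e]; trivial)) ?_, fun hle => ?_, fun n hn => ?_⟩
    · rintro x y ⟨a, ha⟩ ⟨b, hb⟩ hxy
      rw [hhom (SetLike.mul_mem_graded ha hb)] at hxy
      have h3 := h1 k (a + b + k) (hk.trans (Nat.le_add_left _ _)) h hh _ hxy
      rw [show h * (x * y * h) = (x * h) * (y * h) by ring, show k + (a + b + k) = (a + k) + (b + k) by omega] at h3
      exact (h2 _ _ (hk.trans (Nat.le_add_left _ _)) (hk.trans (Nat.le_add_left _ _)) _ (SetLike.mul_mem_graded ha hh) _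
        (SetLike.mul_mem_graded hb hh) h3).imp (hhom ha).2 (hhom hb).2
    · rcases k.eq_zero_or_pos with rfl | hk0
      · omega
      exact hhI (hle (HomogeneousIdeal.mem_irrelevant_of_mem _ hk0 hh))
    · ext x
      refine ⟨fun ⟨hxI, hx⟩ => ?_, fun hx => ⟨?_, hp n hn hx⟩⟩
      · exact (h2 n k hn hk x hx h hh ((hhom hx).1 hxI)).resolve_right hhp
      · show x ∈ I
        rw [hhom (hp n hn hx), mul_comm, add_comm]
        exact h1 k n hn h hh x hx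
  · intro 𝔭 𝔮 hP hQ hPne hQne hPe hQe
    have key : ∀ 𝔯 𝔰 : HomogeneousIdeal 𝒜, 𝔯.toIdeal.IsPrime → 𝔰.toIdeal.IsPrime → ¬ HomogeneousIdeal.irrelevant 𝒜 ≤ 𝔰 →
        (∀ n : ℕ, n₀ ≤ n → (𝔯.toIdeal : Set A) ∩ 𝒜 n = p n) → (∀ n : ℕ, n₀ ≤ n → (𝔰.toIdeal : Set A) ∩ 𝒜 n = p n) →
        𝔯 ≤ 𝔰 := by
      intro 𝔯 𝔰 hr hs hsne hre hse x hx
      obtain ⟨k, hk, h, hh, hhs⟩ := exists_high 𝒜 n₀ hs hsne
      refine (𝔰.isHomogeneous.mem_iff).2 fun i => ?_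
      have h4 : (DirectSum.decompose 𝒜 x i : A) * h ∈ (𝔯.toIdeal : Set A) ∩ 𝒜 (i + k) :=
        ⟨Ideal.mul_mem_right _ _ (𝔯.isHomogeneous i hx), SetLike.mul_mem_graded (Subtype.mem _) hh⟩
      rw [hre _ (hk.trans (Nat.le_add_left _ _)), ← hse _ (hk.trans (Nat.le_add_left _ _))] at h4
      exact (hs.mem_or_mem h4.1).resolve_right hhs
    exact le_antisymm (key 𝔭 𝔮 hP hQ hQne hPe hQe) (key 𝔮 𝔭 hQ hP hPne hQe hPe)

end Groth.Agent.S4395
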