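import Groth.Statements.S4396
import Mathlib

set_option autoImplicit false
universe u
open AlgebraicGeometry
open EGA2

namespace Groth.Agent.S4396

/-- Let S be a ring graded in nonnegative degrees, d > 0, and S^{(d)} the graded ring whose degree-n
part is S_{nd} (given here as any graded ring S' with an injective algebra homomorphism φ : S' → S
carrying S'_n onto S_{nd} for every n); let f' ∈ S'_1, with image f = φ(f') ∈ S_d. Then there is a
ring isomorphism between the degree-zero homogeneous localization S_(f) and the quotient S'/(f' -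
1)S', whose inverse sends the class of an element x of S'_n to the fraction φ(x)/f^n. (The module
part of the published statement is not stated here.) -/
theorem result {R A : Type u} [CommRing R] [CommRing A] [Algebra R A] (𝒜 : ℕ → Submodule R A) [GradedAlgebra 𝒜]
    {B : Type u} [CommRing B] [Algebra R B] (ℬ : ℕ → Submodule R B) [GradedAlgebra ℬ]
    (d : ℕ) (hd : 0 < d) (φ : B →ₐ[R] A) (hφ : Function.Injective φ)
    (hdeg : ∀ n : ℕ, Submodule.map φ.toLinearMap (ℬ n) = 𝒜 (n * d)) (f' : B) (hf' : f' ∈ ℬ 1) :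
    ∃ e : HomogeneousLocalization.Away 𝒜 (φ f') ≃+* B ⧸ Ideal.span {f' - 1},
      ∀ (n : ℕ) (x : B), x ∈ ℬ n →
        (e.symm (Ideal.Quotient.mk (Ideal.span {f' - 1}) x)).val =
          Localization.mk (φ x) ⟨φ f' ^ n, pow_mem (Submonoid.mem_powers (φ f')) n⟩ := by
  classical
  have hfd : φ f' ∈ 𝒜 d := by
    have : φ f' ∈ Submodule.map φ.toLinearMap (ℬ 1) := ⟨f', hf', rfl⟩
    rwa [hdeg 1, one_mul] at this
  have hmem : ∀ {n : ℕ} {x : B}, x ∈ ℬ n → φ x ∈ 𝒜 (n • d) := fun {n x} hx => by
    have : φ x ∈ Submodule.map φ.toLinearMap (ℬ n) := ⟨x, hx, rfl⟩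
    rwa [hdeg n, ← smul_eq_mul] at this
  let M := Localization.Away (φ f')
  let g : ∀ n, ℬ n →+ M := fun n =>
    { toFun := fun x => Localization.mk (φ x) ⟨φ f' ^ n, pow_mem (Submonoid.mem_powers (φ f')) n⟩
      map_zero' := by rw [ZeroMemClass.coe_zero, map_zero, Localization.mk_zero]
      map_add' := fun x y => by rw [AddMemClass.coe_add, map_add, Localization.add_mk_self] }
  let G : (DirectSum ℕ fun n => ℬ n) →+* M := DirectSum.toSemiring g
    (by show Localization.mk (φ 1) _ = 1; rw [map_one, ← Localization.mk_one]; congr; simp)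
    (fun {i j} x y => by
      show Localization.mk (φ ((x : B) * y)) _ = Localization.mk (φ x) _ * Localization.mk (φ y) _
      rw [Localization.mk_mul, map_mul]
      congr 1
      exact Subtype.ext (pow_add _ _ _))
  let Φ : B →+* M := G.comp (DirectSum.decomposeRingEquiv ℬ).toRingHom
  have hΦ : ∀ {n : ℕ} {x : B}, x ∈ ℬ n → Φ x =
      Localization.mk (φ x) ⟨φ f' ^ n, pow_mem (Submonoid.mem_powers (φ f')) n⟩ := fun {n x} hx => by
    show G (DirectSum.decompose ℬ x) = _
    rw [DirectSum.decompose_of_mem ℬ hx, DirectSum.toSemiring_of]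
    rfl
  let ι : HomogeneousLocalization.Away 𝒜 (φ f') →+* M := algebraMap _ _
  have hι : ∀ z, ι z = z.val := fun z => rfl
  have hrange : ∀ b, ∃ z, ι z = Φ b := by
    intro b
    rw [← DirectSum.sum_support_decompose ℬ b, map_sum]
    have : ∀ n, ∃ z, ι z = Φ (DirectSum.decompose ℬ b n : B) := fun n =>
      ⟨HomogeneousLocalization.Away.mk 𝒜 hfd n _ (hmem (Subtype.mem _)), by
        rw [hΦ (Subtype.mem _), hι, HomogeneousLocalization.Away.val_mk]⟩
    choose z hz using this
    exact ⟨∑ n ∈ (DirectSum.decompose ℬ b).support, z n, by rw [map_sum]; exact Finset.sum_congr rfl fun n _ => hz n⟩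
  choose ψ hψ using hrange
  have hιinj : Function.Injective ι := HomogeneousLocalization.val_injective _
  let Ψ : B →+* HomogeneousLocalization.Away 𝒜 (φ f') :=
    { toFun := ψ
      map_one' := hιinj (by rw [hψ, map_one, map_one])
      map_mul' := fun a b => hιinj (by simp only [map_mul, hψ])
      map_zero' := hιinj (by rw [hψ, map_zero, map_zero])
      map_add' := fun a b => hιinj (by simp only [map_add, hψ]) }
  have hΨf : Ψ f' = 1 := hιinj (by
    show ι (ψ f') = ι 1
    rw [hψ, hΦ hf', map_one, ← Localization.mk_self (⟨φ f' ^ 1, pow_mem (Submonoid.mem_powers (φ f')) 1⟩ : Submonoid.powers (φ f'))]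
    simp only [pow_one])
  have hle : Ideal.span {f' - 1} ≤ RingHom.ker Ψ := Ideal.span_le.2 (by
    rintro _ rfl
    show Ψ (f' - 1) = 0
    rw [map_sub, hΨf, map_one, sub_self])
  let Θ := Ideal.Quotient.lift (Ideal.span {f' - 1}) Ψ fun a ha => hle ha
  have hker : ∀ b, Ψ b = 0 → b ∈ Ideal.span {f' - 1} := by
    intro b hb
    let I := Ideal.span {f' - 1}
    have hf1 : Ideal.Quotient.mk I f' = 1 :=
      Ideal.Quotient.eq.2 (Ideal.subset_span rfl)
    let N := (DirectSum.decompose ℬ b).support.sup id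
    let c := ∑ n ∈ (DirectSum.decompose ℬ b).support, (DirectSum.decompose ℬ b n : B) * f' ^ (N - n)
    have hc : c ∈ ℬ N := sum_mem fun n hn => by
      have h := SetLike.mul_mem_graded (Subtype.mem (DirectSum.decompose ℬ b n)) (SetLike.pow_mem_graded (N - n) hf')
      have hN : n ≤ N := Finset.le_sup (f := id) hn
      rwa [smul_eq_mul, mul_one, Nat.add_sub_cancel' hN] at h
    have hbc : Ideal.Quotient.mk I b = Ideal.Quotient.mk I c := by
      conv_lhs => rw [← DirectSum.sum_support_decompose ℬ b]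
      simp only [c, map_sum, map_mul, map_pow, hf1, one_pow, mul_one]
    rw [← Ideal.Quotient.eq_zero_iff_mem, hbc]
    have h0 : Φ c = 0 := by
      have h2 : Ψ c = 0 := by
        have h3 : Θ (Ideal.Quotient.mk I c) = Θ (Ideal.Quotient.mk I b) := by rw [hbc]
        rw [Ideal.Quotient.lift_mk, Ideal.Quotient.lift_mk, hb] at h3
        exact h3
      rw [← hψ c, show ψ c = 0 from h2, map_zero]
    rw [hΦ hc, Localization.mk_eq_mk', IsLocalization.mk'_eq_zero_iff] at h0
    obtain ⟨⟨_, k, rfl⟩, hk⟩ := h0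
    have h4 : f' ^ k * c = 0 := hφ (by rw [map_mul, map_pow, map_zero]; exact hk)
    calc Ideal.Quotient.mk I c = Ideal.Quotient.mk I (f' ^ k * c) := by rw [map_mul, map_pow, hf1, one_pow, one_mul]
      _ = 0 := by rw [h4, map_zero]
  have hbij : Function.Bijective Θ := by
    refine ⟨(injective_iff_map_eq_zero _).2 fun q hq => ?_, fun z => ?_⟩
    · obtain ⟨b, rfl⟩ := Ideal.Quotient.mk_surjective q
      exact Ideal.Quotient.eq_zero_iff_mem.2 (hker b hq)
    · obtain ⟨n, a, ha, rfl⟩ := HomogeneousLocalization.Away.mk_surjective 𝒜 hfd z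
      rw [smul_eq_mul, ← hdeg n] at ha
      obtain ⟨x, hx, rfl⟩ := ha
      refine ⟨Ideal.Quotient.mk _ x, hιinj ?_⟩
      rw [Ideal.Quotient.lift_mk, show Ψ x = ψ x from rfl, hψ, hΦ hx, hι, HomogeneousLocalization.Away.val_mk]
      rfl
  refine ⟨(RingEquiv.ofBijective Θ hbij).symm, fun n x hx => ?_⟩
  rw [RingEquiv.symm_symm, RingEquiv.ofBijective_apply, Ideal.Quotient.lift_mk, ← hι, show Ψ x = ψ x from rfl, hψ, hΦ hx]

end Groth.Agent.S4396
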