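import Groth.Statements.S4404
import Mathlib

set_option autoImplicit false
universe u
open EGA2

namespace Groth.Agent.S4404

/-- (a) ⇔ (b): let S be a ring graded in nonnegative degrees and E a subset of the irrelevant ideal S_+.
Then V_+(E) is the whole of Proj S if and only if every element of E is nilpotent. -/
theorem result {R A : Type u} [CommRing R] [CommRing A] [Algebra R A] (𝒜 : ℕ → Submodule R A) [GradedAlgebra 𝒜]
    (E : Set A) (hE : E ⊆ (HomogeneousIdeal.irrelevant 𝒜).toIdeal) :
    ProjectiveSpectrum.zeroLocus 𝒜 E = Set.univ ↔ ∀ e ∈ E, IsNilpotent e := by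
  constructor
  · intro h e he
    by_contra hn
    rw [nilpotent_iff_mem_prime] at hn
    push Not at hn
    obtain ⟨J, hJ, heJ⟩ := hn
    have hP := hJ.homogeneousCore (𝒜 := 𝒜)
    have hle : (J.homogeneousCore 𝒜).toIdeal ≤ J := Ideal.toIdeal_homogeneousCore_le 𝒜 J
    let x : ProjectiveSpectrum 𝒜 := ⟨J.homogeneousCore 𝒜, hP, fun hirr => heJ (hle (hirr (hE he)))⟩
    have hx : x ∈ ProjectiveSpectrum.zeroLocus 𝒜 E := h ▸ Set.mem_univ x
    exact heJ (hle (hx he))
  · intro h
    refine Set.eq_univ_of_forall fun x e he => ?_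
    obtain ⟨k, hk⟩ := h e he
    exact x.isPrime.mem_of_pow_mem k (hk ▸ zero_mem _)

end Groth.Agent.S4404
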