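import Groth.Agent.Lib.LGlobGen
import Groth.Agent.Lib.LAmpleRel
import Groth.Agent.Lib.LQcqs
import Mathlib

set_option autoImplicit false
universe u
open CategoryTheory Limits AlgebraicGeometry Opposite TopologicalSpace

namespace Groth.Agent.S4407

open Groth.Agent.LQcoh

/-- (a) ⇒ (e): let X be a quasi-affine scheme. Then every quasi-coherent O_X-module is generated by its
global sections (it is a quotient of a free O_X-module on some index set). -/
theorem result (X : Scheme.{u}) [X.IsQuasiAffine] (F : X.Modules)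
    (hF : Coh.IsQCoh F) : Curv2.IsGloballyGenerated F := by
  haveI : F.IsQuasicoherent := hF
  refine LGlobGen.isGloballyGenerated fun x => ?_
  obtain ⟨_, ⟨_, ⟨r, hr, rfl⟩, rfl⟩, hxr, -⟩ := (Scheme.IsQuasiAffine.isBasis_basicOpen X).exists_subset_of_mem_open
    (Set.mem_univ x) isOpen_univ
  refine ⟨X.basicOpen r, hxr, hr, eq_top_iff.2 fun y _ => ?_⟩
  obtain ⟨N, v, hv⟩ := (LQcoh.locAt_of_qcqs F (W := ⊤) isCompact_univ
    (fun A B hA hB _ _ => QuasiSeparatedSpace.inter_isCompact _ _ A.2 hA.isCompact B.2 hB.isCompact) r).1 y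
  obtain ⟨u, hu⟩ : IsUnit (resO (basicOpen_le_open r) (r ^ N)) := by
    rw [resO, map_pow]; exact (LQcoh.isUnit_resO ⊤ r).pow N
  have h1 : y = (↑u⁻¹ : Γ(X, X.basicOpen r)) • res F (basicOpen_le_open r) v := by
    rw [hv, ← hu, smul_smul, Units.inv_mul, one_smul]
  rw [h1]
  exact Submodule.smul_mem _ _ (Submodule.subset_span ⟨v, rfl⟩)

end Groth.Agent.S4407
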