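import Groth.Statements.S4412
import Mathlib

set_option autoImplicit false
universe u
open EGA2

namespace Groth.Agent.S4412

/-- Let S be a ring graded in nonnegative degrees which is Noetherian, d > 0, and S^{(d)} the graded
ring with degree-n part S_{nd} (given as a graded ring S' with an injective algebra homomorphism φ :
S' → S carrying S'_n onto S_{nd} for every n). Then S^{(d)} is Noetherian. -/
theorem result {R A : Type u} [CommRing R] [CommRing A] [Algebra R A] (𝒜 : ℕ → Submodule R A) [GradedAlgebra 𝒜] [IsNoetherianRing A]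
    {B : Type u} [CommRing B] [Algebra R B] (ℬ : ℕ → Submodule R B) [GradedAlgebra ℬ]
    (d : ℕ) (hd : 0 < d) (φ : B →ₐ[R] A) (hφ : Function.Injective φ)
    (hdeg : ∀ n : ℕ, Submodule.map φ.toLinearMap (ℬ n) = 𝒜 (n * d)) :
    IsNoetherianRing B := by
  classical
  have himg : ∀ n, ∀ x ∈ 𝒜 (n * d), ∃ b, φ b = x := fun n x hx => by
    rw [← hdeg n] at hx
    obtain ⟨b, -, hb⟩ := hx
    exact ⟨b, hb⟩
  -- the projection onto the degrees divisible by `d`
  let P : A →+ A := (DirectSum.coeAddMonoidHom fun i => 𝒜 i).comp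
    ((DFinsupp.filterAddMonoidHom (fun i => 𝒜 i) (fun i => d ∣ i)).comp (DirectSum.decomposeAddEquiv 𝒜).toAddMonoidHom)
  have hPmem : ∀ i, ∀ x ∈ 𝒜 i, P x = if d ∣ i then x else 0 := by
    intro i x hx
    show DirectSum.coeAddMonoidHom _ (DFinsupp.filter _ (DirectSum.decompose 𝒜 x)) = _
    lift x to 𝒜 i using hx
    rw [DirectSum.decompose_coe]
    erw [DFinsupp.filter_single]
    split_ifs with h
    · exact DirectSum.coeAddMonoidHom_of _ i x
    · exact map_zero _
  have hPval : ∀ a : A, ∃ b, φ b = P a := by
    intro a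
    rw [← DirectSum.sum_support_decompose 𝒜 a, map_sum]
    have : ∀ i, ∃ b, φ b = P (DirectSum.decompose 𝒜 a i : A) := fun i => by
      rw [hPmem i _ (Subtype.mem _)]
      split_ifs with h
      · obtain ⟨n, rfl⟩ := h
        exact himg n _ (by rw [mul_comm]; exact Subtype.mem _)
      · exact ⟨0, map_zero φ⟩
    choose b hb using this
    exact ⟨∑ i ∈ (DirectSum.decompose 𝒜 a).support, b i, by rw [map_sum]; exact Finset.sum_congr rfl fun i _ => hb i⟩
  have hPmul : ∀ (a : A) (b : B), P (a * φ b) = P a * φ b := by
    intro a b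
    rw [← DirectSum.sum_support_decompose 𝒜 a, Finset.sum_mul, map_sum, map_sum, Finset.sum_mul]
    refine Finset.sum_congr rfl fun i _ => ?_
    rw [← DirectSum.sum_support_decompose ℬ b, map_sum, Finset.mul_sum, map_sum, Finset.mul_sum]
    refine Finset.sum_congr rfl fun n _ => ?_
    have h : φ (DirectSum.decompose ℬ b n : B) ∈ 𝒜 (n * d) := (hdeg n).le ⟨_, Subtype.mem _, rfl⟩
    rw [hPmem _ _ (SetLike.mul_mem_graded (Subtype.mem (DirectSum.decompose 𝒜 a i)) h), hPmem i _ (Subtype.mem _)]
    simp only [Nat.dvd_add_left (dvd_mul_left d n), ite_mul, zero_mul]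
  have hP1 : ∀ b : B, P (φ b) = φ b := by
    intro b
    rw [← DirectSum.sum_support_decompose ℬ b, map_sum, map_sum]
    refine Finset.sum_congr rfl fun n _ => ?_
    have h : φ (DirectSum.decompose ℬ b n : B) ∈ 𝒜 (n * d) := (hdeg n).le ⟨_, Subtype.mem _, rfl⟩
    rw [hPmem _ _ h, if_pos (dvd_mul_left d n)]
  have hback : ∀ (I : Ideal B) (b : B), φ b ∈ Ideal.map φ.toRingHom I → b ∈ I := by
    intro I b hb
    have key : ∀ x ∈ Ideal.map φ.toRingHom I, ∀ c, φ c = P x → c ∈ I := by
      intro x hx
      induction hx using Submodule.span_induction with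
      | mem x hx =>
        obtain ⟨j, hj, rfl⟩ := hx
        intro c hc
        rw [show φ.toRingHom j = φ j from rfl, hP1] at hc
        exact hφ hc ▸ hj
      | zero =>
        intro c hc
        rw [map_zero] at hc
        rw [hφ (hc.trans (map_zero φ).symm)]
        exact zero_mem _
      | add x y _ _ hx hy =>
        intro c hc
        obtain ⟨cx, hcx⟩ := hPval x
        obtain ⟨cy, hcy⟩ := hPval y
        rw [map_add, ← hcx, ← hcy, ← map_add] at hc
        exact hφ hc ▸ add_mem (hx cx hcx) (hy cy hcy)
      | smul a x hxI hx =>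
        intro c hc
        clear hx
        revert c hc
        induction hxI using Submodule.span_induction generalizing a with
        | mem x hx =>
          obtain ⟨j, hj, rfl⟩ := hx
          intro c hc
          obtain ⟨ca, hca⟩ := hPval a
          rw [smul_eq_mul, show φ.toRingHom j = φ j from rfl, hPmul, ← hca, ← map_mul] at hc
          exact hφ hc ▸ Ideal.mul_mem_left _ _ hj
        | zero =>
          intro c hc
          rw [smul_zero, map_zero] at hc
          rw [hφ (hc.trans (map_zero φ).symm)]
          exact zero_mem _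
        | add x y _ _ hx hy =>
          intro c hc
          obtain ⟨cx, hcx⟩ := hPval (a • x)
          obtain ⟨cy, hcy⟩ := hPval (a • y)
          rw [smul_add, map_add, ← hcx, ← hcy, ← map_add] at hc
          exact hφ hc ▸ add_mem (hx a cx hcx) (hy a cy hcy)
        | smul a' x _ hx =>
          intro c hc
          rw [smul_smul] at hc
          exact hx (a * a') c hc
    exact key _ hb b (hP1 b).symm
  let e : Ideal B ↪o Ideal A := OrderEmbedding.ofMapLEIff (fun I => Ideal.map φ.toRingHom I) fun I J =>
    ⟨fun h b hb => hback J b (h (Ideal.mem_map_of_mem φ.toRingHom hb)), fun h => Ideal.map_mono h⟩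
  haveI : WellFoundedGT (Ideal A) := isNoetherian_iff'.1 inferInstance
  exact isNoetherian_iff'.2 (OrderEmbedding.wellFoundedGT e)

end Groth.Agent.S4412
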