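import Groth.Statements.S4426
import Mathlib

set_option autoImplicit false
universe u
open CategoryTheory CategoryTheory.Limits AlgebraicGeometry
open EGA2

namespace Groth.Agent.S4426

/-- Let g : X → Y be a proper morphism, 𝒮 a quasi-coherent graded O_Y-algebra and p : P → Y its relative
homogeneous spectrum (given with its charts over affine opens). Then every morphism u : X → P with u
≫ p = g is proper (in particular closed). -/
theorem result {X Y P : Scheme.{u}} (g : X ⟶ Y) [IsProper g] (𝒮 : RelProj.QCGrAlg Y) (p : P ⟶ Y)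
    (chart : ∀ (U : Y.Opens) (hU : IsAffineOpen U), ((p ⁻¹ᵁ U : P.Opens) : Scheme.{u}) ≅ Proj (𝒮.deg U hU))
    (hp : RelProj.IsRelProj 𝒮 p chart) (u : X ⟶ P) (hu : u ≫ p = g) : IsProper u := by
  haveI : IsSeparated p := by
    refine IsZariskiLocalAtTarget.of_iSup_eq_top (P := @IsSeparated) (fun U : Y.affineOpens => U.1)
      (iSup_affineOpens_eq_top Y) fun U => ?_
    have h : IsSeparated ((p ∣_ U.1) ≫ U.1.ι) := by
      rw [morphismRestrict_ι, ← hp.chart_over U.1 U.2]
      infer_instance
    exact IsSeparated.of_comp (p ∣_ U.1) U.1.ι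
  haveI : IsProper (u ≫ p) := hu ▸ inferInstance
  exact IsProper.of_comp u p

end Groth.Agent.S4426
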