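import Groth.Statements.S4429
import Mathlib

set_option autoImplicit false
universe u
open EGA2

namespace Groth.Agent.S4429

/-- For an integral domain A with fraction field K, a finitely generated A-module E and an endomorphism
u of E, the coefficients of the characteristic polynomial of u ⊗ 1 acting on the K-vector space K
⊗_A E (the elementary symmetric functions of u, among them its trace and determinant) are integral
over A. -/
theorem result (A : Type u) [CommRing A] [IsDomain A] (K : Type u) [Field K]
    [Algebra A K] [IsFractionRing A K] (E : Type u) [AddCommGroup E] [Module A E] [Module.Finite A E]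
    (u : E →ₗ[A] E) (i : ℕ) :
    IsIntegral A (((u.baseChange K).charpoly).coeff i) := by
  classical
  obtain ⟨p, hp, hp0⟩ := LinearMap.exists_monic_and_aeval_eq_zero (R := A) u
  let L := AlgebraicClosure K
  let uK := u.baseChange K
  have hpK : Polynomial.aeval uK (p.map (algebraMap A K)) = 0 := by
    rw [Polynomial.aeval_map_algebraMap]
    change Polynomial.aeval (Module.End.baseChangeHom A K E u) p = 0
    rw [Polynomial.aeval_algHom_apply, hp0, map_zero]
  let q := uK.charpoly.map (algebraMap K L)
  have hroot : ∀ μ ∈ q.roots, μ ∈ integralClosure A L := by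
    intro μ hμ
    refine ⟨p, hp, ?_⟩
    have h1 : (uK.baseChange L).charpoly.IsRoot μ := by
      rw [LinearMap.charpoly_baseChange]
      exact (Polynomial.mem_roots'.mp hμ).2
    obtain ⟨v, hv⟩ := ((Module.End.hasEigenvalue_iff_isRoot_charpoly _ μ).mpr h1).exists_hasEigenvector
    have h2 := Module.End.aeval_apply_of_hasEigenvector (p := (p.map (algebraMap A K)).map (algebraMap K L)) hv
    have h3 : Polynomial.aeval (uK.baseChange L) ((p.map (algebraMap A K)).map (algebraMap K L)) = 0 := by
      rw [Polynomial.aeval_map_algebraMap]
      change Polynomial.aeval (Module.End.baseChangeHom K L _ uK) _ = 0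
      rw [Polynomial.aeval_algHom_apply, hpK, map_zero]
    rw [h3, LinearMap.zero_apply, eq_comm, smul_eq_zero] at h2
    have h4 := h2.resolve_right hv.2
    rwa [Polynomial.map_map, Polynomial.eval_map, ← IsScalarTower.algebraMap_eq] at h4
  have hsplit : q = (q.roots.map fun a => Polynomial.X - Polynomial.C a).prod :=
    (IsAlgClosed.splits q).eq_prod_roots_of_monic ((LinearMap.charpoly_monic _).map _)
  have hl : q ∈ Polynomial.lifts (algebraMap (integralClosure A L) L) := by
    rw [hsplit]
    refine multiset_prod_mem _ fun f hf => ?_
    obtain ⟨μ, hμ, rfl⟩ := Multiset.mem_map.mp hf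
    exact ⟨Polynomial.X - Polynomial.C ⟨μ, hroot μ hμ⟩, by simp⟩
  obtain ⟨z, hz⟩ := (Polynomial.lifts_iff_coeff_lifts _).mp hl i
  rw [Polynomial.coeff_map] at hz
  exact (isIntegral_algebraMap_iff (algebraMap K L).injective).mp (hz ▸ z.2)

end Groth.Agent.S4429
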