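import Groth.Statements.S4430
import Mathlib

set_option autoImplicit false
set_option backward.isDefEq.respectTransparency.types false
set_option maxHeartbeats 1000000
set_option linter.all false
universe u
open EGA2

namespace Groth.Agent.S4430
open Groth.Agent

/-- Let A be an integral domain with fraction field K, E a finitely generated A-module and u an
endomorphism of E whose characteristic-polynomial coefficients (those of u ⊗ 1 on K ⊗_A E) all lie
in A. If u is an automorphism of E, then its determinant, as an element of A, is invertible in A. -/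
theorem result (A : Type u) [CommRing A] [IsDomain A] (K : Type u) [Field K]
    [Algebra A K] [IsFractionRing A K] (E : Type u) [AddCommGroup E] [Module A E] [Module.Finite A E]
    (u : E →ₗ[A] E) (hcoeff : ∀ i : ℕ, ((u.baseChange K).charpoly).coeff i ∈ (algebraMap A K).range)
    (a : A) (ha : algebraMap A K a = LinearMap.det (u.baseChange K)) (hu : Function.Bijective u) :
    IsUnit a := by
  classical
  let eu := LinearEquiv.ofBijective u hu
  let v : E →ₗ[A] E := eu.symm.toLinearMap
  obtain ⟨q, hq, hq0⟩ := LinearMap.exists_monic_and_aeval_eq_zero A v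
  have hcomp : (u.baseChange K) ∘ₗ (v.baseChange K) = LinearMap.id := by
    rw [← LinearMap.baseChange_comp, show u ∘ₗ v = LinearMap.id from LinearMap.ext fun x => eu.apply_symm_apply x, LinearMap.baseChange_id]
  have hab : algebraMap A K a * LinearMap.det (v.baseChange K) = 1 := by
    rw [ha, ← LinearMap.det_comp, hcomp, LinearMap.det_id]
  let B := Module.finBasis K (TensorProduct A K E)
  let L := AlgebraicClosure K
  let M := LinearMap.toMatrix B B (v.baseChange K)
  have hMq : Polynomial.aeval M (q.map (algebraMap A K)) = 0 := by
    have h1 : Polynomial.aeval (v.baseChange K) (q.map (algebraMap A K)) = 0 := by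
      rw [Polynomial.aeval_map_algebraMap, show v.baseChange K = (Module.End.baseChangeHom A K E) v from rfl, Polynomial.aeval_algHom_apply, hq0, map_zero]
    rw [show M = (LinearMap.toMatrixAlgEquiv B).toAlgHom (v.baseChange K) from rfl, Polynomial.aeval_algHom_apply, h1, map_zero]
  have hML : Polynomial.aeval (M.map (algebraMap K L)) (q.map (algebraMap A L)) = 0 := by
    rw [IsScalarTower.algebraMap_eq A K L, ← Polynomial.map_map, Polynomial.aeval_map_algebraMap, show M.map (algebraMap K L) = (Algebra.ofId K L).mapMatrix M from rfl, Polynomial.aeval_algHom_apply, hMq, map_zero]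
  have hroot : ∀ μ ∈ (M.map (algebraMap K L)).charpoly.roots, IsIntegral A μ := by
    intro μ hμ
    have h1 : Module.End.HasEigenvalue (Matrix.toLin' (M.map (algebraMap K L))) μ := by
      rw [Module.End.hasEigenvalue_iff_isRoot_charpoly, Matrix.charpoly_toLin']
      exact (Polynomial.mem_roots'.1 hμ).2
    obtain ⟨w, hw⟩ := h1.exists_hasEigenvector
    have h2 := Module.End.aeval_apply_of_hasEigenvector (p := q.map (algebraMap A L)) hw
    rw [show Matrix.toLin' (M.map (algebraMap K L)) = Matrix.toLinAlgEquiv'.toAlgHom (M.map (algebraMap K L)) from rfl, Polynomial.aeval_algHom_apply, hML, map_zero, LinearMap.zero_apply] at h2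
    refine ⟨q, hq, ?_⟩
    have h3 := (smul_eq_zero.1 h2.symm).resolve_right hw.2
    rwa [Polynomial.eval_map] at h3
  have hint : IsIntegral A (algebraMap K L (LinearMap.det (v.baseChange K))) := by
    rw [← LinearMap.det_toMatrix B, RingHom.map_det, RingHom.mapMatrix_apply, Matrix.det_eq_prod_roots_charpoly]
    exact IsIntegral.multiset_prod hroot
  obtain ⟨p, hp, hp0⟩ := (isIntegral_algebraMap_iff (algebraMap K L).injective).1 hint
  set b := LinearMap.det (v.baseChange K)
  haveI : Invertible b := invertibleOfNonzero (right_ne_zero_of_mul_eq_one hab)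
  have h4 : Polynomial.eval₂ (algebraMap A K) (algebraMap A K a) p.reverse = 0 := by
    have h5 : ⅟b = algebraMap A K a := invOf_eq_left_inv hab
    rw [← h5]
    exact (Polynomial.eval₂_reverse_eq_zero_iff _ _ _).2 hp0
  rw [Polynomial.eval₂_at_apply, map_eq_zero_iff _ (IsFractionRing.injective A K)] at h4
  rw [← Polynomial.X_mul_divX_add p.reverse, Polynomial.coeff_zero_reverse, hp.leadingCoeff] at h4
  simp only [Polynomial.eval_add, Polynomial.eval_mul, Polynomial.eval_X, Polynomial.eval_C] at h4
  exact IsUnit.of_mul_eq_one _ (show a * (-(p.reverse.divX.eval a)) = 1 by linear_combination -h4)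

end Groth.Agent.S4430
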