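import Groth.Statements.S4431
import Mathlib

set_option autoImplicit false
set_option backward.isDefEq.respectTransparency.types false
set_option maxHeartbeats 1000000
set_option linter.all false
universe u
open EGA2

namespace Groth.Agent.S4431
open Groth.Agent
open scoped TensorProduct

/-- Let A be an integral domain with fraction field K, E a finitely generated torsion-free A-module and
u an endomorphism of E whose characteristic-polynomial coefficients (those of u ⊗ 1 on K ⊗_A E) all
lie in A. If the determinant of u is the image of a unit of A, then u is an automorphism of E. -/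
theorem result (A : Type u) [CommRing A] [IsDomain A] (K : Type u) [Field K]
    [Algebra A K] [IsFractionRing A K] (E : Type u) [AddCommGroup E] [Module A E] [Module.Finite A E]
    [Module.IsTorsionFree A E]
    (u : E →ₗ[A] E) (hcoeff : ∀ i : ℕ, ((u.baseChange K).charpoly).coeff i ∈ (algebraMap A K).range)
    (a : A) (ha : algebraMap A K a = LinearMap.det (u.baseChange K)) (hunit : IsUnit a) :
    Function.Bijective u := by
  classical
  let P := (u.baseChange K).charpoly
  have hl : P ∈ Polynomial.lifts (algebraMap A K) := (Polynomial.lifts_iff_coeff_lifts _).2 fun i => hcoeff i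
  obtain ⟨q, hq⟩ := (Polynomial.mem_lifts _).1 hl
  have hinj : Function.Injective (TensorProduct.mk A K E 1) := by
    intro x y h
    haveI : IsLocalizedModule (nonZeroDivisors A) (TensorProduct.mk A K E 1) := (isLocalizedModule_iff_isBaseChange (nonZeroDivisors A) K _).2 (TensorProduct.isBaseChange A E K)
    obtain ⟨c, hc⟩ := (IsLocalizedModule.eq_iff_exists (nonZeroDivisors A) _).1 h
    exact smul_right_injective E (nonZeroDivisors.ne_zero c.2) hc
  have h0 : Polynomial.aeval u q = 0 := by
    have h1 : Polynomial.aeval (u.baseChange K) P = 0 := LinearMap.aeval_self_charpoly _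
    rw [← hq, Polynomial.aeval_map_algebraMap, show u.baseChange K = (Module.End.baseChangeHom A K E) u from rfl, Polynomial.aeval_algHom_apply] at h1
    refine LinearMap.ext fun x => hinj ?_
    have this : ((Polynomial.aeval u q).baseChange K) ((1 : K) ⊗ₜ[A] x) = 0 := DFunLike.congr_fun h1 _
    rw [LinearMap.baseChange_tmul] at this
    exact this.trans (map_zero _).symm
  have hc : IsUnit (q.coeff 0) := by
    have h2 : algebraMap A K (q.coeff 0) = P.coeff 0 := by rw [← hq, Polynomial.coeff_map]
    have h3 := LinearMap.det_eq_sign_charpoly_coeff (u.baseChange K)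
    rw [← ha, ← h2, ← map_one (algebraMap A K), ← map_neg, ← map_pow, ← map_mul] at h3
    have h4 := IsFractionRing.injective A K h3
    rw [h4] at hunit
    exact isUnit_of_mul_isUnit_right hunit
  rw [← Module.End.isUnit_iff]
  have h5 : Polynomial.aeval u q = u * Polynomial.aeval u q.divX + algebraMap A (Module.End A E) (q.coeff 0) := by
    have e := congrArg (Polynomial.aeval u) (Polynomial.X_mul_divX_add q).symm
    rwa [map_add, map_mul, Polynomial.aeval_X, Polynomial.aeval_C] at e
  rw [h0] at h5
  have hcomm : Commute u (Polynomial.aeval u q.divX) := by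
    have := congrArg (Polynomial.aeval u) (Polynomial.X_mul (p := q.divX))
    rwa [map_mul, map_mul, Polynomial.aeval_X] at this
  have h6 : IsUnit (u * Polynomial.aeval u q.divX) := by
    rw [eq_neg_of_add_eq_zero_left h5.symm]
    exact (hc.map (algebraMap A (Module.End A E))).neg
  exact (hcomm.isUnit_mul_iff.1 h6).1

end Groth.Agent.S4431
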