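import Groth.Agent.Lib.H6.DVRDom2
import Mathlib

set_option autoImplicit false
universe u

namespace Groth.Agent.S4434

theorem exists_dvr_of_injective (A K L T : Type u) [CommRing A] [IsDomain A] [Field K] [Algebra A K] [IsFractionRing A K]
    [Field L] [Algebra K L] [Algebra A L] [IsScalarTower A K L] [Algebra.EssFiniteType K L]
    [CommRing T] [IsDomain T] [IsNoetherianRing T] [IsLocalRing T] (ι : A →+* T) (ρ : T →+* L) (hρ : Function.Injective ρ)
    (hι : ∀ a, ρ (ι a) = algebraMap A L a) (hT : ¬ IsField T) :
    ∃ V : ValuationSubring L, IsDiscreteValuationRing V ∧ (∀ t : T, ρ t ∈ V) ∧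
      ∀ t ∈ IsLocalRing.maximalIdeal T, ρ t ∈ V.nonunits := by
  letI : Algebra T L := ρ.toAlgebra
  haveI : FaithfulSMul T L := (faithfulSMul_iff_algebraMap_injective T L).2 hρ
  letI : Algebra (FractionRing T) L := FractionRing.liftAlgebra T L
  haveI : IsScalarTower T (FractionRing T) L := FractionRing.isScalarTower_liftAlgebra T L
  have hAF : ∀ a : A, algebraMap (FractionRing T) L (algebraMap T (FractionRing T) (ι a)) = algebraMap A L a := fun a => by
    rw [← IsScalarTower.algebraMap_apply T (FractionRing T) L]
    exact hι a
  let j : K →+* FractionRing T := IsFractionRing.lift (A := A) (g := (algebraMap T (FractionRing T)).comp ι)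
    (fun a b hab => IsFractionRing.injective A K ((algebraMap K L).injective (by
      rw [← IsScalarTower.algebraMap_apply, ← IsScalarTower.algebraMap_apply, ← hAF a, ← hAF b]
      exact congrArg (algebraMap (FractionRing T) L) hab)))
  letI : Algebra K (FractionRing T) := j.toAlgebra
  haveI : IsScalarTower K (FractionRing T) L := IsScalarTower.of_algebraMap_eq'
    (IsLocalization.ringHom_ext (nonZeroDivisors A) (RingHom.ext fun a => by
      show algebraMap K L (algebraMap A K a) = algebraMap (FractionRing T) L (j (algebraMap A K a))
      rw [IsFractionRing.lift_algebraMap, ← IsScalarTower.algebraMap_apply]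
      exact (hAF a).symm))
  haveI : Algebra.EssFiniteType (FractionRing T) L := Algebra.EssFiniteType.of_comp K (FractionRing T) L
  exact Groth.Agent.H6.DVRDom.exists_dvr (R := T) (FractionRing T) L hT

/-- Let A be a Noetherian domain with field of fractions K and L a finitely generated field extension of
K. The integral closure of A in L is the intersection of the discrete valuation subrings of L (with
fraction field L) containing the image of A: an element of L is integral over A exactly when it
belongs to all of them. -/
theorem result (A : Type u) [CommRing A] [IsDomain A] [IsNoetherianRing A]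
    (K : Type u) [Field K] [Algebra A K] [IsFractionRing A K]
    (L : Type u) [Field L] [Algebra K L] [Algebra A L] [IsScalarTower A K L] (hfg : (⊤ : IntermediateField K L).FG) (x : L) :
    IsIntegral A x ↔ ∀ R : ValuationSubring L, IsDiscreteValuationRing R → (∀ a : A, algebraMap A L a ∈ R) → x ∈ R := by
  classical
  constructor
  · intro hx R _ hR
    letI : Algebra A R := ((algebraMap A L).codRestrict R.toSubring hR).toAlgebra
    haveI : IsScalarTower A R L := IsScalarTower.of_algebraMap_eq fun a => rfl
    obtain ⟨r, hr⟩ := IsIntegrallyClosedIn.isIntegral_iff.1 (IsIntegral.tower_top (A := R) hx)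
    exact hr ▸ r.2
  · intro h
    by_contra hx
    have hx0 : x ≠ 0 := fun e => hx (e ▸ isIntegral_zero)
    let y := x⁻¹
    let B := Algebra.adjoin A ({y} : Set L)
    have hy0 : y ≠ 0 := inv_ne_zero hx0
    let y' : B := ⟨y, Algebra.self_mem_adjoin_singleton A y⟩
    have hnu : ¬ IsUnit y' := fun hu => by
      obtain ⟨b, hb⟩ := hu.exists_right_inv
      have hxb : x = (b : L) := by
        have h1 : y * (b : L) = 1 := congrArg Subtype.val hb
        have h2 := mul_inv_cancel₀ hx0
        calc x = x * (y * (b : L)) := by rw [h1, mul_one]
          _ = (b : L) := by rw [← mul_assoc, h2, one_mul]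
      obtain ⟨p, hp⟩ : ∃ p : Polynomial A, Polynomial.aeval y p = (b : L) := by
        have hbm : (b : L) ∈ (Polynomial.aeval (R := A) y).range := Algebra.adjoin_singleton_eq_range_aeval A y ▸ b.2
        exact hbm
      refine hx ⟨Polynomial.X ^ (p.natDegree + 1) - p.reverse, ?_, ?_⟩
      · refine Polynomial.monic_X_pow_sub ?_
        exact lt_of_le_of_lt Polynomial.degree_le_natDegree (WithBot.coe_lt_coe.2 (Nat.lt_succ_of_le p.reverse_natDegree_le))
      · rw [Polynomial.eval₂_sub, Polynomial.eval₂_X_pow, sub_eq_zero]
        haveI : Invertible y := invertibleOfNonzero hy0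
        have h2 : Polynomial.eval₂ (algebraMap A L) y p = x := (Polynomial.aeval_def y p).symm.trans (hp.trans hxb.symm)
        have h4 := Polynomial.eval₂_reverse_mul_pow (algebraMap A L) y p
        rw [invOf_eq_inv, inv_inv, h2] at h4
        calc x ^ (p.natDegree + 1) = x * x ^ p.natDegree := by rw [pow_succ, mul_comm]
          _ = (Polynomial.eval₂ (algebraMap A L) x p.reverse * y ^ p.natDegree) * x ^ p.natDegree := by rw [h4]
          _ = Polynomial.eval₂ (algebraMap A L) x p.reverse := by
            rw [mul_assoc, ← mul_pow, inv_mul_cancel₀ hx0, one_pow, mul_one]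
    obtain ⟨P, hP, hyP⟩ := exists_max_ideal_of_mem_nonunits (show y' ∈ nonunits B from hnu)
    haveI := hP.isPrime
    haveI : Algebra.FiniteType A B := (Subalgebra.fg_iff_finiteType _).1 ((by simpa using Subalgebra.fg_adjoin_finset (R := A) ({y} : Finset L)))
    haveI : IsNoetherianRing B := Algebra.FiniteType.isNoetherianRing A B
    let T := Localization.AtPrime P
    haveI : IsNoetherianRing T := IsLocalization.isNoetherianRing P.primeCompl T inferInstance
    let ρ : T →+* L := IsLocalization.lift (M := P.primeCompl) (S := T) (g := B.val.toRingHom) (fun b =>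
      IsUnit.mk0 _ fun e => b.2 (by
        rw [show (b : B) = 0 from Subtype.ext e]; exact P.zero_mem))
    letI : Algebra T L := ρ.toAlgebra
    have hρ : ∀ b : B, ρ (algebraMap B T b) = (b : L) := fun b => IsLocalization.lift_eq _ b
    have hρi : Function.Injective ρ := by
      rw [RingHom.injective_iff_ker_eq_bot, eq_bot_iff]
      intro t ht
      obtain ⟨a, b, rfl⟩ := IsLocalization.exists_mk'_eq P.primeCompl t
      have h0 : ρ (algebraMap B T a) = 0 := by
        rw [← IsLocalization.mk'_spec T a b, map_mul, RingHom.mem_ker.1 ht, zero_mul]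
      rw [hρ] at h0
      rw [Submodule.mem_bot, show a = 0 from Subtype.ext h0, IsLocalization.mk'_zero]
    haveI : IsDomain T := Function.Injective.isDomain ρ hρi
    haveI : FaithfulSMul T L := (faithfulSMul_iff_algebraMap_injective T L).2 hρi
    have hTne : ¬ IsField T := by
      rw [IsLocalRing.isField_iff_maximalIdeal_eq]
      intro e
      have h2 : algebraMap B T y' ∈ IsLocalRing.maximalIdeal T := (IsLocalization.AtPrime.to_map_mem_maximal_iff T P _).2 hyP
      rw [e, Submodule.mem_bot] at h2
      exact hy0 ((hρ y').symm.trans (by rw [h2, map_zero]))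
    haveI : Algebra.EssFiniteType K L := IntermediateField.fg_top_iff.1 hfg
    obtain ⟨V, hV, h1, h2⟩ := exists_dvr_of_injective A K L T ((algebraMap B T).comp (algebraMap A B)) ρ hρi
      (fun a => hρ _) hTne
    have hxV := h V hV fun a => by
      have := h1 (algebraMap B T (algebraMap A B a))
      rw [hρ] at this; exact this
    have hyV : y ∈ V.nonunits := by
      have := h2 _ ((IsLocalization.AtPrime.to_map_mem_maximal_iff T P _).2 hyP)
      rw [hρ] at this; exact this
    have : V.valuation y * V.valuation x = 1 := by
      rw [← map_mul, inv_mul_cancel₀ (hx0), map_one]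
    have hlt := (ValuationSubring.mem_nonunits_iff V).1 hyV
    have hle := (V.valuation_le_one_iff x).2 hxV
    exact (lt_of_le_of_lt (mul_le_of_le_one_right' hle) hlt).ne this

end Groth.Agent.S4434
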