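import Groth.Statements.S4435
import Mathlib

set_option autoImplicit false
universe u
open CategoryTheory CategoryTheory.Limits AlgebraicGeometry
open EGA2

namespace Groth.Agent.S4435

theorem field_ext {A B K L : Type u} [CommRing A] [CommRing B] [Field K] [Field L] (ψ : A →+* B) (φ : K →+* L)
    (a : A →+* K) (b : B →+* L) (h : φ.comp a = b.comp ψ) (hb : ∀ z : L, ∃ u v, z = b u / b v) :
    (ψ.IsIntegral → φ.IsIntegral) ∧ (ψ.Finite → φ.Finite) := by
  algebraize [φ, ψ]
  have hint : ∀ u : B, ψ.IsIntegralElem u → IsIntegral K (b u) := by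
    intro u hu
    obtain ⟨p, hp, he⟩ := hu
    refine ⟨p.map a, hp.map a, ?_⟩
    show Polynomial.eval₂ φ (b u) (p.map a) = 0
    rw [Polynomial.eval₂_map, h, ← Polynomial.hom_eval₂, he, map_zero]
  refine ⟨fun hψ z => ?_, fun hψ => ?_⟩
  · obtain ⟨u, v, rfl⟩ := hb z
    rw [div_eq_mul_inv]
    exact IsIntegral.mul (hint u (hψ u)) (hint v (hψ v)).inv
  · classical
    obtain ⟨s, hs⟩ := Module.finite_def.1 hψ
    let S : Subalgebra K L := Algebra.adjoin K (b '' (s : Set B))
    have hfg : S.toSubmodule.FG := fg_adjoin_of_finite (s.finite_toSet.image b) (by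
      rintro _ ⟨u, -, rfl⟩
      exact hint u ((RingHom.Finite.to_isIntegral hψ) u))
    have hmem : ∀ u, b u ∈ S := by
      intro u
      have hu : u ∈ Submodule.span A (s : Set B) := hs.ge trivial
      induction hu using Submodule.span_induction with
      | mem u hu => exact Algebra.subset_adjoin ⟨u, hu, rfl⟩
      | zero => rw [map_zero]; exact zero_mem _
      | add x y _ _ hx hy => rw [map_add]; exact add_mem hx hy
      | smul r x _ hx =>
        rw [Algebra.smul_def, map_mul]
        refine mul_mem ?_ hx
        show b.comp ψ r ∈ S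
        rw [← h]
        exact Subalgebra.algebraMap_mem S (a r)
    have htop : S = ⊤ := by
      refine eq_top_iff.2 fun z _ => ?_
      obtain ⟨u, v, rfl⟩ := hb z
      rw [div_eq_mul_inv]
      refine mul_mem (hmem u) ?_
      exact Subalgebra.inv_mem_of_algebraic S (x := ⟨b v, hmem v⟩)
        ((hint v ((RingHom.Finite.to_isIntegral hψ) v)).isAlgebraic)
    exact ⟨by simpa [htop] using hfg⟩

theorem stalk_field {S : Scheme.{u}} [IsIntegral S] (y : S) (hy : y = genericPoint S) :
    IsField (S.presheaf.stalk y) := by
  subst hy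
  exact Field.toIsField S.functionField

theorem stalk_frac {S : Scheme.{u}} [IsIntegral S] {U : S.Opens} (hU : IsAffineOpen U) (y : S) (hy : y ∈ U)
    (h : y = genericPoint S) :
    ∀ z, ∃ u v, (S.presheaf.germ U y hy).hom v * z = (S.presheaf.germ U y hy).hom u ∧ (S.presheaf.germ U y hy).hom v ≠ 0 := by
  subst h
  intro z
  haveI : Nonempty U := ⟨⟨_, hy⟩⟩
  haveI := functionField_isFractionRing_of_isAffineOpen S U hU
  obtain ⟨u, v, hv, rfl⟩ := IsFractionRing.div_surjective (A := Γ(S, U)) (K := S.functionField) z
  have hv' : algebraMap Γ(S, U) S.functionField v ≠ 0 := IsFractionRing.to_map_ne_zero_of_mem_nonZeroDivisors hv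
  exact ⟨u, v, mul_div_cancel₀ _ hv', hv'⟩


/-- Let X, S be integral schemes and f : X ⟶ S a dominant morphism. If f is integral, the field of
rational functions of X is algebraic over that of S; if f is finite, it is a finite extension. Here
the extension is given by the stalk map of f at the generic point of X, whose source is the local
ring of S at the generic point of S (f being dominant), i.e. the function field of S. -/
theorem result {X S : Scheme.{u}} [IsIntegral X] [IsIntegral S]
    (f : X ⟶ S) [IsDominant f] :
    (IsIntegralHom f → (f.stalkMap (genericPoint X)).hom.IsIntegral) ∧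
      (IsFinite f → (f.stalkMap (genericPoint X)).hom.Finite) := by
  have hgen : f.base (genericPoint X) = genericPoint S := by
    refine IsGenericPoint.eq ?_ (genericPoint_spec S)
    have := (genericPoint_spec X).image f.continuous
    rwa [Set.image_univ, f.denseRange.closure_range] at this
  obtain ⟨_, ⟨U, hU, rfl⟩, hηU, -⟩ :=
    S.isBasis_affineOpens.exists_subset_of_mem_open (Set.mem_univ (f.base (genericPoint X))) isOpen_univ
  letI := (stalk_field (f.base (genericPoint X)) hgen).toField
  letI := (stalk_field (genericPoint X) rfl).toField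
  have hsq : (f.stalkMap (genericPoint X)).hom.comp (S.presheaf.germ U _ hηU).hom =
      (X.presheaf.germ (f ⁻¹ᵁ U) (genericPoint X) hηU).hom.comp (f.app U).hom := by
    rw [← CommRingCat.hom_comp, Scheme.Hom.germ_stalkMap]
    rfl
  have hb : ∀ [IsAffineHom f], ∀ z, ∃ u v, z = (X.presheaf.germ (f ⁻¹ᵁ U) (genericPoint X) hηU).hom u /
      (X.presheaf.germ (f ⁻¹ᵁ U) (genericPoint X) hηU).hom v := by
    intro _ z
    obtain ⟨u, v, e, hv⟩ := stalk_frac (hU.preimage f) (genericPoint X) hηU rfl z
    exact ⟨u, v, by rw [eq_div_iff hv, mul_comm]; exact e⟩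
  constructor
  · intro hf
    exact (field_ext _ _ _ _ hsq hb).1 (IsIntegralHom.isIntegral_app f U hU)
  · intro hf
    exact (field_ext _ _ _ _ hsq hb).2 (IsFinite.finite_app f U hU)

end Groth.Agent.S4435
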