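import Groth.Statements.S4441

set_option autoImplicit false
set_option linter.all false
universe u
open CategoryTheory CategoryTheory.Limits AlgebraicGeometry
open EGA2

namespace Groth.Agent.S4441

/-- Let X and Y be integral separated schemes and f : X ⟶ Y a dominant, quasi-compact, universally
closed morphism, ξ the generic point of X. Every valuation subring R of the function field K(X) of X
which dominates the local ring of Y at a point y (via O_{Y,y} → O_{Y,f(ξ)} → K(X): image inside R,
maximal ideal into the maximal ideal of R) also dominates the local ring of X at some point x (via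
O_{X,x} → K(X)). -/
theorem result {X Y : Scheme.{u}} [IsIntegral X] [IsIntegral Y]
    [X.IsSeparated] [Y.IsSeparated] (f : X ⟶ Y) [IsDominant f] [QuasiCompact f] [UniversallyClosed f]
    (R : ValuationSubring X.functionField) (y : Y) (hy : f.base (genericPoint X) ⤳ y)
    (hdom : (∀ a : Y.presheaf.stalk y, (Y.presheaf.stalkSpecializes hy ≫ f.stalkMap (genericPoint X)).hom a ∈ R) ∧
      ∀ a ∈ IsLocalRing.maximalIdeal (Y.presheaf.stalk y),
        R.valuation ((Y.presheaf.stalkSpecializes hy ≫ f.stalkMap (genericPoint X)).hom a) < 1) :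
    ∃ x : X, (∀ a : X.presheaf.stalk x, algebraMap (X.presheaf.stalk x) X.functionField a ∈ R) ∧
      ∀ a ∈ IsLocalRing.maximalIdeal (X.presheaf.stalk x), R.valuation (algebraMap (X.presheaf.stalk x) X.functionField a) < 1 := by
  let c := (Y.presheaf.stalkSpecializes hy ≫ f.stalkMap (genericPoint X))
  let a : Y.presheaf.stalk y ⟶ CommRingCat.of R := CommRingCat.ofHom (c.hom.codRestrict R.toSubring hdom.1)
  have hsq : CommSq (X.fromSpecStalk (genericPoint X)) (Spec.map (CommRingCat.ofHom (algebraMap R X.functionField))) f
      (Spec.map a ≫ Y.fromSpecStalk y) := ⟨by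
    erw [← Spec.map_comp_assoc]
    rw [← Scheme.SpecMap_stalkMap_fromSpecStalk, ← Scheme.SpecMap_stalkSpecializes_fromSpecStalk hy]
    erw [← Spec.map_comp_assoc]
    rfl⟩
  let S : ValuativeCommSq f :=
    { R := R, K := X.functionField, i₁ := X.fromSpecStalk (genericPoint X), i₂ := Spec.map a ≫ Y.fromSpecStalk y, commSq := hsq }
  have hE : ValuativeCriterion.Existence f := by
    have h := (inferInstance : UniversallyClosed f)
    rw [UniversallyClosed.eq_valuativeCriterion] at h
    exact h.1
  obtain ⟨⟨l, hl1, hl2⟩⟩ := (hE S).exists_lift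
  change Spec (CommRingCat.of R) ⟶ X at l
  refine ⟨l (IsLocalRing.closedPoint R), ?_⟩
  set b := Scheme.stalkClosedPointTo l with hb
  have hcomp : b ≫ CommRingCat.ofHom (algebraMap R X.functionField) =
      CommRingCat.ofHom (algebraMap (X.presheaf.stalk (l (IsLocalRing.closedPoint R))) X.functionField) := by
    apply Spec.map_injective
    rw [← cancel_mono (X.fromSpecStalk _), Spec.map_comp, Category.assoc, hb, Scheme.Spec_stalkClosedPointTo_fromSpecStalk]
    exact hl1.trans (Scheme.SpecMap_stalkSpecializes_fromSpecStalk ((genericPoint_spec X).specializes trivial)).symm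
  have hval : ∀ s, ((b.hom s : R) : X.functionField) =
      algebraMap (X.presheaf.stalk (l (IsLocalRing.closedPoint R))) X.functionField s :=
    fun s => congrArg (fun h => h.hom s) hcomp
  refine ⟨fun s => hval s ▸ (b.hom s : R).2, fun s hs => ?_⟩
  rw [← hval]
  refine (ValuationSubring.valuation_lt_one_iff R _).1 ?_
  exact map_nonunit b.hom s hs

end Groth.Agent.S4441
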