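import Groth.Statements.S4454
import Groth.Agent.Lib.H6.NormField
import Groth.Agent.Lib.H6.FieldNormFinite

set_option autoImplicit false
set_option backward.isDefEq.respectTransparency.types false
set_option maxHeartbeats 1000000
open Groth.Agent
set_option linter.all false
universe u
open CategoryTheory CategoryTheory.Limits AlgebraicGeometry
open EGA2

namespace Groth.Agent.S4454

/-- Case of an integral curve and a single field: let X be an integral algebraic curve over a field k, K
a finite extension of its field of rational functions and X' the integral closure of X in K (the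
normalization of X along the morphism g : Spec K ⟶ X through the generic point). Then the canonical
morphism X' ⟶ X is finite and X' is a normal algebraic curve over k (local rings integrally closed
domains, of dimension one at closed points). -/
theorem result (k : Type u) [Field k] (X : Scheme.{u})
    [X.Over (Spec (CommRingCat.of k))] [LocallyOfFiniteType (X ↘ (Spec (CommRingCat.of k)))]
    [QuasiCompact (X ↘ (Spec (CommRingCat.of k)))] [IsSeparated (X ↘ (Spec (CommRingCat.of k)))] [IsIntegral X]
    (hX : ∀ x : X, IsClosed ({x} : Set X) → ringKrullDim (X.presheaf.stalk x) = 1)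
    (K : Type u) [Field K] (φ : X.functionField →+* K) (hφ : φ.Finite) (g : Spec (CommRingCat.of K) ⟶ X)
    (hg : g = Spec.map (CommRingCat.ofHom φ) ≫ X.fromSpecStalk (genericPoint X)) [QuasiCompact g] [QuasiSeparated g] :
    IsFinite g.fromNormalization ∧ Pi1.IsNormalScheme g.normalization ∧
      ∀ x' : g.normalization, IsClosed ({x'} : Set g.normalization) → ringKrullDim (g.normalization.presheaf.stalk x') = 1 := by
  refine ⟨H6.NormField.isFinite g fun U hUa hU => ?_, H6.NormField.isNormalScheme g φ hg, fun x' hx' => H6.NormField.ringKrullDim_stalk g φ hg hX x' hx'⟩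
  haveI : Nonempty U := ⟨⟨_, hU⟩⟩
  letI := (H6.NormField.ev g U hU).toAlgebra
  letI : Algebra X.functionField K := φ.toAlgebra
  haveI : FiniteDimensional X.functionField K := hφ
  haveI := functionField_isFractionRing_of_isAffineOpen X U hUa
  haveI : IsScalarTower Γ(X, U) X.functionField K := IsScalarTower.of_algebraMap_eq fun a => by
    show H6.NormField.ev g U hU a = φ _
    rw [H6.NormField.ev_fromSpecStalk g φ hg U hU]
    rfl
  let s := X ↘ Spec (CommRingCat.of k)
  letI : Algebra k Γ(X, U) := ((Scheme.ΓSpecIso (CommRingCat.of k)).inv ≫ s.appLE ⊤ U le_top).hom.toAlgebra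
  haveI : Algebra.FiniteType k Γ(X, U) := by
    have h1 : (s.appLE ⊤ U le_top).hom.FiniteType := LocallyOfFiniteType.finiteType_appLE s (isAffineOpen_top _) hUa le_top
    exact h1.comp (RingHom.FiniteType.of_surjective _ (Scheme.ΓSpecIso (CommRingCat.of k)).symm.commRingCatIsoToRingEquiv.surjective)
  exact H6.FieldNormFinite.finite_integralClosure k Γ(X, U) X.functionField K

end Groth.Agent.S4454
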