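import Groth.Statements.S4455
import Groth.Agent.Lib.H6.NormField
import Groth.Agent.Lib.H6.FieldNormFinite

set_option autoImplicit false
set_option backward.isDefEq.respectTransparency.types false
set_option maxHeartbeats 1000000
open Groth.Agent
set_option linter.all false
universe u
open CategoryTheory CategoryTheory.Limits AlgebraicGeometry
open EGA2

namespace Groth.Agent.S4455

/-- An integral algebraic curve X over a field k is complete (proper over k) if and only if its
normalization X', with the composite structure morphism X' ⟶ X ⟶ Spec k, is proper over k. (The
quasi-compactness and quasi-separatedness binders on the morphism from the generic point always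
hold; they are needed only to form the normalization.) -/
theorem result (k : Type u) [Field k] (X : Scheme.{u})
    [X.Over (Spec (CommRingCat.of k))] [LocallyOfFiniteType (X ↘ (Spec (CommRingCat.of k)))]
    [QuasiCompact (X ↘ (Spec (CommRingCat.of k)))] [IsSeparated (X ↘ (Spec (CommRingCat.of k)))] [IsIntegral X]
    (hX : ∀ x : X, IsClosed ({x} : Set X) → ringKrullDim (X.presheaf.stalk x) = 1)
    [QuasiCompact (X.fromSpecStalk (genericPoint X))] [QuasiSeparated (X.fromSpecStalk (genericPoint X))] :
    IsProper (X ↘ (Spec (CommRingCat.of k))) ↔ IsProper (Curv2.normalizationι X ≫ (X ↘ (Spec (CommRingCat.of k)))) := by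
  let s := X ↘ Spec (CommRingCat.of k)
  let g := X.fromSpecStalk (genericPoint X)
  have hg : g = Spec.map (CommRingCat.ofHom (RingHom.id X.functionField)) ≫ X.fromSpecStalk (genericPoint X) := by simp [g]
  haveI : IsFinite g.fromNormalization := H6.NormField.isFinite g fun U hUa hU => by
    haveI : Nonempty U := ⟨⟨_, hU⟩⟩
    haveI := functionField_isFractionRing_of_isAffineOpen X U hUa
    letI : Algebra k Γ(X, U) := ((Scheme.ΓSpecIso (CommRingCat.of k)).inv ≫ s.appLE ⊤ U le_top).hom.toAlgebra
    haveI : Algebra.FiniteType k Γ(X, U) := by
      have h1 : (s.appLE ⊤ U le_top).hom.FiniteType := LocallyOfFiniteType.finiteType_appLE s (isAffineOpen_top _) hUa le_top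
      exact h1.comp (RingHom.FiniteType.of_surjective _ (Scheme.ΓSpecIso (CommRingCat.of k)).symm.commRingCatIsoToRingEquiv.surjective)
    rw [H6.NormField.ev_fromSpecStalk g (RingHom.id X.functionField) hg U hU, RingHom.id_comp]
    exact H6.FieldNormFinite.finite_integralClosure k Γ(X, U) X.functionField X.functionField
  haveI : IsFinite (Curv2.normalizationι X) := ‹IsFinite g.fromNormalization›
  constructor
  · intro h
    infer_instance
  intro h
  haveI : Surjective g.fromNormalization := ⟨fun x => by
    have h2 : genericPoint X ∈ Set.range g.fromNormalization :=
      ⟨g.toNormalization (IsLocalRing.closedPoint X.functionField),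
        (congrArg (fun k : Spec X.functionField ⟶ X => k (IsLocalRing.closedPoint X.functionField)) g.toNormalization_fromNormalization).trans Scheme.fromSpecStalk_closedPoint⟩
    exact (genericPoint_specializes x).mem_closed g.fromNormalization.isClosedMap.isClosed_range h2⟩
  haveI : Surjective (Curv2.normalizationι X) := ‹Surjective g.fromNormalization›
  haveI : UniversallyClosed s := UniversallyClosed.of_comp_surjective (Curv2.normalizationι X) s
  exact { }

end Groth.Agent.S4455
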