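import Groth.Statements.S4459
import Mathlib

set_option autoImplicit false
universe u
open Coherent

namespace Groth.Agent.S4459

open AlgebraicGeometry CategoryTheory in
/-- Let A be a Noetherian ring which is separated and complete for the J-adic topology, and let f : X →
Spec A be a morphism of schemes which is a closed map on underlying spaces. Then every open subset
of X containing the inverse image of V(J) is all of X. (The published statement also assumes X of
finite type over A; that hypothesis is not used.) -/
theorem result (A : Type u) [CommRing A] [IsNoetherianRing A]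
    (J : Ideal A) [IsAdicComplete J A] {X : Scheme.{u}} (f : X ⟶ Spec (CommRingCat.of A))
    (hf : IsClosedMap f.base) (U : X.Opens)
    (hU : f.base ⁻¹' (PrimeSpectrum.zeroLocus (J : Set A)) ⊆ (U : Set X)) : U = ⊤ := by
  by_contra hne
  have hF : IsClosed (f.base '' (U : Set X)ᶜ) := hf _ U.2.isClosed_compl
  obtain ⟨y, hy⟩ : ∃ y, y ∈ f.base '' (U : Set X)ᶜ := by
    obtain ⟨x, hx⟩ : ∃ x, x ∉ (U : Set X) := by
      by_contra h; push_neg at h
      exact hne (TopologicalSpace.Opens.ext (Set.eq_univ_of_forall h))
    exact ⟨_, x, hx, rfl⟩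
  obtain ⟨m, hm, hle⟩ := Ideal.exists_le_maximal (PrimeSpectrum.asIdeal y) (PrimeSpectrum.isPrime y).ne_top
  have hsp : (⟨m, hm.isPrime⟩ : PrimeSpectrum A) ∈ f.base '' (U : Set X)ᶜ :=
    ((PrimeSpectrum.le_iff_specializes y ⟨m, hm.isPrime⟩).1 hle).mem_closed hF hy
  obtain ⟨x, hx, hxm⟩ := hsp
  refine hx (hU ?_)
  show f.base x ∈ PrimeSpectrum.zeroLocus (J : Set A)
  rw [hxm]
  exact fun a ha => (IsAdicComplete.le_jacobson_bot (R := A) J).trans (sInf_le ⟨bot_le, hm⟩) ha

end Groth.Agent.S4459
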