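import Groth.Statements.S4469
import Mathlib
import Groth.Agent.Lib.ZmtBirational

set_option autoImplicit false
universe u
open Groth.Agent.ZmtBirational
open CAlg

namespace Groth.Agent.S4469

/-- Let A be an integrally closed Noetherian local domain with field of fractions K, B an A-algebra of
finite type which is a domain with the same field of fractions (A → B → K compatible with A → K),
and 𝔫 a maximal ideal of B lying over the maximal ideal 𝔪 of A and minimal among the prime ideals of
B lying over 𝔪. Then B = A: the structure map A → B is bijective. -/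
theorem result (A B K : Type u) [CommRing A]
    [IsDomain A] [IsNoetherianRing A] [IsLocalRing A] [IsIntegrallyClosed A] [CommRing B] [IsDomain B]
    [Field K] [Algebra A B] [Algebra B K] [Algebra A K] [IsScalarTower A B K] [IsFractionRing A K]
    [IsFractionRing B K] [Algebra.FiniteType A B] (n : Ideal B) [n.IsMaximal]
    (hn : n.comap (algebraMap A B) = IsLocalRing.maximalIdeal A)
    (hmin : ∀ q : Ideal B, q.IsPrime → q.comap (algebraMap A B) = IsLocalRing.maximalIdeal A → q ≤ n → q = n) :
    Function.Bijective (algebraMap A B) := by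
  haveI := quasiFiniteAt_of_min (IsLocalRing.maximalIdeal A) n hn hmin
  obtain ⟨r, hr, hint, hx⟩ := Algebra.zariskisMainProperty_iff.mp (Algebra.ZariskisMainProperty.of_finiteType (R := A) n)
  have key : ∀ x : B, IsIntegral A x → ∃ a, algebraMap A B a = x := fun x hx => by
    obtain ⟨a, ha⟩ := IsIntegrallyClosed.isIntegral_iff.mp (hx.map (IsScalarTower.toAlgHom A B K))
    exact ⟨a, IsFractionRing.injective B K (by rw [← IsScalarTower.algebraMap_apply]; exact ha)⟩
  obtain ⟨a, rfl⟩ := key r hint
  have ha : IsUnit a := by
    by_contra h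
    rw [← mem_nonunits_iff, ← IsLocalRing.mem_maximalIdeal, ← hn] at h
    exact hr h
  refine ⟨fun x y h => IsFractionRing.injective A K (by simpa [← IsScalarTower.algebraMap_apply] using congrArg (algebraMap B K) h), fun x => ?_⟩
  obtain ⟨m, hm⟩ := hx x
  obtain ⟨c, hc⟩ := key _ hm
  obtain ⟨u, hu⟩ := (ha.pow m).exists_right_inv
  refine ⟨u * c, ?_⟩
  rw [map_mul, hc, ← mul_assoc, ← map_pow, ← map_mul, mul_comm u, hu, map_one, one_mul]

end Groth.Agent.S4469
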