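import Groth.Statements.S4495
import Mathlib

set_option autoImplicit false
universe u
open FlatCx

namespace Groth.Agent.S4495
open CategoryTheory TopologicalSpace Opposite AlgebraicGeometry

open CategoryTheory AlgebraicGeometry Opposite in
/-- A locally ringed space Z is connected, in the sense that it is not the disjoint union of two
nonempty open subsets (the empty space being allowed), if and only if every idempotent of the ring
of global sections Γ(Z, O_Z) is 0 or 1 (equivalently, Γ(Z, O_Z) is not isomorphic to a product of
two nonzero rings). -/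
theorem result (Z : LocallyRingedSpace.{u}) :
    PreconnectedSpace Z ↔
      ∀ e : Z.presheaf.obj (op ⊤), IsIdempotentElem e → e = 0 ∨ e = 1 := by
  open CategoryTheory TopologicalSpace Opposite AlgebraicGeometry in
  constructor
  · intro hc e he
    let g := fun x : Z => (Z.presheaf.germ ⊤ x trivial).hom e
    have hid : ∀ x : Z, g x = 0 ∨ g x = 1 := fun x => by
      have h := he.map (Z.presheaf.germ ⊤ x trivial).hom
      rcases IsLocalRing.isUnit_or_isUnit_one_sub_self (g x) with hu | hu
      · exact Or.inr (hu.mul_left_cancel (h.eq.trans (mul_one (g x)).symm))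
      · exact Or.inl (sub_eq_self.1 (hu.mul_left_cancel (h.one_sub.eq.trans (mul_one (1 - g x)).symm)))
    let A : Set Z := {x | IsUnit (g x)}
    let B : Set Z := {x | IsUnit (1 - g x)}
    have hAo : IsOpen A := by
      rw [show A = ((Z.toRingedSpace.basicOpen e).1 : Set Z) from Set.ext fun x => (Z.toRingedSpace.mem_top_basicOpen e x).symm]
      exact (Z.toRingedSpace.basicOpen e).2
    have hBo : IsOpen B := by
      suffices hB : B = ((Z.toRingedSpace.basicOpen (1 - e)).1 : Set Z) by rw [hB]; exact (Z.toRingedSpace.basicOpen (1 - e)).2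
      ext x
      refine Iff.trans ?_ (Z.toRingedSpace.mem_top_basicOpen (1 - e) x).symm
      show IsUnit _ ↔ IsUnit ((Z.presheaf.germ ⊤ x trivial).hom (1 - e))
      rw [map_sub, map_one]
    have hcl : IsClopen A := by
      refine ⟨isOpen_compl_iff.1 ?_, hAo⟩
      rw [show Aᶜ = B from Set.ext fun x => by rcases hid x with h | h <;> simp [A, B, h]]
      exact hBo
    rcases isClopen_iff.1 hcl with h | h
    · left
      refine TopCat.Presheaf.section_ext Z.sheaf ⊤ e 0 fun x _ => ?_
      erw [map_zero]
      rcases hid x with h' | h'
      · exact h'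
      · have : x ∈ A := by show IsUnit (g x); rw [h']; exact isUnit_one
        rw [h] at this
        exact this.elim
    · right
      refine TopCat.Presheaf.section_ext Z.sheaf ⊤ e 1 fun x _ => ?_
      erw [map_one]
      rcases hid x with h' | h'
      · have : IsUnit (g x) := show x ∈ A from h ▸ Set.mem_univ x
        rw [h'] at this
        exact absurd this not_isUnit_zero
      · exact h'
  · intro hi
    refine preconnectedSpace_iff_clopen.2 fun s hs => ?_
    let U : Bool → Opens Z := fun b => if b then ⟨s, hs.2⟩ else ⟨sᶜ, hs.1.isOpen_compl⟩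
    let sec : ∀ b, Z.presheaf.obj (op (U b)) := fun b => if b then 1 else 0
    have hcompat : TopCat.Presheaf.IsCompatible Z.sheaf.presheaf U sec := by
      intro i j
      rcases i <;> rcases j <;> first | rfl | (
        refine TopCat.Presheaf.section_ext Z.sheaf _ _ _ fun x hx => ?_
        exfalso
        obtain ⟨h1, h2⟩ := hx
        simp [U] at h1 h2
        tauto)
    obtain ⟨e, he, -⟩ := Z.sheaf.existsUnique_gluing' U ⊤ (fun _ => homOfLE le_top)
      (fun x _ => Opens.mem_iSup.2 (by by_cases hx : x ∈ s; exacts [⟨true, hx⟩, ⟨false, hx⟩])) sec hcompat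
    have hg : ∀ x : Z, (x ∈ s → (Z.presheaf.germ ⊤ x trivial).hom e = 1) ∧ (x ∉ s → (Z.presheaf.germ ⊤ x trivial).hom e = 0) := fun x =>
      ⟨fun hx => (Z.presheaf.germ_res_apply (homOfLE le_top) x (hx : x ∈ U true) e).symm.trans ((congrArg _ (he true)).trans (map_one _)),
       fun hx => (Z.presheaf.germ_res_apply (homOfLE le_top) x (hx : x ∈ U false) e).symm.trans ((congrArg _ (he false)).trans (map_zero _))⟩
    have hid : IsIdempotentElem e := by
      refine TopCat.Presheaf.section_ext Z.sheaf ⊤ _ _ fun x _ => ?_
      show (Z.presheaf.germ ⊤ x trivial).hom (e * e) = (Z.presheaf.germ ⊤ x trivial).hom e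
      erw [map_mul]
      by_cases hx : x ∈ s
      · rw [(hg x).1 hx, mul_one]
      · rw [(hg x).2 hx, mul_zero]
    rcases hi e hid with h | h
    · refine Or.inl (Set.eq_empty_of_forall_notMem fun x hx => ?_)
      have := (hg x).1 hx
      rw [h, map_zero] at this
      exact zero_ne_one this
    · refine Or.inr (Set.eq_univ_of_forall fun x => by_contra fun hx => ?_)
      have := (hg x).2 hx
      rw [h, map_one] at this
      exact one_ne_zero this

end Groth.Agent.S4495
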