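import Groth.Statements.S4511
import Groth.Agent.Lib.H2PowerSeries
import Groth.Agent.Lib.H2CohenField
import Mathlib

set_option autoImplicit false
universe u
open EGA41

namespace Groth.Agent.S4511
open IsLocalRing
set_option backward.isDefEq.respectTransparency.types false

open IsLocalRing in
/-- Let A be a complete Noetherian local ring whose residue field has characteristic p (p = 0 allowed).
The following are equivalent: (a) A contains a field, i.e. there is a ring homomorphism from a field
into A; (b) p·1 = 0 in A; (c) A is isomorphic to a quotient of a power series ring K[[T_1, …, T_n]]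
over a field K. Moreover, when they hold, the surjection in (c) may be chosen with kernel contained
in the square of the maximal ideal of K[[T_1, …, T_n]]. -/
theorem result (A : Type u) [CommRing A] [IsLocalRing A] [IsNoetherianRing A]
    [IsAdicComplete (maximalIdeal A) A] (p : ℕ) [CharP (ResidueField A) p] :
    [∃ (K : Type u) (_ : Field K), Nonempty (K →+* A),
     (p : A) = 0,
     ∃ (K : Type u) (_ : Field K) (n : ℕ) (f : MvPowerSeries (Fin n) K →+* A), Function.Surjective f].TFAE ∧
    ((p : A) = 0 → ∃ (K : Type u) (_ : Field K) (n : ℕ) (f : MvPowerSeries (Fin n) K →+* A),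
      Function.Surjective f ∧ RingHom.ker f ≤ maximalIdeal (MvPowerSeries (Fin n) K) ^ 2) := by
  have main : (p : A) = 0 → ∃ (K : Type u) (_ : Field K) (n : ℕ) (f : MvPowerSeries (Fin n) K →+* A),
      Function.Surjective f ∧ RingHom.ker f ≤ maximalIdeal (MvPowerSeries (Fin n) K) ^ 2 := by
    intro hp0
    obtain ⟨σ, hσ⟩ : ∃ g : ResidueField A →+* A, ∀ x, residue A (g x) = x := by
      rcases CharP.char_is_prime_or_zero (ResidueField A) p with hprime | rfl
      · haveI := Fact.mk hprime
        obtain ⟨c, _⟩ := CharP.exists A
        haveI := ‹CharP A c›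
        letI : Algebra (ZMod p) A := (ZMod.castHom ((CharP.cast_eq_zero_iff A c p).1 hp0) A).toAlgebra
        exact Groth.Agent.H2CohenField.exists_section A (ZMod p)
      · haveI : CharZero (ResidueField A) := CharP.charP_to_charZero (ResidueField A)
        have hu : ∀ y : nonZeroDivisors ℤ, IsUnit (Int.castRingHom A (y : ℤ)) := fun y => by
          refine isUnit_of_map_unit (residue A) _ ?_
          show IsUnit (residue A ((y : ℤ) : A))
          rw [map_intCast]
          exact isUnit_iff_ne_zero.2 (Int.cast_ne_zero.2 (nonZeroDivisors.ne_zero y.2))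
        letI : Algebra ℚ A := (IsLocalization.lift (S := ℚ) (M := nonZeroDivisors ℤ) hu).toAlgebra
        exact Groth.Agent.H2CohenField.exists_section A ℚ
    let K := ResidueField A
    letI : Algebra K A := σ.toAlgebra
    haveI : Module.Finite K (CotangentSpace A) := inferInstance
    let b := Module.finBasis K (CotangentSpace A)
    let d := Module.finrank K (CotangentSpace A)
    choose t ht using fun i : Fin d => Ideal.toCotangent_surjective (maximalIdeal A) (b i)
    have hgen : Ideal.span (Set.range fun i => (t i : A)) = maximalIdeal A :=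
      Groth.Agent.H2PowerSeries.span_eq_maximalIdeal (fun i => (t i : A)) (fun i => (t i).2) (by
        rw [show (fun i => (maximalIdeal A).toCotangent ⟨(t i : A), (t i).2⟩) = b from funext ht]
        exact b.span_eq)
    obtain ⟨φ, hφ, -⟩ := Groth.Agent.H2PowerSeries.exists_aeval (R := K) (maximalIdeal A) (fun i => (t i : A)) fun i => (t i).2
    have hsur : Function.Surjective φ := Groth.Agent.H2PowerSeries.surjective_basis (k := K)
      (fun x => ⟨x, hσ x⟩) φ (by simp only [hφ]; exact hgen)
    refine ⟨K, inferInstance, d, φ.toRingHom, hsur, fun f hf => ?_⟩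
    rw [Groth.Agent.H2PowerSeries.maximalIdeal_eq K d]
    have hf0 : MvPowerSeries.constantCoeff f = 0 := by
      by_contra h
      have h2 := (MvPowerSeries.isUnit_iff_constantCoeff.2 (isUnit_iff_ne_zero.2 h)).map φ.toRingHom
      rw [show φ.toRingHom f = 0 from hf] at h2
      exact not_isUnit_zero h2
    have hl := Groth.Agent.H2PowerSeries.sub_lin_mem hf0
    have hmap : (Ideal.span (Set.range (MvPowerSeries.X : Fin d → MvPowerSeries (Fin d) K))).map φ.toRingHom ≤ maximalIdeal A := by
      rw [Ideal.map_span, Ideal.span_le]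
      rintro _ ⟨_, ⟨i, rfl⟩, rfl⟩
      show φ (MvPowerSeries.X i) ∈ maximalIdeal A
      rw [hφ]
      exact (t i).2
    have h2 : φ (Groth.Agent.H2PowerSeries.lin f) ∈ maximalIdeal A ^ 2 := by
      have h3 := Ideal.pow_right_mono hmap 2
      rw [← Ideal.map_pow] at h3
      have h4 := h3 (Ideal.mem_map_of_mem φ.toRingHom hl)
      rw [show φ.toRingHom (f - Groth.Agent.H2PowerSeries.lin f) = φ f - φ (Groth.Agent.H2PowerSeries.lin f) from map_sub φ _ _,
        show φ f = 0 from hf, zero_sub, neg_mem_iff] at h4
      exact h4
    let c : Fin d → K := fun j => MvPowerSeries.coeff (Finsupp.single j 1) f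
    have hsum : φ (Groth.Agent.H2PowerSeries.lin f) = (((∑ j, σ (c j) • t j : maximalIdeal A)) : A) := by
      rw [Groth.Agent.H2PowerSeries.lin, map_sum, AddSubmonoidClass.coe_finsetSum]
      refine Finset.sum_congr rfl fun j _ => ?_
      rw [map_mul, hφ]
      show φ (MvPowerSeries.C (c j)) * _ = σ (c j) * (t j : A)
      rw [show φ (MvPowerSeries.C (c j)) = σ (c j) from φ.commutes (c j)]
    have h5 : (maximalIdeal A).toCotangent (∑ j, σ (c j) • t j) = 0 := by
      rw [Ideal.toCotangent_eq_zero, ← hsum]
      exact h2
    have h7 : ∀ j, c j = 0 := Fintype.linearIndependent_iff.1 b.linearIndependent c (by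
      rw [← h5, map_sum]
      refine Finset.sum_congr rfl fun j _ => ?_
      rw [map_smul, ht]
      conv_lhs => rw [← hσ (c j)]
      rfl)
    rw [← sub_add_cancel f (Groth.Agent.H2PowerSeries.lin f), show Groth.Agent.H2PowerSeries.lin f = 0 from
      Finset.sum_eq_zero fun j _ => by rw [show MvPowerSeries.coeff (Finsupp.single j 1) f = 0 from h7 j, map_zero, zero_mul],
      add_zero]
    rw [show f - Groth.Agent.H2PowerSeries.lin f = f from by
      rw [show Groth.Agent.H2PowerSeries.lin f = 0 from
        Finset.sum_eq_zero fun j _ => by rw [show MvPowerSeries.coeff (Finsupp.single j 1) f = 0 from h7 j, map_zero, zero_mul], sub_zero]] at hl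
    simpa using hl
  refine ⟨?_, main⟩
  tfae_have 1 → 2 := by
    rintro ⟨K, _, ⟨i⟩⟩
    haveI : CharP K p := ((residue A).comp i).charP ((residue A).comp i).injective p
    rw [← map_natCast i, CharP.cast_eq_zero K p, map_zero]
  tfae_have 2 → 3 := fun h => by
    obtain ⟨K, hK, n, f, hf, -⟩ := main h
    exact ⟨K, hK, n, f, hf⟩
  tfae_have 3 → 1 := by
    rintro ⟨K, hK, n, f, hf⟩
    exact ⟨K, hK, ⟨f.comp MvPowerSeries.C⟩⟩
  tfae_finish

end Groth.Agent.S4511
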