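import Groth.Statements.S9444
import Mathlib
import Groth.Agent.Lib.H2CohenField

set_option autoImplicit false
universe u
open CAlg

namespace Groth.Agent.S9444
set_option backward.isDefEq.respectTransparency.types false

/-- A complete regular local ring containing a field (that is, containing the prime field F_p or ℚ) is
isomorphic to a power series ring in finitely many variables over its residue field (existence of an
isomorphism only). -/
theorem result (R : Type u)
    [CommRing R] [IsRegularLocalRing R] [IsAdicComplete (IsLocalRing.maximalIdeal R) R]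
    (k₀ : Type u) [Field k₀] [Algebra k₀ R] :
    ∃ d : ℕ, Nonempty (R ≃+* MvPowerSeries (Fin d) (IsLocalRing.ResidueField R)) := by
  obtain ⟨g, hg⟩ := Groth.Agent.H2CohenField.exists_section R k₀
  let k := IsLocalRing.ResidueField R
  letI : Algebra k R := g.toAlgebra
  obtain ⟨s, hcard, hspan⟩ := Submodule.FG.exists_span_set_encard_eq_spanFinrank
    (IsLocalRing.maximalIdeal R).fg_of_isNoetherianRing
  have hfin : s.Finite := Set.finite_of_encard_eq_coe hcard
  haveI := hfin.fintype
  let d := (IsLocalRing.maximalIdeal R).spanFinrank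
  have hcd : Fintype.card s = d := by
    rw [← Set.toFinset_card, ← Set.ncard_eq_toFinset_card', Set.ncard_def, hcard]
    rfl
  let e := (Fintype.equivFinOfCardEq hcd).symm
  have hrange : Set.range (fun i => ((e i : s) : R)) = s := by
    ext x
    exact ⟨by rintro ⟨i, rfl⟩; exact (e i).2, fun hx => ⟨e.symm ⟨x, hx⟩, by simp⟩⟩
  obtain ⟨φ, hφ, -⟩ := Groth.Agent.H2PowerSeries.exists_aeval (R := k) (IsLocalRing.maximalIdeal R) (fun i => ((e i : s) : R))
    (fun i => hspan ▸ Submodule.subset_span (e i).2)
  have hgen : Ideal.span (Set.range fun i => φ (MvPowerSeries.X i)) = IsLocalRing.maximalIdeal R := by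
    simp only [hφ]
    rw [hrange]
    exact hspan
  exact ⟨d, ⟨(AlgEquiv.ofBijective φ ((Groth.Agent.H2PowerSeries.bijective_iff (fun x => ⟨x, hg x⟩) φ hgen rfl).1 inferInstance)).symm.toRingEquiv⟩⟩

end Groth.Agent.S9444
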