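import Groth.Statements.S4512
import Groth.Prelude.Def_CAlgX
import Groth.Prelude.Def_Found
import Groth.Agent.Lib.H2GeomRegular
import Groth.Agent.S9444
import Mathlib

set_option autoImplicit false
universe u
open EGA41

namespace Groth.Agent.S4512
open IsLocalRing
set_option backward.isDefEq.respectTransparency.types false

open IsLocalRing in
/-- Let k be a field and A a Noetherian local k-algebra with residue field K, and suppose A is formally
smooth over k for the adic topology of its maximal ideal (k discrete). Then A is geometrically
regular over k, i.e. A ⊗_k k' is a regular ring for every finite extension k' of k; and the adic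
completion of A is isomorphic, as a ring, to a power series ring K[[T_1, …, T_n]] (existence of a
ring isomorphism; no compatibility with k is asserted, and none holds in general when K is
inseparable over k). -/
theorem result {k A : Type u} [Field k] [CommRing A]
    [IsLocalRing A] [IsNoetherianRing A] [Algebra k A] (h : CAlgX.IsAdicFormallySmooth k A (maximalIdeal A)) :
    CAlg.IsGeometricallyRegular k A ∧
      ∃ n : ℕ, Nonempty (AdicCompletion (maximalIdeal A) A ≃+* MvPowerSeries (Fin n) (ResidueField A)) := by
  refine ⟨Groth.Agent.H2GeomRegular.isGeometricallyRegular_of_adicFS h, ?_⟩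
  haveI : IsRegularLocalRing A := Groth.Agent.H2AdicFSField.isRegularLocalRing_of_adicFS h
  let Ah := AdicCompletion (maximalIdeal A) A
  haveI : IsNoetherianRing Ah := Groth.Agent.CompletionDim.completion_noetherian
  haveI : IsRegularLocalRing Ah := (Groth.Agent.S0548.result A).1 inferInstance
  obtain ⟨d, ⟨e⟩⟩ := Groth.Agent.S9444.result Ah k
  let r : ResidueField A ≃+* ResidueField Ah := RingEquiv.ofBijective (ResidueField.map (algebraMap A Ah))
    (AdicCompletion.residueField_map_bijective_of_fg (maximalIdeal A).fg_of_isNoetherianRing)
  let m : MvPowerSeries (Fin d) (ResidueField Ah) ≃+* MvPowerSeries (Fin d) (ResidueField A) :=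
    RingEquiv.ofRingHom (MvPowerSeries.map r.symm.toRingHom) (MvPowerSeries.map r.toRingHom)
      (RingHom.ext fun f => MvPowerSeries.ext fun n => r.symm_apply_apply _)
      (RingHom.ext fun f => MvPowerSeries.ext fun n => r.apply_symm_apply _)
  exact ⟨d, ⟨e.trans m⟩⟩

end Groth.Agent.S4512
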