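import Groth.Statements.S4513
import Groth.Prelude.Def_CAlgX
import Groth.Prelude.Def_EGA41
import Groth.Agent.Lib.H2GeomRed
import Groth.Agent.Lib.H2CohenField
import Groth.Agent.Lib.H2AdicLift
import Groth.Agent.Lib.H2AdicNilp
import Groth.Agent.Lib.CohenRing
import Mathlib

set_option autoImplicit false
universe u
open EGA41

namespace Groth.Agent.S4513
open IsLocalRing
set_option backward.isDefEq.respectTransparency.types false

open IsLocalRing in
/-- Let A be a Noetherian local ring and k a field mapping to A such that A is formally smooth over k
for the adic topology of its maximal ideal (k discrete). Then every field K with k → K → A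
(compatible ring maps) is a separable extension of k, i.e. K is geometrically reduced over k. -/
theorem result {k A K : Type u} [Field k] [CommRing A]
    [IsLocalRing A] [IsNoetherianRing A] [Algebra k A] (h : CAlgX.IsAdicFormallySmooth k A (maximalIdeal A))
    [Field K] [Algebra k K] [Algebra K A] [IsScalarTower k K A] :
    Algebra.IsGeometricallyReduced k K := by
  let L := ResidueField A
  haveI : IsScalarTower k A L := IsScalarTower.of_algebraMap_eq' rfl
  haveI : IsScalarTower K A L := IsScalarTower.of_algebraMap_eq' rfl
  haveI : IsScalarTower k K L := IsScalarTower.of_algebraMap_eq fun x => by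
    show residue A (algebraMap k A x) = residue A (algebraMap K A (algebraMap k K x))
    rw [← IsScalarTower.algebraMap_apply]
  refine Groth.Agent.H2GeomRed.geometricallyReduced_of_derivations k K L fun δ => ?_
  obtain ⟨D, hD⟩ := Groth.Agent.H2GeomRed.exists_derivation k A L (fun E _ _ π hπ hsq => by
    let e : (E ⧸ RingHom.ker π.toRingHom) ≃ₐ[k] L := Ideal.quotientKerAlgEquivOfSurjective hπ
    obtain ⟨g, hg⟩ := h E (RingHom.ker π.toRingHom) hsq (e.symm.toAlgHom.comp (IsScalarTower.toAlgHom k A L)) ⟨1, fun x hx => by
      show e.symm (residue A x) = 0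
      rw [(residue_eq_zero_iff x).2 (by simpa using hx), map_zero]⟩
    refine ⟨g, AlgHom.ext fun y => ?_⟩
    have h2 := congrArg e (AlgHom.congr_fun hg y)
    simp only [AlgHom.comp_apply, AlgEquiv.toAlgHom_apply, AlgEquiv.apply_symm_apply] at h2
    exact h2) δ
  refine ⟨D.compAlgebraMap K, fun x => ?_⟩
  show D (algebraMap K A (algebraMap k K x)) = _
  rw [← IsScalarTower.algebraMap_apply, hD]

end Groth.Agent.S4513
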