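import Groth.Statements.S4517
import Mathlib


set_option autoImplicit false
universe u
open EGA41

namespace Groth.Agent.S4517

/-- Let p be a prime, B an A-algebra of characteristic p, and suppose there is s ≥ 0 such that b^(p^s)
lies in the image of A for every b ∈ B. Then the kernel of the multiplication map B ⊗_A B → B is a
nil ideal. -/
theorem result (p : ℕ) [Fact p.Prime] {A B : Type u}
    [CommRing A] [CommRing B] [Algebra A B] [CharP B p] (s : ℕ)
    (hpow : ∀ b : B, b ^ p ^ s ∈ Set.range (algebraMap A B)) :
    ∀ x ∈ KaehlerDifferential.ideal A B, IsNilpotent x := by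
  intro x hx
  rw [← mem_nilradical]
  have hle : KaehlerDifferential.ideal A B ≤ nilradical (TensorProduct A B B) := by
    rw [← KaehlerDifferential.span_range_eq_ideal, Ideal.span_le]
    rintro _ ⟨b, rfl⟩
    refine mem_nilradical.mpr ⟨p ^ s, ?_⟩
    rcases subsingleton_or_nontrivial (TensorProduct A B B) with h | h
    · exact Subsingleton.elim _ _
    haveI : CharP (TensorProduct A B B) p := (CharP.charP_iff_prime_eq_zero Fact.out).mpr (by
      rw [← map_natCast (Algebra.TensorProduct.includeLeftRingHom : B →+* TensorProduct A B B) p,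
        CharP.cast_eq_zero, map_zero])
    haveI : ExpChar (TensorProduct A B B) p := ExpChar.prime Fact.out
    obtain ⟨a, ha⟩ := hpow b
    show (TensorProduct.tmul A (1 : B) b - TensorProduct.tmul A b (1 : B)) ^ p ^ s = 0
    rw [sub_pow_expChar_pow, Algebra.TensorProduct.tmul_pow, Algebra.TensorProduct.tmul_pow, one_pow,
      ← ha, Algebra.algebraMap_eq_smul_one, TensorProduct.tmul_smul, TensorProduct.smul_tmul', sub_self]
  exact hle hx

end Groth.Agent.S4517
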