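import Groth.Statements.S4524
import Mathlib


set_option autoImplicit false
universe u
open EGA41

namespace Groth.Agent.S4524

/-- Let k be a field of characteristic 0 and K an extension of k. Then Ω_{K/k} = 0 if and only if K is
an algebraic extension of k. -/
theorem result {k K : Type u} [Field k] [CharZero k] [Field K] [Algebra k K] :
    Subsingleton (Ω[K⁄k]) ↔ Algebra.IsAlgebraic k K := by
  constructor
  · intro h
    obtain ⟨ι, x, hx⟩ := exists_isTranscendenceBasis' k K
    rcases isEmpty_or_nonempty ι with hι | ⟨⟨i⟩⟩
    · exact hx.isEmpty_iff_isAlgebraic.mp hι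
    · exfalso
      let F := IntermediateField.adjoin k (Set.range x)
      haveI : Algebra.IsAlgebraic F K := hx.isAlgebraic_field
      let φ : MvPolynomial ι k →ₐ[k] F := MvPolynomial.aeval fun i => ⟨x i, IntermediateField.subset_adjoin k _ ⟨i, rfl⟩⟩
      letI := φ.toRingHom.toAlgebra
      haveI : IsScalarTower k (MvPolynomial ι k) F := IsScalarTower.of_algebraMap_eq fun c => (φ.commutes c).symm
      haveI : IsFractionRing (MvPolynomial ι k) F := by
        refine IsLocalization.isLocalization_of_algEquiv (nonZeroDivisors (MvPolynomial ι k))
          (AlgEquiv.ofRingEquiv (f := hx.1.aevalEquivField.toRingEquiv) fun P => ?_)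
        apply Subtype.ext
        refine (hx.1.aevalEquivField_algebraMap_apply_coe P).trans ?_
        show MvPolynomial.aeval x P = (φ P : K)
        refine (DFunLike.congr_fun (MvPolynomial.algHom_ext (f := F.val.comp φ) (g := MvPolynomial.aeval x) fun j => ?_) P).symm
        simp [φ]
      haveI : Algebra.FormallyEtale (MvPolynomial ι k) F :=
        Algebra.FormallyEtale.of_isLocalization (nonZeroDivisors _)
      haveI : Algebra.FormallyEtale F K := Algebra.FormallyEtale.of_isSeparable F K
      have e1 := KaehlerDifferential.tensorKaehlerEquivOfFormallyEtale k F K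
      have e2 := KaehlerDifferential.tensorKaehlerEquivOfFormallyEtale k (MvPolynomial ι k) F
      haveI : Subsingleton (TensorProduct F K (Ω[F⁄k])) := e1.toEquiv.subsingleton
      haveI : Subsingleton (Ω[F⁄k]) := (Module.FaithfullyFlat.subsingleton_tensorProduct_iff_right F K).mp inferInstance
      haveI : Subsingleton (TensorProduct (MvPolynomial ι k) F (Ω[MvPolynomial ι k⁄k])) := e2.toEquiv.subsingleton
      have b := (KaehlerDifferential.mvPolynomialBasis k ι).baseChange F
      exact b.ne_zero i (Subsingleton.elim _ _)
  · intro h
    haveI : Algebra.IsSeparable k K := inferInstance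
    haveI := Algebra.FormallyUnramified.of_isSeparable k K
    infer_instance

end Groth.Agent.S4524
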