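import Groth.Statements.S4529
import Mathlib

set_option autoImplicit false
set_option backward.isDefEq.respectTransparency.types false
set_option maxHeartbeats 1000000
set_option linter.all false
universe u
open EGA41

namespace Groth.Agent.S4529
open Groth.Agent

/-- Let A be a ring, M, N two A-modules with N projective, u : M → N a homomorphism and J an ideal of A;
suppose either (i) J is nilpotent, or (ii) J is contained in the Jacobson radical of A and M is of
finite type. Then u is left invertible if and only if the induced map u₀ : M/JM → N/JN is left
invertible. (A left inverse of u₀ composed with N → N/JN is an A-linear map v : N → M/JM with v ∘ u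
the projection, and conversely; the right-hand side is written in that form.) -/
theorem result {A : Type u} [CommRing A] {M N : Type u} [AddCommGroup M] [Module A M]
    [AddCommGroup N] [Module A N] [Module.Projective A N] (u : M →ₗ[A] N) (J : Ideal A)
    (hJ : IsNilpotent J ∨ (J ≤ (⊥ : Ideal A).jacobson ∧ Module.Finite A M)) :
    (∃ w : N →ₗ[A] M, w ∘ₗ u = LinearMap.id) ↔
      ∃ v : N →ₗ[A] M ⧸ (J • ⊤ : Submodule A M), v ∘ₗ u = (J • ⊤ : Submodule A M).mkQ := by
  constructor
  · rintro ⟨w, hw⟩
    exact ⟨(J • ⊤ : Submodule A M).mkQ ∘ₗ w, by rw [LinearMap.comp_assoc, hw, LinearMap.comp_id]⟩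
  · rintro ⟨v, hv⟩
    obtain ⟨w, hw⟩ := Module.projective_lifting_property (J • ⊤ : Submodule A M).mkQ v (Submodule.mkQ_surjective _)
    let φ : Module.End A M := w ∘ₗ u
    have hφ : ∀ m, φ m - m ∈ (J • ⊤ : Submodule A M) := fun m => by
      rw [← Submodule.Quotient.eq]
      exact (DFunLike.congr_fun hw (u m)).trans (DFunLike.congr_fun hv m)
    have hbij : Function.Bijective φ := by
      rcases hJ with ⟨k, hk⟩ | ⟨hj, hfin⟩
      · rw [← Module.End.isUnit_iff]
        have hpow : ∀ i m, ((φ - 1) ^ i) m ∈ (J ^ i • ⊤ : Submodule A M) := by
          intro i
          induction i with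
          | zero => intro m; simp
          | succ i ih =>
            intro m
            rw [pow_succ (φ - 1), Module.End.mul_apply]
            have hle : (J • ⊤ : Submodule A M) ≤ Submodule.comap ((φ - 1) ^ i) (J ^ (i + 1) • ⊤) := by
              rw [Submodule.smul_le]
              intro r hr x _
              rw [Submodule.mem_comap, map_smul, pow_succ', ← smul_eq_mul, Submodule.smul_assoc]
              exact Submodule.smul_mem_smul hr (ih x)
            exact hle (hφ m)
        have hnil : IsNilpotent (φ - 1) := ⟨k, LinearMap.ext fun m => by
          have := hpow k m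
          rw [hk] at this
          simpa using this⟩
        simpa using hnil.isUnit_one_add
      · haveI := hfin
        have hsur : Function.Surjective φ := by
          rw [← LinearMap.range_eq_top, eq_top_iff]
          refine Submodule.le_of_le_smul_of_le_jacobson_bot (Module.finite_def.1 hfin) hj ?_
          intro m _
          rw [show m = φ m + -(φ m - m) by abel]
          exact Submodule.add_mem_sup ⟨m, rfl⟩ (Submodule.neg_mem _ (hφ m))
        exact ⟨OrzechProperty.injective_of_surjective_endomorphism φ hsur, hsur⟩
    exact ⟨(LinearEquiv.ofBijective φ hbij).symm.toLinearMap ∘ₗ w, LinearMap.ext fun m => (LinearEquiv.ofBijective φ hbij).symm_apply_apply m⟩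

end Groth.Agent.S4529
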