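import Groth.Statements.S4533
import Groth.Prelude.Def_EGA41
import Groth.Agent.Lib.H2AdicLift
import Groth.Agent.Lib.H2PowerSeries
import Mathlib

set_option autoImplicit false
universe u
open EGA41

namespace Groth.Agent.S4533
open TensorProduct
open IsLocalRing
set_option backward.isDefEq.respectTransparency.types false

/-- Let A carry the 𝔞-adic topology and let B = A[[T_1, …, T_n]] carry the product topology, i.e. the
adic topology of the ideal 𝔞B + (T_1, …, T_n) (the kernel of the constant-coefficient map added to
the extension of 𝔞). Then B is a formally smooth A-algebra for these topologies. (The published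
statement allows any linearly topologized base ring and any set of indeterminates with the product
topology; this row takes an adic base and finitely many indeterminates, where the product topology
is adic.) -/
theorem result (A : Type u) [CommRing A] (𝔞 : Ideal A) (n : ℕ) :
    EGA41.IsFormallySmoothAdic A 𝔞 (MvPowerSeries (Fin n) A)
      (𝔞.map (MvPowerSeries.C : A →+* MvPowerSeries (Fin n) A) ⊔
        RingHom.ker (MvPowerSeries.constantCoeff : MvPowerSeries (Fin n) A →+* A)) := by
  intro C _ _ J hJ h𝔞 u hu
  obtain ⟨m, hm⟩ := hJ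
  obtain ⟨k, hk⟩ := hu
  choose c hc using fun i => Ideal.Quotient.mk_surjective (u (MvPowerSeries.X i))
  have hnil : ∀ i, IsNilpotent (c i) := fun i => ⟨k * m, by
    have h0 : c i ^ k ∈ J := by
      rw [← Ideal.Quotient.eq_zero_iff_mem, map_pow, hc, ← map_pow]
      exact hk _ (Ideal.pow_mem_pow (Submodule.mem_sup_right (MvPowerSeries.constantCoeff_X i)) k)
    have := Ideal.pow_mem_pow h0 m
    rw [hm, Ideal.zero_eq_bot, Ideal.mem_bot, ← pow_mul] at this
    exact this⟩
  let I : Ideal C := Ideal.span (Set.range c)
  have hIfg : I.FG := Submodule.fg_span (Set.finite_range c)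
  have hIle : I ≤ nilradical C := Ideal.span_le.2 (by rintro _ ⟨i, rfl⟩; exact hnil i)
  obtain ⟨N, hN⟩ := (Ideal.FG.isNilpotent_iff_le_nilradical hIfg).2 hIle
  haveI := Groth.Agent.H2PowerSeries.isAdicComplete_of_pow I hN
  obtain ⟨φ, hφ, -⟩ := Groth.Agent.H2PowerSeries.exists_aeval (R := A) I c fun i => Ideal.subset_span ⟨i, rfl⟩
  refine ⟨φ, ?_⟩
  haveI := Groth.Agent.H2PowerSeries.isAdicComplete_of_pow (N := N) (I.map (Ideal.Quotient.mk J))
    (by rw [← Ideal.map_pow, hN, Ideal.zero_eq_bot, Ideal.map_bot])
  refine Groth.Agent.H2PowerSeries.ext_of_X (I.map (Ideal.Quotient.mk J)) (fun i => ?_) fun i => ?_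
  · show Ideal.Quotient.mk J (φ (MvPowerSeries.X i)) ∈ _
    rw [hφ]
    exact Ideal.mem_map_of_mem _ (Ideal.subset_span ⟨i, rfl⟩)
  · show Ideal.Quotient.mk J (φ (MvPowerSeries.X i)) = _
    rw [hφ, hc]

end Groth.Agent.S4533
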