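import Groth.Statements.S4534
import Groth.Prelude.Def_EGA41
import Groth.Agent.Lib.H2AdicLift
import Groth.Agent.Lib.H2PowerSeries
import Mathlib

set_option autoImplicit false
universe u
open EGA41

namespace Groth.Agent.S4534
open TensorProduct
open IsLocalRing
set_option backward.isDefEq.respectTransparency.types false

/-- Let A → B → C be continuous homomorphisms of adic rings (A with the 𝔞-adic, B the 𝔟-adic, C the
𝔠-adic topology; continuity: a power of 𝔞 maps into 𝔟 and a power of 𝔟 into 𝔠). If B is formally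
smooth over A and C formally smooth over B, then C is formally smooth over A. -/
theorem result {A B C : Type u} [CommRing A] [CommRing B] [CommRing C] [Algebra A B] [Algebra B C]
    [Algebra A C] [IsScalarTower A B C] (𝔞 : Ideal A) (𝔟 : Ideal B) (𝔠 : Ideal C)
    (hAB : ∃ k : ℕ, (𝔞 ^ k).map (algebraMap A B) ≤ 𝔟) (hBC : ∃ k : ℕ, (𝔟 ^ k).map (algebraMap B C) ≤ 𝔠)
    (hB : EGA41.IsFormallySmoothAdic A 𝔞 B 𝔟) (hC : EGA41.IsFormallySmoothAdic B 𝔟 C 𝔠) :
    EGA41.IsFormallySmoothAdic A 𝔞 C 𝔠 := by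
  intro D _ _ J hJ h𝔞 u hu
  obtain ⟨l, hl⟩ := hJ
  obtain ⟨m, hm⟩ := hu
  obtain ⟨k, hk⟩ := hBC
  let uB : B →ₐ[A] D ⧸ J := u.comp (IsScalarTower.toAlgHom A B C)
  have hm' : ∀ x ∈ 𝔟 ^ (k * m), uB x = 0 := fun x hx => hm _ (by
    refine Ideal.pow_right_mono hk m ?_
    rw [← Ideal.map_pow, ← pow_mul]
    exact Ideal.mem_map_of_mem _ hx)
  obtain ⟨vB, hvB⟩ := hB D J ⟨l, hl⟩ h𝔞 uB ⟨_, hm'⟩
  letI : Algebra B D := vB.toRingHom.toAlgebra
  haveI : IsScalarTower A B D := IsScalarTower.of_algebraMap_eq fun a => (vB.commutes a).symm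
  have hb : ∃ j, (𝔟 ^ j).map (algebraMap B D) = ⊥ := ⟨k * m * l, by
    refine le_bot_iff.1 ?_
    rw [pow_mul, Ideal.map_pow, ← Ideal.zero_eq_bot, ← hl]
    refine Ideal.pow_right_mono (Ideal.map_le_iff_le_comap.2 fun x hx => ?_) l
    show algebraMap B D x ∈ J
    exact (Ideal.Quotient.eq_zero_iff_mem (I := J)).1 ((AlgHom.congr_fun hvB x).trans (hm' x hx))⟩
  let u' : C →ₐ[B] D ⧸ J := { u.toRingHom with commutes' := fun b => (AlgHom.congr_fun hvB b).symm }
  obtain ⟨v, hv⟩ := hC D J ⟨l, hl⟩ hb u' ⟨m, hm⟩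
  exact ⟨v.restrictScalars A, AlgHom.ext fun x => AlgHom.congr_fun hv x⟩

end Groth.Agent.S4534
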