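import Groth.Statements.S4537
import Mathlib


set_option autoImplicit false
universe u
open EGA41

namespace Groth.Agent.S4537

/-- For a discrete base and an adic algebra: let A be a discrete ring and B an A-algebra with the 𝔫-adic
topology. If every continuous A-algebra map from B to a quotient C/J with J² = 0 lifts to C, then
the same holds for every nilpotent J; hence the square-zero and the nilpotent forms of adic formal
smoothness agree. -/
theorem result {A B : Type u} [CommRing A] [CommRing B] [Algebra A B]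
    (𝔫 : Ideal B) :
    CAlgX.IsAdicFormallySmooth A B 𝔫 ↔ EGA41.IsFormallySmoothAdic A ⊥ B 𝔫 := by
  constructor
  · intro h C _ _ J hJ _hk u hu
    clear _hk
    have hJ' := hJ
    revert hJ' u hu
    revert ‹Algebra A C›
    apply Ideal.IsNilpotent.induction_on (S := C) J hJ
    · intro C _ I hI _ u hu _; exact h C I hI u hu
    · intro C _ I K hIK h₁ h₂ _ u hu hK
      obtain ⟨m, hm⟩ := hK
      obtain ⟨k, hk⟩ := hu
      have hKm : (K.map (Ideal.Quotient.mk I)) ^ m = ⊥ := by
        rw [← Ideal.map_pow, hm, Ideal.zero_eq_bot, Ideal.map_bot]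
      have hIm : I ^ m = ⊥ := eq_bot_iff.mpr ((Ideal.pow_right_mono hIK m).trans hm.le)
      let e : ((C ⧸ I) ⧸ K.map (Ideal.Quotient.mk I)) ≃ₐ[A] C ⧸ K :=
        { (DoubleQuot.quotQuotEquivQuotSup I K).trans
            (Ideal.quotEquivOfEq (sup_eq_right.mpr hIK)) with
          commutes' := fun x => rfl }
      obtain ⟨g', hg'⟩ := h₂ (e.symm.toAlgHom.comp u) ⟨k, fun x hx => by simp [hk x hx]⟩ ⟨m, hKm⟩
      have hg'' : ∀ b, Ideal.Quotient.mk (K.map (Ideal.Quotient.mk I)) (g' b) = e.symm (u b) :=
        fun b => AlgHom.congr_fun hg' b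
      have hle : (𝔫 ^ k).map g' ≤ K.map (Ideal.Quotient.mk I) := by
        rw [Ideal.map_le_iff_le_comap]
        intro x hx
        rw [Ideal.mem_comap, ← Ideal.Quotient.eq_zero_iff_mem, hg'' x, hk x hx, map_zero]
      obtain ⟨g, hg⟩ := h₁ g' ⟨k * m, fun x hx => by
        have h2 : g' x ∈ (K.map (Ideal.Quotient.mk I)) ^ m := Ideal.pow_right_mono hle m (by
          rw [← Ideal.map_pow, ← pow_mul]; exact Ideal.mem_map_of_mem g' hx)
        rwa [hKm] at h2⟩ ⟨m, hIm⟩
      refine ⟨g, AlgHom.ext fun b => ?_⟩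
      apply e.symm.injective
      rw [← hg'' b, ← AlgHom.congr_fun hg b]
      exact (congrArg e.symm (show Ideal.Quotient.mk K (g b) =
        e (Ideal.Quotient.mk _ (Ideal.Quotient.mk I (g b))) from rfl)).trans (e.symm_apply_apply _)
  · intro h C _ _ J hJ u hu
    exact h C J ⟨2, hJ⟩ ⟨1, by simp⟩ u hu

end Groth.Agent.S4537
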