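import Groth.Statements.S4539
import Groth.Prelude.Def_CAlgX
import Groth.Prelude.Def_EGA41
import Groth.Agent.Lib.H2GeomRed
import Groth.Agent.Lib.H2CohenField
import Groth.Agent.Lib.H2AdicLift
import Groth.Agent.Lib.H2AdicNilp
import Groth.Agent.Lib.CohenRing
import Mathlib

set_option autoImplicit false
universe u
open EGA41

namespace Groth.Agent.S4539
open IsLocalRing
set_option backward.isDefEq.respectTransparency.types false

open IsLocalRing in
/-- Let A be a local ring with residue characteristic p (p = 0 or a prime), P the prime local ring ℤ_(p)
(ℚ if p = 0) and P → A its unique local homomorphism. Then A is a Cohen ring, i.e. a Cohen P-algebra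
— Noetherian and complete, flat over P, with pA its maximal ideal (and residue field separable over
the prime field) — if and only if A is a field of characteristic 0 or a complete discrete valuation
ring of residue characteristic > 0 whose maximal ideal is generated by p·1. -/
theorem result (p : ℕ) [hp : (Ideal.span {(p : ℤ)}).IsPrime]
    {A : Type} [CommRing A] [IsLocalRing A] [CharP (ResidueField A) p]
    [Algebra (Localization.AtPrime (Ideal.span {(p : ℤ)})) A]
    [IsLocalHom (algebraMap (Localization.AtPrime (Ideal.span {(p : ℤ)})) A)] :
    EGA41.IsCohenAlgebra (Localization.AtPrime (Ideal.span {(p : ℤ)})) A ↔ EGA41.IsCohenRingEGA A := by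
  haveI := hp
  let R := Localization.AtPrime (Ideal.span {(p : ℤ)})
  let k := ResidueField R
  let K := ResidueField A
  haveI : IsNoetherianRing R := IsLocalization.isNoetherianRing (Ideal.span {(p : ℤ)}).primeCompl R inferInstance
  haveI : IsDomain R := IsLocalization.isDomain_of_le_nonZeroDivisors (S := R) (M := (Ideal.span {(p : ℤ)}).primeCompl) (Ideal.primeCompl_le_nonZeroDivisors _)
  have hmR : maximalIdeal R = Ideal.span {(p : R)} := by
    rw [← IsLocalization.AtPrime.map_eq_maximalIdeal (Ideal.span {(p : ℤ)}) R, Ideal.map_span, Set.image_singleton, map_natCast]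
  have hmA : (maximalIdeal R).map (algebraMap R A) = Ideal.span {(p : A)} := by
    rw [hmR, Ideal.map_span, Set.image_singleton, map_natCast]
  haveI hperf : PerfectField k := by
    rcases Nat.eq_zero_or_pos p with rfl | hp0
    · haveI : CharZero R := charZero_of_injective_ringHom (f := algebraMap ℤ R) (IsLocalization.injective (M := (Ideal.span {((0 : ℕ) : ℤ)}).primeCompl) R (Ideal.primeCompl_le_nonZeroDivisors _))
      have : maximalIdeal R = ⊥ := hmR.trans (by simp)
      haveI : CharZero k := charZero_of_inj_zero fun n hn => by
        rw [← map_natCast (residue R), residue_eq_zero_iff, this, Ideal.mem_bot] at hn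
        exact_mod_cast hn
      infer_instance
    · have hpp : p.Prime := by
        have h1 := (Ideal.span_singleton_prime (by exact_mod_cast hp0.ne' : (p : ℤ) ≠ 0)).1 hp
        exact Nat.prime_iff_prime_int.2 h1
      haveI := Fact.mk hpp
      haveI : CharP k p := by
        refine (CharP.charP_iff_prime_eq_zero hpp).2 ?_
        rw [← map_natCast (residue R), residue_eq_zero_iff, hmR]
        exact Ideal.mem_span_singleton_self _
      have hsurj : Function.Surjective (ZMod.castHom (dvd_refl p) k) := fun y => by
        obtain ⟨x, rfl⟩ := residue_surjective y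
        obtain ⟨⟨a, s⟩, hs⟩ := IsLocalization.surj (Ideal.span {(p : ℤ)}).primeCompl x
        have hs' : residue R x * ((s : ℤ) : k) = (a : k) := by
          have := congrArg (residue R) hs
          simpa using this
        have hs0 : ((s : ℤ) : k) ≠ 0 := fun h0 => s.2 (by
          rw [CharP.intCast_eq_zero_iff k p] at h0
          exact Ideal.mem_span_singleton.2 h0)
        refine ⟨(a : ZMod p) / ((s : ℤ) : ZMod p), ?_⟩
        rw [map_div₀, map_intCast, map_intCast, div_eq_iff hs0, hs']
      haveI : Finite k := Finite.of_surjective _ hsurj
      infer_instance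
  constructor
  · rintro ⟨-, hN, hc, hflat, hm, -⟩
    haveI := hN; haveI := hc; haveI := hflat
    rw [hmA] at hm
    rcases Nat.eq_zero_or_pos p with rfl | hp0
    · left
      rw [Nat.cast_zero, Ideal.span_singleton_zero] at hm
      refine ⟨IsLocalRing.isField_iff_maximalIdeal_eq.2 hm.symm, ?_⟩
      haveI : CharZero K := CharP.charP_to_charZero K
      exact charZero_of_inj_zero fun n hn => by
        have h1 := congrArg (residue A) hn
        rw [map_natCast, map_zero] at h1
        exact_mod_cast h1
    · right
      have hpp : p.Prime := by
        have h1 := (Ideal.span_singleton_prime (by exact_mod_cast hp0.ne' : (p : ℤ) ≠ 0)).1 hp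
        exact Nat.prime_iff_prime_int.2 h1
      refine Groth.Agent.CohenRing.cohen_of_dvr p hpp hm.symm fun x hx => ?_
      have hpR : (p : R) ≠ 0 := fun h0 => by
        have h1 : algebraMap ℤ R (p : ℤ) = algebraMap ℤ R 0 := by rw [map_natCast, map_zero]; exact h0
        have := IsLocalization.injective (M := (Ideal.span {(p : ℤ)}).primeCompl) R (Ideal.primeCompl_le_nonZeroDivisors _) h1
        exact hp0.ne' (by exact_mod_cast this)
      have := Module.Flat.isSMulRegular_of_isRegular (M := A) (IsRegular.of_ne_zero hpR)
      exact this (show (p : R) • x = (p : R) • (0 : A) by rw [smul_zero, Nat.cast_smul_eq_nsmul, nsmul_eq_mul, hx])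
  · intro h
    have hgeo : Algebra.IsGeometricallyReduced k K := Groth.Agent.H2GeomRed.of_perfect k K
    rcases h with ⟨hf, hc0⟩ | ⟨hd, hdvr, hc, q, hq, hmq⟩
    · haveI := hc0
      letI := hf.toField
      have hbot : maximalIdeal A = ⊥ := IsLocalRing.isField_iff_maximalIdeal_eq.1 hf
      obtain rfl : p = 0 := by
        have h1 : ((p : ℕ) : A) ∈ maximalIdeal A := by
          rw [← residue_eq_zero_iff, map_natCast]; exact CharP.cast_eq_zero K p
        rw [hbot, Ideal.mem_bot] at h1
        exact_mod_cast h1
      have hRf : IsField R := IsLocalRing.isField_iff_maximalIdeal_eq.2 (hmR.trans (by simp))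
      haveI : IsAdicComplete (maximalIdeal A) A := by rw [hbot]; infer_instance
      refine ⟨inferInstance, inferInstance, inferInstance, ?_, ?_, hgeo⟩
      · letI := hRf.toField
        infer_instance
      · rw [hmA, hbot, Nat.cast_zero, Ideal.span_singleton_zero]
    · haveI := hd; haveI := hdvr; haveI := hc
      obtain rfl : p = q := by
        have h1 : ((q : ℕ) : K) = 0 := by
          rw [← map_natCast (residue A), residue_eq_zero_iff, hmq]
          exact Ideal.mem_span_singleton_self _
        rw [CharP.cast_eq_zero_iff K p] at h1
        rcases hq.eq_one_or_self_of_dvd p h1 with h2 | h2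
        · exact absurd h2 (CharP.char_ne_one K p)
        · exact h2
      refine ⟨inferInstance, inferInstance, inferInstance, ?_, hmA.trans hmq.symm, hgeo⟩
      have hinj : Function.Injective (algebraMap R A) := by
        rw [RingHom.injective_iff_ker_eq_bot]
        by_contra hne
        haveI : IsDedekindDomain R := IsLocalization.AtPrime.isDedekindDomain ℤ (Ideal.span {(p : ℤ)}) R
        haveI : (RingHom.ker (algebraMap R A)).IsPrime := RingHom.ker_isPrime _
        have hmax := Ideal.IsPrime.isMaximal (p := RingHom.ker (algebraMap R A)) inferInstance hne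
        have hmem : (p : R) ∈ RingHom.ker (algebraMap R A) := by
          rw [IsLocalRing.eq_maximalIdeal hmax, hmR]
          exact Ideal.mem_span_singleton_self _
        rw [RingHom.mem_ker, map_natCast] at hmem
        refine IsDiscreteValuationRing.not_a_field A ?_
        rw [hmq, hmem, Ideal.span_singleton_zero]
      haveI : IsDedekindDomain R := IsLocalization.AtPrime.isDedekindDomain ℤ (Ideal.span {(p : ℤ)}) R
      haveI : Module.IsTorsionFree R A := Module.isTorsionFree_iff_algebraMap_injective.2 hinj
      infer_instance

end Groth.Agent.S4539
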