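import Groth.Statements.S4544
import Mathlib
import Groth.Prelude.Def_EGA41
import Groth.Agent.Lib.KaplanskyProjective
import Groth.Agent.Lib.H2DerLift

set_option autoImplicit false
universe u
open EGA41

namespace Groth.Agent.S4544
open TensorProduct IsLocalRing
set_option maxHeartbeats 1000000
set_option synthInstance.maxHeartbeats 400000
set_option backward.isDefEq.respectTransparency.types false

open TensorProduct in
/-- Let B (𝔟-adic) be a formally smooth topological A-algebra over A (𝔞-adic), the structure map being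
continuous (a power of 𝔞 maps into 𝔟); squares of open ideals of B are then open. For every open
ideal 𝔄 of B (an ideal containing a power of 𝔟), Ω_{B/A} ⊗_B (B/𝔄) = Ω_{B/A}/𝔄Ω_{B/A} is a
projective (B/𝔄)-module. -/
theorem result {A B : Type u} [CommRing A] [CommRing B] [Algebra A B]
    (𝔞 : Ideal A) (𝔟 : Ideal B) (hAB : ∃ k : ℕ, (𝔞 ^ k).map (algebraMap A B) ≤ 𝔟)
    (h : EGA41.IsFormallySmoothAdic A 𝔞 B 𝔟) (𝔄 : Ideal B) (h𝔄 : ∃ n : ℕ, 𝔟 ^ n ≤ 𝔄) :
    Module.Projective (B ⧸ 𝔄) ((B ⧸ 𝔄) ⊗[B] Ω[B⁄A]) := by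
  obtain ⟨k, hk⟩ := hAB
  obtain ⟨n, hn⟩ := h𝔄
  refine Module.Projective.of_lifting_property'' fun f hf => ?_
  let R := B ⧸ 𝔄
  let M := R ⊗[B] Ω[B⁄A]
  let P := (R ⊗[B] Ω[B⁄A]) →₀ R
  obtain ⟨D', hD'⟩ := Groth.Agent.H2DerLift.lift_derivation (R := R) 𝔞 𝔟 hk (hn.trans (le_of_eq (Ideal.mk_ker).symm)) h f hf
    (((TensorProduct.mk B R Ω[B⁄A]) 1).compDer (KaehlerDifferential.D A B))
  refine ⟨(D'.liftKaehlerDifferential).liftBaseChange R, ?_⟩
  refine TensorProduct.AlgebraTensorModule.curry_injective (LinearMap.ext_ring (LinearMap.ext_on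
    (KaehlerDifferential.span_range_derivation A B) ?_))
  rintro _ ⟨b, rfl⟩
  show f (((D'.liftKaehlerDifferential).liftBaseChange R) ((1 : R) ⊗ₜ[B] KaehlerDifferential.D A B b)) = (1 : R) ⊗ₜ[B] KaehlerDifferential.D A B b
  rw [LinearMap.liftBaseChange_tmul, one_smul, Derivation.liftKaehlerDifferential_comp_D]
  exact hD' b

end Groth.Agent.S4544
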