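import Groth.Statements.S4543
import Groth.Prelude.Def_CAlgX
import Groth.Prelude.Def_EGA41
import Groth.Agent.Lib.H2AdicLift
import Groth.Agent.Lib.H2AdicNilp
import Groth.Agent.Lib.CompleteSemilocal
import Mathlib

set_option autoImplicit false
universe u
open EGA41

namespace Groth.Agent.S4543
open IsLocalRing
set_option backward.isDefEq.respectTransparency.types false
set_option maxHeartbeats 400000

open IsLocalRing in
/-- Let A be a Noetherian ring, J an ideal of A, B and B' two A-algebras which are Noetherian local
rings, the structure maps being continuous for the J-adic topology on A (JB and JB' lie in the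
maximal ideals); suppose B and B' are complete for the J-adic topologies, B is a formally smooth
A-algebra for the J-adic topology on A and the JB-adic topology on B (nilpotent test ideals, test
algebras killed by a power of J, test maps killing a power of JB), and B' is a flat A-module. Then
every (A/J)-algebra isomorphism u₀ : B/JB ≅ B'/JB' comes from an A-algebra isomorphism u : B ≅ B' by
passing to quotients. (B is taken formally smooth for the JB-adic topology, the topology along which
the argument lifts B → B'/JB' to B'; read with the convention that a local ring carries the adic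
topology of its maximal ideal, the published hypothesis would be formal smoothness for the
maximal-ideal topology on B, a weaker condition when JB is strictly smaller than the maximal ideal,
and that reading is not what the argument establishes.) -/
theorem result {A B B' : Type u} [CommRing A] [IsNoetherianRing A] (J : Ideal A)
    [CommRing B] [IsLocalRing B] [IsNoetherianRing B] [Algebra A B]
    [CommRing B'] [IsLocalRing B'] [IsNoetherianRing B'] [Algebra A B']
    (hB : J.map (algebraMap A B) ≤ maximalIdeal B) (hB' : J.map (algebraMap A B') ≤ maximalIdeal B')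
    [IsAdicComplete (J.map (algebraMap A B)) B] [IsAdicComplete (J.map (algebraMap A B')) B']
    (hfs : EGA41.IsFormallySmoothAdic A J B (J.map (algebraMap A B))) [Module.Flat A B']
    (u₀ : (B ⧸ J.map (algebraMap A B)) ≃ₐ[A ⧸ J] (B' ⧸ J.map (algebraMap A B'))) :
    ∃ u : B ≃ₐ[A] B', ∀ b : B,
      Ideal.Quotient.mk (J.map (algebraMap A B')) (u b) = u₀ (Ideal.Quotient.mk (J.map (algebraMap A B)) b) := by
  classical
  let I : Ideal B := J.map (algebraMap A B)
  let I' : Ideal B' := J.map (algebraMap A B')
  let e : (B ⧸ I) ≃ₐ[A] B' ⧸ I' := u₀.restrictScalars A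
  haveI : IsHausdorff (I'.map (Ideal.Quotient.mk I')) (B' ⧸ I') := by rw [Ideal.map_quotient_self]; infer_instance
  obtain ⟨u, -, hu⟩ := Groth.Agent.H2AdicLift.exists_lift (a := 1) (t := 1) (k := 1) J I I' hfs (by rw [pow_one]) I' (by rw [pow_one])
    (e.toAlgHom.comp (Ideal.Quotient.mkₐ A I)) (by
      rw [pow_one, Ideal.map_le_iff_le_comap]
      intro x hx
      show e (Ideal.Quotient.mk I x) ∈ I'.map (Ideal.Quotient.mk I')
      rw [Ideal.Quotient.eq_zero_iff_mem.2 hx, map_zero]
      exact zero_mem _)
  have hu' : ∀ b, Ideal.Quotient.mk I' (u b) = e (Ideal.Quotient.mk I b) := fun b => AlgHom.congr_fun hu b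
  have hmap : I.map u.toRingHom = I' := by
    show (J.map (algebraMap A B)).map u.toRingHom = _
    rw [Ideal.map_map]
    congr 1
    exact RingHom.ext fun a => u.commutes a
  haveI : IsHausdorff (I.map u.toRingHom) B' := by rw [hmap]; infer_instance
  have hsur : Function.Surjective u := by
    refine surjective_of_mk_map_comp_surjective (I := I) u.toRingHom fun y => ?_
    obtain ⟨y', rfl⟩ := Ideal.Quotient.mk_surjective y
    obtain ⟨b, hb⟩ := Ideal.Quotient.mk_surjective (e.symm (Ideal.Quotient.mk I' y'))
    refine ⟨b, ?_⟩
    show Ideal.Quotient.mk _ (u b) = Ideal.Quotient.mk _ y'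
    rw [Ideal.Quotient.eq, hmap, ← Ideal.Quotient.eq, hu', hb, e.apply_symm_apply]
  have hker1 : ∀ b, u b = 0 → b ∈ I := fun b hb => by
    have h := hu' b
    rw [hb, map_zero, eq_comm, map_eq_zero_iff _ e.injective, Ideal.Quotient.eq_zero_iff_mem] at h
    exact h
  have hkn : ∀ n : ℕ, ∀ x ∈ I ^ n, u x = 0 → x ∈ I ^ (n + 1) := by
    intro n x hx h0
    obtain ⟨s, hs⟩ := Ideal.FG.pow (n := n) (IsNoetherian.noetherian J : J.FG)
    have hgen : I ^ n = Submodule.span B (Set.range fun a : {a // a ∈ s} => algebraMap A B a.1) := by
      show (J.map (algebraMap A B)) ^ n = _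
      rw [← Ideal.map_pow, ← hs]; erw [Ideal.map_span]
      congr 1
      ext y
      simp
    rw [hgen, Submodule.mem_span_range_iff_exists_fun] at hx
    obtain ⟨b, rfl⟩ := hx
    have hrel : ∑ i : {a // a ∈ s}, i.1 • u (b i) = 0 := by
      rw [← h0, map_sum]
      exact Finset.sum_congr rfl fun i _ => by rw [smul_eq_mul, map_mul, AlgHom.commutes, Algebra.smul_def, mul_comm]
    obtain ⟨k, c, y, hy, hc⟩ := Module.Flat.isTrivialRelation_of_sum_smul_eq_zero (R := A) (M := B')
      (f := fun i : {a // a ∈ s} => i.1) (x := fun i => u (b i)) hrel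
    choose z hz using fun j => hsur (y j)
    let q : {a // a ∈ s} → B := fun i => b i - ∑ j, c i j • z j
    have hq : ∀ i, q i ∈ I := fun i => hker1 _ (by
      rw [map_sub, map_sum, show u (b i) = _ from hy i, sub_eq_zero]
      exact Finset.sum_congr rfl fun j _ => by rw [map_smul, hz])
    have hx2 : ∑ i : {a // a ∈ s}, b i • algebraMap A B i.1 = ∑ i : {a // a ∈ s}, i.1 • q i := by
      simp only [q, smul_sub, Finset.sum_sub_distrib, Finset.smul_sum, smul_smul]
      rw [Finset.sum_comm (γ := {a // a ∈ s})]
      simp only [← Finset.sum_smul, hc, zero_smul, Finset.sum_const_zero, sub_zero]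
      exact Finset.sum_congr rfl fun i _ => by rw [smul_eq_mul, Algebra.smul_def, mul_comm]
    rw [hx2]
    refine Ideal.sum_mem _ fun i _ => ?_
    rw [pow_succ, Algebra.smul_def]
    refine Ideal.mul_mem_mul ?_ (hq i)
    rw [hgen]
    exact Submodule.subset_span ⟨i, rfl⟩
  have hinj : Function.Injective u := by
    rw [injective_iff_map_eq_zero]
    intro x hx
    have key : ∀ n, x ∈ I ^ n := fun n => by
      induction n with
      | zero => simp
      | succ n ih => exact hkn n x ih hx
    refine IsHausdorff.haus' (I := I) _ fun n => ?_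
    rw [SModEq.zero, smul_eq_mul, Ideal.mul_top]
    exact key n
  exact ⟨AlgEquiv.ofBijective u ⟨hinj, hsur⟩, fun b => hu' b⟩

end Groth.Agent.S4543
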