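import Groth.Statements.S4553
import Mathlib
import Groth.Prelude.Def_EGA41
import Groth.Agent.Lib.H2FSModA

set_option autoImplicit false
universe u
open EGA41

namespace Groth.Agent.S4553
set_option maxHeartbeats 1000000
set_option synthInstance.maxHeartbeats 400000
set_option backward.isDefEq.respectTransparency.types false

/-- Let A be 𝔞-adic (a preadmissible ring with ideal of definition 𝔞), B a topological A-algebra for the
𝔟-adic topology (a power of 𝔞 maps into 𝔟) which is a formally projective topological A-module, and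
put A₀ = A/𝔞, B₀ = B/𝔞B with the quotient topologies (A₀ discrete). Then B is a formally smooth
A-algebra if and only if B₀ is a formally smooth A₀-algebra. -/
theorem result {A B : Type u} [CommRing A] [CommRing B] [Algebra A B]
    (𝔞 : Ideal A) (𝔟 : Ideal B) (hAB : ∃ k : ℕ, (𝔞 ^ k).map (algebraMap A B) ≤ 𝔟)
    (hproj : ∀ (n : ℕ) (P Q : Type u) [AddCommGroup P] [Module A P] [AddCommGroup Q] [Module A Q],
      (∀ a ∈ 𝔞 ^ n, ∀ y : P, a • y = 0) → (∀ a ∈ 𝔞 ^ n, ∀ y : Q, a • y = 0) →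
      ∀ f : P →ₗ[A] Q, Function.Surjective f → ∀ v : B →ₗ[A] Q, (∃ m : ℕ, ∀ x ∈ 𝔟 ^ m, v x = 0) →
        ∃ w : B →ₗ[A] P, (∃ m : ℕ, ∀ x ∈ 𝔟 ^ m, w x = 0) ∧ f ∘ₗ w = v) :
    EGA41.IsFormallySmoothAdic A 𝔞 B 𝔟 ↔
      EGA41.IsFormallySmoothAdic (A ⧸ 𝔞) ⊥ (B ⧸ 𝔞.map (algebraMap A B))
        (𝔟.map (Ideal.Quotient.mk (𝔞.map (algebraMap A B)))) := by
  refine ⟨fun h => ?_, fun h => Groth.Agent.H2FSModA.of_quotient 𝔞 𝔟 hproj h⟩
  intro C _ _ J hJ _ u ⟨l, hl⟩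
  letI : Algebra A C := ((algebraMap (A ⧸ 𝔞) C).comp (algebraMap A (A ⧸ 𝔞))).toAlgebra
  haveI : IsScalarTower A (A ⧸ 𝔞) C := IsScalarTower.of_algebraMap_eq' rfl
  have hz : ∀ a ∈ 𝔞, algebraMap A C a = 0 := fun a ha => by
    show algebraMap (A ⧸ 𝔞) C (Ideal.Quotient.mk 𝔞 a) = 0
    rw [Ideal.Quotient.eq_zero_iff_mem.2 ha, map_zero]
  obtain ⟨v, hv⟩ := h C J hJ ⟨1, by
    rw [pow_one, eq_bot_iff, Ideal.map_le_iff_le_comap]; exact fun a ha => Ideal.mem_bot.2 (hz a ha)⟩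
    ((u.restrictScalars A).comp (Ideal.Quotient.mkₐ A _))
    ⟨l, fun x hx => hl _ (by rw [← Ideal.map_pow]; exact Ideal.mem_map_of_mem _ hx)⟩
  have hkill : ∀ b ∈ 𝔞.map (algebraMap A B), v b = 0 := fun b hb => RingHom.mem_ker.1
    ((Ideal.map_le_iff_le_comap.2 fun a ha => by
      show v (algebraMap A B a) = 0
      rw [v.commutes, hz a ha] : 𝔞.map (algebraMap A B) ≤ RingHom.ker v) hb)
  let v0 : (B ⧸ 𝔞.map (algebraMap A B)) →ₐ[A] C := Ideal.Quotient.liftₐ _ v hkill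
  refine ⟨{ v0.toRingHom with commutes' := fun a => ?_ }, AlgHom.ext fun x => ?_⟩
  · obtain ⟨a, rfl⟩ := Ideal.Quotient.mk_surjective a
    exact v0.commutes a
  · obtain ⟨b, rfl⟩ := Ideal.Quotient.mk_surjective x
    exact AlgHom.congr_fun hv b

end Groth.Agent.S4553
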