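import Groth.Statements.S4554
import Mathlib
import Groth.Prelude.Def_EGA41
import Groth.Prelude.Def_CAlgX
import Groth.Prelude.Def_FSRel
import Groth.Agent.Lib.H2AdicNilp
import Groth.Agent.S2095

set_option autoImplicit false
universe u
open EGA41

namespace Groth.Agent.S4554
open TensorProduct
set_option maxHeartbeats 1000000
set_option synthInstance.maxHeartbeats 400000
set_option backward.isDefEq.respectTransparency.types false

open TensorProduct in
/-- Let A be 𝔞-adic, B a topological A-algebra for the 𝔟-adic topology (a power of 𝔞 maps into 𝔟) which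
is a formally projective topological A-module, and A' an A-algebra with the topology deduced from A
(the 𝔞A'-adic topology) which is a faithfully flat, projective A-module of finite type. Then B' = A'
⊗_A B, with the tensor product topology (the adic topology of the ideal generated by the images of 𝔞
and 𝔟), is a formally smooth A'-algebra if and only if B is a formally smooth A-algebra. -/
theorem result {A B A' : Type u} [CommRing A] [CommRing B]
    [CommRing A'] [Algebra A B] [Algebra A A'] (𝔞 : Ideal A) (𝔟 : Ideal B) (hAB : ∃ k : ℕ, (𝔞 ^ k).map (algebraMap A B) ≤ 𝔟)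
    (hproj : ∀ (n : ℕ) (P Q : Type u) [AddCommGroup P] [Module A P] [AddCommGroup Q] [Module A Q],
      (∀ a ∈ 𝔞 ^ n, ∀ y : P, a • y = 0) → (∀ a ∈ 𝔞 ^ n, ∀ y : Q, a • y = 0) →
      ∀ f : P →ₗ[A] Q, Function.Surjective f → ∀ v : B →ₗ[A] Q, (∃ m : ℕ, ∀ x ∈ 𝔟 ^ m, v x = 0) →
        ∃ w : B →ₗ[A] P, (∃ m : ℕ, ∀ x ∈ 𝔟 ^ m, w x = 0) ∧ f ∘ₗ w = v)
    [Module.FaithfullyFlat A A'] [Module.Projective A A'] [Module.Finite A A'] :
    EGA41.IsFormallySmoothAdic A' (𝔞.map (algebraMap A A')) (A' ⊗[A] B)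
        ((𝔞.map (algebraMap A A')).map (algebraMap A' (A' ⊗[A] B)) ⊔
          𝔟.map (Algebra.TensorProduct.includeRight : B →ₐ[A] A' ⊗[A] B).toRingHom) ↔
      EGA41.IsFormallySmoothAdic A 𝔞 B 𝔟 := by
  obtain ⟨j, hj⟩ := hAB
  let inc : B →ₐ[A] A' ⊗[A] B := Algebra.TensorProduct.includeRight
  let N := (𝔞.map (algebraMap A A')).map (algebraMap A' (A' ⊗[A] B)) ⊔ 𝔟.map inc.toRingHom
  have hj' : ((𝔞.map (algebraMap A A')) ^ 1).map (algebraMap A' (A' ⊗[A] B)) ≤ N := by rw [pow_one]; exact le_sup_left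
  refine ⟨fun h => ?_, fun h => ?_⟩
  · obtain ⟨ρ, hρ⟩ : ∃ ρ : A' →ₗ[A] A, ρ 1 = 1 := by
      have hI : LinearMap.range (Module.Dual.eval A A' 1) = ⊤ := by
        by_contra hne
        obtain ⟨m, hm, hle⟩ := Ideal.exists_le_maximal _ hne
        obtain ⟨s, hs⟩ := Module.projective_def'.1 (inferInstance : Module.Projective A A')
        refine Module.FaithfullyFlat.submodule_ne_top (R := A) (M := A') hm ((Submodule.eq_top_iff'.2 fun y => ?_))
        have hy : ((s 1).sum fun i r => r • i) = (1 : A') := LinearMap.congr_fun hs 1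
        have h1 : (1 : A') ∈ m • (⊤ : Submodule A A') := by
          rw [← hy]
          exact Submodule.sum_mem _ fun i _ => Submodule.smul_mem_smul (hle ⟨(Finsupp.lapply i) ∘ₗ s, rfl⟩) trivial
        rw [Ideal.smul_top_eq_map, Submodule.restrictScalars_mem] at h1 ⊢
        simpa using Ideal.mul_mem_left _ y h1
      exact LinearMap.range_eq_top.1 hI 1
    refine Groth.Agent.H2AdicNilp.isFormallySmoothAdic_of_isAdicFormallySmooth 𝔞 𝔟 ?_
    refine Groth.Agent.S2095.result 𝔟 ρ (fun r => by rw [Algebra.algebraMap_eq_smul_one, map_smul, hρ, smul_eq_mul, mul_one]) ?_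
    intro C _ _ J hJ ψ ⟨k, hk⟩
    refine Groth.Agent.H2AdicNilp.isAdicFormallySmooth_of_isFormallySmoothAdic _ N hj' h C J hJ ψ ⟨j * k + k, fun x hx => ?_⟩
    have hbb : ∀ y ∈ (𝔟.map inc.toRingHom) ^ k, ψ y = 0 := hk
    have haa : ((𝔞.map (algebraMap A A')).map (algebraMap A' (A' ⊗[A] B))) ^ (j * k) ≤ (𝔟.map inc.toRingHom) ^ k := by
      rw [pow_mul]
      refine Ideal.pow_right_mono ?_ k
      rw [← Ideal.map_pow, ← Ideal.map_pow, Ideal.map_map, ← IsScalarTower.algebraMap_eq,
        show algebraMap A (A' ⊗[A] B) = inc.toRingHom.comp (algebraMap A B) from (inc.comp_algebraMap).symm, ← Ideal.map_map]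
      exact Ideal.map_mono hj
    have h2 : N ^ (j * k + k) ≤ (𝔟.map inc.toRingHom) ^ k := by
      refine (Ideal.sup_pow_add_le_pow_sup_pow).trans (sup_le haa le_rfl)
    exact hbb x (h2 hx)
  · refine Groth.Agent.H2AdicNilp.isFormallySmoothAdic_of_isAdicFormallySmooth _ _ ?_
    intro C _ _ J hJ ψ ⟨k, hk⟩
    letI : Algebra A C := ((algebraMap A' C).comp (algebraMap A A')).toAlgebra
    haveI : IsScalarTower A A' C := IsScalarTower.of_algebraMap_eq' rfl
    obtain ⟨χ, hχ⟩ := Groth.Agent.H2AdicNilp.isAdicFormallySmooth_of_isFormallySmoothAdic 𝔞 𝔟 hj h C J hJ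
      ((ψ.restrictScalars A).comp inc) ⟨k, fun x hx => hk _ (by
        refine Ideal.pow_right_mono (le_sup_right : _ ≤ N) k ?_
        rw [← Ideal.map_pow]
        exact Ideal.mem_map_of_mem inc.toRingHom hx)⟩
    refine ⟨Algebra.TensorProduct.lift (Algebra.ofId A' C) χ (fun _ _ => Commute.all _ _), ?_⟩
    refine Algebra.TensorProduct.ext (AlgHom.ext fun a => ?_) (AlgHom.ext fun b => ?_)
    · exact (AlgHom.commutes _ a).trans (AlgHom.commutes _ a).symm
    · show Ideal.Quotient.mk J (Algebra.TensorProduct.lift (Algebra.ofId A' C) χ (fun _ _ => Commute.all _ _) ((1 : A') ⊗ₜ[A] b)) = ψ ((1 : A') ⊗ₜ[A] b)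
      rw [Algebra.TensorProduct.lift_tmul, map_one, one_mul]
      exact AlgHom.congr_fun hχ b

end Groth.Agent.S4554
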