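import Groth.Statements.S4569
import Mathlib

set_option autoImplicit false
universe u
open CAlg

namespace Groth.Agent.S4569

/-- Let A be a ring, x a non-zero-divisor of A with p = xA prime. For every n > 0 the inverse image in A
of x^n A_p is x^n A. -/
theorem result {A : Type u} [CommRing A] (x : A)
    (hx : x ∈ nonZeroDivisors A) [(Ideal.span ({x} : Set A)).IsPrime] (n : ℕ) (hn : 0 < n) :
    Ideal.comap (algebraMap A (Localization.AtPrime (Ideal.span ({x} : Set A))))
      (Ideal.map (algebraMap A (Localization.AtPrime (Ideal.span ({x} : Set A)))) (Ideal.span ({x ^ n} : Set A))) =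
      Ideal.span ({x ^ n} : Set A) := by
  refine le_antisymm (fun a ha => ?_) Ideal.le_comap_map
  rw [Ideal.mem_comap, IsLocalization.mem_map_algebraMap_iff (Ideal.span ({x} : Set A)).primeCompl] at ha
  obtain ⟨⟨b, s⟩, hbs⟩ := ha
  rw [← map_mul, IsLocalization.eq_iff_exists (Ideal.span ({x} : Set A)).primeCompl] at hbs
  obtain ⟨c, hc⟩ := hbs
  have key : ∀ (m : ℕ) (a t : A), t ∉ Ideal.span ({x} : Set A) → x ^ m ∣ t * a → x ^ m ∣ a := by
    intro m
    induction m with
    | zero => intro a t _ _; exact ⟨a, by simp⟩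
    | succ m ih =>
      intro a t ht hdiv
      have hta : t * a ∈ Ideal.span ({x} : Set A) :=
        Ideal.mem_span_singleton.mpr ((dvd_pow_self x (Nat.succ_ne_zero m)).trans hdiv)
      obtain ⟨a', rfl⟩ := Ideal.mem_span_singleton.mp
        ((Ideal.IsPrime.mem_or_mem (inferInstance : (Ideal.span ({x} : Set A)).IsPrime) hta).resolve_left ht)
      rw [pow_succ']
      refine mul_dvd_mul_left x (ih a' t ht ?_)
      obtain ⟨w, hw⟩ := hdiv
      refine ⟨w, ?_⟩
      have h2 : x * (t * a' - x ^ m * w) = 0 := by rw [mul_sub, sub_eq_zero, ← mul_assoc x (x ^ m), ← pow_succ', ← hw]; ring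
      exact sub_eq_zero.mp (hx.1 _ h2)
  refine Ideal.mem_span_singleton.mpr (key n a (c.1 * s.1) (mul_mem c.2 s.2 : c.1 * s.1 ∈ (Ideal.span ({x} : Set A)).primeCompl) ?_)
  obtain ⟨w, hw⟩ := Ideal.mem_span_singleton.mp b.2
  refine ⟨c.1 * w, ?_⟩
  calc c.1 * s.1 * a = c.1 * (a * s.1) := by ring
    _ = c.1 * b.1 := hc
    _ = x ^ n * (c.1 * w) := by rw [hw]; ring

end Groth.Agent.S4569
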