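import Groth.Statements.S4574
import Mathlib
import Groth.Prelude.Def_Found
import Groth.Prelude.Def_CAlgX
import Groth.Agent.Lib.H2AdicFSLocal
import Groth.Agent.Lib.H2GeomRegular
import Groth.Agent.Lib.H2RegularLoc
import Groth.Agent.S2035
import Groth.Agent.S2036

set_option autoImplicit false
universe u
open IsLocalRing
open EGA41

namespace Groth.Agent.S4574
open TensorProduct IsLocalRing
set_option backward.isDefEq.respectTransparency.types false

/-- Let k be a field and A a Noetherian local k-algebra, formally smooth over k for its adic topology.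
Then every localization A_p at a prime p is formally smooth over k for the pA_p-adic topology. -/
theorem result {k A : Type u} [Field k] [CommRing A]
    [IsLocalRing A] [IsNoetherianRing A] [Algebra k A] (h : CAlgX.IsAdicFormallySmooth k A (maximalIdeal A))
    (p : Ideal A) [p.IsPrime] :
    CAlgX.IsAdicFormallySmooth k (Localization.AtPrime p) (maximalIdeal (Localization.AtPrime p)) := by
  let S := Localization.AtPrime p
  haveI : IsNoetherianRing S := IsLocalization.isNoetherianRing p.primeCompl _ inferInstance
  have hgr : CAlg.IsGeometricallyRegular k S := by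
    intro k' _ _ hfin
    haveI := hfin
    haveI : IsRegularRing (k' ⊗[k] A) := Groth.Agent.H2GeomRegular.isRegularRing_of_adicFS h k'
    haveI : IsRegularRing (A ⊗[k] k') := IsRegularRing.of_ringEquiv (Algebra.TensorProduct.comm k k' A).toRingEquiv
    haveI : IsRegularRing ((A ⊗[k] k') ⊗[A] S) :=
      Groth.Agent.H2RegularLoc.isRegularRing_of_isLocalization (T := A ⊗[k] k') (Algebra.algebraMapSubmonoid (A ⊗[k] k') p.primeCompl) _
    exact IsRegularRing.of_ringEquiv ((((Algebra.TensorProduct.comm A (A ⊗[k] k') S).toRingEquiv).trans
      (Algebra.TensorProduct.cancelBaseChange k A S S k').toRingEquiv).trans (Algebra.TensorProduct.comm k S k').toRingEquiv)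
  obtain _ | ⟨q, hq, hqk⟩ := CharP.exists' k
  · refine Groth.Agent.S2035.result.1 ?_
    haveI : IsRegularRing (k ⊗[k] S) := hgr k inferInstance
    haveI : IsRegularRing S := IsRegularRing.of_ringEquiv (Algebra.TensorProduct.lid k S).toRingEquiv
    exact IsRegularLocalRing.of_isRegularRing_of_isLocalRing S
  · haveI := Fact.mk hq.out
    exact (Groth.Agent.S2036.result q).1 hgr

end Groth.Agent.S4574
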