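import Groth.Statements.S4575
import Mathlib
import Groth.Agent.Lib.RegularLocalBasic

set_option autoImplicit false
universe u
open IsLocalRing
open EGA41

namespace Groth.Agent.S4575

/-- Let R be a regular local ring with maximal ideal m and n a proper ideal with R/n regular. Then
(n/n²) ⊗_R K → (m/m²) ⊗_R K is injective, K the residue field; stated in the equivalent form n ∩ m²
= m·n (the kernel of n/mn → m/m² is (n ∩ m²)/mn). -/
theorem result {R : Type u} [CommRing R] [IsRegularLocalRing R]
    (n : Ideal R) (hn : n ≠ ⊤) (hreg : IsRegularRing (R ⧸ n)) :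
    n ⊓ maximalIdeal R ^ 2 = maximalIdeal R * n := by
  classical
  haveI := RegLocal.isLocalRing_quotient (le_maximalIdeal hn)
  haveI := hreg
  haveI : IsRegularLocalRing (R ⧸ n) := IsRegularLocalRing.of_isRegularRing_of_isLocalRing _
  have hnm : n ≤ maximalIdeal R := le_maximalIdeal hn
  let S : Set (CotangentSpace R) := {z | ∃ x : maximalIdeal R, (x : R) ∈ n ∧ (maximalIdeal R).toCotangent x = z}
  obtain ⟨b, hbS, hbspan, hbli⟩ := exists_linearIndependent (ResidueField R) S
  haveI : Fintype b := hbli.setFinite.fintype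
  choose g hgn hg using fun z : b => hbS z.2
  let f : b → R := fun z => g z
  have hf : ∀ z, f z ∈ maximalIdeal R := fun z => (g z).2
  have hli : LinearIndependent (ResidueField R) (fun z => (maximalIdeal R).toCotangent ⟨f z, hf z⟩) := by
    have e : (fun z => (maximalIdeal R).toCotangent ⟨f z, hf z⟩) = (fun z : b => (z : CotangentSpace R)) := funext hg
    rw [e]; exact hbli
  obtain ⟨hR', hdim⟩ := RegLocal.quotient_of_linearIndependent f hf hli
  have hJn : Ideal.span (Set.range f) ≤ n := Ideal.span_le.2 (by rintro _ ⟨z, rfl⟩; exact hgn z)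
  -- generators of the maximal ideal of the quotient
  set e := (maximalIdeal (R ⧸ n)).spanFinrank with he
  have hgenfin := Submodule.FG.finite_generators (IsNoetherian.noetherian (maximalIdeal (R ⧸ n)))
  haveI : Fintype (maximalIdeal (R ⧸ n)).generators := hgenfin.fintype
  have hlift : ∀ z : (maximalIdeal (R ⧸ n)).generators, ∃ x : maximalIdeal R, Ideal.Quotient.mk n (x : R) = z := by
    intro z
    have hz : (z : R ⧸ n) ∈ maximalIdeal (R ⧸ n) :=
      (Submodule.span_generators _).le (Submodule.subset_span z.2)
    obtain ⟨x, hx, hx'⟩ := (Ideal.mem_map_iff_of_surjective _ Ideal.Quotient.mk_surjective).1 ((RegLocal.map_maximalIdeal_quotient (I := n)).symm.le hz)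
    exact ⟨⟨x, hx⟩, hx'⟩
  choose t ht using hlift
  have htop : Submodule.span (ResidueField R) (b ∪ Set.range fun z => (maximalIdeal R).toCotangent (t z)) = (⊤ : Submodule (ResidueField R) (CotangentSpace R)) := by
    rw [eq_top_iff]
    rintro w -
    obtain ⟨x, rfl⟩ := (maximalIdeal R).toCotangent_surjective w
    have hxq : Ideal.Quotient.mk n (x : R) ∈ Submodule.span (R ⧸ n) (Set.range fun z => Ideal.Quotient.mk n (t z : R)) := by
      have : (Set.range fun z => Ideal.Quotient.mk n (t z : R)) = (maximalIdeal (R ⧸ n)).generators := by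
        simp only [ht]; exact Subtype.range_coe
      rw [this, Submodule.span_generators, ← RegLocal.map_maximalIdeal_quotient]
      exact Ideal.mem_map_of_mem _ x.2
    rw [Submodule.mem_span_range_iff_exists_fun] at hxq
    obtain ⟨c, hc⟩ := hxq
    choose a ha using fun z => Ideal.Quotient.mk_surjective (c z)
    set y : maximalIdeal R := x - ∑ z, a z • t z with hy
    have hyn : (y : R) ∈ n := by
      rw [← Ideal.Quotient.eq_zero_iff_mem, hy, Submodule.coe_sub, map_sub, Submodule.coe_sum, map_sum, sub_eq_zero, ← hc]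
      refine Finset.sum_congr rfl fun z _ => ?_
      simp [ha]
    have hyS : (maximalIdeal R).toCotangent y ∈ Submodule.span (ResidueField R) b :=
      hbspan.symm ▸ Submodule.subset_span ⟨y, hyn, rfl⟩
    have hx : x = y + ∑ z, a z • t z := by rw [hy, sub_add_cancel]
    rw [hx, map_add, map_sum]
    refine add_mem (Submodule.span_mono Set.subset_union_left hyS) (Submodule.sum_mem _ fun z _ => ?_)
    rw [map_smul, ← IsScalarTower.algebraMap_smul (ResidueField R) (a z)]
    exact Submodule.smul_mem _ _ (Submodule.subset_span (Or.inr ⟨z, rfl⟩))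
  have hcount : (maximalIdeal R).spanFinrank ≤ Fintype.card b + e := by
    rw [spanFinrank_maximalIdeal_eq_finrank_cotangentSpace, ← finrank_top (ResidueField R) (CotangentSpace R), ← htop]
    have e1 : (b ∪ Set.range fun z => (maximalIdeal R).toCotangent (t z)) =
        ((b.toFinset ∪ Finset.univ.image fun z => (maximalIdeal R).toCotangent (t z) : Finset (CotangentSpace R)) : Set (CotangentSpace R)) := by
      simp
    rw [e1]
    refine (finrank_span_finset_le_card _).trans ((Finset.card_union_le _ _).trans (add_le_add ?_ (Finset.card_image_le.trans ?_)))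
    · simp
    · rw [Finset.card_univ, he, ← Submodule.FG.generators_ncard (IsNoetherian.noetherian (maximalIdeal (R ⧸ n))), ← Nat.card_coe_set_eq, Nat.card_eq_fintype_card]
  have hnJ : n ≤ Ideal.span (Set.range f) := by
    haveI := hR'
    haveI := RegLocal.isDomain (R := R ⧸ Ideal.span (Set.range f))
    intro x hx
    by_contra hxJ
    have h1 := ringKrullDim_succ_le_of_surjective (Ideal.Quotient.factor hJn) (Ideal.Quotient.factor_surjective hJn)
      (r := Ideal.Quotient.mk _ x) (mem_nonZeroDivisors_of_ne_zero (fun h => hxJ (Ideal.Quotient.eq_zero_iff_mem.1 h)))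
      (by rw [Ideal.Quotient.factor_mk]; exact Ideal.Quotient.eq_zero_iff_mem.2 hx)
    rw [RegLocal.dim_eq (R := R ⧸ n), RegLocal.dim_eq (R := R ⧸ Ideal.span (Set.range f))] at h1
    rw [RegLocal.dim_eq (R := R), RegLocal.dim_eq (R := R ⧸ Ideal.span (Set.range f))] at hdim
    norm_cast at h1 hdim
    omega
  refine le_antisymm ?_ (le_inf Ideal.mul_le_right (pow_two (maximalIdeal R) ▸ Ideal.mul_mono le_rfl hnm))
  rintro y ⟨hyn, hy2⟩
  obtain ⟨c, hc⟩ := (Submodule.mem_span_range_iff_exists_fun R).1 (hnJ hyn)
  have h0 : ∑ z, residue R (c z) • (maximalIdeal R).toCotangent ⟨f z, hf z⟩ = 0 := by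
    have e2 : ∀ z, residue R (c z) • (maximalIdeal R).toCotangent ⟨f z, hf z⟩ = (maximalIdeal R).toCotangent (c z • ⟨f z, hf z⟩) := fun z => by
      rw [map_smul, ← IsScalarTower.algebraMap_smul (ResidueField R) (c z)]; rfl
    simp only [e2]
    rw [← map_sum, Ideal.toCotangent_eq_zero, Submodule.coe_sum]
    simp only [Submodule.coe_smul]; exact hc.symm ▸ hy2
  rw [← hc]
  refine Submodule.sum_mem _ fun z _ => Ideal.mul_mem_mul ?_ (hgn z)
  exact (residue_eq_zero_iff _).1 (Fintype.linearIndependent_iff.1 hli _ h0 z)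

end Groth.Agent.S4575
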