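import Mathlib
import Groth.Statements.S4577


set_option autoImplicit false
universe u
open EGA41

namespace Groth.Agent.S4577

theorem retraction_of_section {C M F Q : Type*} [CommRing C] [AddCommGroup M] [Module C M] [AddCommGroup F]
    [Module C F] [AddCommGroup Q] [Module C Q] [Module.Projective C Q] (f : M →ₗ[C] F) (g : F →ₗ[C] Q)
    (hf : Function.Injective f) (hg : Function.Surjective g) (hfg : Function.Exact f g) :
    ∃ r : F →ₗ[C] M, ∀ x, r (f x) = x := by
  obtain ⟨σ, hσ⟩ := Module.projective_lifting_property g LinearMap.id hg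
  have hmem : ∀ x, x - σ (g x) ∈ LinearMap.range f := fun x => by
    rw [LinearMap.mem_range]
    refine (hfg _).mp ?_
    rw [map_sub, show g (σ (g x)) = g x from congrFun (congrArg DFunLike.coe hσ) (g x), sub_self]
  refine ⟨(LinearEquiv.ofInjective f hf).symm.toLinearMap ∘ₗ
    (LinearMap.id - σ ∘ₗ g).codRestrict (LinearMap.range f) hmem, fun x => ?_⟩
  rw [LinearMap.comp_apply, LinearEquiv.coe_coe, LinearEquiv.symm_apply_eq]
  refine Subtype.ext ?_
  simp [hfg.apply_apply_eq_zero]

theorem exists_retraction_of_local {C : Type*} [CommRing C] {M F Q : Type*} [AddCommGroup M] [Module C M]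
    [AddCommGroup F] [Module C F] [AddCommGroup Q] [Module C Q] [Module.Finite C M] [Module.Projective C F]
    (f : M →ₗ[C] F) (g : F →ₗ[C] Q) (hf : Function.Injective f) (hg : Function.Surjective g)
    (hfg : Function.Exact f g)
    (h : ∀ (m : Ideal C) [m.IsMaximal], Module.Projective (Localization.AtPrime m) (LocalizedModule m.primeCompl Q)) :
    ∃ l : F →ₗ[C] M, l ∘ₗ f = LinearMap.id := by
  classical
  obtain ⟨s, hs⟩ := (Module.projective_def'.mp ‹Module.Projective C F›)
  let π := Finsupp.linearCombination C (id : F → F)
  obtain ⟨t, ht⟩ := (Module.Finite.fg_top : (⊤ : Submodule C M).FG)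
  let U : Finset F := t.biUnion fun x => (s (f x)).support
  have hsupp : ∀ x, s (f x) ∈ Finsupp.supported C C (U : Set F) := by
    intro x
    have hx : x ∈ Submodule.span C (t : Set M) := by rw [ht]; trivial
    refine (Submodule.span_le.mpr ?_ : Submodule.span C (t : Set M) ≤ (Finsupp.supported C C (U : Set F)).comap (s ∘ₗ f)) hx
    intro y hy
    rw [SetLike.mem_coe, Submodule.mem_comap, Finsupp.mem_supported]
    intro u hu
    exact Finset.mem_coe.mpr (Finset.mem_biUnion.mpr ⟨y, hy, hu⟩)
  let restr : (F →₀ C) →ₗ[C] (U → C) :=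
    { toFun := fun v u => v u
      map_add' := fun _ _ => rfl
      map_smul' := fun _ _ => rfl }
  let f' : M →ₗ[C] (U → C) := restr ∘ₗ s ∘ₗ f
  let π' : (U → C) →ₗ[C] F := Fintype.linearCombination C (fun u : U => (u : F))
  have hπ : ∀ x, π' (f' x) = f x := by
    intro x
    conv_rhs => rw [← LinearMap.id_apply (R := C) (f x), ← hs, LinearMap.comp_apply,
      Finsupp.linearCombination_apply, Finsupp.sum_of_support_subset _ (Finsupp.mem_supported C (s (f x)) |>.mp (hsupp x)) _ (by simp)]
    rw [Fintype.linearCombination_apply, ← Finset.sum_coe_sort U]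
    rfl
  suffices hh : ∃ L : (U → C) →ₗ[C] M, L ∘ₗ f' = LinearMap.id by
    obtain ⟨L, hL⟩ := hh
    exact ⟨L ∘ₗ restr ∘ₗ s, hL⟩
  let N : Ideal C :=
    { carrier := {c | ∃ L : (U → C) →ₗ[C] M, L ∘ₗ f' = c • LinearMap.id}
      zero_mem' := ⟨0, by simp⟩
      add_mem' := by
        rintro a b ⟨L, hL⟩ ⟨L', hL'⟩
        exact ⟨L + L', by rw [LinearMap.add_comp, hL, hL', add_smul]⟩
      smul_mem' := by
        rintro c a ⟨L, hL⟩
        exact ⟨c • L, by rw [LinearMap.smul_comp, hL, smul_smul, smul_eq_mul]⟩ }
  suffices hN : N = ⊤ by
    obtain ⟨L, hL⟩ : (1 : C) ∈ N := hN ▸ Submodule.mem_top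
    exact ⟨L, by rwa [one_smul] at hL⟩
  by_contra hne
  obtain ⟨m, hm, hNm⟩ := Ideal.exists_le_maximal N hne
  let S := m.primeCompl
  have := h m
  obtain ⟨r, hr⟩ := retraction_of_section (LocalizedModule.map S f) (LocalizedModule.map S g)
    (LocalizedModule.map_injective S f hf) (LocalizedModule.map_surjective S g hg) (LocalizedModule.map_exact S f g hfg)
  obtain ⟨L, c, hL⟩ := Module.FinitePresentation.exists_lift_of_isLocalizedModule S (LocalizedModule.mkLinearMap S M)
    ((r.restrictScalars C) ∘ₗ LocalizedModule.mkLinearMap S F ∘ₗ π')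
  have hx : ∀ x, ∃ u : S, u • L (f' x) = u • (c : C) • x := by
    intro x
    refine (IsLocalizedModule.eq_iff_exists S (LocalizedModule.mkLinearMap S M)).mp ?_
    have h1 := LinearMap.congr_fun hL (f' x)
    simp only [LinearMap.comp_apply, LinearMap.smul_apply, LinearMap.restrictScalars_apply, hπ] at h1
    have h2 : r (LocalizedModule.mkLinearMap S F (f x)) = LocalizedModule.mkLinearMap S M x := by
      rw [← hr (LocalizedModule.mkLinearMap S M x)]
      congr 1
      simp [LocalizedModule.map_mk]
    rw [h2] at h1
    rw [h1, map_smul]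
    rfl
  choose u hu using hx
  have hp : (∏ x ∈ t, (u x : C)) * c ∈ N := by
    refine ⟨(∏ x ∈ t, (u x : C)) • L, LinearMap.ext_on ht fun x hx => ?_⟩
    obtain ⟨d, hd⟩ := Finset.dvd_prod_of_mem (fun x => (u x : C)) hx
    simp only [LinearMap.comp_apply, LinearMap.smul_apply, LinearMap.id_apply]
    have h3 : (u x : C) • L (f' x) = (u x : C) • (c : C) • x := hu x
    rw [hd, mul_comm _ d, mul_smul, h3, smul_smul, smul_smul, mul_assoc]
  exact (S.mul_mem (prod_mem fun x _ => (u x).2) c.2 : (∏ x ∈ t, (u x : C)) * c ∈ S) (hNm hp)

/-- Let B be a formally smooth A-algebra (discrete topologies) and C = B/J a quotient with J/J² finitely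
generated. Then C is formally smooth over A if and only if C_m is formally smooth over A for every
maximal ideal m of C (hence also if and only if every C_p, p prime, is). (Not stated: the variant of
the localised condition with C_m formally smooth over A_q, q the contraction of m to A, and the
further assertion that for B Noetherian the discrete topologies in the localised condition may be
replaced by the adic ones.) -/
theorem result {A B C : Type u} [CommRing A] [CommRing B] [CommRing C]
    [Algebra A B] [Algebra B C] [Algebra A C] [IsScalarTower A B C] [Algebra.FormallySmooth A B]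
    (hsurj : Function.Surjective (algebraMap B C)) [Module.Finite B (RingHom.ker (algebraMap B C)).Cotangent] :
    Algebra.FormallySmooth A C ↔
      ∀ (m : Ideal C) [m.IsMaximal], Algebra.FormallySmooth A (Localization.AtPrime m) := by
  constructor
  · intro hC m hm
    haveI := Algebra.FormallySmooth.of_isLocalization (R := C) (Rₘ := Localization.AtPrime m) m.primeCompl
    exact Algebra.FormallySmooth.comp A C (Localization.AtPrime m)
  · intro h
    let P : Algebra.Extension A C := ⟨B, _, Function.surjInv_eq hsurj⟩
    haveI : Algebra.FormallySmooth A P.Ring := ‹Algebra.FormallySmooth A B›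
    let e : P.ker.Cotangent ≃ₗ[P.Ring] P.Cotangent :=
      { __ := AddEquiv.refl _, map_smul' r m := by ext1; simp; rfl }
    haveI : Module.Finite P.Ring P.ker.Cotangent := ‹Module.Finite B (RingHom.ker (algebraMap B C)).Cotangent›
    haveI : Module.Finite P.Ring P.Cotangent := Module.Finite.of_surjective e.toLinearMap e.surjective
    haveI : Module.Finite C P.Cotangent := Module.Finite.of_restrictScalars_finite P.Ring _ _
    haveI : Module.Projective C P.CotangentSpace := by unfold Algebra.Extension.CotangentSpace; infer_instance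
    haveI : Subsingleton (Algebra.H1Cotangent A C) := by
      refine ⟨fun x y => sub_eq_zero.mp ?_⟩
      by_contra hne
      have hI : Ideal.span {c : C | c • (x - y) = 0} ≠ ⊤ := by
        intro htop
        have : ∀ c ∈ Ideal.span {c : C | c • (x - y) = 0}, c • (x - y) = 0 := fun c hc =>
          Submodule.span_induction (fun a ha => ha) (by simp) (fun a b _ _ ha hb => by rw [add_smul, ha, hb, add_zero])
            (fun a b _ hb => by rw [smul_eq_mul, mul_smul, hb, smul_zero]) hc
        exact hne (by simpa using this 1 (htop ▸ Submodule.mem_top))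
      obtain ⟨m, hm, hle⟩ := Ideal.exists_le_maximal _ hI
      haveI := h m
      obtain ⟨u, hu⟩ := (IsLocalizedModule.eq_zero_iff m.primeCompl
        (Algebra.H1Cotangent.map A A C (Localization.AtPrime m))).mp (Subsingleton.elim (Algebra.H1Cotangent.map A A C (Localization.AtPrime m) (x - y)) 0)
      exact u.2 (hle (Ideal.subset_span hu))
    refine P.formallySmooth_iff_split_injection.mpr (exists_retraction_of_local P.cotangentComplex P.toKaehler
      (P.cotangentComplex_injective_iff.mpr inferInstance) P.toKaehler_surjective P.exact_cotangentComplex_toKaehler fun m _ => ?_)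
    haveI := h m
    exact Module.Projective.of_equiv ((IsLocalizedModule.iso m.primeCompl
      (KaehlerDifferential.map A A C (Localization.AtPrime m))).extendScalarsOfIsLocalization
        m.primeCompl (Localization.AtPrime m)).symm

end Groth.Agent.S4577
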