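import Groth.Statements.S4581
import Mathlib
import Groth.Prelude.Def_FSRel
import Groth.Agent.Lib.H2AdicComplFS
import Groth.Agent.Lib.H2ComplReg
import Groth.Agent.Lib.CompleteSemilocal
import Groth.Agent.Lib.CompleteNoetherian

set_option autoImplicit false
universe u
open EGA41

namespace Groth.Agent.S4581
open TensorProduct
set_option maxHeartbeats 1000000
set_option synthInstance.maxHeartbeats 400000
set_option backward.isDefEq.respectTransparency.types false

/-- Let A₀ be a semi-local Noetherian ring, A a module-finite A₀-algebra and Â the completion of A for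
the adic topology of its Jacobson radical. For the discrete topologies, Â is a formally smooth
A-algebra relative to A₀. -/
theorem result {A₀ A : Type u} [CommRing A₀]
    [IsNoetherianRing A₀] [Finite (MaximalSpectrum A₀)] [CommRing A] [Algebra A₀ A] [Module.Finite A₀ A] :
    EGA41.IsFormallySmoothRel A₀ A (AdicCompletion (Ideal.jacobson (⊥ : Ideal A)) A) := by
  haveI : IsNoetherianRing A := Algebra.FiniteType.isNoetherianRing A₀ A
  let I₀ : Ideal A₀ := Ideal.jacobson ⊥
  let J : Ideal A := Ideal.jacobson ⊥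
  have hJfg : J.FG := IsNoetherian.noetherian _
  have hI₀J : I₀.map (algebraMap A₀ A) ≤ J := Ideal.map_le_iff_le_comap.2 fun a ha => by
    refine Ideal.mem_sInf.2 fun {m} hm => ?_
    haveI := hm.2
    have := Ideal.isMaximal_comap_of_isIntegral_of_isMaximal (R := A₀) m
    exact (Ideal.mem_sInf.1 ha ⟨bot_le, this⟩ : a ∈ m.comap (algebraMap A₀ A))
  obtain ⟨N, hN⟩ : ∃ N, J ^ N ≤ I₀.map (algebraMap A₀ A) := by
    refine Ideal.exists_pow_le_of_le_radical_of_fg ?_ hJfg
    rw [Ideal.radical_eq_sInf]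
    refine le_sInf fun P ⟨hIP, hP⟩ => ?_
    haveI := hP
    haveI : Fintype (MaximalSpectrum A₀) := Fintype.ofFinite _
    have hinf : Finset.univ.inf (fun m : MaximalSpectrum A₀ => m.asIdeal) ≤ P.comap (algebraMap A₀ A) := fun a ha =>
      hIP (Ideal.mem_map_of_mem _ (Ideal.mem_sInf.2 fun {m} hm =>
        (Finset.inf_le (f := fun m : MaximalSpectrum A₀ => m.asIdeal) (Finset.mem_univ (⟨m, hm.2⟩ : MaximalSpectrum A₀)) : _ ≤ m) ha))
    obtain ⟨m, -, hm⟩ := (Ideal.IsPrime.inf_le' (inferInstance : (P.comap (algebraMap A₀ A)).IsPrime)).1 hinf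
    haveI := m.isMaximal.eq_of_le (Ideal.IsPrime.ne_top inferInstance) hm ▸ m.isMaximal
    haveI := Ideal.isMaximal_of_isIntegral_of_isMaximal_comap (R := A₀) P this
    exact sInf_le ⟨bot_le, this⟩
  let A₀' := AdicCompletion I₀ A₀
  haveI : IsNoetherianRing A₀' := Groth.Agent.CplNoeth.isNoetherianRing_completion _
  let T := A₀' ⊗[A₀] A
  letI : Algebra A T := Algebra.TensorProduct.rightAlgebra
  let Î : Ideal A₀' := I₀.map (algebraMap A₀ A₀')
  haveI : IsAdicComplete Î A₀' := AdicCompletion.isAdicComplete_self I₀ (IsNoetherian.noetherian _)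
  let K : Ideal T := (I₀.map (algebraMap A₀ A)).map (algebraMap A T)
  haveI hKc : IsAdicComplete K T := by
    have h1 : IsAdicComplete (Î.map (algebraMap A₀' T)) T :=
      (IsAdicComplete.map_algebraMap_iff _ _).2 (Groth.Agent.CompleteSemilocal.isAdicComplete_finite Î T)
    have hK : K = Î.map (algebraMap A₀' T) := by
      simp only [K, Î, Ideal.map_map, ← IsScalarTower.algebraMap_eq]
    rw [hK]; exact h1
  have hdense : ∀ (n : ℕ) (x : AdicCompletion J A), ∃ s : A,
      x - algebraMap A _ s ∈ (J.map (algebraMap A (AdicCompletion J A))) ^ n :=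
    fun n x => Groth.Agent.H2AdicComplFS.exists_sub_mem hJfg n x
  have hJK : ∀ n, J ^ (N * n) ≤ (K ^ n).comap (algebraMap A T) := fun n => by
    rw [← Ideal.map_le_iff_le_comap, pow_mul, Ideal.map_pow]
    exact Ideal.pow_right_mono (Ideal.map_mono hN) n
  let f : ∀ n, AdicCompletion J A →+* T ⧸ K ^ n := fun n =>
    (Ideal.quotientMap (K ^ n) (algebraMap A T) (hJK n)).comp (AdicCompletion.evalₐ J (N * n)).toRingHom
  have hev : ∀ (k : ℕ) (x : AdicCompletion J A) (s : A), x - algebraMap A _ s ∈ (J.map (algebraMap A (AdicCompletion J A))) ^ k →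
      AdicCompletion.evalₐ J k x = Ideal.Quotient.mk (J ^ k) s := fun k x s hs => by
    have h2 := (Groth.Agent.H2AdicComplFS.mem_pow_map_iff hJfg k _).1 hs
    rw [map_sub, Groth.Agent.H2AdicComplFS.evalₐ_algebraMap, sub_eq_zero] at h2
    exact h2
  have hf : ∀ {m n : ℕ} (hmn : m ≤ n), (Ideal.Quotient.factorPow K hmn).comp (f n) = f m := fun {m n} hmn => by
    refine RingHom.ext fun x => ?_
    obtain ⟨s, hs⟩ := hdense (N * n) x
    show Ideal.Quotient.factorPow K hmn (Ideal.quotientMap _ _ (hJK n) (AdicCompletion.evalₐ J (N * n) x)) =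
      Ideal.quotientMap _ _ (hJK m) (AdicCompletion.evalₐ J (N * m) x)
    rw [hev _ x s hs, hev _ x s (Ideal.pow_le_pow_right (Nat.mul_le_mul_left N hmn) hs)]
    rfl
  let θ : AdicCompletion J A →+* T := IsAdicComplete.liftRingHom K f hf
  have hθ : ∀ a, θ (algebraMap A _ a) = algebraMap A T a := fun a => by
    refine sub_eq_zero.1 (IsHausdorff.haus' (I := K) _ fun n => ?_)
    rw [SModEq.sub_mem, sub_zero, smul_eq_mul, Ideal.mul_top, ← Ideal.Quotient.eq_zero_iff_mem, map_sub,
      IsAdicComplete.mk_liftRingHom, sub_eq_zero]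
    show Ideal.quotientMap _ _ (hJK n) (AdicCompletion.evalₐ J (N * n) (algebraMap A _ a)) = _
    rw [Groth.Agent.H2AdicComplFS.evalₐ_algebraMap]
    rfl
  obtain ⟨φ, hφ⟩ := Groth.Agent.H2ComplReg.exists_map I₀ (IsNoetherian.noetherian _) J (algebraMap A₀ A) hI₀J
  let ι : A₀' →ₐ[A₀] AdicCompletion J A :=
    { φ with commutes' := fun a => (hφ a).trans (IsScalarTower.algebraMap_apply A₀ A _ a).symm }
  intro C _ _ _ _ J' hJ' u₀ ⟨u, hu⟩
  let Φ : T →ₐ[A₀] AdicCompletion J A :=
    Algebra.TensorProduct.lift ι (IsScalarTower.toAlgHom A₀ A _) (fun _ _ => Commute.all _ _)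
  have hΦA : ∀ a, Φ (algebraMap A T a) = algebraMap A _ a := fun a => by
    show Φ ((1 : A₀') ⊗ₜ[A₀] a) = _
    refine (Algebra.TensorProduct.lift_tmul ι (IsScalarTower.toAlgHom A₀ A _) (fun _ _ => Commute.all _ _) (1 : A₀') a).trans ?_
    rw [map_one, one_mul]; rfl
  have hid : ∀ x, Φ (θ x) = x := fun x => by
    haveI : IsAdicComplete (J.map (algebraMap A (AdicCompletion J A))) (AdicCompletion J A) :=
      AdicCompletion.isAdicComplete_self J hJfg
    refine sub_eq_zero.1 (IsHausdorff.haus' (I := J.map (algebraMap A (AdicCompletion J A))) _ fun n => ?_)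
    rw [SModEq.sub_mem, sub_zero, smul_eq_mul, Ideal.mul_top]
    obtain ⟨s, hs⟩ := hdense n x
    have h1 : Φ (θ (x - algebraMap A _ s)) ∈ (J.map (algebraMap A (AdicCompletion J A))) ^ n := by
      rw [← Ideal.map_pow] at hs ⊢
      have h2 := Ideal.mem_map_of_mem (Φ.toRingHom.comp θ) hs
      rw [Ideal.map_map] at h2
      rwa [show (Φ.toRingHom.comp θ).comp (algebraMap A (AdicCompletion J A)) = algebraMap A (AdicCompletion J A) from
        RingHom.ext fun a => (congrArg Φ (hθ a)).trans (hΦA a)] at h2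
    rw [map_sub, map_sub, hθ, hΦA] at h1
    rw [show Φ (θ x) - x = (Φ (θ x) - algebraMap A _ s) - (x - algebraMap A _ s) by ring]
    exact sub_mem h1 hs
  let w : T →ₐ[A₀] C := Algebra.TensorProduct.lift (u.comp ι) (IsScalarTower.toAlgHom A₀ A C) (fun _ _ => Commute.all _ _)
  have hwA : ∀ a, w (algebraMap A T a) = algebraMap A C a := fun a => by
    show w ((1 : A₀') ⊗ₜ[A₀] a) = _
    refine (Algebra.TensorProduct.lift_tmul (u.comp ι) (IsScalarTower.toAlgHom A₀ A C) (fun _ _ => Commute.all _ _) (1 : A₀') a).trans ?_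
    rw [map_one, one_mul]; rfl
  have hw : ∀ t, Ideal.Quotient.mk J' (w t) = u₀ (Φ t) := fun t => by
    induction (t : A₀' ⊗[A₀] A) using TensorProduct.induction_on with
    | zero => simp
    | add x y hx hy => simp only [map_add, hx, hy]
    | tmul b a =>
      rw [show w (b ⊗ₜ[A₀] a) = u (ι b) * algebraMap A C a from
          Algebra.TensorProduct.lift_tmul (u.comp ι) (IsScalarTower.toAlgHom A₀ A C) (fun _ _ => Commute.all _ _) b a,
        show Φ (b ⊗ₜ[A₀] a) = ι b * algebraMap A (AdicCompletion J A) a from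
          Algebra.TensorProduct.lift_tmul ι (IsScalarTower.toAlgHom A₀ A _) (fun _ _ => Commute.all _ _) b a,
        map_mul, map_mul, show Ideal.Quotient.mk J' (u (ι b)) = u₀ (ι b) from AlgHom.congr_fun hu (ι b), u₀.commutes]
      rfl
  refine ⟨{ w.toRingHom.comp θ with commutes' := fun a => (congrArg w (hθ a)).trans (hwA a) }, AlgHom.ext fun x => ?_⟩
  show Ideal.Quotient.mk J' (w (θ x)) = u₀ x
  rw [hw, hid]

end Groth.Agent.S4581
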