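import Groth.Statements.S4584
import Mathlib

set_option autoImplicit false
universe u
open AlgebraicGeometry CategoryTheory Topology
open EGA41
open CategoryTheory.Limits

namespace Groth.Agent.S4584


open CategoryTheory CategoryTheory.Limits AlgebraicGeometry in
/-- A basic constructible subset of an affine scheme is the range of a map of finite presentation. -/
theorem basic_piece {R : Type u} [CommRing R] (C : PrimeSpectrum.BasicConstructibleSetData R) :
    ∃ (A : Type u) (_ : CommRing A) (φ : R →+* A), φ.FinitePresentation ∧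
      Set.range (PrimeSpectrum.comap φ) = C.toSet := by
  let I := Ideal.span (Set.range C.g)
  let f := Ideal.Quotient.mk I C.f
  refine ⟨Localization.Away f, inferInstance, (algebraMap (R ⧸ I) (Localization.Away f)).comp (Ideal.Quotient.mk I), ?_, ?_⟩
  · refine RingHom.FinitePresentation.comp ?_ ?_
    · rw [RingHom.finitePresentation_algebraMap]
      exact IsLocalization.Away.finitePresentation f
    · refine RingHom.FinitePresentation.of_surjective _ Ideal.Quotient.mk_surjective ?_
      rw [Ideal.mk_ker]
      exact Submodule.fg_span (Set.finite_range _)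
  · trans PrimeSpectrum.comap (Ideal.Quotient.mk I) '' (Set.range (PrimeSpectrum.comap (algebraMap _ (Localization.Away f))))
    · rw [← Set.range_comp]; rfl
    · rw [PrimeSpectrum.localization_away_comap_range _ f, ← PrimeSpectrum.comap_basicOpen, TopologicalSpace.Opens.coe_comap,
        ContinuousMap.coe_mk, Set.image_preimage_eq_inter_range,
        range_comap_of_surjective _ _ Ideal.Quotient.mk_surjective, PrimeSpectrum.BasicConstructibleSetData.toSet,
        Set.sdiff_eq_compl_inter, PrimeSpectrum.basicOpen_eq_zeroLocus_compl, Ideal.mk_ker, PrimeSpectrum.zeroLocus_span]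

/-- Given a scheme X that is quasi-compact and quasi-separated, together with a constructible subset Z
of X, one can find an affine scheme X' with a morphism X' → X of finite presentation whose image
equals Z. -/
theorem result (X : Scheme.{u}) [CompactSpace X]
    [QuasiSeparatedSpace X] (Z : Set X) (hZ : IsConstructible Z) :
    ∃ (X' : Scheme.{u}) (f : X' ⟶ X), IsAffine X' ∧ LocallyOfFinitePresentation f ∧ QuasiCompact f ∧
      QuasiSeparated f ∧ Set.range f.base = Z := by
  classical
  let 𝒰 := X.affineCover.finiteSubcover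
  haveI haff : ∀ j, IsAffine (𝒰.X j) := fun j => by dsimp [𝒰]; infer_instance
  let e : ∀ j, Spec Γ(𝒰.X j, ⊤) ⟶ X := fun j => (𝒰.X j).isoSpec.inv ≫ 𝒰.f j
  have hZj : ∀ j, ∃ s : PrimeSpectrum.ConstructibleSetData Γ(𝒰.X j, ⊤), s.toSet = (e j).base ⁻¹' Z :=
    fun j => PrimeSpectrum.exists_constructibleSetData_iff.mpr ((e j).isConstructible_preimage hZ)
  choose s hs using hZj
  let κ := Σ j : 𝒰.I₀, {C // C ∈ s j}
  choose A hA φ hφ hrange using fun (c : κ) => basic_piece c.2.1
  let Y : κ → Scheme.{u} := fun c => Spec (CommRingCat.of (A c))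
  let h : ∀ c : κ, Y c ⟶ X := fun c => Spec.map (CommRingCat.ofHom (φ c)) ≫ e c.1
  have hfp : ∀ c, LocallyOfFinitePresentation (h c) := fun c => by
    haveI : LocallyOfFinitePresentation (Spec.map (CommRingCat.ofHom (φ c))) :=
      (HasRingHomProperty.Spec_iff (P := @LocallyOfFinitePresentation)).mpr (hφ c)
    infer_instance
  haveI : ∀ c, IsAffine (Y c) := fun c => inferInstance
  haveI : IsAffine (∐ Y : Scheme.{u}) := inferInstance
  refine ⟨∐ Y, Limits.Sigma.desc h, inferInstance, ?_, inferInstance, ?_, ?_⟩
  · rw [IsZariskiLocalAtSource.iff_of_openCover (P := @LocallyOfFinitePresentation) (sigmaOpenCover Y)]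
    intro c
    show LocallyOfFinitePresentation (Limits.Sigma.ι Y c ≫ Limits.Sigma.desc h)
    rw [Limits.Sigma.ι_desc]
    exact hfp c
  · haveI : QuasiSeparated (Limits.Sigma.desc h ≫ terminal.from X) :=
      (HasAffineProperty.iff_of_isAffine (P := @QuasiSeparated)).mpr inferInstance
    exact QuasiSeparated.of_comp _ (terminal.from X)
  · ext x
    constructor
    · rintro ⟨y, rfl⟩
      obtain ⟨⟨c, y⟩, rfl⟩ := (sigmaMk Y).surjective y
      rw [sigmaMk_mk, ← Scheme.Hom.comp_apply, Limits.Sigma.ι_desc]
      show (e c.1).base ((Spec.map (CommRingCat.ofHom (φ c))).base y) ∈ Z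
      have hy : (Spec.map (CommRingCat.ofHom (φ c))).base y ∈ (e c.1).base ⁻¹' Z := by
        rw [← hs c.1]
        exact Set.mem_iUnion₂.mpr ⟨c.2.1, c.2.2, (hrange c).subset ⟨y, rfl⟩⟩
      exact hy
    · intro hx
      obtain ⟨j, z, rfl⟩ := 𝒰.exists_eq x
      let w := (𝒰.X j).isoSpec.hom.base z
      have hw : (e j).base w = (𝒰.f j).base z := by
        simp only [e, w, ← Scheme.Hom.comp_apply, Iso.hom_inv_id_assoc]
      have hwZ : w ∈ (e j).base ⁻¹' Z := by
        show (e j).base w ∈ Z
        rw [hw]; exact hx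
      rw [← hs j] at hwZ
      obtain ⟨C, hC, hwC⟩ := Set.mem_iUnion₂.mp hwZ
      obtain ⟨y, hy⟩ := (hrange ⟨j, C, hC⟩).symm.subset hwC
      refine ⟨(Limits.Sigma.ι Y ⟨j, C, hC⟩).base y, ?_⟩
      rw [← Scheme.Hom.comp_apply, Limits.Sigma.ι_desc]
      show (e j).base ((Spec.map (CommRingCat.ofHom (φ ⟨j, C, hC⟩))).base y) = _
      rw [← hw]
      exact congrArg _ hy

end Groth.Agent.S4584
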