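import Groth.Statements.S4585
import Mathlib
import Groth.Agent.Lib.H4SchTop


set_option autoImplicit false
universe u
open AlgebraicGeometry CategoryTheory
open EGA41

namespace Groth.Agent.S4585

/-- Let Y be an irreducible scheme with generic point η and f : X → Y locally of finite type with
nonempty fibre over η. Then some open neighbourhood of η is contained in f(X). (The second
assertion, on fibres of a quasi-coherent module of finite type, is not stated.) -/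
theorem result {X Y : Scheme.{u}} (f : X ⟶ Y)
    [LocallyOfFiniteType f] [IrreducibleSpace Y] (h : genericPoint Y ∈ Set.range f.base) :
    genericPoint Y ∈ interior (Set.range f.base) := by
  obtain ⟨x, hx⟩ := h
  obtain ⟨_, ⟨V, hV, rfl⟩, hηV, -⟩ :=
    Y.isBasis_affineOpens.exists_subset_of_mem_open (Set.mem_univ (genericPoint Y)) isOpen_univ
  obtain ⟨_, ⟨U, hU, rfl⟩, hxU, hUV⟩ := X.isBasis_affineOpens.exists_subset_of_mem_open
    (show x ∈ ((f ⁻¹ᵁ V : X.Opens) : Set X) by show f.base x ∈ (V : Set Y); rw [hx]; exact hηV)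
    (f ⁻¹ᵁ V).isOpen
  rw [← hV.range_fromSpec] at hηV
  rw [← hU.range_fromSpec] at hxU
  obtain ⟨p, hp⟩ := hηV
  obtain ⟨q, rfl⟩ := hxU
  have hle : U ≤ f ⁻¹ᵁ V := hUV
  have hc : ∀ r, f.base (hU.fromSpec r) =
      hV.fromSpec (PrimeSpectrum.comap (f.appLE V U hle).hom r) := fun r => by
    rw [← Scheme.Hom.comp_apply, ← hV.SpecMap_appLE_fromSpec f hU hle, Scheme.Hom.comp_apply]
    rfl
  have hqp : PrimeSpectrum.comap (f.appLE V U hle).hom q = p :=
    hV.fromSpec.isOpenEmbedding.injective (by rw [← hc, hx, hp])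
  have hge : ∀ r : PrimeSpectrum Γ(Y, V), @LE.le (PrimeSpectrum Γ(Y, V)) _ p r := fun r =>
    (PrimeSpectrum.le_iff_specializes _ _).mpr (hV.fromSpec.isOpenEmbedding.isInducing.specializes_iff.mp
      (show hV.fromSpec p ⤳ hV.fromSpec r from hp.symm ▸ genericPoint_specializes (hV.fromSpec r)))
  letI : Algebra Γ(Y, V) Γ(X, U) := (f.appLE V U hle).hom.toAlgebra
  haveI : Algebra.FiniteType Γ(Y, V) Γ(X, U) := f.finiteType_appLE hV hU hle
  let qI : Ideal Γ(X, U) := (q : PrimeSpectrum Γ(X, U)).asIdeal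
  let pI : Ideal Γ(Y, V) := (p : PrimeSpectrum Γ(Y, V)).asIdeal
  haveI : qI.LiesOver pI := ⟨(congrArg PrimeSpectrum.asIdeal hqp).symm⟩
  haveI : qI.IsPrime := (q : PrimeSpectrum Γ(X, U)).2
  haveI : pI.IsPrime := (p : PrimeSpectrum Γ(Y, V)).2
  haveI : Algebra.FiniteType (Γ(Y, V) ⧸ pI) (Γ(X, U) ⧸ qI) :=
    Algebra.FiniteType.of_restrictScalars_finiteType Γ(Y, V) _ _
  haveI : FaithfulSMul (Γ(Y, V) ⧸ pI) (Γ(X, U) ⧸ qI) :=
    inferInstance
  obtain ⟨g, hg, hsurj⟩ :=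
    H4SchTop.exists_basicOpen_subset_range (R := Γ(Y, V) ⧸ pI) (S := Γ(X, U) ⧸ qI)
  obtain ⟨a, rfl⟩ := Ideal.Quotient.mk_surjective g
  have ha : a ∉ pI := fun e => hg (Ideal.Quotient.eq_zero_iff_mem.mpr e)
  rw [mem_interior]
  refine ⟨hV.fromSpec '' (PrimeSpectrum.basicOpen a : Set (PrimeSpectrum Γ(Y, V))), ?_,
    hV.fromSpec.isOpenEmbedding.isOpenMap _ (PrimeSpectrum.basicOpen a).2, ⟨p, ha, hp⟩⟩
  rintro _ ⟨r, hr, rfl⟩
  have hker : RingHom.ker (Ideal.Quotient.mk pI) ≤ (r : PrimeSpectrum Γ(Y, V)).asIdeal := by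
    rw [Ideal.mk_ker]; exact hge r
  haveI := (r : PrimeSpectrum Γ(Y, V)).2
  obtain ⟨P, hP, hPr⟩ := hsurj ((r : PrimeSpectrum Γ(Y, V)).asIdeal.map (Ideal.Quotient.mk pI))
    (Ideal.map_isPrime_of_surjective Ideal.Quotient.mk_surjective hker) (fun hm => hr (by
      rw [Ideal.mem_map_iff_of_surjective _ Ideal.Quotient.mk_surjective] at hm
      obtain ⟨b, hb, e⟩ := hm
      have := (r : PrimeSpectrum Γ(Y, V)).asIdeal.sub_mem hb (hker (by rw [RingHom.mem_ker, map_sub, e, sub_self] : b - a ∈ _))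
      rwa [sub_sub_cancel] at this))
  haveI := hP
  refine ⟨hU.fromSpec ⟨P.comap (Ideal.Quotient.mk qI), inferInstance⟩, ?_⟩
  rw [hc]
  congr 1
  refine PrimeSpectrum.ext ?_
  show (P.comap (Ideal.Quotient.mk qI)).comap (algebraMap Γ(Y, V) Γ(X, U)) = _
  rw [Ideal.comap_comap, show (Ideal.Quotient.mk qI).comp (algebraMap Γ(Y, V) Γ(X, U)) =
    (algebraMap (Γ(Y, V) ⧸ pI) (Γ(X, U) ⧸ qI)).comp (Ideal.Quotient.mk pI) from rfl,
    ← Ideal.comap_comap, hPr, Ideal.comap_map_of_surjective' _ Ideal.Quotient.mk_surjective,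
    sup_eq_left.mpr hker]

end Groth.Agent.S4585
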