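import Groth.Statements.S4587
import Mathlib


set_option autoImplicit false
universe u
open AlgebraicGeometry CategoryTheory
open EGA41

namespace Groth.Agent.S4587

/-- A morphism of schemes f : X → Y is generizing if and only if, for every irreducible closed subset Y'
of Y, each irreducible component of f⁻¹(Y') has dense image in Y'. -/
theorem result {X Y : Scheme.{u}} (f : X ⟶ Y) :
    GeneralizingMap f.base ↔
      ∀ Y' : Set Y, IsClosed Y' → IsIrreducible Y' →
        ∀ Z ∈ irreducibleComponents ↥(f.base ⁻¹' Y'), closure (f.base '' (Subtype.val '' Z)) = Y' := by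
  constructor
  · intro h Y' hY' hirr Z hZ
    have hemb := (hY'.preimage f.continuous).isClosedEmbedding_subtypeVal
    haveI : QuasiSober ↥(f.base ⁻¹' Y') := hemb.quasiSober
    have hz := hZ.1.isGenericPoint_genericPoint (isClosed_of_mem_irreducibleComponents _ hZ)
    set z := hZ.1.genericPoint
    have hη := hirr.isGenericPoint_genericPoint hY'
    obtain ⟨z', hz', hfz'⟩ := h (hη.specializes z.2)
    have hz'Y : f.base z' ∈ Y' := by rw [hfz']; exact hη.mem
    have h1 : Z ⊆ closure {(⟨z', hz'Y⟩ : ↥(f.base ⁻¹' Y'))} := by
      rw [← hz.def]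
      exact specializes_iff_closure_subset.mp
        (hemb.isInducing.specializes_iff.mp (show (z' : X) ⤳ (z : X) from hz'))
    have h2 := hZ.2 isIrreducible_singleton.closure h1 (subset_closure rfl)
    rw [← hz.def] at h2
    have e : z' = (z : X) :=
      (hz'.antisymm ((specializes_iff_mem_closure.mpr h2).map continuous_subtype_val)).eq
    refine subset_antisymm (closure_minimal ?_ hY') ?_
    · rintro _ ⟨_, ⟨w, -, rfl⟩, rfl⟩
      exact w.2
    · refine hη.def.ge.trans (closure_mono (Set.singleton_subset_iff.mpr ?_))
      exact ⟨z', ⟨z, hz.mem, e.symm⟩, hfz'⟩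
  · intro h x y' hy'
    have hY : IsClosed (closure ({y'} : Set Y)) := isClosed_closure
    have hemb := (hY.preimage f.continuous).isClosedEmbedding_subtypeVal
    haveI : QuasiSober ↥(f.base ⁻¹' closure ({y'} : Set Y)) := hemb.quasiSober
    have hx : f.base x ∈ closure ({y'} : Set Y) := specializes_iff_mem_closure.mp hy'
    let x' : ↥(f.base ⁻¹' closure ({y'} : Set Y)) := ⟨x, hx⟩
    have hZ := irreducibleComponent_mem_irreducibleComponents x'
    have hz := hZ.1.isGenericPoint_genericPoint (isClosed_of_mem_irreducibleComponents _ hZ)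
    set z := hZ.1.genericPoint
    refine ⟨z.1, (hz.specializes mem_irreducibleComponent).map continuous_subtype_val, ?_⟩
    have h1 := h _ hY isIrreducible_singleton.closure _ hZ
    have h2 : closure (f.base '' (Subtype.val '' irreducibleComponent x')) ⊆ closure {f.base z.1} := by
      refine closure_minimal ?_ isClosed_closure
      rintro _ ⟨_, ⟨w, hw, rfl⟩, rfl⟩
      exact specializes_iff_mem_closure.mp
        (((hz.specializes hw).map continuous_subtype_val).map f.continuous)
    rw [h1] at h2
    exact ((specializes_iff_closure_subset.mpr h2).antisymm (specializes_iff_mem_closure.mpr z.2)).eq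

end Groth.Agent.S4587
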