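import Mathlib
import Groth.Statements.S4588
import Groth.Agent.Lib.RegularLocalBasic
import Groth.Agent.Lib.RegularLocalSerre
import Groth.Agent.Lib.H2IntegralDim
-- import your own Groth.Agent.* helpers here

set_option autoImplicit false
universe u
open IsLocalRing
open EGA41

namespace Groth.Agent.S4588

/-- Let A be a regular local ring with maximal ideal m and residue field K, and F_i(T_i) = T_i^{d_i} +
Σ_{k<d_i} c_{ik} T_i^k (1 ≤ i ≤ r) monic one-variable polynomials of degrees d_i ≥ 2 with all
non-leading coefficients in m; put A' = A[T_1, …, T_r]/(F_1, …, F_r). Then (i) A' is local with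
residue field K, and (ii) A' is regular if and only if the classes in m/m² of the constant terms
c_{i0} are linearly independent over K. -/
theorem result {A : Type u} [CommRing A]
    [IsRegularLocalRing A] {r : ℕ} (d : Fin r → ℕ) (hd : ∀ i, 2 ≤ d i) (c : Fin r → ℕ → A)
    (hc : ∀ i k, c i k ∈ maximalIdeal A) :
    let F : Fin r → MvPolynomial (Fin r) A := fun i =>
      MvPolynomial.X i ^ d i + (Finset.range (d i)).sum fun k => MvPolynomial.C (c i k) * MvPolynomial.X i ^ k
    IsLocalRing (MvPolynomial (Fin r) A ⧸ Ideal.span (Set.range F)) ∧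
    (∀ (M : Ideal (MvPolynomial (Fin r) A ⧸ Ideal.span (Set.range F))) [M.IsMaximal],
      Function.Surjective ((Ideal.Quotient.mk M).comp (algebraMap A _))) ∧
    (IsRegularRing (MvPolynomial (Fin r) A ⧸ Ideal.span (Set.range F)) ↔
      LinearIndependent (ResidueField A) (fun i => (maximalIdeal A).toCotangent ⟨c i 0, hc i 0⟩)) := by
  classical
  intro F
  set I : Ideal (MvPolynomial (Fin r) A) := Ideal.span (Set.range F) with hI
  set S := MvPolynomial (Fin r) A ⧸ I with hS
  set K := ResidueField A with hK
  haveI : IsDomain A := Groth.Agent.RegLocal.isDomain (R := A)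
  let π : MvPolynomial (Fin r) A →+* S := Ideal.Quotient.mk I
  let t : Fin r → S := fun i => π (MvPolynomial.X i)
  have hπF : ∀ i, π (F i) = 0 := fun i => Ideal.Quotient.eq_zero_iff_mem.mpr (Ideal.subset_span ⟨i, rfl⟩)
  have ht : ∀ i, t i ^ d i + ∑ k ∈ Finset.range (d i), algebraMap A S (c i k) * t i ^ k = 0 := fun i => by
    rw [← hπF i]
    simp [F, t, π, ← Ideal.Quotient.mk_algebraMap]
    rfl
  haveI : Algebra.IsIntegral A S := ⟨fun x => by
    obtain ⟨p, rfl⟩ := Ideal.Quotient.mk_surjective x
    induction p using MvPolynomial.induction_on with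
    | C a => exact (isIntegral_algebraMap : IsIntegral A (algebraMap A S a))
    | add p q hp hq => rw [map_add]; exact hp.add hq
    | mul_X p i hp =>
      rw [map_mul]
      refine hp.mul ⟨Polynomial.X ^ d i + ∑ k ∈ Finset.range (d i), Polynomial.C (c i k) * Polynomial.X ^ k, ?_, ?_⟩
      · refine Polynomial.monic_X_pow_add ((Polynomial.degree_sum_le _ _).trans_lt ?_)
        refine (Finset.sup_lt_iff (WithBot.bot_lt_coe _)).mpr fun k hk => ?_
        exact (Polynomial.degree_C_mul_X_pow_le _ _).trans_lt (by exact_mod_cast Finset.mem_range.mp hk)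
      · simpa [Polynomial.eval₂_finsetSum] using ht i⟩
  have hinj : Function.Injective (algebraMap A S) := by
    let Ω := AlgebraicClosure (FractionRing A)
    have hroot : ∀ i, ∃ ρ : Ω, MvPolynomial.aeval (fun _ => ρ) (F i) = 0 := fun i => by
      obtain ⟨ρ, hρ⟩ := IsAlgClosed.exists_root
        ((Polynomial.X ^ d i + ∑ k ∈ Finset.range (d i), Polynomial.C (c i k) * Polynomial.X ^ k : Polynomial A).map (algebraMap A Ω)) (by
          have hdeg : (∑ k ∈ Finset.range (d i), Polynomial.C (algebraMap A Ω (c i k)) * Polynomial.X ^ k).degree < (d i : WithBot ℕ) := by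
            refine (Polynomial.degree_sum_le _ _).trans_lt ((Finset.sup_lt_iff (WithBot.bot_lt_coe _)).mpr fun k hk => ?_)
            exact (Polynomial.degree_C_mul_X_pow_le _ _).trans_lt (by exact_mod_cast Finset.mem_range.mp hk)
          simp only [Polynomial.map_add, Polynomial.map_pow, Polynomial.map_X, Polynomial.map_sum, Polynomial.map_mul, Polynomial.map_C]
          rw [Polynomial.degree_add_eq_left_of_degree_lt (by rwa [Polynomial.degree_X_pow]), Polynomial.degree_X_pow]
          exact_mod_cast (by have := hd i; omega : d i ≠ 0))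
      refine ⟨ρ, ?_⟩
      simpa [F, Polynomial.IsRoot, Polynomial.eval_finsetSum, Polynomial.map_sum] using hρ
    choose ρ hρ using hroot
    have hker : ∀ p ∈ I, (MvPolynomial.aeval (R := A) ρ) p = 0 := by
      show I ≤ RingHom.ker (MvPolynomial.aeval (R := A) ρ)
      refine Ideal.span_le.mpr ?_
      rintro _ ⟨i, rfl⟩
      have h1 := hρ i
      simp only [SetLike.mem_coe, RingHom.mem_ker, F, map_add, map_pow, map_sum, map_mul, MvPolynomial.aeval_X, MvPolynomial.aeval_C] at h1 ⊢
      exact h1
    intro a b hab
    have h1 := congrArg (Ideal.Quotient.liftₐ I (MvPolynomial.aeval (R := A) ρ) hker) hab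
    rw [AlgHom.commutes, AlgHom.commutes, IsScalarTower.algebraMap_apply A (FractionRing A) Ω,
      IsScalarTower.algebraMap_apply A (FractionRing A) Ω b] at h1
    exact IsFractionRing.injective A (FractionRing A) ((algebraMap (FractionRing A) Ω).injective h1)
  haveI : Nontrivial S := hinj.nontrivial
  have hspanX : ∀ p : MvPolynomial (Fin r) A, π p - algebraMap A S (MvPolynomial.constantCoeff p) ∈ Ideal.span (Set.range t) := by
    intro p
    induction p using MvPolynomial.induction_on with
    | C a => rw [MvPolynomial.constantCoeff_C]; simp [π, S, ← Ideal.Quotient.mk_algebraMap]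
    | add p q hp hq =>
      rw [map_add, map_add, map_add, add_sub_add_comm]
      exact add_mem hp hq
    | mul_X p i hp =>
      simp only [map_mul, MvPolynomial.constantCoeff_X, mul_zero, map_zero, sub_zero]
      exact Ideal.mul_mem_left _ _ (Ideal.subset_span ⟨i, rfl⟩)
  have hmax : ∀ M : Ideal S, M.IsMaximal → (∀ a, algebraMap A S a ∈ M ↔ a ∈ maximalIdeal A) ∧ Ideal.span (Set.range t) ≤ M := by
    intro M hM
    have hc' : M.comap (algebraMap A S) = maximalIdeal A :=
      IsLocalRing.eq_maximalIdeal (Ideal.isMaximal_comap_of_isIntegral_of_isMaximal M)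
    have hiff : ∀ a, algebraMap A S a ∈ M ↔ a ∈ maximalIdeal A := fun a => by rw [← hc']; rfl
    refine ⟨hiff, Ideal.span_le.mpr ?_⟩
    rintro _ ⟨i, rfl⟩
    refine hM.isPrime.mem_of_pow_mem (d i) ?_
    rw [eq_neg_of_add_eq_zero_left (ht i)]
    exact neg_mem (sum_mem fun k _ => M.mul_mem_right _ ((hiff _).mpr (hc i k)))
  haveI hloc : IsLocalRing S := by
    obtain ⟨M, hM⟩ := Ideal.exists_maximal S
    refine IsLocalRing.of_unique_max_ideal ⟨M, hM, fun M' hM' => hM'.eq_of_le hM.ne_top fun x hx => ?_⟩
    obtain ⟨p, rfl⟩ := Ideal.Quotient.mk_surjective x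
    have h1 : algebraMap A S (MvPolynomial.constantCoeff p) ∈ M' := by
      have := sub_mem hx ((hmax M' hM').2 (hspanX p))
      rwa [sub_sub_cancel] at this
    have h2 : algebraMap A S (MvPolynomial.constantCoeff p) ∈ M := ((hmax M hM).1 _).mpr (((hmax M' hM').1 _).mp h1)
    have := add_mem ((hmax M hM).2 (hspanX p)) h2
    rwa [sub_add_cancel] at this
  refine ⟨hloc, fun M hM x => ?_, ?_⟩
  · obtain ⟨y, rfl⟩ := Ideal.Quotient.mk_surjective x
    obtain ⟨p, rfl⟩ := Ideal.Quotient.mk_surjective y
    refine ⟨MvPolynomial.constantCoeff p, (Ideal.Quotient.eq.mpr ?_)⟩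
    rw [← neg_sub]
    exact neg_mem ((hmax M hM).2 (hspanX p))
  haveI : IsNoetherianRing S := inferInstance
  obtain ⟨hmS, htS⟩ := hmax (maximalIdeal S) inferInstance
  have hdim : ringKrullDim S = (Module.finrank K (CotangentSpace A) : WithBot ℕ∞) := by
    rw [H2IntegralDim.ringKrullDim_eq_of_isIntegral_of_comap_surjective (R := A) fun q => ?_,
      (IsRegularLocalRing.iff_finrank_cotangentSpace A).mp inferInstance]
    obtain ⟨Q, -, hQ, hQq⟩ := Ideal.exists_ideal_over_prime_of_isIntegral q.asIdeal (⊥ : Ideal S) (by
      rw [← RingHom.ker_eq_comap_bot, (RingHom.injective_iff_ker_eq_bot _).mp hinj]; exact bot_le)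
    exact ⟨⟨Q, hQ⟩, PrimeSpectrum.ext hQq⟩
  let v : Fin r → CotangentSpace A := fun i => (maximalIdeal A).toCotangent ⟨c i 0, hc i 0⟩
  let W : Submodule K (CotangentSpace A) := Submodule.span K (Set.range v)
  have hWle : Module.finrank K W ≤ r := (finrank_range_le_card v).trans_eq (Fintype.card_fin r)
  have hWn := W.finrank_quotient_add_finrank
  constructor
  · intro hreg
    haveI := hreg
    haveI := IsRegularLocalRing.of_isRegularRing_of_isLocalRing S
    obtain ⟨s, hs, hspan⟩ := (IsNoetherian.noetherian (maximalIdeal S)).exists_span_finset_card_eq_spanFinrank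
    have hsn : s.card = Module.finrank K (CotangentSpace A) := by
      have := (isRegularLocalRing_iff S).mp inferInstance
      rw [hdim, Nat.cast_inj] at this
      exact hs.trans this
    choose lift hlift using fun x : S => Ideal.Quotient.mk_surjective x
    let ψ : ∀ p : MvPolynomial (Fin r) A, MvPolynomial.constantCoeff p ∈ maximalIdeal A →
        (CotangentSpace A ⧸ W) × (Fin r → K) := fun p hp =>
      (W.mkQ ((maximalIdeal A).toCotangent ⟨_, hp⟩),
        fun i => residue A (MvPolynomial.constantCoeff (MvPolynomial.pderiv i p)))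
    have hψmul : ∀ h p (hp : MvPolynomial.constantCoeff p ∈ maximalIdeal A) (hp' : MvPolynomial.constantCoeff (h * p) ∈ maximalIdeal A),
        ψ (h * p) hp' = residue A (MvPolynomial.constantCoeff h) • ψ p hp := by
      intro h p hp hp'
      refine Prod.ext ?_ (funext fun i => ?_)
      · show W.mkQ ((maximalIdeal A).toCotangent ⟨_, hp'⟩) = residue A (MvPolynomial.constantCoeff h) • W.mkQ _
        rw [← map_smul]
        refine congrArg W.mkQ ?_
        rw [show residue A (MvPolynomial.constantCoeff h) = algebraMap A K (MvPolynomial.constantCoeff h) from rfl, algebraMap_smul]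
        refine Eq.trans ?_ (map_smul _ _ _)
        exact congrArg _ (Subtype.ext (by simp))
      · show residue A _ = residue A _ * residue A _
        rw [Derivation.leibniz, map_add, map_add, smul_eq_mul, smul_eq_mul, map_mul, map_mul, map_mul, map_mul,
          (residue_eq_zero_iff _).mpr hp, zero_mul, add_zero]
    let U : Submodule K ((CotangentSpace A ⧸ W) × (Fin r → K)) := Submodule.span K
      (Set.range fun x : s => if h : MvPolynomial.constantCoeff (lift x) ∈ maximalIdeal A then ψ (lift x) h else 0)
    have hker : ∀ p, MvPolynomial.constantCoeff p ∈ maximalIdeal A →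
        p ∈ Ideal.span (lift '' s) ⊔ I := by
      intro p hp
      have h1 : π p ∈ maximalIdeal S := by
        have := add_mem (htS (hspanX p)) ((hmS _).mpr hp)
        rwa [sub_add_cancel] at this
      have hmap : (Ideal.span (lift '' s)).map π = maximalIdeal S := by
        rw [Ideal.map_span, ← Set.image_comp, ← hspan]
        congr 1
        exact (Set.image_congr fun x _ => hlift x).trans (Set.image_id _)
      rw [← Ideal.mk_ker (I := I), ← Ideal.comap_map_of_surjective' _ Ideal.Quotient.mk_surjective, Ideal.mem_comap]
      rwa [hmap]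
    have hU : ∀ p (hp : MvPolynomial.constantCoeff p ∈ maximalIdeal A), ψ p hp ∈ U := by
      intro p hp
      have hmem := hker p hp
      rw [hI, ← Ideal.span_union] at hmem
      have hall : ∀ g ∈ lift '' ↑s ∪ Set.range F, ∃ h : MvPolynomial.constantCoeff g ∈ maximalIdeal A, ψ g h ∈ U := by
        rintro _ (⟨x, hx, rfl⟩ | ⟨i, rfl⟩)
        · have h : MvPolynomial.constantCoeff (lift x) ∈ maximalIdeal A := by
            refine (hmS _).mp ?_
            have h2 : x ∈ maximalIdeal S := hspan ▸ Submodule.subset_span hx
            have := sub_mem h2 (htS (hspanX (lift x)))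
            rwa [show π (lift x) = x from hlift x, sub_sub_cancel] at this
          refine ⟨h, Submodule.subset_span ⟨⟨x, hx⟩, ?_⟩⟩
          simp only [dif_pos h]
        · have hd0 : d i ≠ 0 := by have := hd i; omega
          have h0 : MvPolynomial.constantCoeff (F i) = c i 0 := by
            simp [F, map_sum, zero_pow hd0, zero_pow_eq, Finset.sum_ite_eq', (Nat.pos_of_ne_zero hd0)]
          refine ⟨h0 ▸ hc i 0, ?_⟩
          suffices hz : ψ (F i) (h0 ▸ hc i 0) = 0 by rw [hz]; exact zero_mem _
          refine Prod.ext ((Submodule.Quotient.mk_eq_zero W).mpr (Submodule.subset_span ⟨i, ?_⟩)) (funext fun j => ?_)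
          · exact congrArg _ (Subtype.ext h0.symm)
          · show residue A _ = 0
            simp only [F, map_add, map_sum, Derivation.leibniz, MvPolynomial.pderiv_C, smul_zero, add_zero, smul_eq_mul,
              map_mul, MvPolynomial.constantCoeff_C, (residue_eq_zero_iff _).mpr (hc i _), zero_mul, Finset.sum_const_zero,
              Derivation.leibniz_pow, map_nsmul, map_pow, MvPolynomial.constantCoeff_X]
            simp [zero_pow (show d i - 1 ≠ 0 by have := hd i; omega)]
      have key : ∀ q ∈ Ideal.span (lift '' ↑s ∪ Set.range F), ∃ h : MvPolynomial.constantCoeff q ∈ maximalIdeal A, ψ q h ∈ U := by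
        intro q hq
        induction hq using Submodule.span_induction with
        | mem g hg => exact hall g hg
        | zero =>
          refine ⟨by simp, ?_⟩
          rw [show ψ 0 _ = 0 from Prod.ext (by
            show W.mkQ _ = 0
            rw [show (⟨_, _⟩ : maximalIdeal A) = 0 from Subtype.ext (map_zero MvPolynomial.constantCoeff), map_zero, map_zero])
            (funext fun i => by simp [ψ])]
          exact zero_mem _
        | add a b _ _ ha hb =>
          obtain ⟨ha, ha'⟩ := ha
          obtain ⟨hb, hb'⟩ := hb
          refine ⟨by rw [map_add]; exact add_mem ha hb, ?_⟩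
          rw [show ψ (a + b) _ = ψ a ha + ψ b hb from Prod.ext (by
            show W.mkQ _ = W.mkQ _ + W.mkQ _
            refine Eq.trans (congrArg (fun z => W.mkQ ((maximalIdeal A).toCotangent z))
              (Subtype.ext (map_add MvPolynomial.constantCoeff a b) : _ = ((⟨_, ha⟩ : maximalIdeal A) + ⟨_, hb⟩))) ?_
            simp only [map_add])
            (funext fun i => by simp [ψ])]
          exact add_mem ha' hb'
        | smul h a _ ha =>
          obtain ⟨ha, ha'⟩ := ha
          refine ⟨by rw [smul_eq_mul, map_mul]; exact Ideal.mul_mem_left _ _ ha, ?_⟩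
          simp only [smul_eq_mul]
          rw [hψmul h a ha]
          exact U.smul_mem _ ha'
      exact (key p hmem).2
    have hUtop : U = ⊤ := by
      refine top_le_iff.mp fun z _ => ?_
      obtain ⟨⟨a, ha⟩, hza⟩ : ∃ a : maximalIdeal A, W.mkQ ((maximalIdeal A).toCotangent a) = z.1 := by
        obtain ⟨y, hy⟩ := W.mkQ_surjective z.1
        obtain ⟨a, rfl⟩ := (maximalIdeal A).toCotangent_surjective y
        exact ⟨a, hy⟩
      choose b hb using fun i => residue_surjective (R := A) (z.2 i)
      let p : MvPolynomial (Fin r) A := MvPolynomial.C a + ∑ i, MvPolynomial.C (b i) * MvPolynomial.X i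
      have hp0 : MvPolynomial.constantCoeff p = a := by simp [p]
      have hz : ψ p (by rw [hp0]; exact ha) = z := by
        refine Prod.ext ?_ (funext fun i => ?_)
        · rw [← hza]
          exact congrArg W.mkQ (congrArg _ (Subtype.ext hp0))
        · show residue A _ = z.2 i
          rw [← hb i]
          simp [p, MvPolynomial.pderiv_X, Pi.single_apply]
      rw [← hz]
      exact hU p _
    have hrk : Module.finrank K ((CotangentSpace A ⧸ W) × (Fin r → K)) ≤ s.card := by
      have h3 := finrank_range_le_card (R := K)
        (fun x : s => if h : MvPolynomial.constantCoeff (lift x) ∈ maximalIdeal A then ψ (lift x) h else 0)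
      rw [Set.finrank, show Submodule.span K (Set.range fun x : s => if h : MvPolynomial.constantCoeff (lift x) ∈ maximalIdeal A then ψ (lift x) h else 0) = ⊤ from hUtop,
        finrank_top, Fintype.card_coe] at h3
      exact h3
    rw [Module.finrank_prod, Module.finrank_fin_fun, hsn] at hrk
    rw [linearIndependent_iff_card_le_finrank_span, Fintype.card_fin]
    show r ≤ Module.finrank K W
    omega
  · intro hli
    have hWr : Module.finrank K W = r := (finrank_span_eq_card hli).trans (Fintype.card_fin r)
    let b := Module.finBasis K (CotangentSpace A ⧸ W)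
    choose y hy using fun j => W.mkQ_surjective (b j)
    choose g hg using fun j => (maximalIdeal A).toCotangent_surjective (y j)
    have htop : Submodule.span K ((maximalIdeal A).toCotangent '' (Set.range g ∪ Set.range fun i => ⟨c i 0, hc i 0⟩)) = ⊤ := by
      rw [Set.image_union, Submodule.span_union, ← Set.range_comp, ← Set.range_comp,
        show (maximalIdeal A).toCotangent ∘ (fun i => (⟨c i 0, hc i 0⟩ : maximalIdeal A)) = v from rfl]
      have hb' : (Submodule.span K (Set.range ((maximalIdeal A).toCotangent ∘ g))).map W.mkQ = ⊤ := by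
        rw [Submodule.map_span, ← Set.range_comp,
          show W.mkQ ∘ ((maximalIdeal A).toCotangent ∘ g) = b from funext fun j => by simp only [Function.comp_apply, hg, hy]]
        exact b.span_eq
      rw [sup_comm]
      exact Submodule.map_mkQ_eq_top W _ |>.mp hb'
    rw [CotangentSpace.span_image_eq_top_iff] at htop
    have hle : maximalIdeal S ≤ Ideal.span (Set.range (fun j => algebraMap A S (g j : A)) ∪ Set.range t) := by
      intro x hx
      obtain ⟨p, rfl⟩ := Ideal.Quotient.mk_surjective x
      have hts : Ideal.span (Set.range t) ≤ Ideal.span (Set.range (fun j => algebraMap A S (g j : A)) ∪ Set.range t) :=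
        Ideal.span_mono Set.subset_union_right
      have hcc : MvPolynomial.constantCoeff p ∈ maximalIdeal A := by
        refine (hmS _).mp ?_
        have := sub_mem hx (htS (hspanX p))
        rwa [sub_sub_cancel] at this
      have h2 : (⟨_, hcc⟩ : maximalIdeal A) ∈ Submodule.span A (Set.range g ∪ Set.range fun i => ⟨c i 0, hc i 0⟩) := htop ▸ trivial
      have h3 : algebraMap A S (MvPolynomial.constantCoeff p) ∈ Ideal.span (Set.range (fun j => algebraMap A S (g j : A)) ∪ Set.range t) := by
        refine Submodule.span_induction (p := fun (z : maximalIdeal A) _ => algebraMap A S (z : A) ∈ _) ?_ ?_ ?_ ?_ h2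
        · rintro _ (⟨j, rfl⟩ | ⟨i, rfl⟩)
          · exact Ideal.subset_span (Or.inl ⟨j, rfl⟩)
          · refine hts ?_
            show algebraMap A S (c i 0) ∈ _
            obtain ⟨m, hm⟩ : ∃ m, d i = m + 1 := ⟨d i - 1, by have := hd i; omega⟩
            have h4 := ht i
            rw [hm, Finset.sum_range_succ', pow_zero, mul_one, ← add_assoc] at h4
            rw [eq_neg_of_add_eq_zero_right h4]
            refine neg_mem (add_mem ?_ (sum_mem fun k _ => ?_))
            · rw [pow_succ]; exact Ideal.mul_mem_left _ _ (Ideal.subset_span ⟨i, rfl⟩)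
            · rw [pow_succ, ← mul_assoc]; exact Ideal.mul_mem_left _ _ (Ideal.subset_span ⟨i, rfl⟩)
        · simp
        · intro a b _ _ ha hb; rw [Submodule.coe_add, map_add]; exact add_mem ha hb
        · intro a z _ hz; rw [Submodule.coe_smul, smul_eq_mul, map_mul]; exact Ideal.mul_mem_left _ _ hz
      have := add_mem (hts (hspanX p)) h3
      rwa [sub_add_cancel] at this
    haveI : IsRegularLocalRing S := by
      refine IsRegularLocalRing.of_spanFinrank_maximalIdeal_le S ?_
      rw [hdim, Nat.cast_le]
      have hge : Ideal.span (Set.range (fun j => algebraMap A S (g j : A)) ∪ Set.range t) ≤ maximalIdeal S := by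
        refine Ideal.span_le.mpr (Set.union_subset ?_ (Ideal.span_le.mp htS))
        rintro _ ⟨j, rfl⟩
        exact (hmS _).mpr (g j).2
      rw [le_antisymm hle hge]
      refine (Submodule.spanFinrank_span_le_ncard_of_finite ((Set.finite_range _).union (Set.finite_range _))).trans ?_
      refine (Set.ncard_union_le _ _).trans ?_
      have h1 : (Set.range fun j => algebraMap A S (g j : A)).ncard ≤ Module.finrank K (CotangentSpace A ⧸ W) := by
        rw [← Set.image_univ]
        exact (Set.ncard_image_le Set.finite_univ).trans_eq (by simp)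
      have h2 : (Set.range t).ncard ≤ r := by
        rw [← Set.image_univ]
        exact (Set.ncard_image_le Set.finite_univ).trans_eq (by simp)
      omega
    exact isRegularRing_iff.mpr fun p _ => Groth.Agent.RegLocal.regular_localization p _

end Groth.Agent.S4588
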