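import Groth.Statements.S4593
import Mathlib

set_option autoImplicit false
set_option backward.isDefEq.respectTransparency.types false
set_option maxHeartbeats 1000000
set_option linter.all false
universe u
open CategoryTheory CategoryTheory.Limits AlgebraicGeometry
open EGA41

namespace Groth.Agent.S4593
open Groth.Agent

/-- Let B be a ring, (A_i) a filtered system of B-algebras with colimit A. The image of Spec A in Spec B
is the intersection of the images of the Spec A_i. -/
theorem result {I : Type u} [SmallCategory I] [IsFiltered I]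
    (B : CommRingCat.{u}) (D : I ⥤ CommRingCat.{u}) (s : (Functor.const I).obj B ⟶ D) (c : Cocone D)
    (hc : IsColimit c) (i₀ : I) :
    Set.range (Spec.map (s.app i₀ ≫ c.ι.app i₀)).base = ⋂ i : I, Set.range (Spec.map (s.app i)).base := by
    let φ : ∀ i, B ⟶ c.pt := fun i => s.app i ≫ c.ι.app i
    have hnat : ∀ {i j} (f : i ⟶ j), s.app i ≫ D.map f = s.app j := fun {i j} f => by
      have := s.naturality f
      simp at this
      exact this.symm
    have heq : ∀ i, φ i = φ i₀ := fun i => by
      obtain ⟨k, f, g, -⟩ := IsFilteredOrEmpty.cocone_objs i i₀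
      simp only [φ]
      rw [← c.w f, ← c.w g, ← Category.assoc, hnat, ← Category.assoc, hnat]
    change Set.range (PrimeSpectrum.comap (φ i₀).hom) = ⋂ i : I, Set.range (PrimeSpectrum.comap (s.app i).hom)
    refine Set.Subset.antisymm (Set.subset_iInter fun i => ?_) fun p hp => ?_
    · rintro _ ⟨q, rfl⟩
      rw [← heq i]
      exact ⟨PrimeSpectrum.comap (c.ι.app i).hom q, rfl⟩
    rw [Set.mem_iInter] at hp
    refine (PrimeSpectrum.mem_range_comap_iff _).2 (le_antisymm (fun x hx => ?_) Ideal.le_comap_map)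
    have key : ∀ z ∈ p.asIdeal.map (φ i₀).hom, ∃ (j : I) (w : D.obj j), w ∈ p.asIdeal.map (s.app j).hom ∧ c.ι.app j w = z := by
      intro z hz
      refine Submodule.span_induction (p := fun z _ => ∃ (j : I) (w : D.obj j), w ∈ p.asIdeal.map (s.app j).hom ∧ c.ι.app j w = z) ?_ ⟨i₀, 0, zero_mem _, map_zero _⟩ ?_ ?_ hz
      · rintro _ ⟨b, hb, rfl⟩
        exact ⟨i₀, s.app i₀ b, Ideal.mem_map_of_mem _ hb, rfl⟩
      · rintro a b - - ⟨j, w, hw, rfl⟩ ⟨j', w', hw', rfl⟩
        obtain ⟨k, f, g, -⟩ := IsFilteredOrEmpty.cocone_objs j j'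
        refine ⟨k, D.map f w + D.map g w', add_mem ?_ ?_, ?_⟩
        · have := Ideal.mem_map_of_mem (D.map f).hom hw
          rwa [Ideal.map_map, ← CommRingCat.hom_comp, hnat] at this
        · have := Ideal.mem_map_of_mem (D.map g).hom hw'
          rwa [Ideal.map_map, ← CommRingCat.hom_comp, hnat] at this
        · rw [map_add]
          exact congrArg₂ (· + ·) (congr($(c.w f) w)) (congr($(c.w g) w'))
      · rintro r a - ⟨j, w, hw, rfl⟩
        obtain ⟨j', r', rfl⟩ := Concrete.isColimit_exists_rep D hc r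
        obtain ⟨k, f, g, -⟩ := IsFilteredOrEmpty.cocone_objs j j'
        refine ⟨k, D.map g r' * D.map f w, Ideal.mul_mem_left _ _ ?_, ?_⟩
        · have := Ideal.mem_map_of_mem (D.map f).hom hw
          rwa [Ideal.map_map, ← CommRingCat.hom_comp, hnat] at this
        · rw [map_mul, smul_eq_mul]
          exact congrArg₂ (· * ·) (congr($(c.w g) r')) (congr($(c.w f) w))
    obtain ⟨j, w, hw, hwx⟩ := key _ hx
    rw [← heq j] at hwx
    obtain ⟨k, f, g, hfg⟩ := Concrete.isColimit_exists_of_rep_eq D hc w (s.app j x) hwx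
    obtain ⟨q, hq⟩ := hp k
    have h1 : s.app k x ∈ p.asIdeal.map (s.app k).hom := by
      have h2 := Ideal.mem_map_of_mem (D.map f).hom hw
      rw [Ideal.map_map, ← CommRingCat.hom_comp, hnat, ← hnat g] at h2
      rw [show (D.map f).hom w = D.map g (s.app j x) from hfg] at h2
      rw [← hnat g]
      exact h2
    rw [← (PrimeSpectrum.mem_range_comap_iff _).1 (hp k)]
    exact h1

end Groth.Agent.S4593
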