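import Groth.Statements.S4597
import Mathlib


set_option autoImplicit false
universe u
open AlgebraicGeometry CategoryTheory CategoryTheory.Limits
open EGA41

namespace Groth.Agent.S4597

/-- Let f : X → Y, g : Y' → Y and f' : X ×_Y Y' → Y' the base change. If g is quasi-compact surjective
and f' quasi-compact, f is quasi-compact; if g is surjective and f' dominant, f is dominant. -/
theorem result {X Y Y' : Scheme.{u}} (f : X ⟶ Y)
    (g : Y' ⟶ Y) [Surjective g] :
    (QuasiCompact g → QuasiCompact (pullback.snd f g) → QuasiCompact f) ∧
    (IsDominant (pullback.snd f g) → IsDominant f) := by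
  refine ⟨fun hg h => ⟨fun U hUo hUc => ?_⟩, fun h => ⟨?_⟩⟩
  · have h1 := QuasiCompact.isCompact_preimage (f := pullback.snd f g) (g.base ⁻¹' U)
      (hUo.preimage g.continuous) (QuasiCompact.isCompact_preimage (f := g) U hUo hUc)
    have e : f.base ⁻¹' U = (pullback.fst f g).base '' ((pullback.snd f g).base ⁻¹' (g.base ⁻¹' U)) := by
      rw [← Set.preimage_comp, ← TopCat.coe_comp, ← Scheme.Hom.comp_base, ← pullback.condition,
        Scheme.Hom.comp_base, TopCat.coe_comp, Set.preimage_comp,
        Set.image_preimage_eq _ (Surjective.surj (f := pullback.fst f g))]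
    exact e ▸ h1.image (pullback.fst f g).continuous
  · have h1 : DenseRange (g.base ∘ (pullback.snd f g).base) :=
      (Function.Surjective.denseRange (Surjective.surj (f := g))).comp h.denseRange g.continuous
    refine h1.mono ?_
    rintro _ ⟨z, rfl⟩
    exact ⟨(pullback.fst f g).base z,
      congrArg (fun k => k.base z) (pullback.condition (f := f) (g := g))⟩

end Groth.Agent.S4597
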