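import Groth.Statements.S4598
import Mathlib


set_option autoImplicit false
universe u
open AlgebraicGeometry CategoryTheory CategoryTheory.Limits
open EGA41

namespace Groth.Agent.S4598

theorem precomp : MorphismProperty.HasOfPrecompProperty @QuasiCompact
    (@Surjective ⊓ @QuasiCompact : MorphismProperty Scheme.{u}) where
  of_precomp {X Y Z} f g hf hfg := by
    haveI : Surjective f := hf.1
    refine ⟨fun U hUo hUc => ?_⟩
    have h := QuasiCompact.isCompact_preimage (f := f ≫ g) U hUo hUc
    have e : g.base ⁻¹' U = f.base '' ((f ≫ g).base ⁻¹' U) := by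
      rw [Scheme.Hom.comp_base, TopCat.coe_comp, Set.preimage_comp,
        Set.image_preimage_eq _ (Surjective.surj (f := f))]
    exact e ▸ h.image f.continuous

/-- If g : Y' → Y is quasi-compact and surjective and the base change X ×_Y Y' → Y' of f : X → Y is
quasi-separated, then f is quasi-separated. -/
theorem result {X Y Y' : Scheme.{u}} (f : X ⟶ Y)
    (g : Y' ⟶ Y) [QuasiCompact g] [Surjective g] [QuasiSeparated (pullback.snd f g)] :
    QuasiSeparated f := by
  haveI := precomp.{u}
  haveI : MorphismProperty.RespectsRight (@QuasiCompact : MorphismProperty Scheme.{u})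
      (@Surjective ⊓ @QuasiCompact : MorphismProperty Scheme.{u}) :=
    ⟨fun i hi f hf => by
      haveI : QuasiCompact i := hi.2
      haveI : QuasiCompact f := hf
      exact inferInstanceAs (QuasiCompact (f ≫ i))⟩
  have h : MorphismProperty.diagonal @QuasiCompact (pullback.snd f g) :=
    (quasiSeparated_iff _).mp inferInstance
  exact (quasiSeparated_iff f).mpr (MorphismProperty.of_pullback_snd_of_descendsAlong
    (P := MorphismProperty.diagonal @QuasiCompact) (Q := @Surjective ⊓ @QuasiCompact)
    ⟨inferInstance, inferInstance⟩ h)

end Groth.Agent.S4598
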