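import Groth.Statements.S4599
import Mathlib


set_option autoImplicit false
universe u
open AlgebraicGeometry CategoryTheory CategoryTheory.Limits
open EGA41

namespace Groth.Agent.S4599

/-- The diagonal of a morphism locally of finite type is locally of finite presentation. -/
theorem result {Y Z : Scheme.{u}} (g : Y ⟶ Z)
    [LocallyOfFiniteType g] : LocallyOfFinitePresentation (pullback.diagonal g) := by
  wlog hX : (∃ S, Y = Spec S) ∧ ∃ R, Z = Spec R
  · haveI hRR : MorphismProperty.RespectsRight (@LocallyOfFinitePresentation : MorphismProperty Scheme.{u}) @IsOpenImmersion :=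
      ⟨fun i hi f hf => by
        haveI : IsOpenImmersion i := hi
        haveI : LocallyOfFinitePresentation f := hf
        exact inferInstanceAs (LocallyOfFinitePresentation (f ≫ i))⟩
    let 𝒰Y := Z.affineCover
    let 𝒰X (j : (Z.affineCover.pullback₁ g).I₀) :
        ((Z.affineCover.pullback₁ g).X j).OpenCover := Scheme.affineCover _
    apply IsZariskiLocalAtTarget.of_range_subset_iSup _
      (Scheme.Pullback.range_diagonal_subset_diagonalCoverDiagonalRange g 𝒰Y 𝒰X)
    intro ⟨i, j⟩
    rw [MorphismProperty.arrow_mk_iso_iff (P := @LocallyOfFinitePresentation)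
      (Scheme.Pullback.diagonalRestrictIsoDiagonal g 𝒰Y 𝒰X i j)]
    have hfin : LocallyOfFiniteType ((𝒰X i).f j ≫ pullback.snd g (𝒰Y.f i)) :=
      MorphismProperty.comp_mem _ _ _ inferInstance (MorphismProperty.pullback_snd _ _ inferInstance)
    exact this _ ⟨⟨_, rfl⟩, ⟨_, rfl⟩⟩
  obtain ⟨⟨S, rfl⟩, R, rfl⟩ := hX
  obtain ⟨φ, rfl⟩ := Spec.map_surjective g
  have hft : φ.hom.FiniteType :=
    (HasRingHomProperty.Spec_iff (P := @LocallyOfFiniteType)).mp inferInstance
  algebraize [φ.hom]
  rw [show φ = CommRingCat.ofHom (algebraMap R S) from rfl, diagonal_SpecMap R S,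
    MorphismProperty.cancel_right_of_respectsIso (P := @LocallyOfFinitePresentation),
    LocallyOfFinitePresentation.SpecMap_iff]
  exact RingHom.FinitePresentation.of_surjective _ (fun x => ⟨x ⊗ₜ 1, by simp⟩)
    (KaehlerDifferential.ideal_fg R S)

end Groth.Agent.S4599
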