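import Groth.Statements.S4603
import Mathlib
import Groth.Agent.Lib.H4ProCons
import Groth.Agent.Lib.H4SchTop
import Groth.Agent.Lib.H6.ProConsSpec


set_option autoImplicit false
universe u
open AlgebraicGeometry CategoryTheory
open EGA41

namespace Groth.Agent.S4603

/-- Let f : X → Y be quasi-compact. The following are equivalent: f is dominant; the fibre of f over
every maximal point of Y (a point with no proper generization, i.e. the generic point of an
irreducible component) is nonempty; every maximal point of Y is the image of a maximal point of X. -/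
theorem result {X Y : Scheme.{u}} (f : X ⟶ Y) [QuasiCompact f] :
    [IsDominant f,
     ∀ y : Y, (∀ y' : Y, y' ⤳ y → y' = y) → y ∈ Set.range f.base,
     ∀ y : Y, (∀ y' : Y, y' ⤳ y → y' = y) → ∃ x : X, (∀ x' : X, x' ⤳ x → x' = x) ∧ f.base x = y].TFAE := by
  tfae_have 1 → 2 := by
    intro h y hy
    obtain ⟨y', hy', hsp⟩ := H6.ProConsSpec.closure_eq_specializations
      (H4ProCons.isPro_image f H4ProCons.isPro_univ) (y := y) (by
        rw [Set.image_univ, h.denseRange.closure_range]; trivial)
    rw [Set.image_univ] at hy'
    exact hy y' hsp ▸ hy'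
  tfae_have 2 → 3 := by
    intro h y hy
    obtain ⟨x, rfl⟩ := h y hy
    obtain ⟨x', hx', hmax⟩ := H4SchTop.exists_maximal_gen x
    exact ⟨x', hmax, hy _ (hx'.map f.continuous)⟩
  tfae_have 3 → 1 := by
    intro h
    refine ⟨fun y => ?_⟩
    obtain ⟨y', hy', hmax⟩ := H4SchTop.exists_maximal_gen y
    obtain ⟨x, -, rfl⟩ := h y' hmax
    exact closure_mono (Set.singleton_subset_iff.mpr (show f.base x ∈ Set.range f.base from ⟨x, rfl⟩))
      (specializes_iff_mem_closure.mp hy')
  tfae_finish

end Groth.Agent.S4603
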