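import Groth.Statements.S4604
import Mathlib

set_option autoImplicit false
set_option backward.isDefEq.respectTransparency.types false
set_option maxHeartbeats 1000000
set_option linter.all false
universe u
open IsLocalRing
open EGA41

namespace Groth.Agent.S4604
open Groth.Agent

/-- (i) and the kernel statement of (ii): let A be a local ring with maximal ideal m of square zero,
F_i(T_i) = T_i^{d_i} + Σ_{k<d_i} c_{ik} T_i^k (1 ≤ i ≤ r) monic of degrees d_i ≥ 2 with non-leading
coefficients in m, and A' = A[T_1, …, T_r]/(F_1, …, F_r). Then A' is local with residue field K, and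
the kernel of m → m'/m'² (m' the maximal ideal of A') is the ideal generated by the constant terms
c_{i0}. -/
theorem result {A : Type u} [CommRing A] [IsLocalRing A]
    (hm : maximalIdeal A ^ 2 = ⊥) {r : ℕ} (d : Fin r → ℕ) (hd : ∀ i, 2 ≤ d i) (c : Fin r → ℕ → A)
    (hc : ∀ i k, c i k ∈ maximalIdeal A) :
    let F : Fin r → MvPolynomial (Fin r) A := fun i =>
      MvPolynomial.X i ^ d i + (Finset.range (d i)).sum fun k => MvPolynomial.C (c i k) * MvPolynomial.X i ^ k
    ∃ _ : IsLocalRing (MvPolynomial (Fin r) A ⧸ Ideal.span (Set.range F)),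
      Function.Surjective ((Ideal.Quotient.mk (maximalIdeal (MvPolynomial (Fin r) A ⧸ Ideal.span (Set.range F)))).comp
        (algebraMap A (MvPolynomial (Fin r) A ⧸ Ideal.span (Set.range F)))) ∧
      maximalIdeal A ⊓ Ideal.comap (algebraMap A (MvPolynomial (Fin r) A ⧸ Ideal.span (Set.range F)))
          (maximalIdeal (MvPolynomial (Fin r) A ⧸ Ideal.span (Set.range F)) ^ 2) =
        Ideal.span (Set.range fun i => c i 0) := by
    intro F
    classical
    let P := MvPolynomial (Fin r) A
    let J : Ideal P := Ideal.span (Set.range F)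
    let m := maximalIdeal A
    let mk : P →+* P ⧸ J := Ideal.Quotient.mk J
    let q : P →+* A ⧸ m := (Ideal.Quotient.mk m).comp MvPolynomial.constantCoeff
    have hFc : ∀ i, MvPolynomial.constantCoeff (F i) = c i 0 := by
      intro i
      simp only [F, map_add, map_sum, map_mul, map_pow, MvPolynomial.constantCoeff_X, MvPolynomial.constantCoeff_C]
      rw [zero_pow (by have := hd i; omega), zero_add,
        Finset.sum_eq_single 0 (fun k _ hk => by rw [zero_pow hk, mul_zero])
          (fun h => absurd (Finset.mem_range.2 (by have := hd i; omega)) h), pow_zero, mul_one]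
    have hJq : ∀ x ∈ J, q x = 0 := by
      intro x hx
      refine (Ideal.span_le.2 ?_ : J ≤ RingHom.ker q) hx
      rintro _ ⟨i, rfl⟩
      show Ideal.Quotient.mk m (MvPolynomial.constantCoeff (F i)) = 0
      rw [hFc]
      exact Ideal.Quotient.eq_zero_iff_mem.2 (hc i 0)
    let π : P ⧸ J →+* A ⧸ m := Ideal.Quotient.lift J q hJq
    have hπa : ∀ a : A, π (algebraMap A (P ⧸ J) a) = Ideal.Quotient.mk m a := by
      intro a
      show q (MvPolynomial.C a) = _
      exact congrArg _ (MvPolynomial.constantCoeff_C _ a)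
    have hπs : Function.Surjective π := fun y => by
      obtain ⟨a, rfl⟩ := Ideal.Quotient.mk_surjective y
      exact ⟨_, hπa a⟩
    haveI : m.IsMaximal := maximalIdeal.isMaximal A
    letI : Field (A ⧸ m) := Ideal.Quotient.field m
    have hkmax : (RingHom.ker π).IsMaximal := RingHom.ker_isMaximal_of_surjective π hπs
    have hF0 : ∀ i, mk (MvPolynomial.X i) ^ d i +
        (Finset.range (d i)).sum (fun k => algebraMap A (P ⧸ J) (c i k) * mk (MvPolynomial.X i) ^ k) = 0 := by
      intro i
      have h : mk (F i) = 0 := Ideal.Quotient.eq_zero_iff_mem.2 (Ideal.subset_span ⟨i, rfl⟩)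
      simp only [F, map_add, map_sum, map_mul, map_pow] at h
      exact h
    have hmax : ∀ Q : Ideal (P ⧸ J), Q.IsPrime → RingHom.ker π ≤ Q := by
      intro Q hQ
      have hmQ : ∀ a ∈ m, algebraMap A (P ⧸ J) a ∈ Q := fun a ha => hQ.mem_of_pow_mem 2 (by
        rw [← map_pow]
        have : a ^ 2 ∈ m ^ 2 := Ideal.pow_mem_pow ha 2
        rw [hm, Ideal.mem_bot] at this
        rw [this, map_zero]
        exact zero_mem _)
      have hXQ : ∀ i, mk (MvPolynomial.X i) ∈ Q := fun i => hQ.mem_of_pow_mem (d i) (by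
        rw [eq_neg_of_add_eq_zero_left (hF0 i)]
        exact neg_mem (Ideal.sum_mem _ fun k _ => Ideal.mul_mem_right _ _ (hmQ _ (hc i k))))
      intro y hy
      obtain ⟨x, rfl⟩ := Ideal.Quotient.mk_surjective y
      have hx : MvPolynomial.constantCoeff x ∈ m := Ideal.Quotient.eq_zero_iff_mem.1 hy
      have hmem : x - MvPolynomial.C (MvPolynomial.constantCoeff x) ∈ Q.comap mk := by
        have hker : x - MvPolynomial.C (MvPolynomial.constantCoeff x) ∈ RingHom.ker (MvPolynomial.constantCoeff (σ := Fin r) (R := A)) := by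
          simp [RingHom.mem_ker]
        rw [RingHom.mem_ker] at hker
        refine (Ideal.span_le.2 (by rintro _ ⟨i, rfl⟩; exact hXQ i) : MvPolynomial.idealOfVars (Fin r) A ≤ Q.comap mk) ?_
        show _ ∈ Ideal.span _
        rw [← Set.image_univ, MvPolynomial.mem_ideal_span_X_image]
        intro e he
        have : e ≠ 0 := by rintro rfl; exact MvPolynomial.mem_support_iff.1 he (by rw [← MvPolynomial.constantCoeff_eq]; exact hker)
        obtain ⟨i, hi⟩ := Finsupp.ne_iff.1 this
        exact ⟨i, Set.mem_univ i, hi⟩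
      rw [Ideal.mem_comap, map_sub] at hmem
      exact (Submodule.sub_mem_iff_left Q (hmQ _ hx)).1 hmem
    haveI : Nontrivial (P ⧸ J) := π.domain_nontrivial
    have hloc : IsLocalRing (P ⧸ J) := IsLocalRing.of_unique_max_ideal
      ⟨RingHom.ker π, hkmax, fun Q hQ => (hkmax.eq_of_le hQ.ne_top (hmax Q hQ.isPrime)).symm⟩
    refine ⟨hloc, ?_⟩
    have hmk : maximalIdeal (P ⧸ J) = RingHom.ker π := (IsLocalRing.eq_maximalIdeal hkmax).symm
    constructor
    · intro y
      obtain ⟨x, rfl⟩ := Ideal.Quotient.mk_surjective y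
      obtain ⟨a, ha⟩ := Ideal.Quotient.mk_surjective (π x)
      refine ⟨a, Ideal.Quotient.eq.2 ?_⟩
      rw [hmk, RingHom.mem_ker, map_sub, hπa, ha, sub_self]
    · have hCm : Ideal.span (Set.range fun i => c i 0) ≤ m := Ideal.span_le.2 (by rintro _ ⟨i, rfl⟩; exact hc i 0)
      refine le_antisymm ?_ (le_inf hCm (Ideal.span_le.2 ?_))
      · rintro a ⟨ha, ha2⟩
        let C0 : Ideal A := Ideal.span (Set.range fun i => c i 0)
        let ρ : P →+* A ⧸ C0 := (Ideal.Quotient.mk C0).comp MvPolynomial.constantCoeff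
        have hJρ : ∀ x ∈ J, ρ x = 0 := by
          intro x hx
          refine (Ideal.span_le.2 ?_ : J ≤ RingHom.ker ρ) hx
          rintro _ ⟨i, rfl⟩
          show Ideal.Quotient.mk C0 (MvPolynomial.constantCoeff (F i)) = 0
          rw [hFc]
          exact Ideal.Quotient.eq_zero_iff_mem.2 (Ideal.subset_span ⟨i, rfl⟩)
        let φ : P ⧸ J →+* A ⧸ C0 := Ideal.Quotient.lift J ρ hJρ
        have hle : maximalIdeal (P ⧸ J) ≤ (m.map (Ideal.Quotient.mk C0)).comap φ := by
          intro y hy
          obtain ⟨x, rfl⟩ := Ideal.Quotient.mk_surjective y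
          rw [hmk] at hy
          exact Ideal.mem_map_of_mem _ (Ideal.Quotient.eq_zero_iff_mem.1 hy)
        have h2 : algebraMap A (P ⧸ J) a ∈ ((m.map (Ideal.Quotient.mk C0)) ^ 2).comap φ :=
          Ideal.le_comap_pow φ 2 (Ideal.pow_right_mono hle 2 ha2)
        rw [← Ideal.map_pow, hm, Ideal.map_bot, Ideal.mem_comap, Ideal.mem_bot] at h2
        have h3 : φ (algebraMap A (P ⧸ J) a) = Ideal.Quotient.mk C0 a := by
          show ρ (MvPolynomial.C a) = _
          exact congrArg _ (MvPolynomial.constantCoeff_C _ a)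
        rw [h3] at h2
        exact Ideal.Quotient.eq_zero_iff_mem.1 h2
      · rintro _ ⟨i, rfl⟩
        show algebraMap A (P ⧸ J) (c i 0) ∈ maximalIdeal (P ⧸ J) ^ 2
        have hX : mk (MvPolynomial.X i) ∈ maximalIdeal (P ⧸ J) := by
          rw [hmk, RingHom.mem_ker]
          show q (MvPolynomial.X i) = 0
          show Ideal.Quotient.mk m (MvPolynomial.constantCoeff (MvPolynomial.X i)) = 0
          rw [MvPolynomial.constantCoeff_X, map_zero]
        have hA : ∀ a ∈ m, algebraMap A (P ⧸ J) a ∈ maximalIdeal (P ⧸ J) := fun a ha => by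
          rw [hmk, RingHom.mem_ker, hπa]
          exact Ideal.Quotient.eq_zero_iff_mem.2 ha
        have h := hF0 i
        obtain ⟨e, he⟩ := Nat.exists_eq_add_of_le' (hd i)
        rw [he, Finset.sum_range_succ', pow_zero, mul_one, ← add_assoc] at h
        rw [eq_neg_of_add_eq_zero_right h]
        refine neg_mem (add_mem ?_ (Ideal.sum_mem _ fun k _ => ?_))
        · exact Ideal.pow_le_pow_right (by omega) (Ideal.pow_mem_pow hX _)
        · rw [pow_succ (mk (MvPolynomial.X i)) k, pow_two]
          rw [← mul_assoc, mul_comm _ (mk (MvPolynomial.X i))]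
          exact Ideal.mul_mem_mul hX (Ideal.mul_mem_right _ _ (hA _ (hc i (k + 1))))

end Groth.Agent.S4604
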