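import Groth.Statements.S4608
import Mathlib


set_option autoImplicit false
universe u
open AlgebraicGeometry CategoryTheory CategoryTheory.Limits
open EGA41

namespace Groth.Agent.S4608

/-- A morphism from a disjoint union X' ⨿ X'' → Y is quasi-compact if and only if its two components
are. -/
theorem result {X' X'' Y : Scheme.{u}} (f' : X' ⟶ Y) (f'' : X'' ⟶ Y) :
    QuasiCompact (coprod.desc f' f'') ↔ QuasiCompact f' ∧ QuasiCompact f'' := by
  have hl : IsClosed (Set.range (coprod.inl : X' ⟶ X' ⨿ X'').base) := by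
    rw [← isOpen_compl_iff, (isCompl_range_inl_inr X' X'').compl_eq]
    exact (coprod.inr : X'' ⟶ X' ⨿ X'').isOpenEmbedding.isOpen_range
  have hr : IsClosed (Set.range (coprod.inr : X'' ⟶ X' ⨿ X'').base) := by
    rw [← isOpen_compl_iff, (isCompl_range_inl_inr X' X'').symm.compl_eq]
    exact (coprod.inl : X' ⟶ X' ⨿ X'').isOpenEmbedding.isOpen_range
  haveI : QuasiCompact (coprod.inl : X' ⟶ X' ⨿ X'') := ⟨fun U _ hU =>
    (Topology.IsClosedEmbedding.mk (coprod.inl : X' ⟶ X' ⨿ X'').isOpenEmbedding.isEmbedding hl).isCompact_preimage hU⟩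
  haveI : QuasiCompact (coprod.inr : X'' ⟶ X' ⨿ X'') := ⟨fun U _ hU =>
    (Topology.IsClosedEmbedding.mk (coprod.inr : X'' ⟶ X' ⨿ X'').isOpenEmbedding.isEmbedding hr).isCompact_preimage hU⟩
  constructor
  · intro h
    exact ⟨coprod.inl_desc f' f'' ▸ inferInstance, coprod.inr_desc f' f'' ▸ inferInstance⟩
  · rintro ⟨h', h''⟩
    refine ⟨fun U hUo hUc => ?_⟩
    have e : (coprod.desc f' f'').base ⁻¹' U =
        (coprod.inl : X' ⟶ X' ⨿ X'').base '' (f'.base ⁻¹' U) ∪
          (coprod.inr : X'' ⟶ X' ⨿ X'').base '' (f''.base ⁻¹' U) := by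
      have e1 : f'.base ⁻¹' U = (coprod.inl : X' ⟶ X' ⨿ X'').base ⁻¹' ((coprod.desc f' f'').base ⁻¹' U) := by
        rw [← Set.preimage_comp, ← TopCat.coe_comp, ← Scheme.Hom.comp_base, coprod.inl_desc]
      have e2 : f''.base ⁻¹' U = (coprod.inr : X'' ⟶ X' ⨿ X'').base ⁻¹' ((coprod.desc f' f'').base ⁻¹' U) := by
        rw [← Set.preimage_comp, ← TopCat.coe_comp, ← Scheme.Hom.comp_base, coprod.inr_desc]
      rw [e1, e2, Set.image_preimage_eq_inter_range, Set.image_preimage_eq_inter_range,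
        ← Set.inter_union_distrib_left]
      conv_lhs => rw [← Set.inter_univ ((coprod.desc f' f'').base ⁻¹' U)]
      congr 1
      exact (codisjoint_iff.mp (isCompl_range_inl_inr X' X'').codisjoint).symm
    rw [e]
    exact ((QuasiCompact.isCompact_preimage (f := f') U hUo hUc).image (coprod.inl : X' ⟶ X' ⨿ X'').continuous).union
      ((QuasiCompact.isCompact_preimage (f := f'') U hUo hUc).image (coprod.inr : X'' ⟶ X' ⨿ X'').continuous)

end Groth.Agent.S4608
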