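import Mathlib
import Groth.Statements.S4611
-- import your own Groth.Agent.* helpers here

set_option autoImplicit false
universe u
open EGA41

namespace Groth.Agent.S4611

/-- A local algebra essentially of finite type over a ring A is A-isomorphic to a quotient of a
localization A[T_1, …, T_n]_q of a polynomial algebra at a prime ideal q; stated as the existence of
a surjective A-algebra map from such a localization. -/
theorem result {A B : Type u} [CommRing A]
    [CommRing B] [IsLocalRing B] [Algebra A B] [Algebra.EssFiniteType A B] :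
    ∃ (n : ℕ) (q : Ideal (MvPolynomial (Fin n) A)) (_ : q.IsPrime)
      (φ : Localization.AtPrime q →ₐ[A] B), Function.Surjective φ := by
  classical
  let s := Algebra.EssFiniteType.finset A B
  let φ0 : MvPolynomial (Fin s.card) A →ₐ[A] B := MvPolynomial.aeval fun i => (s.equivFin.symm i : B)
  have hrange : Algebra.EssFiniteType.subalgebra A B ≤ φ0.range := by
    refine Algebra.adjoin_le fun b hb => ?_
    exact ⟨MvPolynomial.X (s.equivFin ⟨b, hb⟩), by simp [φ0]⟩
  let q : Ideal (MvPolynomial (Fin s.card) A) := (IsLocalRing.maximalIdeal B).comap φ0.toRingHom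
  haveI : q.IsPrime := Ideal.comap_isPrime _ _
  have hu : ∀ y : q.primeCompl, IsUnit (φ0 (y : MvPolynomial (Fin s.card) A)) := fun y => by
    by_contra hn
    exact y.2 ((IsLocalRing.mem_maximalIdeal _).2 hn)
  refine ⟨s.card, q, inferInstance, IsLocalization.liftAlgHom hu, fun b => ?_⟩
  obtain ⟨⟨x, t⟩, hxt⟩ := IsLocalization.surj (Algebra.EssFiniteType.submonoid A B) b
  obtain ⟨px, hpx⟩ := hrange x.2
  obtain ⟨pt, hpt⟩ := hrange (t : Algebra.EssFiniteType.subalgebra A B).2
  change φ0 px = _ at hpx
  change φ0 pt = _ at hpt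
  have htu : IsUnit (φ0 pt) := by rw [hpt]; exact t.2
  have hpt' : pt ∈ q.primeCompl := by
    show pt ∉ q
    exact fun hq => (IsLocalRing.mem_maximalIdeal _).1 hq htu
  refine ⟨IsLocalization.mk' (Localization.AtPrime q) px ⟨pt, hpt'⟩, ?_⟩
  rw [IsLocalization.liftAlgHom_apply, IsLocalization.lift_mk'_spec]
  show φ0 px = φ0 pt * b
  rw [hpx, hpt, mul_comm]
  exact hxt.symm

end Groth.Agent.S4611
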