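import Groth.Statements.S4613
import Mathlib


set_option autoImplicit false
universe u
open AlgebraicGeometry CategoryTheory
open EGA41

namespace Groth.Agent.S4613

/-- For a closed immersion j : X → Y: j is locally of finite presentation if and only if its ideal sheaf
is of finite type, i.e. for every affine open U of Y the kernel of Γ(U, O_Y) → Γ(j⁻¹U, O_X) is
finitely generated. (An immersion with image closed in an open U reduces to this case.) -/
theorem result {X Y : Scheme.{u}} (j : X ⟶ Y)
    [IsClosedImmersion j] :
    LocallyOfFinitePresentation j ↔ ∀ U : Y.affineOpens, (RingHom.ker (j.app U).hom).FG := by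
  constructor
  · intro h U
    have h1 := j.finitePresentation_appLE U.2 (U.2.preimage j) le_rfl
    rw [← Scheme.Hom.app_eq_appLE] at h1
    algebraize [(j.app U).hom]
    exact Algebra.FinitePresentation.ker_fG_of_surjective (R := Γ(Y, U.1))
      (Algebra.ofId Γ(Y, U.1) Γ(X, j ⁻¹ᵁ U.1)) (j.app_surjective U.1 U.2)
  · intro h
    rw [IsZariskiLocalAtTarget.iff_of_iSup_eq_top (P := @LocallyOfFinitePresentation)
      (fun U : Y.affineOpens => U.1) (iSup_affineOpens_eq_top Y)]
    intro U
    haveI : IsAffine (U.1 : Scheme.{u}) := U.2
    haveI : IsAffine ((j ⁻¹ᵁ U.1 : X.Opens) : Scheme.{u}) := U.2.preimage j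
    rw [HasRingHomProperty.iff_of_isAffine (P := @LocallyOfFinitePresentation),
      Scheme.Hom.appTop, morphismRestrict_app']
    simp only [Scheme.Hom.preimage_top]
    refine (j.appLE_congr _ (Scheme.Opens.ι_image_top _) (Scheme.Opens.ι_image_top _)
      (fun φ => φ.hom.FinitePresentation)).mpr ?_
    rw [← Scheme.Hom.app_eq_appLE]
    exact RingHom.FinitePresentation.of_surjective _ (j.app_surjective U.1 U.2) (h U)

end Groth.Agent.S4613
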