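import Groth.Statements.S4625
import Groth.Prelude.Def_FDesc
import Mathlib

set_option autoImplicit false
open CategoryTheory AlgebraicGeometry
universe u
open FBase

namespace Groth.Agent.S4625
open CategoryTheory CategoryTheory.Limits AlgebraicGeometry

/-- Let X be a scheme over a field k and K an extension field of k. Then X is geometrically connected
over k if and only if X ⊗_k K, with its structure of K-scheme, is geometrically connected over K. -/
theorem result {k K : Type u} [Field k] [Field K] [Algebra k K]
    {X : Scheme.{u}} (f : X ⟶ Spec (CommRingCat.of k)) :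
    GeometricallyConnected f ↔ GeometricallyConnected (FBase.bcStr f K) := by
  constructor
  · intro h
    exact (inferInstance : GeometricallyConnected (CategoryTheory.Limits.pullback.snd f (Spec.map (CommRingCat.ofHom (algebraMap k K)))))
  · intro h
    haveI : Surjective (Spec.map (CommRingCat.ofHom (algebraMap k K))) := ⟨fun a => ⟨Classical.arbitrary _, Subsingleton.elim _ _⟩⟩
    refine ⟨fun L _ y Z fst snd h' => ?_⟩
    haveI : Surjective (CategoryTheory.Limits.pullback.fst y (Spec.map (CommRingCat.ofHom (algebraMap k K)))) := inferInstance
    obtain ⟨w, -⟩ := (CategoryTheory.Limits.pullback.fst y (Spec.map (CommRingCat.ofHom (algebraMap k K)))).surjective (Classical.arbitrary (Spec (CommRingCat.of L) : Scheme.{u}))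
    let l := (CategoryTheory.Limits.pullback y (Spec.map (CommRingCat.ofHom (algebraMap k K)))).fromSpecResidueField w ≫ CategoryTheory.Limits.pullback.fst y (Spec.map (CommRingCat.ofHom (algebraMap k K)))
    let t := (CategoryTheory.Limits.pullback y (Spec.map (CommRingCat.ofHom (algebraMap k K)))).fromSpecResidueField w ≫ CategoryTheory.Limits.pullback.snd y (Spec.map (CommRingCat.ofHom (algebraMap k K)))
    have hlt : l ≫ y = t ≫ (Spec.map (CommRingCat.ofHom (algebraMap k K))) := by simp [l, t, CategoryTheory.Limits.pullback.condition]
    haveI : Surjective l := ⟨fun a => ⟨Classical.arbitrary _, Subsingleton.elim _ _⟩⟩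
    have hbig : IsPullback (CategoryTheory.Limits.pullback.fst snd l ≫ fst) (CategoryTheory.Limits.pullback.snd snd l) f (t ≫ (Spec.map (CommRingCat.ofHom (algebraMap k K)))) := by
      rw [← hlt]
      exact (IsPullback.of_hasPullback snd l).paste_horiz h'
    let m : CategoryTheory.Limits.pullback snd l ⟶ CategoryTheory.Limits.pullback f (Spec.map (CommRingCat.ofHom (algebraMap k K))) := CategoryTheory.Limits.pullback.lift (CategoryTheory.Limits.pullback.fst snd l ≫ fst) (CategoryTheory.Limits.pullback.snd snd l ≫ t)
      (hbig.w.trans (Category.assoc _ _ _).symm)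
    have hm : IsPullback m (CategoryTheory.Limits.pullback.snd snd l) (CategoryTheory.Limits.pullback.snd f (Spec.map (CommRingCat.ofHom (algebraMap k K)))) t := by
      refine IsPullback.of_right ?_ (CategoryTheory.Limits.pullback.lift_snd _ _ _) (IsPullback.of_hasPullback f (Spec.map (CommRingCat.ofHom (algebraMap k K))))
      rw [CategoryTheory.Limits.pullback.lift_fst]; exact hbig
    haveI := GeometricallyConnected.geometrically_connectedSpace (self := h) (f := CategoryTheory.Limits.pullback.snd f (Spec.map (CommRingCat.ofHom (algebraMap k K)))) t m _ hm
    haveI : Surjective (CategoryTheory.Limits.pullback.fst snd l) := inferInstance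
    exact (CategoryTheory.Limits.pullback.fst snd l).surjective.connectedSpace (CategoryTheory.Limits.pullback.fst snd l).continuous

end Groth.Agent.S4625
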