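import Groth.Statements.S4626
import Groth.Agent.Lib.H2GeomDescent

set_option autoImplicit false
set_option backward.isDefEq.respectTransparency.types false
set_option maxHeartbeats 1000000
set_option linter.all false
open CategoryTheory AlgebraicGeometry
universe u
open FBase

namespace Groth.Agent.S4626
open Groth.Agent CategoryTheory.Limits

/-- Let X be a scheme over a field k and K an extension field of k. Then X is geometrically reduced over
k if and only if X ⊗_k K, with its structure of K-scheme, is geometrically reduced over K. -/
theorem result {k K : Type u} [Field k] [Field K] [Algebra k K]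
    {X : Scheme.{u}} (f : X ⟶ Spec (CommRingCat.of k)) :
    GeometricallyReduced f ↔ GeometricallyReduced (FBase.bcStr f K) := by
    have : Surjective (Spec.map (CommRingCat.ofHom (algebraMap k K))) :=
      ⟨fun x => ⟨Nonempty.some inferInstance, Subsingleton.elim (α := PrimeSpectrum k) _ _⟩⟩
    refine ⟨fun h => MorphismProperty.pullback_snd (P := @GeometricallyReduced) _ _ h, fun h => ?_⟩
    exact ⟨H2GeomDescent.geometrically_of_isPullback H2GeomDescent.descends_reduced
      (IsPullback.of_hasPullback f (Spec.map (CommRingCat.ofHom (algebraMap k K)))) h.geometrically_isReduced⟩

end Groth.Agent.S4626
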