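import Groth.Statements.S4627
import Groth.Agent.Lib.H2GeomDescent

set_option autoImplicit false
set_option backward.isDefEq.respectTransparency.types false
set_option maxHeartbeats 1000000
set_option linter.all false
open CategoryTheory AlgebraicGeometry
universe u
open FBase

namespace Groth.Agent.S4627
open Groth.Agent CategoryTheory.Limits

/-- Let X be a scheme over a field k and K an extension field of k. Then X is geometrically integral
over k if and only if X ⊗_k K, with its structure of K-scheme, is geometrically integral over K. -/
theorem result {k K : Type u} [Field k] [Field K] [Algebra k K]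
    {X : Scheme.{u}} (f : X ⟶ Spec (CommRingCat.of k)) :
    GeometricallyIntegral f ↔ GeometricallyIntegral (FBase.bcStr f K) := by
    have : ObjectProperty.IsClosedUnderIsomorphisms (fun X : Scheme.{u} => IsIntegral X) :=
      ⟨fun e h => by
        rw [isIntegral_iff_irreducibleSpace_and_isReduced] at h ⊢
        exact ⟨H2GeomDescent.descends_irreducible e.hom h.1, H2GeomDescent.descends_reduced e.hom h.2⟩⟩
    have : Surjective (Spec.map (CommRingCat.ofHom (algebraMap k K))) :=
      ⟨fun x => ⟨Nonempty.some inferInstance, Subsingleton.elim (α := PrimeSpectrum k) _ _⟩⟩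
    refine ⟨fun h => MorphismProperty.pullback_snd (P := @GeometricallyIntegral) _ _ h, fun h => ?_⟩
    refine ⟨H2GeomDescent.geometrically_of_isPullback (P := fun X => IsIntegral X) (fun Z W q _ _ hi => ?_)
      (IsPullback.of_hasPullback f (Spec.map (CommRingCat.ofHom (algebraMap k K)))) h.geometrically_isIntegral⟩
    simp only at hi ⊢
    rw [isIntegral_iff_irreducibleSpace_and_isReduced] at hi ⊢
    exact ⟨H2GeomDescent.descends_irreducible q hi.1, H2GeomDescent.descends_reduced q hi.2⟩

end Groth.Agent.S4627
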