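import Groth.Statements.S4628
import Mathlib

set_option autoImplicit false
set_option backward.isDefEq.respectTransparency.types false
set_option maxHeartbeats 1000000
set_option linter.all false
open CategoryTheory AlgebraicGeometry
universe u
open FBase

namespace Groth.Agent.S4628

open CategoryTheory.Limits in
/-- Let X be a scheme over a field k which is geometrically reduced (X ⊗_k K is reduced for every
extension field K of k), and let S be any reduced scheme over k. Then the product X ×_k S is
reduced. (No Noetherian or finiteness assumption on S.) -/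
theorem result {k : Type u} [Field k] {X S : Scheme.{u}}
    (f : X ⟶ Spec (CommRingCat.of k)) (g : S ⟶ Spec (CommRingCat.of k)) [GeometricallyReduced f]
    [AlgebraicGeometry.IsReduced S] : AlgebraicGeometry.IsReduced (pullback f g) := by
    suffices key : ∀ (A R : CommRingCat.{u}) (a : Spec A ⟶ X) (b : Spec R ⟶ S), IsOpenImmersion a →
        IsOpenImmersion b → AlgebraicGeometry.IsReduced (pullback (a ≫ f) (b ≫ g)) from
      @IsReduced.of_openCover _ (Scheme.Pullback.openCoverOfLeftRight X.affineCover S.affineCover f g)
        fun ij => key _ _ (X.affineCover.f ij.1) (S.affineCover.f ij.2) (X.affineCover.map_prop _) (S.affineCover.map_prop _)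
    intro A R a b ha hb
    have : AlgebraicGeometry.IsReduced (Spec R) := isReduced_of_isOpenImmersion b
    have hR : _root_.IsReduced R := (affine_isReduced_iff _).1 inferInstance
    obtain ⟨φ, hφ⟩ := Spec.map_surjective (a ≫ f)
    obtain ⟨ψ, hψ⟩ := Spec.map_surjective (b ≫ g)
    rw [← hφ, ← hψ]
    algebraize [φ.hom, ψ.hom]
    have hA : ∀ (K : Type u) [Field K] [Algebra k K], _root_.IsReduced (TensorProduct k A K) := by
      intro K _ _
      have h1 : AlgebraicGeometry.IsReduced (pullback f (Spec.map (CommRingCat.ofHom (algebraMap k K)))) :=
        GeometricallyReduced.geometrically_isReduced _ _ _ (.of_hasPullback _ _)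
      have h2 := @isReduced_of_isOpenImmersion _ _ (pullback.map (a ≫ f) (Spec.map (CommRingCat.ofHom (algebraMap k K)))
        f _ a (𝟙 _) (𝟙 _) (Category.comp_id _) (by simp)) inferInstance h1
      rw [← hφ] at h2
      exact (affine_isReduced_iff (CommRingCat.of (TensorProduct k A K))).1
        (@isReduced_of_isOpenImmersion _ _ (pullbackSpecIso k A K).inv _ h2)
    suffices h : _root_.IsReduced (TensorProduct k A R) from
      @isReduced_of_isOpenImmersion _ _ (pullbackSpecIso k A R).hom _
        ((affine_isReduced_iff (CommRingCat.of (TensorProduct k A R))).2 h)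
    refine ⟨fun x hx => ?_⟩
    classical
    let B := Module.Basis.ofVectorSpace k A
    apply (TensorProduct.equivFinsuppOfBasisLeft (N := R) B).injective
    rw [map_zero]
    ext c
    rw [Finsupp.zero_apply]
    refine IsReduced.eq_zero _ ?_
    refine nilpotent_iff_mem_prime.2 fun P hP => ?_
    let K := FractionRing (R ⧸ P)
    let q : R →ₐ[k] K := (IsScalarTower.toAlgHom k (R ⧸ P) K).comp (Ideal.Quotient.mkₐ k P)
    have h0 : Algebra.TensorProduct.map (AlgHom.id k A) q x = 0 := (hA K).eq_zero _ (hx.map _)
    have h1 : q (TensorProduct.equivFinsuppOfBasisLeft (N := R) B x c) = 0 := by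
      have nat : ∀ y : TensorProduct k A R, q (TensorProduct.equivFinsuppOfBasisLeft (N := R) B y c) =
          TensorProduct.equivFinsuppOfBasisLeft (N := K) B (Algebra.TensorProduct.map (AlgHom.id k A) q y) c := by
        intro y
        induction y with
        | zero => simp
        | tmul m n => simp
        | add y z hy hz => simp [hy, hz]
      rw [nat, h0, map_zero, Finsupp.zero_apply]
    refine Ideal.Quotient.eq_zero_iff_mem.1 (IsFractionRing.injective (R ⧸ P) K ?_)
    rw [map_zero]
    exact h1

end Groth.Agent.S4628
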