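import Groth.Statements.S4629
import Groth.Agent.S4628

set_option autoImplicit false
set_option backward.isDefEq.respectTransparency.types false
set_option maxHeartbeats 1000000
set_option linter.all false
open CategoryTheory AlgebraicGeometry
universe u
open FBase

namespace Groth.Agent.S4629
open Groth.Agent CategoryTheory.Limits

open CategoryTheory.Limits in
/-- If X and Y are schemes over a field k which are both geometrically reduced over k, then X ×_k Y is
geometrically reduced over k. -/
theorem result {k : Type u} [Field k] {X Y : Scheme.{u}}
    (f : X ⟶ Spec (CommRingCat.of k)) (g : Y ⟶ Spec (CommRingCat.of k)) [GeometricallyReduced f]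
    [GeometricallyReduced g] : GeometricallyReduced (pullback.fst f g ≫ f) := by
    refine ⟨fun K _ y Z fst snd hZ => ?_⟩
    have h := (IsPullback.of_hasPullback f y)
    have : AlgebraicGeometry.IsReduced (pullback f y) := GeometricallyReduced.geometrically_isReduced _ _ _ h
    have h1 : AlgebraicGeometry.IsReduced (pullback g (pullback.fst f y ≫ f)) := S4628.result g (pullback.fst f y ≫ f)
    obtain ⟨l, hl1, hl2⟩ := h.exists_lift (fst ≫ pullback.fst f g) snd (by simpa using hZ.w)
    have h2 : IsPullback fst l (pullback.fst f g) (pullback.fst f y) :=
      IsPullback.of_bot (by rw [hl2]; exact hZ) hl1.symm h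
    have h3 : IsPullback (fst ≫ pullback.snd f g) l g (pullback.fst f y ≫ f) :=
      h2.paste_horiz (IsPullback.of_hasPullback f g).flip
    exact @isReduced_of_isOpenImmersion _ _ h3.isoPullback.hom _ h1

end Groth.Agent.S4629
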