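import Groth.Statements.S4636
import Groth.Agent.Lib.H6.AssPts

set_option autoImplicit false
set_option backward.isDefEq.respectTransparency.types false
set_option maxHeartbeats 1000000
set_option linter.all false
open CategoryTheory AlgebraicGeometry
universe u
open AssSch

namespace Groth.Agent.S4636
open Groth.Agent

/-- Let X be a locally Noetherian scheme, F a coherent O_X-module and x a point of X. Then x is a
maximal associated point of F (an associated point such that every associated point specialising to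
x equals x) if and only if x is the generic point of an irreducible component of Supp F, i.e. F_x ≠
0 and every point y with F_y ≠ 0 that specialises to x equals x. -/
theorem result {X : Scheme.{u}} [IsLocallyNoetherian X] (F : X.Modules)
    (hF : Coh.IsCoh F) (x : X) :
    (x ∈ AssSch.Ass F ∧ ∀ y ∈ AssSch.Ass F, y ⤳ x → y = x) ↔
      (Nontrivial ↑(F.presheaf.stalk x) ∧ ∀ y : X, Nontrivial ↑(F.presheaf.stalk y) → y ⤳ x → y = x) := by
    haveI : F.IsQuasicoherent := hF.1
    have hsupp : ∀ y ∈ AssSch.Ass F, Nontrivial ↑(F.presheaf.stalk y) := fun y hy => by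
      obtain ⟨-, ξ, hξ⟩ := (isAssociatedPrime_iff).1 hy
      refine nontrivial_of_ne ξ 0 fun h0 => ?_
      exact (IsLocalRing.maximalIdeal.isMaximal _).ne_top ((Ideal.eq_top_iff_one _).2
        (hξ ▸ (H6.AssPts.smul_eq_zero_iff_mem ξ 1).2 (by rw [h0, smul_zero])))
    have hgen : ∀ y : X, Nontrivial ↑(F.presheaf.stalk y) → ∃ z ∈ AssSch.Ass F, z ⤳ y := by
      intro y hy
      obtain ⟨ξ, hξ⟩ := exists_ne (0 : ↑(F.presheaf.stalk y))
      obtain ⟨V, hV, hyV, -⟩ := exists_isAffineOpen_mem_and_subset (X := X) (x := y) (U := ⊤) trivial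
      haveI : IsNoetherianRing Γ(X, V) := IsLocallyNoetherian.component_noetherian ⟨V, hV⟩
      obtain ⟨u, s, hu, hus⟩ := H6.ZStalk.exists_eq_smul (F := F) hV hyV ξ
      obtain ⟨q, hq, hqp, -⟩ := H6.ZStalk.exists_ass_le hV hyV (s := s) (fun h0 => hξ ((H6.ZStalk.isUnit_gO hyV hu).smul_eq_zero.1 (hus.trans h0)))
      obtain ⟨z, hz, rfl⟩ := H6.ZStalk.exists_point hV q hq.isPrime
      exact ⟨z, (H6.AssPts.mem_ass_iff hV hz).2 hq, (H6.ZStalk.specializes_iff hV hz hyV).2 hqp⟩
    constructor
    · rintro ⟨hx, hmax⟩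
      refine ⟨hsupp x hx, fun y hy hyx => ?_⟩
      obtain ⟨z, hz, hzy⟩ := hgen y hy
      obtain rfl := hmax z hz (hzy.trans hyx)
      exact (hyx.antisymm hzy).eq
    · rintro ⟨hx, hmax⟩
      refine ⟨?_, fun y hy => hmax y (hsupp y hy)⟩
      obtain ⟨z, hz, hzx⟩ := hgen x hx
      rwa [hmax z (hsupp z hz) hzx] at hz

end Groth.Agent.S4636
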