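import Groth.Statements.S4638
import Groth.Agent.Lib.H6.AssPts

set_option autoImplicit false
set_option backward.isDefEq.respectTransparency.types false
set_option maxHeartbeats 1000000
set_option linter.all false
open CategoryTheory AlgebraicGeometry
universe u
open AssSch

namespace Groth.Agent.S4638
open Groth.Agent

/-- Let X be a locally Noetherian scheme, F a quasi-coherent O_X-module and f a global section of O_X.
Then f is F-regular, i.e. multiplication by the germ of f is injective on every stalk of F, if and
only if every associated point of F lies in the open subset X_f where f does not vanish. -/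
theorem result {X : Scheme.{u}} [IsLocallyNoetherian X] (F : X.Modules)
    (hF : Coh.IsQCoh F) (f : Γ(X, ⊤)) :
    (∀ x : X, IsSMulRegular ↑(F.presheaf.stalk x) (X.presheaf.germ ⊤ x trivial f)) ↔
      AssSch.Ass F ⊆ (X.basicOpen f : Set ↥X) := by
    haveI : F.IsQuasicoherent := hF
    constructor
    · intro h x hx
      rw [SetLike.mem_coe, X.mem_basicOpen f x trivial]
      by_contra hu
      obtain ⟨-, ξ, hξ⟩ := (isAssociatedPrime_iff).1 hx
      have hm : X.presheaf.germ ⊤ x trivial f ∈ IsLocalRing.maximalIdeal (X.presheaf.stalk x) := hu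
      have h0 : ξ = 0 := (isSMulRegular_iff_right_eq_zero_of_smul.1 (h x)) ξ
        ((H6.AssPts.smul_eq_zero_iff_mem ξ _).1 (hξ ▸ hm))
      exact (IsLocalRing.maximalIdeal.isMaximal _).ne_top ((Ideal.eq_top_iff_one _).2
        (hξ ▸ (H6.AssPts.smul_eq_zero_iff_mem ξ 1).2 (by rw [h0, smul_zero])))
    · intro h x
      obtain ⟨V, hV, hxV, -⟩ := exists_isAffineOpen_mem_and_subset (X := X) (x := x) (U := ⊤) trivial
      haveI : IsNoetherianRing Γ(X, V) := IsLocallyNoetherian.component_noetherian ⟨V, hV⟩
      have h1 := H6.ZStalk.regular_gM (F := F) hV hxV (a := X.presheaf.map (homOfLE le_top).op f) fun q hq _ hfq => ?_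
      · rwa [show H6.ZStalk.gO hxV (X.presheaf.map (homOfLE le_top).op f) = X.presheaf.germ ⊤ x trivial f from
          TopCat.Presheaf.germ_res_apply X.presheaf (homOfLE le_top) x hxV f] at h1
      · obtain ⟨z, hz, rfl⟩ := H6.ZStalk.exists_point hV q hq.isPrime
        refine (H6.ZStalk.mem_primeIdeal_iff hV hz).1 hfq ?_
        rw [X.mem_basicOpen _ z hz, TopCat.Presheaf.germ_res_apply]
        exact (X.mem_basicOpen f z trivial).1 (h ((H6.AssPts.mem_ass_iff hV hz).2 hq))

end Groth.Agent.S4638
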