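import Groth.Statements.S4665
import Groth.Prelude.Def_FDesc
import Mathlib

set_option autoImplicit false
open CategoryTheory AlgebraicGeometry
universe u
open FBase

namespace Groth.Agent.S4665
open CategoryTheory CategoryTheory.Limits AlgebraicGeometry

open CategoryTheory.Limits in
/-- Let f : X → Y and g : Y' → Y be morphisms of schemes with g surjective, and let f' : X ×_Y Y' → Y'
be the base change of f. Say that a morphism has geometrically connected fibres when, for every
field K and every morphism from Spec K to its target, the base change to Spec K is empty or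
connected (so an empty fibre counts as geometrically connected). If f' has geometrically connected
fibres in this sense, then so has f. -/
theorem result {X Y Y' : Scheme.{u}} (f : X ⟶ Y)
    (g : Y' ⟶ Y) [Surjective g]
    (h : geometrically (fun Z : Scheme.{u} => IsEmpty ↥Z ∨ ConnectedSpace ↥Z) (pullback.snd f g)) :
    geometrically (fun Z : Scheme.{u} => IsEmpty ↥Z ∨ ConnectedSpace ↥Z) f := by
  intro K _ y Z fst snd h'
  haveI : Surjective (CategoryTheory.Limits.pullback.fst y g) := inferInstance
  obtain ⟨w, -⟩ := (CategoryTheory.Limits.pullback.fst y g).surjective (Classical.arbitrary (Spec (CommRingCat.of K) : Scheme.{u}))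
  let l := (CategoryTheory.Limits.pullback y g).fromSpecResidueField w ≫ CategoryTheory.Limits.pullback.fst y g
  let t := (CategoryTheory.Limits.pullback y g).fromSpecResidueField w ≫ CategoryTheory.Limits.pullback.snd y g
  have hlt : l ≫ y = t ≫ g := by simp [l, t, CategoryTheory.Limits.pullback.condition]
  haveI : Surjective l := ⟨fun a => ⟨Classical.arbitrary _, Subsingleton.elim _ _⟩⟩
  have hbig : IsPullback (CategoryTheory.Limits.pullback.fst snd l ≫ fst) (CategoryTheory.Limits.pullback.snd snd l) f (t ≫ g) := by
    rw [← hlt]
    exact (IsPullback.of_hasPullback snd l).paste_horiz h'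
  let m : CategoryTheory.Limits.pullback snd l ⟶ CategoryTheory.Limits.pullback f g := CategoryTheory.Limits.pullback.lift (CategoryTheory.Limits.pullback.fst snd l ≫ fst) (CategoryTheory.Limits.pullback.snd snd l ≫ t)
    (hbig.w.trans (Category.assoc _ _ _).symm)
  have hm : IsPullback m (CategoryTheory.Limits.pullback.snd snd l) (CategoryTheory.Limits.pullback.snd f g) t := by
    refine IsPullback.of_right ?_ (CategoryTheory.Limits.pullback.lift_snd _ _ _) (IsPullback.of_hasPullback f g)
    rw [CategoryTheory.Limits.pullback.lift_fst]; exact hbig
  have hW := h t m _ hm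
  haveI : Surjective (CategoryTheory.Limits.pullback.fst snd l) := inferInstance
  rcases hW with hW | hW
  · exact Or.inl ⟨fun z => hW.elim ((CategoryTheory.Limits.pullback.fst snd l).surjective z).choose⟩
  · exact Or.inr ((CategoryTheory.Limits.pullback.fst snd l).surjective.connectedSpace (CategoryTheory.Limits.pullback.fst snd l).continuous)

end Groth.Agent.S4665
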