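import Groth.Statements.S4674
import Mathlib

set_option autoImplicit false
set_option backward.isDefEq.respectTransparency.types false
set_option maxHeartbeats 1000000
set_option linter.all false
open scoped TensorProduct
universe u v w
open FDesc

namespace Groth.Agent.S4674
open Groth.Agent

/-- Let B be a flat A-algebra and M a finitely presented A-module. Then the annihilator of the B-module
B ⊗_A M is the ideal of B generated by the image of the annihilator of M. -/
theorem result {A : Type u} {B : Type v} [CommRing A] [CommRing B] [Algebra A B]
    [Module.Flat A B] (M : Type w) [AddCommGroup M] [Module A M] [Module.FinitePresentation A M] :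
    Module.annihilator B (B ⊗[A] M) = (Module.annihilator A M).map (algebraMap A B) := by
  classical
  obtain ⟨n, x, hx⟩ := Module.Finite.exists_fin (R := A) (M := M)
  refine le_antisymm ?_ ?_
  · intro b hb
    rw [Module.mem_annihilator] at hb
    let φ : A →ₗ[A] (Fin n → M) := LinearMap.pi fun i => LinearMap.toSpanSingleton A M (x i)
    have hker : ∀ a, a ∈ LinearMap.ker φ → a ∈ Module.annihilator A M := by
      intro a ha
      rw [Module.mem_annihilator]
      intro m
      have hm : m ∈ Submodule.span A (Set.range x) := by rw [hx]; trivial
      induction hm using Submodule.span_induction with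
      | mem y hy => obtain ⟨i, rfl⟩ := hy; exact congrFun (LinearMap.mem_ker.1 ha) i
      | zero => simp
      | add y z _ _ hy hz => simp [hy, hz]
      | smul c y _ hy => rw [smul_comm, hy, smul_zero]
    have hex := Module.Flat.lTensor_exact B (LinearMap.exact_subtype_ker_map φ)
    have h0 : φ.lTensor B (b ⊗ₜ[A] (1 : A)) = 0 := by
      apply (TensorProduct.piRight A A B (fun _ : Fin n => M)).injective
      rw [map_zero]
      funext i
      have := hb ((1 : B) ⊗ₜ x i)
      simpa [φ, TensorProduct.smul_tmul'] using this
    obtain ⟨t, ht⟩ := (hex _).1 h0
    have hmain : ∀ t, TensorProduct.rid A B ((LinearMap.ker φ).subtype.lTensor B t) ∈ (Module.annihilator A M).map (algebraMap A B) := by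
      intro t
      induction t using TensorProduct.induction_on with
      | zero => simp
      | tmul c a =>
        simp only [LinearMap.lTensor_tmul, Submodule.coe_subtype, TensorProduct.rid_tmul, Algebra.smul_def]
        exact Ideal.mul_mem_right _ _ (Ideal.mem_map_of_mem _ (hker _ a.2))
      | add y z hy hz => simp only [map_add]; exact Ideal.add_mem _ hy hz
    have := hmain t
    rw [ht, TensorProduct.rid_tmul, one_smul] at this
    exact this
  · rw [Ideal.map_le_iff_le_comap]
    intro a ha
    rw [Ideal.mem_comap, Module.mem_annihilator]
    intro m
    rw [Module.mem_annihilator] at ha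
    induction m using TensorProduct.induction_on with
    | zero => simp
    | tmul c y => rw [algebraMap_smul, ← TensorProduct.tmul_smul, ha, TensorProduct.tmul_zero]
    | add y z hy hz => rw [smul_add, hy, hz, add_zero]

end Groth.Agent.S4674
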