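import Groth.Statements.S4695
import Mathlib
import Groth.Prelude.Def_Found
import Groth.Prelude.Def_CAlgX
import Groth.Agent.Lib.H2GeomRegBase
import Groth.Agent.Lib.H2AdicFSLocal

set_option autoImplicit false
universe u
open EGA4

namespace Groth.Agent.S4695
open TensorProduct IsLocalRing
open Groth.Agent.H2GeomRegMore Groth.Agent.H2GeomRegBase
set_option backward.isDefEq.respectTransparency.types false
set_option synthInstance.maxHeartbeats 400000
set_option synthInstance.maxSize 1024
set_option maxHeartbeats 1000000

open TensorProduct in
/-- Case of regular morphisms, affine form: let A → B be a homomorphism of Noetherian rings and A' a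
Noetherian A-algebra, and assume that B or A' is of finite type over A. If A → B is regular then the
base change A' → A' ⊗_A B is regular; the converse holds when A' is faithfully flat over A. -/
theorem result (A B A' : Type u) [CommRing A] [CommRing B] [CommRing A']
    [IsNoetherianRing A] [IsNoetherianRing B] [IsNoetherianRing A'] [Algebra A B] [Algebra A A']
    (hft : Algebra.FiniteType A B ∨ Algebra.FiniteType A A') :
    (CAlg.IsRegularHom A B → CAlg.IsRegularHom A' (A' ⊗[A] B)) ∧
      (Module.FaithfullyFlat A A' → CAlg.IsRegularHom A' (A' ⊗[A] B) → CAlg.IsRegularHom A B) := by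
  haveI : IsNoetherianRing (A' ⊗[A] B) := by
    rcases hft with h | h
    · exact Algebra.FiniteType.isNoetherianRing A' _
    · haveI : IsNoetherianRing (B ⊗[A] A') := Algebra.FiniteType.isNoetherianRing B _
      exact isNoetherianRing_of_ringEquiv (B ⊗[A] A') (Algebra.TensorProduct.comm A B A').toRingEquiv
  refine ⟨fun h => isRegularHom_iff.2 fun Q _ => adicFS_tensor Q _ rfl (isRegularHom_iff.1 h _), fun hff h => ⟨?_, fun p _ => ?_⟩⟩
  · haveI := hff
    haveI := h.1
    haveI : Module.Flat A' (A' ⊗[A] B) := h.1
    exact Module.Flat.of_flat_tensorProduct (R := A) (M := B) (S := A')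
  · haveI := hff
    obtain ⟨p', hp', hpp⟩ := Ideal.exists_isPrime_liesOver_of_faithfullyFlat (B := A') p
    haveI := hp'
    haveI := hpp
    haveI : IsNoetherianRing (B ⊗[A] p.ResidueField) := Algebra.EssFiniteType.isNoetherianRing B _
    haveI : IsNoetherianRing (p.Fiber B) := isNoetherianRing_of_ringEquiv (B ⊗[A] p.ResidueField) (Algebra.TensorProduct.comm A B p.ResidueField).toRingEquiv
    letI : Algebra p.ResidueField p'.ResidueField := (Ideal.ResidueField.map p p' (algebraMap A A') (p'.over_def p)).toAlgebra
    haveI : IsScalarTower A p.ResidueField p'.ResidueField := IsScalarTower.of_algebraMap_eq fun x => by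
      rw [RingHom.algebraMap_toAlgebra, Ideal.ResidueField.map_algebraMap, ← IsScalarTower.algebraMap_apply]
    refine ⟨inferInstance, geomReg_descend (K := p'.ResidueField) ?_⟩
    exact geomReg_of_equiv ((Algebra.TensorProduct.cancelBaseChange A A' p'.ResidueField p'.ResidueField B).trans
      (Algebra.TensorProduct.cancelBaseChange A p.ResidueField p'.ResidueField p'.ResidueField B).symm) (h.2 p').2


end Groth.Agent.S4695
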