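import Groth.Statements.S4696
import Mathlib
import Groth.Prelude.Def_EGA4b
import Groth.Prelude.Def_CAlg
import Groth.Prelude.Def_Found
import Groth.Agent.Lib.H2NormalHom
import Groth.Agent.Lib.H2ComplReg
import Groth.Agent.Lib.CompleteNoetherian
import Groth.Agent.Lib.H2FormalFibreDomain

set_option autoImplicit false
universe u
open EGA4

namespace Groth.Agent.S4696
open IsLocalRing TensorProduct Groth.Agent.H2SerreAscent Groth.Agent.H2NormalHom
set_option maxHeartbeats 1000000
set_option synthInstance.maxHeartbeats 400000
set_option backward.isDefEq.respectTransparency.types false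

/-- Case of normal morphisms, affine form: let A → B → C be homomorphisms of Noetherian rings. If A → B
and B → C are normal (flat, with geometrically normal fibres) then the composite A → C is normal. -/
theorem result (A B C : Type u) [CommRing A] [CommRing B] [CommRing C] [IsNoetherianRing A]
    [IsNoetherianRing B] [IsNoetherianRing C] [Algebra A B] [Algebra B C] [Algebra A C] [IsScalarTower A B C]
    (hAB : EGA4.IsNormalHom A B) (hBC : EGA4.IsNormalHom B C) : EGA4.IsNormalHom A C := by
  haveI := hAB.1
  haveI := hBC.1
  exact ⟨Module.Flat.trans A B C, normalBC_iff.1 (comp (normalBC_iff.2 hAB.2) (normalBC_iff.2 hBC.2))⟩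

end Groth.Agent.S4696
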