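import Groth.Statements.S4703
import Mathlib
import Groth.Prelude.Def_EGA4b
import Groth.Prelude.Def_CAlg
import Groth.Prelude.Def_Found
import Groth.Agent.Lib.H2FormalFibreDomain
import Groth.Agent.Lib.CompleteNoetherian

set_option autoImplicit false
universe u
open EGA4

namespace Groth.Agent.S4703
open TensorProduct IsLocalRing
set_option maxHeartbeats 1000000
set_option synthInstance.maxHeartbeats 400000
set_option backward.isDefEq.respectTransparency.types false

open TensorProduct in
/-- For the property 'geometrically regular', case of a local ring: let A be a Noetherian local ring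
with completion Â. Then the formal fibres of A are geometrically regular (the completion map A → Â
is a regular homomorphism) if and only if, for every finite A-algebra B which is a domain and every
prime ideal q of B ⊗_A Â whose contraction to B is zero, the local ring of B ⊗_A Â at q is regular.
(The published statement is for semi-local rings; this row takes A local.) -/
theorem result (A : Type u) [CommRing A] [IsNoetherianRing A] [IsLocalRing A] :
    CAlg.IsRegularHom A (EGA4.Cpl A) ↔
      ∀ (B : Type u) [CommRing B] [IsDomain B] [Algebra A B] [Module.Finite A B]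
        (q : Ideal (B ⊗[A] EGA4.Cpl A)) [q.IsPrime],
        q.comap (algebraMap B (B ⊗[A] EGA4.Cpl A)) = ⊥ → IsRegularLocalRing (Localization.AtPrime q) := by
  let C := EGA4.Cpl A
  haveI : IsNoetherianRing C := Groth.Agent.CplNoeth.isNoetherianRing_completion _
  have hN : ∀ (K : Type u) [CommRing K] [Algebra A K], Algebra.EssFiniteType A K → IsNoetherianRing (K ⊗[A] C) := by
    intro K _ _ hK
    haveI := hK
    haveI : IsNoetherianRing (C ⊗[A] K) := Algebra.EssFiniteType.isNoetherianRing C _
    exact isNoetherianRing_of_ringEquiv _ (Algebra.TensorProduct.comm A C K).toRingEquiv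
  refine ⟨fun h B _ _ _ _ q _ hq => ?_, fun h => ⟨AdicCompletion.flat_of_isNoetherian _, fun p _ => ?_⟩⟩
  · haveI : Algebra.EssFiniteType B (FractionRing B) := Algebra.EssFiniteType.of_isLocalization _ (nonZeroDivisors B)
    haveI hK : Algebra.EssFiniteType A (FractionRing B) := Algebra.EssFiniteType.comp A B _
    haveI := hN (FractionRing B) hK
    have h1 := Groth.Agent.H2GeomRegBase.isRegularHom_baseChange_eft (FractionRing B) h
    haveI : IsRegularRing ((FractionRing B) ⊗[A] C) :=
      Groth.Agent.H2GeomRegMore.isRegularRing_of_adicFS_over (R := FractionRing B)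
        fun Q _ => Groth.Agent.H2GeomRegMore.isRegularHom_iff.1 h1 Q
    exact (Groth.Agent.H2FormalFibreDomain.regular_iff A B (FractionRing B) C).1 ‹_› q hq
  · refine ⟨hN p.ResidueField inferInstance, fun k' _ _ _ => ?_⟩
    letI : Algebra A k' := ((algebraMap p.ResidueField k').comp (algebraMap A p.ResidueField)).toAlgebra
    haveI : IsScalarTower A p.ResidueField k' := IsScalarTower.of_algebraMap_eq' rfl
    obtain ⟨B, hB, hfr⟩ := Groth.Agent.H2FormalFibreDomain.exists_domain p k'
    haveI := hB
    haveI := hfr
    haveI hK : Algebra.EssFiniteType A k' := Algebra.EssFiniteType.comp A p.ResidueField _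
    haveI := hN k' hK
    haveI : IsRegularRing (k' ⊗[A] C) :=
      (Groth.Agent.H2FormalFibreDomain.regular_iff A B k' C).2 fun q _ hq => h B q hq
    exact IsRegularRing.of_ringEquiv
      (Algebra.TensorProduct.cancelBaseChange A p.ResidueField k' k' C).toRingEquiv.symm

end Groth.Agent.S4703
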