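import Groth.Statements.S4705
import Mathlib
import Groth.Prelude.Def_EGA4b
import Groth.Prelude.Def_CAlg
import Groth.Prelude.Def_Found
import Groth.Agent.Lib.H2GeomRedHom
import Groth.Agent.Lib.H2GeomRegBase
import Groth.Agent.Lib.H2GeomRegMore
import Groth.Agent.Lib.H2FormalFibreDomain
import Groth.Agent.Lib.H2ComplReg
import Groth.Agent.Lib.CompleteNoetherian

set_option autoImplicit false
universe u
open EGA4

namespace Groth.Agent.S4705
open TensorProduct IsLocalRing Groth.Agent.H2GeomRedHom
set_option maxHeartbeats 1000000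
set_option synthInstance.maxHeartbeats 400000
set_option backward.isDefEq.respectTransparency.types false

/-- Let A → A' be a flat local homomorphism of Noetherian local rings all of whose fibre rings k(p) ⊗_A
A' are geometrically reduced over k(p). If the completion map of A' is regular (the formal fibres of
A' are geometrically regular), then the formal fibres of A are geometrically reduced. -/
theorem result (A A' : Type u) [CommRing A] [CommRing A']
    [IsNoetherianRing A] [IsNoetherianRing A'] [IsLocalRing A] [IsLocalRing A'] [Algebra A A']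
    [IsLocalHom (algebraMap A A')] [Module.Flat A A']
    (hf : ∀ (p : Ideal A) [p.IsPrime], Algebra.IsGeometricallyReduced p.ResidueField (p.Fiber A'))
    (hA' : CAlg.IsRegularHom A' (EGA4.Cpl A')) : EGA4.HasGeomReducedFormalFibres A := by
  haveI : IsNoetherianRing (EGA4.Cpl A) := Groth.Agent.CplNoeth.isNoetherianRing_completion _
  haveI : IsNoetherianRing (EGA4.Cpl A') := Groth.Agent.CplNoeth.isNoetherianRing_completion _
  have hI : (maximalIdeal A).FG := IsNoetherian.noetherian _
  obtain ⟨Φ, hΦ⟩ := Groth.Agent.H2ComplReg.exists_map (maximalIdeal A) hI (maximalIdeal A') (algebraMap A A')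
    (((local_hom_TFAE (algebraMap A A')).out 0 2).1 ‹_›)
  letI : Algebra (EGA4.Cpl A) (EGA4.Cpl A') := Φ.toAlgebra
  haveI : IsScalarTower A (EGA4.Cpl A) (EGA4.Cpl A') := IsScalarTower.of_algebraMap_eq fun a => by
    show _ = Φ (algebraMap A _ a)
    rw [hΦ]
    exact IsScalarTower.algebraMap_apply A A' (EGA4.Cpl A') a
  have hle : (maximalIdeal A).map (algebraMap A (EGA4.Cpl A')) ≤ maximalIdeal (EGA4.Cpl A') := by
    rw [IsScalarTower.algebraMap_eq A A' (EGA4.Cpl A'), ← Ideal.map_map, AdicCompletion.maximalIdeal_eq_map]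
    exact Ideal.map_mono (((local_hom_TFAE (algebraMap A A')).out 0 2).1 ‹_›)
  haveI : Module.Flat A' (EGA4.Cpl A') := hA'.1
  haveI : Module.Flat A (EGA4.Cpl A') := Module.Flat.trans A A' _
  haveI : Module.Flat (EGA4.Cpl A) (EGA4.Cpl A') :=
    Groth.Agent.H2ComplReg.flat_of_dense (maximalIdeal A)
      (by rw [IsLocalRing.jacobson_eq_maximalIdeal ⊥ bot_ne_top]; exact hle)
      fun n x => Groth.Agent.H2AdicComplFS.exists_sub_mem hI n x
  haveI : IsLocalHom (algebraMap (EGA4.Cpl A) (EGA4.Cpl A')) := by
    refine ((local_hom_TFAE (algebraMap (EGA4.Cpl A) (EGA4.Cpl A'))).out 0 2).2 ?_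
    rw [AdicCompletion.maximalIdeal_eq_map, Ideal.map_map, ← IsScalarTower.algebraMap_eq]
    exact hle
  haveI : Module.FaithfullyFlat (EGA4.Cpl A) (EGA4.Cpl A') := Module.FaithfullyFlat.of_flat_of_isLocalHom
  intro p _
  refine fibres_of_isReduced (fun K _ _ _ => ?_) p
  haveI : IsReduced (K ⊗[A] A') := isReduced_of_fibres hf K
  haveI : IsReduced (K ⊗[A] EGA4.Cpl A') := isReduced_comp (B := A') (fun L _ _ _ => by
    haveI := isNoetherianRing_tensor A' (EGA4.Cpl A') L
    have h1 := Groth.Agent.H2GeomRegBase.isRegularHom_baseChange_eft L hA'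
    haveI : IsRegularRing (L ⊗[A'] EGA4.Cpl A') :=
      Groth.Agent.H2GeomRegMore.isRegularRing_of_adicFS_over (R := L) fun Q _ => Groth.Agent.H2GeomRegMore.isRegularHom_iff.1 h1 Q
    exact Groth.Agent.H2FibreReduced.isReduced_of_regular _) K
  exact isReduced_descend (B := EGA4.Cpl A) (C := EGA4.Cpl A') K

end Groth.Agent.S4705
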