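import Groth.Statements.S4706
import Mathlib
import Groth.Prelude.Def_EGA4b
import Groth.Prelude.Def_CAlg
import Groth.Prelude.Def_Found
import Groth.Agent.Lib.H2NormalHom
import Groth.Agent.Lib.H2ComplReg
import Groth.Agent.Lib.CompleteNoetherian
import Groth.Agent.Lib.H2FormalFibreDomain

set_option autoImplicit false
universe u
open EGA4

namespace Groth.Agent.S4706
open IsLocalRing TensorProduct Groth.Agent.H2SerreAscent Groth.Agent.H2NormalHom
set_option maxHeartbeats 1000000
set_option synthInstance.maxHeartbeats 400000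
set_option backward.isDefEq.respectTransparency.types false

/-- Let A → A' be a local homomorphism of Noetherian local rings which is normal (flat, with
geometrically normal fibres). If the completion map of A' is regular (the formal fibres of A' are
geometrically regular), then the formal fibres of A are geometrically normal. -/
theorem result (A A' : Type u) [CommRing A] [CommRing A']
    [IsNoetherianRing A] [IsNoetherianRing A'] [IsLocalRing A] [IsLocalRing A'] [Algebra A A']
    [IsLocalHom (algebraMap A A')] (hf : EGA4.IsNormalHom A A') (hA' : CAlg.IsRegularHom A' (EGA4.Cpl A')) :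
    EGA4.HasGeomNormalFormalFibres A := by
  haveI := hf.1
  haveI : IsNoetherianRing (EGA4.Cpl A) := Groth.Agent.CplNoeth.isNoetherianRing_completion _
  haveI : IsNoetherianRing (EGA4.Cpl A') := Groth.Agent.CplNoeth.isNoetherianRing_completion _
  have hI : (maximalIdeal A).FG := IsNoetherian.noetherian _
  obtain ⟨Φ, hΦ⟩ := Groth.Agent.H2ComplReg.exists_map (maximalIdeal A) hI (maximalIdeal A') (algebraMap A A')
    (((local_hom_TFAE (algebraMap A A')).out 0 2).1 ‹_›)
  letI : Algebra (EGA4.Cpl A) (EGA4.Cpl A') := Φ.toAlgebra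
  haveI : IsScalarTower A (EGA4.Cpl A) (EGA4.Cpl A') := IsScalarTower.of_algebraMap_eq fun a => by
    show _ = Φ (algebraMap A _ a)
    rw [hΦ]
    exact IsScalarTower.algebraMap_apply A A' (EGA4.Cpl A') a
  have hle : (maximalIdeal A).map (algebraMap A (EGA4.Cpl A')) ≤ maximalIdeal (EGA4.Cpl A') := by
    rw [IsScalarTower.algebraMap_eq A A' (EGA4.Cpl A'), ← Ideal.map_map, AdicCompletion.maximalIdeal_eq_map]
    exact Ideal.map_mono (((local_hom_TFAE (algebraMap A A')).out 0 2).1 ‹_›)
  haveI : Module.Flat A' (EGA4.Cpl A') := hA'.1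
  haveI : Module.Flat A (EGA4.Cpl A') := Module.Flat.trans A A' _
  haveI : Module.Flat (EGA4.Cpl A) (EGA4.Cpl A') :=
    Groth.Agent.H2ComplReg.flat_of_dense (maximalIdeal A)
      (by rw [IsLocalRing.jacobson_eq_maximalIdeal ⊥ bot_ne_top]; exact hle)
      fun n x => Groth.Agent.H2AdicComplFS.exists_sub_mem hI n x
  haveI : IsLocalHom (algebraMap (EGA4.Cpl A) (EGA4.Cpl A')) := by
    refine ((local_hom_TFAE (algebraMap (EGA4.Cpl A) (EGA4.Cpl A'))).out 0 2).2 ?_
    rw [AdicCompletion.maximalIdeal_eq_map, Ideal.map_map, ← IsScalarTower.algebraMap_eq]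
    exact hle
  haveI : Module.FaithfullyFlat (EGA4.Cpl A) (EGA4.Cpl A') := Module.FaithfullyFlat.of_flat_of_isLocalHom
  exact normalBC_iff.1 (descend_hom (B := EGA4.Cpl A) (C := EGA4.Cpl A') (comp (normalBC_iff.2 hf.2) (of_regularHom hA')))

end Groth.Agent.S4706
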