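import Groth.Statements.S4711
import Mathlib
import Groth.Agent.Lib.H4ProCons


set_option autoImplicit false
universe u
open EGA4

namespace Groth.Agent.S4711

open AlgebraicGeometry Topology in
/-- In any scheme X, every nonempty locally constructible subset E contains a point x such that the
one-point set {x} is locally closed in X (equivalently x is isolated in its closure). -/
theorem result (X : Scheme.{u}) (E : Set X)
    (hE : Topology.IsLocallyConstructible E) (hne : E.Nonempty) :
    ∃ x ∈ E, IsLocallyClosed ({x} : Set X) := by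
  obtain ⟨x, hx⟩ := hne
  obtain ⟨_, ⟨V, hV, rfl⟩, hxV, -⟩ :=
    X.isBasis_affineOpens.exists_subset_of_mem_open (Set.mem_univ x) isOpen_univ
  rw [← hV.range_fromSpec] at hxV
  obtain ⟨p, rfl⟩ := hxV
  obtain ⟨C, hC, hpC, hCE⟩ :=
    H4ProCons.indC_of_isInd (H4ProCons.isInd_of_locallyConstructible hE) hV p hx
  obtain ⟨S, hS⟩ := PrimeSpectrum.exists_constructibleSetData_iff.mpr hC
  rw [← hS] at hpC hCE
  obtain ⟨B, hB, hpg, hpf⟩ := Set.mem_iUnion₂.mp hpC
  set D : Set (PrimeSpectrum Γ(X, V)) := (PrimeSpectrum.zeroLocus ({B.f} : Set Γ(X, V)))ᶜ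
  have hDo : IsOpen D := (PrimeSpectrum.isClosed_zeroLocus _).isOpen_compl
  have hDc : IsCompact D :=
    (PrimeSpectrum.isRetrocompact_zeroLocus_compl (Set.finite_singleton _)).isCompact
  haveI : CompactSpace ↥D := isCompact_iff_compactSpace.mp hDc
  obtain ⟨q, hqg, hqc⟩ := IsClosed.exists_closed_singleton
    ((PrimeSpectrum.isClosed_zeroLocus (Set.range B.g)).preimage
      (continuous_subtype_val : Continuous (Subtype.val : ↥D → _))) ⟨⟨p, hpf⟩, hpg⟩
  refine ⟨hV.fromSpec q.1, hCE (Set.mem_iUnion₂.mpr ⟨B, hB, hqg, q.2⟩), ?_⟩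
  rw [← Set.image_singleton]
  refine IsLocallyClosed.image ?_ hV.fromSpec.isOpenEmbedding.isInducing
    hV.fromSpec.isOpenEmbedding.isOpen_range.isLocallyClosed
  rw [← Set.image_singleton (f := Subtype.val)]
  exact hqc.isLocallyClosed.image Topology.IsInducing.subtypeVal
    (by rw [Subtype.range_coe]; exact hDo.isLocallyClosed)

end Groth.Agent.S4711
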