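import Groth.Statements.S4712
import Mathlib
import Groth.Agent.Lib.H4NoethTop


set_option autoImplicit false
universe u
open EGA4

namespace Groth.Agent.S4712

open AlgebraicGeometry in
/-- Let X be a locally Noetherian scheme and x a point such that {x} is locally closed in X. Then the
closure of {x} has dimension at most 1, and every point of that closure other than x is a closed
point of X. -/
theorem result (X : Scheme.{u}) [IsLocallyNoetherian X] (x : X)
    (hx : IsLocallyClosed ({x} : Set X)) :
    topologicalKrullDim (closure ({x} : Set X)) ≤ 1 ∧
      ∀ y ∈ closure ({x} : Set X), y ≠ x → IsClosed ({y} : Set X) := by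
  have hemb : Topology.IsClosedEmbedding (Subtype.val : ↥(closure ({x} : Set X)) → X) :=
    isClosed_closure.isClosedEmbedding_subtypeVal
  haveI : QuasiSober ↥(closure ({x} : Set X)) := hemb.quasiSober
  refine ⟨H4NoethTop.topologicalKrullDim_le_one_iff.mpr fun a b c hab hbc => ?_, fun y hy hyx => ?_⟩
  · by_contra hc
    rw [not_or] at hc
    by_cases hax : a.1 = x
    · exact H4NoethTop.not_chain hx ((specializes_of_eq hax.symm).trans (hab.map continuous_subtype_val))
        (hbc.map continuous_subtype_val) (fun e => hc.1 (Subtype.ext (hax.trans e)))
        (fun e => hc.2 (Subtype.ext e))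
    · exact H4NoethTop.not_chain hx (specializes_iff_mem_closure.mpr a.2)
        (hab.map continuous_subtype_val) (fun e => hax e.symm) (fun e => hc.1 (Subtype.ext e))
  · rw [← closure_subset_iff_isClosed]
    intro z hz
    by_contra hzy
    exact H4NoethTop.not_chain hx (specializes_iff_mem_closure.mpr hy)
      (specializes_iff_mem_closure.mpr hz) (fun e => hyx e.symm) (fun e => hzy e.symm)

end Groth.Agent.S4712
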