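import Groth.Statements.S4713
import Mathlib
import Groth.Agent.Lib.H4NoethTop


set_option autoImplicit false
universe u
open EGA4

namespace Groth.Agent.S4713

open AlgebraicGeometry in
/-- In a locally Noetherian scheme X, every nonempty closed subset contains a closed point of X. -/
theorem result (X : Scheme.{u}) [IsLocallyNoetherian X]
    (Z : Set X) (hZ : IsClosed Z) (hne : Z.Nonempty) : ∃ x ∈ Z, IsClosed ({x} : Set X) := by
  obtain ⟨x, hxZ, hx⟩ := H4NoethTop.exists_locallyClosed_point hZ.isLocallyClosed hne
  by_cases hc : IsClosed ({x} : Set X)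
  · exact ⟨x, hxZ, hc⟩
  · rw [← closure_subset_iff_isClosed, Set.not_subset] at hc
    obtain ⟨y, hy, hyx⟩ := hc
    have hxy : x ⤳ y := specializes_iff_mem_closure.mpr hy
    refine ⟨y, hxy.mem_closed hZ hxZ, ?_⟩
    rw [← closure_subset_iff_isClosed]
    intro z hz
    by_contra hzy
    exact H4NoethTop.not_chain hx hxy (specializes_iff_mem_closure.mpr hz) (fun e => hyx e.symm)
      (fun e => hzy e.symm)

end Groth.Agent.S4713
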