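import Groth.Statements.S4716
import Mathlib
import Groth.Agent.Lib.H4SchTop
import Groth.Agent.Lib.H6.ProConsSpec


set_option autoImplicit false
universe u
open EGA4

namespace Groth.Agent.S4716

open AlgebraicGeometry CategoryTheory in
/-- Consider locally Noetherian schemes X and Y and a morphism f : X → Y that is surjective and whose
underlying map is either open or closed. Then dim X ≥ dim Y. -/
theorem result {X Y : Scheme.{u}} (f : X ⟶ Y) [IsLocallyNoetherian X]
    [IsLocallyNoetherian Y] (hs : Function.Surjective f.base) (h : IsOpenMap f.base ∨ IsClosedMap f.base) :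
    topologicalKrullDim Y ≤ topologicalKrullDim X := by
  rcases h with h | h
  · refine H4SchTop.dim_le_of_generalizing hs fun x y hy => ?_
    have hx : x ∈ closure (f ⁻¹' {y}) := by
      rw [mem_closure_iff]
      intro O hO hxO
      obtain ⟨a, ha, rfl⟩ := hy.mem_open (h O hO) ⟨x, hxO, rfl⟩
      exact ⟨a, ha, rfl⟩
    obtain ⟨x', h1, h2⟩ := H6.ProConsSpec.exists_specializes_of_mem_closure_fibre f y hx
    exact ⟨x', h2, h1⟩
  · refine H4SchTop.dim_le_of_specializing hs fun x y hy => ?_
    obtain ⟨x', hx', e⟩ := hy.mem_closed (h _ (isClosed_closure (s := {x}))) ⟨x, subset_closure rfl, rfl⟩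
    exact ⟨x', specializes_iff_mem_closure.mpr hx', e⟩

end Groth.Agent.S4716
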