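import Groth.Statements.S4717
import Mathlib
import Groth.Agent.Lib.H4SchTop


set_option autoImplicit false
universe u
open EGA4

namespace Groth.Agent.S4717

open AlgebraicGeometry CategoryTheory in
/-- Let f : X → Y be a finite morphism of locally Noetherian schemes. Then dim X equals the dimension of
the image f(X); in particular if f is surjective then dim X = dim Y. -/
theorem result {X Y : Scheme.{u}} (f : X ⟶ Y) [IsLocallyNoetherian X] [IsLocallyNoetherian Y]
    [IsFinite f] :
    topologicalKrullDim X = topologicalKrullDim (Set.range f.base) ∧
      (Function.Surjective f.base → topologicalKrullDim X = topologicalKrullDim Y) := by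
  have key : topologicalKrullDim X = topologicalKrullDim (Set.range f.base) := by
    haveI : QuasiSober ↥(Set.range f.base) :=
      f.isClosedMap.isClosed_range.isClosedEmbedding_subtypeVal.quasiSober
    refine le_antisymm ?_ ?_
    · refine H4SchTop.dim_le_of_fibre (f := Set.rangeFactorization f.base) ?_ fun x y hxy e => ?_
      · exact Continuous.subtype_mk f.continuous _
      · have hd := f.isDiscrete_preimage_singleton (f.base x)
        haveI := hd.to_subtype
        have h1 : (⟨x, rfl⟩ : ↥(f.base ⁻¹' {f.base x})) ⤳ ⟨y, (congrArg Subtype.val e).symm⟩ :=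
          Topology.IsInducing.subtypeVal.specializes_iff.mp hxy
        exact congrArg Subtype.val h1.eq
    · refine H4SchTop.dim_le_of_specializing Set.rangeFactorization_surjective fun x y hy => ?_
      obtain ⟨x', hx', e⟩ := (hy.map continuous_subtype_val).mem_closed
        (f.isClosedMap _ (isClosed_closure (s := {x}))) ⟨x, subset_closure rfl, rfl⟩
      exact ⟨x', specializes_iff_mem_closure.mpr hx', Subtype.ext e⟩
  refine ⟨key, fun hs => key.trans ?_⟩
  rw [Set.range_eq_univ.mpr hs]
  exact IsHomeomorph.topologicalKrullDim_eq _ (Homeomorph.Set.univ Y).isHomeomorph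

end Groth.Agent.S4717
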