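import Groth.Statements.S4727
import Mathlib


set_option autoImplicit false
universe u
open EGA4

namespace Groth.Agent.S4727

/-- Let A be a commutative ring, B an A-algebra and N an ideal of B all of whose elements are nilpotent.
Then the integral closure of A in B is the inverse image, under the canonical map B → B/N, of the
integral closure of A in B/N: an element of B whose image in B/N is integral over A is itself
integral over A. -/
theorem result (A B : Type u) [CommRing A] [CommRing B] [Algebra A B]
    (N : Ideal B) (hN : ∀ x ∈ N, IsNilpotent x) :
    (integralClosure A B).toSubring =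
      (integralClosure A (B ⧸ N)).toSubring.comap (Ideal.Quotient.mk N) := by
  ext b
  simp only [Subalgebra.mem_toSubring, Subring.mem_comap, mem_integralClosure_iff]
  refine ⟨fun h => h.map (Ideal.Quotient.mkₐ A N), fun ⟨p, hpm, hp⟩ => ?_⟩
  have : Polynomial.aeval b p ∈ N := by
    rw [← Ideal.Quotient.eq_zero_iff_mem]
    exact (Polynomial.aeval_algHom_apply (Ideal.Quotient.mkₐ A N) b p).symm.trans hp
  obtain ⟨n, hn⟩ := hN _ this
  exact ⟨p ^ n, hpm.pow n, show Polynomial.aeval b (p ^ n) = 0 by rw [map_pow]; exact hn⟩

end Groth.Agent.S4727
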