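import Groth.Statements.S4728
import Mathlib
import Groth.Prelude.Def_EGA4b
import Groth.Agent.Lib.H2NormalHom

set_option autoImplicit false
universe u
open EGA4

namespace Groth.Agent.S4728
open TensorProduct
set_option maxHeartbeats 1000000
set_option synthInstance.maxHeartbeats 400000
set_option backward.isDefEq.respectTransparency.types false

/-- Let A be a Noetherian local domain of dimension 1 with maximal ideal m, A' a Noetherian local ring
and A → A' a local homomorphism which is normal (flat, with geometrically normal fibres). Then the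
ideal m A' of A' is prime and the local ring of A' at m A' has dimension 1. (The remaining clauses
of the published item, describing A' inside its total ring of fractions, are not restated.) -/
theorem result (A A' : Type u) [CommRing A] [CommRing A']
    [IsNoetherianRing A] [IsNoetherianRing A'] [IsLocalRing A] [IsLocalRing A'] [IsDomain A]
    (hA : ringKrullDim A = 1) [Algebra A A'] [IsLocalHom (algebraMap A A')] (h : EGA4.IsNormalHom A A') :
    ((IsLocalRing.maximalIdeal A).map (algebraMap A A')).IsPrime ∧
      ((IsLocalRing.maximalIdeal A).map (algebraMap A A')).height = 1 := by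
  let m := IsLocalRing.maximalIdeal A
  let P := m.map (algebraMap A A')
  haveI : Module.Flat A A' := h.1
  let e0 : (A ⧸ m) ≃ₐ[A] m.ResidueField :=
    AlgEquiv.ofBijective (IsScalarTower.toAlgHom A (A ⧸ m) m.ResidueField) m.bijective_algebraMap_quotient_residueField
  let e : (A' ⧸ P) ≃+* m.ResidueField ⊗[m.ResidueField] m.Fiber A' :=
    ((Algebra.TensorProduct.quotIdealMapEquivQuotTensor A' m).toRingEquiv.trans
      (Algebra.TensorProduct.congr e0 AlgEquiv.refl).toRingEquiv).trans
      (Algebra.TensorProduct.lid m.ResidueField (m.Fiber A')).symm.toRingEquiv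
  have hn : EGA4.IsNormalRing (A' ⧸ P) :=
    Groth.Agent.H2NormalHom.normal_congr e.symm (h.2 m m.ResidueField inferInstance)
  have hPne : P ≠ ⊤ := ne_top_of_le_ne_top (IsLocalRing.maximalIdeal.isMaximal A').ne_top
    (((IsLocalRing.local_hom_TFAE (algebraMap A A')).out 0 2 rfl rfl).mp inferInstance)
  haveI : Nontrivial (A' ⧸ P) := Ideal.Quotient.nontrivial_iff.mpr hPne
  haveI : IsLocalRing (A' ⧸ P) := IsLocalRing.of_surjective' _ Ideal.Quotient.mk_surjective
  haveI : IsDomain (Localization.AtPrime (IsLocalRing.maximalIdeal (A' ⧸ P))) := (hn _).1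
  haveI hdom : IsDomain (A' ⧸ P) := by
    let f := IsLocalization.atUnits (A' ⧸ P) (IsLocalRing.maximalIdeal (A' ⧸ P)).primeCompl
      (S := Localization.AtPrime (IsLocalRing.maximalIdeal (A' ⧸ P))) (fun x hx => by simpa [IsUnit.mem_submonoid_iff] using hx)
    exact f.toMulEquiv.isDomain
  haveI : P.IsPrime := (Ideal.Quotient.isDomain_iff_prime P).mp hdom
  haveI : P.LiesOver m := ⟨((IsLocalRing.maximalIdeal.isMaximal A).eq_of_le (Ideal.IsPrime.ne_top inferInstance) Ideal.le_comap_map)⟩
  refine ⟨inferInstance, ?_⟩
  rw [Ideal.height_eq_height_add_of_liesOver_of_hasGoingDown m P]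
  have h0 : P.map (Ideal.Quotient.mk (m.map (algebraMap A A'))) = ⊥ := Ideal.map_quotient_self P
  have h1 : (⊥ : Ideal (A' ⧸ m.map (algebraMap A A'))).height = 0 := Ideal.height_bot
  rw [h0, h1, add_zero]
  have := IsLocalRing.maximalIdeal_height_eq_ringKrullDim (R := A)
  rw [hA] at this
  exact WithBot.coe_injective this

end Groth.Agent.S4728
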