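import Groth.Statements.S4733
import Mathlib
import Groth.Prelude.Def_EGA4b
import Groth.Prelude.Def_CAlg
import Groth.Agent.Lib.H2CMFibre
import Groth.Agent.Lib.H2NormalHom
import Groth.Agent.S2615

set_option autoImplicit false
universe u
open EGA4

namespace Groth.Agent.S4733
open IsLocalRing TensorProduct Groth.Agent.H2SerreAscent Groth.Agent.H2SkHom Groth.Agent.H2CMFibre Groth.Agent.H2NormalHom
set_option maxHeartbeats 1000000
set_option synthInstance.maxHeartbeats 400000
set_option backward.isDefEq.respectTransparency.types false

open TensorProduct in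
/-- For the property 'regular' (affine form): let k be a field, S a Noetherian k-algebra and k' an
extension field of k such that S is of finite type over k or k' is essentially of finite type over
k; let q' be a prime of S ⊗_k k' and q its contraction to S. If (S ⊗_k k')_{q'} is a regular local
ring then so is S_q; conversely, if k' is separable over k (geometrically reduced) and S_q is
regular, then (S ⊗_k k')_{q'} is regular. -/
theorem result (k S k' : Type u) [Field k] [CommRing S] [Algebra k S]
    [IsNoetherianRing S] [Field k'] [Algebra k k'] (hft : Algebra.FiniteType k S ∨ Algebra.EssFiniteType k k')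
    [IsNoetherianRing (S ⊗[k] k')] (q' : Ideal (S ⊗[k] k')) [q'.IsPrime] :
    (IsRegularLocalRing (Localization.AtPrime q') →
        IsRegularLocalRing (Localization.AtPrime (q'.comap (algebraMap S (S ⊗[k] k'))))) ∧
      (Algebra.IsGeometricallyReduced k k' →
        IsRegularLocalRing (Localization.AtPrime (q'.comap (algebraMap S (S ⊗[k] k')))) →
          IsRegularLocalRing (Localization.AtPrime q')) := by
  refine ⟨fun h => ?_, fun hgr h => ?_⟩
  · haveI : q'.LiesOver (q'.comap (algebraMap S (S ⊗[k] k'))) := ⟨rfl⟩
    haveI := h
    exact Groth.Agent.H2RegNormal.regular_descent _ q'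
  · haveI := hgr
    obtain ⟨P, hP, ⟨e⟩⟩ := exists_fibre_tensor q'
    have hft' := hft.imp_left (fun (h : Algebra.FiniteType k S) => haveI := h; Algebra.EssFiniteType.comp k S (q'.comap (algebraMap S (S ⊗[k] k'))).ResidueField)
    haveI : IsNoetherianRing ((q'.comap (algebraMap S (S ⊗[k] k'))).ResidueField ⊗[k] k') :=
      haveI := cm_tensor_fields k (q'.comap (algebraMap S (S ⊗[k] k'))).ResidueField k' hft'
      inferInstance
    haveI := Groth.Agent.S2615.result k (q'.comap (algebraMap S (S ⊗[k] k'))).ResidueField k' hft'
    exact (Groth.Agent.H2FlatAscent.point (A := S) q').2.1 h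
      (@IsRegularLocalRing.of_ringEquiv _ _ (isRegularRing_iff.1 inferInstance P) _ _ e)

end Groth.Agent.S4733
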