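import Groth.Statements.S4736
import Mathlib
import Groth.Prelude.Def_Found
import Groth.Prelude.Def_CAlg
import Groth.Prelude.Def_CAlgX
import Groth.Prelude.Def_EGA4b
import Groth.Agent.Lib.H2GeomRegMore
import Groth.Agent.Lib.H2RegDescend
import Groth.Agent.S2451
import Groth.Agent.S4573

set_option autoImplicit false
universe u
open EGA4

namespace Groth.Agent.S4736
open TensorProduct IsLocalRing
open Groth.Agent.H2GeomRegMore
set_option backward.isDefEq.respectTransparency.types false
set_option synthInstance.maxHeartbeats 400000
set_option maxHeartbeats 1000000

/-- Let A → B be a regular homomorphism of Noetherian rings (flat, with geometrically regular fibres)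
and S a multiplicative subset of A. Then the induced homomorphism S⁻¹A → S⁻¹B is regular. (S⁻¹A and
S⁻¹B are given here as arbitrary localizations at S and at its image.) -/
theorem result (A B : Type u) [CommRing A] [CommRing B] [IsNoetherianRing A] [IsNoetherianRing B]
    [Algebra A B] (h : CAlg.IsRegularHom A B) (S : Submonoid A)
    (A' B' : Type u) [CommRing A'] [CommRing B'] [Algebra A A'] [Algebra B B'] [Algebra A' B'] [Algebra A B']
    [IsScalarTower A A' B'] [IsScalarTower A B B'] [IsLocalization S A']
    [IsLocalization (Algebra.algebraMapSubmonoid B S) B'] :
    CAlg.IsRegularHom A' B' := by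
  haveI : IsNoetherianRing A' := IsLocalization.isNoetherianRing S A' inferInstance
  haveI : IsNoetherianRing B' := IsLocalization.isNoetherianRing (Algebra.algebraMapSubmonoid B S) B' inferInstance
  refine isRegularHom_iff.2 fun q _ => ?_
  haveI : IsScalarTower A A' (Localization.AtPrime q) := IsScalarTower.of_algebraMap_eq fun x => by
    rw [IsScalarTower.algebraMap_apply A B' (Localization.AtPrime q), IsScalarTower.algebraMap_apply A A' B', ← IsScalarTower.algebraMap_apply A' B']
  refine (adicFS_base S _).2 (adicFS_comp_localization (isRegularHom_iff.1 h _) ?_)
  haveI : Algebra.FormallySmooth B B' := Algebra.FormallySmooth.of_isLocalization (Algebra.algebraMapSubmonoid B S)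
  haveI : Algebra.FormallySmooth B' (Localization.AtPrime q) := Algebra.FormallySmooth.of_isLocalization q.primeCompl
  haveI : Algebra.FormallySmooth B (Localization.AtPrime q) := Algebra.FormallySmooth.comp B B' _
  exact adicFS_of_formallySmooth _

end Groth.Agent.S4736
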