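import Groth.Statements.S4743
import Mathlib
import Groth.Prelude.Def_EGA4b
import Groth.Prelude.Def_CAlg
import Groth.Prelude.Def_Found
import Groth.Agent.Lib.H2GeomRedHom
import Groth.Agent.Lib.H2GeomRegBase
import Groth.Agent.Lib.H2GeomRegMore
import Groth.Agent.Lib.H2FormalFibreDomain
import Groth.Agent.Lib.H2ComplReg
import Groth.Agent.Lib.CompleteNoetherian

set_option autoImplicit false
universe u
open EGA4

namespace Groth.Agent.S4743
open TensorProduct IsLocalRing Groth.Agent.H2GeomRedHom
set_option maxHeartbeats 1000000
set_option synthInstance.maxHeartbeats 400000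
set_option backward.isDefEq.respectTransparency.types false

open TensorProduct in
/-- For the property 'geometrically reduced', case of a local ring: let A be a Noetherian local ring
with completion Â. Then the formal fibres of A are geometrically reduced if and only if, for every
finite A-algebra B which is a domain and every prime ideal q of B ⊗_A Â whose contraction to B is
zero, the local ring of B ⊗_A Â at q is reduced. (The published statement is for semi-local rings;
this row takes A local.) -/
theorem result (A : Type u) [CommRing A] [IsNoetherianRing A]
    [IsLocalRing A] :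
    EGA4.HasGeomReducedFormalFibres A ↔
      ∀ (B : Type u) [CommRing B] [IsDomain B] [Algebra A B] [Module.Finite A B]
        (q : Ideal (B ⊗[A] EGA4.Cpl A)) [q.IsPrime],
        q.comap (algebraMap B (B ⊗[A] EGA4.Cpl A)) = ⊥ → IsReduced (Localization.AtPrime q) := by
  let C := EGA4.Cpl A
  haveI : IsNoetherianRing C := Groth.Agent.CplNoeth.isNoetherianRing_completion _
  refine ⟨fun h B _ _ _ _ q _ hq => ?_, fun h p _ => ?_⟩
  · haveI : Algebra.EssFiniteType B (FractionRing B) := Algebra.EssFiniteType.of_isLocalization _ (nonZeroDivisors B)
    haveI : Algebra.EssFiniteType A (FractionRing B) := Algebra.EssFiniteType.comp A B _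
    exact (reduced_iff A B (FractionRing B) C).1 (isReduced_of_fibres h (FractionRing B)) q hq
  · rw [Algebra.isGeometricallyReduced_field_iff]
    let k := p.ResidueField
    haveI : IsReduced ((p.Fiber C) ⊗[k] AlgebraicClosure k) := IsReduced.tensorProduct_of_flat_of_forall_fg fun B' hB => by
      haveI : Algebra.FiniteType k B' := ⟨(Subalgebra.fg_top B').2 hB⟩
      haveI : Algebra.IsIntegral k B' := Algebra.IsIntegral.of_injective B'.val Subtype.val_injective
      haveI : Module.Finite k B' := Algebra.IsIntegral.finite
      letI : Field B' := (isField_of_isIntegral_of_isField' (Field.toIsField k)).toField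
      letI : Algebra A B' := ((algebraMap k B').comp (algebraMap A k)).toAlgebra
      haveI : IsScalarTower A k B' := IsScalarTower.of_algebraMap_eq' rfl
      obtain ⟨B, hB, hfr⟩ := Groth.Agent.H2FormalFibreDomain.exists_domain p B'
      haveI := hB
      haveI := hfr
      haveI : IsReduced (B' ⊗[A] C) := (reduced_iff A B B' C).2 fun q _ hq => h B q hq
      haveI : IsReduced (B' ⊗[k] p.Fiber C) :=
        isReduced_of_injective (Algebra.TensorProduct.cancelBaseChange A k B' B' C) (AlgEquiv.injective _)
      exact isReduced_of_injective (Algebra.TensorProduct.comm k (p.Fiber C) B') (AlgEquiv.injective _)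
    exact isReduced_of_injective (Algebra.TensorProduct.comm k (AlgebraicClosure k) (p.Fiber C)) (AlgEquiv.injective _)

end Groth.Agent.S4743
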