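import Groth.Statements.S4744
import Mathlib
import Groth.Prelude.Def_EGA4b
import Groth.Prelude.Def_CAlg
import Groth.Prelude.Def_Found
import Groth.Agent.Lib.H2SkHom
import Groth.Agent.Lib.H2ComplReg
import Groth.Agent.Lib.CompleteNoetherian
import Groth.Agent.Lib.H2FormalFibreDomain

set_option autoImplicit false
universe u
open EGA4

namespace Groth.Agent.S4744
open IsLocalRing TensorProduct Groth.Agent.H2SerreAscent Groth.Agent.H2NormalHom Groth.Agent.H2SkHom
set_option maxHeartbeats 1000000
set_option synthInstance.maxHeartbeats 400000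
set_option backward.isDefEq.respectTransparency.types false

/-- Let A → A' be a flat local homomorphism of Noetherian local rings all of whose fibre rings k(p) ⊗_A
A' are Cohen–Macaulay. If the completion map of A' is regular (the formal fibres of A' are
geometrically regular), then the formal fibres of A are Cohen–Macaulay. -/
theorem result (A A' : Type u) [CommRing A] [CommRing A'] [IsNoetherianRing A]
    [IsNoetherianRing A'] [IsLocalRing A] [IsLocalRing A'] [Algebra A A'] [IsLocalHom (algebraMap A A')]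
    [Module.Flat A A'] (hf : ∀ (p : Ideal A) [p.IsPrime], LocCoh.IsCohenMacaulayRing (p.Fiber A'))
    (hA' : CAlg.IsRegularHom A' (EGA4.Cpl A')) : EGA4.HasCMFormalFibres A := by
  haveI : IsNoetherianRing (EGA4.Cpl A) := Groth.Agent.CplNoeth.isNoetherianRing_completion _
  haveI : IsNoetherianRing (EGA4.Cpl A') := Groth.Agent.CplNoeth.isNoetherianRing_completion _
  have hI : (maximalIdeal A).FG := IsNoetherian.noetherian _
  obtain ⟨Φ, hΦ⟩ := Groth.Agent.H2ComplReg.exists_map (maximalIdeal A) hI (maximalIdeal A') (algebraMap A A')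
    (((local_hom_TFAE (algebraMap A A')).out 0 2).1 ‹_›)
  letI : Algebra (EGA4.Cpl A) (EGA4.Cpl A') := Φ.toAlgebra
  haveI : IsScalarTower A (EGA4.Cpl A) (EGA4.Cpl A') := IsScalarTower.of_algebraMap_eq fun a => by
    show _ = Φ (algebraMap A _ a)
    rw [hΦ]
    exact IsScalarTower.algebraMap_apply A A' (EGA4.Cpl A') a
  have hle : (maximalIdeal A).map (algebraMap A (EGA4.Cpl A')) ≤ maximalIdeal (EGA4.Cpl A') := by
    rw [IsScalarTower.algebraMap_eq A A' (EGA4.Cpl A'), ← Ideal.map_map, AdicCompletion.maximalIdeal_eq_map]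
    exact Ideal.map_mono (((local_hom_TFAE (algebraMap A A')).out 0 2).1 ‹_›)
  haveI : Module.Flat A' (EGA4.Cpl A') := hA'.1
  haveI : Module.Flat A (EGA4.Cpl A') := Module.Flat.trans A A' _
  haveI : Module.Flat (EGA4.Cpl A) (EGA4.Cpl A') :=
    Groth.Agent.H2ComplReg.flat_of_dense (maximalIdeal A)
      (by rw [IsLocalRing.jacobson_eq_maximalIdeal ⊥ bot_ne_top]; exact hle)
      fun n x => Groth.Agent.H2AdicComplFS.exists_sub_mem hI n x
  haveI : IsLocalHom (algebraMap (EGA4.Cpl A) (EGA4.Cpl A')) := by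
    refine ((local_hom_TFAE (algebraMap (EGA4.Cpl A) (EGA4.Cpl A'))).out 0 2).2 ?_
    rw [AdicCompletion.maximalIdeal_eq_map, Ideal.map_map, ← IsScalarTower.algebraMap_eq]
    exact hle
  haveI : Module.FaithfullyFlat (EGA4.Cpl A) (EGA4.Cpl A') := Module.FaithfullyFlat.of_flat_of_isLocalHom
  intro p _
  haveI : IsNoetherianRing (p.Fiber (EGA4.Cpl A)) := Groth.Agent.H2GeomRedHom.isNoetherianRing_tensor A (EGA4.Cpl A) p.ResidueField
  exact cm_of_hasSk fun n => skFib_descend (B := EGA4.Cpl A) (C := EGA4.Cpl A')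
    (skFib_comp (fun p _ => haveI := hf p; hasSk_of_cm n _) (skFib_of_regularHom n hA')) p

end Groth.Agent.S4744
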