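import Groth.Statements.S4748
import Mathlib
import Groth.Prelude.Def_EGA4b
import Groth.Prelude.Def_CAlg
import Groth.Agent.Lib.H2CMFibre
import Groth.Agent.Lib.H2NormalHom
import Groth.Agent.S2615

set_option autoImplicit false
universe u
open EGA4

namespace Groth.Agent.S4748
open IsLocalRing TensorProduct Groth.Agent.H2SerreAscent Groth.Agent.H2SkHom Groth.Agent.H2CMFibre Groth.Agent.H2NormalHom
set_option maxHeartbeats 1000000
set_option synthInstance.maxHeartbeats 400000
set_option backward.isDefEq.respectTransparency.types false

open TensorProduct in
/-- For the property 'normal' (affine form): let k be a field, S a Noetherian k-algebra and k' an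
extension field of k such that S is of finite type over k or k' is essentially of finite type over
k; let q' be a prime of S ⊗_k k' and q its contraction to S. If (S ⊗_k k')_{q'} is an integrally
closed domain then so is S_q; conversely, if k' is separable over k (geometrically reduced) and S_q
is an integrally closed domain, then so is (S ⊗_k k')_{q'}. -/
theorem result (k S k' : Type u) [Field k] [CommRing S] [Algebra k S]
    [IsNoetherianRing S] [Field k'] [Algebra k k'] (hft : Algebra.FiniteType k S ∨ Algebra.EssFiniteType k k')
    [IsNoetherianRing (S ⊗[k] k')] (q' : Ideal (S ⊗[k] k')) [q'.IsPrime] :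
    ((IsDomain (Localization.AtPrime q') ∧ IsIntegrallyClosed (Localization.AtPrime q')) →
        (IsDomain (Localization.AtPrime (q'.comap (algebraMap S (S ⊗[k] k')))) ∧
          IsIntegrallyClosed (Localization.AtPrime (q'.comap (algebraMap S (S ⊗[k] k')))))) ∧
      (Algebra.IsGeometricallyReduced k k' →
        (IsDomain (Localization.AtPrime (q'.comap (algebraMap S (S ⊗[k] k')))) ∧
          IsIntegrallyClosed (Localization.AtPrime (q'.comap (algebraMap S (S ⊗[k] k'))))) →
          (IsDomain (Localization.AtPrime q') ∧ IsIntegrallyClosed (Localization.AtPrime q'))) := by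
  refine ⟨fun h => ?_, fun hgr h => ?_⟩
  · let p := q'.comap (algebraMap S (S ⊗[k] k'))
    haveI : q'.LiesOver p := ⟨rfl⟩
    letI := Localization.AtPrime.algebraOfLiesOver p q'
    haveI : Module.Flat S (Localization.AtPrime q') := Module.Flat.trans S (S ⊗[k] k') _
    haveI : Module.Flat (Localization.AtPrime p) (Localization.AtPrime q') :=
      (Module.flat_iff_of_isLocalization (Localization.AtPrime p) p.primeCompl _).2 inferInstance
    haveI : IsLocalHom (algebraMap (Localization.AtPrime p) (Localization.AtPrime q')) :=
      Localization.isLocalHom_localRingHom p q' (algebraMap S (S ⊗[k] k')) (q'.over_def p)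
    haveI : Module.FaithfullyFlat (Localization.AtPrime p) (Localization.AtPrime q') := Module.FaithfullyFlat.of_flat_of_isLocalHom
    haveI := h.1
    haveI := h.2
    exact Groth.Agent.LSmoothNormal.descent (Localization.AtPrime p) (Localization.AtPrime q')
  · haveI := hgr
    haveI := h.1
    haveI := h.2
    refine normal_ascend (A := S) (fun Q _ => ?_) q'
    obtain ⟨P, hP, ⟨e⟩⟩ := exists_fibre_tensor Q
    have hft' := hft.imp_left (fun (h : Algebra.FiniteType k S) => haveI := h; Algebra.EssFiniteType.comp k S (Q.comap (algebraMap S (S ⊗[k] k'))).ResidueField)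
    haveI : IsNoetherianRing ((Q.comap (algebraMap S (S ⊗[k] k'))).ResidueField ⊗[k] k') :=
      haveI := cm_tensor_fields k (Q.comap (algebraMap S (S ⊗[k] k'))).ResidueField k' hft'
      inferInstance
    haveI := Groth.Agent.S2615.result k (Q.comap (algebraMap S (S ⊗[k] k'))).ResidueField k' hft'
    exact normalDomain_congr e (normal_of_regular _ P)

end Groth.Agent.S4748
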