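import Groth.Statements.S4755
import Mathlib
import Groth.Prelude.Def_Hensel
import Groth.Agent.Lib.H2CplQuot

set_option autoImplicit false
universe u
open EGA4

namespace Groth.Agent.S4755
open IsLocalRing TensorProduct
set_option maxHeartbeats 1000000
set_option synthInstance.maxHeartbeats 400000
set_option backward.isDefEq.respectTransparency.types false

/-- For the property 'Cohen–Macaulay', case of a local ring: if the formal fibres of a Noetherian local
ring A are Cohen–Macaulay, then so are the formal fibres of A/I for every proper ideal I of A. -/
theorem result (A : Type u) [CommRing A] [IsNoetherianRing A] [IsLocalRing A]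
    (hA : EGA4.HasCMFormalFibres A) (I : Ideal A) [Nontrivial (A ⧸ I)] :
    EGA4.HasCMFormalFibres (A ⧸ I) := by
  exact Groth.Agent.H2CplQuot.cmFibres I hA

end Groth.Agent.S4755
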