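import Groth.Statements.S4756
import Mathlib
import Groth.Prelude.Def_EGA4b
import Groth.Prelude.Def_CAlg
import Groth.Prelude.Def_Found
import Groth.Agent.Lib.H2SkHom
import Groth.Agent.Lib.H2ComplReg
import Groth.Agent.Lib.CompleteNoetherian
import Groth.Agent.Lib.H2FormalFibreDomain

set_option autoImplicit false
universe u
open EGA4

namespace Groth.Agent.S4756
open IsLocalRing TensorProduct Groth.Agent.H2SerreAscent Groth.Agent.H2NormalHom Groth.Agent.H2SkHom
set_option maxHeartbeats 1000000
set_option synthInstance.maxHeartbeats 400000
set_option backward.isDefEq.respectTransparency.types false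

/-- Let A → B be a normal homomorphism of Noetherian rings (flat, with geometrically normal fibres) and
S a multiplicative subset of A. Then the induced homomorphism S⁻¹A → S⁻¹B (arbitrary localizations
at S and at its image) is normal. -/
theorem result (A B : Type u) [CommRing A] [CommRing B] [IsNoetherianRing A] [IsNoetherianRing B]
    [Algebra A B] (h : EGA4.IsNormalHom A B) (S : Submonoid A)
    (A' B' : Type u) [CommRing A'] [CommRing B'] [Algebra A A'] [Algebra B B'] [Algebra A' B'] [Algebra A B']
    [IsScalarTower A A' B'] [IsScalarTower A B B'] [IsLocalization S A']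
    [IsLocalization (Algebra.algebraMapSubmonoid B S) B'] :
    EGA4.IsNormalHom A' B' := by
  haveI := h.1
  haveI : IsNoetherianRing B' := IsLocalization.isNoetherianRing (Algebra.algebraMapSubmonoid B S) _ inferInstance
  haveI : Module.Flat B B' := IsLocalization.flat _ (Algebra.algebraMapSubmonoid B S)
  haveI : Module.Flat A B' := Module.Flat.trans A B B'
  refine ⟨(Module.flat_iff_of_isLocalization A' S _).2 inferInstance, normalBC_iff.1 fun p' _ k' _ _ _ _ hf => ?_⟩
  haveI := hf
  let p := p'.comap (algebraMap A A')
  letI : Algebra p.ResidueField p'.ResidueField := (Ideal.ResidueField.map p p' (algebraMap A A') rfl).toAlgebra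
  haveI : IsScalarTower A p.ResidueField p'.ResidueField := IsScalarTower.of_algebraMap_eq fun a => by
    simp [RingHom.algebraMap_toAlgebra, ← IsScalarTower.algebraMap_apply]
  letI : Algebra p.ResidueField k' := ((algebraMap p'.ResidueField k').comp (algebraMap p.ResidueField p'.ResidueField)).toAlgebra
  haveI : IsScalarTower p.ResidueField p'.ResidueField k' := IsScalarTower.of_algebraMap_eq' rfl
  letI : Algebra A k' := ((algebraMap A' k').comp (algebraMap A A')).toAlgebra
  haveI : IsScalarTower A A' k' := IsScalarTower.of_algebraMap_eq' rfl
  haveI : IsScalarTower A p.ResidueField k' := IsScalarTower.of_algebraMap_eq fun a => by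
    rw [IsScalarTower.algebraMap_apply p.ResidueField p'.ResidueField k', ← IsScalarTower.algebraMap_apply A p.ResidueField p'.ResidueField,
      IsScalarTower.algebraMap_apply A A' p'.ResidueField, ← IsScalarTower.algebraMap_apply A' p'.ResidueField k',
      IsScalarTower.algebraMap_apply A A' k']
  have hsurj : Function.Surjective (algebraMap p.ResidueField p'.ResidueField) := by
    have hA' : ∀ x : A', algebraMap A' p'.ResidueField x ∈ (algebraMap p.ResidueField p'.ResidueField).range := by
      intro x
      obtain ⟨a, s, rfl⟩ := IsLocalization.exists_mk'_eq S x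
      refine ⟨algebraMap A p.ResidueField a / algebraMap A p.ResidueField s, ?_⟩
      have hs : algebraMap A' p'.ResidueField (algebraMap A A' s) ≠ 0 := ((IsLocalization.map_units A' s).map _).ne_zero
      rw [map_div₀, ← IsScalarTower.algebraMap_apply, ← IsScalarTower.algebraMap_apply, IsScalarTower.algebraMap_apply A A' p'.ResidueField,
        IsScalarTower.algebraMap_apply A A' p'.ResidueField, div_eq_iff hs, ← map_mul, IsLocalization.mk'_spec]
    intro z
    obtain ⟨a, s, hs, rfl⟩ := IsFractionRing.div_surjective (A := A' ⧸ p') z
    obtain ⟨a, rfl⟩ := Ideal.Quotient.mk_surjective a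
    obtain ⟨s, rfl⟩ := Ideal.Quotient.mk_surjective s
    obtain ⟨a', ha'⟩ := hA' a
    obtain ⟨s', hs'⟩ := hA' s
    exact ⟨a' / s', by rw [map_div₀, ha', hs']; rfl⟩
  haveI : Module.Finite p.ResidueField p'.ResidueField := Module.Finite.of_surjective (Algebra.linearMap _ _) hsurj
  have h1 := comp (normalBC_iff.2 h.2) (localization (A' := B') (Algebra.algebraMapSubmonoid B S)) p k' (Module.Finite.trans p'.ResidueField k')
  exact normal_congr (IsLocalization.algebraTensorEquiv S A' k' B').symm.toRingEquiv h1

end Groth.Agent.S4756
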