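import Groth.Statements.S4858
import Mathlib


set_option autoImplicit false
universe u
open EGA43

namespace Groth.Agent.S4858

/-- Conditions a), a′), c), c′) (very dense subsets): for a subset X₀ of a topological space X the
following are equivalent: every nonempty locally closed subset of X meets X₀; every closed subset Z
of X equals the closure of Z ∩ X₀; the map U ↦ U ∩ X₀ is injective on open subsets of X; the map F ↦
F ∩ X₀ is injective on closed subsets of X. -/
theorem result {X : Type u} [TopologicalSpace X] (X₀ : Set X) :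
    [∀ Z : Set X, IsLocallyClosed Z → Z.Nonempty → (Z ∩ X₀).Nonempty,
      ∀ Z : Set X, IsClosed Z → closure (Z ∩ X₀) = Z,
      ∀ U V : Set X, IsOpen U → IsOpen V → U ∩ X₀ = V ∩ X₀ → U = V,
      ∀ F F' : Set X, IsClosed F → IsClosed F' → F ∩ X₀ = F' ∩ X₀ → F = F'].TFAE := by
  tfae_have 1 → 2 := fun h Z hZ => by
    refine (hZ.closure_subset_iff.mpr Set.inter_subset_left).antisymm fun x hx => ?_
    rw [mem_closure_iff]
    intro O hO hxO
    obtain ⟨b, hb, hb0⟩ := h (O ∩ Z) ⟨O, Z, hO, hZ, rfl⟩ ⟨x, hxO, hx⟩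
    exact ⟨b, hb.1, hb.2, hb0⟩
  tfae_have 2 → 4 := fun h F F' hF hF' he => by rw [← h F hF, he, h F' hF']
  tfae_have 4 → 3 := fun h U V hU hV he => by
    refine compl_injective (h _ _ hU.isClosed_compl hV.isClosed_compl ?_)
    ext b
    simp only [Set.mem_inter_iff, Set.mem_compl_iff]
    constructor <;> rintro ⟨h1, h2⟩ <;> refine ⟨fun h3 => h1 ?_, h2⟩
    · exact ((Set.ext_iff.mp he b).mpr ⟨h3, h2⟩).1
    · exact ((Set.ext_iff.mp he b).mp ⟨h3, h2⟩).1
  tfae_have 3 → 1 := fun h Z hZ hne => by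
    obtain ⟨U, F, hU, hF, rfl⟩ := hZ
    by_contra hc
    have := h U (U ∩ Fᶜ) hU (hU.inter hF.isOpen_compl) (by
      ext b
      exact ⟨fun hb => ⟨⟨hb.1, fun hbF => hc ⟨b, ⟨hb.1, hbF⟩, hb.2⟩⟩, hb.2⟩, fun hb => ⟨hb.1.1, hb.2⟩⟩)
    obtain ⟨b, hbU, hbF⟩ := hne
    exact (this ▸ hbU : b ∈ U ∩ Fᶜ).2 hbF
  tfae_finish

end Groth.Agent.S4858
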