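import Groth.Statements.S4860
import Mathlib
import Groth.Agent.Lib.H4NoethTop


set_option autoImplicit false
universe u
open EGA43

namespace Groth.Agent.S4860

/-- For an integral domain B the following are equivalent: a) the localization B_f is a field for some
nonzero f; b) the fraction field of B is a finitely generated B-algebra; c) there is a field
containing B (an injective algebra map from B) which is a finitely generated B-algebra; d) the
generic point of Spec B is open. -/
theorem result (B : Type u) [CommRing B] [IsDomain B] :
    [∃ f : B, f ≠ 0 ∧ IsField (Localization.Away f),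
      Algebra.FiniteType B (FractionRing B),
      ∃ (K : Type u) (_ : Field K) (_ : Algebra B K), Function.Injective (algebraMap B K) ∧ Algebra.FiniteType B K,
      IsOpen ({⟨⊥, Ideal.bot_prime⟩} : Set (PrimeSpectrum B))].TFAE := by
  tfae_have 1 → 2 := by
    rintro ⟨f, hf, h⟩
    let φ : Localization.Away f →ₐ[B] FractionRing B :=
      IsLocalization.liftAlgHom (M := Submonoid.powers f) (f := Algebra.ofId B (FractionRing B))
        (fun y => IsLocalization.map_units (FractionRing B)
          ⟨y.1, powers_le_nonZeroDivisors_of_noZeroDivisors hf y.2⟩)
    haveI : Algebra.FiniteType B (Localization.Away f) :=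
      IsLocalization.finiteType_of_monoid_fg (Submonoid.powers f) _
    refine Algebra.FiniteType.of_surjective φ fun z => ?_
    obtain ⟨a, s, rfl⟩ := IsLocalization.exists_mk'_eq (nonZeroDivisors B) z
    letI := h.toField
    refine ⟨algebraMap B _ a / algebraMap B _ s.1, ?_⟩
    have hs : algebraMap B (Localization.Away f) s.1 ≠ 0 := fun e =>
      nonZeroDivisors.ne_zero s.2 (IsLocalization.injective _
        (powers_le_nonZeroDivisors_of_noZeroDivisors hf) (by rw [e, map_zero]))
    rw [eq_comm, IsLocalization.mk'_eq_iff_eq_mul,
      ← φ.commutes s.1, ← map_mul, div_mul_cancel₀ _ hs, φ.commutes]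
  tfae_have 2 → 3 := fun h => ⟨FractionRing B, inferInstance, inferInstance,
    IsFractionRing.injective B (FractionRing B), h⟩
  tfae_have 3 → 1 := by
    rintro ⟨K, _, _, hinj, hK⟩
    classical
    haveI : FaithfulSMul B K := (faithfulSMul_iff_algebraMap_injective B K).mpr hinj
    letI : Algebra (FractionRing B) K := FractionRing.liftAlgebra B K
    haveI : IsScalarTower B (FractionRing B) K := FractionRing.isScalarTower_liftAlgebra B K
    haveI : Algebra.FiniteType (FractionRing B) K := Algebra.FiniteType.of_restrictScalars_finiteType B _ K
    haveI : Module.Finite (FractionRing B) K := finite_of_finite_type_of_isJacobsonRing _ K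
    obtain ⟨S, hS⟩ := hK.1
    have hy : ∀ x : K, ∃ y : B, y ≠ 0 ∧ IsIntegral B (y • x) := fun x =>
      ((IsFractionRing.isAlgebraic_iff B (FractionRing B) K).mpr
        (IsIntegral.of_finite (FractionRing B) x).isAlgebraic).exists_integral_multiple
    choose y hy0 hyi using hy
    let f : B := ∏ x ∈ S, y x
    have hf : f ≠ 0 := Finset.prod_ne_zero_iff.mpr fun x _ => hy0 x
    refine ⟨f, hf, ?_⟩
    have hfK : algebraMap B K f ≠ 0 := fun e => hf (hinj (by rw [e, map_zero]))
    let φ : Localization.Away f →ₐ[B] K :=
      IsLocalization.liftAlgHom (M := Submonoid.powers f) (f := Algebra.ofId B K) (by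
        rintro ⟨_, n, rfl⟩
        exact isUnit_iff_ne_zero.mpr ((map_pow (algebraMap B K) f n).trans_ne (pow_ne_zero n hfK)))
    letI := φ.toRingHom.toAlgebra
    haveI : IsScalarTower B (Localization.Away f) K :=
      IsScalarTower.of_algebraMap_eq fun b => (φ.commutes b).symm
    have hφ : Function.Injective φ := by
      rw [injective_iff_map_eq_zero]
      intro z hz
      obtain ⟨a, s, rfl⟩ := IsLocalization.exists_mk'_eq (Submonoid.powers f) z
      have h0 := congrArg φ (IsLocalization.mk'_spec (Localization.Away f) a s)
      rw [map_mul, hz, zero_mul, φ.commutes] at h0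
      rw [hinj (h0.symm.trans (map_zero _).symm), IsLocalization.mk'_zero]
    have hint : Algebra.IsIntegral (Localization.Away f) K := by
      have hgen : Algebra.adjoin (Localization.Away f) (S : Set K) = ⊤ := by
        rw [eq_top_iff]
        intro z _
        have : z ∈ (⊤ : Subalgebra B K) := trivial
        rw [← hS] at this
        exact Algebra.adjoin_le (S := (Algebra.adjoin (Localization.Away f) (S : Set K)).restrictScalars B)
          Algebra.subset_adjoin this
      refine ⟨fun z => ?_⟩
      have hle : Algebra.adjoin (Localization.Away f) (S : Set K) ≤ integralClosure _ K := by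
        refine Algebra.adjoin_le fun x hx => ?_
        obtain ⟨c, hc⟩ : y x ∣ f := Finset.dvd_prod_of_mem y hx
        have h1 : IsIntegral (Localization.Away f) (y x • x) := (hyi x).tower_top
        have h2 : x = algebraMap (Localization.Away f) K
            (algebraMap B _ c * IsLocalization.Away.invSelf f) * (y x • x) := by
          have h3 : algebraMap (Localization.Away f) K (IsLocalization.Away.invSelf f) *
              algebraMap B K f = 1 := by
            rw [IsScalarTower.algebraMap_apply B (Localization.Away f) K, ← map_mul, mul_comm,
              IsLocalization.Away.mul_invSelf, map_one]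
          have hcK : algebraMap B K f = algebraMap B K (y x) * algebraMap B K c := by
            rw [hc, map_mul]
          rw [hcK] at h3
          rw [map_mul, ← IsScalarTower.algebraMap_apply, Algebra.smul_def]
          linear_combination (-x) * h3
        show IsIntegral _ x
        rw [h2]
        exact isIntegral_algebraMap.mul h1
      exact hle (hgen ▸ trivial)
    exact isField_of_isIntegral_of_isField hφ (Field.toIsField K)
  tfae_have 1 → 4 := by
    rintro ⟨f, hf, h⟩
    have e : ({⟨⊥, Ideal.bot_prime⟩} : Set (PrimeSpectrum B)) = PrimeSpectrum.basicOpen f := by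
      ext q
      constructor
      · rintro rfl
        exact hf
      · intro hq
        by_contra hne
        exact hq ((H4NoethTop.isField_away_iff hf).mp h _ q.2 fun e' => hne (PrimeSpectrum.ext e'))
    rw [e]
    exact (PrimeSpectrum.basicOpen f).isOpen
  tfae_have 4 → 1 := by
    intro h
    obtain ⟨_, ⟨f, rfl⟩, hf, hsub⟩ :=
      PrimeSpectrum.isTopologicalBasis_basic_opens.exists_subset_of_mem_open (Set.mem_singleton _) h
    have hf0 : f ≠ 0 := hf
    refine ⟨f, hf0, (H4NoethTop.isField_away_iff hf0).mpr fun q hq hne => ?_⟩
    by_contra hfq
    exact hne (congrArg PrimeSpectrum.asIdeal (hsub (show (⟨q, hq⟩ : PrimeSpectrum B) ∈ _ from hfq)))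
  tfae_finish

end Groth.Agent.S4860
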