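import Groth.Statements.S4861
import Mathlib
import Groth.Agent.Lib.H4NoethTop


set_option autoImplicit false
universe u
open EGA43

namespace Groth.Agent.S4861

/-- For a Noetherian integral domain B the following are equivalent (and hence equivalent to: the
fraction field of B is a finitely generated B-algebra; the generic point of Spec B is open): a) the
localization B_f is a field for some nonzero f; e) Spec B is finite; f) B is semi-local (finitely
many maximal ideals) of Krull dimension at most 1. -/
theorem result (B : Type u) [CommRing B] [IsDomain B]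
    [IsNoetherianRing B] :
    [∃ f : B, f ≠ 0 ∧ IsField (Localization.Away f),
      Finite (PrimeSpectrum B),
      Finite (MaximalSpectrum B) ∧ ringKrullDim B ≤ 1].TFAE := by
  have hbot : ∀ q : PrimeSpectrum B, (⟨⊥, Ideal.bot_prime⟩ : PrimeSpectrum B) ≤ q := fun q => (bot_le : (⊥ : Ideal B) ≤ q.asIdeal)
  tfae_have 1 → 2 := by
    rintro ⟨f, hf, h⟩
    have hlc : IsLocallyClosed ({⟨⊥, Ideal.bot_prime⟩} : Set (PrimeSpectrum B)) := by
      have e : ({⟨⊥, Ideal.bot_prime⟩} : Set (PrimeSpectrum B)) = PrimeSpectrum.basicOpen f := by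
        ext q
        constructor
        · rintro rfl
          exact hf
        · intro hq
          by_contra hne
          exact hq ((H4NoethTop.isField_away_iff hf).mp h _ q.2 fun e' => hne (PrimeSpectrum.ext e'))
      rw [e]
      exact (PrimeSpectrum.basicOpen f).isOpen.isLocallyClosed
    exact Set.finite_univ_iff.mp ((H4NoethTop.finite_ge hlc).subset fun q _ => hbot q)
  tfae_have 2 → 3 := by
    intro h
    refine ⟨Finite.of_injective _ MaximalSpectrum.toPrimeSpectrum_injective, ?_⟩
    change Order.krullDim (PrimeSpectrum B) ≤ 1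
    rw [Order.krullDim_le_one_iff]
    intro q
    rcases eq_or_lt_of_le (hbot q) with e | e
    · exact Or.inl fun b _ => e ▸ hbot b
    · exact Or.inr (H4NoethTop.isMax_of_gt (H4NoethTop.locallyClosed_of_finite_gt (Set.toFinite _)) e)
  tfae_have 3 → 1 := by
    rintro ⟨h, hd⟩
    change Order.krullDim (PrimeSpectrum B) ≤ 1 at hd
    rw [Order.krullDim_le_one_iff] at hd
    have hfin : {q : PrimeSpectrum B | (⟨⊥, Ideal.bot_prime⟩ : PrimeSpectrum B) < q}.Finite := by
      refine (Set.finite_range (MaximalSpectrum.toPrimeSpectrum (R := B))).subset fun q hq => ?_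
      rcases hd q with h' | h'
      · exact absurd (h' (hbot q)) hq.not_ge
      · exact ⟨⟨q.asIdeal, PrimeSpectrum.isMax_iff.mp h'⟩, rfl⟩
    obtain ⟨f, hf, hgt⟩ := H4NoethTop.exists_f_of_locallyClosed _
      (H4NoethTop.locallyClosed_of_finite_gt hfin)
    have hf0 : f ≠ 0 := fun e => hf (by rw [e]; exact Submodule.zero_mem _)
    refine ⟨f, hf0, (H4NoethTop.isField_away_iff hf0).mpr fun q hq hne => hgt ⟨q, hq⟩ ?_⟩
    exact lt_of_le_of_ne (hbot _) fun e => hne (congrArg PrimeSpectrum.asIdeal e).symm
  tfae_finish

end Groth.Agent.S4861
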