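import Groth.Statements.S4862
import Mathlib
import Groth.Agent.Lib.H4NoethTop


set_option autoImplicit false
universe u
open EGA43

namespace Groth.Agent.S4862

/-- For a commutative ring A the following are equivalent: a) A is a Jacobson ring; b) for every prime
ideal p of A which is not maximal and every nonzero f of B = A/p, the localization B_f is not a
field; b′) every finitely generated A-algebra which is a field is a finite A-module. -/
theorem result (A : Type u) [CommRing A] :
    [IsJacobsonRing A,
      ∀ (p : Ideal A) [p.IsPrime], ¬ p.IsMaximal → ∀ f : A ⧸ p, f ≠ 0 → ¬ IsField (Localization.Away f),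
      ∀ (K : Type u) [Field K] [Algebra A K], Algebra.FiniteType A K → Module.Finite A K].TFAE := by
  tfae_have 1 → 3 := fun h K _ _ hK => finite_of_finite_type_of_isJacobsonRing A K
  tfae_have 3 → 2 := by
    intro h p _ hp f hf hF
    letI := hF.toField
    haveI : Algebra.FiniteType (A ⧸ p) (Localization.Away f) :=
      IsLocalization.finiteType_of_monoid_fg (Submonoid.powers f) _
    haveI : Algebra.FiniteType A (Localization.Away f) :=
      Algebra.FiniteType.trans (S := A ⧸ p) inferInstance inferInstance
    haveI : Module.Finite A (Localization.Away f) := h (Localization.Away f) inferInstance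
    haveI : Module.Finite (A ⧸ p) (Localization.Away f) := Module.Finite.of_restrictScalars_finite A _ _
    refine hp (Ideal.Quotient.maximal_of_isField p ?_)
    exact isField_of_isIntegral_of_isField (S := Localization.Away f)
      (IsLocalization.injective _ (powers_le_nonZeroDivisors_of_noZeroDivisors hf)) hF
  tfae_have 2 → 1 := by
    intro h
    rw [isJacobsonRing_iff_prime_eq]
    intro P hP
    refine le_antisymm (fun f hf => ?_) Ideal.le_jacobson
    by_contra hfP
    obtain ⟨q, ⟨hq, hPq, hfq⟩, hmax⟩ := zorn_le₀ {q : Ideal A | q.IsRadical ∧ P ≤ q ∧ f ∉ q} (by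
      intro c hc hchain
      rcases c.eq_empty_or_nonempty with rfl | ⟨a, ha⟩
      · exact ⟨P, ⟨hP.isRadical, le_rfl, hfP⟩, by simp⟩
      · refine ⟨sSup c, ⟨?_, le_trans (hc ha).2.1 (le_sSup ha), ?_⟩, fun _ hz => le_sSup hz⟩
        · rintro x ⟨n, hn⟩
          obtain ⟨b, hb, hxb⟩ := (Submodule.mem_sSup_of_directed ⟨a, ha⟩ hchain.directedOn).mp hn
          exact le_sSup hb ((hc hb).1 ⟨n, hxb⟩)
        · intro hfc
          obtain ⟨b, hb, hfb⟩ := (Submodule.mem_sSup_of_directed ⟨a, ha⟩ hchain.directedOn).mp hfc
          exact (hc hb).2.2 hfb)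
    obtain ⟨r, hr, hqr, hfr⟩ : ∃ r : Ideal A, r.IsPrime ∧ q ≤ r ∧ f ∉ r := by
      by_contra hc
      refine hfq ?_
      rw [← hq.radical, Ideal.radical_eq_sInf, Ideal.mem_sInf]
      exact fun J hJ => by_contra fun h' => hc ⟨J, hJ.2, hJ.1, h'⟩
    haveI := hr
    have hmax' : ∀ s : Ideal A, s.IsPrime → r < s → f ∈ s := fun s hs hrs => by
      by_contra hfs
      exact hrs.not_ge ((hmax ⟨hs.isRadical, hPq.trans (hqr.trans hrs.le), hfs⟩
        (hqr.trans hrs.le)).trans hqr)
    have hnm : ¬ r.IsMaximal := fun hm => hfr (Ideal.mem_sInf.mp hf ⟨hPq.trans hqr, hm⟩)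
    have hf0 : Ideal.Quotient.mk r f ≠ 0 := fun e => hfr (Ideal.Quotient.eq_zero_iff_mem.mp e)
    refine h r hnm _ hf0 ((H4NoethTop.isField_away_iff hf0).mpr fun s hs hne => ?_)
    refine hmax' (s.comap (Ideal.Quotient.mk r)) inferInstance (lt_of_le_of_ne ?_ ?_)
    · intro x hx
      rw [Ideal.mem_comap, Ideal.Quotient.eq_zero_iff_mem.mpr hx]
      exact s.zero_mem
    · intro e
      apply hne
      rw [← Ideal.map_comap_of_surjective _ Ideal.Quotient.mk_surjective s, ← e, Ideal.map_quotient_self]
  tfae_finish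

end Groth.Agent.S4862
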