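import Mathlib
import Groth.Agent.Lib.H4FlatDescentExist
import Groth.Statements.S4865
-- import your own Groth.Agent.* helpers here

set_option autoImplicit false
universe u
open EGA43

namespace Groth.Agent.S4865

/-- Let A be a commutative ring, B a finitely presented A-algebra, C a finitely presented B-algebra and
M a finitely presented C-module. Then the set of prime ideals q of B such that the localized module
M_q (M regarded as a B-module) is flat over A is open in Spec B. -/
theorem result {A B C : Type u} [CommRing A] [CommRing B] [CommRing C]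
    [Algebra A B] [Algebra B C] [Algebra A C] [IsScalarTower A B C]
    [Algebra.FinitePresentation A B] [Algebra.FinitePresentation B C]
    (M : Type u) [AddCommGroup M] [Module C M] [Module B M] [Module A M]
    [IsScalarTower B C M] [IsScalarTower A C M] [IsScalarTower A B M] [Module.FinitePresentation C M] :
    IsOpen {q : PrimeSpectrum B | Module.Flat A (LocalizedModule q.asIdeal.primeCompl M)} := by
  haveI : Algebra.FinitePresentation A C := Algebra.FinitePresentation.trans A B C
  obtain ⟨R₀, _, _, S₀, _, _, _, _, _, _, M₀, _, _, _, _, _, _, _, _, _, f, h1, h2, h3, h4, h5⟩ :=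
    Groth.Agent.H4FlatDescent.exists_model A C M
  haveI := h1; haveI := h2; haveI := h3; haveI := h4
  haveI : IsNoetherianRing R₀ := Algebra.FiniteType.isNoetherianRing ℤ R₀
  have key : ∀ q : PrimeSpectrum B, Module.Flat A (LocalizedModule q.asIdeal.primeCompl M) ↔
      Module.Flat A (LocalizedModule (Algebra.algebraMapSubmonoid C q.asIdeal.primeCompl) M) := fun q => by
    let g : M →ₗ[C] LocalizedModule (Algebra.algebraMapSubmonoid C q.asIdeal.primeCompl) M := LocalizedModule.mkLinearMap _ _
    haveI : IsLocalizedModule q.asIdeal.primeCompl (g.restrictScalars B) := IsLocalizedModule.restrictScalars _ g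
    let e := (IsLocalizedModule.iso q.asIdeal.primeCompl (g.restrictScalars B)).restrictScalars A
    exact ⟨fun _ => Module.Flat.of_linearEquiv e.symm, fun _ => Module.Flat.of_linearEquiv e⟩
  refine isOpen_iff_forall_mem_open.2 fun q hq => ?_
  haveI : Module.Flat A (LocalizedModule (Algebra.algebraMapSubmonoid C q.asIdeal.primeCompl) M) := (key q).1 hq
  obtain ⟨b, hb, h⟩ := Groth.Agent.H4FlatDescent.exists_mem_flat
    (Groth.Agent.H4FlatDescent.isBaseChange_base (R₀ := R₀) (T := A) h5)
    (Groth.Agent.H4FlatDescent.rho_surjective (R₀ := R₀) (T := A) (S₀ := S₀) (B := C))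
    (Algebra.algebraMapSubmonoid C q.asIdeal.primeCompl)
  obtain ⟨s, hs, rfl⟩ := hb
  exact ⟨PrimeSpectrum.basicOpen s, fun q' hq' => (key q').2 (h _ ⟨s, hq', rfl⟩), (PrimeSpectrum.basicOpen s).isOpen, hs⟩

end Groth.Agent.S4865
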