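import Groth.Statements.S4873
import Mathlib


set_option autoImplicit false
universe u
open CategoryTheory AlgebraicGeometry
open EGA43

namespace Groth.Agent.S4873

/-- Let (f_i : Z_i ⟶ X) be a family of morphisms. If the family is schematically dominant, i.e. a
section of O_X over an open V whose pullback to every f_i⁻¹(V) vanishes is zero, then the union of
the images f_i(Z_i) is dense in X. Conversely, if X is reduced and this union is dense, the family
is schematically dominant. -/
theorem result {X : Scheme.{u}} {ι : Type u} (Z : ι → Scheme.{u})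
    (f : ∀ i, Z i ⟶ X) :
    ((∀ (V : (X).Opens) (t : Γ(X, V)), (∀ i, (f i).app V t = 0) → t = 0) → Dense (⋃ i, Set.range (f i))) ∧
    (IsReduced X → Dense (⋃ i, Set.range (f i)) → (∀ (V : (X).Opens) (t : Γ(X, V)), (∀ i, (f i).app V t = 0) → t = 0)) := by
  constructor
  · intro h
    rw [dense_iff_inter_open]
    intro V hV hne
    by_contra hc
    obtain ⟨x, hx⟩ := hne
    have h1 : (1 : Γ(X, ⟨V, hV⟩)) = 0 := h ⟨V, hV⟩ 1 fun i => by
      have hbot : (f i) ⁻¹ᵁ (⟨V, hV⟩ : X.Opens) = ⊥ := by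
        ext a
        exact iff_of_false (fun ha => hc ⟨(f i).base a, ha, Set.mem_iUnion.mpr ⟨i, a, rfl⟩⟩) id
      haveI : Subsingleton Γ(Z i, (f i) ⁻¹ᵁ (⟨V, hV⟩ : X.Opens)) := by
        rw [hbot]; infer_instance
      exact Subsingleton.elim _ _
    haveI : Nontrivial Γ(X, ⟨V, hV⟩) := by
      haveI : Nonempty ↥(⟨V, hV⟩ : X.Opens) := ⟨⟨x, hx⟩⟩
      infer_instance
    exact one_ne_zero h1
  · intro hR hd V t ht
    rw [← basicOpen_eq_bot_iff]
    by_contra hne
    obtain ⟨x, hx⟩ : (X.basicOpen t : Set X).Nonempty := by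
      rw [Set.nonempty_iff_ne_empty]
      intro he
      exact hne (TopologicalSpace.Opens.ext (by simpa using he))
    obtain ⟨_, hyo, hy⟩ := hd.inter_open_nonempty _ (X.basicOpen t).isOpen ⟨x, hx⟩
    obtain ⟨i, a, rfl⟩ := Set.mem_iUnion.mp hy
    have h2 : (f i) ⁻¹ᵁ X.basicOpen t = ⊥ := by
      rw [Scheme.preimage_basicOpen, ht i, Scheme.basicOpen_zero]
    exact (h2 ▸ (show a ∈ (f i) ⁻¹ᵁ X.basicOpen t from hyo) : a ∈ (⊥ : (Z i).Opens))

end Groth.Agent.S4873
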