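import Groth.Statements.S4878
import Mathlib


set_option autoImplicit false
universe u
open TensorProduct
open EGA43

namespace Groth.Agent.S4878

/-- Let A be a commutative ring, (u_i : M → M_i) a family of A-linear maps whose kernels have zero
intersection, and N a projective A-module. Then the kernels of the maps u_i ⊗ 1 : M ⊗_A N → M_i ⊗_A
N have zero intersection. -/
theorem result {A : Type u} [CommRing A]
    {M : Type u} [AddCommGroup M] [Module A M] {ι : Type u} (M' : ι → Type u)
    [∀ i, AddCommGroup (M' i)] [∀ i, Module A (M' i)] (u : ∀ i, M →ₗ[A] M' i)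
    (hu : ⨅ i, LinearMap.ker (u i) = ⊥)
    (N : Type u) [AddCommGroup N] [Module A N] [Module.Projective A N] :
    ⨅ i, LinearMap.ker ((u i).rTensor N) = ⊥ := by
  classical
  obtain ⟨s, hs⟩ := (Module.projective_def' (R := A) (P := N)).mp inferInstance
  rw [eq_bot_iff]
  intro x hx
  simp only [Submodule.mem_iInf, LinearMap.mem_ker] at hx
  have hz : ∀ z : M ⊗[A] (N →₀ A), ∀ k : N, ∀ i,
      TensorProduct.finsuppScalarRight A A (M' i) N ((u i).rTensor _ z) k =
        u i (TensorProduct.finsuppScalarRight A A M N z k) := by
    intro z k i
    induction z using TensorProduct.induction_on with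
    | zero => simp
    | tmul m p => simp [TensorProduct.finsuppScalarRight_apply_tmul_apply]
    | add a b ha hb => simp [ha, hb]
  have h0 : TensorProduct.finsuppScalarRight A A M N (s.lTensor M x) = 0 := by
    ext k
    have hk : TensorProduct.finsuppScalarRight A A M N (s.lTensor M x) k ∈
        ⨅ i, LinearMap.ker (u i) := by
      simp only [Submodule.mem_iInf, LinearMap.mem_ker]
      intro i
      rw [← hz, show (u i).rTensor _ (s.lTensor M x) = s.lTensor (M' i) ((u i).rTensor N x) from by
        rw [← LinearMap.comp_apply, LinearMap.rTensor_comp_lTensor, ← LinearMap.lTensor_comp_rTensor,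
          LinearMap.comp_apply], hx i]
      simp
    rw [hu] at hk
    simpa using hk
  rw [LinearEquiv.map_eq_zero_iff] at h0
  rw [Submodule.mem_bot, ← LinearMap.id_apply (R := A) x, ← LinearMap.lTensor_id M N, ← hs,
    LinearMap.lTensor_comp, LinearMap.comp_apply, h0, map_zero]

end Groth.Agent.S4878
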