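import Groth.Statements.S4880
import Mathlib
import Groth.Agent.Lib.H4NoethTop


set_option autoImplicit false
universe u
open CategoryTheory AlgebraicGeometry
open EGA43

namespace Groth.Agent.S4880

/-- For a Noetherian irreducible scheme X the following are equivalent: a) the generic point of X is an
isolated point; b) the underlying set of X is finite; c) X has dimension at most 1 and finitely many
closed points. -/
theorem result (X : Scheme.{u}) [IsNoetherian X]
    [IrreducibleSpace X] :
    [IsOpen ({genericPoint X} : Set X),
      Finite X,
      topologicalKrullDim X ≤ 1 ∧ {x : X | IsClosed ({x} : Set X)}.Finite].TFAE := by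
  have hgen : closure ({genericPoint X} : Set X) = Set.univ := genericPoint_spec X
  tfae_have 1 → 2 := fun h => by
    have := H4NoethTop.finite_closure (x := genericPoint X) h.isLocallyClosed
    rw [hgen] at this
    exact Set.finite_univ_iff.mp this
  tfae_have 2 → 3 := fun h => by
    refine ⟨H4NoethTop.topologicalKrullDim_le_one_iff.mpr fun x y z hxy hyz => ?_, Set.toFinite _⟩
    by_contra hc
    rw [not_or] at hc
    have hlc : IsLocallyClosed ({x} : Set X) := by
      refine ⟨(⋃ q ∈ {q : X | x ⤳ q ∧ q ≠ x}, closure {q})ᶜ, closure {x},
        ((Set.toFinite _).isClosed_biUnion fun _ _ => isClosed_closure).isOpen_compl,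
        isClosed_closure, ?_⟩
      ext w
      simp only [Set.mem_singleton_iff, Set.mem_inter_iff, Set.mem_compl_iff, Set.mem_iUnion,
        ← specializes_iff_mem_closure, Set.mem_ofPred_eq, exists_prop, not_exists, not_and]
      refine ⟨?_, fun ⟨h1, h2⟩ => by_contra fun h3 => h1 w ⟨h2, h3⟩ specializes_rfl⟩
      rintro rfl
      exact ⟨fun q hq hq' => hq.2 (hq'.antisymm hq.1).eq, specializes_rfl⟩
    exact H4NoethTop.not_chain hlc hxy hyz hc.1 hc.2
  tfae_have 3 → 1 := by
    rintro ⟨hd, hfin⟩
    have e : ({genericPoint X} : Set X) = (⋃ q ∈ {x : X | IsClosed ({x} : Set X)} \ {genericPoint X}, {q})ᶜ := by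
      ext w
      simp only [Set.mem_singleton_iff, Set.mem_compl_iff, Set.mem_iUnion, exists_prop, not_exists,
        not_and]
      constructor
      · rintro rfl q hq e
        exact hq.2 e.symm
      · intro h
        by_contra hw
        refine h w ⟨?_, hw⟩ rfl
        show IsClosed ({w} : Set X)
        rw [← closure_subset_iff_isClosed]
        intro z hz
        rcases H4NoethTop.topologicalKrullDim_le_one_iff.mp hd (genericPoint X) w z
          (genericPoint_specializes w) (specializes_iff_mem_closure.mpr hz) with e | e
        · exact absurd e.symm hw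
        · exact e.symm
    rw [e, isOpen_compl_iff]
    exact (hfin.subset Set.sdiff_subset).isClosed_biUnion fun q hq => hq.1
  tfae_finish

end Groth.Agent.S4880
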