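import Groth.Statements.S4882
import Mathlib


set_option autoImplicit false
universe u
open EGA43

namespace Groth.Agent.S4882

/-- Let X be a Jacobson space and Z a locally quasi-constructible subset of X, i.e. every point of X has
an open neighbourhood U such that U ∩ Z is a finite union of locally closed subsets of X. Then the
subspace Z is a Jacobson space, and a point of Z is closed in Z if and only if it is closed in X. -/
theorem result {X : Type u} [TopologicalSpace X] [JacobsonSpace X]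
    (Z : Set X)
    (hZ : ∀ x : X, ∃ U : Set X, IsOpen U ∧ x ∈ U ∧
      ∃ T : Set (Set X), T.Finite ∧ (∀ t ∈ T, IsLocallyClosed t) ∧ U ∩ Z = ⋃₀ T) :
    JacobsonSpace ↥Z ∧ ∀ z : ↥Z, IsClosed ({z} : Set ↥Z) ↔ IsClosed ({(z : X)} : Set X) := by
  have key : ∀ S : Set ↥Z, IsLocallyClosed S → S.Nonempty →
      ∃ z ∈ S, IsClosed ({(z : X)} : Set X) := by
    intro S hS hne
    obtain ⟨O', F', hO', hF', rfl⟩ := hS
    obtain ⟨O, hO, rfl⟩ := isOpen_induced_iff.mp hO'
    obtain ⟨F, hF, rfl⟩ := isClosed_induced_iff.mp hF'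
    obtain ⟨z, hzO, hzF⟩ := hne
    obtain ⟨U, hU, hzU, T, hTf, hTl, hUT⟩ := hZ z
    have hzT : (z : X) ∈ ⋃₀ T := hUT ▸ ⟨hzU, z.2⟩
    obtain ⟨t, ht, hzt⟩ := hzT
    have hlc : IsLocallyClosed (t ∩ (O ∩ F)) :=
      (hTl t ht).inter (hO.isLocallyClosed.inter hF.isLocallyClosed)
    obtain ⟨a, ⟨hat, haO, haF⟩, hac⟩ :=
      nonempty_inter_closedPoints (Z := t ∩ (O ∩ F)) ⟨z, hzt, hzO, hzF⟩ hlc
    have haZ : a ∈ U ∩ Z := hUT ▸ ⟨t, ht, hat⟩
    exact ⟨⟨a, haZ.2⟩, ⟨haO, haF⟩, hac⟩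
  constructor
  · rw [jacobsonSpace_iff_locallyClosed]
    intro S hne hS
    obtain ⟨z, hz, hzc⟩ := key S hS hne
    exact ⟨z, hz, by
      rw [mem_closedPoints_iff]
      convert hzc.preimage continuous_subtype_val
      ext b; simp [Subtype.ext_iff]⟩
  · intro z
    refine ⟨fun hc => ?_, fun hc => ?_⟩
    · obtain ⟨z', rfl, hz'⟩ := key {z} hc.isLocallyClosed ⟨z, rfl⟩
      exact hz'
    · convert hc.preimage continuous_subtype_val
      ext b; simp [Subtype.ext_iff]

end Groth.Agent.S4882
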