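import Groth.Statements.S4914
import Mathlib


set_option autoImplicit false
open CategoryTheory AlgebraicGeometry
universe u v w
open EGA43

namespace Groth.Agent.S4914

/-- Let ψ : X → Y be a continuous map, x a point of X, and (Y_i) a locally finite covering of Y by
closed subsets. If for every index i with ψ x ∈ Y_i the restriction ψ⁻¹(Y_i) → Y_i of ψ is open at
x, then ψ is open at x. -/
theorem result {α : Type u} {β : Type v} {ι : Type w} [TopologicalSpace α]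
    [TopologicalSpace β] (ψ : α → β) (hψ : Continuous ψ) (x : α) (Y : ι → Set β) (hY : LocallyFinite Y)
    (hcl : ∀ i, IsClosed (Y i)) (hcov : ⋃ i, Y i = Set.univ)
    (h : ∀ i, ∀ hi : ψ x ∈ Y i, EGA43.IsOpenAt ((Y i).restrictPreimage ψ) ⟨x, hi⟩) :
    EGA43.IsOpenAt ψ x := by
  intro U hU
  obtain ⟨N, hN, hfin⟩ := hY (ψ x)
  have key : ∀ i, ∃ O ∈ nhds (ψ x), O ∩ Y i ⊆ ψ '' U := by
    intro i
    by_cases hi : ψ x ∈ Y i
    · have h1 := h i hi (Subtype.val ⁻¹' U) (continuous_subtype_val.continuousAt.preimage_mem_nhds hU)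
      rw [nhds_subtype] at h1
      obtain ⟨O, hO, hOU⟩ := h1
      refine ⟨O, hO, ?_⟩
      rintro b ⟨hb, hbi⟩
      obtain ⟨a, ha, hab⟩ := hOU (show (⟨b, hbi⟩ : Y i) ∈ Subtype.val ⁻¹' O from hb)
      exact ⟨a.1, ha, congrArg Subtype.val hab⟩
    · exact ⟨(Y i)ᶜ, (hcl i).isOpen_compl.mem_nhds hi, fun b hb => absurd hb.2 hb.1⟩
  choose O hO hOU using key
  refine Filter.mem_of_superset
    (Filter.inter_mem hN ((Filter.biInter_mem hfin).mpr fun i _ => hO i)) ?_
  rintro b ⟨hbN, hbO⟩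
  obtain ⟨i, hi⟩ := Set.iUnion_eq_univ_iff.mp hcov b
  exact hOU i ⟨Set.mem_iInter₂.mp hbO i ⟨b, hi, hbN⟩, hi⟩

end Groth.Agent.S4914
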