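import Groth.Statements.S4916
import Mathlib


set_option autoImplicit false
open CategoryTheory AlgebraicGeometry
universe u v w
open EGA43

namespace Groth.Agent.S4916

/-- Let ψ : X → Y be a continuous map of topological spaces and y a point of Y. The set of points x of
the fibre ψ⁻¹(y) at which ψ is open is a closed subset of ψ⁻¹(y). -/
theorem result {α : Type u} {β : Type v} [TopologicalSpace α] [TopologicalSpace β]
    (ψ : α → β) (hψ : Continuous ψ) (y : β) :
    IsClosed {x : ↥(ψ ⁻¹' {y}) | EGA43.IsOpenAt ψ x.1} := by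
  rw [← isOpen_compl_iff, isOpen_iff_forall_mem_open]
  intro x hx
  simp only [Set.mem_compl_iff, Set.mem_ofPred_eq, EGA43.IsOpenAt, not_forall] at hx
  obtain ⟨U, hU, hn⟩ := hx
  obtain ⟨V, hVU, hV, hxV⟩ := mem_nhds_iff.mp hU
  refine ⟨Subtype.val ⁻¹' V, ?_, hV.preimage continuous_subtype_val, hxV⟩
  intro x' hx' hop
  have h1 := hop U (Filter.mem_of_superset (hV.mem_nhds hx') hVU)
  have e : ψ x'.1 = ψ x.1 := (x'.2 : ψ x'.1 = y).trans (x.2 : ψ x.1 = y).symm
  rw [e] at h1
  exact hn h1

end Groth.Agent.S4916
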