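import Groth.Statements.S4929
import Mathlib
import Groth.Agent.Lib.H4OpenAt


set_option autoImplicit false
open CategoryTheory AlgebraicGeometry
universe u v w
open EGA43

namespace Groth.Agent.S4929

open CategoryTheory.Limits in
/-- Let f : X ⟶ Y be a morphism of schemes, x a point of X, and (Y_i ⟶ Y) a finite family of closed
immersions whose images cover Y. If for every i the base change X ×_Y Y_i ⟶ Y_i is universally open
at every point lying over x, then f is universally open at x. -/
theorem result {X Y : Scheme.{u}} (f : X ⟶ Y) (x : X) {ι : Type w}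
    [Finite ι] (T : ι → Scheme.{u}) (g : ∀ i, T i ⟶ Y) [∀ i, IsClosedImmersion (g i)]
    (hcov : ⋃ i, Set.range (g i).base = Set.univ)
    (h : ∀ i, ∀ x' : ↥(pullback f (g i)), (pullback.fst f (g i)).base x' = x →
      EGA43.IsUnivOpenAt (pullback.snd f (g i)) x') :
    EGA43.IsUnivOpenAt f x := by
  intro Y' t z hz U hU
  have key : ∀ i, ∃ O ∈ nhds ((pullback.snd f t).base z),
      O ∩ Set.range (pullback.fst t (g i)).base ⊆ (pullback.snd f t).base '' U := by
    intro i
    by_cases hi : (pullback.snd f t).base z ∈ Set.range (pullback.fst t (g i)).base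
    · obtain ⟨yi, hyi⟩ := hi
      obtain ⟨w, hw1, hw2⟩ := Scheme.Pullback.exists_preimage_pullback (f := pullback.snd f t)
        (g := pullback.fst t (g i)) z yi hyi.symm
      have sqA := (IsPullback.of_hasPullback (pullback.snd f t) (pullback.fst t (g i))).paste_horiz
        (IsPullback.of_hasPullback f t)
      rw [pullback.condition (f := t) (g := g i)] at sqA
      have sqB := sqA.of_right' (IsPullback.of_hasPullback f (g i))
      have hop := H4OpenAt.univOpenAt_apply (h i _ (by
        rw [← Scheme.Hom.comp_apply, IsPullback.lift_fst, Scheme.Hom.comp_apply, hw1, hz])) sqB w rfl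
        ((pullback.fst (pullback.snd f t) (pullback.fst t (g i))).base ⁻¹' U)
        ((pullback.fst (pullback.snd f t) (pullback.fst t (g i))).continuous.continuousAt.preimage_mem_nhds (by rw [hw1]; exact hU))
      rw [hw2, (pullback.fst t (g i)).isClosedEmbedding.isInducing.nhds_eq_comap, hyi] at hop
      obtain ⟨O, hO, hOU⟩ := hop
      refine ⟨O, hO, ?_⟩
      rintro b ⟨hb, c, rfl⟩
      obtain ⟨a, ha, hac⟩ := hOU (show c ∈ (pullback.fst t (g i)).base ⁻¹' O from hb)
      refine ⟨_, ha, ?_⟩
      rw [← hac]
      exact congrArg (fun k => k.base a)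
        (pullback.condition (f := pullback.snd f t) (g := pullback.fst t (g i)))
    · exact ⟨_, (pullback.fst t (g i)).isClosedEmbedding.isClosed_range.isOpen_compl.mem_nhds hi,
        fun b hb => absurd hb.2 hb.1⟩
  choose O hO hOU using key
  refine Filter.mem_of_superset ((Filter.iInter_mem).mpr hO) ?_
  intro b hb
  obtain ⟨i, hi⟩ := Set.iUnion_eq_univ_iff.mp hcov (t.base b)
  exact hOU i ⟨Set.mem_iInter.mp hb i, by rw [Scheme.Pullback.range_fst]; exact hi⟩

end Groth.Agent.S4929
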