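import Groth.Statements.S4947
import Mathlib
import Groth.Agent.Lib.RegularLocalBasic
import Groth.Agent.Lib.H4QReg

set_option autoImplicit false
universe u
open EGA43

namespace Groth.Agent.S4947
open Groth.Agent

section Key

open MvPolynomial

variable {A : Type u} [CommRing A] [IsDomain A] {d : ℕ}

noncomputable def ratio (x : Fin (d + 1) → A) (j : Fin d) : FractionRing A :=
  algebraMap A _ (x j.succ) / algebraMap A _ (x 0)

/-- evaluation `T_j ↦ x_{j+1}/x_0` -/
noncomputable def psi (x : Fin (d + 1) → A) : MvPolynomial (Fin d) A →ₐ[A] FractionRing A :=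
  aeval (ratio x)

theorem coeff_mem_of_psi_eq_zero (x : Fin (d + 1) → A) (h0 : x 0 ≠ 0) (hq : H4QReg.QR x)
    (g : MvPolynomial (Fin d) A) (hg : psi x g = 0) (e : Fin d →₀ ℕ) :
    g.coeff e ∈ Ideal.span (Set.range x) := by
  classical
  set N := g.totalDegree
  let c : (Fin d →₀ ℕ) → (Fin (d + 1) →₀ ℕ) := fun e => Finsupp.cons (N - e.degree) e
  have hcinj : Function.Injective c := fun a b h => by
    have := congrArg Finsupp.tail h
    simpa [c, Finsupp.tail_cons] using this
  have hdeg : ∀ e ∈ g.support, e.degree ≤ N := fun e he => by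
    have := MvPolynomial.le_totalDegree he
    rwa [Finsupp.degree_eq_sum, ← Finsupp.sum_fintype e (fun _ v => v) (fun _ => rfl)]
  set F : MvPolynomial (Fin (d + 1)) A := ∑ e ∈ g.support, monomial (c e) (g.coeff e) with hF
  have hFh : F.IsHomogeneous N := by
    refine IsHomogeneous.sum _ _ _ fun e he => isHomogeneous_monomial _ ?_
    rw [Finsupp.degree_eq_sum, Fin.sum_univ_succ]
    simp only [c, Finsupp.cons_zero, Finsupp.cons_succ]
    rw [← Finsupp.degree_eq_sum]
    have := hdeg e he
    omega
  have hev : eval x F = 0 := by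
    apply IsFractionRing.injective A (FractionRing A)
    have hKx : algebraMap A (FractionRing A) (x 0) ≠ 0 :=
      (map_ne_zero_iff _ (IsFractionRing.injective A (FractionRing A))).mpr h0
    have h1 : algebraMap A (FractionRing A) (eval x F) =
        algebraMap A (FractionRing A) (x 0) ^ N * psi x g := by
      conv_rhs => rw [g.as_sum]
      rw [hF, map_sum, map_sum, map_sum, Finset.mul_sum]
      refine Finset.sum_congr rfl fun e he => ?_
      rw [eval_monomial, psi, aeval_monomial, Finsupp.prod_fintype _ _ (fun _ => pow_zero _),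
        Finsupp.prod_fintype _ _ (fun _ => pow_zero _), Fin.prod_univ_succ]
      simp only [c, Finsupp.cons_zero, Finsupp.cons_succ, map_mul, map_prod, map_pow, ratio, div_pow]
      have hsum : N = (N - e.degree) + ∑ j, e j := by
        rw [← Finsupp.degree_eq_sum]; have := hdeg e he; omega
      conv_rhs => rw [hsum, pow_add, Finset.prod_div_distrib, Finset.prod_pow_eq_pow_sum]
      field_simp
    rw [h1, hg, mul_zero, map_zero]
  by_cases he : e ∈ g.support
  · have := hq N F hFh hev (c e)
    rw [hF, coeff_sum, Finset.sum_eq_single e (fun b _ hb => ?_) (fun h => absurd he h), coeff_monomial,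
      if_pos rfl] at this
    · exact this
    · rw [coeff_monomial, if_neg (fun h => hb (hcinj h))]
  · rw [notMem_support_iff.mp he]
    exact zero_mem _

end Key


section Residue

open MvPolynomial

theorem residue_adjoin {A B V : Type u} [CommRing A] [IsLocalRing A] [CommRing B] [CommRing V]
    [IsLocalRing V] {d : ℕ} (i : A →+* V) [IsLocalHom i] (β : B →+* V)
    (θ : MvPolynomial (Fin d) A →+* B) (hθ : Function.Surjective θ) (hC : ∀ a, β (θ (C a)) = i a)
    (hker : ∀ f, β (θ f) ∈ IsLocalRing.maximalIdeal V ↔ map (IsLocalRing.residue A) f = 0)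
    (hsurj : ∀ v : V, ∃ b s : B, β s ∉ IsLocalRing.maximalIdeal V ∧ v * β s = β b) :
    letI := (IsLocalRing.ResidueField.map i).toAlgebra
    ∃ (ι : Type u) (t : ι → IsLocalRing.ResidueField V), AlgebraicIndependent (IsLocalRing.ResidueField A) t ∧
      IntermediateField.adjoin (IsLocalRing.ResidueField A) (Set.range t) = ⊤ := by
  letI := (IsLocalRing.ResidueField.map i).toAlgebra
  let q : B →+* IsLocalRing.ResidueField V := (IsLocalRing.residue V).comp β
  let t : Fin d → IsLocalRing.ResidueField V := fun j => q (θ (X j))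
  have hq : ∀ f, aeval t (map (IsLocalRing.residue A) f) = q (θ f) := by
    intro f
    induction f using MvPolynomial.induction_on with
    | C a =>
      rw [map_C, aeval_C, RingHom.algebraMap_toAlgebra, IsLocalRing.ResidueField.map_residue, ← hC]
      rfl
    | add p r hp hr => simp only [map_add, hp, hr]
    | mul_X p j hp => simp only [map_mul, hp, map_X, aeval_X]; rfl
  have hindep : AlgebraicIndependent (IsLocalRing.ResidueField A) t := by
    rw [AlgebraicIndependent, injective_iff_map_eq_zero]
    intro p hp
    obtain ⟨f, rfl⟩ := MvPolynomial.map_surjective _ IsLocalRing.residue_surjective p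
    rw [hq] at hp
    exact (hker f).mp ((IsLocalRing.residue_eq_zero_iff _).mp hp)
  refine ⟨ULift.{u} (Fin d), t ∘ ULift.down, hindep.comp _ ULift.down_injective, ?_⟩
  rw [ULift.down_surjective.range_comp]
  have hmemt : ∀ b : B, q b ∈ IntermediateField.adjoin (IsLocalRing.ResidueField A) (Set.range t) := by
    intro b
    obtain ⟨f, rfl⟩ := hθ b
    rw [← hq]
    refine (IntermediateField.algebra_adjoin_le_adjoin _ _) ?_
    rw [Algebra.adjoin_range_eq_range_aeval]
    exact ⟨_, rfl⟩
  refine eq_top_iff.mpr fun z _ => ?_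
  obtain ⟨v, rfl⟩ := IsLocalRing.residue_surjective z
  obtain ⟨b, s, hs, hbs⟩ := hsurj v
  have h2 : q s ≠ 0 := fun h => hs ((IsLocalRing.residue_eq_zero_iff _).mp h)
  have h1 : IsLocalRing.residue V v * q s = q b := by
    simp only [q, RingHom.coe_comp, Function.comp_apply, ← map_mul, hbs]
  rw [eq_div_iff h2 |>.mpr h1]
  exact div_mem (hmemt b) (hmemt s)

end Residue

/-- Let A be a regular local ring which is not a field, K its fraction field and k its residue field.
Then there is a discrete valuation ring V between A and K, with fraction field K, dominating A,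
whose residue field is a purely transcendental extension of k: for some ring map from k compatible
with A → V there is an algebraically independent family generating the residue field of V as a field
over k. -/
theorem result (A : Type u) [CommRing A] [IsRegularLocalRing A]
    (hA : ¬ IsField A) :
    ∃ (V : Subalgebra A (FractionRing A)) (_ : IsDomain V) (_ : IsDiscreteValuationRing V), IsFractionRing V (FractionRing A) ∧
      (IsLocalRing.maximalIdeal V).comap (algebraMap A V) = IsLocalRing.maximalIdeal A ∧
      ∃ (φ : IsLocalRing.ResidueField A →+* IsLocalRing.ResidueField V),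
        φ.comp (IsLocalRing.residue A) = (IsLocalRing.residue V).comp (algebraMap A V) ∧
        letI := φ.toAlgebra
        ∃ (ι : Type u) (t : ι → IsLocalRing.ResidueField V), AlgebraicIndependent (IsLocalRing.ResidueField A) t ∧
          IntermediateField.adjoin (IsLocalRing.ResidueField A) (Set.range t) = ⊤ := by
  haveI : IsDomain A := RegLocal.isDomain
  set m := IsLocalRing.maximalIdeal A with hm
  set K := FractionRing A
  have hm0 : m ≠ ⊥ := fun h => hA (IsLocalRing.isField_iff_maximalIdeal_eq.mpr h)
  have hgen : m.spanFinrank = m.generators.ncard :=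
    (Submodule.FG.generators_ncard (IsNoetherian.noetherian m)).symm
  have hfin : m.generators.Finite := Submodule.FG.finite_generators (IsNoetherian.noetherian m)
  obtain ⟨x0, hx0⟩ : ∃ x : Fin m.spanFinrank → A, Set.range x = m.generators := by
    haveI := hfin.fintype
    refine ⟨fun i => ((Fintype.equivFinOfCardEq (by rw [hgen, Set.ncard_eq_toFinset_card' , Set.toFinset_card])).symm i : m.generators), ?_⟩
    exact (Set.range_comp Subtype.val _).trans (by rw [Equiv.range_eq_univ, Set.image_univ, Subtype.range_coe])
  obtain ⟨d, hd⟩ : ∃ d, m.spanFinrank = d + 1 := by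
    refine ⟨m.spanFinrank - 1, ?_⟩
    have : m.spanFinrank ≠ 0 := fun h => hm0 (by
      rw [← Submodule.span_generators m]
      rw [hgen, Set.ncard_eq_zero hfin] at h
      rw [h, Submodule.span_empty])
    omega
  let x : Fin (d + 1) → A := x0 ∘ Fin.cast hd.symm
  have hxr : Set.range x = m.generators := by
    rw [← hx0]
    exact (finCongr hd.symm).surjective.range_comp x0
  have hxm : Ideal.span (Set.range x) = m := by rw [hxr]; exact Submodule.span_generators m
  have hreg : RingTheory.Sequence.IsRegular A (List.ofFn x) := by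
    refine RegLocal.isRegular_of_span_eq _ [] ?_ (by simp [← hm, hd])
    rw [List.append_nil, Ideal.ofList]
    convert hxm using 2
    ext r; simp [List.mem_ofFn, Set.range, Fin.exists_fin_succ, eq_comm]
  have hwr : RingTheory.Sequence.IsWeaklyRegular A (List.ofFn x) := hreg.toIsWeaklyRegular
  have h0 : x 0 ≠ 0 := by
    intro h
    have := H4QReg.reg_of_isWeaklyRegular hwr 0 1 (by rw [h]; simp)
    simp at this
  have hq : H4QReg.QR x := H4QReg.qr_of_reg x (H4QReg.reg_of_isWeaklyRegular hwr)
  set B : Subalgebra A K := (psi x).range with hB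
  let θ : MvPolynomial (Fin d) A →ₐ[A] B := (psi x).rangeRestrict
  have hθ : Function.Surjective θ := (psi x).rangeRestrict_surjective
  let a0 : B := algebraMap A B (x 0)
  have hKx : algebraMap A K (x 0) ≠ 0 := (map_ne_zero_iff _ (IsFractionRing.injective A K)).mpr h0
  have hker : ∀ f, θ f ∈ Ideal.span {a0} ↔ MvPolynomial.map (IsLocalRing.residue A) f = 0 := by
    have hzero : ∀ f : MvPolynomial (Fin d) A, MvPolynomial.map (IsLocalRing.residue A) f = 0 ↔
        ∀ e, f.coeff e ∈ m := by
      intro f
      rw [MvPolynomial.ext_iff]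
      refine forall_congr' fun e => ?_
      rw [MvPolynomial.coeff_map, MvPolynomial.coeff_zero, IsLocalRing.residue_eq_zero_iff]
    intro f
    rw [hzero]
    constructor
    · intro h e
      obtain ⟨c, hc⟩ := Ideal.mem_span_singleton'.mp h
      obtain ⟨h', rfl⟩ := hθ c
      have h1 : psi x (f - h' * MvPolynomial.C (x 0)) = 0 := by
        rw [map_sub, map_mul, MvPolynomial.algHom_C, sub_eq_zero]
        exact (congrArg Subtype.val hc).symm
      have h2 := coeff_mem_of_psi_eq_zero x h0 hq _ h1 e
      rw [hxm, MvPolynomial.coeff_sub, mul_comm, MvPolynomial.coeff_C_mul] at h2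
      have h3 : x 0 * h'.coeff e ∈ m := Ideal.mul_mem_right _ _ (hxm ▸ Ideal.subset_span (Set.mem_range_self 0))
      simpa using add_mem h2 h3
    · intro h
      have h2 : f ∈ m.map (MvPolynomial.C (σ := Fin d)) := MvPolynomial.mem_map_C_iff.mpr h
      have h3 := Ideal.mem_map_of_mem θ.toRingHom h2
      rw [Ideal.map_map] at h3
      refine (Ideal.map_le_iff_le_comap.mpr ?_) h3
      rw [← hxm, Ideal.span_le]
      rintro _ ⟨i, rfl⟩
      rw [SetLike.mem_coe, Ideal.mem_comap, RingHom.comp_apply]
      change θ (MvPolynomial.C (x i)) ∈ _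
      rw [MvPolynomial.algHom_C]
      induction i using Fin.cases with
      | zero => exact Ideal.mem_span_singleton_self _
      | succ j =>
        refine Ideal.mem_span_singleton'.mpr ⟨θ (MvPolynomial.X j), Subtype.ext ?_⟩
        change psi x (MvPolynomial.X j) * algebraMap A K (x 0) = algebraMap A K (x j.succ)
        rw [psi, MvPolynomial.aeval_X, ratio, div_mul_cancel₀ _ hKx]
  set Pk : Ideal B := Ideal.span {a0}
  haveI hPk : Pk.IsPrime := by
    refine ⟨fun h => ?_, fun {a b} hab => ?_⟩
    · have := (hker 1).mp (h ▸ Submodule.mem_top)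
      rw [map_one] at this
      exact one_ne_zero this
    · obtain ⟨f, rfl⟩ := hθ a
      obtain ⟨g, rfl⟩ := hθ b
      rw [← map_mul, hker, map_mul, mul_eq_zero] at hab
      exact hab.imp (hker f).mpr (hker g).mpr
  haveI : IsNoetherianRing B := isNoetherianRing_of_surjective _ _ θ.toRingHom hθ
  obtain ⟨V', hV'⟩ : ∃ V' : Subalgebra B K, IsLocalization.AtPrime V' Pk :=
    ⟨Localization.subalgebra.ofField K Pk.primeCompl Pk.primeCompl_le_nonZeroDivisors,
      Localization.subalgebra.isLocalization_ofField K _ _⟩
  haveI : IsLocalRing V' := IsLocalization.AtPrime.isLocalRing V' Pk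
  haveI : IsNoetherianRing V' := IsLocalization.isNoetherianRing Pk.primeCompl _ inferInstance
  have hmax : IsLocalRing.maximalIdeal V' = Ideal.span {algebraMap B V' a0} := by
    rw [← IsLocalization.AtPrime.map_eq_maximalIdeal Pk V', Ideal.map_span, Set.image_singleton]
  have ha0 : algebraMap B V' a0 ≠ 0 := fun h => hKx (congrArg Subtype.val h)
  have hnf : ¬ IsField V' := fun h => ha0 (by
    have := IsLocalRing.isField_iff_maximalIdeal_eq.mp h
    rw [hmax, Ideal.span_singleton_eq_bot] at this
    exact this)
  haveI hdvr : IsDiscreteValuationRing V' :=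
    ((IsDiscreteValuationRing.TFAE V' hnf).out 0 4).mpr (by rw [hmax]; exact ⟨⟨_, rfl⟩⟩)
  let V : Subalgebra A K := V'.restrictScalars A
  haveI hdomV : IsDomain V := inferInstance
  haveI hdvrV : IsDiscreteValuationRing V := hdvr
  have hmem : ∀ b : B, algebraMap B V' b ∈ IsLocalRing.maximalIdeal V' ↔ b ∈ Pk := fun b =>
    IsLocalization.AtPrime.to_map_mem_maximal_iff V' Pk b
  have hBV : ∀ b : B, (b : K) ∈ V := fun b => (algebraMap B V' b).2
  let β : B →+* V := B.val.toRingHom.codRestrict V hBV
  have hβ : ∀ b : B, β b ∈ IsLocalRing.maximalIdeal V ↔ b ∈ Pk := fun b => by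
    rw [← hmem b]
    exact Iff.rfl
  have hcomap : (IsLocalRing.maximalIdeal V).comap (algebraMap A V) = m := by
    ext a
    rw [Ideal.mem_comap, show algebraMap A V a = β (algebraMap A B a) from Subtype.ext rfl]
    refine (hβ (algebraMap A B a)).trans ?_
    rw [← MvPolynomial.algHom_C θ a]
    refine (hker _).trans ?_
    rw [MvPolynomial.map_C, MvPolynomial.C_eq_zero, IsLocalRing.residue_eq_zero_iff]
  haveI : IsLocalHom (algebraMap A V) :=
    ((IsLocalRing.local_hom_TFAE (algebraMap A V)).out 0 4).mpr hcomap
  refine ⟨V, hdomV, hdvrV, inferInstance, hcomap, IsLocalRing.ResidueField.map (algebraMap A V),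
    IsLocalRing.ResidueField.map_comp_residue _, ?_⟩
  refine residue_adjoin (algebraMap A V) β θ.toRingHom hθ ?_ ?_ ?_
  · intro a
    refine Subtype.ext ?_
    change ((θ (MvPolynomial.C a) : B) : K) = algebraMap A K a
    rw [MvPolynomial.algHom_C]
    rfl
  · intro f
    exact (hβ (θ f)).trans (hker f)
  · intro v
    obtain ⟨⟨b, s⟩, hbs⟩ := IsLocalization.surj (S := ↥V') Pk.primeCompl v
    refine ⟨b, s, fun h => s.2 ((hβ _).mp h), Subtype.ext ?_⟩
    exact congrArg Subtype.val hbs

end Groth.Agent.S4947
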