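import Groth.Statements.S4951
import Mathlib

set_option autoImplicit false
set_option backward.isDefEq.respectTransparency.types false
set_option maxHeartbeats 1000000
set_option linter.all false
universe u
open EGA43

namespace Groth.Agent.S4951
open Groth.Agent

/-- Let X be a locally Noetherian topological space in which every irreducible closed subset has a
unique generic point (X quasi-sober and T₀), and Z a closed nowhere dense subset of X such that for
every point x of Z the set of generizations of x distinct from x is connected (possibly empty). If X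
is connected, then X − Z is connected. (Uniqueness of generic points, automatic for the underlying
space of a scheme, is needed: in the four-point space {u, v, z₁, z₂} whose open sets are ∅, {u},
{v}, {u, v} and the whole space, the closed nowhere dense set Z = {z₁, z₂} satisfies the hypothesis,
since z₂ is a generization of z₁ and conversely, yet X − Z = {u, v} is not connected.) -/
theorem result {X : Type u} [TopologicalSpace X]
    [QuasiSober X] [T0Space X] (hloc : ∀ x : X, ∃ U ∈ nhds x, TopologicalSpace.NoetherianSpace ↥U) [ConnectedSpace X]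
    (Z : Set X) (hZ : IsClosed Z) (hZn : IsNowhereDense Z)
    (hgen : ∀ x ∈ Z, IsPreconnected ({x' : X | x' ⤳ x} \ {x})) :
    IsConnected Zᶜ := by
    classical
    have fin : ∀ (Y : Set X), IsClosed Y → ∀ z : X, ∃ V : Set X, IsOpen V ∧ z ∈ V ∧
        ∃ S : Finset X, (∀ η ∈ S, η ∈ Y) ∧ ∀ y ∈ Y ∩ V, ∃ η ∈ S, η ⤳ y := by
      intro Y hY z
      obtain ⟨U, hU, hUn⟩ := hloc z
      obtain ⟨V, hVU, hV, hzV⟩ := mem_nhds_iff.1 hU
      haveI : TopologicalSpace.NoetherianSpace V :=
        (Topology.IsEmbedding.inclusion hVU).isInducing.noetherianSpace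
      obtain ⟨F, hFf, hFc, hFi, hFu⟩ := TopologicalSpace.NoetherianSpace.exists_finite_set_isClosed_irreducible
        (s := ((↑) : V → X) ⁻¹' Y) (hY.preimage continuous_subtype_val)
      have hirr : ∀ C : F, IsIrreducible (((↑) : V → X) '' C.1) := fun C => (hFi C.1 C.2).image _ continuous_subtype_val.continuousOn
      haveI := hFf.fintype
      refine ⟨V, hV, hzV, Finset.univ.image fun C : F => (hirr C).genericPoint, ?_, ?_⟩
      · intro η hη
        obtain ⟨C, -, rfl⟩ := Finset.mem_image.1 hη
        have h1 : (hirr C).genericPoint ∈ closure (((↑) : V → X) '' C.1) := (hirr C).isGenericPoint_genericPoint_closure.mem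
        refine closure_minimal ?_ hY h1
        rintro _ ⟨v, hv, rfl⟩
        have : v ∈ ((↑) : V → X) ⁻¹' Y := hFu ▸ Set.mem_sUnion_of_mem hv C.2
        exact this
      · rintro y ⟨hyY, hyV⟩
        have : (⟨y, hyV⟩ : V) ∈ ⋃₀ F := hFu ▸ hyY
        obtain ⟨C, hC, hyC⟩ := this
        exact ⟨_, Finset.mem_image.2 ⟨⟨C, hC⟩, Finset.mem_univ _, rfl⟩,
          (hirr ⟨C, hC⟩).isGenericPoint_genericPoint_closure.specializes (subset_closure ⟨⟨y, hyV⟩, hyC, rfl⟩)⟩
    have gen : ∀ W : Set X, IsOpen W → ∀ z ∈ closure W, ∃ η ∈ W, η ⤳ z := by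
      intro W hW z hz
      obtain ⟨V, hV, hzV, S, -, hS⟩ := fin (closure W) isClosed_closure z
      have hcl : IsClosed (⋃ η ∈ S.filter (fun η => η ∈ W), closure ({η} : Set X)) :=
        Set.Finite.isClosed_biUnion (Finset.finite_toSet _) fun _ _ => isClosed_closure
      have hsub : V ∩ W ⊆ ⋃ η ∈ S.filter (fun η => η ∈ W), closure ({η} : Set X) := by
        rintro y ⟨hyV, hyW⟩
        obtain ⟨η, hη, hηy⟩ := hS y ⟨subset_closure hyW, hyV⟩
        exact Set.mem_biUnion (Finset.mem_filter.2 ⟨hη, hηy.mem_open hW hyW⟩) (specializes_iff_mem_closure.1 hηy)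
      have := closure_minimal hsub hcl (hV.inter_closure ⟨hzV, hz⟩)
      obtain ⟨η, hη, hηz⟩ := Set.mem_iUnion₂.1 this
      exact ⟨η, (Finset.mem_filter.1 hη).2, specializes_iff_mem_closure.2 hηz⟩
    have hdense : closure Zᶜ = Set.univ := by
      have h0 : interior Z = ∅ := by rw [← hZ.closure_eq]; exact hZn
      rw [closure_compl, h0, Set.compl_empty]
    refine ⟨?_, ?_⟩
    · by_contra h
      rw [Set.not_nonempty_iff_eq_empty] at h
      rw [h, closure_empty] at hdense
      exact (Set.univ_nonempty (α := X)).ne_empty hdense.symm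
    intro U1 U2 hU1 hU2 hcov hne1 hne2
    by_contra hemp
    rw [Set.not_nonempty_iff_eq_empty] at hemp
    have hopen := hZ.isOpen_compl
    set A := Zᶜ ∩ U1 with hA
    set B := Zᶜ ∩ U2 with hB
    have hAB : ∀ x, x ∈ A → x ∈ B → False := fun x h1 h2 => by
      have : x ∈ Zᶜ ∩ (U1 ∩ U2) := ⟨h1.1, h1.2, h2.2⟩
      rw [hemp] at this; exact this
    have hcl : closure A ∪ closure B = Set.univ := by
      rw [← closure_union, ← Set.inter_union_distrib_left, Set.inter_eq_left.2 hcov, hdense]
    have hAo : IsOpen A := hopen.inter hU1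
    have hBo : IsOpen B := hopen.inter hU2
    have hmeet : (closure A ∩ closure B).Nonempty := by
      by_contra h
      rw [Set.not_nonempty_iff_eq_empty] at h
      have h' := (isPreconnected_closed_iff.1 isPreconnected_univ) _ _ isClosed_closure isClosed_closure hcl.ge
        (by rw [Set.univ_inter]; exact hne1.mono subset_closure) (by rw [Set.univ_inter]; exact hne2.mono subset_closure)
      rw [h, Set.inter_empty] at h'
      exact h'.ne_empty rfl
    obtain ⟨z0, hz0⟩ := hmeet
    obtain ⟨V, hV, hz0V, S, hSY, hS⟩ := fin _ (isClosed_closure.inter isClosed_closure) z0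
    letI : PartialOrder X := specializationOrder X
    obtain ⟨η0, hη0, hη0z⟩ := hS z0 ⟨hz0, hz0V⟩
    have hne : (S.filter fun η => η ⤳ z0).Nonempty := ⟨η0, Finset.mem_filter.2 ⟨hη0, hη0z⟩⟩
    obtain ⟨η, hη, hmax⟩ := (S.filter fun η => η ⤳ z0).exists_maximal hne
    obtain ⟨hηS, hηz⟩ := Finset.mem_filter.1 hη
    have hmin : ∀ x, x ∈ closure A → x ∈ closure B → x ⤳ η → x = η := by
      intro x hxA hxB hxη
      have hxV : x ∈ V := (hxη.trans hηz).mem_open hV hz0V
      obtain ⟨η', hη', hη'x⟩ := hS x ⟨⟨hxA, hxB⟩, hxV⟩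
      have h2 : η' ⤳ η := hη'x.trans hxη
      have h3 : η' ≤ η := hmax (Finset.mem_filter.2 ⟨hη', h2.trans hηz⟩) h2
      exact ((show η ⤳ η' from h3).trans hη'x).antisymm hxη |>.symm.eq
    obtain ⟨hηA, hηB⟩ := hSY η hηS
    have hηZ : η ∈ Z := by
      by_contra h
      rcases hcov h with h1 | h2
      · obtain ⟨b, hb, hbη⟩ := gen B hBo η hηB
        obtain ⟨a, ha1, ha2⟩ := mem_closure_iff.1 hηB A hAo ⟨h, h1⟩
        exact hAB a ha1 ha2
      · obtain ⟨a, ha1, ha2⟩ := mem_closure_iff.1 hηA B hBo ⟨h, h2⟩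
        exact hAB a ha2 ha1
    obtain ⟨a, ha, haη⟩ := gen A hAo η hηA
    obtain ⟨b, hb, hbη⟩ := gen B hBo η hηB
    have hG := (isPreconnected_closed_iff.1 (hgen η hηZ)) (closure A) (closure B) isClosed_closure isClosed_closure
      (fun x _ => hcl ▸ Set.mem_univ x)
      ⟨a, ⟨haη, fun h => ha.1 (h ▸ hηZ)⟩, subset_closure ha⟩ ⟨b, ⟨hbη, fun h => hb.1 (h ▸ hηZ)⟩, subset_closure hb⟩
    obtain ⟨x, ⟨hxη, hxne⟩, hxA, hxB⟩ := hG
    exact hxne (hmin x hxA hxB hxη)

end Groth.Agent.S4951
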