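import Groth.Statements.S4959
import Mathlib


set_option autoImplicit false
open CategoryTheory AlgebraicGeometry
universe u v w
open EGA43

namespace Groth.Agent.S4959

open CategoryTheory.Limits in
/-- Let f : X ⟶ Y be a morphism of schemes and g : Y' ⟶ Y a surjective morphism which is either proper,
or flat and quasi-compact. If the base change f' : X ×_Y Y' ⟶ Y' is universally submersive (all of
its base changes are topological quotient maps), then f is universally submersive. -/
theorem result {X Y Y' : Scheme.{u}} (f : X ⟶ Y) (g : Y' ⟶ Y) [Surjective g]
    (hg : IsProper g ∨ (Flat g ∧ QuasiCompact g))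
    (h : MorphismProperty.universally (topologically @Topology.IsQuotientMap) (pullback.snd f g)) :
    MorphismProperty.universally (topologically @Topology.IsQuotientMap) f := by
  intro X'' Y'' i₁ i₂ f'' sq
  have hq : Topology.IsQuotientMap (pullback.fst i₂ g).base := by
    rcases hg with hg | ⟨hg1, hg2⟩
    · exact (pullback.fst i₂ g).isClosedMap.isQuotientMap (pullback.fst i₂ g).continuous
        (Surjective.surj (f := pullback.fst i₂ g))
    · exact Flat.isQuotientMap_of_surjective _
  have sqA := (IsPullback.of_hasPullback f'' (pullback.fst i₂ g)).paste_horiz sq.flip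
  rw [pullback.condition (f := i₂) (g := g)] at sqA
  have sqB := sqA.of_right' (IsPullback.of_hasPullback f g)
  have h1 := h _ _ _ sqB.flip
  have h2 := hq.comp h1
  have e : (pullback.fst i₂ g).base ∘ (pullback.snd f'' (pullback.fst i₂ g)).base =
      f''.base ∘ (pullback.fst f'' (pullback.fst i₂ g)).base := by
    funext a
    exact (congrArg (fun k => k.base a) (pullback.condition (f := f'') (g := pullback.fst i₂ g))).symm
  erw [e] at h2
  exact Topology.IsQuotientMap.of_comp (by fun_prop) (by fun_prop) h2

end Groth.Agent.S4959
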