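import Groth.Statements.S4978
import Groth.Agent.Lib.H6.ProperNhd
import Groth.Agent.Lib.H6.DVRPoints
import Groth.Agent.Lib.H6.RedClosed

set_option autoImplicit false
set_option linter.all false
set_option backward.isDefEq.respectTransparency.types false
set_option maxHeartbeats 800000
open CategoryTheory AlgebraicGeometry
universe u v w
open EGA43

namespace Groth.Agent.S4978

open CategoryTheory.Limits in
/-- Let Y be a Noetherian scheme, f : X ⟶ Y a separated morphism of finite type, Z a subset of X such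
that every maximal point of the closure of Z belongs to Z, and y a point of Y. Then the closure of Z
is proper over Y at y (for some open U ∋ y, its trace on f⁻¹(U) is proper over U with the reduced
structure) if and only if: for every discrete valuation ring A' and every morphism g : Spec A' ⟶ Y
mapping the closed point to y, every point x' of X' = X ×_Y Spec A' which projects into Z, lies over
the generic point η' of Spec A' and is rational over κ(η') is in the image of some section of X' ⟶
Spec A'. -/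
theorem result {X Y : Scheme.{u}} [IsNoetherian Y] (f : X ⟶ Y) [IsSeparated f]
    [LocallyOfFiniteType f] [QuasiCompact f] (Z : Set X)
    (hZ : ∀ z ∈ closure Z, (∀ z' ∈ closure Z, z ∈ closure {z'} → z' = z) → z ∈ Z) (y : Y) :
    (∃ U : Y.Opens, y ∈ U ∧ ∃ hC : IsClosed ((f ⁻¹ᵁ U).ι.base ⁻¹' closure Z),
      IsProper ((Scheme.IdealSheafData.vanishingIdeal
        (⟨(f ⁻¹ᵁ U).ι.base ⁻¹' closure Z, hC⟩ : TopologicalSpace.Closeds ↥(f ⁻¹ᵁ U))).subschemeι ≫ (f ∣_ U))) ↔
      ∀ (A' : Type u) [CommRing A'] [IsDomain A'] [IsDiscreteValuationRing A'] (g : Spec (CommRingCat.of A') ⟶ Y),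
        g.base (IsLocalRing.closedPoint A') = y →
        ∀ x' : ↥(pullback f g), (pullback.fst f g).base x' ∈ Z →
          (pullback.snd f g).base x' = genericPoint (Spec (CommRingCat.of A')) →
          Function.Bijective ((pullback.snd f g).residueFieldMap x').hom →
          ∃ s : Spec (CommRingCat.of A') ⟶ pullback f g, s ≫ pullback.snd f g = 𝟙 _ ∧ x' ∈ Set.range s.base := by
  let C : TopologicalSpace.Closeds X := ⟨closure Z, isClosed_closure⟩
  let S := (Scheme.IdealSheafData.vanishingIdeal C).subscheme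
  let i : S ⟶ X := (Scheme.IdealSheafData.vanishingIdeal C).subschemeι
  have hi : Set.range i.base = closure Z := H6.RedClosed.range_subschemeι_vanishing C
  haveI hSred : AlgebraicGeometry.IsReduced S := H6.RedClosed.isReduced_vanishing C
  constructor
  · rintro ⟨U, hyU, hC, hP⟩ A' _ _ _ g hgy x' hxZ hxη hbij
    let L := FractionRing A'
    let al := Spec.map (CommRingCat.ofHom (algebraMap A' L))
    have hal : al (IsLocalRing.closedPoint L) = genericPoint (Spec (CommRingCat.of A')) := H6.DVRPoints.frac_apply A'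
    obtain ⟨φη, hφη⟩ := H6.DVRPoints.exists_eq_fromSpecResidueField al ((pullback.snd f g) x') (hal.trans hxη.symm)
    let r := RingEquiv.ofBijective ((pullback.snd f g).residueFieldMap x').hom hbij
    let φ : (pullback f g).residueField x' ⟶ CommRingCat.of L := CommRingCat.ofHom (φη.hom.comp r.symm.toRingHom)
    let σ : Spec (CommRingCat.of L) ⟶ pullback f g := Spec.map φ ≫ (pullback f g).fromSpecResidueField x'
    have hσx : σ (IsLocalRing.closedPoint L) = x' := by
      rw [Scheme.Hom.comp_apply, Scheme.fromSpecResidueField_apply]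
    have hσ : σ ≫ pullback.snd f g = al := by
      rw [Category.assoc, ← Scheme.Hom.SpecMap_residueFieldMap_fromSpecResidueField, ← Spec.map_comp_assoc, ← hφη]
      congr 2
      ext z
      exact congrArg φη.hom (r.symm_apply_apply z)
    have hgU : Set.range g ⊆ Set.range U.ι := by
      rw [Scheme.Opens.range_ι]
      rintro _ ⟨q, rfl⟩
      exact H6.DVRVal.mem_of_closed g (hgy.symm ▸ hyU) q
    let z := IsOpenImmersion.lift U.ι g hgU
    let p1 := σ ≫ pullback.fst f g
    have hp1f : p1 ≫ f = al ≫ g := by rw [Category.assoc, pullback.condition, reassoc_of% hσ]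
    have hp1U : Set.range p1 ⊆ Set.range (f ⁻¹ᵁ U).ι := by
      rw [Scheme.Opens.range_ι]
      rintro _ ⟨q, rfl⟩
      show f (p1 q) ∈ U
      rw [← Scheme.Hom.comp_apply, hp1f, Scheme.Hom.comp_apply]
      exact H6.DVRVal.mem_of_closed g (hgy.symm ▸ hyU) _
    let j0 := IsOpenImmersion.lift (f ⁻¹ᵁ U).ι p1 hp1U
    let T : TopologicalSpace.Closeds ((f ⁻¹ᵁ U : X.Opens) : Scheme.{u}) := ⟨(f ⁻¹ᵁ U).ι.base ⁻¹' closure Z, hC⟩
    haveI : UniversallyClosed ((Scheme.IdealSheafData.vanishingIdeal T).subschemeι ≫ (f ∣_ U)) := hP.toUniversallyClosed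
    obtain ⟨l, hl1, hl2⟩ := H6.DVRPoints.exists_lift_closed T (f ∣_ U) A' j0 (by
        show (f ⁻¹ᵁ U).ι (j0 (IsLocalRing.closedPoint L)) ∈ closure Z
        rw [← Scheme.Hom.comp_apply, IsOpenImmersion.lift_fac, Scheme.Hom.comp_apply, hσx]
        exact subset_closure hxZ) z (by
        rw [← cancel_mono U.ι, Category.assoc, morphismRestrict_ι, IsOpenImmersion.lift_fac_assoc]
        exact hp1f.trans (by rw [Category.assoc, IsOpenImmersion.lift_fac]))
    let l' := l ≫ (f ⁻¹ᵁ U).ι
    have hl' : l' ≫ f = g := by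
      rw [Category.assoc, ← morphismRestrict_ι, ← Category.assoc, hl2, IsOpenImmersion.lift_fac]
    let s : Spec (CommRingCat.of A') ⟶ pullback f g := pullback.lift l' (𝟙 _) (by rw [hl', Category.id_comp])
    have hs : al ≫ s = σ := by
      apply pullback.hom_ext
      · rw [Category.assoc, pullback.lift_fst]
        rw [reassoc_of% hl1, IsOpenImmersion.lift_fac]
      · rw [Category.assoc, pullback.lift_snd, Category.comp_id, hσ]
    exact ⟨s, pullback.lift_snd _ _ _, al (IsLocalRing.closedPoint L), by rw [← Scheme.Hom.comp_apply, hs, hσx]⟩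
  intro H
  obtain ⟨U, hyU, hU⟩ := H6.ProperNhd.exists_isProper_nhd (i ≫ f) y fun ξ hmax V hV g hgy hg => by
    let L := FractionRing V
    let al := Spec.map (CommRingCat.ofHom (algebraMap V L))
    let e := (FractionRing.algEquiv V (S.residueField ξ)).toRingEquiv
    have he : CommRingCat.ofHom (algebraMap V L) ≫ CommRingCat.ofHom e.toRingHom = CommRingCat.ofHom V.subtype := by
      ext s
      exact (FractionRing.algEquiv V (S.residueField ξ)).commutes s
    have he' : CommRingCat.ofHom V.subtype ≫ CommRingCat.ofHom e.symm.toRingHom = CommRingCat.ofHom (algebraMap V L) := by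
      ext s
      exact (FractionRing.algEquiv V (S.residueField ξ)).symm.commutes s
    have hiZ : i ξ ∈ Z := by
      have hmem : i ξ ∈ closure Z := hi ▸ ⟨ξ, rfl⟩
      refine hZ _ hmem fun z' hz' hzz => ?_
      obtain ⟨η, rfl⟩ : z' ∈ Set.range i.base := hi.symm ▸ hz'
      have hs : i η ⤳ i ξ := specializes_iff_mem_closure.2 hzz
      exact congrArg i (hmax η (i.isClosedEmbedding.isInducing.specializes_iff.1 hs))
    let σ : Spec (CommRingCat.of L) ⟶ pullback f g :=
      pullback.lift (Spec.map (CommRingCat.ofHom e.symm.toRingHom) ≫ S.fromSpecResidueField ξ ≫ i) al (by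
        rw [Category.assoc, Category.assoc, ← hg, ← Spec.map_comp_assoc, he'])
    let x' := σ (IsLocalRing.closedPoint L)
    have hσ : σ ≫ pullback.snd f g = al := pullback.lift_snd _ _ _
    haveI : IsPreimmersion (σ ≫ pullback.snd f g) := by rw [hσ]; infer_instance
    have hbij := H6.DVRPoints.bijective_of_section (pullback.snd f g) σ x' rfl
    have hfst : (pullback.fst f g) x' = i ξ := by
      rw [← Scheme.Hom.comp_apply, pullback.lift_fst, Scheme.Hom.comp_apply, Scheme.Hom.comp_apply, Scheme.fromSpecResidueField_apply]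
    have hsnd : (pullback.snd f g) x' = genericPoint (Spec (CommRingCat.of V)) := by
      rw [← Scheme.Hom.comp_apply, hσ]
      exact H6.DVRPoints.frac_apply V
    obtain ⟨s, hs, q, hq⟩ := H V g hgy x' (hfst ▸ hiZ) hsnd hbij
    have hq' : q = genericPoint (Spec (CommRingCat.of V)) := by
      rw [← hsnd, ← hq, ← Scheme.Hom.comp_apply, hs]
      rfl
    have hsσ : al ≫ s = σ := by
      refine H6.DVRPoints.hom_ext_of_bijective (pullback.snd f g) _ _ ?_ (by rw [Category.assoc, hs, Category.comp_id, hσ]) hbij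
      rw [Scheme.Hom.comp_apply, H6.DVRPoints.frac_apply, ← hq', hq]
    obtain ⟨l, hl⟩ := H6.RedClosed.exists_lift (s ≫ pullback.fst f g) i (by
      rw [hi]
      rintro _ ⟨p, rfl⟩
      rw [Scheme.Hom.comp_apply]
      have hsp : x' ⤳ s p := hq ▸ Specializes.map (hq' ▸ (genericPoint_spec (Spec (CommRingCat.of V))).specializes trivial) s.continuous
      exact (hsp.map (pullback.fst f g).continuous).mem_closed isClosed_closure (hfst ▸ subset_closure hiZ))
    refine ⟨l, by rw [reassoc_of% hl, pullback.condition, reassoc_of% hs], ?_⟩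
    rw [← cancel_mono i, Category.assoc, hl, ← he, Spec.map_comp, Category.assoc]
    rw [reassoc_of% hsσ, pullback.lift_fst, ← Spec.map_comp_assoc,
      show CommRingCat.ofHom e.symm.toRingHom ≫ CommRingCat.ofHom e.toRingHom = 𝟙 _ from by ext s; exact e.apply_symm_apply s]
    simp
  refine ⟨U, hyU, isClosed_closure.preimage (f ⁻¹ᵁ U).ι.continuous, ?_⟩
  let T : TopologicalSpace.Closeds ((f ⁻¹ᵁ U : X.Opens) : Scheme.{u}) := ⟨(f ⁻¹ᵁ U).ι.base ⁻¹' closure Z, isClosed_closure.preimage (f ⁻¹ᵁ U).ι.continuous⟩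
  let iT := (Scheme.IdealSheafData.vanishingIdeal T).subschemeι
  let i' := i ∣_ (f ⁻¹ᵁ U)
  haveI : IsClosedImmersion i' := IsZariskiLocalAtTarget.restrict (inferInstance : IsClosedImmersion i) _
  haveI : AlgebraicGeometry.IsReduced (Scheme.IdealSheafData.vanishingIdeal T).subscheme := H6.RedClosed.isReduced_vanishing T
  haveI : AlgebraicGeometry.IsReduced ((i ⁻¹ᵁ (f ⁻¹ᵁ U) : S.Opens) : Scheme.{u}) := isReduced_of_isOpenImmersion (i ⁻¹ᵁ (f ⁻¹ᵁ U)).ι
  have hiT : Set.range iT = (f ⁻¹ᵁ U).ι.base ⁻¹' closure Z := H6.RedClosed.range_subschemeι_vanishing T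
  obtain ⟨a, ha⟩ := H6.RedClosed.exists_lift iT i' (by
    rintro _ ⟨p, rfl⟩
    have hp : (f ⁻¹ᵁ U).ι (iT p) ∈ Set.range i.base := hi.symm ▸ (hiT.subset ⟨p, rfl⟩)
    obtain ⟨η, hη⟩ := hp
    refine ⟨⟨η, show i η ∈ f ⁻¹ᵁ U from (hη ▸ (iT p).2)⟩, (f ⁻¹ᵁ U).ι.isOpenEmbedding.injective ?_⟩
    rw [← Scheme.Hom.comp_apply, morphismRestrict_ι, Scheme.Hom.comp_apply]
    exact hη)
  obtain ⟨b, hb⟩ := H6.RedClosed.exists_lift i' iT (by
    rw [hiT]
    rintro _ ⟨p, rfl⟩
    show (f ⁻¹ᵁ U).ι (i' p) ∈ closure Z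
    rw [← Scheme.Hom.comp_apply, morphismRestrict_ι, Scheme.Hom.comp_apply, ← hi]
    exact ⟨_, rfl⟩)
  haveI : IsIso a := ⟨b, by rw [← cancel_mono iT, Category.assoc, hb, ha, Category.id_comp],
    by rw [← cancel_mono i', Category.assoc, ha, hb, Category.id_comp]⟩
  show IsProper (iT ≫ (f ∣_ U))
  rw [← ha, Category.assoc, MorphismProperty.cancel_left_of_respectsIso @IsProper, ← morphismRestrict_comp]
  exact hU

end Groth.Agent.S4978
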