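import Groth.Statements.S4996
import Mathlib
import Groth.Prelude.Def_Found
import Groth.Prelude.Def_CAlgX
import Groth.Agent.Lib.H2GeomRegBase
import Groth.Agent.Lib.H2AdicFSLocal

set_option autoImplicit false
universe u
open Unram17

namespace Groth.Agent.S4996
open TensorProduct IsLocalRing
open Groth.Agent.H2GeomRegMore Groth.Agent.H2GeomRegBase
set_option backward.isDefEq.respectTransparency.types false
set_option synthInstance.maxHeartbeats 400000
set_option synthInstance.maxSize 1024
set_option maxHeartbeats 1000000

open TensorProduct in
/-- Let B be a finitely presented algebra over a commutative ring A. Then B is smooth over A if and only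
if B is flat over A and every fibre ring κ(p) ⊗_A B, p a prime of A, is geometrically regular over
the residue field κ(p), i.e. stays a regular ring after base change to any finite extension of κ(p). -/
theorem result (A B : Type u) [CommRing A] [CommRing B]
    [Algebra A B] [Algebra.FinitePresentation A B] :
    Algebra.Smooth A B ↔
      Module.Flat A B ∧ ∀ (p : Ideal A) [p.IsPrime], CAlg.IsGeometricallyRegular p.ResidueField (p.Fiber B) := by
  have hN : ∀ (p : Ideal A) [p.IsPrime], IsNoetherianRing (p.Fiber B) := fun p _ =>
    Algebra.FiniteType.isNoetherianRing p.ResidueField _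
  constructor
  · intro h
    haveI := h
    refine ⟨inferInstance, fun p _ => ?_⟩
    haveI := hN p
    refine geomReg_iff_forall.2 fun Q _ => ?_
    haveI : Algebra.FormallySmooth (p.Fiber B) (Localization.AtPrime Q) := Algebra.FormallySmooth.of_isLocalization Q.primeCompl
    haveI : Algebra.FormallySmooth p.ResidueField (Localization.AtPrime Q) := Algebra.FormallySmooth.comp p.ResidueField (p.Fiber B) _
    exact adicFS_of_formallySmooth _
  · rintro ⟨hfl, hgr⟩
    haveI := hfl
    refine Algebra.Smooth.of_formallySmooth_fiber fun p _ => ?_
    haveI := hN p
    haveI : Algebra.FinitePresentation p.ResidueField (p.Fiber B) := Algebra.FinitePresentation.of_finiteType.1 inferInstance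
    refine Algebra.smoothLocus_eq_univ_iff.mp (Set.eq_univ_iff_forall.mpr fun Q => ?_)
    haveI : Algebra.EssFiniteType (p.Fiber B) (Localization.AtPrime Q.asIdeal) := Algebra.EssFiniteType.of_isLocalization _ Q.asIdeal.primeCompl
    haveI : Algebra.EssFiniteType p.ResidueField (Localization.AtPrime Q.asIdeal) := Algebra.EssFiniteType.comp p.ResidueField (p.Fiber B) _
    exact Groth.Agent.H2AdicFSLocal.formallySmooth_of_adic p.ResidueField _ (adicFS_of_geomReg (hgr p) Q.asIdeal)

end Groth.Agent.S4996
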