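import Groth.Statements.S4998
import Mathlib
import Groth.Agent.S1970

set_option autoImplicit false
universe u
open Unram17

namespace Groth.Agent.S4998
open Polynomial

/-- Let A be an algebra of finite type over a field k. Then A is formally unramified over k if and only
if A is finite over k and every element of A has separable minimal polynomial over k (equivalently,
A is a finite product of finite separable extensions of k). -/
theorem result (k A : Type u) [Field k] [CommRing A]
    [Algebra k A] [Algebra.FiniteType k A] :
    Algebra.FormallyUnramified k A ↔ Module.Finite k A ∧ Algebra.IsSeparable k A := by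
  constructor
  · intro h
    haveI : Module.Finite k A := Algebra.FormallyUnramified.finite_of_free k A
    haveI : Algebra.FinitePresentation k A := Algebra.FinitePresentation.of_finiteType.1 inferInstance
    haveI : Algebra.Etale k A := Algebra.Etale.of_formallyUnramified_of_flat
    refine ⟨inferInstance, ⟨fun x => ?_⟩⟩
    obtain ⟨P, hP, h0⟩ := Groth.Agent.S1970.exists_separable_root (K := k) x
    exact hP.of_dvd (minpoly.dvd k x h0)
  · rintro ⟨_, hsep⟩
    refine ⟨?_⟩
    rw [← Submodule.subsingleton_iff (R := A), ← subsingleton_iff_bot_eq_top, eq_comm, eq_bot_iff, ← KaehlerDifferential.span_range_derivation k A, Submodule.span_le]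
    rintro _ ⟨x, rfl⟩
    have hs : (minpoly k x).Separable := Algebra.IsSeparable.isSeparable k x
    obtain ⟨a, b, hab⟩ := hs
    have h2 : aeval x b * aeval x (derivative (minpoly k x)) = 1 := by
      have := congrArg (aeval x) hab
      simpa using this
    have h3 : aeval x (derivative (minpoly k x)) • KaehlerDifferential.D k A x = 0 := by
      rw [← Derivation.map_aeval, minpoly.aeval, map_zero]
    show KaehlerDifferential.D k A x ∈ (⊥ : Submodule A _)
    rw [Submodule.mem_bot, ← one_smul A (KaehlerDifferential.D k A x), ← h2, mul_smul, h3, smul_zero]

end Groth.Agent.S4998
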