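import Groth.Statements.S5006
import Mathlib

set_option autoImplicit false
universe u
open Nrm16

namespace Groth.Agent.S5006

/-- Let A be a commutative ring, I a finitely generated ideal and p a prime ideal containing I. Then
some basic open neighbourhood of p in Spec A is contained in the closed set V(I) (so that V(I) ⟶
Spec A is a local homeomorphism onto an open set near p) if and only if there is an integer n > 0
with I^n A_p = I^(n+1) A_p in the local ring at p. Affine form. -/
theorem result (A : Type u) [CommRing A] (I : Ideal A) (hI : I.FG)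
    (p : Ideal A) [p.IsPrime] (hp : I ≤ p) :
    (∃ f : A, f ∉ p ∧ ∀ q : Ideal A, q.IsPrime → f ∉ q → I ≤ q) ↔
      ∃ n : ℕ, 0 < n ∧
        (I ^ n).map (algebraMap A (Localization.AtPrime p)) =
          (I ^ (n + 1)).map (algebraMap A (Localization.AtPrime p)) := by
  set φ := algebraMap A (Localization.AtPrime p) with hφ
  constructor
  · rintro ⟨f, hf, hq⟩
    have hle : I * Ideal.span {f} ≤ (⊥ : Ideal A).radical := by
      refine Ideal.mul_le.mpr fun i hi g hg => ?_
      obtain ⟨c, rfl⟩ := Ideal.mem_span_singleton'.mp hg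
      rw [Ideal.radical_eq_sInf, Ideal.mem_sInf]
      rintro q ⟨-, hqp⟩
      by_cases hfq : f ∈ q
      · exact Ideal.mul_mem_left _ _ (Ideal.mul_mem_left _ _ hfq)
      · exact Ideal.mul_mem_right _ _ (hq q hqp hfq hi)
    obtain ⟨n, hn⟩ := Ideal.exists_pow_le_of_le_radical_of_fg hle (hI.mul ⟨{f}, by simp⟩)
    refine ⟨n + 1, Nat.succ_pos _, ?_⟩
    have hz : ∀ m, n ≤ m → (I ^ m).map φ = ⊥ := by
      intro m hm
      rw [Ideal.map_eq_bot_iff_le_ker]
      intro x hx
      have h1 : x * f ^ m ∈ (I * Ideal.span {f}) ^ m := by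
        rw [mul_pow, Ideal.span_singleton_pow]
        exact Ideal.mul_mem_mul hx (Ideal.mem_span_singleton_self _)
      have h2 : x * f ^ m = 0 := by simpa using ((Ideal.pow_le_pow_right hm).trans hn) h1
      rw [RingHom.mem_ker]
      exact (IsLocalization.map_eq_zero_iff p.primeCompl _ _).mpr
        ⟨⟨f ^ m, fun h => hf (Ideal.IsPrime.mem_of_pow_mem inferInstance _ h)⟩, by simpa [mul_comm] using h2⟩
    rw [hz _ (by omega), hz _ (by omega)]
  · rintro ⟨n, hn, he⟩
    have hz : (I ^ n).map φ = ⊥ := by
      refine Submodule.eq_bot_of_le_smul_of_le_jacobson_bot (I.map φ) _ ((hI.pow).map φ) ?_ ?_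
      · conv_lhs => rw [he, pow_succ', Ideal.map_mul]
        exact le_rfl
      · rw [IsLocalRing.jacobson_eq_maximalIdeal ⊥ bot_ne_top, hφ, Ideal.map_le_iff_le_comap,
          Localization.AtPrime.under_maximalIdeal (I := p) |> (fun h => show Ideal.comap (algebraMap A (Localization.AtPrime p)) _ = p from h)]
        exact hp
    obtain ⟨s, hs⟩ := (hI.pow (n := n))
    have hex : ∀ x ∈ s, ∃ c : p.primeCompl, (c : A) * x = 0 := fun x hx => by
      apply (IsLocalization.map_eq_zero_iff p.primeCompl (Localization.AtPrime p) x).mp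
      have : φ x ∈ (I ^ n).map φ := Ideal.mem_map_of_mem φ (hs ▸ Ideal.subset_span hx)
      simpa [hz] using this
    choose c hc using hex
    classical
    refine ⟨↑(∏ x ∈ s.attach, c x.1 x.2), (∏ x ∈ s.attach, c x.1 x.2).2, fun q hq hfq i hi => ?_⟩
    have hann : ∀ y ∈ I ^ n, ↑(∏ x ∈ s.attach, c x.1 x.2) * y = 0 := by
      rw [← hs]
      intro y hy
      induction hy using Submodule.span_induction with
      | mem y hy =>
        rw [← Finset.mul_prod_erase _ _ (Finset.mem_attach s ⟨y, hy⟩), Submonoid.coe_mul,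
          mul_right_comm, hc y hy, zero_mul]
      | zero => simp
      | add a b _ _ ha hb => rw [mul_add, ha, hb, add_zero]
      | smul r a _ ha => rw [smul_eq_mul, mul_left_comm, ha, mul_zero]
    have : ↑(∏ x ∈ s.attach, c x.1 x.2) * i ^ n ∈ q := by
      rw [hann _ (Ideal.pow_mem_pow hi n)]; exact q.zero_mem
    exact hq.mem_of_pow_mem n ((hq.mem_or_mem this).resolve_left hfq)

end Groth.Agent.S5006
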