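import Groth.Statements.S5010
import Mathlib
import Groth.Agent.Lib.H4PP16


set_option autoImplicit false
universe u
open PP16

namespace Groth.Agent.S5010

/-- Let k be a field and K the field of fractions of the polynomial ring k[T_1, ..., T_r]. For every n,
the K-algebra map from the polynomial ring K[U_1, ..., U_r] to the ring of principal parts of order
n of K over k (a K-algebra through the first factor) that sends U_i to d^n(T_i) − T_i · 1 is
surjective, and its kernel is the (n+1)-st power of the ideal generated by the U_i. -/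
theorem result (k : Type u) [Field k] (r n : ℕ) :
    Function.Surjective
        (MvPolynomial.aeval (R := FractionRing (MvPolynomial (Fin r) k))
          (S₁ := PP16.P n k (FractionRing (MvPolynomial (Fin r) k)))
          (fun i : Fin r =>
            PP16.dn n k (FractionRing (MvPolynomial (Fin r) k))
                (algebraMap (MvPolynomial (Fin r) k) (FractionRing (MvPolynomial (Fin r) k)) (MvPolynomial.X i)) -
              algebraMap (FractionRing (MvPolynomial (Fin r) k)) (PP16.P n k (FractionRing (MvPolynomial (Fin r) k)))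
                (algebraMap (MvPolynomial (Fin r) k) (FractionRing (MvPolynomial (Fin r) k)) (MvPolynomial.X i)))) ∧
      RingHom.ker
          (MvPolynomial.aeval (R := FractionRing (MvPolynomial (Fin r) k))
            (S₁ := PP16.P n k (FractionRing (MvPolynomial (Fin r) k)))
            (fun i : Fin r =>
              PP16.dn n k (FractionRing (MvPolynomial (Fin r) k))
                  (algebraMap (MvPolynomial (Fin r) k) (FractionRing (MvPolynomial (Fin r) k)) (MvPolynomial.X i)) -
                algebraMap (FractionRing (MvPolynomial (Fin r) k)) (PP16.P n k (FractionRing (MvPolynomial (Fin r) k)))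
                  (algebraMap (MvPolynomial (Fin r) k) (FractionRing (MvPolynomial (Fin r) k)) (MvPolynomial.X i)))).toRingHom =
        (Ideal.span (Set.range (MvPolynomial.X : Fin r → MvPolynomial (Fin r) (FractionRing (MvPolynomial (Fin r) k))))) ^ (n + 1) := by
  let B := MvPolynomial (Fin r) k
  let K := FractionRing B
  let J : Ideal (MvPolynomial (Fin r) K) := Ideal.span (Set.range MvPolynomial.X)
  let z : Fin r → K := fun i => algebraMap B K (MvPolynomial.X i)
  let T : B →ₐ[k] (MvPolynomial (Fin r) K ⧸ J ^ (n + 1)) := MvPolynomial.aeval fun i => Ideal.Quotient.mk _ (MvPolynomial.C (z i) + MvPolynomial.X i)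
  let N : Ideal (MvPolynomial (Fin r) K ⧸ J ^ (n + 1)) := J.map (Ideal.Quotient.mk _)
  have hN : N ^ (n + 1) = ⊥ := H4PP16.map_mk_pow J (n + 1)
  have hT0 : (Ideal.Quotient.mkₐ k N).comp T =
      ((Ideal.Quotient.mkₐ k N).comp (IsScalarTower.toAlgHom k K (MvPolynomial (Fin r) K ⧸ J ^ (n + 1)))).comp (IsScalarTower.toAlgHom k B K) :=
    MvPolynomial.algHom_ext fun i => by
      change Ideal.Quotient.mk N (T (MvPolynomial.X i)) = Ideal.Quotient.mk N (Ideal.Quotient.mk _ (MvPolynomial.C (z i)))
      rw [show T (MvPolynomial.X i) = _ from MvPolynomial.aeval_X _ i, Ideal.Quotient.eq, ← map_sub, add_sub_cancel_left]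
      exact Ideal.mem_map_of_mem _ (Ideal.subset_span ⟨i, rfl⟩)
  have hTmem : ∀ b, T b - algebraMap K (MvPolynomial (Fin r) K ⧸ J ^ (n + 1)) (algebraMap B K b) ∈ N := fun b =>
    Ideal.Quotient.eq.1 (AlgHom.congr_fun hT0 b)
  have hunit : ∀ y : nonZeroDivisors B, IsUnit (T y) := fun y => by
    have hu : IsUnit (algebraMap K (MvPolynomial (Fin r) K ⧸ J ^ (n + 1)) (algebraMap B K y)) := (IsLocalization.map_units K y).map _
    have hnil : IsNilpotent (T y - algebraMap K (MvPolynomial (Fin r) K ⧸ J ^ (n + 1)) (algebraMap B K y)) := ⟨n + 1, by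
      have := Ideal.pow_mem_pow (hTmem y) (n + 1)
      rwa [hN] at this⟩
    exact H4PP16.isUnit_of_sub_nilpotent (R := MvPolynomial (Fin r) K ⧸ J ^ (n + 1)) hu hnil
  let τ : K →ₐ[k] (MvPolynomial (Fin r) K ⧸ J ^ (n + 1)) := IsLocalization.liftAlgHom (A := k) (M := nonZeroDivisors B) (S := K) (P := MvPolynomial (Fin r) K ⧸ J ^ (n + 1)) (f := T) hunit
  have hτB : ∀ b, τ (algebraMap B K b) = T b := fun b => by simp [τ]
  have hτ0 : (Ideal.Quotient.mk N).comp τ.toRingHom = (Ideal.Quotient.mk N).comp (algebraMap K (MvPolynomial (Fin r) K ⧸ J ^ (n + 1))) :=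
    IsLocalization.ringHom_ext (nonZeroDivisors B) (RingHom.ext fun b => by
      simp only [RingHom.comp_apply, AlgHom.toRingHom_eq_coe, RingHom.coe_coe, hτB]
      exact Ideal.Quotient.eq.2 (hTmem b))
  obtain ⟨e, -, he⟩ := H4PP16.exists_coord n k K z τ
    (fun b => Ideal.Quotient.eq.1 (RingHom.congr_fun hτ0 b))
    (fun i => by rw [hτB]; exact MvPolynomial.aeval_X _ i)
    (fun f g h => IsLocalization.algHom_ext (nonZeroDivisors B) (MvPolynomial.algHom_ext h))
  refine ⟨fun y => ?_, ?_⟩
  · obtain ⟨p, hp⟩ := Ideal.Quotient.mk_surjective (e y)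
    exact ⟨p, by rw [← he p, hp, AlgEquiv.symm_apply_apply]⟩
  · ext p
    rw [RingHom.mem_ker, AlgHom.toRingHom_eq_coe, RingHom.coe_coe, ← he p, map_eq_zero_iff _ e.symm.injective,
      Ideal.Quotient.eq_zero_iff_mem]

end Groth.Agent.S5010
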