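import Groth.Statements.S5034
import Mathlib
import Groth.Agent.Lib.H4HenselApps


set_option autoImplicit false
universe u
open Hensel

namespace Groth.Agent.S5034

/-- a') implies a): let R be a local ring such that for every monic polynomial F over R the quotient
ring R[T]/(F) is isomorphic, as a ring, to a finite product of local rings. Then R is henselian. -/
theorem result (R : Type u) [CommRing R] [IsLocalRing R]
    (h : ∀ F : Polynomial R, F.Monic →
      ∃ (ι : Type u) (_ : Fintype ι) (A : ι → Type u) (_ : ∀ i, CommRing (A i)),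
        (∀ i, IsLocalRing (A i)) ∧ Nonempty (AdjoinRoot F ≃+* (∀ i, A i))) :
    HenselianLocalRing R := by
  have H : HenselianRing R (IsLocalRing.maximalIdeal R) := by
    refine H4HenselPair.of_idempotents_monogenic _
      (IsLocalRing.jacobson_eq_maximalIdeal ⊥ bot_ne_top).ge fun P hP => ?_
    obtain ⟨ι, _, A, _, hA, ⟨φ⟩⟩ := h P hP
    have := hP.finite_adjoinRoot
    exact H4HenselPair.idempotents_bijOn_of_pi_local (AdjoinRoot P) A φ
  exact ⟨fun f hf a₀ h1 h2 => H.is_henselian f hf a₀ h1 (h2.map _)⟩

end Groth.Agent.S5034
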