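import Mathlib
import Groth.Statements.S5050
-- import your own Groth.Agent.* helpers here

set_option autoImplicit false
universe u v
open CInt

namespace Groth.Agent.S5050

/-- Let A be a Noetherian ring, N a finitely generated A-module, E and F submodules of N and Q an ideal
of A. For every natural number k there is h > 0 with E ⊓ (F ⊔ Q^h N) ≤ (E ⊓ F) ⊔ Q^k N. -/
theorem result {A : Type u} [CommRing A] [IsNoetherianRing A] {N : Type v} [AddCommGroup N]
    [Module A N] [Module.Finite A N] (E F : Submodule A N) (Q : Ideal A) (k : ℕ) :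
    ∃ h : ℕ, 0 < h ∧ E ⊓ (F ⊔ Q ^ h • (⊤ : Submodule A N)) ≤ (E ⊓ F) ⊔ Q ^ k • (⊤ : Submodule A N) := by
  let π : N →ₗ[A] N ⧸ F := F.mkQ
  obtain ⟨c, hc⟩ := Q.exists_pow_inf_eq_pow_smul (Submodule.map π E)
  refine ⟨c + k + 1, by omega, ?_⟩
  rintro e ⟨heE, heFQ⟩
  obtain ⟨f, hf, q, hq, rfl⟩ := Submodule.mem_sup.1 heFQ
  have h1 : π (f + q) ∈ Q ^ (c + k + 1) • (⊤ : Submodule A (N ⧸ F)) ⊓ Submodule.map π E := by
    refine ⟨?_, Submodule.mem_map_of_mem heE⟩
    have : π q ∈ Submodule.map π (Q ^ (c + k + 1) • (⊤ : Submodule A N)) := Submodule.mem_map_of_mem hq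
    rw [Submodule.map_smul''] at this
    have hle : Submodule.map π (⊤ : Submodule A N) ≤ ⊤ := le_top
    rw [map_add, show π f = 0 from (Submodule.Quotient.mk_eq_zero F).2 hf, zero_add]
    exact Submodule.smul_mono le_rfl hle this
  rw [hc _ (by omega)] at h1
  have h2 : π (f + q) ∈ Submodule.map π (Q ^ (c + k + 1 - c) • E) := by
    rw [Submodule.map_smul'']
    exact Submodule.smul_mono le_rfl inf_le_right h1
  obtain ⟨e', he', hee⟩ := h2
  have hk : Q ^ (c + k + 1 - c) ≤ Q ^ k := Ideal.pow_le_pow_right (by omega)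
  refine Submodule.mem_sup.2 ⟨f + q - e', ⟨E.sub_mem heE (Submodule.smul_le_right he'), ?_⟩, e', Submodule.smul_mono hk le_top he', by abel⟩
  exact (Submodule.Quotient.eq F).1 hee.symm

end Groth.Agent.S5050
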