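import Groth.Statements.S5066
import Mathlib
import Groth.Agent.Lib.H4HenselSections


set_option autoImplicit false
universe u
open Hensel

namespace Groth.Agent.S5066

/-- Case of a local ring, affine étale schemes: a local ring A with maximal ideal m is henselian if and
only if, for every finite A-algebra C and every étale A-algebra E, composing with the projection C →
C/mC is a bijection from the set of A-algebra homomorphisms E → C onto the set of A-algebra
homomorphisms E → C/mC. -/
theorem result (A : Type u) [CommRing A] [IsLocalRing A] :
    HenselianLocalRing A ↔
      ∀ (C : Type u) [CommRing C] [Algebra A C] [Module.Finite A C] (E : Type u) [CommRing E] [Algebra A E] [Algebra.Etale A E],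
        Function.Bijective (fun φ : E →ₐ[A] C =>
          (Ideal.Quotient.mkₐ A (Ideal.map (algebraMap A C) (IsLocalRing.maximalIdeal A))).comp φ) := by
  constructor
  · intro _ C _ _ _ E _ _ _
    have := H4HenselPair.henselianRing_of_isIntegral (IsLocalRing.maximalIdeal A) C
    exact H4HenselPair.algHom_bijective_of_etale C _ E
  · intro h
    refine H4HenselPair.henselianLocalRing_of_henselianRing ?_
    have H := H4HenselPair.of_etale_lift ((IsLocalRing.maximalIdeal A).map (algebraMap A A))
      fun A' _ _ _ σ => (h A A').surjective σ
    simpa using H

end Groth.Agent.S5066
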