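import Groth.Statements.S5067
import Mathlib

set_option autoImplicit false
open CategoryTheory AlgebraicGeometry
universe u
open Unram

namespace Groth.Agent.S5067
open CategoryTheory.Limits

/-- Let f : X ⟶ Y be an étale separated morphism of integral schemes which maps the generic point of X
to the generic point of Y and induces a bijection between the residue fields of the generic points
(f is birational). Then f is an open immersion. -/
theorem result {X Y : Scheme.{u}} [IsIntegral X] [IsIntegral Y]
    (f : X ⟶ Y) [Etale f] [IsSeparated f] (hgen : f.base (genericPoint X) = genericPoint Y)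
    (hbir : Function.Bijective (f.residueFieldMap (genericPoint X)).hom) : IsOpenImmersion f := by
  have hoi : IsOpenImmersion (pullback.diagonal f) := inferInstance
  have hci : IsClosedImmersion (pullback.diagonal f) := inferInstance
  set η := genericPoint Y
  set ξ := genericPoint X
  have hgen' : f ξ = η := hgen
  have hlqf : LocallyQuasiFinite f := by
    rw [HasRingHomProperty.iff_appLE (P := @LocallyQuasiFinite)]
    intro U V e
    have h1 : (f.appLE U V e).hom.FormallyUnramified :=
      HasRingHomProperty.appLE (P := @FormallyUnramified) f inferInstance U V e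
    have h2 : (f.appLE U V e).hom.FiniteType :=
      HasRingHomProperty.appLE (P := @LocallyOfFiniteType) f inferInstance U V e
    algebraize [(f.appLE U V e).hom]
    exact ⟨fun P _ => Algebra.FormallyUnramified.finite_of_free _ _⟩
  have honly : ∀ x : X, f x = η → x = ξ := by
    intro x hx
    have hsp : ξ ⤳ x := (genericPoint_spec X).specializes (by trivial)
    have hd := Scheme.Hom.isDiscrete_preimage_singleton f η
    have := hd.eq_of_specializes hsp (show ξ ∈ f ⁻¹' {η} from hgen') (show x ∈ f ⁻¹' {η} from hx)
    exact this.symm
  have hsurj : Surjective (pullback.diagonal f) := by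
    refine ⟨fun w => ?_⟩
    by_contra hw
    let U : Set ↥(pullback f f) := (Set.range (pullback.diagonal f).base)ᶜ
    have hU : IsOpen U := (pullback.diagonal f).isClosedEmbedding.isClosed_range.isOpen_compl
    have hopen : IsOpen ((pullback.fst f f ≫ f).base '' U) := (pullback.fst f f ≫ f).isOpenMap _ hU
    obtain ⟨v, hvU, hv⟩ := ((genericPoint_spec Y).mem_open_set_iff hopen).2
      (by rw [Set.univ_inter]; exact Set.Nonempty.image _ ⟨w, show w ∈ U from hw⟩)
    have hv1 : f (pullback.fst f f v) = η := hv
    have hv2 : f (pullback.snd f f v) = η := by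
      rw [← hv1, ← Scheme.Hom.comp_apply, ← Scheme.Hom.comp_apply, pullback.condition]
    let d := pullback.diagonal f ξ
    obtain ⟨⟨T, p⟩, hT⟩ : ∃ a, a = Scheme.Pullback.carrierEquiv v := ⟨_, rfl⟩
    obtain ⟨⟨T', p'⟩, hT'⟩ : ∃ a, a = Scheme.Pullback.carrierEquiv d := ⟨_, rfl⟩
    have hv' : v = Scheme.Pullback.carrierEquiv.symm ⟨T, p⟩ := by rw [hT, Equiv.symm_apply_apply]
    have hd' : d = Scheme.Pullback.carrierEquiv.symm ⟨T', p'⟩ := by rw [hT', Equiv.symm_apply_apply]
    have hTT : T = T' := by
      apply Scheme.Pullback.Triplet.ext
      · rw [← Scheme.Pullback.carrierEquiv_symm_fst T p, ← hv', ← Scheme.Pullback.carrierEquiv_symm_fst T' p',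
          ← hd', honly _ hv1]
        simp only [d, ← Scheme.Hom.comp_apply, pullback.diagonal_fst, Scheme.Hom.id_base]; rfl
      · rw [← Scheme.Pullback.carrierEquiv_symm_snd T p, ← hv', ← Scheme.Pullback.carrierEquiv_symm_snd T' p',
          ← hd', honly _ hv2]
        simp only [d, ← Scheme.Hom.comp_apply, pullback.diagonal_snd, Scheme.Hom.id_base]; rfl
    subst hTT
    have hTx : T.x = ξ := by
      rw [← Scheme.Pullback.carrierEquiv_symm_fst T p, ← hv', honly _ hv1]
    have hiso : IsIso (f.residueFieldMap T.x) := by
      rw [hTx]; exact (ConcreteCategory.isIso_iff_bijective _).2 hbir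
    have : IsIso T.tensorInr := by
      unfold Scheme.Pullback.Triplet.tensorInr Scheme.Pullback.Triplet.tensor; infer_instance
    have : Subsingleton (Spec T.tensor) :=
      (Scheme.homeoOfIso (asIso (Spec.map T.tensorInr))).injective.subsingleton
    apply hvU
    exact ⟨ξ, by rw [hv']; change d = _; rw [hd', Subsingleton.elim p p']⟩
  have : IsIso (pullback.diagonal f) := IsOpenImmersion.isIso (pullback.diagonal f)
  have : Mono f := pullback.isIso_diagonal_iff f |>.1 this
  exact IsOpenImmersion.of_flat_of_mono f

end Groth.Agent.S5067
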