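import Groth.Statements.S5069
import Mathlib


set_option autoImplicit false
universe u v
open Hensel

namespace Groth.Agent.S5069

/-- First assertion, phrased for the images of the inductive system: let B be a Noetherian commutative
ring and (C_i) a family of Artinian subrings of B, directed under inclusion, whose union is B. Then
B is an Artinian ring. -/
theorem result (B : Type u) [CommRing B] [IsNoetherianRing B]
    {ι : Type v} [Nonempty ι] (C : ι → Subring B) (hdir : Directed (fun a b => a ≤ b) C)
    (hart : ∀ i, IsArtinianRing ↥(C i)) (hcov : ∀ b : B, ∃ i, b ∈ C i) : IsArtinianRing B := by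
  haveI : Ring.KrullDimLE 0 B := Ring.KrullDimLE.mk₀ fun P hP => by
    refine Ideal.Quotient.maximal_of_isField _ ⟨⟨0, 1, zero_ne_one⟩, mul_comm, fun {x} hx => ?_⟩
    obtain ⟨b, rfl⟩ := Ideal.Quotient.mk_surjective x
    obtain ⟨i, hi⟩ := hcov b
    haveI := hart i
    let Q : Ideal (C i) := P.comap (C i).subtype
    haveI : Q.IsPrime := Ideal.IsPrime.comap _
    haveI hQ : Q.IsMaximal := IsArtinianRing.isMaximal_of_isPrime Q
    obtain ⟨c, z, hz, e⟩ := hQ.exists_inv (x := (⟨b, hi⟩ : C i)) (fun hc => hx (Ideal.Quotient.eq_zero_iff_mem.2 hc))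
    refine ⟨Ideal.Quotient.mk P (c : B), ?_⟩
    rw [← map_mul, ← map_one (Ideal.Quotient.mk P), Ideal.Quotient.eq]
    have e' : (c : B) * b + (z : B) = 1 := congrArg Subtype.val e
    rw [show b * (c : B) - 1 = -(z : B) by linear_combination e']
    exact P.neg_mem hz
  exact isArtinianRing_iff_isNoetherianRing_krullDimLE_zero.2 ⟨inferInstance, inferInstance⟩

end Groth.Agent.S5069
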