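import Groth.Statements.S5073
import Mathlib

set_option autoImplicit false
universe u
open EGA418

namespace Groth.Agent.S5073

/-- Let A be a Noetherian local ring, p a prime ideal and x an element of A. Then there is an element x'
of A whose image in A_p equals that of x and which belongs to no minimal prime ideal of A not
contained in p. -/
theorem result (A : Type u) [CommRing A] [IsNoetherianRing A] [IsLocalRing A]
    (p : Ideal A) [p.IsPrime] (x : A) :
    ∃ x' : A, algebraMap A (Localization.AtPrime p) x' = algebraMap A (Localization.AtPrime p) x ∧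
      ∀ q ∈ minimalPrimes A, ¬ q ≤ p → x' ∉ q := by
  classical
  have hfin := minimalPrimes.finite_of_isNoetherianRing A
  let S := hfin.toFinset.filter (fun q => ¬ q ≤ p ∧ x ∈ q)
  have hsep : ∀ q ∈ minimalPrimes A, ¬ q ≤ p → ∃ y : A, algebraMap A (Localization.AtPrime p) y = 0 ∧ y ∉ q ∧
      ∀ q' ∈ minimalPrimes A, q' ≠ q → y ∈ q' := by
    intro q hq hqp
    obtain ⟨s, hsq, hsp⟩ := SetLike.not_le_iff_exists.1 hqp
    have hU : ¬ (⋃ i : Unit, (q : Set A)) = Set.univ := by
      simp [Set.eq_univ_iff_forall]; exact ⟨1, hq.1.1.ne_top ∘ (Ideal.eq_top_iff_one q).2⟩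
    obtain ⟨u, hu, n, hn⟩ : ∃ u ∉ q, ∃ n : ℕ, (s * u) ^ n = 0 := by
      have : s ∈ ⋃ p ∈ (⊥ : Ideal A).minimalPrimes, (p : Set A) := Set.mem_biUnion hq hsq
      haveI := hq.1.1
      have hz : IsNilpotent (algebraMap A (Localization.AtPrime q) s) := by
        have : algebraMap A (Localization.AtPrime q) s ∈ IsLocalRing.maximalIdeal (Localization.AtPrime q) :=
          (IsLocalization.AtPrime.to_map_mem_maximal_iff _ q s).2 hsq
        have hs := IsLocalization.subsingleton_primeSpectrum_of_mem_minimalPrimes q hq (Localization.AtPrime q)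
        have h2 : algebraMap A (Localization.AtPrime q) s ∈ nilradical (Localization.AtPrime q) := by
          rw [nilradical_eq_sInf, Submodule.mem_sInf]
          intro P hP
          have e := congrArg PrimeSpectrum.asIdeal (Subsingleton.elim (⟨P, hP⟩ : PrimeSpectrum (Localization.AtPrime q)) ⟨_, (IsLocalRing.maximalIdeal.isMaximal _).isPrime⟩)
          rw [show P = IsLocalRing.maximalIdeal (Localization.AtPrime q) from e]; exact this
        exact h2
      obtain ⟨n, hn⟩ := hz
      rw [← map_pow, IsLocalization.map_eq_zero_iff q.primeCompl] at hn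
      obtain ⟨⟨u, hu⟩, hus⟩ := hn
      refine ⟨u, hu, n + 1, ?_⟩
      rw [mul_pow, pow_succ u, pow_succ' s]
      linear_combination (s * u ^ n) * hus
    have hothers : ∀ q' ∈ minimalPrimes A, q' ≠ q → ∃ z ∈ q', z ∉ q := fun q' hq' hne =>
      SetLike.not_le_iff_exists.1 fun h => hne (le_antisymm h (hq.2 ⟨hq'.1.1, bot_le⟩ h))
    choose z hz hzq using hothers
    refine ⟨u ^ n * ∏ q' ∈ (hfin.toFinset.erase q).attach, z q'.1 (hfin.mem_toFinset.1 (Finset.mem_of_mem_erase q'.2)) (Finset.ne_of_mem_erase q'.2), ?_, ?_, ?_⟩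
    · rw [map_mul, (IsLocalization.map_eq_zero_iff p.primeCompl _ _).2 ⟨⟨s ^ n, fun h => hsp (‹p.IsPrime›.mem_of_pow_mem n h)⟩, by rw [← mul_pow]; exact hn⟩, zero_mul]
    · refine fun h => (hq.1.1.mem_or_mem h).elim (fun h => hu (hq.1.1.mem_of_pow_mem n h)) fun h => ?_
      haveI := hq.1.1
      obtain ⟨q', -, h'⟩ := Ideal.IsPrime.prod_mem_iff.1 h
      exact hzq _ _ _ h'
    · intro q' hq' hne
      exact q'.mul_mem_left _ (q'.prod_mem (Finset.mem_attach _ ⟨q', Finset.mem_erase.2 ⟨hne, hfin.mem_toFinset.2 hq'⟩⟩) (hz q' hq' hne))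
  choose y hy0 hyq hy' using hsep
  refine ⟨x + ∑ q ∈ S.attach, y q.1 (hfin.mem_toFinset.1 (Finset.mem_filter.1 q.2).1) (Finset.mem_filter.1 q.2).2.1, ?_, ?_⟩
  · simp [map_sum, hy0]
  · intro q hq hqp hmem
    by_cases hxq : x ∈ q
    · have hqS : q ∈ S := Finset.mem_filter.2 ⟨hfin.mem_toFinset.2 hq, hqp, hxq⟩
      rw [← Finset.add_sum_erase _ _ (Finset.mem_attach S ⟨q, hqS⟩), ← add_assoc] at hmem
      refine hyq q hq hqp ?_
      have h1 : ∑ i ∈ S.attach.erase ⟨q, hqS⟩, y i.1 (hfin.mem_toFinset.1 (Finset.mem_filter.1 i.2).1) (Finset.mem_filter.1 i.2).2.1 ∈ q :=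
        q.sum_mem fun i hi => hy' _ _ _ q hq fun e => (Finset.mem_erase.1 hi).1 (Subtype.ext e.symm)
      simpa using (q.add_mem_iff_right hxq).1 ((q.add_mem_iff_left h1).1 hmem)
    · refine hxq ((q.add_mem_iff_left (q.sum_mem fun i _ => hy' _ _ _ q hq fun e => hxq ?_)).1 hmem)
      rw [e]; exact (Finset.mem_filter.1 i.2).2.2

end Groth.Agent.S5073
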