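import Groth.Statements.S5078
import Mathlib


set_option autoImplicit false
universe u v
open Hensel

namespace Groth.Agent.S5078

/-- Let A be a ring, I an ideal such that A is I-adically separated and complete, and M a finitely
generated projective A-module. Then M is I-adically separated and complete. -/
theorem result {A : Type u} [CommRing A] (I : Ideal A) [IsAdicComplete I A]
    (M : Type v) [AddCommGroup M] [Module A M] [Module.Finite A M] [Module.Projective A M] :
    IsAdicComplete I M := by
  obtain ⟨n, p, hp⟩ := Module.Finite.exists_fin' A M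
  obtain ⟨i, hi⟩ := Module.projective_lifting_property p LinearMap.id hp
  have hi' : ∀ m, p (i m) = m := fun m => LinearMap.congr_fun hi m
  have hcoord : ∀ (k : ℕ) (j : Fin n) {m : M}, m ∈ (I ^ k • ⊤ : Submodule A M) → i m j ∈ (I ^ k • ⊤ : Submodule A A) := fun k j m hm => by
    have := Submodule.mem_map_of_mem (f := (LinearMap.proj j).comp i) hm
    rw [Submodule.map_smul''] at this
    exact Submodule.smul_mono le_rfl le_top this
  haveI : IsHausdorff I M := ⟨fun m hm => by
    rw [← hi' m, show i m = 0 from funext fun j => IsHausdorff.haus (inferInstanceAs (IsHausdorff I A)) _ fun k => SModEq.zero.2 (hcoord k j (SModEq.zero.1 (hm k))), map_zero]⟩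
  haveI : IsPrecomplete I M := ⟨fun f hf => by
    have hL : ∀ j, ∃ L : A, ∀ k, i (f k) j ≡ L [SMOD (I ^ k • ⊤ : Submodule A A)] := fun j =>
      IsPrecomplete.prec (inferInstanceAs (IsPrecomplete I A)) fun {a b} hab => SModEq.sub_mem.2 (by
        rw [← Pi.sub_apply, ← map_sub]; exact hcoord a j (SModEq.sub_mem.1 (hf hab)))
    choose L hL using hL
    refine ⟨p L, fun k => SModEq.sub_mem.2 ?_⟩
    rw [← hi' (f k), ← map_sub, pi_eq_sum_univ' (i (f k) - L), map_sum]
    refine Submodule.sum_mem _ fun j _ => ?_
    rw [map_smul]
    refine Submodule.smul_mem_smul ?_ trivial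
    have := SModEq.sub_mem.1 (hL j k)
    simpa using this⟩
  exact { }

end Groth.Agent.S5078
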