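import Groth.Statements.S5094
import Groth.Agent.Lib.H6.BirationalNormal

set_option autoImplicit false
set_option linter.all false
set_option backward.isDefEq.respectTransparency.types false
universe u
open CategoryTheory CategoryTheory.Limits AlgebraicGeometry TopologicalSpace
open Lim8

namespace Groth.Agent.S5094

/-- Let X and Y be integral schemes and f : X → Y a separated morphism, locally of finite type and
birational (f sends the generic point of X to the generic point of Y and its stalk map there, the
induced homomorphism of function fields, is an isomorphism). Let y be a normal point of Y (the local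
ring O_{Y,y} is integrally closed) and suppose that some point of the fibre f⁻¹(y) is isolated in
that fibre. Then y has an open neighbourhood U such that the restriction f⁻¹(U) → U of f is an
isomorphism. -/
theorem result {X Y : Scheme.{u}} [IsIntegral X]
    [IsIntegral Y] (f : X ⟶ Y) [IsSeparated f] [LocallyOfFiniteType f]
    (hgen : f (genericPoint X) = genericPoint Y) (hbir : IsIso (f.stalkMap (genericPoint X)))
    (y : ↥Y) (hy : IsIntegrallyClosed ↑(Y.presheaf.stalk y))
    (x : ↥(f.fiber y)) (hx : IsOpen ({x} : Set ↥(f.fiber y))) :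
    ∃ U : Y.Opens, y ∈ U ∧ IsIso (f ∣_ U) := by
  obtain ⟨O, hO⟩ : ∃ O : X.Opens, (f.fiberι y) ⁻¹' (O : Set X) = {x} := by
    obtain ⟨O, hO, e⟩ := (f.fiberι y).isEmbedding.isInducing.isOpen_iff.1 hx
    exact ⟨⟨O, hO⟩, e⟩
  have hfx : f (f.fiberι y x) = y := by
    have := congrArg (fun k => k x) (pullback.condition (f := f) (g := Y.fromSpecResidueField y))
    simp only [Scheme.Hom.comp_apply, Scheme.fromSpecResidueField_apply] at this
    exact this
  obtain ⟨U, hxU, hU⟩ := H6.BirationalNormal.exists_isIso_nhd f hgen hbir (f.fiberι y x) (hfx.symm ▸ hy) O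
    (show x ∈ (f.fiberι y) ⁻¹' (O : Set X) from hO ▸ rfl) (fun x' hx'O hx' => by
      obtain ⟨z, rfl⟩ : x' ∈ Set.range (f.fiberι y) := by rw [f.range_fiberι]; exact hx'.trans hfx
      have : z ∈ (f.fiberι y) ⁻¹' (O : Set X) := hx'O
      rw [hO] at this
      exact congrArg _ this)
  exact ⟨U, hfx ▸ hxU, hU⟩

end Groth.Agent.S5094
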