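import Groth.Statements.S5104
import Groth.Agent.Lib.H6.SchDense
import Mathlib

set_option autoImplicit false
set_option linter.all false
set_option backward.isDefEq.respectTransparency.types false
universe u
open CategoryTheory CategoryTheory.Limits AlgebraicGeometry TopologicalSpace
open Rat20

namespace Groth.Agent.S5104

/-- Let X be an S-scheme which is locally Noetherian, or reduced with locally finite set of irreducible
components; let Y be separated and locally of finite presentation over S, U a schematically dense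
open subset of X, h : U → Y an S-morphism (a pseudo-S-morphism ω of X into Y) and x a point of X.
Then ω is defined at x — some S-morphism from an open neighbourhood V of x to Y agrees with h on U ∩
V — if and only if the restriction of ω to Spec O_{X,x} is everywhere defined — some S-morphism Spec
O_{X,x} → Y agrees with h after pulling back to Spec O_{X,x} ×_X U. (The published statement does
not assume Y separated over S and compares morphisms only on some schematically dense open; this row
assumes Y separated over S, where the two readings agree.) -/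
theorem result {X Y S : Scheme.{u}} (pX : X ⟶ S) (pY : Y ⟶ S)
    [IsSeparated pY] [LocallyOfFinitePresentation pY]
    (hX : IsLocallyNoetherian X ∨ (IsReduced X ∧ ∀ x : ↥X, ∃ W : X.Opens, x ∈ W ∧
      {Z : Set ↥X | Z ∈ irreducibleComponents ↥X ∧ (Z ∩ (W : Set ↥X)).Nonempty}.Finite))
    (U : X.Opens) (hU : CInt.IsSchematicallyDense U) (h : (U : Scheme.{u}) ⟶ Y) (hh : h ≫ pY = U.ι ≫ pX)
    (x : ↥X) :
    (∃ (V : X.Opens) (v : (V : Scheme.{u}) ⟶ Y), x ∈ V ∧ v ≫ pY = V.ι ≫ pX ∧
        X.homOfLE (inf_le_right : U ⊓ V ≤ V) ≫ v = X.homOfLE (inf_le_left : U ⊓ V ≤ U) ≫ h) ↔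
      ∃ w : Spec (X.presheaf.stalk x) ⟶ Y, w ≫ pY = X.fromSpecStalk x ≫ pX ∧
        pullback.fst (X.fromSpecStalk x) U.ι ≫ w = pullback.snd (X.fromSpecStalk x) U.ι ≫ h := by
  have hgi : X.IsGermInjective := by
    rcases hX with h | ⟨hr, hfin⟩
    · infer_instance
    intro z
    obtain ⟨W, hzW, hW⟩ := hfin z
    obtain ⟨V, hV, hzV, hVW⟩ := exists_isAffineOpen_mem_and_subset (X := X) (x := z) hzW
    haveI : _root_.IsReduced Γ(X, V) := IsReduced.component_reduced V
    let S : Set (Ideal Γ(X, V)) := minimalPrimes Γ(X, V)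
    have hmin : S.Finite := by
      have key : ∀ q ∈ S, ∃ y : V, (hV.primeIdealOf y).asIdeal = q ∧
          closure {(y : X)} ∈ {Z : Set X | Z ∈ irreducibleComponents X ∧ (Z ∩ (W : Set X)).Nonempty} := by
        intro q hq
        let qq : PrimeSpectrum Γ(X, V) := ⟨q, hq.1.1⟩
        have hy : hV.fromSpec qq ∈ V := hV.range_fromSpec.le ⟨qq, rfl⟩
        have he : hV.primeIdealOf ⟨_, hy⟩ = qq := hV.fromSpec.isOpenEmbedding.injective (hV.fromSpec_primeIdealOf ⟨_, hy⟩)
        refine ⟨⟨_, hy⟩, congrArg PrimeSpectrum.asIdeal he, ?_, hV.fromSpec qq, subset_closure rfl, hVW hy⟩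
        obtain ⟨Z, hZ, hZy⟩ := exists_mem_irreducibleComponents_subset_of_isIrreducible _ (isIrreducible_singleton.closure : IsIrreducible (closure {hV.fromSpec qq}))
        have hgp := (hZ.1).isGenericPoint_genericPoint (isClosed_of_mem_irreducibleComponents _ hZ)
        have hs : (hZ.1).genericPoint ⤳ hV.fromSpec qq := hgp.specializes (hZy (subset_closure rfl))
        obtain ⟨pp, hpp⟩ : (hZ.1).genericPoint ∈ Set.range hV.fromSpec := hV.range_fromSpec.ge (hs.mem_open V.isOpen hy)
        have hle : pp.asIdeal ≤ q := (PrimeSpectrum.le_iff_specializes pp qq).2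
          (hV.fromSpec.isOpenEmbedding.isInducing.specializes_iff.1 (hpp.symm ▸ hs))
        have hpq : pp = qq := PrimeSpectrum.ext (le_antisymm hle (hq.2 ⟨pp.2, bot_le⟩ hle))
        subst hpq
        show closure {hV.fromSpec _} ∈ _
        rw [hpp]
        exact (IsGenericPoint.def hgp).symm ▸ hZ
      choose y hy1 hy2 using key
      haveI := hW.to_subtype
      let F : S → {Z : Set X | Z ∈ irreducibleComponents X ∧ (Z ∩ (W : Set X)).Nonempty} := fun q => ⟨_, hy2 q.1 q.2⟩
      have hF : Function.Injective F := fun q q' h => Subtype.ext (by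
        have h' : closure {(y q.1 q.2 : X)} = closure {(y q'.1 q'.2 : X)} := congrArg Subtype.val h
        have hgq : IsGenericPoint (y q'.1 q'.2 : X) (closure {(y q.1 q.2 : X)}) := h'.symm
        have := (isGenericPoint_closure (x := (y q.1 q.2 : X))).eq hgq
        rw [← hy1 q.1 q.2, ← hy1 q'.1 q'.2, Subtype.ext this])
      haveI := Finite.of_injective F hF
      exact Set.toFinite S
    obtain ⟨pz, rfl⟩ : z ∈ Set.range hV.fromSpec := hV.range_fromSpec.ge hzV
    refine isGermInjectiveAt_iff_of_isOpenImmersion.2 (Scheme.IsGermInjective.Spec (fun I hI => ?_) pz)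
    classical
    have hex : ∀ q ∈ S, ∃ g : Γ(X, V), g ∉ I ∧ (¬ q ≤ I → g ∈ q) := by
      intro q hq
      by_cases h : q ≤ I
      · exact ⟨1, fun h1 => hI.ne_top ((Ideal.eq_top_iff_one _).2 h1), fun h' => absurd h h'⟩
      · obtain ⟨g, hg, hgI⟩ := SetLike.not_le_iff_exists.1 h
        exact ⟨g, hgI, fun _ => hg⟩
    choose g hg1 hg2 using hex
    refine ⟨∏ q ∈ hmin.toFinset.attach, g q.1 (hmin.mem_toFinset.1 q.2), ?_, fun a b hab hb => ⟨1, ?_⟩⟩
    · intro hmem
      obtain ⟨q, -, hq⟩ := (hI.prod_mem_iff).1 hmem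
      exact hg1 _ _ hq
    · rw [pow_one]
      refine IsNilpotent.eq_zero ?_
      rw [← mem_nilradical, nilradical_eq_sInf]
      refine Submodule.mem_sInf.2 fun p hp => ?_
      haveI : Ideal.IsPrime (p : Ideal Γ(X, V)) := hp
      obtain ⟨q, hq, hqp⟩ := Ideal.exists_minimalPrimes_le (I := ⊥) (J := p) bot_le
      refine hqp ?_
      by_cases hqI : q ≤ I
      · exact q.mul_mem_left _ ((hq.1.1.mem_or_mem (hab ▸ q.zero_mem)).resolve_left fun h => hb (hqI h))
      · exact q.mul_mem_right _ (q.mem_of_dvd (Finset.dvd_prod_of_mem _ (Finset.mem_attach _ ⟨q, hmin.mem_toFinset.2 hq⟩)) (hg2 q hq hqI))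
  constructor
  · rintro ⟨V, v, hxV, hv, hagree⟩
    refine ⟨V.fromSpecStalkOfMem x hxV ≫ v, ?_, ?_⟩
    · rw [Category.assoc, hv, ← Category.assoc, Scheme.Opens.fromSpecStalkOfMem_ι]
    · have hc : (pullback.fst (X.fromSpecStalk x) U.ι ≫ V.fromSpecStalkOfMem x hxV) ≫ V.ι =
          pullback.snd (X.fromSpecStalk x) U.ι ≫ U.ι := by
        rw [Category.assoc, Scheme.Opens.fromSpecStalkOfMem_ι, pullback.condition]
      obtain ⟨l, hl1, hl2⟩ : ∃ l : pullback (X.fromSpecStalk x) U.ι ⟶ ((U ⊓ V : X.Opens) : Scheme.{u}),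
          l ≫ X.homOfLE (inf_le_right : U ⊓ V ≤ V) = pullback.fst (X.fromSpecStalk x) U.ι ≫ V.fromSpecStalkOfMem x hxV ∧
          l ≫ X.homOfLE (inf_le_left : U ⊓ V ≤ U) = pullback.snd (X.fromSpecStalk x) U.ι := by
        have hrange : Set.range (pullback.snd (X.fromSpecStalk x) U.ι ≫ U.ι) ⊆ Set.range (U ⊓ V).ι := by
          rintro _ ⟨p, rfl⟩
          rw [Scheme.Opens.range_ι]
          refine ⟨?_, ?_⟩
          · exact (pullback.snd (X.fromSpecStalk x) U.ι p).2
          · rw [← hc]
            exact ((pullback.fst (X.fromSpecStalk x) U.ι ≫ V.fromSpecStalkOfMem x hxV) p).2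
        refine ⟨IsOpenImmersion.lift (U ⊓ V).ι _ hrange, ?_, ?_⟩
        · rw [← cancel_mono V.ι, Category.assoc, X.homOfLE_ι, IsOpenImmersion.lift_fac, hc]
        · rw [← cancel_mono U.ι, Category.assoc, X.homOfLE_ι, IsOpenImmersion.lift_fac]
      rw [← Category.assoc, ← hl1, Category.assoc, hagree, ← Category.assoc, hl2]
  · rintro ⟨w, hw, hagree⟩
    obtain ⟨V₀, hxV₀, v₀, hwv, hv₀⟩ := spread_out_of_isGermInjective' pX pY w hw
    obtain ⟨V, hxV, hV, hVle, hinj⟩ := X.exists_le_and_germ_injective x V₀ hxV₀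
    refine ⟨V, X.homOfLE hVle ≫ v₀, hxV, by rw [Category.assoc, hv₀, ← Category.assoc, X.homOfLE_ι], ?_⟩
    let g0 := V.fromSpecStalkOfMem x hxV
    haveI : IsAffine V := hV
    have hg0 : g0 = Spec.map (X.presheaf.germ V x hxV) ≫ hV.isoSpec.inv := by
      rw [Iso.eq_comp_inv, hV.isoSpec_hom, Scheme.Opens.fromSpecStalkOfMem_toSpecΓ]
    haveI : IsSchemeTheoreticallyDominant g0 := by
      haveI : IsSchemeTheoreticallyDominant (Spec.map (X.presheaf.germ V x hxV)) := by
        rw [isSchemeTheoreticallyDominant_iff]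
        refine Scheme.IdealSheafData.ext_of_isAffine ?_
        rw [Scheme.Hom.ker_apply, Scheme.IdealSheafData.ideal_bot, Pi.bot_apply, RingHom.ker_eq_bot_iff_eq_zero]
        intro a ha
        have h1 := congrArg (fun k => k.hom a) (Scheme.ΓSpecIso_naturality (X.presheaf.germ V x hxV))
        have ha' : (Spec.map (X.presheaf.germ V x hxV)).appTop.hom a = 0 := ha
        simp only [CommRingCat.hom_comp, RingHom.comp_apply, ha', map_zero] at h1
        have h2 := hinj (h1.symm.trans (map_zero _).symm)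
        exact (ConcreteCategory.bijective_of_isIso (Scheme.ΓSpecIso Γ(X, V)).hom).1 (h2.trans (map_zero _).symm)
      rw [hg0]; infer_instance
    haveI : QuasiCompact g0 := by rw [hg0]; infer_instance
    let j := X.homOfLE (inf_le_right : U ⊓ V ≤ V)
    haveI : IsSchemeTheoreticallyDominant (pullback.snd g0 j) :=
      IsSchemeTheoreticallyDominant.of_isPullback (IsPullback.of_hasPullback g0 j)
    refine H6.SchDense.ext_of_schDominant pY ?_ (pullback.snd g0 j) ?_
    · simp only [Category.assoc, hv₀, hh]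
      rw [← Category.assoc (X.homOfLE hVle), X.homOfLE_ι, ← Category.assoc, ← Category.assoc, X.homOfLE_ι, X.homOfLE_ι]
    · have hc : pullback.fst g0 j ≫ X.fromSpecStalk x =
          (pullback.snd g0 j ≫ X.homOfLE (inf_le_left : U ⊓ V ≤ U)) ≫ U.ι := by
        rw [Category.assoc, X.homOfLE_ι, ← X.homOfLE_ι (inf_le_right : U ⊓ V ≤ V), ← Category.assoc, ← pullback.condition,
          Category.assoc, Scheme.Opens.fromSpecStalkOfMem_ι]
      have h1 := congrArg (pullback.lift _ _ hc ≫ ·) hagree
      simp only [pullback.lift_fst_assoc, pullback.lift_snd_assoc] at h1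
      have hgv : g0 ≫ X.homOfLE hVle ≫ v₀ = w := by
        rw [hwv, ← Category.assoc]
        congr 1
        rw [← cancel_mono V₀.ι, Category.assoc, X.homOfLE_ι, Scheme.Opens.fromSpecStalkOfMem_ι, Scheme.Opens.fromSpecStalkOfMem_ι]
      rw [← Category.assoc, ← pullback.condition, Category.assoc, hgv, h1, Category.assoc]

end Groth.Agent.S5104
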