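import Groth.Statements.S5120
import Mathlib

set_option autoImplicit false
universe u
open SGA1t

namespace Groth.Agent.S5120
open Polynomial

open Polynomial in
/-- The computation behind the exactness of the Artin-Schreier sequence 0 → Z/p → G_a → G_a → 0 in
characteristic p, i.e. faithful flatness of ℘ = id − F: Let p be a prime and A a ring of
characteristic p. Then A[t] is free of rank p over itself via the endomorphism t ↦ t − t^p, with
basis 1, t, …, t^{p−1}: every polynomial q can be written in exactly one way as Σ_{i<p} c_i(t − t^p)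
t^i. -/
theorem result (p : ℕ) [Fact p.Prime] (A : Type u) [CommRing A] [CharP A p]
    (q : A[X]) :
    ∃! c : Fin p → A[X], q = ∑ i : Fin p, aeval (X - X ^ p : A[X]) (c i) * X ^ (i : ℕ) := by
  nontriviality A
  have hp : 2 ≤ p := (Fact.out : p.Prime).two_le
  set h : A[X] := X - X ^ p with hh
  have hmon : (-h).Monic := by rw [hh, neg_sub]; exact monic_X_pow_sub (by rw [degree_X]; exact_mod_cast hp)
  have hdeg : (-h).natDegree = p := by
    rw [hh, neg_sub]; exact natDegree_sub_eq_left_of_natDegree_lt (by simp; omega) |>.trans (by simp)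
  have expand : ∀ (c : Fin p → A[X]), ∑ i : Fin p, aeval h (c i) * X ^ (i : ℕ) =
      (∑ i : Fin p, C ((c i).coeff 0) * X ^ (i : ℕ)) + (-h) * (-∑ i : Fin p, aeval h (c i).divX * X ^ (i : ℕ)) := by
    intro c
    rw [neg_mul_neg, Finset.mul_sum, ← Finset.sum_add_distrib]
    refine Finset.sum_congr rfl fun i _ => ?_
    conv_lhs => rw [← divX_mul_X_add (c i)]
    simp only [map_add, map_mul, aeval_X, aeval_C, Polynomial.algebraMap_eq]
    ring
  have hr : ∀ b : Fin p → A, (∑ i : Fin p, C (b i) * X ^ (i : ℕ)).degree < (-h).degree := fun b => by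
    rw [degree_eq_natDegree hmon.ne_zero, hdeg]
    exact degree_sum_fin_lt b
  have ex : ∀ n (q : A[X]), q.natDegree ≤ n → ∃ c : Fin p → A[X], q = ∑ i : Fin p, aeval h (c i) * X ^ (i : ℕ) := by
    intro n
    induction n using Nat.strong_induction_on with
    | _ n IH =>
      intro q hq
      by_cases hlt : q.natDegree < p
      · refine ⟨fun i => C (q.coeff i), ?_⟩
        simp only [aeval_C, Polynomial.algebraMap_eq]
        rw [Fin.sum_univ_eq_sum_range (fun i => C (q.coeff i) * X ^ i)]
        exact q.as_sum_range_C_mul_X_pow' hlt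
      · have h1 : (q /ₘ (-h)).natDegree < n := by rw [natDegree_divByMonic q hmon, hdeg]; omega
        obtain ⟨c, hc⟩ := IH _ h1 (-(q /ₘ (-h))) (by rw [natDegree_neg])
        have h2 : (q %ₘ (-h)).natDegree < p := hdeg ▸ natDegree_modByMonic_lt q hmon (fun e => by
          have := congrArg natDegree e; rw [hdeg] at this; simp at this; omega)
        refine ⟨fun i => C ((q %ₘ (-h)).coeff i) + X * c i, ?_⟩
        simp only [map_add, map_mul, aeval_C, aeval_X, Polynomial.algebraMap_eq, add_mul, mul_assoc, Finset.sum_add_distrib,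
          ← Finset.mul_sum, ← hc]
        rw [Fin.sum_univ_eq_sum_range (fun i => C ((q %ₘ (-h)).coeff i) * X ^ i), ← as_sum_range_C_mul_X_pow' _ h2]
        conv_lhs => rw [← modByMonic_add_div q (-h)]
        ring
  have un : ∀ n (c : Fin p → A[X]), (∀ i, (c i).natDegree < n) → ∑ i : Fin p, aeval h (c i) * X ^ (i : ℕ) = 0 → c = 0 := by
    intro n
    induction n with
    | zero => intro c hc; exact absurd (hc ⟨0, by omega⟩) (Nat.not_lt_zero _)
    | succ n IH =>
      intro c hc h0
      rw [expand] at h0
      obtain ⟨e1, e2⟩ := div_modByMonic_unique (-∑ i : Fin p, aeval h (c i).divX * X ^ (i : ℕ))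
        (∑ i : Fin p, C ((c i).coeff 0) * X ^ (i : ℕ)) hmon ⟨h0, hr _⟩
      rw [zero_divByMonic] at e1
      rw [zero_modByMonic] at e2
      have hc0 : ∀ i, (c i).coeff 0 = 0 := fun i => by
        have := congrArg (fun q => coeff q (i : ℕ)) e2.symm
        simpa [finsetSum_coeff, coeff_C_mul, coeff_X_pow, Fin.val_inj] using this
      have hd : (fun i => (c i).divX) = 0 := by
        by_cases hn : n = 0
        · funext i
          have := hc i
          exact divX_eq_zero_iff.2 (eq_C_of_natDegree_eq_zero (by omega))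
        refine IH _ (fun i => ?_) (neg_eq_zero.1 e1.symm)
        have := hc i
        rw [natDegree_divX_eq_natDegree_tsub_one]; omega
      funext i
      rw [← divX_mul_X_add (c i), congrFun hd i, hc0]
      simp
  obtain ⟨c, hc⟩ := ex _ q le_rfl
  refine ⟨c, hc, fun c' hc' => sub_eq_zero.1 (un ((∑ i, ((c' - c) i).natDegree) + 1) (c' - c) (fun i =>
    Nat.lt_succ_of_le (Finset.single_le_sum (f := fun i => ((c' - c) i).natDegree) (fun _ _ => Nat.zero_le _) (Finset.mem_univ i))) ?_)⟩
  simp only [Pi.sub_apply, map_sub, sub_mul, Finset.sum_sub_distrib, ← hc, ← hc', sub_self]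

end Groth.Agent.S5120
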