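import Groth.Statements.S5132


set_option autoImplicit false
open CategoryTheory AlgebraicGeometry
universe u
open SGA1

namespace Groth.Agent.S5132

/-- Quasi-compactness of a morphism descends along a surjective and quasi-compact base change; flatness
of the base change is not needed for this property. -/
theorem result :
    MorphismProperty.DescendsAlong @QuasiCompact (@Surjective ⊓ @QuasiCompact : MorphismProperty Scheme.{u}) := by
  constructor
  intro A X Y Z fst snd f g h hf hfst
  obtain ⟨hs, hq⟩ := hf
  haveI : QuasiCompact (snd ≫ g) := by
    rw [← h.w]
    exact MorphismProperty.comp_mem @QuasiCompact _ _ hfst hq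
  haveI : Surjective snd := MorphismProperty.of_isPullback (P := @Surjective) h hs
  constructor
  intro U hU hU'
  have := ((snd ≫ g).isCompact_preimage (U := ⟨U, hU⟩) hU').image snd.continuous
  convert this
  show g ⁻¹' U = snd '' (snd ⁻¹' (g ⁻¹' U))
  rw [Set.image_preimage_eq _ snd.surjective]

end Groth.Agent.S5132
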