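import Groth.Statements.S5135
import Mathlib

set_option autoImplicit false
set_option backward.isDefEq.respectTransparency.types false
set_option maxHeartbeats 1000000
set_option linter.all false
universe u
open scoped TensorProduct
open SGA1

namespace Groth.Agent.S5135
open Groth.Agent

/-- The affine case, in submodule form (descent of submodules, equivalently of quotient modules): for A
⟶ A' faithfully flat, M an A-module and N' an A'-submodule of A' ⊗ M whose two extensions to (A' ⊗
A') ⊗ M, along a ↦ a ⊗ 1 and a ↦ 1 ⊗ a, generate the same submodule, N' is the base change of the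
submodule of M formed by the elements m with 1 ⊗ m in N'. -/
theorem result (A A' : Type u) [CommRing A] [CommRing A'] [Algebra A A']
    [Module.FaithfullyFlat A A'] (M : Type u) [AddCommGroup M] [Module A M] (N' : Submodule A' (A' ⊗[A] M))
    (h : Submodule.span (A' ⊗[A] A')
          ((N'.restrictScalars A).map
            ((Algebra.TensorProduct.includeLeft : A' →ₐ[A] A' ⊗[A] A').toLinearMap.rTensor M) : Set ((A' ⊗[A] A') ⊗[A] M)) =
        Submodule.span (A' ⊗[A] A')
          ((N'.restrictScalars A).map
            ((Algebra.TensorProduct.includeRight : A' →ₐ[A] A' ⊗[A] A').toLinearMap.rTensor M) : Set ((A' ⊗[A] A') ⊗[A] M))) :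
    ((N'.restrictScalars A).comap (TensorProduct.mk A A' M 1)).baseChange A' = N' := by
    set Q := M ⧸ ((N'.restrictScalars A).comap (TensorProduct.mk A A' M 1)) with hQ
    let q := ((N'.restrictScalars A).comap (TensorProduct.mk A A' M 1)).mkQ
    let π : A' ⊗[A] M →ₗ[A] (A' ⊗[A] M) ⧸ N' := N'.mkQ.restrictScalars A
    let ψ : Q →ₗ[A] (A' ⊗[A] M) ⧸ N' := Submodule.liftQ _ (π ∘ₗ TensorProduct.mk A A' M 1)
      fun m hm => (Submodule.Quotient.mk_eq_zero N').2 hm
    have hψ : Function.Injective ψ := by
      rw [← LinearMap.ker_eq_bot, Submodule.ker_liftQ_eq_bot']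
      ext m
      exact (Submodule.Quotient.mk_eq_zero N').symm
    let Φ : (A' ⊗[A] A') ⊗[A] M →ₗ[A] A' ⊗[A] ((A' ⊗[A] M) ⧸ N') := π.lTensor A' ∘ₗ (TensorProduct.assoc A A' A' M).toLinearMap
    have hb : ∀ (a b : A') (y : A' ⊗[A] M),
        Φ ((a ⊗ₜ[A] b) • LinearMap.rTensor M (Algebra.TensorProduct.includeRight : A' →ₐ[A] A' ⊗[A] A').toLinearMap y) = a ⊗ₜ[A] π (b • y) := by
      intro a b y
      induction y using TensorProduct.induction_on with
      | zero => simp
      | tmul a' m => simp [Φ, π, TensorProduct.smul_tmul', Algebra.TensorProduct.tmul_mul_tmul]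
      | add y z hy hz => simp only [map_add, smul_add, hy, hz, TensorProduct.tmul_add]
    refine le_antisymm ?_ fun y hy => ?_
    · rw [Submodule.baseChange_eq_span, Submodule.span_le]
      rintro _ ⟨m, hm, rfl⟩
      exact hm
    have h0 : Φ (LinearMap.rTensor M (Algebra.TensorProduct.includeLeft : A' →ₐ[A] A' ⊗[A] A').toLinearMap y) = 0 := by
      have hmem := h ▸ Submodule.subset_span (R := A' ⊗[A] A') (Submodule.mem_map_of_mem (f := LinearMap.rTensor M (Algebra.TensorProduct.includeLeft : A' →ₐ[A] A' ⊗[A] A').toLinearMap) (show y ∈ N'.restrictScalars A from hy))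
      have hall : ∀ c : A' ⊗[A] A', Φ (c • LinearMap.rTensor M (Algebra.TensorProduct.includeLeft : A' →ₐ[A] A' ⊗[A] A').toLinearMap y) = 0 := by
        refine Submodule.span_induction (p := fun z _ => ∀ c : A' ⊗[A] A', Φ (c • z) = 0) ?_ (fun c => by simp) (fun u v _ _ hu hv c => by rw [smul_add, map_add, hu, hv, add_zero]) (fun d u _ hu c => by rw [smul_smul]; exact hu _) hmem
        rintro _ ⟨z, hz, rfl⟩ c
        induction c using TensorProduct.induction_on with
        | zero => simp
        | tmul a b =>
          rw [hb]
          rw [show π (b • z) = 0 from (Submodule.Quotient.mk_eq_zero N').2 (N'.smul_mem b hz), TensorProduct.tmul_zero]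
        | add c d hc hd => rw [add_smul, map_add, hc, hd, add_zero]
      simpa using hall 1
    have h1 : (ψ.lTensor A') (q.lTensor A' y) = Φ (LinearMap.rTensor M (Algebra.TensorProduct.includeLeft : A' →ₐ[A] A' ⊗[A] A').toLinearMap y) := by
      clear h0 hy
      induction y using TensorProduct.induction_on with
      | zero => simp
      | tmul a' m => simp [Φ, π, ψ, q]; rfl
      | add y z hy hz => simp only [map_add, hy, hz]
    have h2 : q.lTensor A' y = 0 := Module.Flat.lTensor_preserves_injective_linearMap ψ hψ (by rw [h1, h0, map_zero])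
    clear h0 h1 hy
    obtain ⟨z, rfl⟩ := (lTensor_exact A' (LinearMap.exact_subtype_mkQ _) (Submodule.mkQ_surjective _) y).1 h2
    clear h2
    induction z using TensorProduct.induction_on with
    | zero => simp
    | tmul a n =>
      rw [LinearMap.lTensor_tmul]
      exact Submodule.tmul_mem_baseChange_of_mem a n.2
    | add z w hz hw => rw [map_add]; exact add_mem hz hw

end Groth.Agent.S5135
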