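import Groth.Statements.S5138
import Groth.Agent.Lib.SourceDescent

set_option autoImplicit false
set_option backward.isDefEq.respectTransparency.types false
set_option linter.all false
open CategoryTheory AlgebraicGeometry
universe u
open SGA1

namespace Groth.Agent.S5138

/-- For X ⟶ X' ⟶ Y locally of finite type over a locally Noetherian Y and a point x of X, if X ⟶ X' and
the composite X ⟶ Y are both etale near x then X' ⟶ Y is etale near the image of x; 'etale near a
point' is membership in the etale locus, the union of the opens on which the morphism is etale. (The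
published statement takes the morphisms of finite type; quasi-compactness plays no role in this
assertion about single points, so only local finiteness is assumed.) -/
theorem result {X X' Y : Scheme.{u}} (f : X ⟶ X') (g : X' ⟶ Y)
    [IsLocallyNoetherian Y] [LocallyOfFiniteType f] [LocallyOfFiniteType g] (x : X)
    (hf : x ∈ Pi1X.etaleLocus f) (hfg : x ∈ Pi1X.etaleLocus (f ≫ g)) : f.base x ∈ Pi1X.etaleLocus g := by
  simp only [Pi1X.etaleLocus, TopologicalSpace.Opens.mem_sSup, Set.mem_setOf_eq] at hf hfg ⊢
  obtain ⟨U1, h1, hx1⟩ := hf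
  obtain ⟨U2, h2, hx2⟩ := hfg
  let V : X.Opens := U1 ⊓ U2
  haveI : Etale (V.ι ≫ f) := by
    rw [← X.homOfLE_ι (show V ≤ U1 from inf_le_left), Category.assoc]
    infer_instance
  haveI : Etale (V.ι ≫ f ≫ g) := by
    rw [← X.homOfLE_ι (show V ≤ U2 from inf_le_right), Category.assoc]
    infer_instance
  let W : X'.Opens := ⟨Set.range (V.ι ≫ f), (V.ι ≫ f).isOpenMap.isOpen_range⟩
  have hsub : Set.range (V.ι ≫ f) ⊆ Set.range W.ι := by rw [Scheme.Opens.range_ι]; exact subset_rfl
  let a := IsOpenImmersion.lift W.ι (V.ι ≫ f) hsub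
  have ha : a ≫ W.ι = V.ι ≫ f := IsOpenImmersion.lift_fac _ _ _
  haveI : Etale (a ≫ W.ι) := by rw [ha]; infer_instance
  haveI : Etale a := Etale.of_comp a W.ι
  haveI : Surjective a := ⟨fun w => by
    obtain ⟨v, hv⟩ := w.2
    exact ⟨v, W.ι.isOpenEmbedding.injective (by rw [← Scheme.Hom.comp_apply, ha]; exact hv)⟩⟩
  haveI : Etale (a ≫ W.ι ≫ g) := by rw [← Category.assoc, ha, Category.assoc]; infer_instance
  exact ⟨W, SourceDescent.etale_of_etale' a (W.ι ≫ g), ⟨⟨x, hx1, hx2⟩, rfl⟩⟩

end Groth.Agent.S5138
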