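import Groth.Statements.S5142
import Groth.Agent.Lib.LFibProd

set_option autoImplicit false
set_option backward.isDefEq.respectTransparency false
set_option backward.isDefEq.respectTransparency.types false
set_option linter.style.haveILetI false
open CategoryTheory
universe u v u₂ v₂
open FibCat

namespace Groth.Agent.S5142

theorem cart_map_iff {C : Type u} [Category.{v} C] {A : Type u₂} [Category.{v₂} A] (p : A ⥤ C) {R S : C} {a b : A} (f : R ⟶ S) (φ : a ⟶ b) [p.IsHomLift f φ] :
    p.IsCartesian f φ ↔ p.IsCartesian (p.map φ) φ := by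
  obtain rfl := IsHomLift.domain_eq p f φ
  obtain rfl := IsHomLift.codomain_eq p f φ
  obtain rfl := IsHomLift.eq_of_isHomLift p f φ
  rfl

/-- A morphism of the fibre product 𝒳 ×_C 𝒴 of two categories over C is cartesian if and only if its two
components are cartesian (each over its image in C). The fibre product is taken as the 2-fibre
product over C of the two structure functors, whose objects are pairs over one object of C together
with an isomorphism of C lying over an identity. -/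
theorem result {C : Type u} [Category.{v} C] {𝒳 𝒴 : BasedCategory.{v₂, u₂} C}
    {x y : (FibCat.fp (FibCat.toSelf 𝒳) (FibCat.toSelf 𝒴)).obj} (φ : x ⟶ y) :
    (FibCat.fp (FibCat.toSelf 𝒳) (FibCat.toSelf 𝒴)).p.IsCartesian
        ((FibCat.fp (FibCat.toSelf 𝒳) (FibCat.toSelf 𝒴)).p.map φ) φ ↔
      𝒳.p.IsCartesian (𝒳.p.map φ.hom.fst) φ.hom.fst ∧ 𝒴.p.IsCartesian (𝒴.p.map φ.hom.snd) φ.hom.snd := by
  haveI l1 : 𝒳.p.IsHomLift (𝒳.p.map φ.hom.fst) φ.hom.fst := inferInstance
  haveI l2 : 𝒴.p.IsHomLift (𝒳.p.map φ.hom.fst) φ.hom.snd := FibCat.fp_isHomLift_snd (FibCat.toSelf 𝒳) (FibCat.toSelf 𝒴) φ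
  constructor
  · intro h
    obtain ⟨h1, h2⟩ := @LFibProd.isCartesian_components _ _ _ _ _ _ x y (𝒳.p.map φ.hom.fst) φ h
    exact ⟨h1, (cart_map_iff 𝒴.p _ _).1 h2⟩
  · rintro ⟨h1, h2⟩
    haveI := h1
    haveI : 𝒴.p.IsCartesian (𝒳.p.map φ.hom.fst) φ.hom.snd := (cart_map_iff 𝒴.p _ _).2 h2
    exact LFibProd.isCartesian_of (𝒳.p.map φ.hom.fst) φ

end Groth.Agent.S5142
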