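import Groth.Statements.S5143
import Groth.Agent.Lib.LFibProd

set_option autoImplicit false
set_option backward.isDefEq.respectTransparency false
set_option backward.isDefEq.respectTransparency.types false
set_option linter.style.haveILetI false
open CategoryTheory
universe u v u₂ v₂
open FibCat

namespace Groth.Agent.S5143

/-- The fibre product over C of two fibred (resp. prefibred) categories over C is fibred (resp.
prefibred); fibred and prefibred are Mathlib's notions for the structure functors, and the fibre
product is the 2-fibre product over C of the two structure functors. -/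
theorem result {C : Type u} [Category.{v} C] {𝒳 𝒴 : BasedCategory.{v₂, u₂} C} :
    (𝒳.p.IsFibered → 𝒴.p.IsFibered → (FibCat.fp (FibCat.toSelf 𝒳) (FibCat.toSelf 𝒴)).p.IsFibered) ∧
      (𝒳.p.IsPreFibered → 𝒴.p.IsPreFibered → (FibCat.fp (FibCat.toSelf 𝒳) (FibCat.toSelf 𝒴)).p.IsPreFibered) := by
  constructor
  · intro hX hY
    haveI := hX; haveI := hY
    refine Functor.IsFibered.of_exists_isStronglyCartesian fun w R f => ?_
    obtain ⟨a, α, hα⟩ := Functor.IsPreFibered.exists_isCartesian' (p := 𝒳.p) (a := w.obj.fst) f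
    obtain ⟨b, β, hβ⟩ := IsPreFibered.exists_isCartesian 𝒴.p (LFibProd.eq_base w) f
    haveI := hα; haveI := hβ
    haveI : 𝒳.p.IsStronglyCartesian f α := inferInstance
    haveI : 𝒴.p.IsStronglyCartesian f β := inferInstance
    obtain ⟨z, k, rfl, rfl, e1, e2⟩ := LFibProd.exists_pair w f α β
    rw [eqToHom_refl, Category.id_comp] at e1 e2
    haveI : 𝒳.p.IsStronglyCartesian f k.hom.fst := by rw [e1]; infer_instance
    haveI : 𝒴.p.IsStronglyCartesian f k.hom.snd := by rw [e2]; infer_instance
    exact ⟨z, k, LFibProd.isStronglyCartesian_of f k⟩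
  · intro hX hY
    haveI := hX; haveI := hY
    refine ⟨fun {w R} f => ?_⟩
    obtain ⟨a, α, hα⟩ := Functor.IsPreFibered.exists_isCartesian' (p := 𝒳.p) (a := w.obj.fst) f
    obtain ⟨b, β, hβ⟩ := IsPreFibered.exists_isCartesian 𝒴.p (LFibProd.eq_base w) f
    haveI := hα; haveI := hβ
    obtain ⟨z, k, rfl, rfl, e1, e2⟩ := LFibProd.exists_pair w f α β
    rw [eqToHom_refl, Category.id_comp] at e1 e2
    haveI : 𝒳.p.IsCartesian f k.hom.fst := by rw [e1]; infer_instance
    haveI : 𝒴.p.IsCartesian f k.hom.snd := by rw [e2]; infer_instance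
    exact ⟨z, k, LFibProd.isCartesian_of f k⟩

end Groth.Agent.S5143
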