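import Groth.Statements.S5144
import Groth.Agent.Lib.LFibCat

set_option autoImplicit false
open CategoryTheory
universe u v u₂ v₂
open FibCat

namespace Groth.Agent.S5144

open CategoryTheory.Functor in
/-- `φ` has the universal property of a co-cartesian morphism over `f`. -/
def Co {C : Type u} [Category.{v} C] {𝒳 : Type u₂} [Category.{v₂} 𝒳] (p : 𝒳 ⥤ C) {R S : C} (f : R ⟶ S) {a b : 𝒳} (φ : a ⟶ b) : Prop :=
  p.IsHomLift f φ ∧ ∀ {c : 𝒳} (ψ : a ⟶ c), p.IsHomLift f ψ → ∃! χ : b ⟶ c, p.IsHomLift (𝟙 S) χ ∧ φ ≫ χ = ψ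

section
variable {C : Type u} [Category.{v} C] {𝒳 : Type u₂} [Category.{v₂} 𝒳] {p : 𝒳 ⥤ C}

lemma opL {R S : C} (f : R ⟶ S) {a b : 𝒳} (φ : a ⟶ b) [p.IsHomLift f φ] : p.op.IsHomLift f.op φ.op :=
  IsHomLift.of_fac' _ _ _ (congrArg Opposite.op (IsHomLift.codomain_eq p f φ)) (congrArg Opposite.op (IsHomLift.domain_eq p f φ))
    (by
      show (p.map φ).op = _
      rw [IsHomLift.fac' p f φ]
      simp [eqToHom_op])

lemma unL {R S : Cᵒᵖ} (f : R ⟶ S) {a b : 𝒳ᵒᵖ} (φ : a ⟶ b) [p.op.IsHomLift f φ] : p.IsHomLift f.unop φ.unop :=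
  IsHomLift.of_fac' _ _ _ (congrArg Opposite.unop (IsHomLift.codomain_eq p.op f φ)) (congrArg Opposite.unop (IsHomLift.domain_eq p.op f φ))
    (by
      show (p.op.map φ).unop = _
      rw [IsHomLift.fac' p.op f φ]
      simp [eqToHom_unop])

lemma co_of {R S : Cᵒᵖ} (f : R ⟶ S) {a b : 𝒳ᵒᵖ} (φ : a ⟶ b) [p.op.IsCartesian f φ] : Co p f.unop φ.unop := by
  refine ⟨unL f φ, fun {c} ψ hψ => ?_⟩
  haveI := hψ
  haveI : p.op.IsHomLift f ψ.op := opL f.unop ψ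
  obtain ⟨χ, ⟨h1, h2⟩, hu⟩ := Functor.IsCartesian.universal_property (p := p.op) (f := f) (φ := φ) ψ.op
  haveI := h1
  refine ⟨χ.unop, ⟨unL (𝟙 R) χ, congrArg Quiver.Hom.unop h2⟩, ?_⟩
  rintro y ⟨k1, k2⟩
  haveI := k1
  have hy : p.op.IsHomLift (𝟙 R) y.op := opL (𝟙 R.unop) y
  exact congrArg Quiver.Hom.unop (hu y.op ⟨hy, congrArg Quiver.Hom.op k2⟩)

lemma of_co {R S : Cᵒᵖ} (f : R ⟶ S) {a b : 𝒳ᵒᵖ} (φ : a ⟶ b) (h : Co p f.unop φ.unop) : p.op.IsCartesian f φ := by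
  haveI := h.1
  haveI : p.op.IsHomLift f φ := opL f.unop φ.unop
  refine { universal_property := fun {c} ψ hψ => ?_ }
  haveI := hψ
  obtain ⟨χ, ⟨h1, h2⟩, hu⟩ := h.2 ψ.unop (unL f ψ)
  haveI := h1
  refine ⟨χ.op, ⟨opL (𝟙 R.unop) χ, congrArg Quiver.Hom.op h2⟩, ?_⟩
  rintro y ⟨k1, k2⟩
  haveI := k1
  exact congrArg Quiver.Hom.op (hu y.unop ⟨unL (𝟙 R) y, congrArg Quiver.Hom.unop k2⟩)

theorem fwd [p.IsFibered] [p.op.IsPreFibered] : p.op.IsFibered := by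
  refine { comp := fun {R S T} f g {a b c} φ ψ hφ hψ => ?_ }
  haveI := hφ; haveI := hψ
  obtain ⟨l1, u1⟩ := co_of (p := p) g ψ
  obtain ⟨l2, u2⟩ := co_of (p := p) f φ
  haveI := l1; haveI := l2
  apply of_co
  refine ⟨show p.IsHomLift (g.unop ≫ f.unop) (ψ.unop ≫ φ.unop) from inferInstance, fun {d} ω hω => ?_⟩
  haveI := hω
  have hd : p.obj d = R.unop := IsHomLift.codomain_eq p (f ≫ g).unop ω
  obtain ⟨d', κ, hκ⟩ := IsPreFibered.exists_isCartesian p hd f.unop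
  haveI := hκ
  haveI : p.IsHomLift (g.unop ≫ f.unop) ω := hω
  obtain ⟨χ, ⟨hχ, eχ⟩, -⟩ := Functor.IsStronglyCartesian.universal_property p f.unop κ g.unop _ rfl ω
  haveI := hχ
  obtain ⟨α, ⟨hα, eα⟩, -⟩ := u1 χ hχ
  haveI := hα
  obtain ⟨β, ⟨hβ, eβ⟩, -⟩ := u2 (α ≫ κ) inferInstance
  haveI := hβ
  have e0 : (ψ.unop ≫ φ.unop) ≫ β = ω := by rw [Category.assoc, eβ, ← Category.assoc, eα, eχ]
  refine ⟨β, ⟨hβ, e0⟩, ?_⟩
  rintro β' ⟨hβ', e'⟩
  haveI := hβ'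
  haveI : p.IsHomLift f.unop (φ.unop ≫ β') := inferInstance
  haveI : p.IsHomLift f.unop (φ.unop ≫ β) := inferInstance
  obtain ⟨α1, ⟨ha1, e1⟩, -⟩ := Functor.IsCartesian.universal_property (p := p) (f := f.unop) (φ := κ) (φ.unop ≫ β')
  obtain ⟨α2, ⟨ha2, e2⟩, -⟩ := Functor.IsCartesian.universal_property (p := p) (f := f.unop) (φ := κ) (φ.unop ≫ β)
  haveI := ha1; haveI := ha2
  have e3 : ψ.unop ≫ α1 = ψ.unop ≫ α2 := by
    refine Functor.IsStronglyCartesian.ext p f.unop κ (g := g.unop) ?_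
    rw [Category.assoc, Category.assoc, e1, e2, ← Category.assoc, ← Category.assoc]; exact e'.trans e0.symm
  haveI : p.IsHomLift g.unop (ψ.unop ≫ α2) := inferInstance
  have e4 : α1 = α2 := (u1 _ inferInstance).unique ⟨ha1, e3⟩ ⟨ha2, rfl⟩
  have e5 : φ.unop ≫ β' = φ.unop ≫ β := by rw [← e1, ← e2, e4]
  exact (u2 _ inferInstance).unique ⟨hβ', e5⟩ ⟨hβ, rfl⟩

theorem bwd [p.IsPreFibered] [p.op.IsFibered] : p.IsFibered := by
  refine { comp := fun {R S T} f g {a b c} φ ψ hφ hψ => ?_ }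
  haveI := hφ; haveI := hψ
  refine { universal_property := fun {d} ω hω => ?_ }
  haveI := hω
  have hd : p.obj d = R := IsHomLift.domain_eq p (f ≫ g) ω
  obtain ⟨e, κ, hκ⟩ := IsPreFibered.exists_isCartesian p.op (congrArg Opposite.op hd) f.op
  haveI := hκ
  haveI : p.op.IsStronglyCartesian f.op κ := inferInstance
  haveI : p.IsHomLift f κ.unop := unL f.op κ
  haveI hω' : p.op.IsHomLift (g.op ≫ f.op) ω.op := opL (f ≫ g) ω
  obtain ⟨χ, ⟨hχ, eχ⟩, -⟩ := Functor.IsStronglyCartesian.universal_property p.op f.op κ g.op _ rfl ω.op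
  haveI := hχ
  haveI : p.IsHomLift g χ.unop := unL g.op χ
  obtain ⟨α, ⟨hα, eα⟩, -⟩ := Functor.IsCartesian.universal_property (p := p) (f := g) (φ := ψ) χ.unop
  haveI := hα
  obtain ⟨β, ⟨hβ, eβ⟩, -⟩ := Functor.IsCartesian.universal_property (p := p) (f := f) (φ := φ) (κ.unop ≫ α)
  haveI := hβ
  have eω : κ.unop ≫ χ.unop = ω := congrArg Quiver.Hom.unop eχ
  have e0 : β ≫ φ ≫ ψ = ω := by rw [← Category.assoc, eβ, Category.assoc, eα, eω]
  refine ⟨β, ⟨hβ, e0⟩, ?_⟩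
  rintro β' ⟨hβ', e'⟩
  haveI := hβ'
  obtain ⟨-, u⟩ := co_of (p := p) f.op κ
  obtain ⟨α1, ⟨ha1, e1⟩, -⟩ := u (β' ≫ φ) (show p.IsHomLift f (β' ≫ φ) from inferInstance)
  obtain ⟨α2, ⟨ha2, e2⟩, -⟩ := u (β ≫ φ) (show p.IsHomLift f (β ≫ φ) from inferInstance)
  haveI : p.IsHomLift (𝟙 S) α1 := ha1
  haveI : p.IsHomLift (𝟙 S) α2 := ha2
  have e3 : α1 ≫ ψ = α2 ≫ ψ := by
    haveI : p.op.IsHomLift g.op (α1 ≫ ψ).op := opL g _
    haveI : p.op.IsHomLift g.op (α2 ≫ ψ).op := opL g _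
    refine congrArg Quiver.Hom.unop (Functor.IsStronglyCartesian.ext p.op f.op κ (g := g.op) (ψ := (α1 ≫ ψ).op) (ψ' := (α2 ≫ ψ).op) ?_)
    apply Quiver.Hom.unop_inj
    show κ.unop ≫ α1 ≫ ψ = κ.unop ≫ α2 ≫ ψ
    rw [← Category.assoc, e1, ← Category.assoc, e2, Category.assoc, Category.assoc, e', e0]
  have e4 : α1 = α2 := Functor.IsCartesian.ext p g ψ _ _ e3
  have e5 : β' ≫ φ = β ≫ φ := by rw [← e1, ← e2, e4]
  exact Functor.IsCartesian.ext p f φ _ _ e5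

end


/-- If p : 𝒳 ⥤ C is both prefibred and co-prefibred (its opposite functor is prefibred), then p is
fibred if and only if it is co-fibred (its opposite functor is fibred). Prefibred and fibred are
Mathlib's notions, which are the source's. -/
theorem result {C : Type u} [Category.{v} C] {𝒳 : Type u₂} [Category.{v₂} 𝒳]
    (p : 𝒳 ⥤ C) [p.IsPreFibered] [p.op.IsPreFibered] : p.IsFibered ↔ p.op.IsFibered := by
  exact ⟨fun h => haveI := h; fwd, fun h => haveI := h; bwd⟩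

end Groth.Agent.S5144
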