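import Groth.Statements.S5146
import Groth.Agent.Lib.H6.GaloisX

set_option autoImplicit false
set_option linter.all false
universe u v w
open CategoryTheory PreGaloisCategory
open Pi1

namespace Groth.Agent.S5146

open CategoryTheory.Limits in
/-- For an exact functor H : C ⥤ C' of Galois categories with compatible fibre functors F' and F' ∘ H,
the induced homomorphism u of fundamental groups and a pointed connected object (X, a) of C with
stabilizer U of a: the image of u lies in U if and only if H(X) has a section from the final object
of C' sending the point to a. -/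
theorem result {C C' : Type u} [Category.{v} C] [Category.{v} C']
    [GaloisCategory C] [GaloisCategory C'] (H : C ⥤ C') [PreservesFiniteLimits H] [PreservesFiniteColimits H]
    (F' : C' ⥤ FintypeCat.{w}) [FiberFunctor F'] [FiberFunctor (H ⋙ F')] (X : C) [IsConnected X]
    (a : (H ⋙ F').obj X) :
    (Pi1X.autWhisker H F').range ≤ MulAction.stabilizer (Aut (H ⋙ F')) a ↔
      ∃ s : ⊤_ C' ⟶ H.obj X, ∀ t : F'.obj (⊤_ C'), F'.map s t = a := by
    open Groth.Agent.H6.GaloisX in
    exact ⟨fun h => exists_section F' (a := toF' H F' a) fun σ => h ⟨σ, rfl⟩,
      fun ⟨s, hs⟩ => by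
        rintro _ ⟨σ, rfl⟩
        exact smul_of_section F' (a := toF' H F' a) s hs σ⟩

end Groth.Agent.S5146
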