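import Groth.Statements.S5147
import Groth.Agent.Lib.H6.GaloisX

set_option autoImplicit false
set_option linter.all false
universe u v w
open CategoryTheory PreGaloisCategory
open Pi1

namespace Groth.Agent.S5147

open CategoryTheory.Limits in
/-- In the situation of the first assertion, the stabilizer U of a contains the normal subgroup
generated by the image of u (hence also its closure, U being open) if and only if H(X) is isomorphic
to a finite coproduct of copies of the final object of C'. -/
theorem result {C C' : Type u} [Category.{v} C] [Category.{v} C']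
    [GaloisCategory C] [GaloisCategory C'] (H : C ⥤ C') [PreservesFiniteLimits H] [PreservesFiniteColimits H]
    (F' : C' ⥤ FintypeCat.{w}) [FiberFunctor F'] [FiberFunctor (H ⋙ F')] (X : C) [IsConnected X]
    (a : (H ⋙ F').obj X) :
    Subgroup.normalClosure ((Pi1X.autWhisker H F').range : Set (Aut (H ⋙ F'))) ≤ MulAction.stabilizer (Aut (H ⋙ F')) a ↔
      ∃ n : ℕ, Nonempty (H.obj X ≅ ∐ fun _ : Fin n => ⊤_ C') := by
    rw [← Groth.Agent.H6.GaloisX.split_iff F' (H.obj X)]
    constructor
    · intro h σ x
      obtain ⟨τ, hτ⟩ := MulAction.exists_smul_eq (Aut (H ⋙ F')) a (Groth.Agent.H6.GaloisX.ofF' H F' x)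
      have hm : τ⁻¹ * Pi1X.autWhisker H F' σ * τ⁻¹⁻¹ ∈ Subgroup.normalClosure ((Pi1X.autWhisker H F').range : Set (Aut (H ⋙ F'))) :=
        Subgroup.normalClosure_normal.conj_mem _ (Subgroup.subset_normalClosure (show Pi1X.autWhisker H F' σ ∈ ((Pi1X.autWhisker H F').range : Set (Aut (H ⋙ F'))) from ⟨σ, rfl⟩)) _
      have := h hm
      rw [MulAction.mem_stabilizer_iff, inv_inv, mul_smul, mul_smul, hτ, inv_smul_eq_iff, hτ] at this
      exact this
    · intro h
      let K := (MulAction.toPermHom (Aut (H ⋙ F')) ((H ⋙ F').obj X)).ker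
      have hK : Subgroup.normalClosure ((Pi1X.autWhisker H F').range : Set (Aut (H ⋙ F'))) ≤ K := by
        refine Subgroup.normalClosure_le_normal ?_
        rintro _ ⟨σ, rfl⟩
        exact Equiv.ext fun x => h σ (Groth.Agent.H6.GaloisX.toF' H F' x)
      intro τ hτ
      exact congrArg (fun e : Equiv.Perm ((H ⋙ F').obj X) => e a) (hK hτ)

end Groth.Agent.S5147
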