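import Groth.Statements.S5150
import Mathlib
import Groth.Prelude.Def_CAlg
import Groth.Agent.Lib.H2Ischebeck

set_option autoImplicit false
universe u
open CategoryTheory
open LocCoh

namespace Groth.Agent.S5150
open CategoryTheory Abelian Pointwise RingTheory.Sequence

/-- Let A be a commutative ring, I an ideal, M and N A-modules, and f_1, …, f_r a weakly M-regular
sequence of elements of I. If N is killed by a power of I then Ext^i_A(N, M) vanishes for all i < r.
(No Noetherian or finiteness hypothesis on A, M or N.) -/
theorem result (A : Type u) [CommRing A] (I : Ideal A) (M N : Type u) [AddCommGroup M] [Module A M] [AddCommGroup N] [Module A N] (rs : List A) (hreg : RingTheory.Sequence.IsWeaklyRegular M rs) (hI : ∀ r ∈ rs, r ∈ I) (k : ℕ) (hN : (I ^ k) • (⊤ : Submodule A N) = ⊥) (i : ℕ) (hi : i < rs.length) : Subsingleton (Abelian.Ext (ModuleCat.of A N) (ModuleCat.of A M) i) := by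
  induction rs generalizing M i with
  | nil => simp at hi
  | cons a rs' ih =>
    rw [isWeaklyRegular_cons_iff] at hreg
    have ha : a ^ k ∈ Module.annihilator A N := Module.mem_annihilator.2 fun x => by
      have : a ^ k • x ∈ (I ^ k) • (⊤ : Submodule A N) :=
        Submodule.smul_mem_smul (Ideal.pow_mem_pow (hI a (by simp)) k) trivial
      simpa [hN] using this
    match i with
    | 0 =>
      have : Subsingleton (N →ₗ[A] M) := IsSMulRegular.linearMap_subsingleton_of_mem_annihilator (hreg.1.pow k) ha
      exact (Ext.addEquiv₀.trans ModuleCat.homAddEquiv).subsingleton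
    | i + 1 =>
      let g := (AddCommGrpCat.ofHom ((Ext.mk₀ (ModuleCat.smulShortComplex (ModuleCat.of A M) a).f).postcomp (ModuleCat.of A N)
        (add_zero (i + 1))))
      have mono_g : Mono g := by
        apply (Ext.covariant_sequence_exact₁' (ModuleCat.of A N) (IsSMulRegular.smulShortComplex_shortExact (M := ModuleCat.of A M) hreg.1) i (i + 1)
          rfl).mono_g ((AddCommGrpCat.isZero_of_iff_subsingleton.mpr ?_).eq_zero_of_src _)
        exact ih (QuotSMulTop a M) hreg.2 (fun r hr => hI r (List.mem_cons_of_mem _ hr)) i (by simpa using hi)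
      let gk := AddCommGrpCat.ofHom ((Ext.mk₀ (ModuleCat.smulShortComplex (ModuleCat.of A M) (a ^ k)).f).postcomp (ModuleCat.of A N)
        (add_zero (i + 1)))
      have mono_gk : Mono gk := by
        simp only [ModuleCat.smulShortComplex_f_eq_smul_id, g, gk] at mono_g ⊢
        exact (Ext.postcomp_smul_id_mono_iff (a ^ k) (i + 1)).mpr <|
          ((Ext.postcomp_smul_id_mono_iff a (i + 1)).mp mono_g).pow k
      have zero_gk : gk = 0 := Ext.postcomp_smul_id_eq_zero_of_mem_annihilator ha (i + 1)
      exact AddCommGrpCat.subsingleton_of_isZero (Limits.IsZero.of_mono_eq_zero _ zero_gk)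

end Groth.Agent.S5150
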