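import Groth.Statements.S5155
import Mathlib
import Groth.Prelude.Def_Wider
import Groth.Agent.Lib.MatlisDuality

set_option autoImplicit false
universe u
open InjHull Pointwise TensorProduct
open Matlis

namespace Groth.Agent.S5155

/-- Let A be a Noetherian local ring with residue field k. An A-module E is an injective hull of k if
and only if E is injective, E is m-power torsion, and Hom_A(k, E) is simple (one-dimensional over
k). (The torsion condition is needed: for a prime p ≠ m the module E(k) ⊕ E(A/p) is injective with
Hom_A(k, −) simple, represents the same functor on modules of finite length, and is not an injective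
hull of k; the published definition of a dualizing module leaves this condition implicit and the
published proof uses it.) -/
theorem result (A : Type u) [CommRing A] [IsLocalRing A] [IsNoetherianRing A] (E : Type u) [AddCommGroup E] [Module A E] : (∃ f : IsLocalRing.ResidueField A →ₗ[A] E, InjHull.IsInjectiveHull f) ↔ (Module.Injective A E ∧ LocCoh.IsPowerTorsion (IsLocalRing.maximalIdeal A) E ∧ IsSimpleModule A (IsLocalRing.ResidueField A →ₗ[A] E)) := by
  constructor
  · rintro ⟨f, hf⟩
    obtain ⟨e⟩ := Groth.Agent.Matlis.exists_homResidueEquiv hf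
    have := Groth.Agent.Matlis.isSimpleModule_residue (R := A)
    exact ⟨hf.isInjective, Groth.Agent.Matlis.isPowerTorsion hf, IsSimpleModule.congr e⟩
  · rintro ⟨hinj, htors, hsimple⟩
    classical
    have := IsSimpleModule.nontrivial A (IsLocalRing.ResidueField A →ₗ[A] E)
    obtain ⟨φ, hφ⟩ := exists_ne (0 : IsLocalRing.ResidueField A →ₗ[A] E)
    have hres : ∀ y : IsLocalRing.ResidueField A, ∃ r : A, y = r • 1 := by
      intro y
      obtain ⟨r, rfl⟩ := IsLocalRing.residue_surjective y
      exact ⟨r, by rw [Algebra.smul_def, mul_one]; rfl⟩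
    have hinjφ : Function.Injective φ := by
      rw [injective_iff_map_eq_zero]
      intro y hy
      by_contra hy0
      obtain ⟨r, rfl⟩ := hres y
      have hr : IsUnit r := by
        by_contra h
        exact hy0 (Groth.Agent.Matlis.smul_residue_eq_zero h _)
      rw [map_smul, hr.smul_eq_zero] at hy
      refine hφ (LinearMap.ext fun z => ?_)
      obtain ⟨s, rfl⟩ := hres z
      rw [map_smul, hy, smul_zero, LinearMap.zero_apply]
    refine ⟨φ, ⟨hinjφ, (Groth.Agent.IH.ess_iff _).mp fun x hx => ?_⟩, hinj⟩
    have hex : ∃ N, ∀ a ∈ IsLocalRing.maximalIdeal A ^ N, a • x = 0 := htors x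
    have hpos : Nat.find hex ≠ 0 := fun h => hx (by
      have := Nat.find_spec hex (1 : A) (by rw [h, pow_zero, Ideal.one_eq_top]; exact Submodule.mem_top)
      simpa using this)
    obtain ⟨a, ha, hax⟩ : ∃ a ∈ IsLocalRing.maximalIdeal A ^ (Nat.find hex - 1), a • x ≠ 0 := by
      by_contra hall
      push Not at hall
      exact Nat.find_min hex (by omega) hall
    let ψ : IsLocalRing.ResidueField A →ₗ[A] E :=
      Submodule.liftQ (IsLocalRing.maximalIdeal A) (LinearMap.toSpanSingleton A E (a • x)) (fun c hc => by
        show c • a • x = 0
        rw [← mul_smul]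
        refine Nat.find_spec hex _ ?_
        rw [show Nat.find hex = (Nat.find hex - 1) + 1 by omega, pow_succ']
        exact Ideal.mul_mem_mul hc ha)
    obtain ⟨c, hc⟩ := IsSimpleModule.toSpanSingleton_surjective A hφ ψ
    have h1 : c • φ 1 = a • x := by
      have h2 := LinearMap.congr_fun hc (1 : IsLocalRing.ResidueField A)
      rw [LinearMap.toSpanSingleton_apply, LinearMap.smul_apply] at h2
      rw [h2]
      exact one_smul A _
    exact ⟨a, ⟨c • 1, by rw [map_smul, h1]⟩, hax⟩

end Groth.Agent.S5155
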