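import Groth.Statements.S5156
import Mathlib
import Groth.Prelude.Def_Wider
import Groth.Agent.Lib.CoextHull
import Groth.Agent.S0301

set_option autoImplicit false
universe u
open InjHull Pointwise CategoryTheory
open Matlis

namespace Groth.Agent.S5156

/-- Let A and B be Noetherian local rings with B a finite A-algebra, and E an injective hull of the
residue field of A (a dualizing module for A). Then Hom_A(B, E), as a B-module through the action on
the source, is an injective hull of the residue field of B (a dualizing module for B). -/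
theorem result (A B : Type u) [CommRing A] [IsLocalRing A] [IsNoetherianRing A] [CommRing B] [IsLocalRing B] [IsNoetherianRing B] [Algebra A B] [Module.Finite A B] (E : Type u) [AddCommGroup E] [Module A E] (f : IsLocalRing.ResidueField A →ₗ[A] E) (hf : InjHull.IsInjectiveHull f) : ∃ g : IsLocalRing.ResidueField B →ₗ[B] (ModuleCat.coextendScalars (algebraMap A B)).obj (ModuleCat.of A E), InjHull.IsInjectiveHull g := by
  classical
  have hmB : (IsLocalRing.maximalIdeal A).map (algebraMap A B) ≤ IsLocalRing.maximalIdeal B := by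
    refine IsLocalRing.le_maximalIdeal fun h => ?_
    have h1 : (⊤ : Submodule A B) ≤ IsLocalRing.maximalIdeal A • (⊤ : Submodule A B) := by
      rw [Ideal.smul_top_eq_map, h, Submodule.restrictScalars_top]
    have h2 := Submodule.eq_bot_of_le_smul_of_le_jacobson_bot _ _ Module.Finite.fg_top h1
      (IsLocalRing.maximalIdeal_le_jacobson _)
    exact one_ne_zero ((Submodule.eq_bot_iff _).mp h2 (1 : B) trivial)
  have hkill : ∀ r ∈ IsLocalRing.maximalIdeal A, ∀ y : IsLocalRing.ResidueField B, r • y = 0 := by
    intro r hr y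
    rw [← algebraMap_smul B r y]
    exact Groth.Agent.Matlis.smul_residue_eq_zero (hmB (Ideal.mem_map_of_mem _ hr)) y
  have hfin : Module.Finite A (IsLocalRing.ResidueField B) :=
    Module.Finite.of_surjective (IsScalarTower.toAlgHom A B (IsLocalRing.ResidueField B)).toLinearMap
      IsLocalRing.residue_surjective
  have hfl : IsFiniteLength A (IsLocalRing.ResidueField B) := by
    obtain ⟨n, g, hg⟩ := Module.Finite.exists_fin (R := A) (M := IsLocalRing.ResidueField B)
    have := Groth.Agent.Matlis.isSimpleModule_residue (R := A)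
    have hk : IsFiniteLength A (IsLocalRing.ResidueField A) :=
      Module.length_ne_top_iff.mp (by rw [Module.length_eq_one]; simp)
    obtain ⟨_, _⟩ := isFiniteLength_iff_isNoetherian_isArtinian.mp hk
    have hpi : IsFiniteLength A (Fin n → IsLocalRing.ResidueField A) :=
      isFiniteLength_iff_isNoetherian_isArtinian.mpr ⟨inferInstance, inferInstance⟩
    let t : Fin n → (IsLocalRing.ResidueField A →ₗ[A] IsLocalRing.ResidueField B) := fun i =>
      Submodule.liftQ (IsLocalRing.maximalIdeal A) (LinearMap.toSpanSingleton A _ (g i))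
        (fun r hr => hkill r hr _)
    refine hpi.of_surjective (f := ∑ i, t i ∘ₗ LinearMap.proj i) (fun y => ?_)
    have hy : y ∈ Submodule.span A (Set.range g) := hg ▸ trivial
    obtain ⟨c, hc⟩ := (Submodule.mem_span_range_iff_exists_fun A).mp hy
    refine ⟨fun i => IsLocalRing.residue A (c i), ?_⟩
    rw [LinearMap.sum_apply, ← hc]
    rfl
  obtain ⟨τ, hτ⟩ := Groth.Agent.Matlis.exists_hom_ne_zero hf (one_ne_zero : (1 : IsLocalRing.ResidueField B) ≠ 0)
  let G : IsLocalRing.ResidueField B →ₗ[A] (IsLocalRing.ResidueField B →ₗ[A] E) :=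
    { toFun := fun y => τ ∘ₗ LinearMap.mulRight A y
      map_add' := fun a b => LinearMap.ext fun z => by simp [mul_add]
      map_smul' := fun r a => LinearMap.ext fun z => by simp }
  have hGinj : Function.Injective G := by
    rw [injective_iff_map_eq_zero]
    intro y hy
    by_contra hy0
    have := LinearMap.congr_fun hy y⁻¹
    simp only [G, LinearMap.coe_mk, AddHom.coe_mk, LinearMap.comp_apply, LinearMap.mulRight_apply,
      inv_mul_cancel₀ hy0, LinearMap.zero_apply] at this
    exact hτ this
  have hG := Groth.Agent.Matlis.surjective_of_length_eq G hGinj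
    (Groth.Agent.Matlis.length_dual hf hfl) (Module.length_ne_top_iff.mpr hfl)
  have hfull : ∀ φ' : IsLocalRing.ResidueField B →ₗ[A] E, ∃ y, ∀ z, φ' z = τ (z * y) := fun φ' => by
    obtain ⟨y, hy⟩ := hG φ'
    exact ⟨y, fun z => (LinearMap.congr_fun hy z).symm⟩
  refine ⟨Groth.Agent.Coext.socleMap τ, ⟨⟨Groth.Agent.Coext.socleMap_injective hτ, ?_⟩,
    Groth.Agent.Coext.injective A B E hf.isInjective⟩⟩
  refine (Groth.Agent.IH.ess_iff _).mp fun φ hφ => ?_
  -- some power of the maximal ideal kills `φ`
  obtain ⟨N, hN⟩ : ∃ N, ∀ c ∈ IsLocalRing.maximalIdeal B ^ N, c • φ = 0 := by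
    obtain ⟨s, hs⟩ := (Module.Finite.fg_top : (⊤ : Submodule A B).FG)
    choose n hn using fun b : B => Groth.Agent.Matlis.isPowerTorsion hf (φ b)
    have hart : IsArtinianRing (B ⧸ (IsLocalRing.maximalIdeal A).map (algebraMap A B)) := by
      let _ : Field (A ⧸ IsLocalRing.maximalIdeal A) := Ideal.Quotient.field _
      have : Module.Finite (A ⧸ IsLocalRing.maximalIdeal A) (B ⧸ (IsLocalRing.maximalIdeal A).map (algebraMap A B)) :=
        Module.Finite.of_restrictScalars_finite A _ _
      exact isArtinian_of_tower (A ⧸ IsLocalRing.maximalIdeal A) inferInstance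
    obtain ⟨e, he⟩ := IsLocalRing.exists_maximalIdeal_pow_le_of_isArtinianRing_quotient ((IsLocalRing.maximalIdeal A).map (algebraMap A B))
    refine ⟨e * s.sup n, fun c hc => ?_⟩
    have hc' : c ∈ (IsLocalRing.maximalIdeal A ^ s.sup n).map (algebraMap A B) := by
      rw [Ideal.map_pow]
      rw [pow_mul] at hc
      exact Ideal.pow_right_mono he _ hc
    refine Groth.Agent.Coext.ext fun b => ?_
    rw [Groth.Agent.Coext.smul_apply, Groth.Agent.Coext.zero_apply]
    have hbc : b * c ∈ (IsLocalRing.maximalIdeal A ^ s.sup n • ⊤ : Submodule A B) := by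
      rw [Ideal.smul_top_eq_map, Submodule.restrictScalars_mem]
      exact Ideal.mul_mem_left _ b hc'
    show Groth.Agent.Coext.toLin φ (b * c) = 0
    generalize b * c = w at hbc
    refine Submodule.smul_induction_on hbc (fun r hr x hx0 => ?_) (fun x y hx hy => by rw [map_add, hx, hy, add_zero])
    clear hx0
    have hx : x ∈ Submodule.span A (s : Set B) := hs.symm ▸ trivial
    induction hx using Submodule.span_induction with
    | mem y hy =>
      rw [map_smul]
      exact hn y r (Ideal.pow_le_pow_right (Finset.le_sup hy) hr)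
    | zero => rw [smul_zero, map_zero]
    | add y z _ _ hy hz => rw [smul_add, map_add, hy, hz, add_zero]
    | smul c y _ hy => rw [smul_comm, map_smul, hy, smul_zero]
  have hex : ∃ N, ∀ c ∈ IsLocalRing.maximalIdeal B ^ N, c • φ = 0 := ⟨N, hN⟩
  have hpos : Nat.find hex ≠ 0 := fun h => hφ (by
    have := Nat.find_spec hex (1 : B) (by rw [h, pow_zero, Ideal.one_eq_top]; exact Submodule.mem_top)
    rwa [one_smul] at this)
  obtain ⟨a, ha, haφ⟩ : ∃ a ∈ IsLocalRing.maximalIdeal B ^ (Nat.find hex - 1), a • φ ≠ 0 := by
    by_contra hall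
    push Not at hall
    exact Nat.find_min hex (by omega) hall
  refine ⟨a, Groth.Agent.Coext.mem_range_socleMap τ hfull (fun c hc => ?_), haφ⟩
  rw [smul_smul]
  refine Nat.find_spec hex _ ?_
  rw [show Nat.find hex = (Nat.find hex - 1) + 1 by omega, pow_succ']
  exact Ideal.mul_mem_mul hc ha

end Groth.Agent.S5156
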