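import Groth.Statements.S5157
import Mathlib
import Groth.Prelude.Def_Wider
import Groth.Agent.Lib.MatlisDuality

set_option autoImplicit false
universe u
open InjHull Pointwise TensorProduct
open Matlis

namespace Groth.Agent.S5157

/-- Let A be a Noetherian local ring, a an ideal with A/a local (i.e. a ≠ A) and E an injective hull of
the residue field of A. Then the annihilator of a in E, E[a] = {e | a e = 0}, is an injective hull
of the residue field of A/a over A/a. -/
theorem result (A : Type u) [CommRing A] [IsLocalRing A] [IsNoetherianRing A] (a : Ideal A) [IsLocalRing (A ⧸ a)] (E : Type u) [AddCommGroup E] [Module A E] (f : IsLocalRing.ResidueField A →ₗ[A] E) (hf : InjHull.IsInjectiveHull f) : ∃ g : IsLocalRing.ResidueField (A ⧸ a) →ₗ[A ⧸ a] (LocCoh.torsionBy a E), InjHull.IsInjectiveHull g := by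
  let K := IsLocalRing.ResidueField (A ⧸ a)
  let π : IsLocalRing.ResidueField A →ₗ[A] K := Submodule.liftQ (IsLocalRing.maximalIdeal A)
    (Algebra.linearMap A K) (fun r hr => by
      rw [LinearMap.mem_ker, Algebra.linearMap_apply, IsScalarTower.algebraMap_apply A (A ⧸ a) K]
      refine (IsLocalRing.residue_eq_zero_iff _).mpr ?_
      have hloc : IsLocalHom (Ideal.Quotient.mk a) :=
        IsLocalRing.of_surjective' (Ideal.Quotient.mk a) Ideal.Quotient.mk_surjective |> fun _ => IsLocalHom.of_surjective _ Ideal.Quotient.mk_surjective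
      exact fun hu => hr ((isUnit_map_iff (Ideal.Quotient.mk a) r).mp hu))
  have hπs : Function.Surjective π := fun y => by
    obtain ⟨z, rfl⟩ := IsLocalRing.residue_surjective y
    obtain ⟨r, rfl⟩ := Ideal.Quotient.mk_surjective z
    exact ⟨Submodule.Quotient.mk r, rfl⟩
  have hπi : Function.Injective π := by
    rw [injective_iff_map_eq_zero]
    intro y hy
    obtain ⟨r, rfl⟩ := Submodule.Quotient.mk_surjective _ y
    by_contra h0
    have hu : IsUnit r := by
      by_contra hr
      exact h0 ((Submodule.Quotient.mk_eq_zero _).mpr hr)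
    exact (hu.map (algebraMap A K)).ne_zero hy
  let e := LinearEquiv.ofBijective π ⟨hπi, hπs⟩
  have hf' : InjHull.IsInjectiveHull (f ∘ₗ e.symm.toLinearMap) := by
    refine ⟨⟨hf.injective.comp e.symm.injective, ?_⟩, hf.isInjective⟩
    rw [LinearMap.range_comp, LinearEquiv.range, Submodule.map_top]
    exact hf.essential
  -- restrict scalars to `A ⧸ a`
  have hmem : ∀ m, (f ∘ₗ e.symm.toLinearMap) m ∈ LocCoh.torsionBy a E := by
    intro m
    rw [Submodule.mem_torsionBySet_iff]
    rintro ⟨c, hc⟩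
    show c • (f ∘ₗ e.symm.toLinearMap) m = 0
    rw [← map_smul, ← algebraMap_smul (A ⧸ a) c m, Ideal.Quotient.algebraMap_eq, Ideal.Quotient.eq_zero_iff_mem.mpr hc, zero_smul, map_zero]
  let g : K →ₗ[A ⧸ a] LocCoh.torsionBy a E :=
    { toFun := fun m => ⟨(f ∘ₗ e.symm.toLinearMap) m, hmem m⟩
      map_add' := fun x y => Subtype.ext (map_add _ x y)
      map_smul' := fun c x => by
        obtain ⟨r, rfl⟩ := Ideal.Quotient.mk_surjective c
        apply Subtype.ext
        show (f ∘ₗ e.symm.toLinearMap) (Ideal.Quotient.mk a r • x) = r • (f ∘ₗ e.symm.toLinearMap) x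
        rw [← map_smul, ← Ideal.Quotient.algebraMap_eq, algebraMap_smul] }
  refine ⟨g, ⟨fun x y h => hf'.injective (congrArg Subtype.val h), (Groth.Agent.IH.ess_iff _).mp ?_⟩, ?_⟩
  · intro x hx
    obtain ⟨r, ⟨m, hm⟩, hr0⟩ := (Groth.Agent.IH.ess_iff _).mpr hf'.essential (x : E) (fun h => hx (Subtype.ext h))
    exact ⟨Ideal.Quotient.mk a r, ⟨m, Subtype.ext hm⟩, fun h => hr0 (congrArg Subtype.val h)⟩
  · refine Module.Baer.injective ?_
    intro J φ
    let p : Ideal.comap (Ideal.Quotient.mk a) J →ₗ[A] J :=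
      { toFun := fun x => ⟨Ideal.Quotient.mk a x.1, x.2⟩
        map_add' := fun _ _ => Subtype.ext (map_add _ _ _)
        map_smul' := fun c x => Subtype.ext (by
          show Ideal.Quotient.mk a (c * x.1) = c • Ideal.Quotient.mk a x.1
          rw [Algebra.smul_def, map_mul, Ideal.Quotient.algebraMap_eq]) }
    let ψ : Ideal.comap (Ideal.Quotient.mk a) J →ₗ[A] E :=
      (LocCoh.torsionBy a E).subtype ∘ₗ (φ.restrictScalars A) ∘ₗ p
    obtain ⟨Φ, hΦ⟩ := Module.Baer.of_injective hf.isInjective _ ψ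
    have hx : Φ 1 ∈ LocCoh.torsionBy a E := by
      rw [Submodule.mem_torsionBySet_iff]
      rintro ⟨c, hc⟩
      show c • Φ 1 = 0
      have hcJ : c ∈ Ideal.comap (Ideal.Quotient.mk a) J := by
        rw [Ideal.mem_comap, Ideal.Quotient.eq_zero_iff_mem.mpr hc]; exact zero_mem _
      rw [← map_smul, smul_eq_mul, mul_one, hΦ c hcJ]
      have : p ⟨c, hcJ⟩ = 0 := Subtype.ext (Ideal.Quotient.eq_zero_iff_mem.mpr hc)
      simp [ψ, this]
    refine ⟨LinearMap.toSpanSingleton (A ⧸ a) _ ⟨Φ 1, hx⟩, fun c hc => ?_⟩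
    obtain ⟨r, rfl⟩ := Ideal.Quotient.mk_surjective c
    apply Subtype.ext
    show r • Φ 1 = _
    rw [← map_smul, smul_eq_mul, mul_one]
    exact hΦ r hc

end Groth.Agent.S5157
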