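import Groth.Statements.S5158
import Mathlib
import Groth.Prelude.Def_Wider
import Groth.Agent.Lib.MatlisDuality

set_option autoImplicit false
universe u
open InjHull Pointwise TensorProduct
open scoped TensorProduct
open Matlis

namespace Groth.Agent.S5158

/-- Let A be a Noetherian local ring, Â its m-adic completion and I an m-power torsion A-module (a union
of submodules of finite length). Then x ↦ 1 ⊗ x is a bijection I → Â ⊗_A I. -/
theorem result (A : Type u) [CommRing A] [IsLocalRing A] [IsNoetherianRing A] (I : Type u) [AddCommGroup I] [Module A I] (hI : LocCoh.IsPowerTorsion (IsLocalRing.maximalIdeal A) I) : Function.Bijective (TensorProduct.mk A (AdicCompletion (IsLocalRing.maximalIdeal A) A) I 1) := by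
  constructor
  · obtain ⟨E, _, _, f, hf, hess, hE⟩ := Groth.Agent.IH.exists_hull A (IsLocalRing.ResidueField A)
    have hf' : InjHull.IsInjectiveHull f := ⟨⟨hf, (Groth.Agent.IH.ess_iff _).mp hess⟩, hE⟩
    rw [injective_iff_map_eq_zero]
    intro i hi
    by_contra hne
    obtain ⟨φ, hφ⟩ := Groth.Agent.Matlis.exists_hom_ne_zero hf' hne
    let L : AdicCompletion (IsLocalRing.maximalIdeal A) A ⊗[A] I →ₗ[A] E :=
      TensorProduct.lift ((LinearMap.lcomp A E φ) ∘ₗ (Groth.Agent.Matlis.act hf').toLinearMap)
    have h1 := congrArg L hi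
    simp [L] at h1
    exact hφ h1
  · intro t
    induction t using TensorProduct.induction_on with
    | zero => exact ⟨0, map_zero _⟩
    | add u v hu hv =>
      obtain ⟨u', rfl⟩ := hu
      obtain ⟨v', rfl⟩ := hv
      exact ⟨u' + v', map_add _ _ _⟩
    | tmul c i =>
      obtain ⟨n, hn⟩ := hI i
      obtain ⟨r, hr⟩ := Submodule.mkQ_surjective _ (AdicCompletion.eval (IsLocalRing.maximalIdeal A) A n c)
      refine ⟨r • i, ?_⟩
      rw [TensorProduct.mk_apply, TensorProduct.tmul_smul, TensorProduct.smul_tmul', eq_comm, ← sub_eq_zero, ← TensorProduct.sub_tmul]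
      have hmem : c - r • 1 ∈ (IsLocalRing.maximalIdeal A ^ n • ⊤ : Submodule A (AdicCompletion (IsLocalRing.maximalIdeal A) A)) := by
        rw [AdicCompletion.pow_smul_top_eq_ker_eval (IsNoetherian.noetherian _), LinearMap.mem_ker, map_sub, map_smul, ← hr, sub_eq_zero]
        show Submodule.mkQ _ r = r • Submodule.mkQ _ (1 : A)
        rw [← map_smul]; simp
      refine Submodule.smul_induction_on hmem (fun a ha y _ => ?_) (fun x y hx hy => ?_)
      · rw [TensorProduct.smul_tmul, hn a ha, TensorProduct.tmul_zero]
      · rw [TensorProduct.add_tmul, hx, hy, add_zero]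

end Groth.Agent.S5158
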