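import Groth.Statements.S5161
import Mathlib
import Groth.Prelude.Def_Wider
import Groth.Agent.Lib.H6.PuncturedDim

set_option autoImplicit false
universe u
open AlgebraicGeometry
open LocCoh

namespace Groth.Agent.S5161
open CategoryTheory AlgebraicGeometry
set_option backward.isDefEq.respectTransparency.types false

/-- Let A be a Noetherian ring, X = Spec A and Y ⊆ X a closed subset whose complement U is an affine
open. Then every irreducible component of Y has codimension ≤ 1 in X, i.e. the generic point of each
irreducible component of Y is a prime of height at most 1. -/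
theorem result (A : Type u) [CommRing A] [IsNoetherianRing A] (U : (Spec (CommRingCat.of A)).Opens) (hU : IsAffineOpen U) (p : PrimeSpectrum A) (hpU : (p : (Spec (CommRingCat.of A) : Type u)) ∉ (U : Set (Spec (CommRingCat.of A) : Type u))) (hmin : ∀ q : PrimeSpectrum A, q.asIdeal ≤ p.asIdeal → (q : (Spec (CommRingCat.of A) : Type u)) ∉ (U : Set (Spec (CommRingCat.of A) : Type u)) → q = p) : p.asIdeal.height ≤ 1 := by
  let R := Localization.AtPrime p.asIdeal
  let f := Spec.map (CommRingCat.ofHom (algebraMap A R))
  have hpre : f ⁻¹ᵁ U = LocCoh.puncturedOpen R (IsLocalRing.maximalIdeal R) := by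
    refine TopologicalSpace.Opens.ext ?_
    rw [Groth.Agent.H6.PuncturedDim.puncturedOpen_carrier]
    ext q
    change PrimeSpectrum.comap (algebraMap A R) q ∈ (U : Set (Spec (CommRingCat.of A))) ↔ q ≠ IsLocalRing.closedPoint R
    constructor
    · rintro hq rfl
      refine hpU ?_
      convert hq
      exact (PrimeSpectrum.ext (Localization.AtPrime.under_maximalIdeal (I := p.asIdeal))).symm
    · intro hq
      by_contra hqU
      have hle : (PrimeSpectrum.comap (algebraMap A R) q).asIdeal ≤ p.asIdeal := by
        refine (Ideal.comap_mono (IsLocalRing.le_maximalIdeal q.2.ne_top)).trans ?_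
        exact le_of_eq (Localization.AtPrime.under_maximalIdeal (I := p.asIdeal))
      have h1 := hmin _ hle hqU
      apply hq
      refine PrimeSpectrum.localization_comap_injective R p.asIdeal.primeCompl ?_
      rw [h1]
      exact (PrimeSpectrum.ext (Localization.AtPrime.under_maximalIdeal (I := p.asIdeal))).symm
  have h2 := Groth.Agent.H6.PuncturedDim.dim_le_one_of_isAffineOpen R (hpre ▸ hU.preimage f)
  rw [IsLocalization.AtPrime.ringKrullDim_eq_height p.asIdeal R] at h2
  exact_mod_cast h2

end Groth.Agent.S5161
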