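import Groth.Statements.S5163
import Mathlib
import Groth.Prelude.Def_Wider
import Groth.Prelude.Def_DRing3
import Groth.Agent.Lib.RegularLocalSerre

set_option autoImplicit false
universe u
open LocCoh

namespace Groth.Agent.S5163
open CategoryTheory Groth.Agent.RegLocal
open scoped TensorProduct
set_option linter.style.haveILetI false

/-- For modules over a Noetherian ring. Let P be a finite A-module and H any A-module with Supp H ⊆ Supp
P. If Hom_A(P, H) = 0 then H = 0. (The published lemma is stated over an arbitrary prescheme; its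
proof uses that a nonzero module has an associated prime, so the ring is taken Noetherian here.) -/
theorem result (A : Type u) [CommRing A] [IsNoetherianRing A] (P H : Type u) [AddCommGroup P] [Module A P] [Module.Finite A P] [AddCommGroup H] [Module A H] (hsupp : Module.support A H ⊆ Module.support A P) (hhom : Subsingleton (P →ₗ[A] H)) : Subsingleton H := by
  by_contra hH
  rw [not_subsingleton_iff_nontrivial] at hH
  obtain ⟨p, hp⟩ := associatedPrimes.nonempty A H
  have hpp : p.IsPrime := hp.isPrime
  obtain ⟨y, hy⟩ := (isAssociatedPrime_iff.1 hp).2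
  set S := p.primeCompl
  let R' := Localization.AtPrime p
  let y' : LocalizedModule S H := LocalizedModule.mkLinearMap S H y
  have hy0 : y' ≠ 0 := by
    intro h0
    obtain ⟨⟨s, hs⟩, h⟩ := (IsLocalizedModule.eq_zero_iff S (LocalizedModule.mkLinearMap S H)).1 h0
    exact hs (hy ▸ Submodule.mem_colon_singleton.2 (by simpa [Submonoid.smul_def] using h) : s ∈ p)
  have hker : IsLocalRing.maximalIdeal R' ≤ LinearMap.ker (LinearMap.toSpanSingleton R' (LocalizedModule S H) y') := by
    rw [← Localization.AtPrime.map_eq_maximalIdeal, Ideal.map_le_iff_le_comap]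
    intro a ha
    show algebraMap A R' a • y' = 0
    rw [algebraMap_smul, ← map_smul]
    rw [hy, Submodule.mem_colon_singleton, Submodule.mem_bot] at ha
    rw [ha, map_zero]
  let ι : IsLocalRing.ResidueField R' →ₗ[R'] LocalizedModule S H :=
    Submodule.liftQ (IsLocalRing.maximalIdeal R') (LinearMap.toSpanSingleton R' (LocalizedModule S H) y') hker
  have hι1 : ι 1 = y' := one_smul R' y'
  haveI hP : Nontrivial (LocalizedModule S P) := hsupp (Module.mem_support_iff'.2 ⟨y, fun r hr h0 => hr (hy ▸ Submodule.mem_colon_singleton.2 (by simpa using h0))⟩ : (⟨p, hpp⟩ : PrimeSpectrum A) ∈ Module.support A H)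
  haveI : Module.Finite R' (LocalizedModule S P) := inferInstance
  haveI : Nontrivial (IsLocalRing.ResidueField R' ⊗[R'] LocalizedModule S P) := by
    rw [← not_subsingleton_iff_nontrivial, IsLocalRing.subsingleton_tensorProduct]
    exact not_subsingleton _
  obtain ⟨w, hw⟩ := exists_ne (0 : IsLocalRing.ResidueField R' ⊗[R'] LocalizedModule S P)
  obtain ⟨φ, hφ⟩ := not_forall.1 (mt (Module.forall_dual_apply_eq_zero_iff (IsLocalRing.ResidueField R') w).1 hw)
  let g : LocalizedModule S P →ₗ[R'] LocalizedModule S H :=
    ι ∘ₗ (φ.restrictScalars R') ∘ₗ (TensorProduct.mk R' (IsLocalRing.ResidueField R') (LocalizedModule S P) 1)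
  have hg : g = 0 := by
    haveI : Module.FinitePresentation A P := Module.finitePresentation_of_finite A P
    obtain ⟨l, s, hl⟩ := Module.FinitePresentation.exists_lift_of_isLocalizedModule S (LocalizedModule.mkLinearMap S H)
      ((g.restrictScalars A) ∘ₗ LocalizedModule.mkLinearMap S P)
    rw [Subsingleton.elim l 0, LinearMap.comp_zero] at hl
    refine LinearMap.restrictScalars_injective A (IsLocalizedModule.ext S (LocalizedModule.mkLinearMap S P)
      (fun t => IsLocalizedModule.map_units (LocalizedModule.mkLinearMap S H) t) ?_)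
    ext m
    apply IsLocalizedModule.smul_injective (LocalizedModule.mkLinearMap S H) s
    simpa [LinearMap.ext_iff] using (LinearMap.congr_fun hl m).symm
  apply hφ
  have h1 : ∀ m : LocalizedModule S P, φ (1 ⊗ₜ[R'] m) = 0 := by
    intro m
    by_contra h0
    apply hy0
    have h2 : ι (φ (1 ⊗ₜ[R'] m)) = 0 := LinearMap.congr_fun hg m
    obtain ⟨r, hr⟩ := IsLocalRing.residue_surjective (φ (1 ⊗ₜ[R'] m))⁻¹
    have h3 : φ (1 ⊗ₜ[R'] m) * (φ (1 ⊗ₜ[R'] m))⁻¹ = 1 := mul_inv_cancel₀ h0
    rw [← hι1, ← h3, mul_comm, ← hr]
    exact (map_smul ι r _).trans (by rw [h2, smul_zero])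
  clear hw hφ
  induction w with
  | zero => exact map_zero φ
  | add a b ha hb => rw [map_add, ha, hb, add_zero]
  | tmul c m =>
    have : c ⊗ₜ[R'] m = c • ((1 : IsLocalRing.ResidueField R') ⊗ₜ[R'] m) := by rw [TensorProduct.smul_tmul', smul_eq_mul, mul_one]
    rw [this, map_smul, h1, smul_zero]

end Groth.Agent.S5163
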