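import Groth.Statements.S5164
import Mathlib
import Groth.Prelude.Def_Wider
import Groth.Prelude.Def_CAlg
import Groth.Prelude.Def_SGA2
import Groth.Agent.Lib.H2RelCodim2

set_option autoImplicit false
universe u
open LocCoh

namespace Groth.Agent.S5164
set_option backward.isDefEq.respectTransparency.types false
set_option linter.style.haveILetI false
open Groth.Agent

/-- Affine form. Let A be a Noetherian ring which is a quotient of a regular ring, I an ideal, M a
finite A-module and i ≥ 0; c(p) denotes the codimension of V(p) ∩ V(I) in V(p). Then the hypothesis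
of the finiteness criterion — H^{i−c(p)}_{pA_p}(M_p) = 0 for all primes p ⊉ I — is equivalent to its
codimension-one case: H^{i−1}_{pA_p}(M_p) = 0 for all primes p ⊉ I with c(p) = 1. -/
theorem result (R : Type u) [CommRing R] [IsRegularRing R] (A : Type u) [CommRing A] [IsNoetherianRing A] (π : R →+* A) (hπ : Function.Surjective π) (I : Ideal A) (M : Type u) [AddCommGroup M] [Module A M] [Module.Finite A M] (i : ℕ) : (∀ p : PrimeSpectrum A, ¬ I ≤ p.asIdeal → ∀ (c j : ℕ), SGA2.relCodim I p = c → j + c = i → Subsingleton (LocCoh.H (IsLocalRing.maximalIdeal (Localization.AtPrime p.asIdeal)) j (LocalizedModule p.asIdeal.primeCompl M))) ↔ (∀ p : PrimeSpectrum A, ¬ I ≤ p.asIdeal → SGA2.relCodim I p = 1 → ∀ j : ℕ, j + 1 = i → Subsingleton (LocCoh.H (IsLocalRing.maximalIdeal (Localization.AtPrime p.asIdeal)) j (LocalizedModule p.asIdeal.primeCompl M))) := by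
  refine ⟨fun h p hp h1 j hj => h p hp 1 j (by rw [h1]; rfl) hj, fun h p hp c j hc hj => ?_⟩
  haveI : Nonempty {q : PrimeSpectrum A // p ≤ q ∧ I ≤ q.asIdeal} := by
    by_contra he
    haveI := not_nonempty_iff.1 he
    rw [SGA2.relCodim, iInf_of_empty] at hc
    exact ENat.natCast_ne_top c hc.symm
  obtain ⟨⟨q, hpq, hq⟩, hattain⟩ := ciInf_mem fun q : {q : PrimeSpectrum A // p ≤ q ∧ I ≤ q.asIdeal} => Order.height (⟨q.1, q.2.1⟩ : Set.Ici p)
  have hqc : Order.height (⟨q, hpq⟩ : Set.Ici p) = c := hattain.trans hc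
  have hlt : p < q := lt_of_le_of_ne hpq fun he => hp (he ▸ hq)
  obtain ⟨r, hpr, hrq⟩ := H2LCFin.exists_covBy_ge hlt
  obtain ⟨c1, e1, f1⟩ := H2LCFin.height_Ici_add π hπ p r hpr
  obtain ⟨c2, e2, f2⟩ := H2LCFin.height_Ici_add π hπ r q hrq.le
  obtain ⟨c3, e3, f3⟩ := H2LCFin.height_Ici_add π hπ p q hpq
  rw [hqc] at e3
  rw [H2LCFin.height_Ici_covBy hrq] at e2
  have e2' : 1 = c2 := by exact_mod_cast e2
  have e3' : c = c3 := by exact_mod_cast e3
  have hIr : ¬ I ≤ r.asIdeal := fun hI => by
    have := hc.ge.trans (H2LCFin.relCodim_le hpr hI)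
    rw [e1, Nat.cast_le] at this
    omega
  have hz := h r hIr (H2LCFin.relCodim_eq_one hIr hq hrq) (j + c1) (by omega)
  rcases eq_or_lt_of_le hpr with he | hlt'
  · subst he
    have : c1 = 0 := by omega
    subst this
    exact hz
  · exact H2LCFin.subsingleton_of_specializes π hπ hlt' e1 hz

end Groth.Agent.S5164
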