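import Groth.Statements.S5165
import Mathlib
import Groth.Prelude.Def_Wider
import Groth.Prelude.Def_DRing3
import Groth.Agent.Lib.RegularLocalSerre

set_option autoImplicit false
universe u
open CategoryTheory
open LocCoh

namespace Groth.Agent.S5165
open CategoryTheory Groth.Agent.RegLocal
open scoped TensorProduct
set_option linter.style.haveILetI false

/-- Suppose A is a regular Noetherian ring and consider a finitely generated A-module M. Then some
natural number d bounds the projective dimension of M (equivalently, p ↦ proj.dim M_p stays bounded
as p ranges over Spec A, and this holds even if the Krull dimension of A is infinite). -/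
theorem result (A : Type u) [CommRing A] [IsRegularRing A] (M : Type u) [AddCommGroup M] [Module A M] [Module.Finite A M] : ∃ d : ℕ, HasProjectiveDimensionLE (ModuleCat.of A M) d := by
  have key : ∀ (n : ℕ) (M : Type u) [AddCommGroup M] [Module A M] [Module.Finite A M],
      IsOpen {p : PrimeSpectrum A | PdLT (Localization.AtPrime p.asIdeal) (LocalizedModule p.asIdeal.primeCompl M) (n + 1)} ∧
      ((∀ p : PrimeSpectrum A, PdLT (Localization.AtPrime p.asIdeal) (LocalizedModule p.asIdeal.primeCompl M) (n + 1)) → PdLT A M (n + 1)) := by
    intro n
    induction n with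
    | zero =>
      intro M _ _ _
      haveI : Module.FinitePresentation A M := Module.finitePresentation_of_finite A M
      have he : ∀ p : PrimeSpectrum A, PdLT (Localization.AtPrime p.asIdeal) (LocalizedModule p.asIdeal.primeCompl M) 1 ↔ p ∈ Module.freeLocus A M := fun p =>
        ⟨fun h => free_of_pdLT_one h, fun h => by
          have : Module.Free _ _ := h
          exact pdLT_one_iff.2 Module.Projective.of_free⟩
      refine ⟨?_, fun h => pdLT_one_iff.2 (Module.freeLocus_eq_univ_iff.1 (Set.eq_univ_of_forall fun p => (he p).1 (h p)))⟩
      simp only [Nat.zero_add, he, Set.ofPred_mem_eq]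
      exact Module.isOpen_freeLocus
    | succ n ih =>
      intro M _ _ _
      obtain ⟨k, π, hπ⟩ := Module.Finite.exists_fin' A M
      haveI : Module.Finite A (LinearMap.ker π) := Module.Finite.iff_fg.2 (IsNoetherian.noetherian _)
      have he : ∀ p : PrimeSpectrum A, PdLT (Localization.AtPrime p.asIdeal) (LocalizedModule p.asIdeal.primeCompl M) (n + 2) ↔
          PdLT (Localization.AtPrime p.asIdeal) (LocalizedModule p.asIdeal.primeCompl (LinearMap.ker π)) (n + 1) := by
        intro p
        set S := p.asIdeal.primeCompl
        let a : LocalizedModule S (LinearMap.ker π) →ₗ[Localization S] LocalizedModule S (Fin k → A) :=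
          LocalizedModule.map S (LinearMap.ker π).subtype
        let c : LocalizedModule S (Fin k → A) →ₗ[Localization S] LocalizedModule S M :=
          LocalizedModule.map S π
        have hac : Function.Exact a c := LocalizedModule.map_exact S _ _ (LinearMap.exact_subtype_ker_map π)
        have ha : Function.Injective a := LocalizedModule.map_injective _ _ (LinearMap.ker π).injective_subtype
        have hc : Function.Surjective c := LocalizedModule.map_surjective _ _ hπ
        haveI : Module.Projective (Localization S) (LocalizedModule S (Fin k → A)) :=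
          Module.Projective.of_equiv (LocalizedModule.equivTensorProduct S (Fin k → A)).symm
        refine (pdLT_ker_iff c hc n).trans ?_
        let e : LocalizedModule S (LinearMap.ker π) ≃ₗ[Localization S] LinearMap.ker c :=
          (LinearEquiv.ofInjective a ha).trans (LinearEquiv.ofEq _ _ hac.linearMap_ker_eq.symm)
        exact ⟨fun h => pdLT_congr e.symm h, fun h => pdLT_congr e h⟩
      obtain ⟨ho, hu⟩ := ih (LinearMap.ker π)
      refine ⟨?_, fun h => (pdLT_ker_iff π hπ n).2 (hu fun p => (he p).1 (h p))⟩
      simp only [he]
      exact ho
  have hcov : Set.univ ⊆ ⋃ n : ℕ, {p : PrimeSpectrum A | PdLT (Localization.AtPrime p.asIdeal) (LocalizedModule p.asIdeal.primeCompl M) (n + 1)} := by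
    intro p _
    exact Set.mem_iUnion.2 ⟨_, pdLT_of_regular_finite _ _ rfl _⟩
  obtain ⟨t, ht⟩ := isCompact_univ.elim_finite_subcover _ (fun n => (key n M).1) hcov
  refine ⟨t.sup id, (key (t.sup id) M).2 fun p => ?_⟩
  obtain ⟨n, hn, hp⟩ := Set.mem_iUnion₂.1 (ht (Set.mem_univ p))
  exact pdLT_mono (Nat.succ_le_succ (Finset.le_sup (f := id) hn)) hp

end Groth.Agent.S5165
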