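import Groth.Statements.S5166
import Mathlib
import Groth.Prelude.Def_Wider
import Groth.Prelude.Def_DRing3
import Groth.Agent.Lib.RegularLocalSerre
import Groth.Agent.Lib.H2LDual
import Groth.Agent.Lib.H2LCBaseChange
import Groth.Agent.S11652

set_option autoImplicit false
universe u
open LocCoh

namespace Groth.Agent.S5166
open CategoryTheory Groth.Agent.RegLocal Groth.Agent.H2LC
open scoped TensorProduct
set_option linter.style.haveILetI false
set_option backward.isDefEq.respectTransparency.types false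

/-- In its local form at a point y ∈ Y (A = O_{X,y}). Let A be a Noetherian local ring and I ≠ A an
ideal contained in no minimal prime of A. Then some prime p ⊉ I has dim A/p = 1. -/
theorem result (A : Type u) [CommRing A] [IsLocalRing A] [IsNoetherianRing A] (I : Ideal A) (hI : I ≠ ⊤) (hdense : ∀ q ∈ minimalPrimes A, ¬ I ≤ q) : ∃ p : PrimeSpectrum A, ¬ I ≤ p.asIdeal ∧ ringKrullDim (A ⧸ p.asIdeal) = 1 := by
  obtain ⟨q0, hq0, -⟩ := Ideal.exists_minimalPrimes_le (bot_le : (⊥ : Ideal A) ≤ IsLocalRing.maximalIdeal A)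
  obtain ⟨p, ⟨hp, hIp⟩, hmax⟩ := wellFounded_gt.has_min {p : Ideal A | p.IsPrime ∧ ¬ I ≤ p} ⟨q0, hq0.1.1, hdense q0 hq0⟩
  refine ⟨⟨p, hp⟩, hIp, ?_⟩
  set m := IsLocalRing.maximalIdeal A
  set mk := Ideal.Quotient.mk p
  have hpm : p < m := lt_of_le_of_ne (IsLocalRing.le_maximalIdeal hp.ne_top) fun e => hIp (e ▸ IsLocalRing.le_maximalIdeal hI)
  haveI : Nontrivial (A ⧸ p) := Ideal.Quotient.nontrivial_iff.2 hp.ne_top
  haveI : IsLocalRing (A ⧸ p) := IsLocalRing.of_surjective' mk Ideal.Quotient.mk_surjective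
  have hmm : m.map mk = IsLocalRing.maximalIdeal (A ⧸ p) := IsLocalRing.map_maximalIdeal_of_surjective mk Ideal.Quotient.mk_surjective
  show ringKrullDim (A ⧸ p) = 1
  rw [← IsLocalRing.maximalIdeal_height_eq_ringKrullDim]
  refine congrArg WithBot.some (le_antisymm ?_ ?_)
  · by_contra hgt
    rw [not_le, ← hmm] at hgt
    obtain ⟨a, haI, hap⟩ := Set.not_subset.1 hIp
    obtain ⟨t, ht, hpt, -, hat⟩ := Groth.Agent.S11652.result A p m hpm hgt a (IsLocalRing.le_maximalIdeal hI haI) hap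
    exact hmax t ⟨ht, fun h => hat (h haI)⟩ hpt
  · haveI : IsDomain (A ⧸ p) := Ideal.Quotient.isDomain p
    refine le_trans le_add_self (Ideal.height_add_one_le_of_lt_of_isPrime (I := ⊥) (bot_lt_iff_ne_bot.2 fun e => ?_))
    rw [← hmm, ← le_bot_iff, Ideal.map_le_iff_le_comap, ← RingHom.ker_eq_comap_bot, Ideal.mk_ker] at e
    exact hpm.not_ge e

end Groth.Agent.S5166
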