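import Groth.Statements.S5167
import Mathlib
import Groth.Prelude.Def_Wider
import Groth.Agent.Lib.H2LDualApps

set_option autoImplicit false
universe u
open LocCoh

namespace Groth.Agent.S5167
set_option backward.isDefEq.respectTransparency.types false
set_option linter.style.haveILetI false
open Groth.Agent

/-- Let A be a Noetherian local ring which is a quotient of a regular local ring, m its maximal ideal, M
a finite A-module and n ≥ 0. Then H^i_m(M) is of finite length for all i ≤ n if and only if
depth(M_p) > n − dim(A/p) for every prime p ≠ m. -/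
theorem result (R : Type u) [CommRing R] [IsRegularLocalRing R] (A : Type u) [CommRing A] [IsLocalRing A] [IsNoetherianRing A] (π : R →+* A) (hπ : Function.Surjective π) (M : Type u) [AddCommGroup M] [Module A M] [Module.Finite A M] (n : ℕ) : (∀ i : ℕ, i ≤ n → IsFiniteLength A (LocCoh.H (IsLocalRing.maximalIdeal A) i M)) ↔ ∀ p : PrimeSpectrum A, p.asIdeal ≠ IsLocalRing.maximalIdeal A → ∀ e : ℕ, ringKrullDim (A ⧸ p.asIdeal) = e → (n : ℕ∞) < LocCoh.depth (Localization.AtPrime p.asIdeal) (LocalizedModule p.asIdeal.primeCompl M) + e := by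
  constructor
  · intro h p hp e he
    rcases lt_or_ge n e with hne | hne
    · exact lt_of_lt_of_le (by exact_mod_cast hne) le_add_self
    have hk : ((n - e + 1 : ℕ) : ℕ∞) ≤ LocCoh.depth (Localization.AtPrime p.asIdeal) (LocalizedModule p.asIdeal.primeCompl M) :=
      H2DepthLocal.le_idealDepth_iff.2 fun j hj =>
        (H2LDual.isFiniteLength_iff π hπ (j + e)).1 (h (j + e) (by omega)) p hp e j he rfl
    refine lt_of_lt_of_le ?_ (add_le_add hk le_rfl)
    rw [← Nat.cast_add]
    exact_mod_cast (show n < n - e + 1 + e by omega)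
  · intro h i hi
    refine (H2LDual.isFiniteLength_iff π hπ i).2 fun p hp c j hc hj => ?_
    have h1 := h p hp c hc
    refine (H2DepthLocal.le_idealDepth_iff (k := j + 1)).1 ?_ j (Nat.lt_succ_self j)
    show ((j + 1 : ℕ) : ℕ∞) ≤ LocCoh.depth (Localization.AtPrime p.asIdeal) (LocalizedModule p.asIdeal.primeCompl M)
    cases hd : LocCoh.depth (Localization.AtPrime p.asIdeal) (LocalizedModule p.asIdeal.primeCompl M) using ENat.recTopCoe with
    | top => exact le_top
    | coe d =>
      rw [hd, ← Nat.cast_add, Nat.cast_lt] at h1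
      exact Nat.cast_le.2 (by omega)

end Groth.Agent.S5167
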