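import Groth.Statements.S5168
import Mathlib
import Groth.Prelude.Def_Wider
import Groth.Agent.Lib.InjHullPrime
import Groth.Agent.Lib.MatlisDuality
import Groth.Agent.S0305
import Groth.Agent.S0300
import Groth.Agent.S11664

set_option autoImplicit false
universe u
open InjHull Pointwise DirectSum
open InjHull

namespace Groth.Agent.S5168

/-- Let A be a Noetherian ring, J an ideal and H a J-power torsion A-module. Then H is injective if and
only if Hom_A(−, H) is exact on finite A-modules killed by a power of J, i.e. every linear map to H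
from a submodule of such a module M extends to M. -/
theorem result (A : Type u) [CommRing A] [IsNoetherianRing A] (J : Ideal A) (H : Type u) [AddCommGroup H] [Module A H] (hH : LocCoh.IsPowerTorsion J H) : Module.Injective A H ↔ ∀ (M : Type u) [AddCommGroup M] [Module A M], Module.Finite A M → (∃ k : ℕ, (J ^ k) • (⊤ : Submodule A M) = ⊥) → ∀ (N : Submodule A M) (g : N →ₗ[A] H), ∃ g' : M →ₗ[A] H, g'.comp N.subtype = g := by
  constructor
  · intro h M _ _ _ _ N g
    exact Groth.Agent.IH.extend_to_injective h N.subtype N.injective_subtype g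
  · intro h
    refine Module.Baer.injective fun a g => ?_
    classical
    obtain ⟨s, hs⟩ := isNoetherian_def.mp (inferInstance : IsNoetherian A a) (⊤ : Submodule A a)
    choose n hn using fun j : a => hH (g j)
    have hkill : ∀ x : a, ∀ c ∈ J ^ (s.sup n), c • g x = 0 := by
      intro x c hc
      have hx : x ∈ Submodule.span A (s : Set a) := hs.symm ▸ trivial
      induction hx using Submodule.span_induction with
      | mem y hy => exact hn y c (Ideal.pow_le_pow_right (Finset.le_sup hy) hc)
      | zero => rw [map_zero, smul_zero]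
      | add y z _ _ hy hz => rw [map_add, smul_add, hy, hz, add_zero]
      | smul r y _ hy => rw [map_smul, smul_comm, hy, smul_zero]
    generalize s.sup n = N₀ at hkill
    obtain ⟨k, hk⟩ := Ideal.exists_pow_inf_eq_pow_smul J (a : Submodule A A)
    have hvan : ∀ x : a, (x : A) ∈ J ^ (N₀ + k) → g x = 0 := by
      intro x hx
      have h1 : (x : A) ∈ J ^ (N₀ + k) • (⊤ : Submodule A A) ⊓ a := ⟨by simpa using hx, x.2⟩
      rw [hk (N₀ + k) (by omega), Nat.add_sub_cancel] at h1
      have key : ∀ y, ∀ _ : y ∈ J ^ N₀ • ((J ^ k • (⊤ : Submodule A A)) ⊓ a), ∃ hya : y ∈ a, g ⟨y, hya⟩ = 0 := by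
        intro y hy
        refine Submodule.smul_induction_on hy (fun r hr z hz => ⟨Submodule.smul_mem _ r hz.2, ?_⟩) (fun y z hy hz => ?_)
        · exact (map_smul g r ⟨z, hz.2⟩).trans (hkill ⟨z, hz.2⟩ r hr)
        · obtain ⟨hya, h1⟩ := hy
          obtain ⟨hza, h2⟩ := hz
          refine ⟨add_mem hya hza, ?_⟩
          rw [show (⟨y + z, add_mem hya hza⟩ : a) = ⟨y, hya⟩ + ⟨z, hza⟩ from rfl, map_add, h1, h2, add_zero]
      exact (key _ h1).2
    let P : Submodule A A := (J ^ (N₀ + k) : Ideal A)
    let t : a →ₗ[A] A ⧸ P := P.mkQ ∘ₗ Submodule.subtype a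
    have hker : LinearMap.ker t ≤ LinearMap.ker g := fun x hx =>
      hvan x ((Submodule.Quotient.mk_eq_zero P).mp hx)
    let g₀ : LinearMap.range t →ₗ[A] H := (LinearMap.ker t).liftQ g hker ∘ₗ t.quotKerEquivRange.symm.toLinearMap
    obtain ⟨g', hg'⟩ := h (A ⧸ P) inferInstance ⟨N₀ + k, by
      rw [eq_bot_iff, Submodule.smul_le]
      intro r hr z _
      obtain ⟨c, rfl⟩ := P.mkQ_surjective z
      rw [Submodule.mem_bot, ← map_smul, Submodule.mkQ_apply, Submodule.Quotient.mk_eq_zero]
      exact Ideal.mul_mem_right _ _ hr⟩ (LinearMap.range t) g₀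
    refine ⟨g' ∘ₗ P.mkQ, fun x hx => ?_⟩
    have h3 := LinearMap.congr_fun hg' ⟨t ⟨x, hx⟩, LinearMap.mem_range_self t _⟩
    have h4 : t.quotKerEquivRange.symm ⟨t ⟨x, hx⟩, LinearMap.mem_range_self t _⟩ = Submodule.Quotient.mk ⟨x, hx⟩ := by
      rw [LinearEquiv.symm_apply_eq]
      rfl
    simp only [g₀, LinearMap.comp_apply, LinearEquiv.coe_coe, h4, Submodule.liftQ_apply] at h3
    exact h3

end Groth.Agent.S5168
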