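import Groth.Statements.S5171
import Mathlib
import Groth.Prelude.Def_CAlg
import Groth.Prelude.Def_Wider
import Groth.Agent.Lib.H2DepthLocal
import Groth.Agent.Lib.H2LCTop

set_option autoImplicit false
universe u
open LocCoh

namespace Groth.Agent.S5171
open CategoryTheory Pointwise RingTheory.Sequence Groth.Agent.H2Depth Groth.Agent.H2DepthMore Groth.Agent.H2DepthLocal Groth.Agent.H2LC

/-- Let A be a Noetherian ring, J an ideal, n ≥ 0 and G a finite Cohen–Macaulay A-module (each
localization G_p is zero or Cohen–Macaulay). Then H^i_J(G) = 0 for i < n if and only if codim(V(J) ∩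
Supp G, Supp G) ≥ n, i.e. dim Supp(G_p) ≥ n for every p ∈ V(J) ∩ Supp G. -/
theorem result (A : Type u) [CommRing A] [IsNoetherianRing A] (J : Ideal A) (G : Type u) [AddCommGroup G] [Module A G] [Module.Finite A G] (hCM : ∀ p : PrimeSpectrum A, Subsingleton (LocalizedModule p.asIdeal.primeCompl G) ∨ LocCoh.IsCohenMacaulayModule (Localization.AtPrime p.asIdeal) (LocalizedModule p.asIdeal.primeCompl G)) (n : ℕ) : (∀ i : ℕ, i < n → Subsingleton (LocCoh.H J i G)) ↔ ∀ p : PrimeSpectrum A, J ≤ p.asIdeal → p ∈ Module.support A G → (n : WithBot ℕ∞) ≤ Module.supportDim (Localization.AtPrime p.asIdeal) (LocalizedModule p.asIdeal.primeCompl G) := by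
  rw [← le_idealDepth_iff, idealDepth_eq_iInf, le_iInf₂_iff]
  refine forall_congr' fun p => forall_congr' fun _ => ?_
  by_cases hs : p ∈ Module.support A G
  · rw [imp_iff_right hs]
    rcases hCM p with h | h
    · exact absurd hs (Module.notMem_support_iff.2 h)
    · rw [h, ← WithBot.coe_le_coe]
      rfl
  · rw [depth_eq_top_of_subsingleton (Module.notMem_support_iff.1 hs)]
    exact iff_of_true le_top fun h => absurd h hs

end Groth.Agent.S5171
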