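import Groth.Statements.S5175
import Mathlib
import Groth.Prelude.Def_Wider
import Groth.Agent.Lib.CoextHull
import Groth.Agent.S0301

set_option autoImplicit false
universe u
open InjHull Pointwise CategoryTheory
open Matlis

namespace Groth.Agent.S5175

/-- Let k₀ be a field and A a Noetherian local k₀-algebra with [k : k₀] finite, k the residue field.
Then the topological dual A' = colim_n Hom_{k₀}(A/m^n, k₀), i.e. the submodule of Hom_{k₀}(A, k₀) of
forms killing some power of m (A acting through the source), is an injective hull of k (it is the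
dualizing module of A). -/
theorem result (k₀ : Type u) [Field k₀] (A : Type u) [CommRing A] [IsLocalRing A] [IsNoetherianRing A] [Algebra k₀ A] [Module.Finite k₀ (A ⧸ IsLocalRing.maximalIdeal A)] : ∃ f : IsLocalRing.ResidueField A →ₗ[A] ↥(⨆ n : ℕ, Submodule.torsionBySet A ((ModuleCat.coextendScalars (algebraMap k₀ A)).obj (ModuleCat.of k₀ k₀)) ((IsLocalRing.maximalIdeal A ^ n : Ideal A) : Set A)), InjHull.IsInjectiveHull f := by
  classical
  set D := ⨆ n : ℕ, Submodule.torsionBySet A (Groth.Agent.Coext.K k₀ A k₀) ((IsLocalRing.maximalIdeal A ^ n : Ideal A) : Set A) with hD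
  have hmono : Monotone fun n : ℕ => Submodule.torsionBySet A (Groth.Agent.Coext.K k₀ A k₀) ((IsLocalRing.maximalIdeal A ^ n : Ideal A) : Set A) :=
    fun m n hmn => Submodule.torsionBySet_le_torsionBySet_of_subset (fun x hx => Ideal.pow_le_pow_right hmn hx)
  have hfin : Module.Finite k₀ (IsLocalRing.ResidueField A) :=
    (inferInstance : Module.Finite k₀ (A ⧸ IsLocalRing.maximalIdeal A))
  obtain ⟨τ, hτ⟩ : ∃ τ : IsLocalRing.ResidueField A →ₗ[k₀] k₀, τ 1 ≠ 0 := by
    obtain ⟨τ, hτ⟩ := LinearMap.exists_leftInverse_of_injective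
      (LinearMap.toSpanSingleton k₀ (IsLocalRing.ResidueField A) 1)
      (LinearMap.ker_toSpanSingleton k₀ one_ne_zero)
    have h1 := LinearMap.congr_fun hτ 1
    rw [LinearMap.comp_apply, LinearMap.toSpanSingleton_apply, one_smul] at h1
    exact ⟨τ, by rw [h1]; exact one_ne_zero⟩
  let G : IsLocalRing.ResidueField A →ₗ[k₀] (IsLocalRing.ResidueField A →ₗ[k₀] k₀) :=
    { toFun := fun y => τ ∘ₗ LinearMap.mulRight k₀ y
      map_add' := fun a b => LinearMap.ext fun z => by simp [mul_add]
      map_smul' := fun r a => LinearMap.ext fun z => by simp }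
  have hGinj : Function.Injective G := by
    rw [injective_iff_map_eq_zero]
    intro y hy
    by_contra hy0
    have := LinearMap.congr_fun hy y⁻¹
    simp only [G, LinearMap.coe_mk, AddHom.coe_mk, LinearMap.comp_apply, LinearMap.mulRight_apply,
      inv_mul_cancel₀ hy0, LinearMap.zero_apply] at this
    exact hτ this
  have hG : Function.Surjective G :=
    (LinearMap.injective_iff_surjective_of_finrank_eq_finrank (Subspace.dual_finrank_eq).symm).mp hGinj
  have hfull : ∀ φ' : IsLocalRing.ResidueField A →ₗ[k₀] k₀, ∃ y, ∀ z, φ' z = τ (z * y) := fun φ' => by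
    obtain ⟨y, hy⟩ := hG φ'
    exact ⟨y, fun z => (LinearMap.congr_fun hy z).symm⟩
  have hmem : ∀ y, Groth.Agent.Coext.socleMap τ y ∈ D := by
    intro y
    refine Submodule.mem_iSup_of_mem 1 ?_
    rw [pow_one, Submodule.mem_torsionBySet_iff]
    rintro ⟨c, hc⟩
    show c • Groth.Agent.Coext.socleMap τ y = 0
    rw [← map_smul, Groth.Agent.Matlis.smul_residue_eq_zero hc, map_zero]
  refine ⟨(Groth.Agent.Coext.socleMap τ).codRestrict D hmem, ⟨⟨fun a b h =>
    Groth.Agent.Coext.socleMap_injective hτ (congrArg Subtype.val h), ?_⟩, ?_⟩⟩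
  · refine (Groth.Agent.IH.ess_iff _).mp fun φ hφ => ?_
    obtain ⟨N, hN⟩ := (Submodule.mem_iSup_of_directed _ hmono.directed_le).mp φ.2
    have hex : ∃ N, ∀ c ∈ IsLocalRing.maximalIdeal A ^ N, c • (φ : Groth.Agent.Coext.K k₀ A k₀) = 0 :=
      ⟨N, fun c hc => (Submodule.mem_torsionBySet_iff _ _).mp hN ⟨c, hc⟩⟩
    have hpos : Nat.find hex ≠ 0 := fun h => hφ (Subtype.ext (by
      have := Nat.find_spec hex (1 : A) (by rw [h, pow_zero, Ideal.one_eq_top]; exact Submodule.mem_top)
      rwa [one_smul] at this))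
    obtain ⟨a, ha, haφ⟩ : ∃ a ∈ IsLocalRing.maximalIdeal A ^ (Nat.find hex - 1), a • (φ : Groth.Agent.Coext.K k₀ A k₀) ≠ 0 := by
      by_contra hall
      push Not at hall
      exact Nat.find_min hex (by omega) hall
    obtain ⟨y, hy⟩ := Groth.Agent.Coext.mem_range_socleMap τ hfull (φ := a • (φ : Groth.Agent.Coext.K k₀ A k₀)) (fun c hc => by
      rw [smul_smul]
      refine Nat.find_spec hex _ ?_
      rw [show Nat.find hex = (Nat.find hex - 1) + 1 by omega, pow_succ']
      exact Ideal.mul_mem_mul hc ha)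
    exact ⟨a, ⟨y, Subtype.ext hy⟩, fun h => haφ (congrArg Subtype.val h)⟩
  · exact Groth.Agent.S0301.result A _ (Groth.Agent.Coext.injective k₀ A k₀ (Groth.Agent.IH.injective_of_retract (R := k₀)
      (Module.Baer.injective (fun J g => by
        rcases Ideal.eq_bot_or_top J with rfl | rfl
        · exact ⟨0, fun x hx => by
            have : (⟨x, hx⟩ : (⊥ : Ideal k₀)) = 0 := Subtype.ext ((Submodule.mem_bot k₀).mp hx)
            simp [this]⟩
        · exact ⟨g ∘ₗ Submodule.topEquiv.symm.toLinearMap, fun x hx => rfl⟩ : Module.Baer k₀ k₀))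
      LinearMap.id LinearMap.id (fun _ => rfl))) (IsLocalRing.maximalIdeal A)

end Groth.Agent.S5175
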