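import Groth.Statements.S5212
import Mathlib.RingTheory.Ideal.GoingUp
import Mathlib.LinearAlgebra.Charpoly.BaseChange

set_option autoImplicit false
universe u
open GrpQ

namespace Groth.Agent.S5212

/-- For `A'` finite and free as an `A`-module, a prime `p` of `A` and `a ∈ A'`, the element `a` belongs
to some prime of `A'` lying over `p` if and only if its norm belongs to `p`. (The published
statement allows `A'` projective of constant rank over `A`; this row takes `A'` free, where the norm
is the determinant of multiplication.) -/
theorem result {A A' : Type u} [CommRing A] [CommRing A'] [Algebra A A']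
    [Module.Free A A'] [Module.Finite A A'] (p : Ideal A) [p.IsPrime] (a : A') :
    (∃ q : Ideal A', q.IsPrime ∧ q.LiesOver p ∧ a ∈ q) ↔ Algebra.norm A a ∈ p := by
  constructor
  · rintro ⟨q, hq, hqp, ha⟩
    have h := LinearMap.aeval_self_charpoly (Algebra.lmul A A' a)
    rw [Polynomial.aeval_algHom_apply] at h
    have h' : Polynomial.aeval a (Algebra.lmul A A' a).charpoly = 0 := by
      simpa using LinearMap.congr_fun h (1 : A')
    rw [Algebra.norm_apply, LinearMap.det_eq_sign_charpoly_coeff]
    refine Ideal.mul_mem_left _ _ ?_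
    rw [Ideal.LiesOver.over (p := p) (P := q), Ideal.mem_comap]
    rw [← Polynomial.X_mul_divX_add (Algebra.lmul A A' a).charpoly] at h'
    simp only [map_add, map_mul, Polynomial.aeval_X, Polynomial.aeval_C] at h'
    rw [show algebraMap A A' ((Algebra.lmul A A' a).charpoly.coeff 0) = _ from eq_neg_of_add_eq_zero_right h']
    exact q.neg_mem (q.mul_mem_right _ ha)
  · intro hn
    by_cases hle : (Ideal.span {a}).comap (algebraMap A A') ≤ p
    · obtain ⟨q, hq, hprime, hqp⟩ := Ideal.exists_ideal_over_prime_of_isIntegral p _ hle
      exact ⟨q, hprime, ⟨hqp.symm⟩, hq (Ideal.mem_span_singleton_self a)⟩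
    · obtain ⟨s, hs, hsp⟩ := SetLike.not_le_iff_exists.1 hle
      obtain ⟨b, hb⟩ := Ideal.mem_span_singleton'.1 (Ideal.mem_comap.1 hs)
      have h := congrArg (Algebra.norm A) hb
      rw [map_mul, Algebra.norm_algebraMap] at h
      exact absurd (Ideal.IsPrime.mem_of_pow_mem inferInstance _ (h ▸ p.mul_mem_left _ hn)) hsp

end Groth.Agent.S5212
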