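import Groth.Statements.S5213
import Groth.Agent.Lib.H9SemilocalBasis

set_option autoImplicit false
set_option backward.isDefEq.respectTransparency.types false
universe u
open GrpQ

namespace Groth.Agent.S5213

/-- Let `B` be a local ring with infinite residue field, `A` a semi-local ring, `B → A` a ring map
carrying the maximal ideal of `B` into the Jacobson radical of `A`, `M` a finite free `A`-module and
`N` a `B`-submodule of `M` generating `M` as an `A`-module. Then `N` contains a basis of `M` over
`A`. -/
theorem result {B A M : Type u} [CommRing B] [CommRing A]
    [IsLocalRing B] [Infinite (IsLocalRing.ResidueField B)] [Algebra B A]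
    [Finite (MaximalSpectrum A)]
    (hBA : (IsLocalRing.maximalIdeal B).map (algebraMap B A) ≤ (⊥ : Ideal A).jacobson)
    [AddCommGroup M] [Module A M] [Module B M] [IsScalarTower B A M]
    [Module.Free A M] [Module.Finite A M]
    (N : Submodule B M) (hN : Submodule.span A (N : Set M) = ⊤) :
    ∃ b : Module.Basis (Fin (Module.finrank A M)) A M, ∀ i, b i ∈ N := by
  rcases subsingleton_or_nontrivial A with hA | hA
  · haveI : Subsingleton M := Module.subsingleton A M
    haveI : Subsingleton (Fin (Module.finrank A M) → A) := inferInstance
    refine ⟨Module.Basis.ofEquivFun (LinearEquiv.ofSubsingleton M (Fin (Module.finrank A M) → A)), fun i => ?_⟩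
    rw [Subsingleton.elim (Module.Basis.ofEquivFun _ i) 0]
    exact N.zero_mem
  · exact Groth.Agent.H9Semilocal.exists_basis_mem hBA (Module.finBasis A M) N hN

end Groth.Agent.S5213
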