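import Groth.Statements.S5216
import Mathlib

set_option autoImplicit false
set_option backward.isDefEq.respectTransparency.types false
open CategoryTheory CategoryTheory.Limits
universe w v₁ u₁
open ShfCat

namespace Groth.Agent.S5216

/-- The case of the chaotic topology, i.e. for presheaves of sets on an arbitrary category: every
equivalence relation is universally effective (its quotient exists, the relation is the kernel pair
of the quotient map, and that map is a universal effective epimorphism). -/
theorem result (C : Type u₁) [Category.{v₁} C]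
    {R X : Cᵒᵖ ⥤ Type w} (p₁ p₂ : R ⟶ X) [IsEquivalenceRelation p₁ p₂] :
    IsUniversallyEffectiveEquivalenceRelation p₁ p₂ := by
  obtain ⟨e⟩ := ‹IsEquivalenceRelation p₁ p₂›.nonempty_equivalenceRelation
  haveI : HasPullbacks (Cᵒᵖ ⥤ Type w) := inferInstance
  let P : Cᵒᵖ ⥤ Type w :=
    { obj := fun U => X.obj U × X.obj U
      map := fun g => TypeCat.ofHom fun xy => (X.map g xy.1, X.map g xy.2)
      map_id := fun U => by ext xy <;> simp
      map_comp := fun f g => by ext xy <;> simp }
  let m : R ⟶ P :=
    { app := fun U => TypeCat.ofHom fun r => (p₁.app U r, p₂.app U r)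
      naturality := fun U V g => by
        ext r
        · exact NatTrans.naturality_apply p₁ g r
        · exact NatTrans.naturality_apply p₂ g r }
  haveI hm : Mono m := ⟨fun a b h => e.right_cancellation a b
    (by ext U z; exact congrArg Prod.fst (ConcreteCategory.congr_hom (NatTrans.congr_app h U) z))
    (by ext U z; exact congrArg Prod.snd (ConcreteCategory.congr_hom (NatTrans.congr_app h U) z))⟩
  have hinj : ∀ (U : Cᵒᵖ) (r r' : R.obj U), p₁.app U r = p₁.app U r' → p₂.app U r = p₂.app U r' → r = r' :=
    fun U r r' h₁ h₂ => (CategoryTheory.mono_iff_injective (m.app U)).1 ((NatTrans.mono_iff_mono_app m).1 hm U) (Prod.ext h₁ h₂)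
  have hrel : ∀ U : Cᵒᵖ, Equivalence (fun x y : X.obj U => ∃ r : R.obj U, p₁.app U r = x ∧ p₂.app U r = y) := by
    intro U
    refine ⟨fun x => ⟨e.r.app U x, ?_, ?_⟩, fun ⟨r, h₁, h₂⟩ => ⟨e.s.app U r, ?_, ?_⟩, ?_⟩
    · exact ConcreteCategory.congr_hom (NatTrans.congr_app e.reflexivity₁ U) x
    · exact ConcreteCategory.congr_hom (NatTrans.congr_app e.reflexivity₂ U) x
    · exact (ConcreteCategory.congr_hom (NatTrans.congr_app e.symmetry₁ U) r).trans h₂
    · exact (ConcreteCategory.congr_hom (NatTrans.congr_app e.symmetry₂ U) r).trans h₁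
    · rintro x y z ⟨r, hr₁, hr₂⟩ ⟨r', hr₁', hr₂'⟩
      have sq := (IsPullback.of_isLimit e.isLimit).map ((CategoryTheory.evaluation Cᵒᵖ (Type w)).obj U)
      obtain ⟨q, hq, hq'⟩ := Types.exists_of_isPullback sq r r' (hr₂.trans hr₁'.symm)
      refine ⟨e.t.app U q, ?_, ?_⟩
      · exact (ConcreteCategory.congr_hom (NatTrans.congr_app e.transitivity₁ U) q).trans ((congrArg (p₁.app U) hq).trans hr₁)
      · exact (ConcreteCategory.congr_hom (NatTrans.congr_app e.transitivity₂ U) q).trans ((congrArg (p₂.app U) hq').trans hr₂')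
  let rel := fun (U : Cᵒᵖ) (x y : X.obj U) => ∃ r : R.obj U, p₁.app U r = x ∧ p₂.app U r = y
  let Q : Cᵒᵖ ⥤ Type w :=
    { obj := fun U => Quot (rel U)
      map := fun {U V} g => TypeCat.ofHom (Quot.map (X.map g) fun x y ⟨r, h₁, h₂⟩ => ⟨R.map g r,
        (NatTrans.naturality_apply p₁ g r).trans (congrArg _ h₁), (NatTrans.naturality_apply p₂ g r).trans (congrArg _ h₂)⟩)
      map_id := fun U => by
        ext q
        induction q using Quot.ind
        exact congrArg (Quot.mk _) (by simp)
      map_comp := fun f g => by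
        ext q
        induction q using Quot.ind
        exact congrArg (Quot.mk _) (by simp) }
  let π : X ⟶ Q := { app := fun U => TypeCat.ofHom (Quot.mk (rel U)), naturality := fun U V g => by ext x; rfl }
  have hw : p₁ ≫ π = p₂ ≫ π := by
    ext U r
    exact Quot.sound ⟨r, rfl, rfl⟩
  have hKP : IsKernelPair π p₁ p₂ := by
    have hex : ∀ (s : PullbackCone π π) (U : Cᵒᵖ) (z : s.pt.obj U), ∃ r : R.obj U, p₁.app U r = s.fst.app U z ∧ p₂.app U r = s.snd.app U z :=
      fun s U z => (hrel U).eqvGen_iff.1 (Quot.eqvGen_exact (ConcreteCategory.congr_hom (NatTrans.congr_app s.condition U) z))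
    choose l hl₁ hl₂ using hex
    refine IsPullback.of_isLimit' ⟨hw⟩ (PullbackCone.IsLimit.mk hw
      (fun s => { app := fun U => TypeCat.ofHom (l s U), naturality := fun U V g => ?_ })
      (fun s => by ext U z; exact hl₁ s U z) (fun s => by ext U z; exact hl₂ s U z)
      (fun s m h₁ h₂ => by
        ext U z
        exact hinj U _ _ ((ConcreteCategory.congr_hom (NatTrans.congr_app h₁ U) z).trans (hl₁ s U z).symm)
          ((ConcreteCategory.congr_hom (NatTrans.congr_app h₂ U) z).trans (hl₂ s U z).symm)))
    ext z
    refine hinj V _ _ ?_ ?_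
    · exact ((hl₁ s V _).trans (NatTrans.naturality_apply s.fst g z)).trans
        ((congrArg (X.map g) (hl₁ s U z)).symm.trans (NatTrans.naturality_apply p₁ g _).symm)
    · exact ((hl₂ s V _).trans (NatTrans.naturality_apply s.snd g z)).trans
        ((congrArg (X.map g) (hl₂ s U z)).symm.trans (NatTrans.naturality_apply p₂ g _).symm)
  have hPO : IsPushout p₁ p₂ π π := by
    have hab : ∀ s : PushoutCocone p₁ p₂, s.inl = s.inr := fun s => by
      have h := congrArg (e.r ≫ ·) s.condition
      simpa only [← Category.assoc, e.reflexivity₁, e.reflexivity₂, Category.id_comp] using h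
    refine IsPushout.of_isColimit' ⟨hw⟩ (PushoutCocone.IsColimit.mk hw
      (fun s =>
        { app := fun U => TypeCat.ofHom (Quot.lift (s.inl.app U) fun x y ⟨r, h₁, h₂⟩ => ?_)
          naturality := fun U V g => by
            ext q
            induction q using Quot.ind
            exact NatTrans.naturality_apply s.inl g _ })
      (fun s => by ext U x; rfl) (fun s => by rw [← hab s]; ext U x; rfl)
      (fun s m h₁ h₂ => by
        ext U q
        induction q using Quot.ind
        exact ConcreteCategory.congr_hom (NatTrans.congr_app h₁ U) _))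
    rw [← h₁, ← h₂]
    conv_rhs => rw [hab s]
    exact ConcreteCategory.congr_hom (NatTrans.congr_app s.condition U) r
  refine ⟨⟨{ e with B := Q, π := π, isKernelPair := hKP, isPushout := hPO, universally_effectiveEpi_π := ?_ }⟩⟩
  intro X' Y' i₁ i₂ f' h
  haveI : Epi f' := by
    haveI : ∀ U, Epi (f'.app U) := fun U => by
      rw [CategoryTheory.epi_iff_surjective]
      intro y
      obtain ⟨x, hx⟩ := Quot.exists_rep (i₂.app U y)
      obtain ⟨q, hq, -⟩ := Types.exists_of_isPullback (h.map ((CategoryTheory.evaluation Cᵒᵖ (Type w)).obj U)) y x hx.symm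
      exact ⟨q, hq⟩
    exact NatTrans.epi_of_epi_app _
  haveI := IsRegularEpiCategory.regularEpiOfEpi f'
  exact (isRegularEpi_iff_effectiveEpi f').1 this

end Groth.Agent.S5216
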