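import Groth.Statements.S5217
import Mathlib

set_option autoImplicit false
open CategoryTheory CategoryTheory.Limits
universe w v₁ u₁
open ShfCat

namespace Groth.Agent.S5217

/-- In the category of sheaves of sets on a site, every equivalence relation is universally effective
(its quotient sheaf exists, the relation is the kernel pair of the quotient map, and that map is a
universal effective epimorphism). Stated for sheaves valued in `Type w` whenever sheafification
exists. -/
theorem result {C : Type u₁} [Category.{v₁} C]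
    (J : GrothendieckTopology C) [HasSheafify J (Type w)]
    {R X : Sheaf J (Type w)} (p₁ p₂ : R ⟶ X) [IsEquivalenceRelation p₁ p₂] :
    IsUniversallyEffectiveEquivalenceRelation p₁ p₂ := by
  obtain ⟨e⟩ := IsEquivalenceRelation.nonempty_equivalenceRelation (p₁ := p₁) (p₂ := p₂)
  let F := sheafToPresheaf J (Type w)
  let q₁ : R.obj ⟶ X.obj := p₁.hom
  let q₂ : R.obj ⟶ X.obj := p₂.hom
  -- pointwise equivalence relations
  have hpt : ∀ c, Equivalence (TypeCat.Rel.ofPair (q₁.app c) (q₂.app c)) ∧ JointlyMono₂ (q₁.app c) (q₂.app c) := fun c => by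
    let G := F ⋙ (evaluation _ _).obj c
    haveI hj : JointlyMono₂ (G.map p₁) (G.map p₂) := by
      constructor
      intro Y f g h₁ h₂
      ext y
      have : Mono (Limits.prod.lift p₁ p₂) := ⟨fun a b h => e.right_cancellation a b
        (by simpa only [Category.assoc, Limits.prod.lift_fst] using congrArg (fun u => u ≫ Limits.prod.fst) h)
        (by simpa only [Category.assoc, Limits.prod.lift_snd] using congrArg (fun u => u ≫ Limits.prod.snd) h)⟩
      have hm : Mono (G.map (Limits.prod.lift p₁ p₂)) := G.map_mono _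
      refine ConcreteCategory.congr_hom ((cancel_mono (G.map (Limits.prod.lift p₁ p₂))).1
        ((Limits.isLimitOfHasBinaryProductOfPreservesLimit G X X).hom_ext (fun j => ?_))) y
      rcases j with ⟨(_ | _)⟩
      · change (f ≫ G.map _) ≫ G.map Limits.prod.fst = (g ≫ G.map _) ≫ G.map Limits.prod.fst
        rw [Category.assoc, Category.assoc, ← G.map_comp, Limits.prod.lift_fst]; exact h₁
      · change (f ≫ G.map _) ≫ G.map Limits.prod.snd = (g ≫ G.map _) ≫ G.map Limits.prod.snd
        rw [Category.assoc, Category.assoc, ← G.map_comp, Limits.prod.lift_snd]; exact h₂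
    let r := e.toReflexiveRelation.map G
    let s := e.toSymmetricRelation.map G
    let t := e.toTransitiveRelation.map G
    exact ⟨⟨(TypeCat.refl_of_reflexiveRelation r).refl, (TypeCat.symm_of_symmetricRelation s).symm _ _,
      (TypeCat.isTrans_of_transitiveRelation t).trans _ _ _⟩, hj⟩
  let Q := Limits.coequalizer q₁ q₂
  let π := Limits.coequalizer.π q₁ q₂
  have hk : IsPullback q₁ q₂ π π := by
    refine IsPullback.of_forall_isPullback_app fun c => ?_
    have hc := Limits.isColimitCoforkMapOfIsColimit ((evaluation _ (Type w)).obj c) _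
      (Limits.coequalizerIsCoequalizer q₁ q₂)
    rw [Limits.Types.isPullback_iff]
    refine ⟨congr_app (Limits.coequalizer.condition q₁ q₂) c, fun a b h => ?_, fun a b h => ?_⟩
    · exact ConcreteCategory.congr_hom ((hpt c).2.right_cancellation
        (↾fun _ : PUnit => a) (↾fun _ : PUnit => b) (by ext; exact h.1) (by ext; exact h.2)) PUnit.unit
    · have hU := Limits.Types.coequalizer_preimage_image_eq_of_preimage_eq (q₁.app c) (q₂.app c)
        ((Limits.coequalizer.π q₁ q₂).app c) (congr_app (Limits.coequalizer.condition q₁ q₂) c) hc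
        {x | TypeCat.Rel.ofPair (q₁.app c) (q₂.app c) a x} (Set.ext fun r =>
          ⟨fun h => (hpt c).1.trans h ⟨r, rfl, rfl⟩, fun h => (hpt c).1.trans h ((hpt c).1.symm ⟨r, rfl, rfl⟩)⟩)
      have hb : b ∈ {x | TypeCat.Rel.ofPair (q₁.app c) (q₂.app c) a x} := hU ▸ (⟨a, (hpt c).1.refl a, h⟩ : b ∈ _ ⁻¹' (_ '' _))
      obtain ⟨r, hr⟩ := hb
      exact ⟨r, hr⟩
  let S := presheafToSheaf J (Type w)
  let adj := sheafificationAdjunction J (Type w)
  let εR := asIso (adj.counit.app R)
  let εX := asIso (adj.counit.app X)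
  let π' : X ⟶ S.obj Q := εX.inv ≫ S.map π
  have n₁ : S.map q₁ ≫ εX.hom = εR.hom ≫ p₁ := adj.counit.naturality p₁
  have n₂ : S.map q₂ ≫ εX.hom = εR.hom ≫ p₂ := adj.counit.naturality p₂
  have hP : IsPullback p₁ p₂ π' π' := by
    refine (hk.map S).of_iso εR εX εX (Iso.refl _) n₁ n₂ ?_ ?_ <;> simp [π']
  have hC : Limits.IsColimit (Limits.Cofork.ofπ π' hP.w) := by
    have hc := Limits.isColimitCoforkMapOfIsColimit S _ (Limits.coequalizerIsCoequalizer q₁ q₂)
    refine (Limits.Cofork.isColimitEquivOfIsos _ _ εR εX (Iso.refl _) n₁.symm n₂.symm ?_).toFun hc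
    simp [π', π]
  have hrefl : ∀ {W : Sheaf J (Type w)} (a b : X ⟶ W), p₁ ≫ a = p₂ ≫ b → a = b := fun a b h => by
    have := congrArg (e.r ≫ ·) h
    simpa [e.reflexivity₁_assoc, e.reflexivity₂_assoc] using this
  have hPO : IsPushout p₁ p₂ π' π' := by
    refine ⟨⟨hP.w⟩, ⟨Limits.PushoutCocone.IsColimit.mk hP.w (fun s => Limits.Cofork.IsColimit.desc hC s.inl
      (by rw [s.condition, hrefl s.inl s.inr s.condition]))
      (fun s => Limits.Cofork.IsColimit.π_desc' hC _ _)
      (fun s => (Limits.Cofork.IsColimit.π_desc' hC _ _).trans (hrefl s.inl s.inr s.condition))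
      (fun s m hm _ => Limits.Cofork.IsColimit.hom_ext hC (hm.trans (Limits.Cofork.IsColimit.π_desc' hC _ _).symm))⟩⟩
  refine ⟨⟨{ toEquivalenceRelation := e, B := S.obj Q, π := π', isKernelPair := hP, isPushout := hPO,
             universally_effectiveEpi_π := ?_ }⟩⟩
  intro T W a b f' sq
  have : Epi π' := Limits.Cofork.IsColimit.epi hC
  have hs : Sheaf.IsLocallySurjective π' := (Sheaf.isLocallySurjective_iff_epi π').2 this
  have : Sheaf.IsLocallySurjective f' := ⟨fun {c} t => by
    refine J.superset_covering ?_ (Presheaf.imageSieve_mem J π'.hom (b.hom.app _ t))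
    rintro d g ⟨x, hx⟩
    have hsq := (sq.map (F ⋙ (evaluation _ _).obj (Opposite.op d))).flip
    obtain ⟨z, _, hz⟩ := Limits.Types.exists_of_isPullback hsq x (W.obj.map g.op t)
      (hx.trans (ConcreteCategory.congr_hom (b.hom.naturality g.op) t).symm)
    exact ⟨z, hz⟩⟩
  have : Epi f' := inferInstance
  have := IsRegularEpiCategory.regularEpiOfEpi f'
  infer_instance

end Groth.Agent.S5217
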