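import Groth.Statements.S5222
import Mathlib

set_option autoImplicit false
set_option backward.isDefEq.respectTransparency.types false
set_option maxHeartbeats 1000000
set_option linter.all false
open CategoryTheory CategoryTheory.Limits MonoidalCategory
universe v₁ u₁
open DescCat

namespace Groth.Agent.S5222
open Groth.Agent

open MonObj CartesianMonoidalCategory SemiCartesianMonoidalCategory in
/-- In a cartesian monoidal category with pullbacks: for a homomorphism `f : G ⟶ G'` of group objects
with kernel `K = G ×_{G'} e`, the pair `G × K ⇉ G` given by the projection and by multiplication is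
the kernel pair of `f`. -/
theorem result {C : Type u₁} [Category.{v₁} C]
    [CartesianMonoidalCategory C] [HasPullbacks C]
    {G G' : C} [GrpObj G] [GrpObj G'] (f : G ⟶ G') [IsMonHom f] :
    IsKernelPair f (fst G (pullback f η[G']))
      ((G ◁ pullback.fst f η[G']) ≫ μ[G]) := by
  have hm : ∀ {T : C} (x : T ⟶ G ⊗ pullback f η[G']), x ≫ ((G ◁ pullback.fst f η[G']) ≫ μ[G]) = (x ≫ fst _ _) * (x ≫ snd _ _ ≫ pullback.fst f η[G']) := by
    intro T x
    rw [CategoryTheory.Hom.mul_def, ← Category.assoc]
    congr 1
    ext <;> simp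
  have hk : pullback.fst f η[G'] ≫ f = (1 : pullback f η[G'] ⟶ G') := by
    rw [pullback.condition, CategoryTheory.Hom.one_def, toUnit_unique (pullback.snd f η[G']) (toUnit _)]
  have w : fst G (pullback f η[G']) ≫ f = ((G ◁ pullback.fst f η[G']) ≫ μ[G]) ≫ f := by
    have h := congrArg (· ≫ f) (hm (𝟙 (G ⊗ pullback f η[G'])))
    simp only [Category.id_comp, MonObj.mul_comp, Category.assoc, hk, MonObj.comp_one, _root_.mul_one] at h
    rw [Category.assoc]
    exact h.symm
  refine IsPullback.of_isLimit' ⟨w⟩ (PullbackCone.IsLimit.mk w (fun s => lift s.fst (pullback.lift (s.fst⁻¹ * s.snd) (toUnit _) ?_)) (fun s => ?_) (fun s => ?_) ?_)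
  · rw [MonObj.mul_comp, GrpObj.inv_comp, s.condition, inv_mul_cancel, CategoryTheory.Hom.one_def]
  · simp
  · rw [hm]
    simp only [lift_fst, lift_snd_assoc]
    rw [pullback.lift_fst, mul_inv_cancel_left]
  · intro s m h1 h2
    rw [hm, h1] at h2
    ext
    · simp [h1]
    · simp only [lift_snd, pullback.lift_fst, Category.assoc]
      rw [eq_inv_mul_iff_mul_eq]
      exact h2

end Groth.Agent.S5222
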