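import Groth.Statements.S5228
import Mathlib

set_option autoImplicit false
universe w u
open HopfRep

namespace Groth.Agent.S5228
open TensorProduct in

/-- Over an affine base, in comodule form: for a representation `V` of a diagonalizable group `D(M)`
over a commutative ring `k` (a `k[M]`-comodule), every sub-representation which is a direct summand
as a `k`-module is a direct summand as a representation. (The published statement: a short exact
sequence of quasi-coherent `D(M)`-modules that splits as a sequence of modules splits
equivariantly.) -/
theorem result {k : Type u} [CommRing k] {M : Type u} [CommGroup M]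
    (V : Type w) [AddCommGroup V] [Module k V] [HopfRep.Comod k (MonoidAlgebra k M) V]
    (W : Submodule k V) (hW : HopfRep.IsSubcomod (k := k) (A := MonoidAlgebra k M) W)
    (hsplit : ∃ W' : Submodule k V, IsCompl W W') :
    ∃ W'' : Submodule k V, HopfRep.IsSubcomod (k := k) (A := MonoidAlgebra k M) W'' ∧ IsCompl W W'' := by
  classical
  obtain ⟨W', hW'⟩ := hsplit
  let p : V →ₗ[k] V := W.subtype ∘ₗ Submodule.projectionOnto W W' hW'
  have hpW : ∀ x, p x ∈ W := fun x => Subtype.mem _
  have hpid : ∀ w ∈ W, p w = w := fun w hw =>
    congrArg Subtype.val (Submodule.projectionOnto_apply_left hW' ⟨w, hw⟩)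
  let A := MonoidAlgebra k M
  let ρ := HopfRep.Comod.coact (k := k) (A := MonoidAlgebra k M) (V := V)
  let bas : Module.Basis M k (MonoidAlgebra k M) := MonoidAlgebra.basis M k
  have hbas : ∀ m, bas m = MonoidAlgebra.single m (1 : k) := fun m => by simp [bas]
  let ctr : (MonoidAlgebra k M →ₗ[k] k) → (V ⊗[k] MonoidAlgebra k M →ₗ[k] V) :=
    fun f => (TensorProduct.rid k V).toLinearMap ∘ₗ f.lTensor V
  let T : MonoidAlgebra k M →ₗ[k] (V →ₗ[k] V) := bas.constr k fun m => ctr (bas.coord m) ∘ₗ ρ
  let L : V ⊗[k] MonoidAlgebra k M →ₗ[k] V := TensorProduct.lift T.flip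
  have hL : ∀ x m, L (x ⊗ₜ bas m) = ctr (bas.coord m) (ρ x) := fun x m => by simp [L, T]
  have hΔ : ∀ m, CoalgebraStruct.comul (R := k) (bas m) = bas m ⊗ₜ[k] bas m := fun m => by simp [hbas]
  have hπ : ∀ (m : M) (x : V), ρ (ctr (bas.coord m) (ρ x)) = ctr (bas.coord m) (ρ x) ⊗ₜ bas m := by
    intro m x
    have hc := LinearMap.congr_fun (HopfRep.Comod.coassoc (k := k) (A := MonoidAlgebra k M) (V := V)) x
    simp only [LinearMap.comp_apply, LinearEquiv.coe_coe] at hc
    let Q : V ⊗[k] (MonoidAlgebra k M ⊗[k] MonoidAlgebra k M) →ₗ[k] V ⊗[k] MonoidAlgebra k M :=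
      ((TensorProduct.rid k _).toLinearMap ∘ₗ (bas.coord m).lTensor (MonoidAlgebra k M)).lTensor V
    have k1 : ∀ z : V ⊗[k] MonoidAlgebra k M, ρ (ctr (bas.coord m) z) =
        Q (TensorProduct.assoc k V _ _ (ρ.rTensor _ z)) := by
      intro z
      induction z using TensorProduct.induction_on with
      | zero => simp
      | tmul y a =>
        simp only [ctr, LinearMap.comp_apply, LinearEquiv.coe_coe, LinearMap.lTensor_tmul, TensorProduct.rid_tmul,
          map_smul, LinearMap.rTensor_tmul]
        generalize ρ y = t
        induction t using TensorProduct.induction_on with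
        | zero => simp
        | tmul c d => simp [Q]
        | add c d hc hd => simp only [map_add, smul_add, add_tmul, hc, hd]
      | add y z hy hz => simp only [map_add, hy, hz]
    rw [k1, hc]
    generalize ρ x = z
    induction z using TensorProduct.induction_on with
    | zero => simp [ctr]
    | tmul y a =>
      induction a using MonoidAlgebra.induction_linear with
      | zero => simp [ctr]
      | add c d hc hd => simp only [tmul_add, map_add, add_tmul, hc, hd]
      | single n r =>
        rw [show MonoidAlgebra.single n r = r • bas n by simp [hbas]]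
        simp only [tmul_smul, map_smul, LinearMap.lTensor_tmul, hΔ, Q, ctr, LinearMap.comp_apply,
          LinearEquiv.coe_coe, TensorProduct.rid_tmul, Module.Basis.coord_apply, Module.Basis.repr_self,
          Finsupp.single_apply, smul_tmul']
        split_ifs with h
        · subst h; simp [smul_tmul']
        · simp
    | add y z hy hz => simp only [map_add, add_tmul, hy, hz]
  have hLρ : ∀ x, L (ρ x) = x := by
    intro x
    have hc := LinearMap.congr_fun (HopfRep.Comod.coassoc (k := k) (A := MonoidAlgebra k M) (V := V)) x
    have hu := LinearMap.congr_fun (HopfRep.Comod.counit_comp (k := k) (A := MonoidAlgebra k M) (V := V)) x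
    simp only [LinearMap.comp_apply, LinearEquiv.coe_coe, LinearMap.flip_apply, TensorProduct.mk_apply] at hc hu
    let B : MonoidAlgebra k M →ₗ[k] (MonoidAlgebra k M →ₗ[k] k) := bas.constr k fun m => bas.coord m
    let Q : V ⊗[k] (MonoidAlgebra k M ⊗[k] MonoidAlgebra k M) →ₗ[k] V :=
      (TensorProduct.rid k V).toLinearMap ∘ₗ (TensorProduct.lift B.flip).lTensor V
    have k1 : ∀ z : V ⊗[k] MonoidAlgebra k M, L z = Q (TensorProduct.assoc k V _ _ (ρ.rTensor _ z)) := by
      intro z
      induction z using TensorProduct.induction_on with
      | zero => simp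
      | tmul y a =>
        induction a using MonoidAlgebra.induction_linear with
        | zero => simp
        | add c d hc hd => simp only [tmul_add, map_add, hc, hd]
        | single n r =>
          rw [show MonoidAlgebra.single n r = r • bas n by simp [hbas]]
          simp only [tmul_smul, map_smul, hL, LinearMap.rTensor_tmul]
          congr 1
          generalize ρ y = t
          induction t using TensorProduct.induction_on with
          | zero => simp [ctr]
          | tmul c d => simp [Q, B, ctr]
          | add c d hc hd => simp only [map_add, add_tmul, hc, hd]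
      | add y z hy hz => simp only [map_add, hy, hz]
    rw [k1, hc]
    have k2 : ∀ z : V ⊗[k] MonoidAlgebra k M, Q ((CoalgebraStruct.comul (R := k)).lTensor V z) =
        TensorProduct.rid k V ((CoalgebraStruct.counit (R := k)).lTensor V z) := by
      intro z
      induction z using TensorProduct.induction_on with
      | zero => simp
      | tmul y a =>
        induction a using MonoidAlgebra.induction_linear with
        | zero => simp
        | add c d hc hd => simp only [tmul_add, map_add, hc, hd]
        | single n r =>
          rw [show MonoidAlgebra.single n r = r • bas n by simp [hbas]]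
          simp only [tmul_smul, map_smul, LinearMap.lTensor_tmul, hΔ]
          congr 1
          simp [Q, B]
          simp [hbas]
      | add y z hy hz => simp only [map_add, hy, hz]
    rw [k2, hu, TensorProduct.rid_tmul, one_smul]
  let q : V →ₗ[k] V := L ∘ₗ p.rTensor _ ∘ₗ ρ
  have hq : ∀ x, ρ (q x) = q.rTensor _ (ρ x) := by
    intro x
    have hc := LinearMap.congr_fun (HopfRep.Comod.coassoc (k := k) (A := MonoidAlgebra k M) (V := V)) x
    simp only [LinearMap.comp_apply, LinearEquiv.coe_coe] at hc
    have k1 : ∀ z : V ⊗[k] MonoidAlgebra k M, q.rTensor _ z =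
        (L ∘ₗ p.rTensor _).rTensor _ ((TensorProduct.assoc k V _ _).symm (TensorProduct.assoc k V _ _ (ρ.rTensor _ z))) := by
      intro z
      rw [LinearEquiv.symm_apply_apply, ← LinearMap.rTensor_comp_apply]
      rfl
    rw [k1, hc]
    show ρ (L (p.rTensor _ (ρ x))) = _
    generalize ρ x = z
    induction z using TensorProduct.induction_on with
    | zero => simp
    | tmul y a =>
      induction a using MonoidAlgebra.induction_linear with
      | zero => simp
      | add c d hc hd => simp only [tmul_add, map_add, hc, hd]
      | single n r =>
        rw [show MonoidAlgebra.single n r = r • bas n by simp [hbas]]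
        simp only [tmul_smul, map_smul, LinearMap.rTensor_tmul, hL, hπ, LinearMap.lTensor_tmul, hΔ,
          TensorProduct.assoc_symm_tmul, LinearMap.comp_apply]
    | add y z hy hz => simp only [map_add, hy, hz]
  have hqW : ∀ x, q x ∈ W := by
    intro x
    show L (p.rTensor _ (ρ x)) ∈ W
    generalize ρ x = z
    induction z using TensorProduct.induction_on with
    | zero => simp
    | tmul y a =>
      induction a using MonoidAlgebra.induction_linear with
      | zero => simp
      | add c d hc hd => simp only [tmul_add, map_add]; exact add_mem hc hd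
      | single n r =>
        rw [show MonoidAlgebra.single n r = r • bas n by simp [hbas]]
        simp only [tmul_smul, map_smul, LinearMap.rTensor_tmul, hL]
        refine W.smul_mem _ ?_
        obtain ⟨t, ht⟩ := hW (p y) (hpW y)
        show ctr (bas.coord n) (HopfRep.Comod.coact (p y)) ∈ W
        rw [← ht]
        clear ht
        induction t using TensorProduct.induction_on with
        | zero => simp
        | tmul c d => simp [ctr, W.smul_mem _ c.2]
        | add c d hc hd => simp only [map_add]; exact add_mem hc hd
    | add y z hy hz => simp only [map_add]; exact add_mem hy hz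
  have hqid : ∀ w ∈ W, q w = w := by
    intro w hw
    show L (p.rTensor _ (ρ w)) = w
    obtain ⟨t, ht⟩ := hW w hw
    show L (p.rTensor _ (HopfRep.Comod.coact w)) = w
    rw [← ht, ← LinearMap.rTensor_comp_apply, show p ∘ₗ W.subtype = W.subtype from LinearMap.ext fun c => hpid c c.2, ht]
    exact hLρ w
  refine ⟨LinearMap.ker q, fun x hx => ?_, ?_, ?_⟩
  · let s : V →ₗ[k] LinearMap.ker q := LinearMap.codRestrict _ (LinearMap.id - q) fun y => by
      simp [LinearMap.mem_ker, hqid _ (hqW y)]
    refine ⟨s.rTensor _ (ρ x), ?_⟩
    rw [← LinearMap.rTensor_comp_apply, show (LinearMap.ker q).subtype ∘ₗ s = LinearMap.id - q from rfl,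
      LinearMap.rTensor_sub, LinearMap.sub_apply, ← hq, LinearMap.mem_ker.mp hx, map_zero, sub_zero]
    simp
    rfl
  · rw [Submodule.disjoint_def]
    intro x hx hx'
    rw [← hqid x hx]; exact hx'
  · rw [codisjoint_iff, Submodule.eq_top_iff']
    intro x
    rw [← add_sub_cancel (q x) x]
    exact Submodule.add_mem_sup (hqW x) (by simp [LinearMap.mem_ker, hqid _ (hqW x)])

end Groth.Agent.S5228
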