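import Groth.Statements.S5235
import Mathlib

set_option autoImplicit false
open CategoryTheory CategoryTheory.Limits AlgebraicGeometry
universe u
open GrpQ

namespace Groth.Agent.S5235


theorem subobj_eq_of_range {X : Scheme.{u}} (A B : Subobject X) (hA : IsOpenImmersion A.arrow)
    (hB : IsOpenImmersion B.arrow) (h : Set.range A.arrow = Set.range B.arrow) : A = B :=
  Subobject.eq_of_comm (IsOpenImmersion.isoOfRangeEq A.arrow B.arrow h)
    (IsOpenImmersion.isoOfRangeEq_hom_fac A.arrow B.arrow h)

theorem range_pullback_arrow {X X' : Scheme.{u}} (f : X ⟶ X') (A : Subobject X') :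
    Set.range ((Subobject.pullback f).obj A).arrow = f ⁻¹' Set.range A.arrow := by
  rw [Subobject.pullback_obj]
  rw [← Scheme.Pullback.range_snd]
  conv_rhs => rw [← Subobject.underlyingIso_arrow (Limits.pullback.snd A.arrow f)]
  rw [Scheme.Hom.comp_base, TopCat.coe_comp]
  exact (Function.Surjective.range_comp (Subobject.underlyingIso (Limits.pullback.snd A.arrow f)).inv.surjective _).symm

theorem isOpenImmersion_pullback_arrow {X X' : Scheme.{u}} (f : X ⟶ X') (A : Subobject X')
    (h : IsOpenImmersion A.arrow) : IsOpenImmersion ((Subobject.pullback f).obj A).arrow := by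
  rw [Subobject.pullback_obj]
  haveI := h
  have : (Subobject.mk (Limits.pullback.snd A.arrow f)).arrow =
      (Subobject.underlyingIso _).hom ≫ Limits.pullback.snd A.arrow f := by simp
  rw [this]
  infer_instance

/-- For schemes, with (M) the faithfully flat quasi-compact morphisms and (N) the open immersions: if `π
: X ⟶ X'` is flat, surjective and quasi-compact, then `Y' ↦ π⁻¹(Y')` is a bijection from open
subschemes of `X'` onto the open subschemes of `X` stable under the kernel pair of `π`. -/
theorem result {X X' : Scheme.{u}} (π : X ⟶ X')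
    [Flat π] [Surjective π] [QuasiCompact π] :
    Set.BijOn (Subobject.pullback π).obj
      {Y' : Subobject X' | IsOpenImmersion Y'.arrow}
      {Y : Subobject X | IsOpenImmersion Y.arrow ∧
        (Subobject.pullback (pullback.fst π π)).obj Y = (Subobject.pullback (pullback.snd π π)).obj Y} := by
  refine ⟨fun A hA => ⟨isOpenImmersion_pullback_arrow π A hA, ?_⟩, fun A hA B hB hAB => ?_, ?_⟩
  · show (Subobject.pullback _).obj ((Subobject.pullback π).obj A) = (Subobject.pullback _).obj ((Subobject.pullback π).obj A)
    rw [← Subobject.pullback_comp, ← Subobject.pullback_comp, Limits.pullback.condition]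
  · refine subobj_eq_of_range A B hA hB (π.surjective.preimage_injective ?_)
    show π ⁻¹' _ = π ⁻¹' _
    rw [← range_pullback_arrow, ← range_pullback_arrow, hAB]
  · rintro Y ⟨hY, hst⟩
    set T := Set.range Y.arrow with hT
    have hsat : π ⁻¹' (π '' T) = T := by
      refine Set.Subset.antisymm ?_ (Set.subset_preimage_image _ _)
      rintro x ⟨y, hy, hxy⟩
      obtain ⟨z, hz1, hz2⟩ := Scheme.Pullback.exists_preimage_pullback (f := π) (g := π) y x hxy
      have h1 : Limits.pullback.fst π π ⁻¹' T = Limits.pullback.snd π π ⁻¹' T := by
        rw [hT, ← range_pullback_arrow, ← range_pullback_arrow, hst]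
      have hz : z ∈ Limits.pullback.fst π π ⁻¹' T := by
        show Limits.pullback.fst π π z ∈ T
        rw [hz1]; exact hy
      rw [h1] at hz
      have hz' : Limits.pullback.snd π π z ∈ T := hz
      rwa [hz2] at hz'
    have hopen : IsOpen (π '' T) := by
      rw [← (Flat.isQuotientMap_of_surjective π).isOpen_preimage, hsat]
      haveI := hY
      exact Y.arrow.isOpenEmbedding.isOpen_range
    let W : X'.Opens := ⟨π '' T, hopen⟩
    have hWimm : IsOpenImmersion (Subobject.mk W.ι).arrow := by
      have : (Subobject.mk W.ι).arrow = (Subobject.underlyingIso W.ι).hom ≫ W.ι := by simp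
      rw [this]; infer_instance
    have hWr : Set.range (Subobject.mk W.ι).arrow = π '' T := by
      have hr : Set.range W.ι = π '' T := W.range_ι
      rw [← hr]
      conv_rhs => rw [← Subobject.underlyingIso_arrow W.ι]
      rw [Scheme.Hom.comp_base, TopCat.coe_comp]
      exact (Function.Surjective.range_comp (Subobject.underlyingIso W.ι).inv.surjective _).symm
    refine ⟨Subobject.mk W.ι, hWimm, subobj_eq_of_range _ _ (isOpenImmersion_pullback_arrow π _ hWimm) hY ?_⟩
    rw [range_pullback_arrow, hWr, hsat]

end Groth.Agent.S5235
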