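import Groth.Statements.S5239
import Mathlib
import Groth.Agent.Lib.H8Mult

set_option autoImplicit false
universe u
open TensorProduct SGA3b
open SGA3b

namespace Groth.Agent.S5239

/-- Existence of the lifting; case of an affine target group: Let R be a ring, I a nilpotent ideal of R,
H = Spec A an R-group of multiplicative type and G = Spec C an affine R-group with C smooth over R.
Then every homomorphism of (R/I)-groups H₀ ⟶ G₀ between the reductions modulo I, i.e. every
bialgebra map φ₀ : C₀ → A₀ over R/I, is the reduction of a homomorphism of R-groups H ⟶ G: there is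
a bialgebra map φ : C → A over R with φ₀ (1 ⊗ c) = 1 ⊗ φ c for all c. (The published statement
allows any S-group G smooth over the base; this row takes G affine.) (Affine group schemes over an
affine base are taken in Hopf-algebra form; base change is the tensor product; a homomorphism of
groups Spec A ⟶ Spec C is a bialgebra map C → A.) -/
theorem result (R : Type u) [CommRing R] (I : Ideal R) (hI : IsNilpotent I)
    (A : Type u) [CommRing A] [HopfAlgebra R A] (hH : IsMultType R A)
    (C : Type u) [CommRing C] [HopfAlgebra R C] [Algebra.Smooth R C]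
    (φ₀ : ((R ⧸ I) ⊗[R] C) →ₐc[R ⧸ I] ((R ⧸ I) ⊗[R] A)) :
    ∃ φ : C →ₐc[R] A, ∀ c : C, φ₀ ((1 : R ⧸ I) ⊗ₜ[R] c) = (1 : R ⧸ I) ⊗ₜ[R] (φ c) := by
  obtain ⟨J, hJ1, hJ⟩ := H8Mult.exists_haar_mod hH I
  let q : A →ₐ[R] (R ⧸ I) ⊗[R] A := Algebra.TensorProduct.includeRight
  have hsurj : Function.Surjective q := by
    intro z
    induction z using TensorProduct.induction_on with
    | zero => exact ⟨0, map_zero q⟩
    | tmul r a =>
      obtain ⟨r, rfl⟩ := Ideal.Quotient.mk_surjective r
      refine ⟨r • a, ?_⟩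
      show (1 : R ⧸ I) ⊗ₜ[R] (r • a) = _
      rw [← TensorProduct.smul_tmul, ← Ideal.Quotient.algebraMap_eq, ← Algebra.algebraMap_eq_smul_one]
    | add x y hx hy =>
      obtain ⟨a, rfl⟩ := hx
      obtain ⟨b, rfl⟩ := hy
      exact ⟨a + b, map_add q a b⟩
  have hnil : IsNilpotent (RingHom.ker (q : A →+* (R ⧸ I) ⊗[R] A)) := by
    obtain ⟨N, hN⟩ := hI
    refine ⟨N, le_bot_iff.mp ?_⟩
    refine (Ideal.pow_right_mono (J := I.map (algebraMap R A)) (fun x hx => ?_) N).trans ?_
    · exact (H8MultCore.mem_map_iff I x).mpr (H8Mult.mem_smul_top_of_one_tmul_eq_zero hx)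
    · rw [← Ideal.map_pow, hN, Ideal.zero_eq_bot, Ideal.map_bot]
  let g : C →ₐ[R] (R ⧸ I) ⊗[R] A :=
    ((φ₀ : ((R ⧸ I) ⊗[R] C) →ₐ[R ⧸ I] ((R ⧸ I) ⊗[R] A)).restrictScalars R).comp Algebra.TensorProduct.includeRight
  let ψ₀ := Algebra.FormallySmooth.liftOfSurjective g q hsurj hnil
  have hψ₀ : ∀ c, (1 : R ⧸ I) ⊗ₜ[R] ψ₀ c = φ₀ ((1 : R ⧸ I) ⊗ₜ[R] c) := fun c =>
    Algebra.FormallySmooth.liftOfSurjective_apply g q hsurj hnil c
  obtain ⟨φ, hφ⟩ := H8MultCore.exists_bialgHom_lift J hJ1 I hI hJ ψ₀ fun c => by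
    refine H8Mult.mem_smul_top_of_sq_eq_zero ?_
    rw [map_sub, ← H8Mult.comul_one_tmul, hψ₀, sub_eq_zero, ← CoalgHomClass.map_comp_comul_apply φ₀,
      H8Mult.comul_one_tmul]
    generalize CoalgebraStruct.comul (R := R) c = z
    induction z using TensorProduct.induction_on with
    | zero => simp
    | tmul a b => simp [hψ₀]
    | add x y hx hy => simp only [map_add, hx, hy]
  refine ⟨φ, fun c => ?_⟩
  rw [← hψ₀, eq_comm, ← sub_eq_zero, ← TensorProduct.tmul_sub]
  exact H8Mult.one_tmul_eq_zero_of_mem (hφ c)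

end Groth.Agent.S5239
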