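import Groth.Statements.S5251
import Mathlib
import Groth.Agent.Lib.H8MultOpenApps

set_option autoImplicit false
universe u
open TensorProduct SGA3b
open SGA3b

namespace Groth.Agent.S5251

/-- Let A be a Noetherian ring, separated and complete for the I-adic topology, and H = Spec C an affine
A-group with C flat and of finite type over A, such that every fibre Spec (κ(p) ⊗ C) of H is
connected and the reduction H₀ = Spec ((A/I) ⊗ C) is an isotrivial (A/I)-group of multiplicative
type. Then H is an isotrivial A-group of multiplicative type. (Affine group schemes over an affine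
base are taken in Hopf-algebra form; base change is the tensor product; a homomorphism of groups
Spec A ⟶ Spec C is a bialgebra map C → A.) -/
theorem result (A : Type u) [CommRing A] [IsNoetherianRing A] (I : Ideal A) [IsAdicComplete I A]
    (C : Type u) [CommRing C] [HopfAlgebra A C] [Module.Flat A C] (hft : Algebra.FiniteType A C)
    (hconn : ∀ (p : Ideal A) [p.IsPrime], ConnectedSpace (PrimeSpectrum (p.ResidueField ⊗[A] C)))
    (h0 : IsIsotrivial (A ⧸ I) ((A ⧸ I) ⊗[A] C)) :
    IsIsotrivial A C := by
  obtain ⟨e, he, -, hH, hiso⟩ := Groth.Agent.H8MultOpen.exists_clopen I hft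
    (fun q _ _ => Module.Flat.trans A C (Localization.AtPrime q)) h0
  haveI := hH
  exact Groth.Agent.H8MultOpenApps.isotrivial_of_span_zero
    (Groth.Agent.H8MultOpenApps.eq_zero_of_connected hconn e he
      (Submodule.IsCoideal.counit_eq_zero (I := (Ideal.span {e}).restrictScalars A) (Ideal.mem_span_singleton_self e))) hiso

end Groth.Agent.S5251
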