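import Groth.Statements.S5252
import Mathlib
import Groth.Agent.Lib.H8MultLift
import Groth.Agent.Lib.H8MultField

set_option autoImplicit false
universe u
open TensorProduct SGA3b
open SGA3b

namespace Groth.Agent.S5252

open TensorProduct in
lemma isotrivial_artinian (A : Type u) [CommRing A] [IsArtinianRing A] [IsLocalRing A]
    (C : Type u) [CommRing C] [HopfAlgebra A C] [Module.Flat A C] (hft : Algebra.FiniteType A C)
    (h0 : SGA3b.IsMultType (A ⧸ IsLocalRing.maximalIdeal A) ((A ⧸ IsLocalRing.maximalIdeal A) ⊗[A] C)) :
    SGA3b.IsIsotrivial A C := by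
  letI := Ideal.Quotient.field (IsLocalRing.maximalIdeal A)
  haveI := hft
  obtain ⟨k', _, _, hfin, hsep, M, _, -, ⟨e⟩⟩ :=
    H8MultField.exists_sep_split (k := A ⧸ IsLocalRing.maximalIdeal A)
      (A := (A ⧸ IsLocalRing.maximalIdeal A) ⊗[A] C) inferInstance h0
  have hnil : IsNilpotent (IsLocalRing.maximalIdeal A) := by
    rw [← IsLocalRing.jacobson_eq_maximalIdeal ⊥ bot_ne_top]
    exact IsArtinianRing.isNilpotent_jacobson_bot
  haveI := hfin
  haveI := hsep
  haveI : Algebra.FormallyEtale (A ⧸ IsLocalRing.maximalIdeal A) k' := Algebra.FormallyEtale.of_isSeparable _ _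
  haveI : Algebra.Etale (A ⧸ IsLocalRing.maximalIdeal A) k' :=
    { finitePresentation := Algebra.FinitePresentation.of_finiteType.mp inferInstance }
  refine H8MultLift.isotrivial_of_mod (IsLocalRing.maximalIdeal A) (fun x hx => ?_)
    (fun S => H8MultLift.key_of_flat _ hnil S)
    ⟨k', inferInstance, inferInstance, inferInstance, inferInstance, inferInstance, M, inferInstance, ⟨e⟩⟩
  obtain ⟨n, hn⟩ := hnil
  exact ⟨n, by simpa [hn] using Ideal.pow_mem_pow hx n⟩


/-- Let A be an Artinian local ring with residue field k and H = Spec C an affine A-group with C flat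
and of finite type over A, whose closed fibre Spec (k ⊗ C) is a k-group of multiplicative type. Then
H is of multiplicative type and isotrivial. (Affine group schemes over an affine base are taken in
Hopf-algebra form; base change is the tensor product; a homomorphism of groups Spec A ⟶ Spec C is a
bialgebra map C → A.) -/
theorem result (A : Type u) [CommRing A] [IsArtinianRing A] [IsLocalRing A]
    (C : Type u) [CommRing C] [HopfAlgebra A C] [Module.Flat A C] (hft : Algebra.FiniteType A C)
    (h0 : IsMultType (IsLocalRing.ResidueField A) (IsLocalRing.ResidueField A ⊗[A] C)) :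
    IsMultType A C ∧ IsIsotrivial A C := by
  have h := isotrivial_artinian A C hft h0
  exact ⟨H8MultLift.multType_of_quasi (H8MultLift.quasi_of_isotrivial h), h⟩

end Groth.Agent.S5252
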