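import Groth.Statements.S5254
import Mathlib
import Groth.Agent.Lib.H8QFKilled

set_option autoImplicit false
universe u
open TensorProduct SGA3b
open SGA3b

namespace Groth.Agent.S5254

/-- Over a local base, where an open neighbourhood of the closed point is the whole base: Let R be a
local ring with maximal ideal 𝔪, H = Spec A an R-group of multiplicative type and of finite type,
and K = Spec (A/J) a closed subgroup scheme of H (J a Hopf ideal) with A/J of finite presentation
over R. If the closed fibre of K is the unit group, i.e. J + 𝔪A = Ker ε + 𝔪A with ε the counit, then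
K is the unit group: J = Ker ε. (Affine group schemes over an affine base are taken in Hopf-algebra
form; base change is the tensor product; a homomorphism of groups Spec A ⟶ Spec C is a bialgebra map
C → A.) -/
theorem result (R : Type u) [CommRing R] [IsLocalRing R]
    (A : Type u) [CommRing A] [HopfAlgebra R A] (hft : Algebra.FiniteType R A) (hH : IsMultType R A)
    (J : Ideal A) [J.IsHopfIdeal R] (hK : Algebra.FinitePresentation R (A ⧸ J))
    (hs : J ⊔ Ideal.map (algebraMap R A) (IsLocalRing.maximalIdeal R) =
      RingHom.ker (Bialgebra.counitAlgHom R A) ⊔ Ideal.map (algebraMap R A) (IsLocalRing.maximalIdeal R)) :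
    J = RingHom.ker (Bialgebra.counitAlgHom R A) := by
  classical
  let κ := IsLocalRing.ResidueField R
  have hε : ∀ x ∈ J, Bialgebra.counitAlgHom R A x = 0 := by
    intro x hx
    have h1 := CoalgHomClass.counit_comp_apply (Bialgebra.Quotient.mkBialgHom J : A →ₐc[R] A ⧸ J) x
    rw [show (Bialgebra.Quotient.mkBialgHom J : A →ₐc[R] A ⧸ J) x = 0 from Ideal.Quotient.eq_zero_iff_mem.mpr hx,
      map_zero] at h1
    exact h1.symm
  have hsp : Submodule.span κ ((fun c => (1 : κ) ⊗ₜ[R] c) '' (({1} : Finset (A ⧸ J)) : Set (A ⧸ J))) = ⊤ := by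
    refine eq_top_iff.mpr fun z hz => ?_
    clear hz
    induction z using TensorProduct.induction_on with
    | zero => exact zero_mem _
    | add p q hp hq => exact add_mem hp hq
    | tmul t c =>
      obtain ⟨a, rfl⟩ := Ideal.Quotient.mk_surjective c
      have hmem : a - algebraMap R A (CoalgebraStruct.counit (R := R) a) ∈
          J ⊔ Ideal.map (algebraMap R A) (IsLocalRing.maximalIdeal R) := by
        rw [hs]
        refine Ideal.mem_sup_left ?_
        show CoalgebraStruct.counit (R := R) (a - algebraMap R A (CoalgebraStruct.counit (R := R) a)) = 0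
        simp
      let q : A →ₐ[R] κ ⊗[R] (A ⧸ J) :=
        (Algebra.TensorProduct.includeRight).comp (Ideal.Quotient.mkₐ R J)
      have hq : q (a - algebraMap R A (CoalgebraStruct.counit (R := R) a)) = 0 := by
        refine (show J ⊔ Ideal.map (algebraMap R A) (IsLocalRing.maximalIdeal R) ≤ RingHom.ker q from
          sup_le (fun x hx => ?_) (Ideal.map_le_iff_le_comap.mpr fun r hr => ?_)) hmem
        · show (1 : κ) ⊗ₜ[R] Ideal.Quotient.mk J x = 0
          rw [Ideal.Quotient.eq_zero_iff_mem.mpr hx, TensorProduct.tmul_zero]
        · show q (algebraMap R A r) = 0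
          rw [AlgHom.commutes, IsScalarTower.algebraMap_apply R κ,
            show algebraMap R κ r = 0 from (IsLocalRing.residue_eq_zero_iff r).mpr hr, map_zero]
      rw [map_sub, AlgHom.commutes, sub_eq_zero] at hq
      rw [show (t ⊗ₜ[R] Ideal.Quotient.mk J a : κ ⊗[R] (A ⧸ J)) = t • q a by
        simp [q, TensorProduct.smul_tmul'], hq, IsScalarTower.algebraMap_apply R κ, Algebra.algebraMap_eq_smul_one,
        smul_smul]
      exact Submodule.smul_mem _ _ (Submodule.subset_span ⟨1, by simp, rfl⟩)
  obtain ⟨n, hn, hkill⟩ := Groth.Agent.H8QFKilled.killed_of_closedFibre J hft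
    (Groth.Agent.H8MultGL.hasSplitting_of_isMultType hH) {1} hsp
  rw [Finset.card_singleton, Nat.factorial_one, Submonoid.powers_one, Submonoid.mem_bot] at hn
  subst hn
  refine le_antisymm (fun x hx => hε x hx) fun a ha => ?_
  have h0 : CoalgebraStruct.counit (R := R) a = 0 := ha
  have h1 := hkill (Ideal.Quotient.mk J a)
  rw [Groth.Agent.H8QFKilled.powConv_one] at h1
  rw [← Ideal.Quotient.eq_zero_iff_mem, h1,
    show CoalgebraStruct.counit (R := R) (Ideal.Quotient.mk J a) = 0 from
      (CoalgHomClass.counit_comp_apply (Bialgebra.Quotient.mkBialgHom J : A →ₐc[R] A ⧸ J) a).trans h0, map_zero]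

end Groth.Agent.S5254
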