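import Groth.Statements.S5261
import Mathlib
import Groth.Agent.Lib.H8MultLFT
import Groth.Agent.S3042

set_option autoImplicit false
open CategoryTheory MonoidalCategory CartesianMonoidalCategory MonObj GrpObj AlgebraicGeometry
universe u
open SGA3x

namespace Groth.Agent.S5261
open CategoryTheory.Limits

/-- Let u : H ⟶ G be a homomorphism of S-groups, with H of multiplicative type and of finite type, and
suppose S locally Noetherian or G locally of finite presentation over S. If for every s ∈ S the
homomorphism u_s : H_s ⟶ G_s induced on the fibres at s is a monomorphism, then u is a monomorphism. -/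
theorem result {S : Scheme.{u}} (H G : Over S) [GrpObj H] [GrpObj G]
    (hH : SGA3x.IsMultTypeFT H) (hG : IsLocallyNoetherian S ∨ LocallyOfFinitePresentation G.hom)
    (u : H ⟶ G) [IsMonHom u]
    (hfib : ∀ s : S, Mono ((Over.pullback (S.fromSpecResidueField s)).map u).left) :
    Mono u.left := by
  haveI := Groth.Agent.H8MultLFT.lfp hH
  haveI : LocallyOfFiniteType (u.left ≫ G.hom) := by rw [Over.w u]; infer_instance
  haveI : LocallyOfFiniteType u.left := locallyOfFiniteType_of_comp u.left G.hom
  refine (Groth.Agent.S3042.result H.left G.left u.left).mpr fun y => ⟨fun {T} a b hab => ?_⟩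
  change a ≫ CategoryTheory.Limits.pullback.snd u.left (G.left.fromSpecResidueField y) =
    b ≫ CategoryTheory.Limits.pullback.snd u.left (G.left.fromSpecResidueField y) at hab
  let s := G.hom y
  let σ := S.fromSpecResidueField s
  have hw : G.left.fromSpecResidueField y ≫ G.hom = Spec.map (G.hom.residueFieldMap y) ≫ σ :=
    (Scheme.Hom.SpecMap_residueFieldMap_fromSpecResidueField G.hom y).symm
  let c : T ⟶ Spec (G.left.residueField y) := a ≫ CategoryTheory.Limits.pullback.snd _ _
  have key : ∀ (l : T ⟶ CategoryTheory.Limits.pullback u.left (G.left.fromSpecResidueField y)),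
      l ≫ CategoryTheory.Limits.pullback.snd _ _ = c →
      (l ≫ CategoryTheory.Limits.pullback.fst _ _) ≫ H.hom = (c ≫ Spec.map (G.hom.residueFieldMap y)) ≫ σ := by
    intro l hl
    rw [Category.assoc, ← Over.w u, CategoryTheory.Limits.pullback.condition_assoc, hw, ← hl]
    simp only [Category.assoc]
  have ka := key a rfl
  have kb := key b hab.symm
  haveI := hfib s
  have he : CategoryTheory.Limits.pullback.lift _ _ ka ≫ ((Over.pullback σ).map u).left =
      CategoryTheory.Limits.pullback.lift _ _ kb ≫ ((Over.pullback σ).map u).left := by
    apply CategoryTheory.Limits.pullback.hom_ext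
    · have e1 : ((Over.pullback σ).map u).left ≫ CategoryTheory.Limits.pullback.fst G.hom σ =
          CategoryTheory.Limits.pullback.fst H.hom σ ≫ u.left := CategoryTheory.Limits.pullback.lift_fst _ _ _
      have E : ∀ (l : T ⟶ CategoryTheory.Limits.pullback u.left (G.left.fromSpecResidueField y))
          (hl : l ≫ CategoryTheory.Limits.pullback.snd _ _ = c),
          (CategoryTheory.Limits.pullback.lift _ _ (key l hl) ≫ ((Over.pullback σ).map u).left) ≫
            CategoryTheory.Limits.pullback.fst G.hom σ = c ≫ G.left.fromSpecResidueField y := by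
        intro l hl
        refine (Category.assoc _ _ _).trans ((congrArg (CategoryTheory.Limits.pullback.lift _ _ (key l hl) ≫ ·) e1).trans ?_)
        refine (Category.assoc _ _ _).symm.trans ((congrArg (· ≫ u.left) (CategoryTheory.Limits.pullback.lift_fst _ _ _)).trans ?_)
        rw [Category.assoc, CategoryTheory.Limits.pullback.condition, ← Category.assoc, hl]
      exact (E a rfl).trans (E b hab.symm).symm
    · have e1 : ((Over.pullback σ).map u).left ≫ CategoryTheory.Limits.pullback.snd G.hom σ =
          CategoryTheory.Limits.pullback.snd H.hom σ := CategoryTheory.Limits.pullback.lift_snd _ _ _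
      refine (Category.assoc _ _ _).trans ((congrArg (_ ≫ ·) e1).trans ?_)
      refine (CategoryTheory.Limits.pullback.lift_snd _ _ _).trans ?_
      refine Eq.symm ((Category.assoc _ _ _).trans ((congrArg (_ ≫ ·) e1).trans ?_))
      exact CategoryTheory.Limits.pullback.lift_snd _ _ _
  have h2 := (cancel_mono _).mp he
  apply CategoryTheory.Limits.pullback.hom_ext
  · exact (CategoryTheory.Limits.pullback.lift_fst _ _ ka).symm.trans
      ((congrArg (fun l => l ≫ CategoryTheory.Limits.pullback.fst H.hom σ) h2).trans
        (CategoryTheory.Limits.pullback.lift_fst _ _ kb))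
  · exact hab

end Groth.Agent.S5261
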