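import Groth.Statements.S5271
import Mathlib
import Groth.Agent.Lib.H8MultAdic

set_option autoImplicit false
universe u
open TensorProduct SGA3b
open SGA3b

namespace Groth.Agent.S5271

/-- Let A be a Noetherian ring, separated and complete for the I-adic topology, H = Spec B an isotrivial
A-group of multiplicative type and G = Spec C an affine A-group with C smooth over A. Then every
homomorphism of (A/I)-groups H₀ ⟶ G₀ between the reductions modulo I, i.e. every bialgebra map φ₀ :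
C₀ → B₀ over A/I, is the reduction of a homomorphism of A-groups H ⟶ G: there is a bialgebra map φ :
C → B with φ₀ (1 ⊗ c) = 1 ⊗ φ c for all c. (Affine group schemes over an affine base are taken in
Hopf-algebra form; base change is the tensor product; a homomorphism of groups Spec A ⟶ Spec C is a
bialgebra map C → A.) -/
theorem result (A : Type u) [CommRing A] [IsNoetherianRing A] (I : Ideal A) [IsAdicComplete I A]
    (B : Type u) [CommRing B] [HopfAlgebra A B] (hH : IsIsotrivial A B)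
    (C : Type u) [CommRing C] [HopfAlgebra A C] [Algebra.Smooth A C]
    (φ₀ : ((A ⧸ I) ⊗[A] C) →ₐc[A ⧸ I] ((A ⧸ I) ⊗[A] B)) :
    ∃ φ : C →ₐc[A] B, ∀ c : C, φ₀ ((1 : A ⧸ I) ⊗ₜ[A] c) = (1 : A ⧸ I) ⊗ₜ[A] (φ c) := by
  obtain ⟨R', _, _, _, _, hff, hd⟩ := hH
  obtain ⟨J, hJ1, hJ⟩ := H8Mult.exists_haar_of_diag R' hd
  obtain ⟨M, _, ⟨e⟩⟩ := hd
  let f₀ : C →ₐ[A] (A ⧸ I) ⊗[A] B :=
    ((φ₀ : ((A ⧸ I) ⊗[A] C) →ₐ[A ⧸ I] ((A ⧸ I) ⊗[A] B)).restrictScalars A).comp Algebra.TensorProduct.includeRight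
  have hf₀ : H8MultAdic.IsHom I f₀ := fun c => by
    show CoalgebraStruct.comul (R := A ⧸ I) (φ₀ ((1 : A ⧸ I) ⊗ₜ[A] c)) = _
    rw [← CoalgHomClass.map_comp_comul_apply φ₀, H8Mult.comul_one_tmul]
    generalize CoalgebraStruct.comul (R := A) c = z
    induction z using TensorProduct.induction_on with
    | zero => simp
    | tmul u v => rfl
    | add u v hu hv => simp only [map_add, hu, hv]
  obtain ⟨b, hb0, h1, h2, h3, h4, h5⟩ := H8MultAdic.exists_approx hJ1 hJ I f₀ hf₀
  obtain ⟨Φ, hΦ⟩ := H8MultAdic.algebraize e I b h1 h2 h3 h4 h5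
  refine ⟨Φ, fun c => ?_⟩
  refine (hb0 c).trans ?_
  rw [eq_comm, ← sub_eq_zero, ← TensorProduct.tmul_sub]
  refine H8Mult.one_tmul_eq_zero_of_mem ?_
  simpa using hΦ 0 c

end Groth.Agent.S5271
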