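import Groth.Statements.S5280
import Mathlib
import Groth.Agent.Lib.H8DiagRigid

set_option autoImplicit false
open CategoryTheory MonoidalCategory CartesianMonoidalCategory MonObj GrpObj AlgebraicGeometry
universe u
open SGA3x

namespace Groth.Agent.S5280


/-- Let i₀ : S₀ ⟶ S be a closed immersion whose ideal is locally nilpotent (nilpotent on each member of
an affine open cover of S; in particular S₀ and S have the same underlying space), u : G ⟶ H a
homomorphism of S-groups with G of multiplicative type (fpqc-locally on S isomorphic, as a group, to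
diagonalisable groups D(M), M allowed to vary and taken in Type 0) and H locally of finite
presentation over S. If the restriction u₀ of u to S₀ is central (u(g) commutes with h for all
points g of G and h of H defined over an S₀-scheme), then u is central. -/
theorem result {S S₀ : Scheme.{u}} (i₀ : S₀ ⟶ S) [IsClosedImmersion i₀]
    (hnil : ∀ x : S, ∃ U : S.affineOpens, x ∈ (U : S.Opens) ∧ IsNilpotent (i₀.ker.ideal U))
    (G H : Over S) [GrpObj G] [GrpObj H] (hG : TwC.Locally S TwC.Topology.fpqc (fun S' f => ∃ (M : Type) (_ : AddCommGroup M), Nonempty (Grp.mk (Red.bc f G) ≅ Grp.mk (Red.DS S' M))))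
    [LocallyOfFinitePresentation H.hom] (u : G ⟶ H) [IsMonHom u]
    (h0 : ∀ (Y : Over S) (p : Y ⟶ Over.mk i₀) (g : Y ⟶ G) (h : Y ⟶ H), (g ≫ u) * h = h * (g ≫ u)) :
    ∀ (Y : Over S) (g : Y ⟶ G) (h : Y ⟶ H), (g ≫ u) * h = h * (g ≫ u) := by
  have hm : ∀ {Y : Over S} (g g' : Y ⟶ G), (g * g') ≫ u = (g ≫ u) * (g' ≫ u) := fun g g' => MonObj.mul_comp g g' u
  let a : AlgGrp.Action G H :=
    { act := (fst G H ≫ u) * snd G H * (fst G H ≫ u)⁻¹
      one_act := by
        have e : fst (𝟙_ (Over S)) H ≫ η[H] = 1 := by
          rw [Hom.one_def, toUnit_unique (fst (𝟙_ (Over S)) H) (toUnit _)]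
        simp only [MonObj.comp_mul, GrpObj.comp_inv, ← Category.assoc, whiskerRight_fst, whiskerRight_snd]
        simp only [Category.assoc, IsMonHom.one_hom, e]
        simp [CartesianMonoidalCategory.leftUnitor_hom]
      mul_act := by
        have e : μ[G] ≫ u = (fst G G ≫ u) * (snd G G ≫ u) := by
          rw [← hm, Hom.mul_def, lift_fst_snd, Category.id_comp]
        simp only [MonObj.comp_mul, GrpObj.comp_inv, ← Category.assoc, whiskerRight_fst, whiskerRight_snd]
        simp only [Category.assoc, e, MonObj.comp_mul]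
        simp only [← Category.assoc, whiskerLeft_fst, whiskerLeft_snd]
        simp only [Category.assoc, MonObj.comp_mul, GrpObj.comp_inv]
        simp [_root_.mul_assoc] }
  have hact : ∀ (Y : Over S) (g : Y ⟶ G) (h : Y ⟶ H), lift g h ≫ a.act = (g ≫ u) * h * (g ≫ u)⁻¹ := fun Y g h => by
    simp [a, MonObj.comp_mul, GrpObj.comp_inv]
  intro Y g h
  have := H8DiagRigid.result i₀ hnil G H hG a (fun Y p g h => by rw [hact, h0 Y p g h, mul_inv_cancel_right]) Y g h
  rw [hact] at this
  exact mul_inv_eq_iff_eq_mul.mp this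

end Groth.Agent.S5280
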