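import Groth.Statements.S5296
import Mathlib
import Groth.Agent.Lib.H8QFKilled

set_option autoImplicit false
universe u
open TensorProduct SGA3b
open SGA3b

namespace Groth.Agent.S5296

/-- Over a local base, where an open neighbourhood of the closed point is the whole base: Let R be a
local ring with maximal ideal 𝔪 and residue field k, H = Spec A an R-group of multiplicative type
and of finite type, and K = Spec (A/J) a closed subgroup scheme of H (J a Hopf ideal) with A/J of
finite presentation over R, whose closed fibre Spec (k ⊗ A/J) is finite over k. Then K ⊆ ₙH for some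
integer n > 0: the ideal of the kernel of the n-th power map (generated by the image of the
augmentation ideal under the n-th power endomorphism) is contained in J. (K is then finite over R,
ₙH being finite; this row states only the containment.) (Affine group schemes over an affine base
are taken in Hopf-algebra form; base change is the tensor product; a homomorphism of groups Spec A ⟶
Spec C is a bialgebra map C → A.) -/
theorem result (R : Type u) [CommRing R] [IsLocalRing R]
    (A : Type u) [CommRing A] [HopfAlgebra R A] (hft : Algebra.FiniteType R A) (hH : IsMultType R A)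
    (J : Ideal A) [J.IsHopfIdeal R] (hK : Algebra.FinitePresentation R (A ⧸ J))
    (hs : Module.Finite (IsLocalRing.ResidueField R) (IsLocalRing.ResidueField R ⊗[R] (A ⧸ J))) :
    ∃ n : ℕ, 0 < n ∧ torsionIdeal R A n ≤ J := by
  classical
  obtain ⟨s₀, hs₀⟩ := hs.fg_top
  choose w hw using fun z : IsLocalRing.ResidueField R ⊗[R] (A ⧸ J) => TensorProduct.exists_finset z
  let s : Finset (A ⧸ J) := s₀.biUnion fun z => (w z).image Prod.snd
  have hsp : Submodule.span (IsLocalRing.ResidueField R)
      ((fun c => (1 : IsLocalRing.ResidueField R) ⊗ₜ[R] c) '' (s : Set (A ⧸ J))) = ⊤ := by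
    refine eq_top_iff.mpr ?_
    rw [← hs₀, Submodule.span_le]
    intro z hz
    rw [hw z]
    refine Submodule.sum_mem _ fun p hp => ?_
    rw [show (p.1 ⊗ₜ[R] p.2 : IsLocalRing.ResidueField R ⊗[R] (A ⧸ J)) = p.1 • ((1 : IsLocalRing.ResidueField R) ⊗ₜ[R] p.2) by
      simp [TensorProduct.smul_tmul']]
    exact Submodule.smul_mem _ _ (Submodule.subset_span
      ⟨p.2, Finset.mem_biUnion.mpr ⟨z, hz, Finset.mem_image_of_mem _ hp⟩, rfl⟩)
  obtain ⟨n, hn, hkill⟩ := Groth.Agent.H8QFKilled.killed_of_closedFibre J hft
    (Groth.Agent.H8MultGL.hasSplitting_of_isMultType hH) s hsp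
  obtain ⟨k, rfl⟩ := hn
  refine ⟨_, pow_pos (Nat.factorial_pos s.card) k, ?_⟩
  rw [SGA3b.torsionIdeal, Ideal.map_le_iff_le_comap]
  intro a ha
  have h0 : CoalgebraStruct.counit (R := R) a = 0 := ha
  rw [Ideal.mem_comap, ← Ideal.Quotient.eq_zero_iff_mem]
  refine (Groth.Agent.H8QFKilled.powConv_map (Bialgebra.Quotient.mkBialgHom J : A →ₐc[R] A ⧸ J) _ a).trans ?_
  rw [hkill, CoalgHomClass.counit_comp_apply, h0, map_zero]

end Groth.Agent.S5296
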