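import Groth.Statements.S5331
import Groth.Agent.S0346

set_option autoImplicit false
universe u
open CategoryTheory CategoryTheory.Limits MonoidalCategory CartesianMonoidalCategory MonObj GrpObj AlgebraicGeometry
open SGA3

namespace Groth.Agent.S5331

/-- Let S be a scheme whose underlying topological space is discrete. Then every S-group scheme is
separated over S. -/
theorem result (S : Scheme.{u}) [DiscreteTopology S] (G : Over S) [GrpObj G] :
    IsSeparated G.hom := by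
  refine (Agent.S0346.result S G).1.mpr ?_
  let e : S ⟶ G.left := (MonObj.one : 𝟙_ (Over S) ⟶ G).left
  have hsec : e ≫ G.hom = 𝟙 S := Over.w (MonObj.one : 𝟙_ (Over S) ⟶ G)
  let U : ↥S → S.Opens := fun s => ⟨{s}, isOpen_discrete _⟩
  refine (IsZariskiLocalAtTarget.iff_of_iSup_eq_top (P := @IsClosedImmersion) (fun s => G.hom ⁻¹ᵁ U s)
    (top_le_iff.mp fun g _ => TopologicalSpace.Opens.mem_iSup.mpr ⟨G.hom g, rfl⟩)).mpr fun s => ?_
  have hU : U s ≤ e ⁻¹ᵁ (G.hom ⁻¹ᵁ U s) := fun x hx => show G.hom (e x) ∈ U s by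
    rw [← Scheme.Hom.comp_apply, hsec]; exact hx
  have hU' : e ⁻¹ᵁ (G.hom ⁻¹ᵁ U s) ≤ U s := fun x hx => by
    have : G.hom (e x) ∈ U s := hx
    rw [← Scheme.Hom.comp_apply, hsec] at this
    exact this
  haveI : Subsingleton (U s).toScheme := ⟨fun a b => Subtype.ext ((show a.1 = s from a.2).trans (show b.1 = s from b.2).symm)⟩
  let σ : (U s).toScheme ⟶ (G.hom ⁻¹ᵁ U s).toScheme := e.resLE _ _ hU
  have hσ : σ ≫ (G.hom ∣_ U s) = 𝟙 _ := by
    rw [← cancel_mono (U s).ι, Category.assoc, morphismRestrict_ι, Scheme.Hom.resLE_comp_ι_assoc, hsec,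
      Category.comp_id, Category.id_comp]
  haveI : IsClosedImmersion σ := isClosedImmersion_of_comp_eq_id (G.hom ∣_ U s) σ hσ
  show IsClosedImmersion (e ∣_ (G.hom ⁻¹ᵁ U s))
  have : e ∣_ (G.hom ⁻¹ᵁ U s) = S.homOfLE hU' ≫ σ := by
    rw [← cancel_mono (G.hom ⁻¹ᵁ U s).ι, morphismRestrict_ι, Category.assoc, Scheme.Hom.resLE_comp_ι, Scheme.homOfLE_ι_assoc]
  rw [this]
  haveI : IsIso (S.homOfLE hU') := ⟨⟨S.homOfLE hU, by simp, by simp⟩⟩
  infer_instance

end Groth.Agent.S5331
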