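import Groth.Statements.S5335
import Mathlib
import Groth.Agent.Lib.H8Artin
import Groth.Agent.Lib.H8Translate

set_option autoImplicit false
universe u
open CategoryTheory CategoryTheory.Limits MonoidalCategory CartesianMonoidalCategory MonObj GrpObj AlgebraicGeometry
open SGA3

namespace Groth.Agent.S5335

/-- Let A be a local artinian ring and f : X' → X, g : Y' → Y two quasi-compact dominant morphisms of
schemes over A. Then the product morphism f ×_A g : X' ×_A Y' → X ×_A Y is dominant (and
quasi-compact). -/
theorem result (A : Type u) [CommRing A] [IsArtinianRing A] [IsLocalRing A] (X X' Y Y' : Over (Spec (CommRingCat.of A)))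
    (f : X' ⟶ X) (g : Y' ⟶ Y) [QuasiCompact f.left] [QuasiCompact g.left]
    (hf : DenseRange f.left.base) (hg : DenseRange g.left.base) :
    DenseRange (f ⊗ₘ g).left.base ∧ QuasiCompact (f ⊗ₘ g).left := by
  have hb1 : IsPullback (f ▷ Y').left (fst X' Y').left (fst X Y').left f.left :=
    Groth.Agent.H8Shear.isPullback_whiskerRight f Y'
  have hb2 : IsPullback (snd X Y').left (X ◁ g).left g.left (snd X Y).left :=
    (Groth.Agent.H8Translate.isPullback_whiskerLeft (G := X) g).map (Over.forget _)
  refine ⟨?_, ?_⟩
  · haveI h1 := Groth.Agent.H8Artin.universallyOpen A X.hom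
    haveI h2 := Groth.Agent.H8Artin.universallyOpen A Y'.hom
    haveI : UniversallyOpen (fst X Y').left := MorphismProperty.pullback_fst _ _ h2
    haveI : UniversallyOpen (snd X Y).left := MorphismProperty.pullback_snd _ _ h1
    rw [MonoidalCategory.tensorHom_def, Over.comp_left]
    show DenseRange ((X ◁ g).left ∘ (f ▷ Y').left)
    refine DenseRange.comp ?_ ?_ (X ◁ g).left.continuous
    · refine dense_iff_inter_open.mpr fun O hO hne => ?_
      obtain ⟨y, hy1, y', rfl⟩ := dense_iff_inter_open.mp hg _
        ((snd X Y).left.isOpenMap O hO) (hne.image _)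
      obtain ⟨w, hw, hwy⟩ := hy1
      obtain ⟨z, -, hz⟩ := Scheme.exists_preimage_of_isPullback hb2 y' w hwy.symm
      exact ⟨w, hw, z, hz⟩
    · refine dense_iff_inter_open.mpr fun O hO hne => ?_
      obtain ⟨x, hx1, x', rfl⟩ := dense_iff_inter_open.mp hf _
        ((fst X Y').left.isOpenMap O hO) (hne.image _)
      obtain ⟨w, hw, hwx⟩ := hx1
      obtain ⟨z, hz, -⟩ := Scheme.exists_preimage_of_isPullback hb1 w x' hwx
      exact ⟨w, hw, z, hz⟩
  · haveI : QuasiCompact (f ▷ Y').left := MorphismProperty.of_isPullback hb1.flip ‹QuasiCompact f.left›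
    haveI : QuasiCompact (X ◁ g).left := MorphismProperty.of_isPullback hb2 ‹QuasiCompact g.left›
    rw [MonoidalCategory.tensorHom_def, Over.comp_left]
    infer_instance

end Groth.Agent.S5335
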