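import Groth.Statements.S5348
import Mathlib
import Groth.Agent.Lib.H8Homogeneous

set_option autoImplicit false
universe u
open CategoryTheory CategoryTheory.Limits MonoidalCategory CartesianMonoidalCategory MonObj GrpObj AlgebraicGeometry
open SGA3

namespace Groth.Agent.S5348

/-- Let G be a group scheme over a field k (not assumed of finite type) acting on a k-scheme X so that
the morphism G ×_k X → X ×_k X, (g, x) ↦ (gx, x), is surjective. (i) For every field extension K of
k, every point of X ⊗_k K lies in exactly one irreducible component of X ⊗_k K. (iv) If x is a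
k-rational point of X and C the irreducible component of X containing x, then for every field
extension K of k the inverse image of C in X ⊗_k K is irreducible. -/
theorem result (k : Type u) [Field k] (G X : Over (Spec (CommRingCat.of k))) [GrpObj G] (a : AlgGrp.Action G X) (hΦ : Surjective (lift a.act (snd G X)).left) :
    (∀ (K : Type u) [Field K] [Algebra k K] (z : ↥(pullback X.hom (Spec.map (CommRingCat.ofHom (algebraMap k K))))),
      ∃! C, C ∈ irreducibleComponents ↥(pullback X.hom (Spec.map (CommRingCat.ofHom (algebraMap k K)))) ∧ z ∈ C) ∧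
    (∀ (x : 𝟙_ (Over (Spec (CommRingCat.of k))) ⟶ X) (pt : ↥(𝟙_ (Over (Spec (CommRingCat.of k)))).left) (C : Set X.left),
      C ∈ irreducibleComponents ↥X.left → x.left.base pt ∈ C →
      ∀ (K : Type u) [Field K] [Algebra k K],
        IsIrreducible ((pullback.fst X.hom (Spec.map (CommRingCat.ofHom (algebraMap k K)))).base ⁻¹' C)) := by
  refine ⟨fun K _ _ z => ?_, fun x pt C hC hxC K _ _ => ?_⟩
  · let s := Spec.map (CommRingCat.ofHom (algebraMap k K))
    obtain ⟨w, ⟨hw, hwz⟩, huniq⟩ := Groth.Agent.H8Homogeneous.existsUnique_genX' a hΦ s z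
    have hcomp : closure {w} ∈ irreducibleComponents ↥(pullback X.hom s) := by
      refine ⟨isIrreducible_singleton.closure, fun Z hZ hle => ?_⟩
      obtain ⟨c, hc⟩ := QuasiSober.sober hZ.closure isClosed_closure
      have hcw : c ⤳ w := hc.specializes (subset_closure (hle (subset_closure rfl)))
      intro u hu
      rw [← hw c hcw, hc.def]
      exact subset_closure hu
    refine ⟨closure {w}, ⟨hcomp, specializes_iff_mem_closure.mp hwz⟩, ?_⟩
    rintro D ⟨hD, hzD⟩
    obtain ⟨c, hc⟩ := QuasiSober.sober hD.prop (isClosed_of_mem_irreducibleComponents _ hD)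
    have hmax : Groth.Agent.H8GenPoint.IsMaxPt c := by
      intro y hy
      have hsub : D ⊆ closure {y} := by
        rw [← hc.def]
        exact closure_minimal (Set.singleton_subset_iff.mpr hy.mem_closure) isClosed_closure
      exact (hy.antisymm (hc.specializes ((hD.2 isIrreducible_singleton.closure hsub)
        (subset_closure rfl)))).eq
    rw [← hc.def, huniq c ⟨hmax, hc.specializes hzD⟩]
  · let s := Spec.map (CommRingCat.ofHom (algebraMap k K))
    haveI : Subsingleton ↥(𝟙_ (Over (Spec (CommRingCat.of k)))).left :=
      inferInstanceAs (Subsingleton ↥(Spec (CommRingCat.of k)))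
    have hpt : x.left.base pt = x.left (IsLocalRing.closedPoint k) :=
      congrArg x.left (Subsingleton.elim (α := ↥(𝟙_ (Over (Spec (CommRingCat.of k)))).left) _ _)
    obtain ⟨c, hc⟩ := QuasiSober.sober hC.prop (isClosed_of_mem_irreducibleComponents _ hC)
    have hmax : Groth.Agent.H8GenPoint.IsMaxPt c := by
      intro y hy
      have hsub : C ⊆ closure {y} := by
        rw [← hc.def]
        exact closure_minimal (Set.singleton_subset_iff.mpr hy.mem_closure) isClosed_closure
      exact (hy.antisymm (hc.specializes ((hC.2 isIrreducible_singleton.closure hsub)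
        (subset_closure rfl)))).eq
    have hcx : c = Groth.Agent.H8Homogeneous.genX a hΦ (x.left (IsLocalRing.closedPoint k)) :=
      Groth.Agent.H8Homogeneous.eq_genX a hΦ hmax (hpt ▸ hc.specializes hxC)
    let ω := Groth.Agent.H8Homogeneous.om a (toUnit (CategoryTheory.Over.mk s) ≫ x)
    have hω : (fst X (CategoryTheory.Over.mk s)).left ω = c := by
      rw [Groth.Agent.H8Homogeneous.fst_om a hΦ, hcx]
      congr 1
      exact congrArg x.left (Subsingleton.elim (α := ↥(𝟙_ (Over (Spec (CommRingCat.of k)))).left) _ _)
    suffices h : (pullback.fst X.hom s).base ⁻¹' C = closure {ω} by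
      rw [h]; exact isIrreducible_singleton.closure
    rw [← hc.def]
    ext z
    constructor
    · intro hz
      obtain ⟨w, hw, hwz⟩ := Groth.Agent.H8GenPoint.exists_isMaxPt z
      rw [← specializes_iff_mem_closure]
      have h1 : (fst X (CategoryTheory.Over.mk s)).left w
          = Groth.Agent.H8Homogeneous.genX a hΦ (x.left (IsLocalRing.closedPoint k)) := by
        rw [← hcx, ← Groth.Agent.H8Homogeneous.genX_eq_self a hΦ hmax,
          Groth.Agent.H8Homogeneous.genX_eq_of_specializes a hΦ (specializes_iff_mem_closure.mpr hz)]
        exact Groth.Agent.H8Homogeneous.eq_genX a hΦ (hw.map _)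
          (hwz.map (fst X (CategoryTheory.Over.mk s)).left.continuous)
      rw [← show w = ω from Groth.Agent.H8Homogeneous.eq_om_of_genX a hΦ s x w hw h1]
      exact hwz
    · intro hz
      rw [Set.mem_preimage, ← specializes_iff_mem_closure, ← hω]
      exact (specializes_iff_mem_closure.mpr hz).map (fst X (CategoryTheory.Over.mk s)).left.continuous

end Groth.Agent.S5348
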