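import Groth.Statements.S5350
import Mathlib
import Groth.Agent.Lib.H8Homogeneous

set_option autoImplicit false
universe u
open CategoryTheory CategoryTheory.Limits MonoidalCategory CartesianMonoidalCategory MonObj GrpObj AlgebraicGeometry
open SGA3

namespace Groth.Agent.S5350

theorem C0_eq {k : Type u} [Field k]
    (G : CategoryTheory.Over (AlgebraicGeometry.Spec (CommRingCat.of k))) [CategoryTheory.GrpObj G]
    (C0 : Set G.left) (hC0 : C0 ∈ irreducibleComponents ↥G.left)
    (he : Groth.Agent.H8Component.org G ∈ C0) :
    C0 = {x | Groth.Agent.H8Component.gen G x = Groth.Agent.H8Component.gen₀ G} := by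
  obtain ⟨c, hc⟩ := QuasiSober.sober hC0.prop (isClosed_of_mem_irreducibleComponents _ hC0)
  have hmax : Groth.Agent.H8GenPoint.IsMaxPt c := by
    intro y hy
    have hsub : C0 ⊆ closure {y} := by
      rw [← hc.def]
      exact closure_minimal (Set.singleton_subset_iff.mpr hy.mem_closure) isClosed_closure
    exact (hy.antisymm (hc.specializes ((hC0.2 isIrreducible_singleton.closure hsub)
      (subset_closure rfl)))).eq
  ext x
  rw [← hc.def, Groth.Agent.H8Component.eq_gen G hmax (hc.specializes he)]
  exact Groth.Agent.H8IdComp.mem_closure_gen₀_iff G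

/-- Let G be a group scheme over a field k (not assumed of finite type) acting on a k-scheme X so that G
×_k X → X ×_k X, (g, x) ↦ (gx, x), is surjective; let C⁰ be an irreducible component of G containing
the unit point and U an open subset of X. Let C⁰·U be the image under the action of the set of
points of G ×_k X whose projections lie in C⁰ and in U. Then (i) C⁰·U is open in X and equals the
union of the irreducible components of X whose generic point lies in U; (ii) if U is retrocompact in
X then C⁰·U is the closure of U (so is open and closed). -/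
theorem result (k : Type u) [Field k] (G X : Over (Spec (CommRingCat.of k))) [GrpObj G] (a : AlgGrp.Action G X) (hΦ : Surjective (lift a.act (snd G X)).left)
    (pt : ↥(𝟙_ (Over (Spec (CommRingCat.of k)))).left) (C0 : Set G.left) (hC0 : C0 ∈ irreducibleComponents ↥G.left)
    (he : η[G].left.base pt ∈ C0) (U : X.left.Opens) :
    letI V : Set X.left := a.act.left.base '' {z : ↥(G ⊗ X).left | (fst G X).left.base z ∈ C0 ∧ (snd G X).left.base z ∈ U}
    IsOpen V ∧ V = ⋃₀ {Z : Set X.left | Z ∈ irreducibleComponents ↥X.left ∧ ∃ ξ ∈ U, closure {ξ} = Z} ∧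
    (IsRetrocompact (U : Set X.left) → V = closure (U : Set X.left)) := by
  haveI : Subsingleton ↥(𝟙_ (Over (Spec (CommRingCat.of k)))).left :=
    inferInstanceAs (Subsingleton ↥(Spec (CommRingCat.of k)))
  have hC : C0 = {x | Groth.Agent.H8Component.gen G x = Groth.Agent.H8Component.gen₀ G} :=
    C0_eq G C0 hC0 (by
      rw [show Groth.Agent.H8Component.org G = η[G].left.base pt from
        congrArg η[G].left (Subsingleton.elim (α := ↥(𝟙_ (Over (Spec (CommRingCat.of k)))).left) _ _)]
      exact he)
  have hV : a.act.left.base '' {z : ↥(G ⊗ X).left | (fst G X).left.base z ∈ C0 ∧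
      (snd G X).left.base z ∈ U} = {y | Groth.Agent.H8Homogeneous.genX a hΦ y ∈ U} := by
    rw [Groth.Agent.H8Homogeneous.genX_preimage_eq a hΦ U, hC]
    rfl
  refine ⟨by rw [hV]; exact Groth.Agent.H8Homogeneous.isOpen_genX_preimage a hΦ U, ?_, fun hU => ?_⟩
  · rw [hV]
    ext y
    constructor
    · intro hy
      refine ⟨closure {Groth.Agent.H8Homogeneous.genX a hΦ y}, ⟨⟨isIrreducible_singleton.closure,
        fun Z hZ hle => ?_⟩, _, hy, rfl⟩,
        specializes_iff_mem_closure.mp (Groth.Agent.H8Homogeneous.genX_specializes a hΦ y)⟩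
      obtain ⟨z, hz⟩ := QuasiSober.sober hZ.closure isClosed_closure
      have hzy : z ⤳ Groth.Agent.H8Homogeneous.genX a hΦ y :=
        hz.specializes (subset_closure (hle (subset_closure rfl)))
      have := (Groth.Agent.H8Homogeneous.isMaxPt_genX a hΦ y) z hzy
      intro w hw
      rw [← this, hz.def]
      exact subset_closure hw
    · rintro ⟨Z, ⟨hZ, ξ, hξ, rfl⟩, hyZ⟩
      show Groth.Agent.H8Homogeneous.genX a hΦ y ∈ U
      rw [← Groth.Agent.H8Homogeneous.genX_eq_of_specializes a hΦ
        (specializes_iff_mem_closure.mpr hyZ)]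
      exact (Groth.Agent.H8Homogeneous.genX_specializes a hΦ ξ).mem_open U.2 hξ
  · rw [hV]
    exact Groth.Agent.H8Homogeneous.genX_preimage_eq_closure a hΦ U fun V hV =>
      Set.inter_comm _ _ ▸ hU hV.isCompact V.2

end Groth.Agent.S5350
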