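import Groth.Statements.S5354
import Mathlib
import Groth.Agent.Lib.H8IdComp

set_option autoImplicit false
universe u
open CategoryTheory CategoryTheory.Limits MonoidalCategory CartesianMonoidalCategory MonObj GrpObj AlgebraicGeometry
open SGA3

namespace Groth.Agent.S5354

theorem closure_mem {k : Type u} [Field k]
    (G : CategoryTheory.Over (AlgebraicGeometry.Spec (CommRingCat.of k)))
    {y : G.left} (hy : Groth.Agent.H8GenPoint.IsMaxPt y) :
    closure {y} ∈ irreducibleComponents ↥G.left := by
  refine ⟨isIrreducible_singleton.closure, fun Z hZ hle => ?_⟩
  obtain ⟨z, hz⟩ := QuasiSober.sober hZ.closure isClosed_closure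
  have hzy : z ⤳ y := hz.specializes (subset_closure (hle (subset_closure rfl)))
  intro w hw
  rw [← hy z hzy, hz.def]
  exact subset_closure hw

/-- Let G be a group scheme over a field k (not assumed of finite type). For every point x of G there is
a point z of G ×_k G with product x whose two projections are maximal points of G (generic points of
irreducible components). -/
theorem result (k : Type u) [Field k] (G : Over (Spec (CommRingCat.of k))) [GrpObj G] (x : G.left) :
    ∃ z : ↥(G ⊗ G).left, μ[G].left.base z = x ∧
      closure {(fst G G).left.base z} ∈ irreducibleComponents ↥G.left ∧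
      closure {(snd G G).left.base z} ∈ irreducibleComponents ↥G.left := by
  obtain ⟨z, h1, h2, h3⟩ := Groth.Agent.H8Component.exists_mul_eq G x
  refine ⟨z, h3, ?_, ?_⟩
  · rw [h1]; exact closure_mem G (Groth.Agent.H8Component.isMaxPt_gen G _)
  · rw [h2]; exact closure_mem G (Groth.Agent.H8Component.isMaxPt_gen G _)

end Groth.Agent.S5354
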