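import Groth.Statements.S5358
import Mathlib
import Groth.Agent.Lib.H8ImmClosed
import Groth.Agent.Lib.H8SubGrp
import Groth.Agent.Lib.H8EssFree
import Groth.Agent.Lib.H8Transporter

set_option autoImplicit false
universe u
open CategoryTheory CategoryTheory.Limits MonoidalCategory CartesianMonoidalCategory MonObj GrpObj AlgebraicGeometry
open SGA3

namespace Groth.Agent.S5358

open CategoryTheory MonoidalCategory CartesianMonoidalCategory AlgebraicGeometry MonObj in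
theorem closed_both {k : Type u} [Field k] {G Y Y' : Over (Spec (CommRingCat.of k))} [GrpObj G]
    (y : Y ⟶ G) [IsClosedImmersion y.left] (y' : Y' ⟶ G) [IsClosedImmersion y'.left] :
    ∃ (T : Over (Spec (CommRingCat.of k))) (t : T ⟶ G), IsClosedImmersion t.left ∧
      ∀ (S' : Over (Spec (CommRingCat.of k))) (g : S' ⟶ G), (∃ z : S' ⟶ T, z ≫ t = g) ↔
        ((∀ (S'' : Over (Spec (CommRingCat.of k))) (s : S'' ⟶ S') (x : S'' ⟶ Y'),
          ∃ x' : S'' ⟶ Y, (s ≫ g) * (x ≫ y') * (s ≫ g)⁻¹ = x' ≫ y) ∧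
        (∀ (S'' : Over (Spec (CommRingCat.of k))) (s : S'' ⟶ S') (x' : S'' ⟶ Y),
          ∃ x : S'' ⟶ Y', (s ≫ g)⁻¹ * (x' ≫ y) * (s ≫ g) = x ≫ y')) := by
  obtain ⟨F₁, i₁, hi₁, hF₁⟩ := Groth.Agent.H8Transporter.exists_transporter (X := G)
    (Groth.Agent.H8Weil.locProj_field Y'.hom)
    (fst G Y' * (snd G Y' ≫ y') * (fst G Y')⁻¹) y
  obtain ⟨F₂, i₂, hi₂, hF₂⟩ := Groth.Agent.H8Transporter.exists_transporter (X := F₁)
    (Groth.Agent.H8Weil.locProj_field Y.hom)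
    ((fst F₁ Y ≫ i₁)⁻¹ * (snd F₁ Y ≫ y) * (fst F₁ Y ≫ i₁)) y'
  refine ⟨F₂, i₂ ≫ i₁, inferInstanceAs (IsClosedImmersion (i₂.left ≫ i₁.left)), fun S' g => ?_⟩
  simp only [comp_mul, GrpObj.comp_inv, lift_fst, lift_fst_assoc, lift_snd_assoc] at hF₁ hF₂
  constructor
  · rintro ⟨z, rfl⟩
    refine ⟨(hF₁ S' _).mpr ⟨z ≫ i₂, Category.assoc _ _ _⟩, ?_⟩
    intro S'' s x'
    have := (hF₂ S' (z ≫ i₂)).mpr ⟨z, rfl⟩ S'' s x'
    simp only [Category.assoc] at this ⊢
    exact this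
  · rintro ⟨h₁, h₂⟩
    obtain ⟨z₁, hz₁⟩ := (hF₁ S' g).mp h₁
    obtain ⟨z₂, hz₂⟩ := (hF₂ S' z₁).mp fun S'' s x' => by
      simp only [Category.assoc, hz₁]
      exact h₂ S'' s x'
    exact ⟨z₂, by rw [reassoc_of% hz₂, hz₁]⟩

open CategoryTheory MonoidalCategory CartesianMonoidalCategory AlgebraicGeometry MonObj in
/-- The points normalising `h`. -/
def normSubgroup {k : Type u} [Field k] {G H : Over (Spec (CommRingCat.of k))} [GrpObj G]
    (h : H ⟶ G) (X : Over (Spec (CommRingCat.of k))) : Subgroup (X ⟶ G) where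
  carrier := {g | ∀ (X' : Over (Spec (CommRingCat.of k))) (s : X' ⟶ X) (x : X' ⟶ H),
      (∃ x' : X' ⟶ H, (s ≫ g) * (x ≫ h) * (s ≫ g)⁻¹ = x' ≫ h) ∧
      (∃ x' : X' ⟶ H, (s ≫ g)⁻¹ * (x ≫ h) * (s ≫ g) = x' ≫ h)}
  one_mem' := fun X' s x => by
    refine ⟨⟨x, ?_⟩, ⟨x, ?_⟩⟩ <;>
      simp only [MonObj.comp_one, inv_one, _root_.one_mul, _root_.mul_one]
  mul_mem' := fun {a b} ha hb X' s x => by
    constructor
    · obtain ⟨x₁, h₁⟩ := (hb X' s x).1
      obtain ⟨x₂, h₂⟩ := (ha X' s x₁).1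
      refine ⟨x₂, ?_⟩
      rw [← h₂, ← h₁, MonObj.comp_mul]
      group
    · obtain ⟨x₁, h₁⟩ := (ha X' s x).2
      obtain ⟨x₂, h₂⟩ := (hb X' s x₁).2
      refine ⟨x₂, ?_⟩
      rw [← h₂, ← h₁, MonObj.comp_mul]
      group
  inv_mem' := fun {a} ha X' s x => by
    simp only [GrpObj.comp_inv, _root_.inv_inv]
    exact ⟨(ha X' s x).2, (ha X' s x).1⟩

/-- Let G be a group scheme over a field k, y' : Y' → G an immersion and y : Y → G a closed immersion.
(ii) The transporter of Y' into Y, whose points with values in S' are the g such that conjugation by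
g carries every point of Y' (after any base change S'' → S') into Y, is represented by a closed
subscheme of G; if y' is also a closed immersion, so is the strict transporter (g Y' g⁻¹ = Y
functorially). (iii) For every subgroup scheme h : H → G (a homomorphism which is an immersion), the
normalizer of H in G is represented by a closed subscheme of G. -/
theorem result (k : Type u) [Field k] (G Y Y' : Over (Spec (CommRingCat.of k))) [GrpObj G]
    (y : Y ⟶ G) [IsClosedImmersion y.left] (y' : Y' ⟶ G) [IsImmersion y'.left] :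
    (∃ (T : Over (Spec (CommRingCat.of k))) (t : T ⟶ G), IsClosedImmersion t.left ∧
      ∀ (S' : Over (Spec (CommRingCat.of k))) (g : S' ⟶ G), (∃ z : S' ⟶ T, z ≫ t = g) ↔
        ∀ (S'' : Over (Spec (CommRingCat.of k))) (s : S'' ⟶ S') (x : S'' ⟶ Y'),
          ∃ x' : S'' ⟶ Y, (s ≫ g) * (x ≫ y') * (s ≫ g)⁻¹ = x' ≫ y) ∧
    (IsClosedImmersion y'.left →
      ∃ (T : Over (Spec (CommRingCat.of k))) (t : T ⟶ G), IsClosedImmersion t.left ∧
      ∀ (S' : Over (Spec (CommRingCat.of k))) (g : S' ⟶ G), (∃ z : S' ⟶ T, z ≫ t = g) ↔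
        ((∀ (S'' : Over (Spec (CommRingCat.of k))) (s : S'' ⟶ S') (x : S'' ⟶ Y'),
          ∃ x' : S'' ⟶ Y, (s ≫ g) * (x ≫ y') * (s ≫ g)⁻¹ = x' ≫ y) ∧
        (∀ (S'' : Over (Spec (CommRingCat.of k))) (s : S'' ⟶ S') (x' : S'' ⟶ Y),
          ∃ x : S'' ⟶ Y', (s ≫ g)⁻¹ * (x' ≫ y) * (s ≫ g) = x ≫ y'))) ∧
    (∀ (H : Over (Spec (CommRingCat.of k))) [GrpObj H] (h : H ⟶ G) [IsMonHom h] [IsImmersion h.left],
      ∃ (N : Over (Spec (CommRingCat.of k))) (_ : GrpObj N) (n : N ⟶ G), IsClosedImmersion n.left ∧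
        Red.IsNormalizerOf h n) := by
  refine ⟨?_, fun hy' => closed_both y y', fun H _ h _ _ => ?_⟩
  · obtain ⟨T, t, ht, hT⟩ := Groth.Agent.H8Transporter.exists_transporter (X := G)
      (Groth.Agent.H8Weil.locProj_field Y'.hom)
      (CartesianMonoidalCategory.fst G Y' * (CartesianMonoidalCategory.snd G Y' ≫ y') *
        (CartesianMonoidalCategory.fst G Y')⁻¹) y
    simp only [comp_mul, GrpObj.comp_inv, lift_fst, lift_snd_assoc] at hT
    exact ⟨T, t, ht, fun S' g => (hT S' g).symm⟩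
  · have := Groth.Agent.H8ImmClosed.isClosedImmersion h
    obtain ⟨N, n, hn, hN⟩ := closed_both h h
    have hN' : ∀ (X : Over (Spec (CommRingCat.of k))) (g : X ⟶ G),
        (∃ z : X ⟶ N, z ≫ n = g) ↔ g ∈ normSubgroup h X := fun X g => by
      rw [hN]
      exact ⟨fun hh X' s x => ⟨hh.1 X' s x, hh.2 X' s x⟩,
        fun hh => ⟨fun X' s x => (hh X' s x).1, fun X' s x => (hh X' s x).2⟩⟩
    have hmono : Mono n := by
      constructor
      intro Z a b hab
      exact Over.OverMorphism.ext ((cancel_mono n.left).mp (congrArg Over.Hom.left hab))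
    obtain ⟨inst, hmon⟩ := Groth.Agent.H8SubGrp.exists_grpObj n _ hN'
    exact ⟨N, inst, n, hn, hmon, hmono, fun X g => hN' X g⟩

end Groth.Agent.S5358
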