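import Groth.Statements.S5363
import Mathlib
import Groth.Agent.S0346
import Groth.Agent.Lib.H8Coincidence
import Groth.Agent.Lib.H8SubGrp

set_option autoImplicit false
universe u
open CategoryTheory CategoryTheory.Limits MonoidalCategory CartesianMonoidalCategory MonObj GrpObj AlgebraicGeometry
open SGA3

namespace Groth.Agent.S5363

open CategoryTheory MonoidalCategory CartesianMonoidalCategory AlgebraicGeometry MonObj in
theorem centralizer {k : Type u} [Field k] {G Y : Over (Spec (CommRingCat.of k))} [GrpObj G]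
    (v : Y ⟶ G) :
    ∃ (C : Over (Spec (CommRingCat.of k))) (inst : GrpObj C) (c : C ⟶ G),
      (letI := inst; IsMonHom c) ∧ IsClosedImmersion c.left ∧
      ∀ (X : Over (Spec (CommRingCat.of k))) (g : X ⟶ G), (∃ z : X ⟶ C, z ≫ c = g) ↔
        ∀ (X' : Over (Spec (CommRingCat.of k))) (t : X' ⟶ X) (y : X' ⟶ Y),
          (t ≫ g) * (y ≫ v) = (y ≫ v) * (t ≫ g) := by
  have := Groth.Agent.S0346.grp_isSeparated G
  let a : G ⊗ Y ⟶ G := fst G Y * (snd G Y ≫ v)
  let b : G ⊗ Y ⟶ G := (snd G Y ≫ v) * fst G Y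
  have := Groth.Agent.H8Coincidence.isClosedImmersion_eqLocus a b
  obtain ⟨F, j, hj, hF⟩ := Groth.Agent.H8Coincidence.exists_locus
    (Groth.Agent.H8Weil.locProj_field Y.hom) a b
  have key : ∀ (X : Over (Spec (CommRingCat.of k))) (g : X ⟶ G), (∃ z : X ⟶ F, z ≫ j = g) ↔
      ∀ (X' : Over (Spec (CommRingCat.of k))) (t : X' ⟶ X) (y : X' ⟶ Y),
          (t ≫ g) * (y ≫ v) = (y ≫ v) * (t ≫ g) := fun X g => by
    rw [← hF X g, Groth.Agent.H8Coincidence.agree_iff]
    simp only [a, b, comp_mul, lift_fst, lift_snd_assoc]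
  have hm : Mono j := ⟨fun p q hpq =>
    Over.OverMorphism.ext ((cancel_mono j.left).mp (congrArg Over.Hom.left hpq))⟩
  let Sub : ∀ X : Over (Spec (CommRingCat.of k)), Subgroup (X ⟶ G) := fun X =>
    { carrier := {g | ∀ (X' : Over (Spec (CommRingCat.of k))) (t : X' ⟶ X) (y : X' ⟶ Y),
          (t ≫ g) * (y ≫ v) = (y ≫ v) * (t ≫ g)}
      one_mem' := fun X' t y => by simp only [MonObj.comp_one, _root_.one_mul, _root_.mul_one]
      mul_mem' := fun hp hq X' t y => by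
        rw [comp_mul]
        exact Commute.mul_left (hp X' t y) (hq X' t y)
      inv_mem' := fun hp X' t y => by
        rw [GrpObj.comp_inv]
        exact Commute.inv_left (hp X' t y) }
  obtain ⟨inst, hmon⟩ := Groth.Agent.H8SubGrp.exists_grpObj j Sub key
  exact ⟨F, inst, j, hmon, hj, key⟩

/-- Let G be a group scheme over a field k and g a k-rational point of G. Then the smallest closed
subgroup scheme Γ of G through which g factors (the closed subgroup generated by g) is commutative. -/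
theorem result (k : Type u) [Field k] (G : Over (Spec (CommRingCat.of k))) [GrpObj G]
    (g : 𝟙_ (Over (Spec (CommRingCat.of k))) ⟶ G) (Γ : Over (Spec (CommRingCat.of k))) [GrpObj Γ] (i : Γ ⟶ G) [IsMonHom i] [IsClosedImmersion i.left]
    (hf : ∃ f' : 𝟙_ (Over (Spec (CommRingCat.of k))) ⟶ Γ, f' ≫ i = g)
    (hmin : ∀ (Γ' : Over (Spec (CommRingCat.of k))) (_ : GrpObj Γ') (i' : Γ' ⟶ G), IsMonHom i' → IsClosedImmersion i'.left →
        (∃ f'' : 𝟙_ (Over (Spec (CommRingCat.of k))) ⟶ Γ', f'' ≫ i' = g) → ∃ j : Γ ⟶ Γ', j ≫ i' = i) :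
    IsCommMonObj Γ := by
  obtain ⟨f', hf'⟩ := hf
  have hm : Mono i := ⟨fun p q hpq =>
    Over.OverMorphism.ext ((cancel_mono i.left).mp (congrArg Over.Hom.left hpq))⟩
  obtain ⟨C₁, inst₁, c₁, hc₁, hc₁', h₁⟩ := centralizer g
  obtain ⟨j₁, hj₁⟩ := hmin C₁ inst₁ c₁ hc₁ hc₁' ((h₁ _ g).mpr fun X' t y => by
    rw [toUnit_unique t y])
  obtain ⟨C₂, inst₂, c₂, hc₂, hc₂', h₂⟩ := centralizer i
  obtain ⟨j₂, hj₂⟩ := hmin C₂ inst₂ c₂ hc₂ hc₂' ((h₂ _ g).mpr fun X' t y => by
    exact ((h₁ X' (y ≫ i)).mp ⟨y ≫ j₁, by rw [Category.assoc, hj₁]⟩ X' (𝟙 X') t).symm.trans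
      (by rw [Category.id_comp]))
  have hc : ∀ (X : Over (Spec (CommRingCat.of k))) (p q : X ⟶ Γ), (p ≫ i) * (q ≫ i) = (q ≫ i) * (p ≫ i) :=
    fun X p q => by
      have h := (h₂ X (p ≫ i)).mp ⟨p ≫ j₂, by rw [Category.assoc, hj₂]⟩ X (𝟙 X) q
      rwa [Category.id_comp] at h
  constructor
  show (β_ Γ Γ).hom ≫ μ = μ
  have e : CartesianMonoidalCategory.fst Γ Γ * CartesianMonoidalCategory.snd Γ Γ = μ[Γ] := by
    rw [Hom.mul_def, lift_fst_snd, Category.id_comp]
  rw [← e, comp_mul, braiding_hom_fst, braiding_hom_snd, ← cancel_mono i]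
  rw [MonObj.mul_comp, MonObj.mul_comp]
  exact hc _ _ _

end Groth.Agent.S5363
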