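import Groth.Statements.S5377
import Mathlib

set_option autoImplicit false
universe u
open CategoryTheory CategoryTheory.Limits MonoidalCategory CartesianMonoidalCategory MonObj GrpObj AlgebraicGeometry
open SGA3

namespace Groth.Agent.S5377
theorem rep {J : Type u} [SmallCategory J] [IsFiltered J] (X : J ⥤ CommRingCat.{u}) {κ : Type} [Fintype κ]
    (f : κ → ↥(colimit X)) (j₀ : J) :
    ∃ (j : J) (_ : j₀ ⟶ j) (g : κ → X.obj j), ∀ i, (colimit.ι X j).hom (g i) = f i := by
  classical
  choose jj gg hgg using fun i => Concrete.colimit_exists_rep X (f i)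
  obtain ⟨j, hj⟩ := IsFiltered.sup_objs_exists (insert j₀ (Finset.univ.image jj))
  refine ⟨j, (hj (Finset.mem_insert_self _ _)).some,
    fun i => X.map (hj (Finset.mem_insert_of_mem (Finset.mem_image_of_mem jj (Finset.mem_univ i)))).some (gg i),
    fun i => ?_⟩
  rw [← hgg i]
  exact congr($(colimit.w X _) (gg i))

theorem eq_at {J : Type u} [SmallCategory J] [IsFiltered J] (X : J ⥤ CommRingCat.{u}) {j : J} (a b : X.obj j)
    (h : (colimit.ι X j).hom a = (colimit.ι X j).hom b) : ∃ (k : J) (t : j ⟶ k), X.map t a = X.map t b := by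
  obtain ⟨k, t₁, t₂, ht⟩ := Concrete.colimit_exists_of_rep_eq X a b h
  refine ⟨IsFiltered.coeq t₁ t₂, t₁ ≫ IsFiltered.coeqHom t₁ t₂, ?_⟩
  conv_rhs => rw [IsFiltered.coeq_condition t₁ t₂]
  simp only [X.map_comp]
  exact congrArg (fun z => (X.map (IsFiltered.coeqHom t₁ t₂)).hom z) ht


/-- Let (C_i → A_i)_i be a filtered direct system of homomorphisms of commutative rings, each of which
is faithfully flat. Then the induced homomorphism colim C_i → colim A_i is faithfully flat. -/
theorem result (J : Type u) [SmallCategory J] [IsFiltered J]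
    (C A : J ⥤ CommRingCat.{u}) (φ : C ⟶ A) (h : ∀ j : J, (φ.app j).hom.FaithfullyFlat) :
    (colimMap φ).hom.FaithfullyFlat := by
  let ψ := colimMap φ
  have hι : ∀ j (c : C.obj j), ψ.hom ((colimit.ι C j).hom c) = (colimit.ι A j).hom ((φ.app j).hom c) :=
    fun j c => congr($(ι_colimMap φ j) c)
  have hnat : ∀ {j k : J} (t : j ⟶ k) (c : C.obj j), (φ.app k).hom (C.map t c) = A.map t ((φ.app j).hom c) :=
    fun t c => congr($(φ.naturality t) c)
  letI := ψ.hom.toAlgebra
  show Module.FaithfullyFlat (colimit C : CommRingCat.{u}) (colimit A : CommRingCat.{u})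
  rw [Module.FaithfullyFlat.iff_flat_and_proper_ideal]
  refine ⟨Module.Flat.of_forall_isTrivialRelation fun {l f x} hfx => ?_, fun I hI hI' => hI ?_⟩
  · let j₀ : J := IsFiltered.nonempty.some
    obtain ⟨j₁, -, f₁, hf₁⟩ := rep C f j₀
    obtain ⟨j₂, t₁₂, x₂, hx₂⟩ := rep A x j₁
    let f₂ : Fin l → C.obj j₂ := fun i => C.map t₁₂ (f₁ i)
    have hf₂ : ∀ i, (colimit.ι C j₂).hom (f₂ i) = f i := fun i => by
      rw [← hf₁ i]; exact congr($(colimit.w C t₁₂) (f₁ i))
    obtain ⟨k, t, hk⟩ := eq_at A (∑ i, (φ.app j₂).hom (f₂ i) * x₂ i) 0 (by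
      rw [map_sum, map_zero, ← hfx]
      refine Finset.sum_congr rfl fun i _ => ?_
      rw [map_mul, ← hι, hf₂, hx₂]
      rfl)
    letI := (φ.app k).hom.toAlgebra
    haveI : Module.Flat (C.obj k) (A.obj k) := (h k).flat
    obtain ⟨m, a, y, hy, ha⟩ := Module.Flat.isTrivialRelation_of_sum_smul_eq_zero
      (f := fun i => (C.map t).hom (f₂ i)) (x := fun i => (A.map t).hom (x₂ i)) (by
        rw [map_zero] at hk
        rw [← hk, map_sum]
        refine Finset.sum_congr rfl fun i _ => ?_
        rw [map_mul]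
        show (φ.app k).hom _ * _ = _
        rw [hnat])
    refine ⟨m, fun i j => (colimit.ι C k).hom (a i j), fun j => (colimit.ι A k).hom (y j), fun i => ?_, fun j => ?_⟩
    · rw [← hx₂ i, ← congr($(colimit.w A t) (x₂ i))]
      refine (congrArg (fun z => (colimit.ι A k).hom z) (hy i)).trans ?_
      rw [map_sum]
      refine Finset.sum_congr rfl fun j _ => ?_
      show (colimit.ι A k).hom ((φ.app k).hom (a i j) * y j) = ψ.hom _ * _
      rw [map_mul, hι]
    · rw [← map_zero (colimit.ι C k).hom, ← ha j, map_sum]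
      refine Finset.sum_congr rfl fun i _ => ?_
      rw [map_mul, ← hf₂ i]
      exact congrArg (· * _) (congr($(colimit.w C t) (f₂ i))).symm
  · rw [Ideal.eq_top_iff_one]
    rw [Ideal.smul_top_eq_map, Submodule.restrictScalars_eq_top_iff, Ideal.eq_top_iff_one,
      Ideal.map, Submodule.mem_span_set'] at hI'
    obtain ⟨n, c, g, hg⟩ := hI'
    choose b hbI hb using fun i => (g i).2
    obtain ⟨j₁, -, b₁, hb₁⟩ := rep C b IsFiltered.nonempty.some
    obtain ⟨j₂, t₁₂, c₂, hc₂⟩ := rep A c j₁
    let b₂ : Fin n → C.obj j₂ := fun i => C.map t₁₂ (b₁ i)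
    have hb₂ : ∀ i, (colimit.ι C j₂).hom (b₂ i) = b i := fun i => by
      rw [← hb₁ i]; exact congr($(colimit.w C t₁₂) (b₁ i))
    obtain ⟨k, t, hk⟩ := eq_at A (∑ i, c₂ i * (φ.app j₂).hom (b₂ i)) 1 (by
      rw [map_sum, map_one, ← hg]
      refine Finset.sum_congr rfl fun i _ => ?_
      rw [map_mul, ← hι, hb₂, hc₂, smul_eq_mul, ← hb i]
      rfl)
    letI := (φ.app k).hom.toAlgebra
    haveI : Module.FaithfullyFlat (C.obj k) (A.obj k) := h k
    have h1 : (1 : A.obj k) ∈ (I.comap (colimit.ι C k).hom).map (φ.app k).hom := by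
      rw [map_one] at hk
      rw [← hk, map_sum]
      refine Ideal.sum_mem _ fun i _ => ?_
      rw [map_mul]
      refine Ideal.mul_mem_left _ _ ?_
      rw [← hnat]
      refine Ideal.mem_map_of_mem _ ?_
      rw [Ideal.mem_comap]
      have e : (colimit.ι C k).hom ((C.map t) (b₂ i)) = b i := (congr($(colimit.w C t) (b₂ i))).trans (hb₂ i)
      rw [e]
      exact hbI i
    have h2 : ((I.comap (colimit.ι C k).hom).map (algebraMap (C.obj k) (A.obj k))).comap
        (algebraMap (C.obj k) (A.obj k)) = I.comap (colimit.ι C k).hom :=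
      Ideal.comap_map_eq_self_of_faithfullyFlat _
    have h3 : (1 : C.obj k) ∈ I.comap (colimit.ι C k).hom := by
      rw [← h2, Ideal.mem_comap, map_one]
      exact h1
    rw [Ideal.mem_comap, map_one] at h3
    exact h3

end Groth.Agent.S5377
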