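import Groth.Statements.S5379
import Mathlib
import Groth.Agent.Lib.H8GrpImg
import Groth.Agent.Lib.H8GrpFlatGen

set_option autoImplicit false
universe u
open CategoryTheory CategoryTheory.Limits MonoidalCategory CartesianMonoidalCategory MonObj GrpObj AlgebraicGeometry
open SGA3

namespace Groth.Agent.S5379
open Groth.Agent CategoryTheory.Limits

/-- Let k be a field and u : G → H a homomorphism of k-group schemes which is a quasi-compact
monomorphism, with H affine (G and H are not assumed of finite type). Then u is a closed immersion. -/
theorem result (k : Type u) [Field k] (G H : Over (Spec (CommRingCat.of k)))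
    [GrpObj G] [GrpObj H] [IsAffine H.left] (u : G ⟶ H) [IsMonHom u] [Mono u] [QuasiCompact u.left] :
    IsClosedImmersion u.left := by
  obtain ⟨H', g, i, f', hi, hf', hfi, hci, hker, hqc, hsurj⟩ := H8GrpImg.exists_image G H u
  letI := g
  haveI := hi
  haveI := hf'
  haveI := hci
  haveI := hqc
  haveI := hsurj
  haveI : IsSchemeTheoreticallyDominant f'.left := ⟨hker⟩
  haveI : IsAffine H'.left := isAffine_of_isAffineHom i.left
  haveI : CompactSpace G.left := QuasiCompact.compactSpace_of_compactSpace u.left
  haveI hflat : Flat f'.left := (H8GrpFlatGen.flat_and_surjective G H' f' (f'.left.app_injective ⊤)).1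
  haveI : Mono u.left := inferInstanceAs (Mono ((Over.forget _).map u))
  have hu : u.left = f'.left ≫ i.left := congrArg Over.Hom.left hfi.symm
  haveI : Mono f'.left := by
    haveI : Mono (f'.left ≫ i.left) := hu ▸ ‹Mono u.left›
    exact mono_of_mono f'.left i.left
  haveI : IsIso f'.left :=
    MorphismProperty.of_pullback_fst_of_descendsAlong (P := MorphismProperty.isomorphisms Scheme)
      (Q := @Surjective ⊓ @Flat ⊓ @QuasiCompact) (f := f'.left) (g := f'.left)
      ⟨⟨inferInstance, inferInstance⟩, inferInstance⟩
      (inferInstanceAs (IsIso (pullback.fst f'.left f'.left)))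
  rw [hu]
  infer_instance

end Groth.Agent.S5379
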