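import Groth.Statements.S5403
import Mathlib
import Groth.Agent.Lib.H8Homogeneous

set_option autoImplicit false
universe u
open CategoryTheory CategoryTheory.Limits MonoidalCategory CartesianMonoidalCategory MonObj GrpObj AlgebraicGeometry
open SGA3

namespace Groth.Agent.S5403

theorem C0_eq {k : Type u} [Field k]
    (G : CategoryTheory.Over (AlgebraicGeometry.Spec (CommRingCat.of k))) [CategoryTheory.GrpObj G]
    (C0 : Set G.left) (hC0 : C0 ∈ irreducibleComponents ↥G.left)
    (he : Groth.Agent.H8Component.org G ∈ C0) :
    C0 = {x | Groth.Agent.H8Component.gen G x = Groth.Agent.H8Component.gen₀ G} := by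
  obtain ⟨c, hc⟩ := QuasiSober.sober hC0.prop (isClosed_of_mem_irreducibleComponents _ hC0)
  have hmax : Groth.Agent.H8GenPoint.IsMaxPt c := by
    intro y hy
    have hsub : C0 ⊆ closure {y} := by
      rw [← hc.def]
      exact closure_minimal (Set.singleton_subset_iff.mpr hy.mem_closure) isClosed_closure
    exact (hy.antisymm (hc.specializes ((hC0.2 isIrreducible_singleton.closure hsub)
      (subset_closure rfl)))).eq
  ext x
  rw [← hc.def, Groth.Agent.H8Component.eq_gen G hmax (hc.specializes he)]
  exact Groth.Agent.H8IdComp.mem_closure_gen₀_iff G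

/-- Let G be a group scheme over a field k (not assumed of finite type) acting on a quasi-separated
k-scheme X so that G ×_k X → X ×_k X, (g, x) ↦ (gx, x), is surjective, and let x be a k-rational
point of X and C the connected component of X containing x. Then the orbit morphism g ↦ g·x maps the
irreducible component of G containing the unit point (the underlying set of the neutral component
G⁰) onto C, and for every field extension K of k the inverse image of C in X ⊗_k K is irreducible. -/
theorem result (k : Type u) [Field k] (G X : Over (Spec (CommRingCat.of k)))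
    [GrpObj G] [QuasiSeparatedSpace X.left] (a : AlgGrp.Action G X) (hΦ : Surjective (lift a.act (snd G X)).left)
    (x : 𝟙_ (Over (Spec (CommRingCat.of k))) ⟶ X) (pt : ↥(𝟙_ (Over (Spec (CommRingCat.of k)))).left)
    (C0 : Set G.left) (hC0 : C0 ∈ irreducibleComponents ↥G.left) (he : η[G].left.base pt ∈ C0) :
    (a.orbitMap x).left.base '' C0 = connectedComponent (x.left.base pt) ∧
    ∀ (K : Type u) [Field K] [Algebra k K],
      IsIrreducible ((pullback.fst X.hom (Spec.map (CommRingCat.ofHom (algebraMap k K)))).base ⁻¹' connectedComponent (x.left.base pt)) := by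
  haveI : Subsingleton ↥(𝟙_ (Over (Spec (CommRingCat.of k)))).left :=
    inferInstanceAs (Subsingleton ↥(Spec (CommRingCat.of k)))
  have hC : C0 = {x | Groth.Agent.H8Component.gen G x = Groth.Agent.H8Component.gen₀ G} :=
    C0_eq G C0 hC0 (by
      rw [show Groth.Agent.H8Component.org G = η[G].left.base pt from
        congrArg η[G].left (Subsingleton.elim (α := ↥(𝟙_ (Over (Spec (CommRingCat.of k)))).left) _ _)]
      exact he)
  have hpt : x.left.base pt = x.left (IsLocalRing.closedPoint k) :=
    congrArg x.left (Subsingleton.elim (α := ↥(𝟙_ (Over (Spec (CommRingCat.of k)))).left) _ _)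
  rw [Groth.Agent.H8Homogeneous.connectedComponent_eq a hΦ]
  refine ⟨?_, fun K _ _ => ?_⟩
  · ext y
    constructor
    · rintro ⟨c, hc, rfl⟩
      rw [hC] at hc
      rw [← specializes_iff_mem_closure]
      let m : G ⟶ G ⊗ X := lift (𝟙 G) (toUnit G ≫ x)
      have h1 : (fst G X).left (m.left c) = c := by
        rw [← Scheme.Hom.comp_apply, ← CategoryTheory.Over.comp_left, lift_fst]
        rfl
      have h2 : (snd G X).left (m.left c) = x.left.base pt := by
        rw [← Scheme.Hom.comp_apply, ← CategoryTheory.Over.comp_left, lift_snd,
          CategoryTheory.Over.comp_left, Scheme.Hom.comp_apply]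
        exact congrArg x.left (Subsingleton.elim (α := ↥(𝟙_ (Over (Spec (CommRingCat.of k)))).left) _ _)
      have h3 := Groth.Agent.H8Homogeneous.genX_act a hΦ (m.left c) (by rw [h1]; exact hc)
      rw [h2] at h3
      rw [← h3]
      exact Groth.Agent.H8Homogeneous.genX_specializes a hΦ _
    · intro hy
      rw [← specializes_iff_mem_closure] at hy
      obtain ⟨c, hc, hcy⟩ := Groth.Agent.H8Homogeneous.exists_act_rat a hΦ x y (by
        rw [← hpt, ← Groth.Agent.H8Homogeneous.genX_eq_of_specializes a hΦ hy]
        exact Groth.Agent.H8Homogeneous.genX_eq_self a hΦ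
          (Groth.Agent.H8Homogeneous.isMaxPt_genX a hΦ _))
      exact ⟨c, by rw [hC]; exact hc, hcy⟩
  · let s := Spec.map (CommRingCat.ofHom (algebraMap k K))
    let ω := Groth.Agent.H8Homogeneous.om a (toUnit (CategoryTheory.Over.mk s) ≫ x)
    suffices h : (pullback.fst X.hom s).base ⁻¹'
        closure {Groth.Agent.H8Homogeneous.genX a hΦ (x.left.base pt)} = closure {ω} by
      rw [h]; exact isIrreducible_singleton.closure
    have hω : (fst X (CategoryTheory.Over.mk s)).left ω
        = Groth.Agent.H8Homogeneous.genX a hΦ (x.left.base pt) := by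
      rw [Groth.Agent.H8Homogeneous.fst_om a hΦ]
      congr 1
      exact congrArg x.left (Subsingleton.elim (α := ↥(𝟙_ (Over (Spec (CommRingCat.of k)))).left) _ _)
    ext z
    constructor
    · intro hz
      obtain ⟨w, hw, hwz⟩ := Groth.Agent.H8GenPoint.exists_isMaxPt z
      rw [← specializes_iff_mem_closure]
      have h1 : (fst X (CategoryTheory.Over.mk s)).left w
          = Groth.Agent.H8Homogeneous.genX a hΦ (x.left (IsLocalRing.closedPoint k)) := by
        rw [← hpt]
        have h2 := specializes_iff_mem_closure.mpr hz
        rw [← Groth.Agent.H8Homogeneous.genX_eq_self a hΦ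
          (Groth.Agent.H8Homogeneous.isMaxPt_genX a hΦ (x.left.base pt)),
          Groth.Agent.H8Homogeneous.genX_eq_of_specializes a hΦ h2]
        exact Groth.Agent.H8Homogeneous.eq_genX a hΦ (hw.map _)
          (hwz.map (fst X (CategoryTheory.Over.mk s)).left.continuous)
      rw [← show w = ω from Groth.Agent.H8Homogeneous.eq_om_of_genX a hΦ s x w hw h1]
      exact hwz
    · intro hz
      rw [Set.mem_preimage, ← specializes_iff_mem_closure, ← hω]
      exact (specializes_iff_mem_closure.mpr hz).map (fst X (CategoryTheory.Over.mk s)).left.continuous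

end Groth.Agent.S5403
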