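import Groth.Statements.S5446
import Groth.Agent.Lib.RootSub

set_option autoImplicit false
open RootD

namespace Groth.Agent.S5446

/-- If the roots indexed by Δ are indivisible and linearly independent and every root is, up to sign, a
non-negative rational combination of them (some positive multiple is a non-negative integer
combination), then Δ is a system of simple roots: every root is, up to sign, a non-negative integer
combination of Δ. -/
theorem result {ι M N : Type*} [AddCommGroup M] [AddCommGroup N]
    (P : RootPairing ι ℤ M N) [Finite ι] (Δ : Set ι)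
    (hind : ∀ i ∈ Δ, RootD.IsIndiv P i) (hli : LinearIndepOn ℤ P.root Δ)
    (hcone : ∀ k : ι, ∃ n : ℕ, 0 < n ∧
      (n • P.root k ∈ RootD.natSpan P Δ ∨ n • (-P.root k) ∈ RootD.natSpan P Δ)) :
    RootD.IsSimpleSys P Δ := by
  classical
  letI := Fintype.ofFinite ι
  have hind' := RootLib.intIndep_of_linearIndepOn hli
  set S : Set ι := {k | ∃ n : ℕ, 0 < n ∧ n • P.root k ∈ RootD.natSpan P Δ} with hS_def
  have := RootLib.torsionFree P
  have hS : RootD.IsPosSys P S := by
    rw [RootLib.isPosSys_iff]
    refine ⟨?_, fun i => ?_, ?_⟩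
    · rintro i ⟨n, hn, h1⟩ ⟨m, hm, h2⟩
      obtain ⟨c, hc, he⟩ := (RootLib.mem_natSpan_iff_fun P).1 h1
      obtain ⟨d, hd, hf⟩ := (RootLib.mem_natSpan_iff_fun P).1 h2
      have h0 := hind' (fun t => ((m * c t + n * d t : ℕ) : ℤ)) (fun t ht => by simp [hc t ht, hd t ht]) (by
        simp only [natCast_zsmul, add_smul, mul_smul, Finset.sum_add_distrib, ← Finset.smul_sum, ← he, ← hf,
          RootLib.root_nr, smul_neg]
        rw [smul_comm m n]; simp)
      refine RootLib.root_ne_zero P i (IsAddTorsionFree.nsmul_right_injective hn.ne' ?_)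
      simp only [smul_zero]
      rw [he]
      refine Finset.sum_eq_zero fun t _ => ?_
      have := congrFun h0 t
      simp at this
      have h5 : m * c t + n * d t = 0 := by exact_mod_cast this
      have h6 : c t = 0 := by
        rcases Nat.mul_eq_zero.1 (Nat.add_eq_zero_iff.1 h5).1 with h | h
        · omega
        · exact h
      simp [h6]
    · obtain ⟨n, hn, h | h⟩ := hcone i
      · exact Or.inl ⟨n, hn, h⟩
      · exact Or.inr ⟨n, hn, by rw [RootLib.root_nr]; exact h⟩
    · rintro i j k ⟨n, hn, h1⟩ ⟨m, hm, h2⟩ h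
      refine ⟨n * m, Nat.mul_pos hn hm, ?_⟩
      rw [h, smul_add]
      refine AddSubmonoid.add_mem _ ?_ ?_
      · rw [mul_comm, mul_smul]; exact AddSubmonoid.nsmul_mem _ h1 _
      · rw [mul_smul]; exact AddSubmonoid.nsmul_mem _ h2 _
  have hΔ₀ := RootLib.isSimpleSys_simples hS
  have hmul : ∀ x ∈ RootD.natSpan P S, ∃ n : ℕ, 0 < n ∧ n • x ∈ RootD.natSpan P Δ := by
    intro x hx
    induction hx using AddSubmonoid.closure_induction with
    | mem x hx => obtain ⟨a, ha, rfl⟩ := hx; exact ha
    | zero => exact ⟨1, one_pos, by simp⟩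
    | add x y _ _ hx hy =>
      obtain ⟨n, hn, hx⟩ := hx
      obtain ⟨m, hm, hy⟩ := hy
      refine ⟨n * m, Nat.mul_pos hn hm, ?_⟩
      rw [smul_add]
      refine AddSubmonoid.add_mem _ ?_ ?_
      · rw [mul_comm, mul_smul]; exact AddSubmonoid.nsmul_mem _ hx _
      · rw [mul_smul]; exact AddSubmonoid.nsmul_mem _ hy _
  have hsub : Δ ⊆ RootLib.simples P S := by
    intro a ha
    have haS : a ∈ S := ⟨1, one_pos, by rw [one_smul]; exact RootLib.root_mem_natSpan P ha⟩
    obtain ⟨c, hc, hce⟩ := (RootLib.mem_natSpan_iff_fun P).1 (RootLib.natSpan_simples hS haS)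
    obtain ⟨b, hb⟩ : ∃ b, 0 < c b := by
      by_contra hh
      push Not at hh
      exact RootLib.root_ne_zero P a (by rw [hce]; exact Finset.sum_eq_zero fun t _ => by simp [Nat.le_zero.1 (hh t)])
    have hbS : b ∈ RootLib.simples P S := by
      by_contra hh; rw [hc b hh] at hb; omega
    obtain ⟨n, hn, hnb⟩ := hbS.1
    obtain ⟨e, he, hee⟩ := (RootLib.mem_natSpan_iff_fun P).1 hnb
    have hrest : ∑ t ∈ Finset.univ.erase b, c t • P.root t ∈ RootD.natSpan P S :=
      AddSubmonoid.sum_mem _ fun t _ => by
        by_cases ht : t ∈ RootLib.simples P S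
        · exact AddSubmonoid.nsmul_mem _ (RootLib.root_mem_natSpan P ht.1) _
        · simp [hc t ht]
    obtain ⟨m, hm, hmr⟩ := hmul _ hrest
    obtain ⟨r, hr, hre⟩ := (RootLib.mem_natSpan_iff_fun P).1 hmr
    have h0 := hind' ((fun t => ((m * c b * e t + n * r t : ℕ) : ℤ)) - Pi.single a ((m * n : ℕ) : ℤ))
      (fun t ht => by
        have : t ≠ a := fun hh => ht (hh ▸ ha)
        simp [he t ht, hr t ht, this]) (by
      simp only [Pi.sub_apply, sub_smul, Finset.sum_sub_distrib, natCast_zsmul, add_smul, mul_smul,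
        Finset.sum_add_distrib, ← Finset.smul_sum, ← hee, ← hre]
      have hsingle : ∑ t, (Pi.single a ((m * n : ℕ) : ℤ) : ι → ℤ) t • P.root t = (m * n) • P.root a := by
        rw [Finset.sum_eq_single a (by simp +contextual) (by simp), Pi.single_eq_same, natCast_zsmul]
      rw [hsingle, sub_eq_zero,
        hce, ← Finset.add_sum_erase _ _ (Finset.mem_univ b), smul_add, mul_smul, mul_smul]
      rw [smul_comm n m, smul_comm (c b) n, smul_comm m n])
    have he' : ∀ t, t ≠ a → e t = 0 := by
      intro t ht
      have := congrFun h0 t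
      simp [ht] at this
      have h5 : m * c b * e t + n * r t = 0 := by exact_mod_cast this
      rcases Nat.mul_eq_zero.1 (Nat.add_eq_zero_iff.1 h5).1 with h | h
      · rcases Nat.mul_eq_zero.1 h with h | h <;> omega
      · exact h
    have hba : n • P.root b = e a • P.root a := by
      rw [hee]
      exact Finset.sum_eq_single a (fun t _ ht => by simp [he' t ht]) (by simp)
    have hea : 0 < e a := by
      rcases Nat.eq_zero_or_pos (e a) with h | h
      · rw [h, zero_smul] at hba
        exact absurd (IsAddTorsionFree.nsmul_right_injective hn.ne' (by simpa using hba)) (RootLib.root_ne_zero P b)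
      · exact h
    have := RootLib.indiv_eq_of_prop (hind a ha) (RootLib.simple_isIndiv hΔ₀ hbS) (n := (n : ℤ)) (m := (e a : ℤ))
      (by exact_mod_cast hn) (by exact_mod_cast hea) (by rw [natCast_zsmul, natCast_zsmul, hba])
    exact this ▸ hbS
  have hΔeq : Δ = RootLib.simples P S := by
    refine Set.Subset.antisymm hsub fun b hb => ?_
    by_contra hbΔ
    obtain ⟨n, hn, hnb⟩ := hb.1
    obtain ⟨e, he, hee⟩ := (RootLib.mem_natSpan_iff_fun P).1 hnb
    have h0 := RootLib.intIndep_simples hS ((fun t => (e t : ℤ)) - Pi.single b (n : ℤ))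
      (fun t ht => by
        have h1 : t ∉ Δ := fun hh => ht (hsub hh)
        have h2 : t ≠ b := fun hh => ht (hh ▸ hb)
        simp [he t h1, h2]) (by
      simp only [Pi.sub_apply, sub_smul, Finset.sum_sub_distrib, natCast_zsmul, ← hee]
      rw [Finset.sum_eq_single b] <;> simp +contextual)
    have := congrFun h0 b
    simp [he b hbΔ] at this
    omega
  rw [hΔeq]
  exact hΔ₀

end Groth.Agent.S5446
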