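import Groth.Statements.S5447
import Groth.Agent.Lib.RootSub

set_option autoImplicit false
open RootD

namespace Groth.Agent.S5447

/-- If every root can be written in exactly one way as an integer combination of the roots indexed by Δ
with coefficients all of the same sign, then these roots are linearly independent (so Δ is a system
of simple roots) and indivisible. -/
theorem result {ι M N : Type*} [AddCommGroup M] [AddCommGroup N]
    (P : RootPairing ι ℤ M N) [Finite ι] (Δ : Set ι)
    (h : ∀ k : ι, ∃! c : ι →₀ ℤ, (↑c.support ⊆ Δ ∧ ((∀ j, 0 ≤ c j) ∨ (∀ j, c j ≤ 0)) ∧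
      Finsupp.linearCombination ℤ P.root c = P.root k)) :
    RootD.IsSimpleSys P Δ ∧ ∀ i ∈ Δ, RootD.IsIndiv P i := by
  classical
  letI := Fintype.ofFinite ι
  have toFun : ∀ c : ι →₀ ℤ, Finsupp.linearCombination ℤ P.root c = ∑ t, c t • P.root t := fun c => by
    rw [Finsupp.linearCombination_apply, Finsupp.sum_fintype _ _ (by simp)]
  have cand : ∀ (c : ι → ℤ) (k : ι), RootLib.SuppIn Δ c → ((∀ j, 0 ≤ c j) ∨ (∀ j, c j ≤ 0)) →
      P.root k = ∑ t, c t • P.root t → (h k).exists.choose = Finsupp.equivFunOnFinite.symm c := by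
    intro c k hc hsign he
    refine (h k).unique (h k).exists.choose_spec ⟨?_, ?_, ?_⟩
    · intro t ht
      by_contra hh
      simp [hc t hh] at ht
    · simpa using hsign
    · rw [toFun]; simpa using he.symm
  have hS : RootD.IsPosSys P (RootD.posOf P Δ) := by
    rw [RootLib.isPosSys_iff]
    refine ⟨?_, fun i => ?_, ?_⟩
    · intro i h1 h2
      obtain ⟨c, hc, he⟩ := (RootLib.mem_natSpan_iff_fun P).1 h1
      obtain ⟨d, hd, hf⟩ := (RootLib.mem_natSpan_iff_fun P).1 h2
      rw [RootLib.root_nr] at hf
      have e1 := cand (fun t => (c t : ℤ)) i (fun t ht => by simp [hc t ht]) (Or.inl fun t => by positivity) (by simpa using he)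
      have e2 := cand (fun t => -(d t : ℤ)) i (fun t ht => by simp [hd t ht]) (Or.inr fun t => by simp)
        (by simpa [neg_eq_iff_eq_neg] using hf)
      refine RootLib.root_ne_zero P i ?_
      rw [he]
      refine Finset.sum_eq_zero fun t _ => ?_
      have := DFunLike.congr_fun (e1.symm.trans e2) t
      simp at this
      have : c t = 0 := by omega
      simp [this]
    · obtain ⟨hc, hsign, he⟩ := (h i).exists.choose_spec
      set c := (h i).exists.choose
      rw [toFun] at he
      have hsupp : ∀ t ∉ Δ, c t = 0 := fun t ht => by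
        by_contra hh; exact ht (hc (Finsupp.mem_support_iff.2 hh))
      rcases hsign with hs | hs
      · left
        refine (RootLib.mem_natSpan_iff_fun P).2 ⟨fun t => (c t).toNat, fun t ht => by simp [hsupp t ht], ?_⟩
        rw [← he]
        exact Finset.sum_congr rfl fun t _ => by rw [← natCast_zsmul, Int.toNat_of_nonneg (hs t)]
      · right
        refine (RootLib.mem_natSpan_iff_fun P).2 ⟨fun t => (-c t).toNat, fun t ht => by simp [hsupp t ht], ?_⟩
        rw [RootLib.root_nr, ← he, ← Finset.sum_neg_distrib]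
        exact Finset.sum_congr rfl fun t _ => by
          rw [← natCast_zsmul, Int.toNat_of_nonneg (by simpa using hs t), neg_smul]
    · intro i j k hi hj hk
      show P.root k ∈ RootD.natSpan P Δ
      rw [hk]; exact AddSubmonoid.add_mem _ hi hj
  have hΔ₀ := RootLib.isSimpleSys_simples hS
  have hsub : RootLib.simples P (RootD.posOf P Δ) ⊆ Δ := by
    rintro b ⟨hb, hdec⟩
    by_contra hbΔ
    obtain ⟨L, hL, hLs⟩ := (RootLib.mem_natSpan_iff_list P).1 hb
    obtain ⟨a, ha, hka | ⟨k', hk', hks⟩⟩ := RootLib.peel P hLs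
    · exact hbΔ (hka ▸ hL a ha)
    · exact hdec ⟨k', a, (RootLib.mem_natSpan_iff_list P).2 ⟨_, fun t ht => hL t (List.mem_of_mem_erase ht), hks⟩,
        RootLib.root_mem_natSpan P (hL a ha), hk'⟩
  have heq : Δ = RootLib.simples P (RootD.posOf P Δ) := by
    refine Set.Subset.antisymm (fun a ha => ?_) hsub
    by_contra hh
    obtain ⟨c, hc, he⟩ := (RootLib.mem_natSpan_iff_fun P).1
      (RootLib.natSpan_simples hS (RootLib.root_mem_natSpan P ha))
    have e1 := cand (fun t => (c t : ℤ)) a (fun t ht => by simp [hc t fun hh' => ht (hsub hh')])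
      (Or.inl fun t => by positivity) (by simpa using he)
    have e2 := cand (Pi.single a 1) a (fun t ht => by
        have : t ≠ a := fun h' => ht (h' ▸ ha)
        simp [this]) (Or.inl fun t => by by_cases ht : t = a <;> simp [ht])
      (by rw [Finset.sum_eq_single a] <;> simp +contextual)
    have := DFunLike.congr_fun (e1.symm.trans e2) a
    simp [hc a hh] at this
  have hΔ' : RootD.IsSimpleSys P Δ := heq ▸ hΔ₀
  exact ⟨hΔ', fun i hi => RootLib.simple_isIndiv hΔ' hi⟩

end Groth.Agent.S5447
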