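import Groth.Statements.S5451
import Groth.Agent.Lib.RootWeyl

set_option autoImplicit false
open RootD

namespace Groth.Agent.S5451

/-- If a root is a positive integer combination of roots α_i, then it can be reached from 0 by
successively adding roots taken among the α_i in such a way that every partial sum is a root. -/
theorem result {ι M N : Type*} [AddCommGroup M] [AddCommGroup N]
    (P : RootPairing ι ℤ M N) [Finite ι] {n : ℕ} (a : Fin n → ι) (m : Fin n → ℕ)
    (hm : ∀ i, 0 < m i) (k : ι) (hk : P.root k = ∑ i, m i • P.root (a i)) :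
    ∃ (l : ℕ) (b : Fin l → Fin n), 0 < l ∧
      (∀ p : Fin l, ∃ j : ι, P.root j = ∑ q ∈ Finset.univ.filter (fun q : Fin l => q.val ≤ p.val), P.root (a (b q))) ∧
      P.root k = ∑ q, P.root (a (b q)) := by
  classical
  let L : List (Fin n) := (List.finRange n).flatMap (fun i => List.replicate (m i) i)
  have hL : P.root k = ((L.map a).map P.root).sum := by
    rw [hk, Fin.sum_univ_def]
    simp only [L, List.map_flatMap, List.map_map, List.map_replicate]
    induction List.finRange n with
    | nil => simp
    | cons x t ih => simp [ih]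
  obtain ⟨L', hne, hmem, hsum, htake⟩ := RootLib.exists_chain P hL
  have hb : ∀ p : Fin L'.length, ∃ i, a i = L'.get p := fun p => by
    obtain ⟨i, -, hi⟩ := List.mem_map.1 (hmem _ (List.get_mem L' p))
    exact ⟨i, hi⟩
  choose b hb using hb
  refine ⟨L'.length, b, List.length_pos_of_ne_nil hne, fun p => ?_, ?_⟩
  · obtain ⟨j, hj⟩ := htake p p.2
    refine ⟨j, hj.trans ?_⟩
    rw [List.map_take, ← List.ofFn_getElem (xs := L'.map P.root), List.sum_take_ofFn]
    simp only [hb, List.getElem_map, Nat.lt_succ_iff]
    refine Finset.sum_bij' (fun q _ => ⟨q.1, by simpa using q.2⟩) (fun q _ => ⟨q.1, by simp⟩) ?_ ?_ ?_ ?_ ?_ <;> simp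
    exact fun q hq => hq
  · rw [hsum, ← List.ofFn_getElem (xs := L'.map P.root), List.sum_ofFn]
    simp only [hb, List.getElem_map]
    refine Finset.sum_bij' (fun q _ => ⟨q.1, by simpa using q.2⟩) (fun q _ => ⟨q.1, by simp⟩) ?_ ?_ ?_ ?_ ?_ <;> simp

end Groth.Agent.S5451
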