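import Groth.Statements.S5459
import Groth.Agent.Lib.RootSub

set_option autoImplicit false
open RootD

namespace Groth.Agent.S5459

/-- A closed set of roots containing each root or its opposite is, for a suitable system of simple roots
Δ and a subset Δ' ⊆ Δ, the set of roots lying in ℕΔ ∪ (-ℕΔ'). -/
theorem result {ι M N : Type*} [AddCommGroup M] [AddCommGroup N]
    (P : RootPairing ι ℤ M N) [Finite ι] (P' : Set ι)
    (hP2 : ∀ i : ι, i ∈ P' ∨ P.reflectionPerm i i ∈ P') (hcl : RootD.IsClosedSub P P') :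
    ∃ Δ Δ' : Set ι, RootD.IsSimpleSys P Δ ∧ Δ' ⊆ Δ ∧
      P' = RootD.posOf P Δ ∪ {k : ι | -P.root k ∈ RootD.natSpan P Δ'} := by
  obtain ⟨T, hT⟩ := RootLib.exists_posSys P
  obtain ⟨g, hg, hsub⟩ := RootLib.exists_img_subset_closed hT hP2 hcl
  have hS := RootLib.img_isPosSys g hT
  refine ⟨_, {a | a ∈ RootLib.simples P (RootLib.img g T) ∧ RootLib.nr P a ∈ P'}, RootLib.isSimpleSys_simples hS,
    fun a ha => ha.1, ?_⟩
  rw [RootLib.posOf_simples hS]
  exact RootLib.closed_superset_eq hS hcl hsub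

end Groth.Agent.S5459
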