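import Groth.Statements.S5460
import Groth.Agent.Lib.RootSub

set_option autoImplicit false
open RootD

namespace Groth.Agent.S5460

/-- A set of roots R' is the trace on R of a vector subspace (every root with a positive multiple in the
span of R' lies in R') if and only if R' is the set of roots in the span of a subset Δ' of some
system of simple roots Δ. -/
theorem result {ι M N : Type*} [AddCommGroup M] [AddCommGroup N]
    (P : RootPairing ι ℤ M N) [Finite ι] (R' : Set ι) :
    (∀ k : ι, (∃ n : ℕ, 0 < n ∧ n • P.root k ∈ Submodule.span ℤ (P.root '' R')) → k ∈ R') ↔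
      ∃ Δ Δ' : Set ι, RootD.IsSimpleSys P Δ ∧ Δ' ⊆ Δ ∧ R' = RootD.inSpan P Δ' := by
  constructor
  · intro hsat
    classical
    set W := Submodule.span ℚ (RootLib.rowQ P '' R') with hW
    have hmem : ∀ k, RootLib.rowQ P k ∈ W ↔ k ∈ R' :=
      fun k => ⟨fun hk => hsat k (RootLib.exists_nsmul_of_rowQ_mem hk), fun hk => Submodule.subset_span ⟨k, hk, rfl⟩⟩
    obtain ⟨T, hT⟩ := RootLib.exists_posSys P
    obtain ⟨h1, h2, h3, h4⟩ := RootLib.inter_subspace_data hT W
    obtain ⟨S, hS, -, hW', hsimp⟩ := RootLib.exists_posSys_extend P W h1 h2 h3 h4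
    refine ⟨RootLib.simples P S, {a ∈ RootLib.simples P S | RootLib.rowQ P a ∈ W}, RootLib.isSimpleSys_simples hS,
      Set.sep_subset _ _, ?_⟩
    ext k
    constructor
    · intro hk
      show P.root k ∈ Submodule.span ℤ _
      rcases hS.cover k with h | h
      · exact RootLib.natSpan_le_span ((hsimp k ((hmem k).2 hk)).2 k ((hmem k).2 hk) h)
      · have := RootLib.natSpan_le_span ((hsimp _ ((hmem k).2 hk)).2 _ (RootLib.rowQ_mem_nr ((hmem k).2 hk)) h)
        rw [RootLib.root_nr] at this
        exact neg_mem_iff.1 this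
    · intro hk
      refine hsat k ⟨1, one_pos, ?_⟩
      rw [one_smul]
      exact Submodule.span_mono (Set.image_mono fun a ha => (hmem a).1 ha.2) hk
  · rintro ⟨Δ, Δ', hΔ, hsub, rfl⟩ k ⟨n, hn, hk⟩
    have hk' : n • P.root k ∈ Submodule.span ℤ (P.root '' Δ') := by
      refine Submodule.span_le.2 ?_ hk
      rintro _ ⟨x, hx, rfl⟩
      exact hx
    exact (RootLib.mem_inSpan_iff hΔ hsub).2 (RootLib.coef_zero_of_nsmul_mem_span hΔ hsub hn hk')

end Groth.Agent.S5460
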