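import Groth.Statements.S5461
import Groth.Agent.Lib.RootSub

set_option autoImplicit false
open RootD

namespace Groth.Agent.S5461

/-- If R' is the trace of a vector subspace on the roots, every system of simple roots Δ' of the root
datum with roots R' is contained in a system of simple roots Δ of the whole datum, and R' is the set
of roots in the span of Δ'. -/
theorem result {ι M N : Type*} [AddCommGroup M] [AddCommGroup N]
    (P : RootPairing ι ℤ M N) [Finite ι] (R' : Set ι)
    (hsat : ∀ k : ι, (∃ n : ℕ, 0 < n ∧ n • P.root k ∈ Submodule.span ℤ (P.root '' R')) → k ∈ R')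
    (Δ' : Set ι) (hΔ'R : Δ' ⊆ R') (hli : LinearIndepOn ℤ P.root Δ')
    (hgen : ∀ k ∈ R', P.root k ∈ RootD.natSpan P Δ' ∨ -P.root k ∈ RootD.natSpan P Δ') :
    ∃ Δ : Set ι, RootD.IsSimpleSys P Δ ∧ Δ' ⊆ Δ ∧ R' = RootD.inSpan P Δ' := by
  classical
  letI := Fintype.ofFinite ι
  set W := Submodule.span ℚ (RootLib.rowQ P '' R') with hW
  have hmem : ∀ k, RootLib.rowQ P k ∈ W ↔ k ∈ R' :=
    fun k => ⟨fun hk => hsat k (RootLib.exists_nsmul_of_rowQ_mem hk), fun hk => Submodule.subset_span ⟨k, hk, rfl⟩⟩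
  have hind := RootLib.intIndep_of_linearIndepOn hli
  set S₀ : Set ι := {k ∈ R' | P.root k ∈ RootD.natSpan P Δ'} with hS₀
  have h1 : ∀ i ∈ S₀, RootLib.nr P i ∉ S₀ := by
    intro i hi hn
    obtain ⟨c, hc, he⟩ := (RootLib.mem_natSpan_iff_fun P).1 hi.2
    obtain ⟨d, hd, hf⟩ := (RootLib.mem_natSpan_iff_fun P).1 hn.2
    have h0 := hind (fun t => ((c t + d t : ℕ) : ℤ)) (fun t ht => by simp [hc t ht, hd t ht]) (by
      simp only [natCast_zsmul, add_smul, Finset.sum_add_distrib, ← he, ← hf, RootLib.root_nr, add_neg_cancel])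
    refine RootLib.root_ne_zero P i (he.trans (Finset.sum_eq_zero fun t _ => ?_))
    have := congrFun h0 t
    simp at this
    have hct : c t = 0 := by omega
    simp [hct]
  have h2 : ∀ i, RootLib.rowQ P i ∈ W → i ∈ S₀ ∨ RootLib.nr P i ∈ S₀ := by
    intro i hi
    rcases hgen i ((hmem i).1 hi) with h | h
    · exact Or.inl ⟨(hmem i).1 hi, h⟩
    · exact Or.inr ⟨(hmem _).1 (RootLib.rowQ_mem_nr hi), by rw [RootLib.root_nr]; exact h⟩
  have h3 : RootD.IsClosedSub P S₀ := fun i j k hi hj hk =>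
    ⟨(hmem k).1 (RootLib.rowQ_mem_add hk ((hmem i).2 hi.1) ((hmem j).2 hj.1)),
      by rw [hk]; exact AddSubmonoid.add_mem _ hi.2 hj.2⟩
  obtain ⟨S, hS, -, hW', hsimp⟩ := RootLib.exists_posSys_extend P W h1 h2 h3 (fun i hi => (hmem i).2 hi.1)
  refine ⟨RootLib.simples P S, RootLib.isSimpleSys_simples hS, fun a ha => ?_, ?_⟩
  · have haW := (hmem a).2 (hΔ'R ha)
    refine (hsimp a haW).1.2 ⟨⟨hΔ'R ha, RootLib.root_mem_natSpan P ha⟩, ?_⟩
    rintro ⟨i, j, hi, hj, hij⟩
    obtain ⟨c, hc, he⟩ := (RootLib.mem_natSpan_iff_fun P).1 hi.2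
    obtain ⟨d, hd, hf⟩ := (RootLib.mem_natSpan_iff_fun P).1 hj.2
    have h0 := hind ((fun t => ((c t + d t : ℕ) : ℤ)) - Pi.single a 1) (fun t ht => by
        have : t ≠ a := fun hh => ht (hh ▸ ha)
        simp [hc t ht, hd t ht, this]) (by
      simp only [Pi.sub_apply, sub_smul, Finset.sum_sub_distrib, natCast_zsmul, add_smul, Finset.sum_add_distrib,
        ← he, ← hf]
      rw [Finset.sum_eq_single a] <;> simp +contextual [hij])
    have hc0 : ∀ t, t ≠ a → c t = 0 ∧ d t = 0 := fun t ht => by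
      have := congrFun h0 t
      simp [ht] at this
      omega
    have hca := congrFun h0 a
    simp at hca
    rcases Nat.eq_zero_or_pos (c a) with h | h
    · refine RootLib.root_ne_zero P i (he.trans (Finset.sum_eq_zero fun t _ => ?_))
      by_cases ht : t = a
      · simp [ht, h]
      · simp [(hc0 t ht).1]
    · refine RootLib.root_ne_zero P j (hf.trans (Finset.sum_eq_zero fun t _ => ?_))
      by_cases ht : t = a
      · have : d a = 0 := by omega
        simp [ht, this]
      · simp [(hc0 t ht).2]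
  · ext k
    refine ⟨fun hk => ?_, fun hk => hsat k ⟨1, one_pos, by rw [one_smul]; exact Submodule.span_mono (Set.image_mono hΔ'R) hk⟩⟩
    show P.root k ∈ Submodule.span ℤ _
    rcases hgen k hk with h | h
    · exact RootLib.natSpan_le_span h
    · exact neg_mem_iff.1 (RootLib.natSpan_le_span h)

end Groth.Agent.S5461
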