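import Groth.Statements.S5462
import Groth.Agent.Lib.RootSub

set_option autoImplicit false
open RootPairing
open scoped Pointwise
open RootD

namespace Groth.Agent.S5462

/-- For Δ' contained in a system of simple roots Δ, the subgroup of the Weyl group generated by the
reflections in Δ' preserves the set of positive roots not lying in the span of Δ'. -/
theorem result {ι M N : Type*} [AddCommGroup M] [AddCommGroup N]
    (P : RootPairing ι ℤ M N) [Finite ι] (Δ Δ' : Set ι) (hΔ : RootD.IsSimpleSys P Δ) (hsub : Δ' ⊆ Δ)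
    (g : P.Aut) (hg : g ∈ Subgroup.closure ((fun i : ι => Equiv.reflection P i) '' Δ'))
    (k : ι) (hk : k ∈ RootD.posOf P Δ) (hk' : k ∉ RootD.inSpan P Δ') :
    g • k ∈ RootD.posOf P Δ ∧ g • k ∉ RootD.inSpan P Δ' := by
  classical
  letI := Fintype.ofFinite ι
  have hp := RootLib.coef_preserved_of_mem hΔ hsub hg k
  have hsupp : ¬ RootLib.SuppIn Δ' (RootLib.coef hΔ k) := fun h => hk' ((RootLib.mem_inSpan_iff hΔ hsub).2 h)
  simp only [RootLib.SuppIn, not_forall] at hsupp
  obtain ⟨b, hb, hne⟩ := hsupp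
  have := (RootLib.mem_posOf_iff hΔ).1 hk b
  refine ⟨RootLib.mem_posOf_of_coef_pos hΔ (a := b) (by rw [hp b hb]; omega), fun h => hne ?_⟩
  rw [← hp b hb]
  exact (RootLib.mem_inSpan_iff hΔ hsub).1 h b hb

end Groth.Agent.S5462
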