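import Groth.Statements.S5463
import Groth.Agent.Lib.RootSub

set_option autoImplicit false
open RootPairing
open scoped Pointwise
open RootD

namespace Groth.Agent.S5463

/-- An element w of the Weyl group belongs to the subgroup generated by the reflections in Δ' ⊆ Δ (Δ a
system of simple roots) if and only if w(α) - α lies in the rational span of Δ' for every root α. -/
theorem result {ι M N : Type*} [AddCommGroup M] [AddCommGroup N]
    (P : RootPairing ι ℤ M N) [Finite ι] (Δ Δ' : Set ι) (hΔ : RootD.IsSimpleSys P Δ)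
    (hsub : Δ' ⊆ Δ) (g : P.Aut) (hg : g ∈ P.weylGroup) :
    g ∈ Subgroup.closure ((fun i : ι => Equiv.reflection P i) '' Δ') ↔
      ∀ k : ι, ∃ n : ℕ, 0 < n ∧ n • (P.root (g • k) - P.root k) ∈ Submodule.span ℤ (P.root '' Δ') := by
  classical
  letI := Fintype.ofFinite ι
  constructor
  · intro h k
    refine ⟨1, one_pos, ?_⟩
    rw [one_smul]
    have hp := RootLib.coef_preserved_of_mem hΔ hsub h k
    refine RootLib.mem_span_iff_fun.2 ⟨fun t => RootLib.coef hΔ (g • k) t - RootLib.coef hΔ k t,
      fun t ht => by simp [hp t ht], ?_⟩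
    simp [sub_smul, Finset.sum_sub_distrib, ← RootLib.root_eq_coef]
  · intro h
    refine RootLib.mem_of_coef_preserved hΔ hsub hg fun k b hb => ?_
    obtain ⟨n, hn, hk⟩ := h k
    obtain ⟨c, hc, he⟩ := RootLib.mem_span_iff_fun.1 hk
    have := congrFun (RootLib.coef_ext hΔ (c := fun t => (n : ℤ) * (RootLib.coef hΔ (g • k) t - RootLib.coef hΔ k t))
      (d := c) (fun t ht => by simp [RootLib.coef_supp hΔ _ t ht]) (fun t ht => hc t fun hh => ht (hsub hh)) (by
        simp only [mul_smul, ← Finset.smul_sum, sub_smul, Finset.sum_sub_distrib, ← RootLib.root_eq_coef, natCast_zsmul, he])) b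
    simp [hc b hb] at this
    omega

end Groth.Agent.S5463
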