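import Groth.Statements.S5464
import Groth.Agent.Lib.RootSub

set_option autoImplicit false
open RootD

namespace Groth.Agent.S5464

/-- Given an indivisible root α and a root γ not proportional to it, there is a system of simple roots
containing α and a simple root β of it with γ = aα + bβ, a, b ∈ ℕ. -/
theorem result {ι M N : Type*} [AddCommGroup M] [AddCommGroup N]
    (P : RootPairing ι ℤ M N) [Finite ι] (i k : ι) (hα : RootD.IsIndiv P i)
    (hli : LinearIndependent ℤ ![P.root i, P.root k]) :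
    ∃ Δ : Set ι, RootD.IsSimpleSys P Δ ∧ i ∈ Δ ∧
      ∃ j ∈ Δ, ∃ a b : ℕ, P.root k = a • P.root i + b • P.root j := by
  classical
  letI := Fintype.ofFinite ι
  obtain ⟨T, hT, hiT⟩ : ∃ T, RootD.IsPosSys P T ∧ i ∈ T := by
    obtain ⟨T, hT⟩ := RootLib.exists_posSys P
    rcases hT.cover i with h | h
    · exact ⟨T, hT, h⟩
    · exact ⟨_, RootLib.img_isPosSys (RootPairing.Equiv.reflection P i) hT, _, h,
        (RootLib.smul_nr _ i).trans (by rw [RootLib.refl_smul_self, RootLib.nr_nr])⟩
  set W₁ := Submodule.span ℚ (RootLib.rowQ P '' {i}) with hW₁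
  set W₂ := Submodule.span ℚ (RootLib.rowQ P '' {i, k}) with hW₂
  have hk1 : RootLib.rowQ P k ∉ W₁ := by
    intro hh
    obtain ⟨n, hn, hnk⟩ := RootLib.exists_nsmul_of_rowQ_mem hh
    obtain ⟨c, hc, he⟩ := RootLib.mem_span_iff_fun.1 hnk
    rw [Finset.sum_eq_single i (fun t _ ht => by simp [hc t (by simpa using ht)]) (by simp)] at he
    have := (LinearIndependent.pair_iff.1 hli) (c i) (-(n : ℤ)) (by rw [neg_smul, natCast_zsmul, he, add_neg_cancel])
    omega
  obtain ⟨h1, h2, h3, h4⟩ := RootLib.inter_subspace_data hT W₁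
  obtain ⟨S₁, hS₁, hsub₁, hkS₁, hW₁', hsimp₁⟩ := RootLib.exists_posSys_extend' P W₁ h1 h2 h3 h4 hk1
  have hiW₁ : RootLib.rowQ P i ∈ W₁ := Submodule.subset_span ⟨i, rfl, rfl⟩
  have hisimp : i ∈ RootLib.simples P S₁ := by
    refine (hsimp₁ i hiW₁).1.2 ⟨⟨hiT, hiW₁⟩, ?_⟩
    rintro ⟨x, y, hx, hy, hxy⟩
    obtain ⟨n, hn, hnx⟩ := RootLib.exists_nsmul_of_rowQ_mem hx.2
    obtain ⟨c, hc, he⟩ := RootLib.mem_span_iff_fun.1 hnx
    rw [Finset.sum_eq_single i (fun t _ ht => by simp [hc t (by simpa using ht)]) (by simp)] at he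
    have := RootLib.torsionFree P
    have hcpos : 0 < c i := by
      by_contra hh
      have hm : n • P.root x + (-c i).toNat • P.root i = 0 := by
        rw [he, ← natCast_zsmul (a := P.root i), Int.toNat_of_nonneg (by omega), neg_smul, add_neg_cancel]
      have := RootLib.posSys_nat_comb_eq_zero hT (c := Pi.single x n + Pi.single i (-c i).toNat)
        (fun t ht => by
          have a1 : t ≠ x := fun h' => ht (h' ▸ hx.1)
          have a2 : t ≠ i := fun h' => ht (h' ▸ hiT)
          simp [a1, a2]) (by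
        simp only [Pi.add_apply, add_smul, Finset.sum_add_distrib]
        rw [Finset.sum_eq_single x, Finset.sum_eq_single i, Pi.single_eq_same, Pi.single_eq_same, hm] <;>
          simp +contextual)
      have h5 := congrFun this x
      by_cases hxi : x = i
      · subst hxi; simp at h5; omega
      · simp [hxi] at h5; omega
    rcases RootLib.indiv_or_double (P := P) x with hxI | ⟨x', hx'I, hx'⟩
    · have hxi := RootLib.indiv_eq_of_prop hα hxI (n := (n : ℤ)) (by exact_mod_cast hn) hcpos
        (by rw [natCast_zsmul, he])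
      rw [hxi] at hxy
      exact RootLib.root_ne_zero P y (by simpa using hxy.symm)
    · have hxi := RootLib.indiv_eq_of_prop hα hx'I (n := 2 * (n : ℤ)) (by omega) hcpos
        (by rw [mul_comm, mul_smul, two_zsmul, ← hx', natCast_zsmul, he])
      rw [hxi] at hx'
      rw [hx', add_assoc] at hxy
      have : P.root (RootLib.nr P i) = P.root y := by
        rw [RootLib.root_nr, eq_comm, ← add_eq_zero_iff_eq_neg']
        simpa using hxy.symm
      exact hT.disjoint hiT (by rw [show P.reflectionPerm i i = y from P.root.injective this]; exact hy.1)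
  obtain ⟨g1, g2, g3, g4⟩ := RootLib.inter_subspace_data hS₁ W₂
  obtain ⟨S, hS, -, hW₂', hsimp⟩ := RootLib.exists_posSys_extend P W₂ g1 g2 g3 g4
  have hiW₂ : RootLib.rowQ P i ∈ W₂ := Submodule.subset_span ⟨i, by simp, rfl⟩
  have hkW₂ : RootLib.rowQ P k ∈ W₂ := Submodule.subset_span ⟨k, by simp, rfl⟩
  have hiΔ : i ∈ RootLib.simples P S :=
    (hsimp i hiW₂).1.2 ⟨⟨hisimp.1, hiW₂⟩, fun ⟨x, y, hx, hy, hxy⟩ => hisimp.2 ⟨x, y, hx.1, hy.1, hxy⟩⟩
  have hkS : k ∈ S := by
    rcases hS.cover k with h | h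
    · exact h
    · exact absurd (hW₂' _ h (RootLib.rowQ_mem_nr hkW₂)).1 (hS₁.disjoint hkS₁)
  obtain ⟨c, hc, hce⟩ := (RootLib.mem_natSpan_iff_fun P).1 ((hsimp k hkW₂).2 k hkW₂ hkS)
  obtain ⟨j, hj, hji⟩ : ∃ j, c j ≠ 0 ∧ j ≠ i := by
    by_contra hh
    push Not at hh
    rw [Finset.sum_eq_single i (fun t _ ht => by
      have : c t = 0 := by by_contra hh'; exact ht (hh t hh')
      simp [this]) (by simp)] at hce
    have := (LinearIndependent.pair_iff.1 hli) (c i : ℤ) (-1) (by rw [natCast_zsmul, ← hce]; simp)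
    omega
  have hjm : j ∈ RootLib.simples P S ∧ RootLib.rowQ P j ∈ W₂ := by
    by_contra hh; exact hj (hc j hh)
  have hind := RootLib.rowQ_linearIndepOn (RootLib.intIndep_simples hS)
  have hothers : ∀ t, t ≠ i → t ≠ j → c t = 0 := by
    intro t hti htj
    by_contra hct
    have htm : t ∈ RootLib.simples P S ∧ RootLib.rowQ P t ∈ W₂ := by
      by_contra hh; exact hct (hc t hh)
    have hsub : ({i, j, t} : Set ι) ⊆ RootLib.simples P S := by
      simp [Set.insert_subset_iff, hiΔ, hjm.1, htm.1]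
    have hlin : LinearIndepOn ℚ (RootLib.rowQ P) ({i, j, t} : Set ι) := hind.mono hsub
    have hrange : Set.range (fun x : ({i, j, t} : Set ι) => (⟨RootLib.rowQ P x.1, by
        rcases x.2 with h | h | h
        · rw [h]; exact hiW₂
        · rw [h]; exact hjm.2
        · rw [Set.mem_singleton_iff.1 h]; exact htm.2⟩ : W₂)) ⊆ Set.univ := Set.subset_univ _
    have hlin' : LinearIndependent ℚ (fun x : ({i, j, t} : Set ι) => (⟨RootLib.rowQ P x.1, by
        rcases x.2 with h | h | h
        · rw [h]; exact hiW₂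
        · rw [h]; exact hjm.2
        · rw [Set.mem_singleton_iff.1 h]; exact htm.2⟩ : W₂)) := LinearIndependent.of_comp W₂.subtype hlin
    have hcard := hlin'.fintype_card_le_finrank
    have hfin : Module.finrank ℚ W₂ ≤ 2 := by
      rw [hW₂]
      refine (finrank_span_le_card _).trans ?_
      rw [Set.toFinset_image]
      refine Finset.card_image_le.trans ?_
      simpa using Finset.card_le_two
    have h3c : Fintype.card ({i, j, t} : Set ι) = 3 := by
      rw [← Nat.card_eq_fintype_card, Nat.card_coe_set_eq, Set.ncard_eq_three.2 ⟨i, j, t, Ne.symm hji, Ne.symm hti, Ne.symm htj, rfl⟩]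
    omega
  refine ⟨_, RootLib.isSimpleSys_simples hS, hiΔ, j, hjm.1, c i, c j, ?_⟩
  rw [hce, ← Finset.sum_subset (Finset.subset_univ {i, j}) (fun t _ ht => by
    simp at ht; simp [hothers t ht.1 ht.2]), Finset.sum_pair (Ne.symm hji)]

end Groth.Agent.S5464
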