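import Groth.Statements.S5465
import Groth.Agent.Lib.RootFun

set_option autoImplicit false
open RootD

namespace Groth.Agent.S5465

/-- A map from the roots to an abelian group that is odd and additive on pairs of roots whose sum is a
root extends uniquely to a homomorphism on the lattice generated by the roots. -/
theorem result {ι M N : Type*} [AddCommGroup M] [AddCommGroup N]
    (P : RootPairing ι ℤ M N) [Finite ι] {G : Type*} [AddCommGroup G] (f : ι → G)
    (hneg : ∀ i : ι, f (P.reflectionPerm i i) = -f i)
    (hadd : ∀ i j k : ι, P.root k = P.root i + P.root j → f k = f i + f j) :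
    ∃! φ : Submodule.span ℤ (Set.range P.root) →+ G,
      ∀ i : ι, φ ⟨P.root i, Submodule.subset_span (Set.mem_range_self i)⟩ = f i := by
  classical
  obtain ⟨Δ, hΔ⟩ := RootLib.exists_simpleSys P
  letI := Fintype.ofFinite ι
  have hlist : ∀ (L : List ι) (k : ι), P.root k = (L.map P.root).sum → f k = (L.map f).sum := by
    intro L
    induction' hn : L.length using Nat.strong_induction_on with n ih generalizing L
    intro k hk
    obtain ⟨b, hb, hkb | ⟨k', hk', hks⟩⟩ := RootLib.peel P hk
    · subst hkb
      have hzero : ((L.erase k).map P.root).sum = 0 := by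
        have := RootLib.sum_map_perm_erase P hb; rw [← hk] at this; simpa using this.symm
      rw [((List.perm_cons_erase hb).map f).sum_eq, List.map_cons, List.sum_cons]
      by_cases hne : L.erase k = []
      · simp [hne]
      · obtain ⟨c, t, hct⟩ := List.exists_cons_of_ne_nil hne
        rw [hct, List.map_cons, List.sum_cons] at hzero
        have hroot : P.root (RootLib.nr P c) = (t.map P.root).sum := by
          rw [RootLib.root_nr]; exact (eq_neg_of_add_eq_zero_right hzero).symm
        have hlen : t.length < n := by
          have := List.length_erase_of_mem hb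
          rw [hct] at this; simp at this; omega
        have := ih _ hlen t rfl _ hroot
        rw [hct, List.map_cons, List.sum_cons, ← this, hneg, add_neg_cancel, add_zero]
    · have hlen : (L.erase b).length < n := by
        rw [List.length_erase_of_mem hb]
        have : 0 < L.length := List.length_pos_of_mem hb
        omega
      rw [((List.perm_cons_erase hb).map f).sum_eq, List.map_cons, List.sum_cons,
        ← ih _ hlen _ rfl _ hks, hadd _ _ _ hk', add_comm]
  have hpos : ∀ k ∈ RootD.posOf P Δ, f k = ∑ i, RootLib.coef hΔ k i • f i := by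
    intro k hk
    let L : List ι := (Finset.univ : Finset ι).toList.flatMap (fun i => List.replicate (RootLib.coef hΔ k i).toNat i)
    have hnn := (RootLib.mem_posOf_iff hΔ).1 hk
    have key : ∀ (F : ι → M × G), (L.map F).sum = ∑ i, RootLib.coef hΔ k i • F i := by
      intro F
      rw [← Finset.sum_map_toList]
      simp only [L, List.map_flatMap, List.map_replicate]
      induction (Finset.univ : Finset ι).toList with
      | nil => simp
      | cons x t ih =>
        simp only [List.flatMap_cons, List.sum_append, List.sum_replicate, List.map_cons, List.sum_cons, ih]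
        rw [← natCast_zsmul, Int.toNat_of_nonneg (hnn x)]
    have hM : (L.map P.root).sum = ∑ i, RootLib.coef hΔ k i • P.root i := by
      have := congrArg (AddMonoidHom.fst M G) (key fun i => (P.root i, 0))
      rw [map_list_sum, map_sum, List.map_map] at this
      simpa [Function.comp_def] using this
    have hG : (L.map f).sum = ∑ i, RootLib.coef hΔ k i • f i := by
      have := congrArg (AddMonoidHom.snd M G) (key fun i => (0, f i))
      rw [map_list_sum, map_sum, List.map_map] at this
      simpa [Function.comp_def] using this
    rw [hlist L k ((RootLib.root_eq_coef hΔ k).trans hM.symm), hG]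
  have hall : ∀ k, f k = ∑ i, RootLib.coef hΔ k i • f i := by
    intro k
    by_cases hk : k ∈ RootD.posOf P Δ
    · exact hpos k hk
    · have := hpos _ ((RootLib.nr_mem_posOf_iff hΔ).2 hk)
      rw [hneg, RootLib.coef_nr] at this
      simpa using this
  let L₀ : (ι → ℤ) →ₗ[ℤ] M := Fintype.linearCombination ℤ P.root
  let F₀ : (ι → ℤ) →ₗ[ℤ] G := Fintype.linearCombination ℤ f
  have hrange : ∀ x : Submodule.span ℤ (Set.range P.root), ∃ c, L₀ c = (x : M) := fun x => by
    obtain ⟨c, hc⟩ := (Submodule.mem_span_range_iff_exists_fun ℤ).1 x.2
    exact ⟨c, by simpa [L₀, Fintype.linearCombination_apply] using hc⟩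
  have hker : ∀ c, L₀ c = 0 → F₀ c = 0 := by
    intro c hc
    simp only [L₀, F₀, Fintype.linearCombination_apply] at hc ⊢
    have hz : ∀ a, ∑ k, c k * RootLib.coef hΔ k a = 0 := by
      intro a
      refine congrFun (RootLib.IsSimpleSys.indep hΔ (fun a => ∑ k, c k * RootLib.coef hΔ k a)
        (fun i hi => by simp [RootLib.coef_supp hΔ _ i hi]) ?_) a
      simp only [Finset.sum_smul, mul_smul]
      rw [Finset.sum_comm]
      simp only [← Finset.smul_sum, ← RootLib.root_eq_coef, hc]
    calc ∑ k, c k • f k = ∑ k, c k • ∑ i, RootLib.coef hΔ k i • f i := by simp only [← hall]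
      _ = ∑ i, (∑ k, c k * RootLib.coef hΔ k i) • f i := by
        simp only [Finset.smul_sum, Finset.sum_smul, mul_smul]; rw [Finset.sum_comm]
      _ = 0 := by simp [hz]
  choose pre hpre using hrange
  have hwd : ∀ (c : ι → ℤ) (x : Submodule.span ℤ (Set.range P.root)), L₀ c = (x : M) → F₀ (pre x) = F₀ c := fun c x h =>
    sub_eq_zero.1 (by rw [← map_sub]; exact hker _ (by rw [map_sub, hpre, h, sub_self]))
  refine ⟨AddMonoidHom.mk' (fun x => F₀ (pre x)) (fun x y => by
    rw [← map_add]; exact hwd _ _ (by simp [hpre])), fun i => ?_, ?_⟩
  · refine (hwd (Pi.single i 1) _ (by simp [L₀])).trans ?_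
    simp [F₀]
  · intro ψ hψ
    ext x
    show ψ x = F₀ (pre x)
    have hx : x = ∑ i, pre x i • (⟨P.root i, Submodule.subset_span (Set.mem_range_self i)⟩ :
        Submodule.span ℤ (Set.range P.root)) := by
      ext; simpa [L₀, Fintype.linearCombination_apply] using (hpre x).symm
    conv_lhs => rw [hx]
    rw [map_sum]
    simp only [map_zsmul, hψ, F₀, Fintype.linearCombination_apply]

end Groth.Agent.S5465
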