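import Groth.Statements.S5467
import Groth.Agent.Lib.RootSub

set_option autoImplicit false
open RootD

namespace Groth.Agent.S5467

/-- For an indivisible positive non-simple root α there is a simple root β with (β^v, α) > 0 such that
s_β(α) is positive; its order relative to Δ is then smaller than that of α by (β^v, α). -/
theorem result {ι M N : Type*} [AddCommGroup M] [AddCommGroup N]
    (P : RootPairing ι ℤ M N) [Finite ι] (Δ : Set ι) (hΔ : RootD.IsSimpleSys P Δ)
    (k : ι) (hk : k ∈ RootD.posOf P Δ) (hkΔ : k ∉ Δ) (hind : RootD.IsIndiv P k) :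
    ∃ i ∈ Δ, 0 < P.pairing k i ∧ P.reflectionPerm i k ∈ RootD.posOf P Δ := by
  classical
  letI := Fintype.ofFinite ι
  have hpos := RootLib.gram_self_pos P k
  rw [RootLib.gram_linear P (RootLib.root_eq_coef hΔ k)] at hpos
  obtain ⟨a, haΔ, hak⟩ : ∃ a ∈ Δ, 0 < RootLib.gram P a k := by
    by_contra hc
    push Not at hc
    have : ∑ i, RootLib.coef hΔ k i * RootLib.gram P i k ≤ 0 := Finset.sum_nonpos fun i _ => by
      by_cases hi : i ∈ Δ
      · exact mul_nonpos_of_nonneg_of_nonpos ((RootLib.mem_posOf_iff hΔ).1 hk i) (hc i hi)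
      · simp [RootLib.coef_supp hΔ k i hi]
    omega
  rw [RootLib.gram_comm, RootLib.gram_pos_iff] at hak
  refine ⟨a, haΔ, ?_, ?_⟩
  · rw [← RootLib.cast_pZ, Int.cast_id]; exact hak
  · by_cases hb : ∀ b, b ≠ a → RootLib.coef hΔ k b ≤ 0
    · exact absurd (RootLib.only_at_indiv hΔ haΔ hk hind hb ▸ haΔ) hkΔ
    · push Not at hb
      obtain ⟨b, hb, hb'⟩ := hb
      exact RootLib.refl_mem_posOf hΔ haΔ hb hb'

end Groth.Agent.S5467
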