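import Groth.Statements.S5468
import Groth.Agent.Lib.RootDual

set_option autoImplicit false
open RootD

namespace Groth.Agent.S5468

/-- Two roots whose reflections are distinct and commute are orthogonal. -/
theorem result {ι M N : Type*} [AddCommGroup M] [AddCommGroup N]
    (P : RootPairing ι ℤ M N) [Finite ι] (i j : ι)
    (hne : P.reflection i ≠ P.reflection j) (hc : Commute (P.reflection i) (P.reflection j)) :
    P.IsOrthogonal i j := by
  rw [RootLib.isOrthogonal_iff_gram, RootLib.gram_eq_zero_iff]
  by_contra hp
  refine hne ?_
  have hq : RootLib.pZ P j i ≠ 0 := fun hh => hp ((RootLib.gram_eq_zero_iff P i j).1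
    (by rw [RootLib.gram_comm]; exact (RootLib.gram_eq_zero_iff P j i).2 hh))
  have h := congrArg (fun f : M ≃ₗ[ℤ] M => f (P.root j)) hc.eq
  simp only [LinearEquiv.mul_apply, P.reflection_apply_self, map_neg, P.reflection_apply_root, map_sub, map_smul] at h
  simp only [← RootLib.cast_pZ, Int.cast_id] at h
  have hprop : (2 : ℤ) • P.root i = RootLib.pZ P i j • P.root j := by
    have := RootLib.torsionFree P
    have h0 : RootLib.pZ P j i • ((2 : ℤ) • P.root i - RootLib.pZ P i j • P.root j) = 0 := by
      linear_combination (norm := module) h
    exact sub_eq_zero.1 (zsmul_right_injective hq (by simpa using h0))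
  have := congrArg (fun w : P.Aut => RootPairing.Equiv.weightEquiv P P w) (RootLib.refl_eq_of_prop two_ne_zero hprop)
  simpa using this

end Groth.Agent.S5468
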