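import Groth.Statements.S5471
import Groth.Agent.Lib.RootDual

set_option autoImplicit false
open RootPairing
open scoped Pointwise
open RootD

namespace Groth.Agent.S5471

/-- In a reduced irreducible root datum the ratios of squared root lengths to the minimal one form one
of the sets {1}, {1, 2}, {1, 3}. -/
theorem result {ι M N : Type*} [AddCommGroup M] [AddCommGroup N]
    (P : RootPairing ι ℤ M N) [Finite ι] [Fintype ι] [Nonempty ι] [P.IsReduced]
    (hirr : ∀ R' : Set ι, RootD.IsClosedSub P R' → RootD.IsSymmSub P R' → RootD.IsClosedSub P R'ᶜ →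
      RootD.IsSymmSub P R'ᶜ → R' = ∅ ∨ R' = Set.univ)
    (i₀ : ι) (hmin : ∀ i : ι, P.RootForm (P.root i₀) (P.root i₀) ≤ P.RootForm (P.root i) (P.root i)) :
    (∀ i : ι, P.RootForm (P.root i) (P.root i) = P.RootForm (P.root i₀) (P.root i₀) ∨
        P.RootForm (P.root i) (P.root i) = 2 * P.RootForm (P.root i₀) (P.root i₀) ∨
        P.RootForm (P.root i) (P.root i) = 3 * P.RootForm (P.root i₀) (P.root i₀)) ∧
      ¬ ((∃ i : ι, P.RootForm (P.root i) (P.root i) = 2 * P.RootForm (P.root i₀) (P.root i₀)) ∧
          ∃ j : ι, P.RootForm (P.root j) (P.root j) = 3 * P.RootForm (P.root i₀) (P.root i₀)) := by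
  have hc : ∀ x, RootLib.gram P x x = P.RootForm (P.root x) (P.root x) := fun x => by
    have := RootLib.cast_gram P x x; rwa [Int.cast_id] at this
  simp only [← hc] at hmin ⊢
  have key : ∀ a b, RootLib.gram P a a = RootLib.gram P b b ∨ RootLib.gram P a a = 2 * RootLib.gram P b b ∨
      RootLib.gram P a a = 3 * RootLib.gram P b b ∨ RootLib.gram P b b = 2 * RootLib.gram P a a ∨
      RootLib.gram P b b = 3 * RootLib.gram P a a := by
    intro a b
    obtain ⟨g, hg, hne⟩ := RootLib.Irred.exists_conj_gram_ne_zero (P := P) hirr a b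
    have h := P.toInvariantForm.apply_eq_or_aux (g • a) b (fun h0 => hne ((RootLib.gram_eq_zero_iff P _ _).2 h0))
    simp only [RootPairing.toInvariantForm_form, ← hc] at h
    rwa [RootLib.gram_smul] at h
  have hi : ∀ i, RootLib.gram P i i = RootLib.gram P i₀ i₀ ∨ RootLib.gram P i i = 2 * RootLib.gram P i₀ i₀ ∨
      RootLib.gram P i i = 3 * RootLib.gram P i₀ i₀ := fun i => by
    have := key i i₀
    have := hmin i
    have := RootLib.gram_self_pos P i
    omega
  refine ⟨hi, ?_⟩
  rintro ⟨⟨i, h2⟩, j, h3⟩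
  have := key i j
  have := RootLib.gram_self_pos P i₀
  omega

end Groth.Agent.S5471
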