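import Groth.Statements.S5472
import Groth.Agent.Lib.RootBase

set_option autoImplicit false
open RootPairing
open scoped Pointwise
open RootD

namespace Groth.Agent.S5472

/-- Let Δ be a system of simple roots (root-only sense), γ a positive root and α, β simple roots with
(γ, α^v) > 0 and (γ, β^v) ≥ 0 (equivalently: the order of s_α(γ) along Δ is smaller than that of γ,
and the order of s_β(γ) is at most that of γ). Then for every w in the group generated by s_α and
s_β the order of w(γ) along Δ is at most that of γ, and strictly smaller unless w ∈ {1, s_β}. The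
order is the sum of the coefficients along Δ; the conclusion is stated for the coefficient vector c
of γ - w(γ) along Δ: its coefficient sum is ≥ 0, and > 0 unless w = 1 or w = s_β. -/
theorem result {ι M N : Type*} [AddCommGroup M] [AddCommGroup N]
    (P : RootPairing ι ℤ M N) [Finite ι] (Δ : Set ι) (hΔ : RootD.IsSimpleSys P Δ)
    (k i j : ι) (hk : k ∈ RootD.posOf P Δ) (hi : i ∈ Δ) (hj : j ∈ Δ)
    (hα : 0 < P.pairing k i) (hβ : 0 ≤ P.pairing k j)
    (g : P.Aut) (hg : g ∈ Subgroup.closure {Equiv.reflection P i, Equiv.reflection P j})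
    (c : ι →₀ ℤ) (hc : ↑c.support ⊆ Δ)
    (hck : Finsupp.linearCombination ℤ P.root c = P.root k - P.root (g • k)) :
    0 ≤ c.sum (fun _ a => a) ∧ (g ≠ 1 → g ≠ Equiv.reflection P j → 0 < c.sum (fun _ a => a)) := by
  classical
  letI := Fintype.ofFinite ι
  have hsub : ({i, j} : Set ι) ⊆ Δ := Set.insert_subset hi (Set.singleton_subset_iff.2 hj)
  have himg : ({RootPairing.Equiv.reflection P i, RootPairing.Equiv.reflection P j} : Set P.Aut) =
      (fun x : ι => RootPairing.Equiv.reflection P x) '' {i, j} := by rw [Set.image_pair]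
  rw [himg] at hg
  have key : ∀ h ∈ P.weylGroup, (∀ t b, b ∉ ({i, j} : Set ι) → RootLib.coef hΔ (h • t) b = RootLib.coef hΔ t b) →
      0 ≤ RootLib.ht hΔ k - RootLib.ht hΔ (h • k) ∧
      (RootLib.ht hΔ k - RootLib.ht hΔ (h • k) = 0 → h = 1 ∨ h = RootPairing.Equiv.reflection P j) := by
    intro h hh
    refine RootLib.exists_word_induction hΔ hh (Q := fun h => (∀ t b, b ∉ ({i, j} : Set ι) → RootLib.coef hΔ (h • t) b = RootLib.coef hΔ t b) →
      0 ≤ RootLib.ht hΔ k - RootLib.ht hΔ (h • k) ∧
      (RootLib.ht hΔ k - RootLib.ht hΔ (h • k) = 0 → h = 1 ∨ h = RootPairing.Equiv.reflection P j)) (by simp) ?_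
    intro g' a hg' ha hpos ih hpres
    have haij : a ∈ ({i, j} : Set ι) := by
      by_contra hh
      have h4 := hpres a a hh
      rw [mul_smul, RootLib.refl_smul_self, RootLib.smul_nr, RootLib.coef_nr, RootLib.coef_simple hΔ ha,
        Pi.single_eq_same, Pi.neg_apply] at h4
      have := (RootLib.mem_posOf_iff hΔ).1 hpos a
      omega
    have hpres' : ∀ t b, b ∉ ({i, j} : Set ι) → RootLib.coef hΔ (g' • t) b = RootLib.coef hΔ t b := by
      intro t b hb
      have h5 := hpres (RootPairing.Equiv.reflection P a • t) b hb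
      rw [mul_smul, ← mul_smul (RootPairing.Equiv.reflection P a), RootLib.refl_sq, one_smul,
        RootLib.coef_refl_of_ne hΔ ha (fun e : b = a => hb (e ▸ haij))] at h5
      exact h5
    obtain ⟨ih1, ih2⟩ := ih hpres'
    set p := RootLib.pZ P k a with hp
    have hlin : RootLib.ht hΔ ((g' * RootPairing.Equiv.reflection P a) • k) =
        RootLib.ht hΔ (g' • k) - p * RootLib.ht hΔ (g' • a) := by
      have hroot : P.root ((g' * RootPairing.Equiv.reflection P a) • k) =
          ∑ t, (RootLib.coef hΔ (g' • k) t - p * RootLib.coef hΔ (g' • a) t) • P.root t := by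
        rw [mul_smul, RootLib.root_smul, RootLib.root_refl, smul_sub, ← RootLib.root_smul, smul_comm g' p, ← RootLib.root_smul]
        simp only [sub_smul, Finset.sum_sub_distrib, mul_smul, ← Finset.smul_sum, ← RootLib.root_eq_coef, hp]
      simp only [RootLib.ht]
      rw [RootLib.coef_eq hΔ (fun t ht => by simp [RootLib.coef_supp hΔ _ t ht]) hroot, Finset.sum_sub_distrib, Finset.mul_sum]
    have hhtpos := RootLib.ht_pos hΔ hpos
    have hp0 : 0 ≤ p ∧ (p = 0 → a = j) := by
      rcases haij with e | e
      · subst e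
        have : p = P.pairing k a := by rw [← RootLib.cast_pZ, Int.cast_id]
        refine ⟨by omega, fun h => by omega⟩
      · rw [Set.mem_singleton_iff] at e
        subst e
        have : p = P.pairing k a := by rw [← RootLib.cast_pZ, Int.cast_id]
        exact ⟨by omega, fun _ => rfl⟩
    have hmul : 0 ≤ p * RootLib.ht hΔ (g' • a) := mul_nonneg hp0.1 hhtpos.le
    refine ⟨by omega, fun h0 => ?_⟩
    have hp00 : p = 0 := by
      rcases mul_eq_zero.1 (show p * RootLib.ht hΔ (g' • a) = 0 by omega) with h | h <;> omega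
    rw [hp0.2 hp00]
    rcases ih2 (by omega) with h | h
    · exact Or.inr (by rw [h, one_mul])
    · exact Or.inl (by rw [h, RootLib.refl_sq])
  have hgW : g ∈ P.weylGroup := RootLib.closure_le_weylGroup _ hg
  obtain ⟨h1, h2⟩ := key g hgW (RootLib.coef_preserved_of_mem hΔ hsub hg)
  have hcsum : c.sum (fun _ a => a) = RootLib.ht hΔ k - RootLib.ht hΔ (g • k) := by
    rw [Finsupp.sum_fintype _ _ (by simp), RootLib.ht, RootLib.ht, ← Finset.sum_sub_distrib]
    refine Finset.sum_congr rfl fun t _ => ?_
    refine congrFun (RootLib.coef_ext hΔ (c := fun t => c t) (d := fun t => RootLib.coef hΔ k t - RootLib.coef hΔ (g • k) t)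
      (fun t ht => by by_contra hh; exact ht (hc (Finsupp.mem_support_iff.2 hh)))
      (fun t ht => by simp [RootLib.coef_supp hΔ _ t ht]) ?_) t
    simp only [sub_smul, Finset.sum_sub_distrib, ← RootLib.root_eq_coef]
    rw [← hck, Finsupp.linearCombination_apply, Finsupp.sum_fintype _ _ (by simp)]
  rw [hcsum]
  refine ⟨h1, fun hg1 hg2 => ?_⟩
  rcases eq_or_lt_of_le h1 with h | h
  · rcases h2 h.symm with e | e
    · exact absurd e hg1
    · exact absurd e hg2
  · exact h

end Groth.Agent.S5472
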