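import Groth.Statements.S5473
import Groth.Agent.Lib.RootDual

set_option autoImplicit false
open RootD

namespace Groth.Agent.S5473

/-- If a linear map f and its transpose g induce bijections from the roots of R' onto the roots of R and
from the coroots of R onto the coroots of R' respectively (a morphism of root data in the
two-bijection sense), then the two bijections correspond: the coroot of α' is g applied to the
coroot of f(α'). -/
theorem result {ι M N ι' M' N' : Type*} [AddCommGroup M] [AddCommGroup N] [AddCommGroup M'] [AddCommGroup N']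
    (P : RootPairing ι ℤ M N) (P' : RootPairing ι' ℤ M' N') [Finite ι] [Finite ι']
    (f : M' →ₗ[ℤ] M) (g : N →ₗ[ℤ] N') (hfg : ∀ (m' : M') (n : N), P.toLinearMap (f m') n = P'.toLinearMap m' (g n))
    (e : ι' ≃ ι) (he : ∀ i' : ι', f (P'.root i') = P.root (e i'))
    (e' : ι ≃ ι') (he' : ∀ i : ι, g (P.coroot i) = P'.coroot (e' i)) :
    ∀ i' : ι', g (P.coroot (e i')) = P'.coroot i' := by
  classical
  letI := Fintype.ofFinite ι
  letI := Fintype.ofFinite ι'
  intro i'
  have hB : ∀ x' y' : M', P.RootForm (f x') (f y') = P'.RootForm x' y' := by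
    intro x' y'
    rw [RootPairing.rootForm_apply_apply, RootPairing.rootForm_apply_apply]
    refine Fintype.sum_equiv e' _ _ fun k => ?_
    have h : ∀ z' : M', P.coroot' k (f z') = P'.coroot' (e' k) z' := fun z' => by
      show P.toLinearMap (f z') (P.coroot k) = P'.toLinearMap z' (P'.coroot (e' k))
      rw [hfg, he']
    rw [h, h]
  have hg0 : RootLib.gram P' i' i' = RootLib.gram P (e i') (e i') := by
    apply Int.cast_injective (α := ℤ)
    rw [RootLib.cast_gram, RootLib.cast_gram, ← he, hB]
  have key : ∀ x' : M', RootLib.gram P' i' i' * P'.toLinearMap x' (g (P.coroot (e i'))) =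
      RootLib.gram P' i' i' * P'.toLinearMap x' (P'.coroot i') := by
    intro x'
    have h1 := congrArg (fun z => P.toLinearMap (f x') z) (RootLib.gram_smul_coroot P (e i'))
    have h2 := congrArg (fun z => P'.toLinearMap x' z) (RootLib.gram_smul_coroot P' i')
    simp only [map_zsmul, map_nsmul, smul_eq_mul, nsmul_eq_mul, RootPairing.toLinearMap_apply_apply_Polarization] at h1 h2
    rw [← hfg, h2]
    conv_lhs => rw [hg0]
    rw [h1, ← he, hB]
  apply P'.toLinearMap.flip.toPerfPair.injective
  ext x'
  simp only [LinearMap.toPerfPair_apply, LinearMap.flip_apply]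
  exact mul_left_cancel₀ (RootLib.gram_self_pos P' i').ne' (key x')

end Groth.Agent.S5473
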