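import Groth.Statements.S5474
import Groth.Agent.Lib.RootBase

set_option autoImplicit false
open RootD

namespace Groth.Agent.S5474

/-- Every morphism between semisimple root data is an isogeny (injective on weight lattices with finite
cokernel). -/
theorem result {ι M N ι' M' N' : Type*} [AddCommGroup M] [AddCommGroup N] [AddCommGroup M'] [AddCommGroup N']
    (P : RootPairing ι ℤ M N) (P' : RootPairing ι' ℤ M' N') [Finite ι] [Finite ι']
    [Module.Finite ℤ M] [Module.Finite ℤ N] [Module.Finite ℤ M'] [Module.Finite ℤ N']
    (hss : Module.finrank ℤ (Submodule.span ℤ (Set.range P.root)) = Module.finrank ℤ M)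
    (hss' : Module.finrank ℤ (Submodule.span ℤ (Set.range P'.root)) = Module.finrank ℤ M')
    (f : RootPairing.Hom P' P) :
    Function.Injective f.weightMap ∧ Finite (M ⧸ LinearMap.range f.weightMap) := by
  classical
  letI := Fintype.ofFinite ι
  letI := Fintype.ofFinite ι'
  have htM : IsAddTorsionFree M := RootLib.torsionFree P
  have htM' : IsAddTorsionFree M' := RootLib.torsionFree P'
  haveI : Module.Free ℤ M' := Module.free_of_finite_type_torsion_free'
  haveI : Module.Free ℤ M := Module.free_of_finite_type_torsion_free'
  constructor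
  · rw [← LinearMap.ker_eq_bot, Submodule.eq_bot_iff]
    intro x hx
    haveI : Finite (M' ⧸ Submodule.span ℤ (Set.range P'.root)) := Submodule.finiteQuotientOfFreeOfRankEq _ hss'
    obtain ⟨n, hn, hnx⟩ : ∃ n : ℕ, 0 < n ∧ n • x ∈ Submodule.span ℤ (Set.range P'.root) := by
      have h := (isOfFinAddOrder_of_finite (Submodule.Quotient.mk (p := Submodule.span ℤ (Set.range P'.root)) x))
      obtain ⟨n, hn, hnx⟩ := isOfFinAddOrder_iff_nsmul_eq_zero.1 h
      refine ⟨n, hn, (Submodule.Quotient.mk_eq_zero _).1 ?_⟩
      rw [← hnx]; rfl
    have h0 : n • x = 0 := by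
      refine RootLib.eq_zero_of_mem_span_of_coroot' hnx fun k => ?_
      have h := RootPairing.Hom.weight_coweight_transpose_apply P' P (P.coroot (f.indexEquiv k)) f
      rw [RootPairing.Hom.coroot_coweightMap_apply, Equiv.symm_apply_apply] at h
      have h1 : P'.coroot' k x = 0 := by
        have := LinearMap.congr_fun h x
        refine this.symm.trans ?_
        show P.toLinearMap (f.weightMap x) _ = 0
        rw [LinearMap.mem_ker.1 hx, map_zero, LinearMap.zero_apply]
      rw [map_nsmul, h1, smul_zero]
    exact IsAddTorsionFree.nsmul_right_injective hn.ne' (by simpa using h0)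
  · haveI : Finite (M ⧸ Submodule.span ℤ (Set.range P.root)) := Submodule.finiteQuotientOfFreeOfRankEq _ hss
    have hle : Submodule.span ℤ (Set.range P.root) ≤ LinearMap.range f.weightMap := by
      rw [Submodule.span_le]
      rintro _ ⟨i, rfl⟩
      exact ⟨P'.root (f.indexEquiv.symm i), by rw [RootPairing.Hom.root_weightMap_apply, Equiv.apply_symm_apply]⟩
    exact Finite.of_surjective _ (Submodule.factor_surjective hle)

end Groth.Agent.S5474
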