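import Groth.Statements.S5475
import Groth.Agent.Lib.RootSub

set_option autoImplicit false
open RootD

namespace Groth.Agent.S5475

/-- In an adjoint root datum every indivisible root is an indivisible element of the weight lattice. -/
theorem result {ι M N : Type*} [AddCommGroup M] [AddCommGroup N]
    (P : RootPairing ι ℤ M N) [Finite ι] (had : Submodule.span ℤ (Set.range P.root) = ⊤)
    (i : ι) (hind : RootD.IsIndiv P i) (m : M) (n : ℤ) (h : n • m = P.root i) : n = 1 ∨ n = -1 := by
  classical
  letI := Fintype.ofFinite ι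
  obtain ⟨Δ, hΔ⟩ := RootLib.exists_simpleSys P
  obtain ⟨w, hw, x, hx, hxi⟩ := RootLib.exists_conj_simple hΔ hind
  have hm : w⁻¹ • m ∈ Submodule.span ℤ (P.root '' Δ) := by
    rw [← RootLib.span_range_root hΔ, had]; trivial
  obtain ⟨c, hc, hcm⟩ := RootLib.mem_span_iff_fun.1 hm
  have h' : P.root x = ∑ t, (n * c t) • P.root t := by
    simp only [mul_smul, ← Finset.smul_sum, ← hcm]
    rw [← smul_comm w⁻¹ n, h, ← hxi, ← RootLib.root_smul, inv_smul_smul]
  have h2 := congrFun (RootLib.coef_eq hΔ (fun t ht => by simp [hc t ht]) h') x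
  rw [RootLib.coef_simple hΔ hx, Pi.single_eq_same] at h2
  exact Int.eq_one_or_neg_one_of_mul_eq_one h2.symm

end Groth.Agent.S5475
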