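import Groth.Statements.S5476
import Groth.Agent.Lib.RootBase

set_option autoImplicit false
open RootD

namespace Groth.Agent.S5476

/-- The lattice of the coradical (weights killed by every coroot) and the lattice of the radical
(coweights killed by every root) both have rank rgred - rgss, the rank of the weight lattice minus
the rank of the lattice generated by the roots; and the datum is semisimple (the roots span a
sublattice of full rank) if and only if the coradical lattice vanishes, if and only if the radical
lattice vanishes. -/
theorem result {ι M N : Type*} [AddCommGroup M] [AddCommGroup N]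
    (P : RootPairing ι ℤ M N) [Finite ι] [Module.Finite ℤ M] [Module.Finite ℤ N] :
    (Module.finrank ℤ (⨅ i : ι, LinearMap.ker (P.coroot' i) : Submodule ℤ M) +
        Module.finrank ℤ (Submodule.span ℤ (Set.range P.root)) = Module.finrank ℤ M) ∧
      (Module.finrank ℤ (⨅ i : ι, LinearMap.ker (P.root' i) : Submodule ℤ N) +
        Module.finrank ℤ (Submodule.span ℤ (Set.range P.root)) = Module.finrank ℤ M) ∧
      (Module.finrank ℤ (Submodule.span ℤ (Set.range P.root)) = Module.finrank ℤ M ↔
        (⨅ i : ι, LinearMap.ker (P.coroot' i) : Submodule ℤ M) = ⊥) ∧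
      (Module.finrank ℤ (Submodule.span ℤ (Set.range P.root)) = Module.finrank ℤ M ↔
        (⨅ i : ι, LinearMap.ker (P.root' i) : Submodule ℤ N) = ⊥) := by
  classical
  letI := Fintype.ofFinite ι
  have hM : IsAddTorsionFree M := RootLib.torsionFree P
  have hN : IsAddTorsionFree N := RootLib.torsionFree P.flip
  haveI : Module.Free ℤ M := Module.free_of_finite_type_torsion_free'
  haveI : Module.Free ℤ N := Module.free_of_finite_type_torsion_free'
  have hranks : Module.finrank ℤ N = Module.finrank ℤ M := by
    rw [LinearEquiv.finrank_eq P.flip.toPerfPair, Module.finrank_linearMap, Module.finrank_self, mul_one]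
  have hA := RootLib.finrank_orth_add P
  have hB := RootLib.finrank_orth_add P.flip
  have hs : Module.finrank ℤ (Submodule.span ℤ (Set.range P.flip.root)) = Module.finrank ℤ (Submodule.span ℤ (Set.range P.root)) :=
    P.finrank_corootSpan_eq'
  have hfl : (⨅ i : ι, LinearMap.ker (P.flip.coroot' i) : Submodule ℤ N) = ⨅ i : ι, LinearMap.ker (P.root' i) := rfl
  rw [hs, hfl, hranks] at hB
  refine ⟨hA, hB, ?_, ?_⟩
  · rw [← Submodule.finrank_eq_zero (R := ℤ) (S := (⨅ i : ι, LinearMap.ker (P.coroot' i) : Submodule ℤ M))]; omega
  · rw [← Submodule.finrank_eq_zero (R := ℤ) (S := (⨅ i : ι, LinearMap.ker (P.root' i) : Submodule ℤ N))]; omega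

end Groth.Agent.S5476
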