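import Groth.Statements.S5478
import Groth.Agent.Lib.RootDual

set_option autoImplicit false
open RootPairing
open scoped Pointwise
open RootD

namespace Groth.Agent.S5478

/-- The group of automorphisms of a root datum that act trivially on the radical is finite. -/
theorem result {ι M N : Type*} [AddCommGroup M] [AddCommGroup N]
    (P : RootPairing ι ℤ M N) [Finite ι] :
    Set.Finite {u : P.Aut | ∀ m : M, ∃ n : ℕ, 0 < n ∧ n • (u • m - m) ∈ Submodule.span ℤ (Set.range P.root)} := by
  refine Set.Finite.of_finite_image (f := fun u : P.Aut => (fun i : ι => u • i)) (Set.toFinite _) ?_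
  intro u hu v hv huv
  have hfix : ∀ i : ι, (v⁻¹ * u) • i = i := fun i => by
    rw [mul_smul, show u • i = v • i from congrFun huv i, inv_smul_smul]
  have hT : ∀ w : P.Aut, ∀ x ∈ Submodule.span ℤ (Set.range P.root), w • x ∈ Submodule.span ℤ (Set.range P.root) := by
    intro w x hx
    induction hx using Submodule.span_induction with
    | mem x hx => obtain ⟨i, rfl⟩ := hx; rw [← RootLib.root_smul]; exact Submodule.subset_span ⟨_, rfl⟩
    | zero => simp
    | add x y _ _ a b => rw [smul_add]; exact add_mem a b
    | smul t x _ a => rw [← smul_comm]; exact Submodule.smul_mem _ _ a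
  refine RootLib.aut_ext fun m => ?_
  obtain ⟨n, hn, hm⟩ := hu m
  obtain ⟨n', hn', hm'⟩ := hv m
  have h0 : (n * n') • (v⁻¹ • (u • m) - m) = 0 := by
    have h1 : (n * n') • (v⁻¹ • (u • m) - m) ∈ Submodule.span ℤ (Set.range P.root) := by
      have h2 : (n * n') • (u • m - v • m) ∈ Submodule.span ℤ (Set.range P.root) := by
        rw [show u • m - v • m = (u • m - m) - (v • m - m) by abel, smul_sub]
        refine sub_mem ?_ ?_
        · rw [mul_comm, mul_smul]; exact nsmul_mem hm _
        · rw [mul_smul]; exact nsmul_mem hm' _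
      have h3 := hT v⁻¹ _ h2
      rwa [← smul_comm, smul_sub, smul_sub, inv_smul_smul, ← smul_sub] at h3
    refine RootLib.eq_zero_of_mem_span_of_coroot' h1 fun k => ?_
    rw [map_nsmul, map_sub]
    have := RootLib.coroot'_smul (v⁻¹ * u) k m
    rw [hfix k, mul_smul] at this
    rw [this, sub_self, smul_zero]
  have := RootLib.torsionFree P
  have h5 := sub_eq_zero.1 (IsAddTorsionFree.nsmul_right_injective (Nat.mul_pos hn hn').ne' (show (n * n') • (v⁻¹ • (u • m) - m) = (n * n') • 0 by rw [h0, smul_zero]))
  rwa [inv_smul_eq_iff] at h5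

end Groth.Agent.S5478
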