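import Groth.Statements.S5479
import Groth.Agent.Lib.RootWeyl

set_option autoImplicit false
open RootPairing
open scoped Pointwise
open RootD

namespace Groth.Agent.S5479

/-- Aut(R) is the semidirect product of the Weyl group by the stabiliser E_Δ of a system of simple
roots: every automorphism is uniquely w · e with w ∈ W and e(Δ) = Δ. -/
theorem result {ι M N : Type*} [AddCommGroup M] [AddCommGroup N]
    (P : RootPairing ι ℤ M N) [Finite ι] (Δ : Set ι) (hΔ : RootD.IsSimpleSys P Δ) (u : P.Aut) :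
    ∃! w : P.weylGroup, (fun i : ι => ((w : P.Aut)⁻¹ * u) • i) '' Δ = Δ := by
  have imul : ∀ (g h : P.Aut) (T : Set ι), RootLib.img (g * h) T = RootLib.img g (RootLib.img h T) :=
    fun g h T => by simp only [RootLib.img, Set.image_image, mul_smul]
  have ione : ∀ (T : Set ι), RootLib.img (1 : P.Aut) T = T :=
    fun T => by simp only [RootLib.img, one_smul, Set.image_id']
  obtain ⟨w, hw, himg⟩ := RootLib.exists_img_eq_simpleSys hΔ (RootLib.img_isSimpleSys u hΔ)
  refine ⟨⟨w, hw⟩, ?_, fun v hv => Subtype.ext ?_⟩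
  · show RootLib.img (w⁻¹ * u) Δ = Δ
    rw [imul, ← himg, ← imul, inv_mul_cancel, ione]
  · have hv' : RootLib.img (((v : P.Aut))⁻¹ * u) Δ = Δ := hv
    have : RootLib.img ((v : P.Aut)⁻¹ * w) Δ = Δ := by
      rw [imul, himg, ← imul, hv']
    exact inv_mul_eq_one.1 (RootLib.eq_one_of_img_eq hΔ (Subgroup.mul_mem _ (Subgroup.inv_mem _ v.2) hw) this)

end Groth.Agent.S5479
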