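import Groth.Statements.S5480
import Groth.Agent.Lib.RootBase
import Groth.Agent.S5452

set_option autoImplicit false
open RootD

namespace Groth.Agent.S5480

/-- For a p-morphism of reduced root data with root bijection u and radicial exponents q: (a) for all
roots α, β one has q(s_α(β)) = q(β) and u(s_α(β)) = s_{u(α)}(u(β)); (b) the exponents are invariant
under the Weyl group, q(w(α)) = q(α); (c) there is an isomorphism ū from the Weyl group of the first
datum to that of the second with ū(s_α) = s_{u(α)} and u(w(α)) = ū(w)(u(α)) for every Weyl group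
element w and every root α. -/
theorem result {ι M N ι' M' N' : Type*} [AddCommGroup M] [AddCommGroup N] [AddCommGroup M'] [AddCommGroup N']
    (P : RootPairing ι ℤ M N) (P' : RootPairing ι' ℤ M' N') [Finite ι] [Finite ι'] [P.IsReduced] [P'.IsReduced]
    (p : ℕ) (hp : 0 < p) (f : M' →ₗ[ℤ] M) (g : N →ₗ[ℤ] N')
    (hfg : ∀ (m' : M') (n : N), P.toLinearMap (f m') n = P'.toLinearMap m' (g n))
    (u : ι ≃ ι') (q : ι → ℕ) (hq : ∀ i, ∃ e : ℕ, q i = p ^ e)
    (hroot : ∀ i : ι, f (P'.root (u i)) = (q i : ℤ) • P.root i)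
    (hcoroot : ∀ i : ι, g (P.coroot i) = (q i : ℤ) • P'.coroot (u i)) :
    (∀ i j : ι, q (P.reflectionPerm i j) = q j ∧ u (P.reflectionPerm i j) = P'.reflectionPerm (u i) (u j)) ∧
      (∀ w ∈ P.weylGroup, ∀ i : ι, q (w • i) = q i) ∧
      ∃ ubar : P.weylGroup ≃* P'.weylGroup,
        (∀ i : ι, ubar (RootPairing.weylGroup.ofIdx P i) = RootPairing.weylGroup.ofIdx P' (u i)) ∧
        ∀ (w : P.weylGroup) (i : ι), u ((w : P.Aut) • i) = ((ubar w : P'.weylGroup) : P'.Aut) • u i := by
  classical
  have hqpos : ∀ i, 0 < q i := fun i => by obtain ⟨e, he⟩ := hq i; rw [he]; positivity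
  have hpq : ∀ i j, (q i : ℤ) * P.pairing i j = q j * P'.pairing (u i) (u j) := by
    intro i j
    have h1 := hfg (P'.root (u i)) (P.coroot j)
    rw [hroot, hcoroot, map_zsmul, LinearMap.smul_apply, map_zsmul] at h1
    simpa [smul_eq_mul] using h1
  have ha : ∀ i j : ι, q (P.reflectionPerm i j) = q j ∧ u (P.reflectionPerm i j) = P'.reflectionPerm (u i) (u j) := by
    intro i j
    obtain ⟨m, hm⟩ : ∃ m, u m = P'.reflectionPerm (u i) (u j) := ⟨u.symm _, u.apply_symm_apply _⟩
    have h1 : (q m : ℤ) • P.root m = (q j : ℤ) • P.root (P.reflectionPerm i j) := by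
      rw [← hroot, hm, P'.root_reflectionPerm, P'.reflection_apply_root, map_sub, map_zsmul, hroot, hroot,
        P.root_reflectionPerm, P.reflection_apply_root, smul_sub, smul_smul, smul_smul]
      rw [mul_comm (P'.pairing (u j) (u i)), ← hpq]
    have hmi : m = P.reflectionPerm i j := RootLib.indiv_eq_of_prop (RootLib.indiv_of_reduced _) (RootLib.indiv_of_reduced _)
      (by exact_mod_cast hqpos m) (by exact_mod_cast hqpos j) h1
    subst hmi
    refine ⟨?_, hm⟩
    have := RootLib.torsionFree P
    have h2 : ((q (P.reflectionPerm i j) : ℤ) - q j) • P.root (P.reflectionPerm i j) = 0 := by rw [sub_smul, h1, sub_self]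
    have h3 : (q (P.reflectionPerm i j) : ℤ) - q j = 0 := by
      by_contra hne
      exact RootLib.root_ne_zero P _ (zsmul_right_injective hne (by simpa using h2))
    omega
  refine ⟨ha, fun w hw => ?_, ?_⟩
  · induction hw using RootPairing.weylGroup.induction with
    | mem a => intro i; rw [RootLib.refl_smul_idx]; exact (ha a i).1
    | one => simp
    | mul x y _ _ hx hy => intro i; rw [mul_smul, hx, hy]
  have hinj := Groth.Agent.S5452.result P
  have hinj' := Groth.Agent.S5452.result P'
  let c : Equiv.Perm ι →* Equiv.Perm ι' := u.permCongrHom.toMonoidHom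
  have hc : ∀ (s : Equiv.Perm ι) (i : ι), c s (u i) = u (s i) := fun s i => by simp [c, Equiv.permCongrHom, Equiv.permCongr_apply]
  have hgen : ∀ a, c (P.reflectionPerm a) = P'.reflectionPerm (u a) := fun a => by
    ext x
    obtain ⟨i, rfl⟩ := u.surjective x
    rw [hc, (ha a i).2]
  have hrange : (c.comp P.weylGroupToPerm).range = P'.weylGroupToPerm.range := by
    rw [MonoidHom.range_comp, RootPairing.range_weylGroupToPerm, RootPairing.range_weylGroupToPerm, MonoidHom.map_closure]
    congr 1
    ext s
    simp only [Set.mem_image, Set.mem_range]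
    constructor
    · rintro ⟨_, ⟨a, rfl⟩, rfl⟩; exact ⟨u a, (hgen a).symm⟩
    · rintro ⟨x, rfl⟩
      obtain ⟨a, rfl⟩ := u.surjective x
      exact ⟨_, ⟨a, rfl⟩, hgen a⟩
  have hinjc : Function.Injective (c.comp P.weylGroupToPerm) := fun a b h => hinj (u.permCongrHom.injective h)
  let e1 := MonoidHom.ofInjective hinjc
  let e2 := MonoidHom.ofInjective hinj'
  let ubar : P.weylGroup ≃* P'.weylGroup := (e1.trans (MulEquiv.subgroupCongr hrange)).trans e2.symm
  have hu : ∀ w, P'.weylGroupToPerm (ubar w) = c (P.weylGroupToPerm w) := fun w => by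
    show P'.weylGroupToPerm (e2.symm (MulEquiv.subgroupCongr hrange (e1 w))) = _
    rw [MonoidHom.apply_ofInjective_symm hinj']
    rfl
  refine ⟨ubar, fun i => hinj' ?_, fun w i => ?_⟩
  · rw [hu]; exact hgen i
  · have := congrArg (fun s : Equiv.Perm ι' => s (u i)) (hu w)
    simp only [hc] at this
    exact this.symm

end Groth.Agent.S5480
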