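import Groth.Statements.S5481
import Groth.Agent.Lib.RootBase
import Groth.Agent.S5480

set_option autoImplicit false
open RootD

namespace Groth.Agent.S5481

/-- The root bijection u of a p-morphism of reduced root data carries systems of simple roots onto
systems of simple roots and systems of positive roots onto systems of positive roots, bijectively. -/
theorem result {ι M N ι' M' N' : Type*} [AddCommGroup M] [AddCommGroup N] [AddCommGroup M'] [AddCommGroup N']
    (P : RootPairing ι ℤ M N) (P' : RootPairing ι' ℤ M' N') [Finite ι] [Finite ι'] [P.IsReduced] [P'.IsReduced]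
    (p : ℕ) (hp : 0 < p) (f : M' →ₗ[ℤ] M) (g : N →ₗ[ℤ] N')
    (hfg : ∀ (m' : M') (n : N), P.toLinearMap (f m') n = P'.toLinearMap m' (g n))
    (u : ι ≃ ι') (q : ι → ℕ) (hq : ∀ i, ∃ e : ℕ, q i = p ^ e)
    (hroot : ∀ i : ι, f (P'.root (u i)) = (q i : ℤ) • P.root i)
    (hcoroot : ∀ i : ι, g (P.coroot i) = (q i : ℤ) • P'.coroot (u i)) (Δ : Set ι) :
    (RootD.IsSimpleSys P Δ ↔ RootD.IsSimpleSys P' (u '' Δ)) ∧
      (RootD.IsPosSys P Δ ↔ RootD.IsPosSys P' (u '' Δ)) := by
  classical
  have hqpos : ∀ i, 0 < q i := fun i => by obtain ⟨e, he⟩ := hq i; rw [he]; positivity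
  obtain ⟨hab, -, ubar, -, hubar⟩ := Groth.Agent.S5480.result P P' p hp f g hfg u q hq hroot hcoroot
  have hnr : ∀ i, u (RootLib.nr P i) = RootLib.nr P' (u i) := fun i => (hab i i).2
  have hfwd : ∀ S, RootD.IsPosSys P S → RootD.IsPosSys P' (u '' S) := by
    intro S hS
    rw [RootLib.isPosSys_iff]
    refine ⟨?_, fun x => ?_, ?_⟩
    · rintro _ ⟨i, hi, rfl⟩ ⟨k, hk, hki⟩
      rw [← hnr] at hki
      exact hS.disjoint hi (by rw [show P.reflectionPerm i i = k from (u.injective hki).symm]; exact hk)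
    · obtain ⟨i, rfl⟩ := u.surjective x
      rcases hS.cover i with h | h
      · exact Or.inl ⟨i, h, rfl⟩
      · exact Or.inr ⟨_, h, hnr i⟩
    · rintro _ _ x ⟨i, hi, rfl⟩ ⟨j, hj, rfl⟩ hx
      obtain ⟨k, rfl⟩ := u.surjective x
      have h1 := congrArg f hx
      rw [map_add, hroot, hroot, hroot, natCast_zsmul, natCast_zsmul, natCast_zsmul] at h1
      refine ⟨k, hS.sat (q k) (hqpos k) ?_, rfl⟩
      rw [h1]
      exact AddSubmonoid.add_mem _ (AddSubmonoid.nsmul_mem _ (RootLib.root_mem_natSpan P hi) _)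
        (AddSubmonoid.nsmul_mem _ (RootLib.root_mem_natSpan P hj) _)
  have hbwd : ∀ S, RootD.IsPosSys P' (u '' S) → RootD.IsPosSys P S := by
    intro S hS
    obtain ⟨S₀, hS₀⟩ := RootLib.exists_posSys P
    obtain ⟨w, hw, hwS⟩ := RootLib.exists_img_eq_posSys (hfwd _ hS₀) hS
    obtain ⟨v, hv⟩ := ubar.surjective ⟨w, hw⟩
    have : RootLib.img (v : P.Aut) S₀ = S := by
      apply u.injective.image_injective
      rw [← hwS]
      simp only [RootLib.img, Set.image_image, hubar, hv]
    exact this ▸ RootLib.img_isPosSys _ hS₀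
  have hsimp : ∀ S, RootD.IsPosSys P S → u '' RootLib.simples P S = RootLib.simples P' (u '' S) := by
    intro S hS
    ext x
    obtain ⟨a, rfl⟩ := u.surjective x
    rw [u.injective.mem_set_image, RootLib.mem_simples_iff_refl hS, RootLib.mem_simples_iff_refl (hfwd S hS), u.injective.mem_set_image]
    refine and_congr_right fun _ => ⟨fun h => ?_, fun h k hk hka => ?_⟩
    · rintro _ ⟨k, hk, rfl⟩ hka
      exact ⟨_, h k hk fun e => hka (e ▸ rfl), (hab a k).2⟩
    · obtain ⟨k', hk', he⟩ := h (u k) ⟨k, hk, rfl⟩ fun e => hka (u.injective e)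
      rw [show k' = P.reflectionPerm a k from u.injective (he.trans (hab a k).2.symm)] at hk'
      exact hk'
  refine ⟨⟨fun h => ?_, fun h => ?_⟩, hfwd Δ, hbwd Δ⟩
  · have hp' := RootLib.isPosSys_posOf h
    have := RootLib.isSimpleSys_simples (hfwd _ hp')
    rwa [← hsimp _ hp', RootLib.simples_posOf h] at this
  · have h1 : RootD.IsPosSys P' (u '' (u ⁻¹' RootD.posOf P' (u '' Δ))) := by
      rw [Set.image_preimage_eq _ u.surjective]; exact RootLib.isPosSys_posOf h
    have hS := hbwd _ h1
    have h2 := hsimp _ hS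
    rw [Set.image_preimage_eq _ u.surjective, RootLib.simples_posOf h] at h2
    have h3 := RootLib.isSimpleSys_simples hS
    rwa [u.injective.image_injective h2] at h3

end Groth.Agent.S5481
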