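import Groth.Statements.S5482
import Groth.Agent.Lib.RootSub

set_option autoImplicit false
open RootD

namespace Groth.Agent.S5482

/-- If the roots are partitioned into two closed symmetric subsets R', R'', then with Δ' = Δ ∩ R', Δ'' =
Δ ∩ R'' for a system of simple roots Δ one has R' = R_{Δ'}, R'' = R_{Δ''}, and Δ' is orthogonal to
Δ''. -/
theorem result {ι M N : Type*} [AddCommGroup M] [AddCommGroup N]
    (P : RootPairing ι ℤ M N) [Finite ι] (Δ : Set ι) (hΔ : RootD.IsSimpleSys P Δ) (R' : Set ι)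
    (hc : RootD.IsClosedSub P R') (hs : RootD.IsSymmSub P R') (hc' : RootD.IsClosedSub P R'ᶜ)
    (hs' : RootD.IsSymmSub P R'ᶜ) :
    R' = RootD.inSpan P (Δ ∩ R') ∧ R'ᶜ = RootD.inSpan P (Δ \ R') ∧
      ∀ i ∈ Δ ∩ R', ∀ j ∈ Δ \ R', P.IsOrthogonal i j := by
  classical
  letI := Fintype.ofFinite ι
  have horth : ∀ i ∈ Δ ∩ R', ∀ j ∈ Δ \ R', RootLib.gram P i j = 0 := fun i hi j hj =>
    RootLib.partition_gram_eq_zero hc hs hc' hs' hi.2 hj.2
  have hd := RootLib.supp_dichotomy hΔ (Δ' := Δ ∩ R') Set.inter_subset_left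
    (fun i hi j hj => horth i hi j ⟨hj.1, fun h => hj.2 ⟨hj.1, h⟩⟩)
  have hA : ∀ k, RootLib.SuppIn (Δ ∩ R') (RootLib.coef hΔ k) → k ∈ R' := by
    intro k hk
    by_contra hkR
    have h := RootLib.gram_self_pos P k
    rw [RootLib.gram_linear P (RootLib.root_eq_coef hΔ k)] at h
    have : ∑ i, RootLib.coef hΔ k i * RootLib.gram P i k = 0 := Finset.sum_eq_zero fun i _ => by
      by_cases hi : i ∈ Δ ∩ R'
      · simp [RootLib.partition_gram_eq_zero hc hs hc' hs' hi.2 hkR]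
      · simp [hk i hi]
    omega
  have hB : ∀ k, RootLib.SuppIn (Δ \ R') (RootLib.coef hΔ k) → k ∉ R' := by
    intro k hk hkR
    have h := RootLib.gram_self_pos P k
    rw [RootLib.gram_linear P (RootLib.root_eq_coef hΔ k)] at h
    have : ∑ i, RootLib.coef hΔ k i * RootLib.gram P i k = 0 := Finset.sum_eq_zero fun i _ => by
      by_cases hi : i ∈ Δ \ R'
      · simp [RootLib.gram_comm P i k, RootLib.partition_gram_eq_zero hc hs hc' hs' hkR hi.2]
      · simp [hk i hi]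
    omega
  have hd' : ∀ k, RootLib.SuppIn (Δ ∩ R') (RootLib.coef hΔ k) ∨ RootLib.SuppIn (Δ \ R') (RootLib.coef hΔ k) := by
    intro k
    rcases hd k with h | h
    · exact Or.inl h
    · exact Or.inr fun i hi => h i fun hh => hi ⟨hh.1, fun hR => hh.2 ⟨hh.1, hR⟩⟩
  refine ⟨?_, ?_, fun i hi j hj => (RootLib.isOrthogonal_iff_gram P i j).2 (horth i hi j hj)⟩
  · ext k
    show k ∈ R' ↔ P.root k ∈ Submodule.span ℤ _
    rw [RootLib.mem_inSpan_iff hΔ Set.inter_subset_left]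
    exact ⟨fun hk => (hd' k).resolve_right fun h => hB k h hk, hA k⟩
  · ext k
    show k ∉ R' ↔ P.root k ∈ Submodule.span ℤ _
    rw [RootLib.mem_inSpan_iff hΔ Set.sdiff_subset]
    exact ⟨fun hk => (hd' k).resolve_left fun h => hk (hA k h), hB k⟩

end Groth.Agent.S5482
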