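import Groth.Statements.S5483
import Groth.Agent.Lib.RootSub

set_option autoImplicit false
open RootD

namespace Groth.Agent.S5483

/-- If a system of simple roots Δ is the disjoint union of two mutually orthogonal subsets Δ', Δ'', then
R_{Δ'} and R_{Δ''} partition the set of roots. -/
theorem result {ι M N : Type*} [AddCommGroup M] [AddCommGroup N]
    (P : RootPairing ι ℤ M N) [Finite ι] (Δ Δ' : Set ι) (hΔ : RootD.IsSimpleSys P Δ)
    (hsub : Δ' ⊆ Δ) (horth : ∀ i ∈ Δ', ∀ j ∈ Δ \ Δ', P.IsOrthogonal i j) (k : ι) :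
    (k ∈ RootD.inSpan P Δ' ∨ k ∈ RootD.inSpan P (Δ \ Δ')) ∧
      ¬ (k ∈ RootD.inSpan P Δ' ∧ k ∈ RootD.inSpan P (Δ \ Δ')) := by
  classical
  letI := Fintype.ofFinite ι
  have h1 := RootLib.supp_dichotomy hΔ hsub (fun i hi j hj => (RootLib.isOrthogonal_iff_gram P i j).1 (horth i hi j hj)) k
  constructor
  · rcases h1 with h | h
    · exact Or.inl ((RootLib.mem_inSpan_iff hΔ hsub).2 h)
    · exact Or.inr ((RootLib.mem_inSpan_iff hΔ Set.sdiff_subset).2 h)
  · rintro ⟨ha, hb⟩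
    obtain ⟨a, -, hne⟩ := RootLib.exists_coef_ne_zero hΔ k
    have hb' := (RootLib.mem_inSpan_iff hΔ Set.sdiff_subset).1 hb
    by_cases h : a ∈ Δ'
    · exact hne (hb' a fun hh => hh.2 h)
    · exact hne ((RootLib.mem_inSpan_iff hΔ hsub).1 ha a h)

end Groth.Agent.S5483
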