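import Groth.Statements.S5484
import Groth.Agent.Lib.RootDual

set_option autoImplicit false
open RootD

namespace Groth.Agent.S5484

open Classical in
/-- Every principal minor of the Cartan matrix (a_{α,β} = (α^v, β), α, β simple) is strictly positive. -/
theorem result {ι M N : Type*} [AddCommGroup M] [AddCommGroup N]
    (P : RootPairing ι ℤ M N) [Finite ι] (Δ : Finset ι) (hΔ : RootD.IsSimpleSys P (↑Δ : Set ι))
    (Δ' : Finset ι) (hsub : Δ' ⊆ Δ) :
    0 < Matrix.det (Matrix.of fun (a b : ↥Δ') => P.pairing (b : ι) (a : ι)) := by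
  classical
  letI := Fintype.ofFinite ι
  have hind := RootLib.intIndep_of_linearIndepOn hΔ.linInd
  let V : Matrix ι ↥Δ' ℤ := Matrix.of fun k a => RootLib.pZ P (a : ι) k
  let D : Matrix ↥Δ' ↥Δ' ℤ := Matrix.diagonal fun a => RootLib.gram P (a : ι) a
  let A : Matrix ↥Δ' ↥Δ' ℤ := Matrix.of fun a b => P.pairing (b : ι) (a : ι)
  have hG : D * A = (2 : ℤ) • (V.transpose * V) := by
    ext a b
    simp only [D, Matrix.diagonal_mul]
    simp only [A, V, Matrix.of_apply, Matrix.smul_apply, Matrix.mul_apply, Matrix.transpose_apply, smul_eq_mul]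
    rw [← RootLib.gram_eq, ← RootLib.cast_pZ, Int.cast_id, RootLib.gram_comm P (a : ι) (b : ι), RootLib.two_mul_gram, mul_comm]
  have hne : (V.transpose * V).det ≠ 0 := by
    intro h0
    obtain ⟨v, hv, hv0⟩ := Matrix.exists_mulVec_eq_zero_iff.2 h0
    have hz : V.mulVec v = 0 := by
      have : dotProduct (V.mulVec v) (V.mulVec v) = 0 := by
        rw [Matrix.dotProduct_mulVec, Matrix.vecMul_mulVec, ← Matrix.dotProduct_mulVec, hv0, dotProduct_zero]
      exact dotProduct_self_eq_zero.1 this
    let c : ι → ℤ := fun i => if hi : i ∈ Δ' then v ⟨i, hi⟩ else 0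
    have hc0 := hind c (fun i hi => by
      have : i ∉ Δ' := fun h => hi (by simpa using hsub h)
      simp [c, this]) ((RootLib.comb_eq_zero_iff c).2 ?_)
    · exact hv (funext fun a => by simpa [c, a.2] using congrFun hc0 a.1)
    · funext k
      have hk := congrFun hz k
      rw [Finset.sum_apply, Pi.zero_apply, ← Finset.sum_subset (Finset.subset_univ Δ') (fun i _ hi => by simp [c, hi]),
        Finset.sum_subtype Δ' (p := fun i => i ∈ Δ') (F := inferInstance) (fun _ => Iff.rfl)]
      have h1 : ((∑ a : ↥Δ', RootLib.pZ P a k * v a : ℤ) : ℚ) = 0 := by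
        simpa [V, Matrix.mulVec, dotProduct] using congrArg (fun z : ℤ => (z : ℚ)) hk
      push_cast at h1
      simpa [c, RootLib.rowQ, mul_comm] using h1
  have hnn : 0 ≤ (V.transpose * V).det := by
    let f := Int.castRingHom ℝ
    have h1 : 0 ≤ ((V.map f).conjTranspose * V.map f).det := (Matrix.posSemidef_conjTranspose_mul_self _).det_nonneg
    have h2 : (V.map f).conjTranspose * V.map f = (V.transpose * V).map f := by
      rw [Matrix.map_mul]; congr 1
    rw [h2, ← RingHom.mapMatrix_apply, ← RingHom.map_det] at h1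
    replace h1 : (0 : ℝ) ≤ (((V.transpose * V).det : ℤ) : ℝ) := h1
    exact_mod_cast h1
  have hD : 0 < D.det := by
    rw [Matrix.det_diagonal]; exact Finset.prod_pos fun a _ => RootLib.gram_self_pos P _
  have hprod : D.det * A.det = 2 ^ Fintype.card ↥Δ' * (V.transpose * V).det := by
    rw [← Matrix.det_mul, hG, Matrix.det_smul]
  have hpos : 0 < D.det * A.det := by
    rw [hprod]; exact mul_pos (by positivity) (lt_of_le_of_ne hnn (Ne.symm hne))
  exact pos_of_mul_pos_right hpos hD.le

end Groth.Agent.S5484
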