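import Groth.Statements.S5487
import Groth.Agent.Lib.RootDual

set_option autoImplicit false
open RootD

namespace Groth.Agent.S5487

/-- For non-orthogonal roots α, β one has ℓ(α) ℓ(α^v) = ℓ(β) ℓ(β^v), where ℓ is the canonical quadratic
form of the datum and of its dual. -/
theorem result {ι M N : Type*} [AddCommGroup M] [AddCommGroup N]
    (P : RootPairing ι ℤ M N) [Finite ι] [Fintype ι] (i j : ι) (h : ¬ P.IsOrthogonal i j) :
    P.RootForm (P.root i) (P.root i) * P.CorootForm (P.coroot i) (P.coroot i) =
      P.RootForm (P.root j) (P.root j) * P.CorootForm (P.coroot j) (P.coroot j) := by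
  have hno : RootLib.gram P i j ≠ 0 := fun hh => h ((RootLib.isOrthogonal_iff_gram P i j).2 hh)
  have hp : RootLib.pZ P i j ≠ 0 := fun hh => hno ((RootLib.gram_eq_zero_iff P i j).2 hh)
  have hq : RootLib.pZ P j i ≠ 0 := fun hh => hno (by rw [RootLib.gram_comm]; exact (RootLib.gram_eq_zero_iff P j i).2 hh)
  have e1 := RootLib.pZ_mul_gram_swap P i j
  have e2 := RootLib.pZ_mul_gram_swap P.flip j i
  rw [RootLib.pZ_flip, RootLib.pZ_flip] at e2
  have key : RootLib.gram P i i * RootLib.gram P.flip i i = RootLib.gram P j j * RootLib.gram P.flip j j := by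
    refine mul_left_cancel₀ (mul_ne_zero hp hq) ?_
    calc RootLib.pZ P i j * RootLib.pZ P j i * (RootLib.gram P i i * RootLib.gram P.flip i i)
        = (RootLib.pZ P j i * RootLib.gram P i i) * (RootLib.pZ P i j * RootLib.gram P.flip i i) := by ring
      _ = _ := by rw [← e1, e2]; ring
  have c1 := RootLib.cast_gram P i i
  have c2 := RootLib.cast_gram P j j
  have c3 := RootLib.cast_gram P.flip i i
  have c4 := RootLib.cast_gram P.flip j j
  rw [Int.cast_id] at c1 c2 c3 c4
  rw [← c1, ← c2]
  show RootLib.gram P i i * P.flip.RootForm (P.flip.root i) (P.flip.root i) = _ * P.flip.RootForm (P.flip.root j) (P.flip.root j)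
  rw [← c3, ← c4, key]

end Groth.Agent.S5487
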