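import Groth.Statements.S5489
import Groth.Agent.Lib.RootDual

set_option autoImplicit false
open RootD

namespace Groth.Agent.S5489

/-- If a root α, distinct from roots α_1, ..., α_n, is a non-negative rational combination of them, then
some α_l with non-zero coefficient has (α^v, α_l) > 0 and α - α_l a root. -/
theorem result {ι M N : Type*} [AddCommGroup M] [AddCommGroup N]
    (P : RootPairing ι ℤ M N) [Finite ι] {n : ℕ} (a : Fin n → ι) (m : Fin n → ℕ)
    (k : ι) (hne : ∀ l, a l ≠ k) (c : ℕ) (hc : 0 < c) (hk : c • P.root k = ∑ l, m l • P.root (a l)) :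
    ∃ l : Fin n, m l ≠ 0 ∧ 0 < P.pairing (a l) k ∧ P.root k - P.root (a l) ∈ Set.range P.root := by
  classical
  letI := Fintype.ofFinite ι
  have h : (c : ℤ) * RootLib.gram P k k = ∑ l, (m l : ℤ) * RootLib.gram P (a l) k := by
    apply Int.cast_injective (α := ℤ)
    push_cast
    have := congrArg (fun x => P.RootForm x (P.root k)) hk
    have hg : ∀ a b, RootLib.gram P a b = P.RootForm (P.root a) (P.root b) := fun a b => by
      have := RootLib.cast_gram P a b; rwa [Int.cast_id] at this
    simpa [map_sum, hg, nsmul_eq_mul] using this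
  have hpos : 0 < (c : ℤ) * RootLib.gram P k k := mul_pos (by exact_mod_cast hc) (RootLib.gram_self_pos P k)
  rw [h] at hpos
  obtain ⟨l, hl⟩ : ∃ l, 0 < (m l : ℤ) * RootLib.gram P (a l) k := by
    by_contra hh
    push Not at hh
    have := Finset.sum_nonpos (s := Finset.univ) fun l _ => hh l
    omega
  have hm : m l ≠ 0 := fun h0 => by simp [h0] at hl
  have hg : 0 < RootLib.gram P (a l) k := pos_of_mul_pos_right hl (Int.natCast_nonneg _)
  refine ⟨l, hm, ?_, ?_⟩
  · rw [← RootLib.cast_pZ, Int.cast_id]; exact (RootLib.gram_pos_iff P _ _).1 hg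
  · obtain ⟨x, hx⟩ := RootLib.exists_root_sub P (i := k) (j := a l) (by rwa [RootLib.gram_comm]) (hne l).symm
    exact ⟨x, hx⟩

end Groth.Agent.S5489
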