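import Groth.Statements.S5494
import Groth.Agent.Lib.RootSub

set_option autoImplicit false
open RootD

namespace Groth.Agent.S5494

/-- If a system of simple roots has no partition into two non-empty orthogonal subsets, then any two
roots are linked by a chain of roots with consecutive members non-orthogonal. -/
theorem result {ι M N : Type*} [AddCommGroup M] [AddCommGroup N]
    (P : RootPairing ι ℤ M N) [Finite ι] (Δ : Set ι) (hΔ : RootD.IsSimpleSys P Δ)
    (hconn : ∀ Δ' : Set ι, Δ' ⊆ Δ → (∀ i ∈ Δ', ∀ j ∈ Δ \ Δ', P.IsOrthogonal i j) → Δ' = ∅ ∨ Δ' = Δ)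
    (i j : ι) : Relation.ReflTransGen (fun a b : ι => ¬ P.IsOrthogonal a b) i j := by
  classical
  have hsymm : ∀ a b : ι, ¬ P.IsOrthogonal a b → ¬ P.IsOrthogonal b a := fun a b h h' => h h'.symm
  have hstep : ∀ k, ∃ a ∈ Δ, ¬ P.IsOrthogonal k a := fun k => by
    obtain ⟨a, ha, hne⟩ := RootLib.exists_simple_gram_ne_zero hΔ k
    exact ⟨a, ha, fun h => hne ((RootLib.isOrthogonal_iff_gram P k a).1 h)⟩
  obtain ⟨a, ha, hia⟩ := hstep i
  obtain ⟨b, hb, hjb⟩ := hstep j
  have hall : {x ∈ Δ | Relation.ReflTransGen (fun a b : ι => ¬ P.IsOrthogonal a b) a x} = Δ := by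
    refine (hconn _ (Set.sep_subset _ _) ?_).resolve_left ?_
    · intro x hx y hy
      by_contra h
      exact hy.2 ⟨hy.1, hx.2.tail h⟩
    · intro h
      exact Set.notMem_empty a (h ▸ ⟨ha, Relation.ReflTransGen.refl⟩)
  rw [← hall] at hb
  exact (Relation.ReflTransGen.single hia).trans (hb.2.trans (Relation.ReflTransGen.single (hsymm _ _ hjb)))

end Groth.Agent.S5494
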