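import Groth.Statements.S5495
import Groth.Agent.Lib.RootSub

set_option autoImplicit false
open RootD

namespace Groth.Agent.S5495

/-- If α is an indivisible root and kα is a root for a rational k, then k is an integer. -/
theorem result {ι M N : Type*} [AddCommGroup M] [AddCommGroup N]
    (P : RootPairing ι ℤ M N) [Finite ι] (i j : ι) (hind : RootD.IsIndiv P i) (a b : ℤ) (hb : b ≠ 0)
    (h : b • P.root j = a • P.root i) : b ∣ a := by
  classical
  obtain ⟨Δ, hΔ⟩ := RootLib.exists_simpleSys P
  obtain ⟨w, hw, x, hx, hxi⟩ := RootLib.exists_conj_simple hΔ hind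
  have h' : b • P.root (w⁻¹ • j) = a • P.root x := by
    rw [RootLib.root_smul, smul_comm b, h, ← smul_comm a, ← RootLib.root_smul, ← hxi, inv_smul_smul]
  letI := Fintype.ofFinite ι
  have := RootLib.coef_ext hΔ (c := fun t => b * RootLib.coef hΔ (w⁻¹ • j) t)
    (d := fun t => a * RootLib.coef hΔ x t)
    (fun t ht => by simp [RootLib.coef_supp hΔ _ t ht]) (fun t ht => by simp [RootLib.coef_supp hΔ _ t ht])
    (by simp only [mul_smul, ← Finset.smul_sum, ← RootLib.root_eq_coef, h'])
  have h2 := congrFun this x
  simp only [RootLib.coef_simple hΔ hx, Pi.single_eq_same, mul_one] at h2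
  exact ⟨_, h2.symm⟩

end Groth.Agent.S5495
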