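import Groth.Statements.S5496
import Groth.Agent.Lib.RootDual

set_option autoImplicit false
open RootPairing
open scoped Pointwise
open RootD

namespace Groth.Agent.S5496

/-- For non-proportional roots α, β let n be the least integer n > 0 with (s_α s_β)^n(α) = α and (s_α
s_β)^n(β) = β. Then the subgroup W_{α,β} generated by s_α and s_β is presented by s_α² = s_β² = (s_α
s_β)^n = 1; equivalently it has exactly 2n elements. -/
theorem result {ι M N : Type*} [AddCommGroup M] [AddCommGroup N]
    (P : RootPairing ι ℤ M N) [Finite ι] (i j : ι) (hli : LinearIndependent ℤ ![P.root i, P.root j])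
    (n : ℕ) (hn : IsLeast {m : ℕ | 0 < m ∧ ((Equiv.reflection P i * Equiv.reflection P j) ^ m) • i = i ∧
      ((Equiv.reflection P i * Equiv.reflection P j) ^ m) • j = j} n) :
    Nat.card (Subgroup.closure ({Equiv.reflection P i, Equiv.reflection P j} : Set P.Aut)) = 2 * n := by
  classical
  letI := Fintype.ofFinite ι
  set si := RootPairing.Equiv.reflection P i with hsi
  set sj := RootPairing.Equiv.reflection P j with hsj
  set g := si * sj with hg
  obtain ⟨⟨hnpos, hni, hnj⟩, hleast⟩ := hn
  have himg : ({si, sj} : Set P.Aut) = (fun x : ι => RootPairing.Equiv.reflection P x) '' {i, j} := by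
    rw [Set.image_pair]
  have hspan : ∀ x : M, ∀ h ∈ Subgroup.closure ({si, sj} : Set P.Aut), h • x - x ∈ Submodule.span ℤ (P.root '' {i, j}) := by
    intro x h hh
    rw [himg] at hh
    exact RootLib.smul_sub_mem_span hh x
  have hgmem : g ∈ Subgroup.closure ({si, sj} : Set P.Aut) :=
    Subgroup.mul_mem _ (Subgroup.subset_closure (by simp)) (Subgroup.subset_closure (by simp))
  have hfix : ∀ h ∈ Subgroup.closure ({si, sj} : Set P.Aut), h • i = i → h • j = j → h = 1 := by
    intro h hh h1 h2
    refine RootLib.aut_ext fun x => ?_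
    rw [one_smul]
    obtain ⟨c, hc, he⟩ := RootLib.mem_span_iff_fun.1 (hspan x h hh)
    have hne : i ≠ j := fun e => by
      subst e
      have := (LinearIndependent.pair_iff.1 hli) 1 (-1) (by simp)
      omega
    have he' : h • x - x = c i • P.root i + c j • P.root j := by
      rw [he, ← Finset.sum_subset (Finset.subset_univ {i, j}) (fun t _ ht => by simp [hc t (by simpa using ht)]),
        Finset.sum_pair hne]
    refine sub_eq_zero.1 ?_
    rw [he']
    refine RootLib.eq_zero_of_two i j _ _ ?_ ?_
    · rw [← he', map_sub]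
      have := RootLib.coroot'_smul h i x
      rw [h1] at this
      rw [this, sub_self]
    · rw [← he', map_sub]
      have := RootLib.coroot'_smul h j x
      rw [h2] at this
      rw [this, sub_self]
  have hgn : g ^ n = 1 := hfix _ (Subgroup.pow_mem _ hgmem n) hni hnj
  have hord : orderOf g = n := by
    refine le_antisymm (Nat.le_of_dvd hnpos (orderOf_dvd_of_pow_eq_one hgn)) (hleast ⟨?_, ?_, ?_⟩)
    · exact orderOf_pos_iff.2 (isOfFinOrder_iff_pow_eq_one.2 ⟨n, hnpos, hgn⟩)
    · rw [pow_orderOf_eq_one, one_smul]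
    · rw [pow_orderOf_eq_one, one_smul]
  have hsi2 : si * si = 1 := RootLib.refl_sq i
  have hsj2 : sj * sj = 1 := RootLib.refl_sq j
  have hsii : si⁻¹ = si := RootPairing.Equiv.reflection_inv P i
  have hsji : sj⁻¹ = sj := RootPairing.Equiv.reflection_inv P j
  have hconj : ∀ z : ℤ, si * g ^ z * si = g ^ (-z) := by
    intro z
    have h1 : si * g * si⁻¹ = g⁻¹ := by
      rw [hg, mul_inv_rev, hsii, hsji, ← mul_assoc, hsi2, one_mul]
    calc si * g ^ z * si = si * g ^ z * si⁻¹ := by rw [hsii]
      _ = (si * g * si⁻¹) ^ z := by rw [conj_zpow]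
      _ = g ^ (-z) := by rw [h1, inv_zpow, zpow_neg]
  have hsi_ne : si ∉ Subgroup.zpowers g := by
    intro hmem
    obtain ⟨z, hz⟩ := Subgroup.mem_zpowers_iff.1 hmem
    have hcomm : si * g = g * si := by rw [← hz]; exact ((Commute.refl g).zpow_left z).eq
    have hg2 : g * g = 1 := by
      have := hconj 1
      rw [zpow_one, hcomm, mul_assoc, hsi2, mul_one, zpow_neg, zpow_one] at this
      exact mul_eq_one_iff_eq_inv.2 this
    have hne1 : si ≠ 1 := fun h1 => RootLib.nr_ne P i
      ((congrArg (fun w : P.Aut => w • i) h1).trans (one_smul _ _))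
    have hne2 : sj ≠ 1 := fun h1 => RootLib.nr_ne P j
      ((congrArg (fun w : P.Aut => w • j) h1).trans (one_smul _ _))
    have hgne : g ≠ 1 := by
      intro h1
      have : si = sj := by rw [← hsji]; exact mul_eq_one_iff_eq_inv.1 h1
      have h2 := congrArg (fun w : P.Aut => P.root (w • i)) this
      simp only [hsi, hsj] at h2
      rw [RootLib.root_refl, RootLib.root_refl] at h2
      have hpp : RootLib.pZ P i i = 2 := P.pairingIn_same ℤ i
      have := (LinearIndependent.pair_iff.1 hli) 2 (-RootLib.pZ P i j) (by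
        rw [hpp] at h2; linear_combination (norm := module) -h2)
      omega
    obtain ⟨q, rfl | rfl⟩ : ∃ q : ℤ, z = 2 * q ∨ z = 2 * q + 1 := ⟨z / 2, by omega⟩
    · rw [zpow_mul, zpow_two, hg2, one_zpow] at hz; exact hne1 hz.symm
    · rw [zpow_add, zpow_mul, zpow_two, hg2, one_zpow, one_mul, zpow_one] at hz
      exact hne2 (by rw [hg] at hz; exact mul_eq_left.1 hz)
  let C := Subgroup.closure ({si, sj} : Set P.Aut)
  let φ : Bool × Subgroup.zpowers g → C := fun p => ⟨(if p.1 then si else 1) * (p.2 : P.Aut),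
    Subgroup.mul_mem _ (by split_ifs; exacts [Subgroup.subset_closure (by simp), Subgroup.one_mem _])
      ((Subgroup.zpowers_le.2 hgmem) p.2.2)⟩
  have hbij : Function.Bijective φ := by
    constructor
    · rintro ⟨b, x⟩ ⟨b', y⟩ he
      have he' := congrArg Subtype.val he
      cases b <;> cases b' <;> simp only [φ, if_true, if_false, one_mul, Bool.false_eq_true] at he'
      · exact Prod.ext rfl (Subtype.ext he')
      · exact absurd (show si ∈ Subgroup.zpowers g by
          rw [show si = (x : P.Aut) * (y : P.Aut)⁻¹ by rw [he', mul_inv_cancel_right]]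
          exact Subgroup.mul_mem _ x.2 (Subgroup.inv_mem _ y.2)) hsi_ne
      · exact absurd (show si ∈ Subgroup.zpowers g by
          rw [show si = (y : P.Aut) * (x : P.Aut)⁻¹ by rw [← he', mul_inv_cancel_right]]
          exact Subgroup.mul_mem _ y.2 (Subgroup.inv_mem _ x.2)) hsi_ne
      · exact Prod.ext rfl (Subtype.ext (mul_left_cancel he'))
    · rintro ⟨w, hw⟩
      suffices h : ∃ z : ℤ, w = g ^ z ∨ w = si * g ^ z by
        obtain ⟨z, h | h⟩ := h
        · exact ⟨⟨false, g ^ z, z, rfl⟩, Subtype.ext (by simp [φ, h])⟩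
        · exact ⟨⟨true, g ^ z, z, rfl⟩, Subtype.ext (by simp [φ, h])⟩
      have hmove : ∀ z : ℤ, g ^ z * si = si * g ^ (-z) := fun z => by
        rw [← hconj z, ← mul_assoc, ← mul_assoc, hsi2, one_mul]
      induction hw using Subgroup.closure_induction with
      | mem x hx =>
        rcases hx with h | h
        · exact ⟨0, Or.inr (by simp [h])⟩
        · exact ⟨1, Or.inr (by rw [Set.mem_singleton_iff.1 h, zpow_one, hg, ← mul_assoc, hsi2, one_mul])⟩
      | one => exact ⟨0, Or.inl (by simp)⟩
      | inv x _ hx =>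
        obtain ⟨z, h | h⟩ := hx
        · exact ⟨-z, Or.inl (by rw [h, zpow_neg])⟩
        · exact ⟨z, Or.inr (by rw [h, mul_inv_rev, hsii, ← zpow_neg, hmove, neg_neg])⟩
      | mul x y _ _ hx hy =>
        obtain ⟨z, h | h⟩ := hx <;> obtain ⟨z', h' | h'⟩ := hy
        · exact ⟨z + z', Or.inl (by rw [h, h', zpow_add])⟩
        · exact ⟨-z + z', Or.inr (by rw [h, h', ← mul_assoc, hmove, mul_assoc, ← zpow_add])⟩
        · exact ⟨z + z', Or.inr (by rw [h, h', mul_assoc, ← zpow_add])⟩
        · exact ⟨-z + z', Or.inl (by rw [h, h', mul_assoc, ← mul_assoc (g ^ z), hmove, mul_assoc, ← mul_assoc si, hsi2, one_mul, ← zpow_add])⟩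
  rw [show Nat.card C = Nat.card (Bool × Subgroup.zpowers g) from (Nat.card_congr (Equiv.ofBijective φ hbij)).symm]
  rw [Nat.card_prod, Nat.card_zpowers, hord]
  simp

end Groth.Agent.S5496
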