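import Groth.Statements.S5497
import Groth.Agent.Lib.RootSub

set_option autoImplicit false
open RootD

namespace Groth.Agent.S5497

/-- For a partition of the roots into two closed symmetric subsets, whenever α, β, α + β are roots they
lie in the same part. -/
theorem result {ι M N : Type*} [AddCommGroup M] [AddCommGroup N]
    (P : RootPairing ι ℤ M N) [Finite ι] (R' : Set ι) (hc : RootD.IsClosedSub P R')
    (hs : RootD.IsSymmSub P R') (hc' : RootD.IsClosedSub P R'ᶜ) (hs' : RootD.IsSymmSub P R'ᶜ)
    (i j k : ι) (h : P.root k = P.root i + P.root j) :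
    (i ∈ R' ∧ j ∈ R' ∧ k ∈ R') ∨ (i ∉ R' ∧ j ∉ R' ∧ k ∉ R') := by
  have key := RootLib.gram_add P h k
  have hkk := RootLib.gram_self_pos P k
  by_cases hk : k ∈ R'
  · left
    by_cases hi : i ∈ R'
    · exact ⟨hi, hc hk (hs hi) (by simp [h]), hk⟩
    · exfalso
      by_cases hj : j ∈ R'
      · exact hi (hc hk (hs hj) (by simp [h]))
      · exact hc' hi hj h hk
  · right
    by_cases hi : i ∈ R'
    · exfalso
      by_cases hj : j ∈ R'
      · exact hk (hc hi hj h)
      · exact (hc' hk (hs' hj) (show P.root i = P.root k + P.root (RootLib.nr P j) by simp [h])) hi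
    · exact ⟨hi, (hc' hk (hs' hi) (show P.root j = P.root k + P.root (RootLib.nr P i) by simp [h])), hk⟩

end Groth.Agent.S5497
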