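import Groth.Statements.S5498
import Groth.Agent.Lib.RootDual

set_option autoImplicit false
open RootD

namespace Groth.Agent.S5498

/-- If R is irreducible then so is the dual datum R^v, and long(α)·long(α^v) (equivalently ℓ(α) ℓ(α^v))
is constant on the roots. -/
theorem result {ι M N : Type*} [AddCommGroup M] [AddCommGroup N]
    (P : RootPairing ι ℤ M N) [Finite ι] [Fintype ι] [Nonempty ι]
    (hirr : ∀ R' : Set ι, RootD.IsClosedSub P R' → RootD.IsSymmSub P R' → RootD.IsClosedSub P R'ᶜ →
      RootD.IsSymmSub P R'ᶜ → R' = ∅ ∨ R' = Set.univ) :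
    (∀ R' : Set ι, RootD.IsClosedSub P.flip R' → RootD.IsSymmSub P.flip R' → RootD.IsClosedSub P.flip R'ᶜ →
      RootD.IsSymmSub P.flip R'ᶜ → R' = ∅ ∨ R' = Set.univ) ∧
    ∀ i j : ι, P.RootForm (P.root i) (P.root i) * P.CorootForm (P.coroot i) (P.coroot i) =
      P.RootForm (P.root j) (P.root j) * P.CorootForm (P.coroot j) (P.coroot j) := by
  refine ⟨fun R' hc hs hc' hs' => ?_, ?_⟩
  · have horth : ∀ i ∈ R', ∀ j, j ∉ R' → RootLib.gram P i j = 0 := fun i hi j hj => by
      have h := RootLib.partition_gram_eq_zero (P := P.flip) hc hs hc' hs' hi hj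
      rw [RootLib.gram_eq_zero_iff, RootLib.pZ_flip, ← RootLib.gram_eq_zero_iff, RootLib.gram_comm] at h
      exact h
    obtain ⟨h1, h2, h3, h4⟩ := RootLib.partition_of_gram (P := P) (T := R') hs horth
    exact hirr R' h1 h2 h3 h4
  intro i j
  have key : RootLib.gram P i i * RootLib.gram P.flip i i = RootLib.gram P j j * RootLib.gram P.flip j j := by
    refine RootLib.Irred.const hirr (fun x => RootLib.gram P x x * RootLib.gram P.flip x x) ?_ i j
    intro a b hab
    have hp : RootLib.pZ P a b ≠ 0 := fun hh => hab ((RootLib.gram_eq_zero_iff P a b).2 hh)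
    have hq : RootLib.pZ P b a ≠ 0 := fun hh => hab (by rw [RootLib.gram_comm]; exact (RootLib.gram_eq_zero_iff P b a).2 hh)
    have e1 := RootLib.pZ_mul_gram_swap P a b
    have e2 := RootLib.pZ_mul_gram_swap P.flip b a
    rw [RootLib.pZ_flip, RootLib.pZ_flip] at e2
    refine mul_left_cancel₀ (mul_ne_zero hp hq) ?_
    calc RootLib.pZ P a b * RootLib.pZ P b a * (RootLib.gram P a a * RootLib.gram P.flip a a)
        = (RootLib.pZ P b a * RootLib.gram P a a) * (RootLib.pZ P a b * RootLib.gram P.flip a a) := by ring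
      _ = _ := by rw [← e1, e2]; ring
  have c1 := RootLib.cast_gram P i i
  have c2 := RootLib.cast_gram P j j
  have c3 := RootLib.cast_gram P.flip i i
  have c4 := RootLib.cast_gram P.flip j j
  rw [Int.cast_id] at c1 c2 c3 c4
  rw [← c1, ← c2]
  show RootLib.gram P i i * P.flip.RootForm (P.flip.root i) (P.flip.root i) = _ * P.flip.RootForm (P.flip.root j) (P.flip.root j)
  rw [← c3, ← c4, key]

end Groth.Agent.S5498
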