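import Groth.Statements.S5499
import Groth.Agent.Lib.RootBase
import Groth.Agent.S5465

set_option autoImplicit false
open RootD

namespace Groth.Agent.S5499

/-- For an irreducible datum, where long(α) = ℓ(α)/ℓ(α₀) with ℓ(α₀) minimal: there is a unique
homomorphism u : Γ_0(R) → M^v with u(α) = long(α) α^v for every root α. -/
theorem result {ι M N : Type*} [AddCommGroup M] [AddCommGroup N]
    (P : RootPairing ι ℤ M N) [Finite ι] [Fintype ι]
    (hirr : ∀ R' : Set ι, RootD.IsClosedSub P R' → RootD.IsSymmSub P R' → RootD.IsClosedSub P R'ᶜ →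
      RootD.IsSymmSub P R'ᶜ → R' = ∅ ∨ R' = Set.univ)
    (i₀ : ι) (hmin : ∀ i : ι, P.RootForm (P.root i₀) (P.root i₀) ≤ P.RootForm (P.root i) (P.root i)) :
    ∃! u : Submodule.span ℤ (Set.range P.root) →+ N, ∀ i : ι,
      u ⟨P.root i, Submodule.subset_span (Set.mem_range_self i)⟩ =
        (P.RootForm (P.root i) (P.root i) / P.RootForm (P.root i₀) (P.root i₀)) • P.coroot i := by
  classical
  rename Fintype ι => hF
  obtain rfl : hF = Fintype.ofFinite ι := Subsingleton.elim _ _
  letI := Fintype.ofFinite ι
  simp only [RootLib.rootForm_eq_gram] at hmin ⊢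
  have hg0 := RootLib.gram_self_pos P i₀
  have hdvd : ∀ i, RootLib.gram P i₀ i₀ ∣ RootLib.gram P i i := by
    intro i
    obtain ⟨g, hg, hne⟩ := RootLib.Irred.exists_conj_gram_ne_zero (P := P) hirr i₀ i
    have he := RootLib.pZ_mul_gram_swap P i (g • i₀)
    rw [RootLib.gram_smul] at he
    have hp : RootLib.pZ P i (g • i₀) ≠ 0 := fun h0 => hne (by rw [RootLib.gram_comm]; exact (RootLib.gram_eq_zero_iff P _ _).2 h0)
    have := hmin i
    have hgi := RootLib.gram_self_pos P i
    have hset := P.pairingIn_pairingIn_mem_set_of_isCrystallographic i (g • i₀)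
    simp only [Set.mem_insert_iff, Set.mem_singleton_iff, Prod.mk.injEq] at hset
    rcases hset with h | h | h | h | h | h | h | h | h | h | h | h | h | h | h | h | h <;>
      · obtain ⟨h1, h2⟩ := h
        simp only [RootLib.pZ] at he hp
        rw [h1, h2] at he
        first
          | (exfalso; omega)
          | exact ⟨1, by omega⟩
          | exact ⟨2, by omega⟩
          | exact ⟨3, by omega⟩
          | exact ⟨4, by omega⟩
  let F : ι → N := fun i => (RootLib.gram P i i / RootLib.gram P i₀ i₀) • P.coroot i
  refine Groth.Agent.S5465.result P F (fun i => ?_) (fun i j k h => ?_)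
  · have h1 : RootLib.gram P (P.reflectionPerm i i) (P.reflectionPerm i i) = RootLib.gram P i i := by
      show RootLib.gram P (RootLib.nr P i) (RootLib.nr P i) = _
      rw [RootLib.gram_nr_left, RootLib.gram_comm, RootLib.gram_nr_left, neg_neg]
    simp [F, h1]
  · have h1 : P.root k = ∑ t, ((Pi.single i 1 + Pi.single j 1 : ι → ℤ) t) • P.root t := by
      simp only [Pi.add_apply, add_smul, Finset.sum_add_distrib]
      rw [Finset.sum_eq_single i, Finset.sum_eq_single j] <;> simp +contextual [h]
    have h2 := RootLib.coroot_of_root_comb (P := P) (k := k) (c := Pi.single i 1 + Pi.single j 1) h1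
    have h3 : RootLib.gram P k k • P.coroot k = RootLib.gram P i i • P.coroot i + RootLib.gram P j j • P.coroot j := by
      rw [h2]
      simp only [Pi.add_apply, add_mul, add_smul, Finset.sum_add_distrib]
      rw [Finset.sum_eq_single i, Finset.sum_eq_single j] <;> simp +contextual
    have htf : IsAddTorsionFree N := RootLib.torsionFree P.flip
    refine zsmul_right_injective hg0.ne' ?_
    simp only [F, smul_add, smul_smul, Int.mul_ediv_cancel' (hdvd _), h3]

end Groth.Agent.S5499
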