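import Groth.Statements.S5500
import Groth.Agent.Lib.RootBase

set_option autoImplicit false
open RootD

namespace Groth.Agent.S5500

/-- For a p-morphism between irreducible reduced root data there is a rational constant k with k ·
long(u(α)) = q(α)² · long(α) for every root α; stated as the proportionality q(α)² ℓ(α) ℓ'(u β) =
q(β)² ℓ(β) ℓ'(u α) of the canonical quadratic forms. -/
theorem result {ι M N ι' M' N' : Type*} [AddCommGroup M] [AddCommGroup N] [AddCommGroup M'] [AddCommGroup N']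
    (P : RootPairing ι ℤ M N) (P' : RootPairing ι' ℤ M' N') [Finite ι] [Finite ι'] [Fintype ι] [Fintype ι'] [P.IsReduced] [P'.IsReduced]
    (hirr : ∀ R₁ : Set ι, RootD.IsClosedSub P R₁ → RootD.IsSymmSub P R₁ → RootD.IsClosedSub P R₁ᶜ →
      RootD.IsSymmSub P R₁ᶜ → R₁ = ∅ ∨ R₁ = Set.univ)
    (hirr' : ∀ R₁ : Set ι', RootD.IsClosedSub P' R₁ → RootD.IsSymmSub P' R₁ → RootD.IsClosedSub P' R₁ᶜ →
      RootD.IsSymmSub P' R₁ᶜ → R₁ = ∅ ∨ R₁ = Set.univ)
    (p : ℕ) (hp : 0 < p) (f : M' →ₗ[ℤ] M) (g : N →ₗ[ℤ] N')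
    (hfg : ∀ (m' : M') (n : N), P.toLinearMap (f m') n = P'.toLinearMap m' (g n))
    (u : ι ≃ ι') (q : ι → ℕ) (hq : ∀ i, ∃ e : ℕ, q i = p ^ e)
    (hroot : ∀ i : ι, f (P'.root (u i)) = (q i : ℤ) • P.root i)
    (hcoroot : ∀ i : ι, g (P.coroot i) = (q i : ℤ) • P'.coroot (u i)) (i j : ι) :
    ((q i : ℤ) ^ 2 * P.RootForm (P.root i) (P.root i)) * P'.RootForm (P'.root (u j)) (P'.root (u j)) =
      ((q j : ℤ) ^ 2 * P.RootForm (P.root j) (P.root j)) * P'.RootForm (P'.root (u i)) (P'.root (u i)) := by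
  classical
  have hqpos : ∀ i, 0 < q i := fun i => by obtain ⟨e, he⟩ := hq i; rw [he]; positivity
  have hpq : ∀ i j, (q i : ℤ) * P.pairing i j = q j * P'.pairing (u i) (u j) := by
    intro i j
    have h1 := hfg (P'.root (u i)) (P.coroot j)
    rw [hroot, hcoroot, map_zsmul, LinearMap.smul_apply, map_zsmul] at h1
    simpa [smul_eq_mul] using h1
  simp only [RootLib.rootForm_eq_gram]
  induction (RootLib.Irred.connected (P := P) hirr i j) with
  | refl => rfl
  | @tail a b _ hab ih =>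
    have hp0 : P.pairing a b ≠ 0 := fun h0 => hab ((RootLib.isOrthogonal_iff_gram P a b).2 ((RootLib.pairing_eq_zero_iff_gram P a b).1 h0))
    have e1 : P.pairing a b * RootLib.gram P b b = P.pairing b a * RootLib.gram P a a := by
      simpa only [← RootLib.cast_pZ, Int.cast_id] using RootLib.pZ_mul_gram_swap P a b
    have e2 : P'.pairing (u a) (u b) * RootLib.gram P' (u b) (u b) = P'.pairing (u b) (u a) * RootLib.gram P' (u a) (u a) := by
      simpa only [← RootLib.cast_pZ, Int.cast_id] using RootLib.pZ_mul_gram_swap P' (u a) (u b)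
    have e3 := hpq a b
    have e4 := hpq b a
    have hga : RootLib.gram P' (u a) (u a) ≠ 0 := (RootLib.gram_self_pos P' _).ne'
    have edge : (q a : ℤ) ^ 2 * RootLib.gram P a a * RootLib.gram P' (u b) (u b) =
        (q b : ℤ) ^ 2 * RootLib.gram P b b * RootLib.gram P' (u a) (u a) := by
      have hbne : P.pairing b a ≠ 0 := fun h0 => hab ((RootLib.isOrthogonal_iff_gram P a b).2
        (by rw [RootLib.gram_comm]; exact (RootLib.pairing_eq_zero_iff_gram P b a).1 h0))
      refine mul_left_cancel₀ hbne ?_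
      linear_combination ((q a : ℤ) ^ 2 * RootLib.gram P' (u b) (u b)) * (-e1) + ((q a : ℤ) * RootLib.gram P b b * RootLib.gram P' (u b) (u b)) * e3 + ((q a : ℤ) * q b * RootLib.gram P b b) * e2 - ((q b : ℤ) * RootLib.gram P b b * RootLib.gram P' (u a) (u a)) * e4
    refine mul_left_cancel₀ (mul_ne_zero hga (show ((q a : ℤ) ^ 2 * RootLib.gram P a a) ≠ 0 from
      mul_ne_zero (pow_ne_zero _ (by exact_mod_cast (hqpos a).ne')) (RootLib.gram_self_pos P a).ne')) ?_
    linear_combination ((q a : ℤ) ^ 2 * RootLib.gram P a a * RootLib.gram P' (u b) (u b)) * ih + ((q a : ℤ) ^ 2 * RootLib.gram P a a * RootLib.gram P' (u i) (u i)) * edge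

end Groth.Agent.S5500
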