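import Groth.Statements.S5501
import Mathlib

set_option autoImplicit false
set_option backward.isDefEq.respectTransparency.types false
set_option maxHeartbeats 1000000
set_option linter.all false
universe u v w
open RootD

namespace Groth.Agent.S5501
open Groth.Agent

/-- Adjoint case; the simply connected case is dual: a semisimple root datum R is adjoint if and only if
every isogeny R' → R is an isomorphism. -/
theorem result {ι : Type u} {M : Type v} {N : Type w} [AddCommGroup M] [AddCommGroup N]
    (P : RootPairing ι ℤ M N) [Finite ι] [Module.Finite ℤ M] [Module.Finite ℤ N]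
    (hss : Module.finrank ℤ (Submodule.span ℤ (Set.range P.root)) = Module.finrank ℤ M) :
    Submodule.span ℤ (Set.range P.root) = ⊤ ↔
      ∀ (ι' : Type u) (M' N' : Type v) [AddCommGroup M'] [AddCommGroup N'] [Finite ι']
        [Module.Finite ℤ M'] [Module.Finite ℤ N'] (P' : RootPairing ι' ℤ M' N') (f : RootPairing.Hom P' P),
        Function.Injective f.weightMap → Finite (M ⧸ LinearMap.range f.weightMap) →
          Function.Bijective f.weightMap := by
    classical
    constructor
    · intro hspan ι' M' N' _ _ _ _ _ P' f hinj _
      refine ⟨hinj, fun y => ?_⟩
      have : y ∈ LinearMap.range f.weightMap := by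
        have h1 : Submodule.span ℤ (Set.range P.root) ≤ LinearMap.range f.weightMap := by
          rw [Submodule.span_le]
          rintro _ ⟨i, rfl⟩
          obtain ⟨j, rfl⟩ := f.indexEquiv.surjective i
          exact ⟨P'.root j, congrFun f.root_weightMap j⟩
        exact h1 (hspan ▸ Submodule.mem_top)
      exact this
    · intro h
      haveI : Module.IsReflexive ℤ M := Module.IsReflexive.of_isPerfPair P.toLinearMap
      haveI : Module.Free ℤ M := inferInstance
      let S := Submodule.span ℤ (Set.range P.root)
      haveI : Module.Finite ℤ S := inferInstance
      haveI : Module.Free ℤ S := inferInstance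
      let res : N →ₗ[ℤ] Module.Dual ℤ S := S.subtype.dualMap.comp P.toLinearMap.flip
      haveI hfinQ : Finite (M ⧸ S) := by
        have hr : Module.finrank ℤ (M ⧸ S) = 0 := by
          have := Submodule.finrank_quotient_add_finrank (R := ℤ) S
          change _ + Module.finrank ℤ (Submodule.span ℤ (Set.range P.root)) = _ at this
          rw [hss] at this
          omega
        exact Module.finite_of_fg_torsion _ ((Module.finrank_eq_zero_iff_isTorsion).1 hr)
      obtain ⟨d, hd, hdS⟩ : ∃ d : ℤ, d ≠ 0 ∧ ∀ y : M, d • y ∈ S := by
        refine ⟨Nat.card (M ⧸ S), by exact_mod_cast (Nat.card_pos).ne', fun y => ?_⟩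
        refine (Submodule.Quotient.mk_eq_zero S).1 ?_
        rw [Submodule.Quotient.mk_smul, natCast_zsmul]
        exact card_nsmul_eq_zero'
      have hres : Function.Injective res := by
        rw [← LinearMap.ker_eq_bot, LinearMap.ker_eq_bot']
        intro n hn
        apply (LinearMap.IsPerfPair.bijective_right P.toLinearMap).1
        rw [map_zero]
        refine LinearMap.ext fun y => ?_
        have h1 := LinearMap.congr_fun hn ⟨d • y, hdS y⟩
        simpa [res, hd] using h1
      haveI hpp : (Module.Dual.eval ℤ S).IsPerfPair := inferInstance
      let P' : RootPairing ι ℤ S (Module.Dual ℤ S) :=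
        { toLinearMap := Module.Dual.eval ℤ S
          root := ⟨fun i => ⟨P.root i, Submodule.subset_span ⟨i, rfl⟩⟩, fun i j hij => P.root.injective (congrArg Subtype.val hij)⟩
          coroot := ⟨fun i => res (P.coroot i), fun i j hij => P.coroot.injective (hres hij)⟩
          root_coroot_two := fun i => P.root_coroot_two i
          reflectionPerm := P.reflectionPerm
          reflectionPerm_root := fun i j => Subtype.ext (P.reflectionPerm_root i j)
          reflectionPerm_coroot := fun i j => LinearMap.ext fun y =>
            by
            show P.toLinearMap (y : M) (P.coroot j) - P.toLinearMap (P.root i) (P.coroot j) * P.toLinearMap (y : M) (P.coroot i) =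
              P.toLinearMap (y : M) (P.coroot (P.reflectionPerm i j))
            rw [← P.reflectionPerm_coroot i j, map_sub, map_smul, smul_eq_mul] }
      let f : RootPairing.Hom P' P :=
        { weightMap := S.subtype
          coweightMap := res
          indexEquiv := Equiv.refl ι
          weight_coweight_transpose := by ext n y; rfl
          root_weightMap := rfl
          coroot_coweightMap := rfl }
      have hr : LinearMap.range f.weightMap = S := Submodule.range_subtype S
      have hb := h ι S (Module.Dual ℤ S) P' f Subtype.val_injective (by rw [hr]; exact hfinQ)
      rw [eq_top_iff]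
      intro y _
      obtain ⟨z, rfl⟩ := hb.2 y
      exact z.2

end Groth.Agent.S5501
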