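import Groth.Statements.S5502
import Groth.Agent.Lib.RootBase

set_option autoImplicit false
open RootD

namespace Groth.Agent.S5502

/-- If β = Σ_{α ∈ Δ} a_α α along a system of simple roots Δ, then ℓ(β) divides 2 a_α ℓ(α), and 2ℓ(β)
divides it when α^v is indivisible (ℓ the canonical quadratic form). -/
theorem result {ι M N : Type*} [AddCommGroup M] [AddCommGroup N]
    (P : RootPairing ι ℤ M N) [Finite ι] [Fintype ι] (Δ : Set ι) (hΔ : RootD.IsSimpleSys P Δ)
    (k : ι) (c : ι →₀ ℤ) (hc : ↑c.support ⊆ Δ) (hck : Finsupp.linearCombination ℤ P.root c = P.root k)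
    (i : ι) (hi : i ∈ Δ) :
    P.RootForm (P.root k) (P.root k) ∣ 2 * c i * P.RootForm (P.root i) (P.root i) ∧
      (RootD.IsIndiv P.flip i → 2 * P.RootForm (P.root k) (P.root k) ∣ 2 * c i * P.RootForm (P.root i) (P.root i)) := by
  classical
  rename Fintype ι => hF
  obtain rfl : hF = Fintype.ofFinite ι := Subsingleton.elim _ _
  letI := Fintype.ofFinite ι
  have hS' := RootLib.isPosSys_flip (RootLib.isPosSys_posOf hΔ)
  have hΔ' := RootLib.isSimpleSys_simples hS'
  obtain ⟨j, hj, hjk⟩ := RootLib.exists_simple_coroot hΔ hi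
  have hck' : P.root k = ∑ t, c t • P.root t := by
    rw [← hck, Finsupp.linearCombination_apply, Finsupp.sum_fintype _ _ (by simp)]
  have hc' : RootLib.SuppIn Δ (fun t => c t) := fun t ht => by
    by_contra hh; exact ht (hc (Finsupp.mem_support_iff.2 hh))
  have hcoef : RootLib.coef hΔ k = fun t => c t := by
    refine RootLib.coef_eq hΔ hc' ?_
    exact hck'
  have h1 := RootLib.coroot_of_root_comb (c := fun t => c t) (k := k) hck'
  have h2 : P.flip.root k = P.coroot k := rfl
  have hco := RootLib.coef_ext hΔ' (c := fun x => RootLib.gram P k k * RootLib.coef hΔ' k x)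
    (d := fun x => ∑ t, c t * RootLib.gram P t t * RootLib.coef hΔ' t x)
    (fun x hx => by simp [RootLib.coef_supp hΔ' k x hx])
    (fun x hx => Finset.sum_eq_zero fun t _ => by simp [RootLib.coef_supp hΔ' t x hx]) (by
    simp only [mul_smul, ← Finset.smul_sum, ← RootLib.root_eq_coef, Finset.sum_smul]
    rw [Finset.sum_comm]
    simp only [← Finset.smul_sum, ← RootLib.root_eq_coef]
    show RootLib.gram P k k • P.coroot k = _
    rw [h1]
    simp only [mul_smul]
    rfl)
  have hzero : ∀ t, t ≠ i → c t ≠ 0 → RootLib.coef hΔ' t j = 0 := by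
    intro t hti hct
    have htΔ : t ∈ Δ := by by_contra hh; exact hct (hc' t hh)
    obtain ⟨j', hj', hjk'⟩ := RootLib.exists_simple_coroot hΔ htΔ
    have hne : j' ≠ j := by
      intro he
      subst he
      obtain ⟨e1, he1, he1'⟩ : ∃ e : ℤ, 0 < e ∧ P.coroot i = e • P.coroot j' := by
        rcases hjk with ⟨rfl, -⟩ | h
        · exact ⟨1, one_pos, (one_smul _ _).symm⟩
        · exact ⟨2, two_pos, h.trans (two_zsmul _).symm⟩
      obtain ⟨e2, he2, he2'⟩ : ∃ e : ℤ, 0 < e ∧ P.coroot t = e • P.coroot j' := by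
        rcases hjk' with ⟨rfl, -⟩ | h
        · exact ⟨1, one_pos, (one_smul _ _).symm⟩
        · exact ⟨2, two_pos, h.trans (two_zsmul _).symm⟩
      have hrel := RootLib.root_comb_eq_zero (P := P) (c := Pi.single t e1 - Pi.single i e2) (by
        simp only [Pi.sub_apply, sub_smul, Finset.sum_sub_distrib]
        rw [Finset.sum_eq_single t, Finset.sum_eq_single i, Pi.single_eq_same, Pi.single_eq_same, he1', he2',
          smul_smul, smul_smul, mul_comm, sub_self] <;> simp +contextual)
      have hh := congrFun (RootLib.IsSimpleSys.indep hΔ _ (fun x hx => by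
        have a1 : x ≠ t := fun h => hx (h ▸ htΔ)
        have a2 : x ≠ i := fun h => hx (h ▸ hi)
        simp [a1, a2]) hrel) t
      simp [hti] at hh
      have := RootLib.gram_self_pos P.flip t
      rcases hh with h | h <;> omega
    rcases hjk' with ⟨rfl, -⟩ | h
    · rw [RootLib.coef_simple hΔ' hj']; simp [Ne.symm hne]
    · rw [RootLib.coef_add hΔ' (i := j') (j := j') (k := t) h, RootLib.coef_simple hΔ' hj']; simp [Ne.symm hne]
  have hkey := congrFun hco j
  rw [Finset.sum_eq_single i (fun t _ ht => by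
    by_cases hct : c t = 0
    · simp [hct]
    · simp [hzero t ht hct]) (by simp)] at hkey
  rw [RootLib.rootForm_eq_gram, RootLib.rootForm_eq_gram]
  refine ⟨?_, fun hind => ?_⟩
  · rcases hjk with ⟨rfl, -⟩ | h
    · rw [RootLib.coef_simple hΔ' hj, Pi.single_eq_same] at hkey
      exact ⟨2 * RootLib.coef hΔ' k j, by linear_combination -2 * hkey⟩
    · rw [RootLib.coef_add hΔ' (i := j) (j := j) (k := i) h, RootLib.coef_simple hΔ' hj] at hkey
      simp at hkey
      exact ⟨RootLib.coef hΔ' k j, by linear_combination -hkey⟩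
  · rcases hjk with ⟨rfl, -⟩ | h
    · rw [RootLib.coef_simple hΔ' hj, Pi.single_eq_same] at hkey
      exact ⟨RootLib.coef hΔ' k j, by linear_combination -2 * hkey⟩
    · exact absurd (show (2 : ℤ) • P.coroot j = P.coroot i by rw [two_zsmul, h]) (hind j)

end Groth.Agent.S5502
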