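import Groth.Statements.S5507
import Groth.Agent.Lib.RootDual

set_option autoImplicit false
open RootD

namespace Groth.Agent.S5507

/-- For a system of simple roots Δ there are positive integers m_α (the lengths) such that the matrix
(m_α a_{α,β}) with a_{α,β} = (α^v, β) is symmetric and positive definite. -/
theorem result {ι M N : Type*} [AddCommGroup M] [AddCommGroup N]
    (P : RootPairing ι ℤ M N) [Finite ι] (Δ : Finset ι) (hΔ : RootD.IsSimpleSys P (↑Δ : Set ι)) :
    ∃ m : ↥Δ → ℤ, (∀ a, 0 < m a) ∧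
      (Matrix.of fun (a b : ↥Δ) => m a * P.pairing (b : ι) (a : ι)).IsSymm ∧
      (Matrix.of fun (a b : ↥Δ) => m a * P.pairing (b : ι) (a : ι)).PosDef := by
  classical
  letI := Fintype.ofFinite ι
  have hind := RootLib.intIndep_of_linearIndepOn hΔ.linInd
  refine ⟨fun a => RootLib.gram P a a, fun a => RootLib.gram_self_pos P _, ?_, ?_⟩
  · ext a b
    simp only [Matrix.transpose_apply, Matrix.of_apply, ← RootLib.cast_pZ, Int.cast_id]
    rw [mul_comm, RootLib.pZ_mul_gram_swap, mul_comm]
  have heq : ∀ a b : ↥Δ, (RootLib.gram P (a : ι) a) * P.pairing (b : ι) (a : ι) = 2 * RootLib.gram P (a : ι) b := fun a b => by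
    rw [← RootLib.cast_pZ, Int.cast_id, RootLib.gram_comm P (a : ι) (b : ι), RootLib.two_mul_gram, mul_comm]
  refine Matrix.PosDef.of_dotProduct_mulVec_pos ?_ ?_
  · ext a b
    simp only [Matrix.conjTranspose_apply, star_trivial, Matrix.of_apply, heq, RootLib.gram_comm P (b : ι) (a : ι)]
  intro x hx
  simp only [star_trivial, dotProduct, Matrix.mulVec, Matrix.of_apply, heq]
  have hsq : ∑ a, x a * ∑ b : ↥Δ, 2 * RootLib.gram P (a : ι) b * x b = 2 * ∑ k, (∑ a : ↥Δ, x a * RootLib.pZ P a k) ^ 2 := by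
    simp only [RootLib.gram_eq, sq, Finset.mul_sum, Finset.sum_mul]
    symm
    rw [Finset.sum_comm]
    conv_lhs => arg 2; ext a; rw [Finset.sum_comm]
    rw [Finset.sum_comm]
    refine Finset.sum_congr rfl fun a _ => Finset.sum_congr rfl fun b _ => Finset.sum_congr rfl fun k _ => ?_
    ring
  rw [hsq]
  refine mul_pos two_pos (lt_of_le_of_ne (Finset.sum_nonneg fun k _ => sq_nonneg _) (Ne.symm ?_))
  intro h0
  rw [Finset.sum_eq_zero_iff_of_nonneg (fun k _ => sq_nonneg _)] at h0
  let c : ι → ℤ := fun i => if hi : i ∈ Δ then x ⟨i, hi⟩ else 0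
  have hc0 := hind c (fun i hi => by simp [c, show i ∉ Δ by simpa using hi]) ((RootLib.comb_eq_zero_iff c).2 ?_)
  · exact hx (funext fun a => by simpa [c, a.2] using congrFun hc0 a.1)
  · funext k
    have hk := sq_eq_zero_iff.1 (h0 k (Finset.mem_univ k))
    rw [Finset.sum_apply, Pi.zero_apply, ← Finset.sum_subset (Finset.subset_univ Δ) (fun i _ hi => by simp [c, hi]),
      Finset.sum_subtype Δ (p := fun i => i ∈ Δ) (F := inferInstance) (fun _ => Iff.rfl)]
    have : ((∑ a : ↥Δ, x a * RootLib.pZ P a k : ℤ) : ℚ) = 0 := by rw [hk]; rfl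
    push_cast at this
    simpa [c, RootLib.rowQ] using this

end Groth.Agent.S5507
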