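import Groth.Statements.S5580
import Groth.Agent.Lib.LTopos4

set_option autoImplicit false
open CategoryTheory CategoryTheory.Limits Opposite
universe u
open ToposFin

namespace Groth.Agent.S5580

open Groth.Agent.LTopos
set_option backward.isDefEq.respectTransparency false
set_option backward.isDefEq.respectTransparency.types false

/-- Quasi-compact and coherent cases: for the topos of sheaves of sets on a small site: let (X_i) be a
finite family of objects with coproduct X (given as a colimit cofan) and f : X -> Y a morphism with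
components f_i : X_i -> Y. Then f is quasi-compact (resp. coherent) if and only if every f_i is. -/
theorem result {C : Type u} [SmallCategory C] {J : GrothendieckTopology C}
    {Y : ToposFin.Sh J} {n : ℕ} (X : Fin n → ToposFin.Sh J) (c : Cofan X) (hc : IsColimit c)
    (f : c.pt ⟶ Y) :
    (ToposFin.IsQCHom f ↔ ∀ i, ToposFin.IsQCHom (c.inj i ≫ f)) ∧
    (ToposFin.IsCohHom f ↔ ∀ i, ToposFin.IsCohHom (c.inj i ≫ f)) := by
  have hc' : IsColimit (Cofan.mk c.pt fun k : ULift.{u} (Fin n) => c.inj k.down) :=
    mkCofanColimit _ (fun s => Cofan.IsColimit.desc hc fun k => s.inj ⟨k⟩)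
      (fun s j => by simp) (fun s m h => Cofan.IsColimit.hom_ext hc _ _ fun k => by simpa using h ⟨k⟩)
  have hq : IsQCHom f ↔ ∀ i, IsQCHom (c.inj i ≫ f) :=
    ⟨fun h i => qchom_comp (qchom_inj hc' ⟨i⟩) h, fun h => qchom_of_fin f X c.inj
      ⟨fun a b hab => Cofan.IsColimit.hom_ext hc _ _ fun i => by simpa using congrArg (fun t => Sigma.ι X i ≫ t) hab⟩ h⟩
  refine ⟨hq, ⟨fun h i => ⟨hq.1 h.1 i, (qshom_cofan_iff hc' f).1 h.2 ⟨i⟩⟩,
    fun h => ⟨hq.2 fun i => (h i).1, (qshom_cofan_iff hc' f).2 fun k => (h k.down).2⟩⟩⟩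

end Groth.Agent.S5580
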