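import Groth.Statements.S5596
import Mathlib
import Groth.Agent.Lib.LEtStalk

set_option autoImplicit false
open CategoryTheory CategoryTheory.Limits AlgebraicGeometry Opposite
universe u
open EtDesc

namespace Groth.Agent.S5596

/-- A morphism v : F -> G of etale sheaves of sets on a scheme X is a monomorphism (resp. an
epimorphism) if and only if for every geometric point ξ of X (a morphism from the spectrum of a
separably closed field) the map of stalks F_ξ -> G_ξ is injective (resp. surjective). -/
theorem result {X : Scheme.{u}} {F G : EtDesc.Sh X} (v : F ⟶ G) :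
    (Mono v ↔ ∀ (Ω : Type u) [Field Ω] [IsSepClosed Ω] (ξ : Spec (CommRingCat.of Ω) ⟶ X),
      Function.Injective (((Scheme.pointSmallEtale ξ).sheafFiber (A := Type (u + 1))).map v)) ∧
    (Epi v ↔ ∀ (Ω : Type u) [Field Ω] [IsSepClosed Ω] (ξ : Spec (CommRingCat.of Ω) ⟶ X),
      Function.Surjective (((Scheme.pointSmallEtale ξ).sheafFiber (A := Type (u + 1))).map v)) := by
  haveI : PreservesFilteredColimitsOfSize.{u, u} (forget (Type (u + 1))) :=
    preservesFilteredColimitsOfSize_shrink.{u, u + 1, u, u + 1} _
  haveI : AB5OfSize.{u, u} (Type (u + 1)) := AB5OfSize_of_univLE.{u, u, u + 1, u + 1} _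
  constructor
  · constructor
    · intro _ Ω _ _ ξ
      exact (mono_iff_injective _).1 (inferInstance : Mono ((Scheme.pointSmallEtale ξ).sheafFiber.map v))
    · intro h
      have : Sheaf.IsLocallyInjective v := Groth.Agent.LEtStalk.isLocallyInjective v.hom h
      exact Sheaf.mono_of_isLocallyInjective v
  · constructor
    · intro _ Ω _ _ ξ
      exact (epi_iff_surjective _).1 (inferInstance : Epi ((Scheme.pointSmallEtale ξ).sheafFiber.map v))
    · intro h
      have : Sheaf.IsLocallySurjective v := Groth.Agent.LEtStalk.isLocallySurjective v.hom h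
      infer_instance

end Groth.Agent.S5596
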