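import Groth.Statements.S5611
import Mathlib
import Groth.Prelude.Def_DRing2
import Groth.Prelude.Def_DDual2
import Groth.Agent.Lib.H5DTen
import Groth.Agent.Lib.H5Perf
import Groth.Agent.Lib.H5Amp
import Groth.Agent.Lib.H5WayOut
import Groth.Agent.Lib.CoherentRings
import Groth.Agent.Lib.UnivInjective
import Groth.Agent.Lib.PseudoCoherentRing
import Groth.Agent.Lib.H7StupidGE
import Groth.Agent.Lib.PseudoCoherentRingMore
import Groth.Agent.Lib.PseudoCoherentTorAmp

set_option autoImplicit false
universe u
open Groth.Agent.PseudoCoherentTorAmp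
open CategoryTheory Limits Pretriangulated HomologicalComplex Groth.Agent
open scoped ZeroObject
open Groth.Agent.PseudoCoherentRing Groth.Agent.PseudoCoherentRingMore
open CategoryTheory CategoryTheory.Limits
attribute [local instance] HasDerivedCategory.standard
open DRing

namespace Groth.Agent.S5611

/-- For the punctual topos ringed by a commutative ring A: let K ∈ D(A) and m ≤ n. Then K has perfect
amplitude in [m, n], that is K is isomorphic in D(A) to a complex of finite projective modules
vanishing outside [m, n], if and only if K is (m - 1)-pseudo-coherent and has tor amplitude in [m,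
n] (isomorphic to a complex of flat modules vanishing outside [m, n]). -/
theorem result {A : Type u} [CommRing A]
    (K : Dual.D A) (m n : ℤ) (hmn : m ≤ n) :
    (DRing.IsPseudoCoherent A (m - 1) K ∧ DRing.HasTorAmplitudeIn A m n K) ↔
      ∃ E : DRing.Cx A, DRing.VanishesOutside E m n ∧ DRing.TermwiseFiniteProjective E ∧
        Nonempty (DRing.toD E ≅ K) := by
  constructor
  · rintro ⟨hK, F, hF1, hF2, ⟨eF⟩⟩
    obtain ⟨E, a, b, α, hE1, hE2, hα⟩ := (isPseudo_iff (m - 1) K).1 hK
    have := (ff_proj hE1 hE2).kproj
    obtain ⟨f, hf⟩ := H5DTen.surj_of_kproj (K := E) (X := F) (α ≫ eF.inv)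
    have hfMI : MI (m - 1) (DerivedCategory.Q.map f) := hf ▸ MI.comp hα (mI_of_isIso _ _)
    let B := max b n
    have hflat := flat_opcycles_of_mI f (a := m) (b := B) hfMI
      (fun i => have := (hE2 i).2; inferInstance) hF2 (fun i hi => hE1 i (by omega)) (fun i hi => hF1 i (by omega))
    let P := E.truncGE m
    have : F.IsStrictlyGE m := (CochainComplex.isStrictlyGE_iff _ _).2 fun i hi => hF1 i (Or.inl hi)
    have : QuasiIso (CochainComplex.truncGEMap f m) := by
      rw [CochainComplex.quasiIso_truncGEMap_iff]
      intro i hi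
      rw [quasiIsoAt_iff_isIso_homologyMap]
      exact (NatIso.isIso_map_iff (DerivedCategory.homologyFunctorFactors _ i) _).1 (hfMI.1 i (by omega))
    have : IsIso (F.πTruncGE m) := (F.isIso_πTruncGE_iff m).2 inferInstance
    let eP : DRing.toD P ≅ K := asIso (DerivedCategory.Q.map (CochainComplex.truncGEMap f m)) ≪≫
      (asIso (DerivedCategory.Q.map (F.πTruncGE m))).symm ≪≫ eF
    have hPff : ∀ i, Module.Finite A (P.X i) ∧ Module.Projective A (P.X i) := fun i => by
      rcases lt_trichotomy i m with hi | rfl | hi
      · have : Subsingleton (P.X i) :=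
          ModuleCat.subsingleton_of_isZero (CochainComplex.isZero_of_isStrictlyGE (E.truncGE m) m i hi)
        exact ⟨inferInstance, inferInstance⟩
      · let S := E.sc' (i - 1) i (i + 1)
        let e : (E.truncGE i).X i ≃ₗ[A] S.opcycles := (E.truncGEXIsoOpcycles i ≪≫
          ShortComplex.opcyclesMapIso (E.isoSc' (i - 1) i (i + 1) (by simp) (by simp))).toLinearEquiv
        let e2 : S.opcycles ≃ₗ[A] (S.X₂ ⧸ LinearMap.range S.f.hom) := S.moduleCatOpcyclesIso.toLinearEquiv
        have : Module.Finite A S.X₂ := (hE2 i).1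
        have : Module.Free A S.X₂ := (hE2 i).2
        have : Module.Finite A S.X₁ := (hE2 (i - 1)).1
        have : Module.FinitePresentation A S.X₂ := Module.finitePresentation_of_projective A S.X₂
        have : Module.FinitePresentation A (S.X₂ ⧸ LinearMap.range S.f.hom) :=
          Module.finitePresentation_of_surjective (Submodule.mkQ _) (Submodule.mkQ_surjective _)
            (by rw [Submodule.ker_mkQ]; exact Module.Finite.iff_fg.1 inferInstance)
        have : Module.Flat A (S.X₂ ⧸ LinearMap.range S.f.hom) :=
          @Module.Flat.of_linearEquiv _ _ _ _ _ _ _ _ hflat e2.symm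
        have : Module.Projective A (S.X₂ ⧸ LinearMap.range S.f.hom) := Module.Flat.projective_of_finitePresentation
        exact ⟨Module.Finite.equiv (e.trans e2).symm, Module.Projective.of_equiv (e.trans e2).symm⟩
      · have := (hE2 i).1; have := (hE2 i).2
        let e : (E.truncGE m).X i ≃ₗ[A] E.X i := (E.truncGEXIso m i hi).toLinearEquiv
        exact ⟨Module.Finite.equiv e.symm, Module.Projective.of_equiv e.symm⟩
    have hPb : ∀ i, B < i → IsZero (P.X i) := fun i hi =>
      (hE1 i (by omega)).of_iso (E.truncGEXIso m i (by omega))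
    have hex : ∀ i, n < i → P.ExactAt i := fun i hi => exactAt_of_mI (mI_of_isIso n eP.hom) hi
      ((vanish_Q (b := n) (fun j hj => hF1 j (Or.inr hj)) hi i le_rfl).of_iso ((HF A i).mapIso eF).symm)
    have : P.IsLE n := (CochainComplex.isLE_iff _ _).2 hex
    refine ⟨P.truncLE n, fun i hi => ?_, fun i => ?_, ⟨asIso (DerivedCategory.Q.map (P.ιTruncLE n)) ≪≫ eP⟩⟩
    · rcases hi with hi | hi
      · exact (CochainComplex.isZero_of_isStrictlyGE (E.truncGE m) m i hi).of_iso (P.truncLEXIso n i (by omega))
      · exact CochainComplex.isZero_of_isStrictlyLE (P.truncLE n) n i hi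
    · rcases lt_trichotomy i n with hi | rfl | hi
      · let e : (P.truncLE n).X i ≃ₗ[A] P.X i := (P.truncLEXIso n i hi).toLinearEquiv
        have := (hPff i).1; have := (hPff i).2
        exact ⟨Module.Finite.equiv e.symm, Module.Projective.of_equiv e.symm⟩
      · let S := P.sc' (i - 1) i (i + 1)
        obtain ⟨_, _⟩ : Module.Finite A (LinearMap.ker S.g.hom) ∧ Module.Projective A (LinearMap.ker S.g.hom) :=
          cycles_finite_projective hPb hPff hex (B + 1 - i).toNat i (i + 1) rfl le_rfl (by omega)
        let e : (P.truncLE i).X i ≃ₗ[A] LinearMap.ker S.g.hom := (P.truncLEXIsoCycles i ≪≫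
          ShortComplex.cyclesMapIso (P.isoSc' (i - 1) i (i + 1) (by simp) (by simp)) ≪≫
          S.moduleCatCyclesIso).toLinearEquiv
        exact ⟨Module.Finite.equiv e.symm, Module.Projective.of_equiv e.symm⟩
      · have : Subsingleton ((P.truncLE n).X i) :=
          ModuleCat.subsingleton_of_isZero (CochainComplex.isZero_of_isStrictlyLE (P.truncLE n) n i hi)
        exact ⟨inferInstance, inferInstance⟩
  · rintro ⟨E, h1, h2, h3⟩
    exact ⟨isPseudo_of_isPerfect ⟨E, m, n, h1, h2, h3⟩ _, E, h1, fun i => have := (h2 i).2; inferInstance, h3⟩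

end Groth.Agent.S5611
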