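import Groth.Statements.S5616
import Mathlib
import Groth.Agent.Lib.H6.ExtEffaceable

set_option autoImplicit false
set_option backward.isDefEq.respectTransparency.types false
set_option maxHeartbeats 1000000
set_option linter.all false
universe w w' v v' u u'
open CategoryTheory CategoryTheory.Limits
open CohDer

namespace Groth.Agent.S5616
open Groth.Agent
open CategoryTheory CategoryTheory.Limits CategoryTheory.Abelian

/-- Let φ : A ⥤ B be an exact functor of abelian categories and M an object of A. The following are
equivalent: (i) for every L in A and every n, the map Ext^n_A(L, M) → Ext^n_B(φ L, φ M) induced by φ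
is bijective; (ii) for every L the map Hom_A(L, M) → Hom_B(φ L, φ M) is bijective, and for every L,
every n ≥ 1 and every x ∈ Ext^n_B(φ L, φ M) there is an epimorphism L' ⟶ L of A such that x
precomposed with its image under φ vanishes. -/
theorem result
    {A : Type u} [Category.{v} A] [Abelian A] [HasExt.{w} A]
    {B : Type u'} [Category.{v'} B] [Abelian B] [HasExt.{w'} B]
    (φ : A ⥤ B) [φ.Additive] [PreservesFiniteLimits φ] [PreservesFiniteColimits φ] (M : A) :
    (∀ (L : A) (n : ℕ), Function.Bijective (fun f : Abelian.Ext.{w} L M n => Abelian.Ext.mapExactFunctor φ f)) ↔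
      ((∀ L : A, Function.Bijective (fun f : L ⟶ M => φ.map f)) ∧
        ∀ (L : A) (n : ℕ), 1 ≤ n → ∀ x : Abelian.Ext.{w'} (φ.obj L) (φ.obj M) n,
          ∃ (L' : A) (p : L' ⟶ L), Epi p ∧ (Abelian.Ext.mk₀ (φ.map p)).comp x (zero_add n) = 0) := by
    have ses : ∀ {X Y : A} (e : X ⟶ Y) [Epi e],
        (ShortComplex.mk (kernel.ι e) e (kernel.condition e)).ShortExact := fun e _ =>
      { exact := ShortComplex.exact_of_f_is_kernel _ (kernelIsKernel e) }
    constructor
    · intro h
      refine ⟨fun L => ⟨fun f g hfg => ?_, fun g => ?_⟩, fun L n hn x => ?_⟩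
      · apply (Ext.mk₀_bijective L M).1
        apply (h L 0).1
        simp only [Ext.mapExactFunctor_mk₀]
        exact congrArg Ext.mk₀ hfg
      · obtain ⟨x, hx⟩ := (h L 0).2 (Ext.mk₀ g)
        obtain ⟨f, rfl⟩ := (Ext.mk₀_bijective L M).2 x
        refine ⟨f, (Ext.mk₀_bijective _ _).1 ?_⟩
        rw [← Ext.mapExactFunctor_mk₀]
        exact hx
      · obtain ⟨f, rfl⟩ := (h L n).2 x
        obtain ⟨L', p, hp, hf⟩ := H6Eff.exists_epi hn f
        refine ⟨L', p, hp, ?_⟩
        show (Ext.mk₀ (φ.map p)).comp (Abelian.Ext.mapExactFunctor φ f) (zero_add n) = 0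
        rw [← Ext.mapExactFunctor_mk₀, ← Ext.mapExactFunctor_comp, hf]
        simp
    · rintro ⟨h0, heff⟩ L n
      induction n generalizing L with
      | zero =>
        rw [Ext.mapExactFunctor₀]
        exact (Ext.homEquiv₀.symm.bijective.comp (h0 L)).comp Ext.homEquiv₀.bijective
      | succ n ih =>
        refine ⟨?_, fun y => ?_⟩
        · intro x₁ x₂ h12
          rw [← sub_eq_zero]
          have hx : Abelian.Ext.mapExactFunctor φ (x₁ - x₂) = 0 := by
            show φ.mapExtAddHom L M (n + 1) (x₁ - x₂) = 0
            rw [map_sub, sub_eq_zero]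
            exact h12
          generalize x₁ - x₂ = x at hx
          obtain ⟨L', p, hp, hp0⟩ := H6Eff.exists_epi (Nat.succ_pos n) x
          obtain ⟨z, rfl⟩ := Ext.contravariant_sequence_exact₃ (ses p) M x hp0 (n₀ := n) (by omega)
          rw [Ext.mapExactFunctor_comp, Ext.mapExactFunctor_extClass] at hx
          obtain ⟨w, hw⟩ := Ext.contravariant_sequence_exact₁ ((ses p).map_of_exact φ) _ _ (by omega) hx
          obtain ⟨w', hw'⟩ := (ih L').2 w
          have hz : z = (Ext.mk₀ (kernel.ι p)).comp w' (zero_add n) := by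
            apply (ih _).1
            show Abelian.Ext.mapExactFunctor φ z = _
            beta_reduce
            rw [Ext.mapExactFunctor_comp, Ext.mapExactFunctor_mk₀, ← hw, ← hw']
            rfl
          rw [hz]
          exact (ses p).extClass_comp_assoc w'
        · obtain ⟨L', p, hp, hp0⟩ := heff L (n + 1) (Nat.succ_pos n) y
          obtain ⟨z, hz⟩ := Ext.contravariant_sequence_exact₃ ((ses p).map_of_exact φ) _ y hp0 (n₀ := n) (by omega)
          obtain ⟨z', hz'⟩ := (ih _).2 z
          refine ⟨(ses p).extClass.comp z' (by omega), ?_⟩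
          show Abelian.Ext.mapExactFunctor φ _ = y
          rw [Ext.mapExactFunctor_comp, Ext.mapExactFunctor_extClass, ← hz, ← hz']
          rfl

end Groth.Agent.S5616
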