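import Groth.Statements.S5658
import Groth.Agent.Lib.H1SLComm
import Mathlib

set_option autoImplicit false
universe u
open CAlg

namespace Groth.Agent.S5658

section aux
open scoped commutatorElement

variable {B : Type u} [CommRing B] (q : Ideal B) [q.IsPrime] {n : ℕ}


/-- `B_f → B_q` -/
noncomputable def iota (f : q.primeCompl) : Localization.Away (f : B) →+* Localization.AtPrime q :=
  IsLocalization.Away.lift (f : B) (IsLocalization.map_units (Localization.AtPrime q) f)

theorem iota_comp (f : q.primeCompl) :
    (iota q f).comp (algebraMap B (Localization.Away (f : B))) = algebraMap B (Localization.AtPrime q) :=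
  IsLocalization.Away.lift_comp _ _

/-- `B_f → B_g` for `f ∣ g`. -/
noncomputable def trans (f g : q.primeCompl) (h : (f : B) ∣ g) : Localization.Away (f : B) →+* Localization.Away (g : B) :=
  IsLocalization.Away.lift (f : B) (g := algebraMap B (Localization.Away (g : B)))
    (isUnit_of_dvd_unit (map_dvd _ h) (IsLocalization.Away.algebraMap_isUnit (g : B)))

theorem trans_comp (f g : q.primeCompl) (h : (f : B) ∣ g) :
    (trans q f g h).comp (algebraMap B (Localization.Away (f : B))) = algebraMap B (Localization.Away (g : B)) :=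
  IsLocalization.Away.lift_comp _ _

theorem iota_trans (f g : q.primeCompl) (h : (f : B) ∣ g) : (iota q g).comp (trans q f g h) = iota q f := by
  refine IsLocalization.ringHom_ext (Submonoid.powers (f : B)) ?_
  rw [RingHom.comp_assoc, trans_comp, iota_comp, iota_comp]

theorem map_map' {R S T : Type u} [CommRing R] [CommRing S] [CommRing T] (a : R →+* S) (b : S →+* T)
    (M : Matrix.GeneralLinearGroup (Fin n) R) :
    Matrix.GeneralLinearGroup.map b (Matrix.GeneralLinearGroup.map a M) = Matrix.GeneralLinearGroup.map (b.comp a) M :=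
  Units.ext (by ext i j; rfl)

theorem exists_lift (G : Matrix.GeneralLinearGroup (Fin n) (Localization.AtPrime q)) :
    ∃ (f : q.primeCompl) (G' : Matrix.GeneralLinearGroup (Fin n) (Localization.Away (f : B))),
      Matrix.GeneralLinearGroup.map (iota q f) G' = G := by
  classical
  obtain ⟨t, ht⟩ := IsLocalization.exist_integer_multiples_of_finite q.primeCompl
    (fun ij : Fin n × Fin n => G.val ij.1 ij.2)
  choose x hx using ht
  let X : Matrix (Fin n) (Fin n) B := fun i j => x (i, j)
  have hX : (algebraMap B (Localization.AtPrime q)).mapMatrix X = algebraMap B (Localization.AtPrime q) t • G.val := by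
    ext i j
    rw [RingHom.mapMatrix_apply, Matrix.map_apply, Matrix.smul_apply, smul_eq_mul]
    refine (hx (i, j)).trans ?_
    rw [Algebra.smul_def]
  have hd : X.det ∈ q.primeCompl := by
    have h1 : IsUnit (algebraMap B (Localization.AtPrime q) X.det) := by
      rw [RingHom.map_det, hX, Matrix.det_smul]
      exact IsUnit.mul ((IsLocalization.map_units _ t).pow _) ((Matrix.isUnit_iff_isUnit_det _).mp G.isUnit)
    exact (IsLocalization.AtPrime.isUnit_to_map_iff (Localization.AtPrime q) q X.det).mp h1
  let f : q.primeCompl := t * ⟨X.det, hd⟩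
  let j := algebraMap B (Localization.Away (f : B))
  have hu : IsUnit (j t) := isUnit_of_dvd_unit (map_dvd j ⟨X.det, rfl⟩) (IsLocalization.Away.algebraMap_isUnit (f : B))
  have hu' : IsUnit (j X.det) := isUnit_of_dvd_unit (map_dvd j ⟨(t : B), mul_comm _ _⟩) (IsLocalization.Away.algebraMap_isUnit (f : B))
  let M : Matrix (Fin n) (Fin n) (Localization.Away (f : B)) := ((hu.unit⁻¹ : (Localization.Away (f : B))ˣ) : Localization.Away (f : B)) • j.mapMatrix X
  have hM : IsUnit M := by
    rw [Matrix.isUnit_iff_isUnit_det, Matrix.det_smul, ← RingHom.map_det]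
    exact IsUnit.mul ((Units.isUnit _).pow _) hu'
  refine ⟨f, hM.unit, Units.ext ?_⟩
  ext a b
  show iota q f (((hu.unit⁻¹ : (Localization.Away (f : B))ˣ) : Localization.Away (f : B)) * j (X a b)) = G.val a b
  have h2 : iota q f (j (t : B)) * iota q f ((hu.unit⁻¹ : (Localization.Away (f : B))ˣ) : Localization.Away (f : B)) = 1 := by
    rw [← map_mul, IsUnit.mul_val_inv, map_one]
  have h3 : iota q f (j (X a b)) = iota q f (j (t : B)) * G.val a b := by
    have := congrFun (congrFun hX a) b
    rw [RingHom.mapMatrix_apply, Matrix.map_apply, Matrix.smul_apply, smul_eq_mul] at this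
    show ((iota q f).comp j) (X a b) = ((iota q f).comp j) t * _
    rw [iota_comp]
    exact this
  rw [map_mul, h3]
  linear_combination (G.val a b) * h2

/-- elements of the commutator subgroup over `B_q` come from a neighbourhood. -/
theorem exists_lift_commutator {G : Matrix.GeneralLinearGroup (Fin n) (Localization.AtPrime q)}
    (hG : G ∈ commutator (Matrix.GeneralLinearGroup (Fin n) (Localization.AtPrime q))) :
    ∃ (f : q.primeCompl) (G' : Matrix.GeneralLinearGroup (Fin n) (Localization.Away (f : B))),
      G' ∈ commutator (Matrix.GeneralLinearGroup (Fin n) (Localization.Away (f : B))) ∧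
      Matrix.GeneralLinearGroup.map (iota q f) G' = G := by
  have hcomm : ∀ {R S : Type u} [CommRing R] [CommRing S] (a : R →+* S) (M : Matrix.GeneralLinearGroup (Fin n) R),
      M ∈ commutator (Matrix.GeneralLinearGroup (Fin n) R) →
      Matrix.GeneralLinearGroup.map a M ∈ commutator (Matrix.GeneralLinearGroup (Fin n) S) := fun a M hM => by
    have h := Subgroup.mem_map_of_mem (Matrix.GeneralLinearGroup.map a) hM
    rw [commutator_def, Subgroup.map_commutator] at h
    rw [commutator_def]
    exact Subgroup.commutator_mono le_top le_top h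
  rw [commutator_eq_closure] at hG
  induction hG using Subgroup.closure_induction with
  | mem x hx =>
    obtain ⟨a, b, rfl⟩ := hx
    obtain ⟨f, a', rfl⟩ := exists_lift q a
    obtain ⟨g, b', rfl⟩ := exists_lift q b
    refine ⟨f * g, ⁅Matrix.GeneralLinearGroup.map (trans q f (f * g) ⟨g, rfl⟩) a',
      Matrix.GeneralLinearGroup.map (trans q g (f * g) ⟨f, mul_comm _ _⟩) b'⁆, ?_, ?_⟩
    · rw [commutator_def]; exact Subgroup.commutator_mem_commutator (Subgroup.mem_top _) (Subgroup.mem_top _)
    · rw [map_commutatorElement, map_map', map_map', iota_trans, iota_trans]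
  | one => exact ⟨1, 1, one_mem _, map_one _⟩
  | mul x y _ _ hx hy =>
    obtain ⟨f, a', ha, rfl⟩ := hx
    obtain ⟨g, b', hb, rfl⟩ := hy
    refine ⟨f * g, Matrix.GeneralLinearGroup.map (trans q f (f * g) ⟨g, rfl⟩) a' *
      Matrix.GeneralLinearGroup.map (trans q g (f * g) ⟨f, mul_comm _ _⟩) b', mul_mem (hcomm _ _ ha) (hcomm _ _ hb), ?_⟩
    rw [map_mul, map_map', map_map', iota_trans, iota_trans]
  | inv x _ hx =>
    obtain ⟨f, a', ha, rfl⟩ := hx
    exact ⟨f, a'⁻¹, inv_mem ha, map_inv _ _⟩

theorem exists_away_mem_commutator (M : Matrix.GeneralLinearGroup (Fin n) B)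
    (hM : Matrix.GeneralLinearGroup.map (algebraMap B (Localization.AtPrime q)) M ∈
      commutator (Matrix.GeneralLinearGroup (Fin n) (Localization.AtPrime q))) :
    ∃ f : q.primeCompl, Matrix.GeneralLinearGroup.map (algebraMap B (Localization.Away (f : B))) M ∈
      commutator (Matrix.GeneralLinearGroup (Fin n) (Localization.Away (f : B))) := by
  classical
  obtain ⟨f, G, hG, hGM⟩ := exists_lift_commutator q hM
  have key : ∀ z : Localization.Away (f : B), iota q f z = 0 →
      ∃ c : q.primeCompl, ∀ (g : q.primeCompl) (h : (f : B) ∣ g), (c : B) ∣ g → trans q f g h z = 0 := by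
    intro z hz
    obtain ⟨⟨b, t⟩, hb⟩ := IsLocalization.surj (Submonoid.powers (f : B)) z
    have hb0 : algebraMap B (Localization.AtPrime q) b = 0 := by
      rw [← iota_comp q f, RingHom.comp_apply, ← hb, map_mul, hz, zero_mul]
    obtain ⟨c, hc⟩ := (IsLocalization.map_eq_zero_iff q.primeCompl (Localization.AtPrime q) b).mp hb0
    refine ⟨c, fun g h hcg => ?_⟩
    have h1 : algebraMap B (Localization.Away (g : B)) b = 0 := by
      have hu := isUnit_of_dvd_unit (map_dvd (algebraMap B (Localization.Away (g : B))) hcg) (IsLocalization.Away.algebraMap_isUnit (g : B))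
      exact hu.mul_right_eq_zero.mp (by rw [← map_mul, hc, map_zero])
    have h2 := congrArg (trans q f g h) hb
    rw [map_mul, ← RingHom.comp_apply (trans q f g h), ← RingHom.comp_apply (trans q f g h), trans_comp, h1] at h2
    obtain ⟨i, hi⟩ := t.2
    have hu : IsUnit (algebraMap B (Localization.Away (g : B)) t) := by
      rw [← hi, map_pow]
      exact (isUnit_of_dvd_unit (map_dvd _ h) (IsLocalization.Away.algebraMap_isUnit (g : B))).pow i
    exact hu.mul_left_eq_zero.mp h2
  let D := fun ij : Fin n × Fin n => G.val ij.1 ij.2 - algebraMap B (Localization.Away (f : B)) (M.val ij.1 ij.2)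
  have hD : ∀ ij, iota q f (D ij) = 0 := fun ij => by
    rw [map_sub, sub_eq_zero, ← RingHom.comp_apply (iota q f), iota_comp]
    exact congrFun (congrFun (congrArg (fun G : Matrix.GeneralLinearGroup (Fin n) (Localization.AtPrime q) => (G : Matrix (Fin n) (Fin n) (Localization.AtPrime q))) hGM) ij.1) ij.2
  choose c hc using fun ij => key (D ij) (hD ij)
  let g : q.primeCompl := f * ∏ ij, c ij
  have hfg : (f : B) ∣ g := ⟨_, rfl⟩
  refine ⟨g, ?_⟩
  have : Matrix.GeneralLinearGroup.map (algebraMap B (Localization.Away (g : B))) M =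
      Matrix.GeneralLinearGroup.map (trans q f g hfg) G := by
    refine Units.ext ?_
    ext a b
    show algebraMap B (Localization.Away (g : B)) (M.val a b) = trans q f g hfg (G.val a b)
    have h1 := hc (a, b) g hfg (by
      show (c (a, b) : B) ∣ _
      refine Dvd.dvd.mul_left ?_ _
      rw [Submonoid.coe_finsetProd]
      exact Finset.dvd_prod_of_mem (fun ij => (c ij : B)) (Finset.mem_univ (a, b)))
    rw [map_sub, sub_eq_zero, ← RingHom.comp_apply (trans q f g hfg), trans_comp] at h1
    exact h1.symm
  rw [this]
  have h := Subgroup.mem_map_of_mem (Matrix.GeneralLinearGroup.map (trans q f g hfg)) hG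
  rw [commutator_def, Subgroup.map_commutator] at h
  rw [commutator_def]
  exact Subgroup.commutator_mono le_top le_top h

open Polynomial in
theorem exists_simple_root (k : Type u) [Field k] [IsAlgClosed k] :
    ∃ r : k, r ^ 3 - r - 1 = 0 ∧ 3 * r ^ 2 - 1 ≠ 0 := by
  obtain ⟨r, hr⟩ := IsAlgClosed.exists_root (X ^ 3 - X - 1 : k[X]) (by
    have : (X ^ 3 - X - 1 : k[X]).natDegree = 3 := by compute_degree!
    intro h
    have h' := natDegree_eq_of_degree_eq_some (n := 0) h
    omega)
  simp only [IsRoot, eval_sub, eval_pow, eval_X, eval_one] at hr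
  by_cases h : 3 * r ^ 2 - 1 = 0
  · have h23 : 2 * r + 3 = 0 := by linear_combination -3 * hr + r * h
    have h3 : (3 : k) ≠ 0 := fun h3 => by
      rw [h3, zero_mul, zero_sub, neg_eq_zero] at h
      exact one_ne_zero h
    exact ⟨-2 * r, by linear_combination -8 * hr - 3 * h23, by
      intro h'; exact h3 (by linear_combination h' - 4 * h)⟩
  · exact ⟨r, hr, h⟩

end aux


/-- On the big étale site of a scheme the sheaf of commutator subgroups of Gl(n) is Sl(n) = Ker(det).
Concretely: let A be a commutative ring, n ≥ 0, s ∈ SL_n(A) and p a prime ideal of A. Then there are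
an étale A-algebra A' with a prime ideal lying over p such that the image of s in GL_n(A') lies in
the commutator subgroup of GL_n(A'). (The inclusion of commutators in SL_n being clear, this is the
content of the statement.) -/
theorem result (A : Type u) [CommRing A] (n : ℕ)
    (s : Matrix.SpecialLinearGroup (Fin n) A) (p : PrimeSpectrum A) :
    ∃ (A' : Type u) (_ : CommRing A') (_ : Algebra A A'), Algebra.Etale A A' ∧
      (∃ q : PrimeSpectrum A', q.asIdeal.comap (algebraMap A A') = p.asIdeal) ∧
      (Matrix.GeneralLinearGroup.map (algebraMap A A')) (Matrix.SpecialLinearGroup.toGL s) ∈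
        commutator (Matrix.GeneralLinearGroup (Fin n) A') := by
  classical
  let κ := AlgebraicClosure p.asIdeal.ResidueField
  obtain ⟨r, hr, hr'⟩ := exists_simple_root κ
  let P : StandardEtalePair A :=
    ⟨Polynomial.X ^ 3 - Polynomial.X - 1, by monicity!, Polynomial.derivative (Polynomial.X ^ 3 - Polynomial.X - 1),
      1, 0, 1, by simp⟩
  have hmap : P.HasMap r := by
    refine ⟨by simp [P, hr], ?_⟩
    refine isUnit_iff_ne_zero.mpr ?_
    show Polynomial.aeval r (Polynomial.derivative (Polynomial.X ^ 3 - Polynomial.X - 1 : Polynomial A)) ≠ 0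
    simpa [Polynomial.derivative_sub, Polynomial.derivative_X_pow, map_mul, map_ofNat, two_add_one_eq_three] using hr'
  let ψ := P.lift r hmap
  let q : Ideal P.Ring := RingHom.ker ψ
  haveI : q.IsPrime := RingHom.ker_isPrime ψ
  have hq : q.comap (algebraMap A P.Ring) = p.asIdeal := by
    ext a
    rw [Ideal.mem_comap, RingHom.mem_ker, ψ.commutes,
      IsScalarTower.algebraMap_apply A p.asIdeal.ResidueField κ, map_eq_zero_iff _ (RingHom.injective _),
      Ideal.algebraMap_residueField_eq_zero]
  -- the unit
  have hX : P.X * (P.X ^ 2 - 1) = 1 := by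
    have := P.hasMap_X.1
    simp only [P, map_sub, map_pow, Polynomial.aeval_X, map_one] at this
    linear_combination this
  let j := algebraMap P.Ring (Localization.AtPrime q)
  let uu : (Localization.AtPrime q)ˣ := ((IsUnit.of_mul_eq_one _ hX).map j).unit
  have hu : IsUnit ((uu : Localization.AtPrime q) - 1) := by
    have : IsUnit (j (P.X - 1)) := by
      refine IsUnit.map j (IsUnit.of_mul_eq_one (P.X * (P.X + 1)) ?_)
      linear_combination hX
    rwa [map_sub, map_one] at this
  let M : Matrix.GeneralLinearGroup (Fin n) P.Ring :=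
    Matrix.GeneralLinearGroup.map (algebraMap A P.Ring) (Matrix.SpecialLinearGroup.toGL s)
  have hdet : (Matrix.GeneralLinearGroup.map j M).val.det = 1 := by
    show (j.mapMatrix ((algebraMap A P.Ring).mapMatrix s.1)).det = 1
    rw [← RingHom.map_det, ← RingHom.map_det, s.2, map_one, map_one]
  obtain ⟨f, hf⟩ := exists_away_mem_commutator q M
    (Groth.Agent.H1SLComm.mem_of_det_eq_one hu n _ hdet fun a b _ h => absurd h (by omega))
  refine ⟨Localization.Away (f : P.Ring), inferInstance, inferInstance, ?_, ?_, ?_⟩
  · haveI : Algebra.Etale P.Ring (Localization.Away (f : P.Ring)) := Algebra.Etale.of_isLocalizationAway (f : P.Ring)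
    exact Algebra.Etale.comp A P.Ring (Localization.Away (f : P.Ring))
  · have hdisj : Disjoint (Submonoid.powers (f : P.Ring) : Set P.Ring) (q : Set P.Ring) :=
      Set.disjoint_left.mpr fun z ⟨m, hm⟩ hzq => f.2 ((inferInstance : q.IsPrime).mem_of_pow_mem m (show (f : P.Ring) ^ m ∈ q from Eq.mpr (congrArg (· ∈ q) hm) hzq))
    refine ⟨⟨q.map (algebraMap P.Ring (Localization.Away (f : P.Ring))),
      IsLocalization.isPrime_of_isPrime_disjoint (Submonoid.powers (f : P.Ring)) _ q inferInstance hdisj⟩, ?_⟩
    rw [← hq, IsScalarTower.algebraMap_eq A P.Ring (Localization.Away (f : P.Ring)), ← Ideal.comap_comap]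
    congr 1
    exact IsLocalization.comap_map_of_isPrime_disjoint (Submonoid.powers (f : P.Ring)) _ inferInstance hdisj
  · rw [map_map', ← IsScalarTower.algebraMap_eq] at hf
    exact hf

end Groth.Agent.S5658
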