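import Groth.Statements.S5663
import Mathlib

set_option autoImplicit false
set_option backward.isDefEq.respectTransparency.types false
set_option maxHeartbeats 1000000
set_option linter.all false
universe u
open TensorProduct
open CAlg

namespace Groth.Agent.S5663
open Groth.Agent

/-- Let A be a Noetherian ring and B a finite A-algebra with A → B injective (a finite schematically
dominant morphism Spec B → Spec A). Define subalgebras B_0 = B and B_{i+1} = the equalizer of the
two maps B_i ⇉ B_i ⊗_A B_i, b ↦ b ⊗ 1, 1 ⊗ b. Then B_m = A (the image of A) for some m; equivalently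
Spec B → Spec A factors as a finite chain of finite morphisms Spec B_i → Spec B_{i+1} each of which
is an effective epimorphism (B_{i+1} is the equalizer of B_i ⇉ B_i ⊗_{B_{i+1}} B_i). The sequence is
given here as any family C of subalgebras satisfying the recursion. (The published statement is for
a finite morphism X → Y of schemes with Y Noetherian and O_Y → f_*O_X injective; this row is the
affine case.) -/
theorem result (A B : Type u) [CommRing A] [CommRing B] [Algebra A B]
    [IsNoetherianRing A] [Module.Finite A B] (hinj : Function.Injective (algebraMap A B))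
    (C : ℕ → Subalgebra A B) (h0 : C 0 = ⊤)
    (hstep : ∀ (i : ℕ) (b : B), b ∈ C (i + 1) ↔ ∃ hb : b ∈ C i,
      ((⟨b, hb⟩ : C i) ⊗ₜ[A] (1 : C i) : C i ⊗[A] C i) = (1 : C i) ⊗ₜ[A] (⟨b, hb⟩ : C i)) :
    ∃ m : ℕ, C m = ⊥ := by
    classical
    have hle : ∀ i, C (i + 1) ≤ C i := fun i b hb => ((hstep i b).1 hb).1
    let K : Submodule A B := Subalgebra.toSubmodule (⊥ : Subalgebra A B)
    let N : ℕ → Submodule A (B ⧸ K) := fun i => (Subalgebra.toSubmodule (C i)).map K.mkQ
    have hNanti : Antitone N := antitone_nat_of_succ_le fun i => Submodule.map_mono (hle i)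
    have hN0 : ∀ i, N i = ⊥ → C i = ⊥ := fun i h => le_bot_iff.1 fun b hb => by
      have : K.mkQ b ∈ N i := Submodule.mem_map_of_mem hb
      rw [h, Submodule.mem_bot] at this
      exact (Submodule.Quotient.mk_eq_zero K).1 this
    obtain ⟨i₀, hi₀⟩ := monotone_stabilizes_iff_noetherian.2 (inferInstance : IsNoetherian A A)
      ⟨fun i => (N i).annihilator, fun i j h => Submodule.annihilator_mono (hNanti h)⟩
    simp only [OrderHom.coe_mk] at hi₀
    by_cases htop : (N i₀).annihilator = ⊤
    · exact ⟨i₀, hN0 _ (Submodule.annihilator_eq_top_iff.1 htop)⟩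
    obtain ⟨p₀, hp₀, hp₀'⟩ := Ideal.exists_le_maximal _ htop
    haveI := hp₀.isPrime
    obtain ⟨p, hpmin, -⟩ := Ideal.exists_minimalPrimes_le hp₀'
    haveI : p.IsPrime := hpmin.1.1
    let R' := Localization.AtPrime p
    let W : Submodule R' (LocalizedModule p.primeCompl (B ⧸ K)) := (N i₀).localized p.primeCompl
    let J : Ideal R' := (N i₀).annihilator.map (algebraMap A R')
    haveI : IsNoetherianRing R' := IsLocalization.isNoetherianRing p.primeCompl R' inferInstance
    haveI : Module.Finite A (B ⧸ K) := inferInstance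
    haveI : IsNoetherian A (B ⧸ K) := isNoetherian_of_isNoetherianRing_of_finite A _
    haveI : Module.Finite R' (LocalizedModule p.primeCompl (B ⧸ K)) :=
      Module.Finite.of_isLocalizedModule p.primeCompl (LocalizedModule.mkLinearMap p.primeCompl (B ⧸ K))
    haveI : IsNoetherian R' (LocalizedModule p.primeCompl (B ⧸ K)) := isNoetherian_of_isNoetherianRing_of_finite R' _
    have hJW : Module.IsTorsionBySet R' W (J : Set R') := by
      rintro ⟨w, hw⟩ ⟨j, hj⟩
      obtain ⟨m, hm, s, rfl⟩ := hw
      have hJ : J ≤ LinearMap.ker (LinearMap.toSpanSingleton R' (LocalizedModule p.primeCompl (B ⧸ K))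
          (IsLocalizedModule.mk' (LocalizedModule.mkLinearMap p.primeCompl (B ⧸ K)) m s)) := by
        refine Ideal.map_le_iff_le_comap.2 fun a ha => ?_
        rw [Ideal.mem_comap, LinearMap.mem_ker, LinearMap.toSpanSingleton_apply, algebraMap_smul,
          ← IsLocalizedModule.mk'_smul, Submodule.mem_annihilator.1 ha m hm, IsLocalizedModule.mk'_zero]
      exact Subtype.ext (hJ hj)
    haveI : IsArtinian R' W := by
      letI : Module (R' ⧸ J) W := Module.IsTorsionBySet.module (R := R') (M := W) hJW
      haveI : IsScalarTower R' (R' ⧸ J) W := hJW.isScalarTower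
      haveI : Ring.KrullDimLE 0 (R' ⧸ J) := Ring.krullDimLE_zero_iff.2 fun P hP => by
        haveI : (P.comap (Ideal.Quotient.mk J)).IsPrime := Ideal.comap_isPrime _ _
        set Q := P.comap (Ideal.Quotient.mk J)
        have hJQ : J ≤ Q := fun x hx => by
          show Ideal.Quotient.mk J x ∈ P
          rw [Ideal.Quotient.eq_zero_iff_mem.2 hx]
          exact zero_mem _
        have hQ' : Q.comap (algebraMap A R') ≤ p := by
          intro a ha
          by_contra hap
          exact (inferInstance : Q.IsPrime).ne_top (Ideal.eq_top_of_isUnit_mem _ ha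
            (IsLocalization.map_units R' (⟨a, hap⟩ : p.primeCompl)))
        have heq : Q.comap (algebraMap A R') = p := le_antisymm hQ'
          (hpmin.2 ⟨Ideal.comap_isPrime _ _, Ideal.map_le_iff_le_comap.1 hJQ⟩ hQ')
        have hQmax : Q.IsMaximal := by
          rw [← IsLocalization.map_comap p.primeCompl R' Q, Ideal.under_def, heq, Localization.AtPrime.map_eq_maximalIdeal]
          exact IsLocalRing.maximalIdeal.isMaximal _
        rw [← Ideal.map_comap_of_surjective _ Ideal.Quotient.mk_surjective P]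
        refine (Ideal.map_eq_top_or_isMaximal_of_surjective (Ideal.Quotient.mk J) Ideal.Quotient.mk_surjective hQmax).resolve_left ?_
        rw [Ideal.map_comap_of_surjective _ Ideal.Quotient.mk_surjective]
        exact hP.ne_top
      haveI : IsArtinianRing (R' ⧸ J) := isArtinianRing_iff_krullDimLE_zero.2 inferInstance
      haveI : Module.Finite (R' ⧸ J) W := Module.Finite.of_restrictScalars_finite R' _ _
      exact isArtinian_of_surjective_algebraMap (R := R' ⧸ J) Ideal.Quotient.mk_surjective
    obtain ⟨n, hn⟩ := IsArtinian.monotone_stabilizes (R := R') (M := W)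
      ⟨fun i => OrderDual.toDual (((N (i₀ + i)).localized p.primeCompl).comap W.subtype), fun a b hab =>
        Submodule.comap_mono (((Submodule.localized'gi R' p.primeCompl (LocalizedModule.mkLinearMap p.primeCompl (B ⧸ K))).gc.monotone_l
          (hNanti (Nat.add_le_add_left hab i₀))))⟩
    have hn' := hn (n + 1) n.le_succ
    simp only [OrderHom.coe_mk, EmbeddingLike.apply_eq_iff_eq] at hn'
    have hstab : ∀ b ∈ N (i₀ + n), ∃ s ∈ p.primeCompl, s • b ∈ N (i₀ + (n + 1)) := by
      intro b hb
      have hbW : LocalizedModule.mkLinearMap p.primeCompl (B ⧸ K) b ∈ W :=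
        ⟨b, hNanti (Nat.le_add_right _ _) hb, 1, IsLocalizedModule.mk'_one _ _ _⟩
      have h1 : (⟨_, hbW⟩ : W) ∈ ((N (i₀ + n)).localized p.primeCompl).comap W.subtype :=
        ⟨b, hb, 1, IsLocalizedModule.mk'_one _ _ _⟩
      rw [hn'] at h1
      obtain ⟨m, hm, s, hs⟩ := h1
      have hs' : LocalizedModule.mkLinearMap p.primeCompl (B ⧸ K) m =
          LocalizedModule.mkLinearMap p.primeCompl (B ⧸ K) ((s : A) • b) := by
        rw [map_smul]
        exact (IsLocalizedModule.mk'_eq_iff.1 hs)
      obtain ⟨c, hc⟩ := IsLocalizedModule.exists_of_eq (S := p.primeCompl) hs'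
      refine ⟨(c : A) * s, (c * s).2, ?_⟩
      rw [mul_smul, show (c : A) • (s : A) • b = c • (s : A) • b from rfl, ← hc]
      exact Submodule.smul_of_tower_mem _ c hm
    obtain ⟨i, hi, hstab'⟩ : ∃ i, i₀ ≤ i ∧ ∀ b ∈ N i, ∃ s ∈ p.primeCompl, s • b ∈ N (i + 1) :=
      ⟨i₀ + n, Nat.le_add_right _ _, hstab⟩
    clear hn hn' hstab
    exfalso
    let k := p.ResidueField
    haveI : Module.Finite A (N i) := Module.Finite.iff_fg.2 (IsNoetherian.noetherian _)
    have hsupp : (⟨p, inferInstance⟩ : PrimeSpectrum A) ∈ Module.support A (N i) := by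
      rw [Module.mem_support_iff_of_finite]
      show (N i).annihilator ≤ p
      rw [← hi₀ i hi]
      exact hpmin.1.2
    have hnt : Nontrivial (k ⊗[A] N i) := (Module.mem_support_iff_nontrivial_residueField_tensorProduct _).1 hsupp
    have hz : ∀ x : N i, (1 : k) ⊗ₜ[A] x = 0 := by
      rintro ⟨x, hx⟩
      obtain ⟨b, hb, rfl⟩ := hx
      obtain ⟨s, hs, hsb⟩ := hstab' _ (Submodule.mem_map_of_mem hb)
      obtain ⟨c, hc, hc'⟩ := hsb
      have hsb' : s • b ∈ C (i + 1) := by
        have hK : c - s • b ∈ (⊥ : Subalgebra A B) := (Submodule.Quotient.eq K).1 hc'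
        have h2 : c - (c - s • b) ∈ C (i + 1) := Subalgebra.sub_mem _ hc (bot_le (a := C (i + 1)) hK)
        rwa [sub_sub_cancel] at h2
      obtain ⟨hu, hsym⟩ := (hstep i _).1 hsb'
      let π : ↥(C i) →ₗ[A] N i := (K.mkQ.comp (C i).val.toLinearMap).codRestrict (N i)
        fun y => Submodule.mem_map_of_mem y.2
      have hπ1 : π 1 = 0 := Subtype.ext ((Submodule.Quotient.mk_eq_zero K).2 (one_mem (⊥ : Subalgebra A B)))
      have hkey : (1 : k) ⊗ₜ[A] π ⟨s • b, hu⟩ = 0 := by
        by_cases h1 : (1 : k) ⊗ₜ[A] (1 : C i) = 0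
        · have : (1 : k) ⊗ₜ[A] (⟨s • b, hu⟩ : C i) = 0 := by
            calc (1 : k) ⊗ₜ[A] (⟨s • b, hu⟩ : C i) = ((1 : k) ⊗ₜ[A] (1 : C i)) * ((1 : k) ⊗ₜ[A] (⟨s • b, hu⟩ : C i)) := by
                  rw [Algebra.TensorProduct.tmul_mul_tmul, one_mul, one_mul]
              _ = 0 := by rw [h1, zero_mul]
          simpa using congrArg (π.baseChange k) this
        · obtain ⟨φ, hφ⟩ := (LinearMap.toSpanSingleton k (k ⊗[A] C i) ((1 : k) ⊗ₜ[A] (1 : C i))).exists_leftInverse_of_injective
            (LinearMap.ker_toSpanSingleton k h1)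
          have hφ1 : φ ((1 : k) ⊗ₜ[A] (1 : C i)) = 1 := by simpa using LinearMap.congr_fun hφ 1
          let ψ : ↥(C i) →ₗ[A] k := (φ.restrictScalars A).comp (TensorProduct.mk A k (C i) 1)
          let Φ : (↥(C i) ⊗[A] ↥(C i)) →ₗ[A] k ⊗[A] N i := TensorProduct.lift
            (LinearMap.mk₂ A (fun u v => ψ u • ((1 : k) ⊗ₜ[A] π v)) (by intros; simp [add_smul])
              (by intros; simp [smul_assoc]) (by intros; simp [tmul_add, smul_add])
              (by intros; rw [map_smul, tmul_smul, smul_comm]))
          have h2 := congrArg Φ hsym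
          have hψ1 : ψ 1 = 1 := hφ1
          simpa [Φ, hπ1, hψ1] using h2.symm
      have hπu : π ⟨s • b, hu⟩ = s • (⟨K.mkQ b, Submodule.mem_map_of_mem hb⟩ : N i) := Subtype.ext (map_smul K.mkQ s b)
      rw [hπu, tmul_smul, ← algebraMap_smul k s] at hkey
      exact (smul_eq_zero.1 hkey).resolve_left fun h => hs (Ideal.algebraMap_residueField_eq_zero.1 h)
    obtain ⟨a, b, hab⟩ := hnt
    suffices ∀ z : k ⊗[A] N i, z = 0 from hab ((this a).trans (this b).symm)
    intro z
    induction z with
    | zero => rfl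
    | tmul c x =>
      rw [show c ⊗ₜ[A] x = c • ((1 : k) ⊗ₜ[A] x) by rw [smul_tmul', smul_eq_mul, mul_one], hz, smul_zero]
    | add x y hx hy => rw [hx, hy, add_zero]

end Groth.Agent.S5663
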