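import Groth.Statements.S5671
import Mathlib
import Groth.Prelude.Def_CAlg
import Groth.Agent.Lib.H2Ischebeck

set_option autoImplicit false
universe u
open CategoryTheory
open Dual

namespace Groth.Agent.S5671
open CategoryTheory Abelian Pointwise RingTheory.Sequence

/-- First assertion, in the local-algebra form to which its proof reduces it: let `A` be a regular local
ring of dimension `n`, `p ≥ 0`, and `M` a finite `A`-module whose support has dimension at most `n -
p`. Then `Ext^i_A(M, A) = 0` for every `i < p`. (The geometric statement: on a nonsingular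
`n`-dimensional variety the sheaves `Ext^i(F, L)` vanish for `i < p` when `F` is coherent with
support of dimension `≤ n - p` and `L` is locally free.) -/
theorem result (A : Type u) [CommRing A] [IsRegularLocalRing A] (M : Type u) [AddCommGroup M] [Module A M] [Module.Finite A M] (p : ℕ) (hdim : Module.supportDim A M + p ≤ ringKrullDim A) (i : ℕ) (hi : i < p) : Subsingleton (Abelian.Ext (ModuleCat.of A M) (ModuleCat.of A A) i) := by
  obtain ⟨n, hn, hreg⟩ := Groth.Agent.H2Ischebeck.hasReg_of_regularLocal (R := A)
  refine Groth.Agent.H2Ischebeck.ext_subsingleton_of_supportDim hreg ?_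
  rw [hn] at hdim
  generalize Module.supportDim A M = w at hdim
  induction w using WithBot.recBotCoe with
  | bot => rw [WithBot.bot_add]; exact WithBot.bot_lt_coe _
  | coe a =>
    induction a using ENat.recTopCoe with
    | top =>
      have h1 : ((⊤ + (p : ℕ∞) : ℕ∞) : WithBot ℕ∞) ≤ (((n : ℕ) : ℕ∞) : WithBot ℕ∞) := hdim
      rw [top_add, WithBot.coe_le_coe] at h1
      exact absurd (top_le_iff.1 h1) (ENat.coe_ne_top n)
    | coe a =>
      have h1 : ((a + p : ℕ) : WithBot ℕ∞) ≤ ((n : ℕ) : WithBot ℕ∞) := by push_cast; exact hdim
      have h2 : a + p ≤ n := by exact_mod_cast h1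
      exact_mod_cast (show a + i < n by omega)

end Groth.Agent.S5671
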