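import Groth.Statements.S5755
import Mathlib
import Groth.Agent.S5752


set_option autoImplicit false
universe u
open EGA41

namespace Groth.Agent.S5755

/-- A reduced Noetherian local ring A has depth 0 if and only if A is a field. -/
theorem result (A : Type u) [CommRing A] [IsLocalRing A]
    [IsNoetherianRing A] [IsReduced A] : LocCoh.depth A A = 0 ↔ IsField A := by
  rw [Groth.Agent.S5752.result A A]
  constructor
  · intro h
    obtain ⟨hp, x, hx⟩ := isAssociatedPrime_iff.mp h
    have hmem : ∀ a, a ∈ IsLocalRing.maximalIdeal A ↔ a * x = 0 := fun a => by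
      rw [hx, Submodule.mem_colon_singleton, Submodule.mem_bot, smul_eq_mul]
    have hxu : IsUnit x := by
      by_contra hu
      have hxx := (hmem x).mp hu
      have hx0 : x = 0 := IsReduced.eq_zero x ⟨2, by rw [pow_two, hxx]⟩
      exact hp.ne_top ((Ideal.eq_top_iff_one _).mpr ((hmem 1).mpr (by rw [hx0, mul_zero])))
    rw [IsLocalRing.isField_iff_maximalIdeal_eq, eq_bot_iff]
    intro a ha
    exact hxu.mul_left_eq_zero.mp ((hmem a).mp ha)
  · intro h
    have hbot := IsLocalRing.isField_iff_maximalIdeal_eq.mp h
    obtain ⟨p, hp⟩ := associatedPrimes.nonempty A A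
    convert hp using 1
    exact (hbot.trans_le bot_le).antisymm (IsLocalRing.le_maximalIdeal hp.isPrime.ne_top)

end Groth.Agent.S5755
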