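import Groth.Statements.S5763
import Mathlib
import Groth.Agent.Lib.H4SchTop


set_option autoImplicit false
universe u
open EGA41

namespace Groth.Agent.S5763

/-- Let ρ : A → B be a ring homomorphism making B an integral A-algebra. Then dim(B) ≤ dim(A), and if ρ
is injective then dim(B) = dim(A) (Krull dimensions). -/
theorem result (A B : Type u) [CommRing A] [CommRing B] [Algebra A B]
    [Algebra.IsIntegral A B] :
    ringKrullDim B ≤ ringKrullDim A ∧
      (Function.Injective (algebraMap A B) → ringKrullDim B = ringKrullDim A) := by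
  rw [← PrimeSpectrum.topologicalKrullDim_eq_ringKrullDim, ← PrimeSpectrum.topologicalKrullDim_eq_ringKrullDim]
  have h1 : topologicalKrullDim (PrimeSpectrum B) ≤ topologicalKrullDim (PrimeSpectrum A) := by
    refine H4SchTop.dim_le_of_fibre (f := PrimeSpectrum.comap (algebraMap A B))
      (PrimeSpectrum.continuous_comap _) fun x y hxy e => ?_
    by_contra hne
    haveI := x.2
    exact (Ideal.IsIntegral.comap_lt_comap (R := A) (lt_of_le_of_ne
      ((PrimeSpectrum.le_iff_specializes x y).mpr hxy) fun e' => hne (PrimeSpectrum.ext e'))).ne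
      (congrArg PrimeSpectrum.asIdeal e)
  refine ⟨h1, fun hinj => le_antisymm h1 ?_⟩
  refine H4SchTop.dim_le_of_specializing (f := PrimeSpectrum.comap (algebraMap A B)) ?_
    fun x y hy => ?_
  · intro p
    obtain ⟨Q, -, hQ, hQp⟩ := Ideal.exists_ideal_over_prime_of_isIntegral (S := B) p.asIdeal ⊥ (by
        rw [← RingHom.ker_eq_comap_bot, (RingHom.injective_iff_ker_eq_bot _).mp hinj]; exact bot_le)
    exact ⟨⟨Q, hQ⟩, PrimeSpectrum.ext hQp⟩
  · obtain ⟨x', hx', e⟩ := hy.mem_closed
      ((PrimeSpectrum.isClosedMap_comap_of_isIntegral (algebraMap A B) (algebraMap_isIntegral_iff.mpr inferInstance))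
        _ (isClosed_closure (s := {x}))) ⟨x, subset_closure rfl, rfl⟩
    exact ⟨x', specializes_iff_mem_closure.mpr hx', e⟩

end Groth.Agent.S5763
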