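import Groth.Statements.S5766
import Mathlib
import Groth.Agent.Lib.H4SchTop


set_option autoImplicit false
universe u
open EGA41

namespace Groth.Agent.S5766

/-- Let A be a Noetherian ring, ρ : A → B a ring homomorphism and M a B-module which is finitely
generated as an A-module via ρ. Then the dimension of M as an A-module equals its dimension as a
B-module. -/
theorem result (A B : Type u) [CommRing A] [CommRing B] [IsNoetherianRing A]
    [Algebra A B] (M : Type u) [AddCommGroup M] [Module B M] [Module A M] [IsScalarTower A B M]
    [Module.Finite A M] : Module.supportDim A M = Module.supportDim B M := by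
  haveI : Module.Finite B M := Module.Finite.of_restrictScalars_finite A B M
  rw [Module.supportDim_eq_ringKrullDim_quotient_annihilator, Module.supportDim_eq_ringKrullDim_quotient_annihilator]
  let I := Module.annihilator A M
  let J := Module.annihilator B M
  have hle : I ≤ J.comap (algebraMap A B) := fun a ha => by
    rw [Ideal.mem_comap, Module.mem_annihilator]
    intro m
    rw [algebraMap_smul]
    exact Module.mem_annihilator.mp ha m
  let φ : (A ⧸ I) →+* (B ⧸ J) := Ideal.quotientMap J (algebraMap A B) hle
  letI := φ.toAlgebra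
  have hinj : Function.Injective φ := Ideal.quotientMap_injective' (fun a ha => by
    rw [Ideal.mem_comap, Module.mem_annihilator] at ha
    exact Module.mem_annihilator.mpr fun m => by simpa [algebraMap_smul] using ha m)
  haveI : Module.Finite A (B ⧸ J) := by
    obtain ⟨s, hs⟩ := ‹Module.Finite A M›.1
    let g : B →ₗ[A] (s → M) := LinearMap.pi fun m => (LinearMap.toSpanSingleton B M m.1).restrictScalars A
    have hg : LinearMap.ker g = J.restrictScalars A := by
      ext b
      simp only [LinearMap.mem_ker, Submodule.restrictScalars_mem, g, funext_iff, LinearMap.pi_apply]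
      show (∀ m : s, b • (m : M) = 0) ↔ b ∈ Module.annihilator B M
      rw [Module.mem_annihilator]
      refine ⟨fun h m => ?_, fun h m => h m⟩
      have hm : m ∈ Submodule.span A (s : Set M) := hs ▸ trivial
      induction hm using Submodule.span_induction with
      | mem x hx => exact h ⟨x, hx⟩
      | zero => exact smul_zero b
      | add x y _ _ hx hy => rw [smul_add, hx, hy, add_zero]
      | smul a x _ hx => rw [smul_comm, hx, smul_zero]
    exact Module.Finite.of_injective
      ((Submodule.liftQ _ g hg.ge).comp (Submodule.Quotient.restrictScalarsEquiv A J).symm.toLinearMap)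
      ((LinearMap.ker_eq_bot.mp (Submodule.ker_liftQ_eq_bot' _ _ hg.symm)).comp (LinearEquiv.injective _))
  haveI : IsScalarTower A (A ⧸ I) (B ⧸ J) := IsScalarTower.of_algebraMap_eq fun a => rfl
  haveI : Module.Finite (A ⧸ I) (B ⧸ J) := Module.Finite.of_restrictScalars_finite A _ _
  rw [← PrimeSpectrum.topologicalKrullDim_eq_ringKrullDim, ← PrimeSpectrum.topologicalKrullDim_eq_ringKrullDim]
  apply le_antisymm
  · refine H4SchTop.dim_le_of_specializing (f := PrimeSpectrum.comap (algebraMap (A ⧸ I) (B ⧸ J))) ?_
      fun x y hy => ?_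
    · intro p
      obtain ⟨Q, -, hQ, hQp⟩ := Ideal.exists_ideal_over_prime_of_isIntegral (S := B ⧸ J) p.asIdeal ⊥ (by
        rw [← RingHom.ker_eq_comap_bot, show RingHom.ker (algebraMap (A ⧸ Module.annihilator A M) (B ⧸ J)) = ⊥ from (RingHom.injective_iff_ker_eq_bot φ).mp hinj]; exact bot_le)
      exact ⟨⟨Q, hQ⟩, PrimeSpectrum.ext hQp⟩
    · obtain ⟨x', hx', e⟩ := hy.mem_closed
        ((PrimeSpectrum.isClosedMap_comap_of_isIntegral (algebraMap (A ⧸ I) (B ⧸ J))
          (algebraMap_isIntegral_iff.mpr inferInstance)) _ (isClosed_closure (s := {x})))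
        ⟨x, subset_closure rfl, rfl⟩
      exact ⟨x', specializes_iff_mem_closure.mpr hx', e⟩
  · refine H4SchTop.dim_le_of_fibre (f := PrimeSpectrum.comap (algebraMap (A ⧸ I) (B ⧸ J)))
      (PrimeSpectrum.continuous_comap _) fun x y hxy e => ?_
    by_contra hne
    haveI := x.2
    exact (Ideal.IsIntegral.comap_lt_comap (R := A ⧸ I) (lt_of_le_of_ne
      ((PrimeSpectrum.le_iff_specializes x y).mpr hxy) fun e' => hne (PrimeSpectrum.ext e'))).ne
      (congrArg PrimeSpectrum.asIdeal e)

end Groth.Agent.S5766
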