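import Groth.Statements.S5772
import Mathlib


set_option autoImplicit false
universe u
open scoped Pointwise
open EGA41

namespace Groth.Agent.S5772

/-- Let A be a Noetherian ring, M a finitely generated A-module and f an element of A. Then f is
M-regular (multiplication by f on M is injective) if and only if f is M-quasi-regular, i.e. the
canonical surjection (M/fM)[T] → gr(M) for the (f)-adic filtration is bijective, which amounts to:
for every k ≥ 0 and x ∈ M, f^k x ∈ f^(k+1) M implies x ∈ fM. -/
theorem result (A : Type u) [CommRing A] [IsNoetherianRing A] (M : Type u)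
    [AddCommGroup M] [Module A M] [Module.Finite A M] (f : A) :
    IsSMulRegular M f ↔
      ∀ (k : ℕ) (x : M), f ^ k • x ∈ f ^ (k + 1) • (⊤ : Submodule A M) → x ∈ f • (⊤ : Submodule A M) := by
  constructor
  · intro h k x hx
    obtain ⟨y, -, hy⟩ := (Submodule.mem_smul_pointwise_iff_exists _ _ _).mp hx
    refine (Submodule.mem_smul_pointwise_iff_exists _ _ _).mpr ⟨y, trivial, h.pow k ?_⟩
    show f ^ k • f • y = f ^ k • x
    rw [smul_smul, ← pow_succ, hy]
  · intro h
    rw [isSMulRegular_iff_right_eq_zero_of_smul]
    intro x hx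
    have key : ∀ n : ℕ, ∃ y, f ^ n • y = x := by
      intro n
      induction n with
      | zero => exact ⟨x, by simp⟩
      | succ n ih =>
        obtain ⟨y, hy⟩ := ih
        have h0 : f ^ (n + 1) • y = 0 := by rw [pow_succ', mul_smul, hy, hx]
        obtain ⟨z, -, hz⟩ := (Submodule.mem_smul_pointwise_iff_exists _ _ _).mp (h (n + 1) y (by
          rw [h0]; exact Submodule.zero_mem _))
        exact ⟨z, by rw [pow_succ, mul_smul, hz, hy]⟩
    obtain ⟨r, hr⟩ := ((Ideal.span {f}).mem_iInf_smul_pow_eq_bot_iff x).mp (by
      rw [Submodule.mem_iInf]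
      intro n
      obtain ⟨y, hy⟩ := key n
      rw [← hy]
      exact Submodule.smul_mem_smul (Ideal.pow_mem_pow (Ideal.mem_span_singleton_self f) n) trivial)
    obtain ⟨c, hc⟩ := Ideal.mem_span_singleton'.mp r.2
    rw [← hr, ← hc, mul_smul, hx, smul_zero]

end Groth.Agent.S5772
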