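import Mathlib
import Groth.Statements.S5778
import Groth.Agent.Lib.H4QRLocal
import Groth.Agent.Lib.RegularLocalBasic

set_option autoImplicit false
universe u
open EGA41

namespace Groth.Agent.S5778

section

variable {A : Type u} [CommRing A] [IsLocalRing A] [IsNoetherianRing A]

open IsLocalRing

theorem length_succ (s : ℕ) :
    Module.length A (A ⧸ maximalIdeal A ^ (s + 1)) =
      Module.length A (↥(maximalIdeal A ^ s) ⧸ Submodule.comap (maximalIdeal A ^ s).subtype (maximalIdeal A ^ (s + 1)))
        + Module.length A (A ⧸ maximalIdeal A ^ s) := by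
  have hle : maximalIdeal A ^ (s + 1) ≤ maximalIdeal A ^ s := Ideal.pow_le_pow_right (Nat.le_succ s)
  refine Module.length_eq_add_of_exact (Submodule.mapQ _ _ (maximalIdeal A ^ s).subtype le_rfl)
    (Submodule.factor hle) ?_ (Submodule.factor_surjective hle) ?_
  · rw [← LinearMap.ker_eq_bot, Submodule.mapQ, Submodule.ker_liftQ, LinearMap.ker_comp, Submodule.ker_mkQ]
    exact Submodule.mkQ_map_self _
  · intro z
    obtain ⟨a, rfl⟩ := Submodule.Quotient.mk_surjective _ z
    simp only [Submodule.factor, Submodule.mapQ_apply, LinearMap.id_apply, Submodule.Quotient.mk_eq_zero, Set.mem_range]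
    constructor
    · intro ha
      exact ⟨Submodule.Quotient.mk ⟨a, ha⟩, rfl⟩
    · rintro ⟨w, hw⟩
      obtain ⟨⟨b, hb⟩, rfl⟩ := Submodule.Quotient.mk_surjective _ w
      rw [Submodule.mapQ_apply, Submodule.Quotient.eq] at hw
      exact (Submodule.sub_mem_iff_right _ hb).mp (hle hw)

theorem card_exponents (d s : ℕ) [Fintype {e : Fin d →₀ ℕ // e.degree = s}] :
    Fintype.card {e : Fin d →₀ ℕ // e.degree = s} = Nat.multichoose d s := by
  classical
  rw [← Fintype.card_congr ((Sym.equivNatSum (Fin d) s).trans (Equiv.subtypeEquivRight fun e => by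
    rw [Finsupp.degree_apply]; rfl)), Sym.card_sym_eq_multichoose, Fintype.card_fin]

theorem piece (d : ℕ) (x : Fin d → A) (hx : Ideal.span (Set.range x) = maximalIdeal A) (s : ℕ) :
    Module.length A (↥(maximalIdeal A ^ s) ⧸ Submodule.comap (maximalIdeal A ^ s).subtype (maximalIdeal A ^ (s + 1)))
        = (Nat.multichoose d s : ℕ∞) ↔
      ∀ P : MvPolynomial (Fin d) A, P.IsHomogeneous s → MvPolynomial.eval x P ∈ Ideal.span (Set.range x) ^ (s + 1) →
        ∀ e, P.coeff e ∈ Ideal.span (Set.range x) := by
  classical
  haveI : Fintype {e : Fin d →₀ ℕ // e.degree = s} :=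
    Fintype.ofEquiv _ ((Sym.equivNatSum (Fin d) s).trans (Equiv.subtypeEquivRight fun e => by
      rw [Finsupp.degree_apply]; rfl))
  set T := {e : Fin d →₀ ℕ // e.degree = s}
  set m := maximalIdeal A
  let mon : T → A := fun e => ∏ i, x i ^ e.1 i
  have hmon : ∀ e, mon e ∈ m ^ s := fun e => by
    have := H4QReg.eval_mem_pow x (MvPolynomial.isHomogeneous_monomial (1 : A) (d := e.1) e.2)
    rw [hx, MvPolynomial.eval_monomial, one_mul, Finsupp.prod_fintype _ _ (fun i => pow_zero _)] at this
    exact this
  let N := Submodule.comap (m ^ s).subtype (m ^ (s + 1))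
  let φ : (T → A) →ₗ[A] ↥(m ^ s) ⧸ N := N.mkQ ∘ₗ Fintype.linearCombination A (fun e => (⟨mon e, hmon e⟩ : ↥(m ^ s)))
  have hφ : ∀ c : T → A, ∀ (h : ∑ e, c e * mon e ∈ m ^ s), φ c = Submodule.Quotient.mk ⟨∑ e, c e * mon e, h⟩ := by
    intro c h
    refine congrArg Submodule.Quotient.mk (Subtype.ext ?_)
    simp [Fintype.linearCombination_apply, mul_comm]
  have hsurj : Function.Surjective φ := by
    intro z
    obtain ⟨⟨a, ha⟩, rfl⟩ := Submodule.Quotient.mk_surjective _ z
    obtain ⟨G, hG, hev⟩ := H4QReg.exists_eval_eq x s a (by rw [hx]; exact ha)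
    have e1 : a = ∑ e : T, G.coeff e.1 * mon e := by
      rw [← hev, MvPolynomial.eval_eq']
      exact Finset.sum_bij_ne_zero (fun e he _ => (⟨e, H4QReg.degree_eq hG (MvPolynomial.mem_support_iff.mp he)⟩ : T))
        (fun _ _ _ => Finset.mem_univ _) (fun _ _ _ _ _ _ h => congrArg Subtype.val h)
        (fun e _ he => ⟨e.1, MvPolynomial.mem_support_iff.mpr (left_ne_zero_of_mul he), he, rfl⟩) (fun _ _ _ => rfl)
    refine ⟨fun e => G.coeff e.1, ?_⟩
    rw [hφ _ (e1 ▸ ha)]
    exact congrArg Submodule.Quotient.mk (Subtype.ext e1.symm)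
  let M : Submodule A (T → A) := Submodule.pi Set.univ fun _ => m
  have hM : M ≤ LinearMap.ker φ := by
    intro c hc
    have h1 : ∑ e, c e * mon e ∈ m ^ (s + 1) := sum_mem fun e _ => by
      rw [pow_succ']; exact Ideal.mul_mem_mul (hc e trivial) (hmon e)
    rw [LinearMap.mem_ker, hφ c (Ideal.pow_le_pow_right (Nat.le_succ s) h1), Submodule.Quotient.mk_eq_zero]
    exact h1
  let θ := M.liftQ φ hM
  have hθ : Function.Surjective θ := fun z => by
    obtain ⟨c, rfl⟩ := hsurj z
    exact ⟨Submodule.Quotient.mk c, rfl⟩
  have hlen : Module.length A ((T → A) ⧸ M) = (Nat.multichoose d s : ℕ∞) := by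
    haveI : IsSimpleModule A (A ⧸ m) := isSimpleModule_iff_isCoatom.mpr (maximalIdeal.isMaximal A).out
    rw [(Submodule.quotientPi fun _ : T => m).length_eq, Module.length_pi_of_fintype]
    simp only [Module.length_eq_one A (A ⧸ m), Finset.sum_const, Finset.card_univ, nsmul_eq_mul, mul_one]
    rw [card_exponents d s]
  have hsum := Module.length_eq_add_of_exact (LinearMap.ker θ).subtype θ Subtype.val_injective hθ
    (LinearMap.exact_subtype_ker_map θ)
  rw [hlen] at hsum
  have hiff : (∀ P : MvPolynomial (Fin d) A, P.IsHomogeneous s → MvPolynomial.eval x P ∈ Ideal.span (Set.range x) ^ (s + 1) →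
        ∀ e, P.coeff e ∈ Ideal.span (Set.range x)) ↔ LinearMap.ker φ ≤ M := by
    rw [hx]
    constructor
    · intro h c hc e _
      let P : MvPolynomial (Fin d) A := ∑ e : T, MvPolynomial.monomial e.1 (c e)
      have hP : P.IsHomogeneous s := MvPolynomial.IsHomogeneous.sum _ _ _ fun e _ =>
        MvPolynomial.isHomogeneous_monomial (c e) (d := e.1) e.2
      have hev : MvPolynomial.eval x P = ∑ e, c e * mon e := by
        rw [map_sum]
        refine Finset.sum_congr rfl fun e _ => ?_
        rw [MvPolynomial.eval_monomial, Finsupp.prod_fintype _ _ (fun i => pow_zero _)]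
      have hms : ∑ e, c e * mon e ∈ m ^ s := sum_mem fun e _ => Ideal.mul_mem_left _ _ (hmon e)
      rw [LinearMap.mem_ker, hφ c hms, Submodule.Quotient.mk_eq_zero] at hc
      have h2 := h P hP (by rw [hev]; exact hc) e.1
      have h3 : P.coeff e.1 = c e := by
        rw [MvPolynomial.coeff_sum, Finset.sum_eq_single e]
        · simp
        · intro b _ hb
          simp [MvPolynomial.coeff_monomial, Subtype.val_inj, hb]
        · intro hb
          exact absurd (Finset.mem_univ _) hb
      rwa [h3] at h2
    · intro h P hP hev e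
      by_cases he : P.coeff e = 0
      · rw [he]; exact zero_mem _
      · have e1 : MvPolynomial.eval x P = ∑ e : T, P.coeff e.1 * mon e := by
          rw [MvPolynomial.eval_eq']
          exact Finset.sum_bij_ne_zero (fun e he _ => (⟨e, H4QReg.degree_eq hP (MvPolynomial.mem_support_iff.mp he)⟩ : T))
            (fun _ _ _ => Finset.mem_univ _) (fun _ _ _ _ _ _ h => congrArg Subtype.val h)
            (fun e _ he => ⟨e.1, MvPolynomial.mem_support_iff.mpr (left_ne_zero_of_mul he), he, rfl⟩) (fun _ _ _ => rfl)
        have hc : (fun e : T => P.coeff e.1) ∈ LinearMap.ker φ := by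
          rw [e1] at hev
          rw [LinearMap.mem_ker, hφ _ (Ideal.pow_le_pow_right (Nat.le_succ s) hev), Submodule.Quotient.mk_eq_zero]
          exact hev
        exact h hc ⟨e, H4QReg.degree_eq hP he⟩ trivial
  rw [hiff]
  have hker : LinearMap.ker θ = ⊥ ↔ LinearMap.ker φ ≤ M := by
    rw [Submodule.ker_liftQ, eq_bot_iff, Submodule.map_le_iff_le_comap, Submodule.comap_bot, Submodule.ker_mkQ]
  rw [← hker]
  constructor
  · intro h
    rw [h] at hsum
    have h0 : Module.length A (LinearMap.ker θ) = 0 :=
      (WithTop.add_right_cancel (ENat.natCast_ne_top (Nat.multichoose d s)) (hsum.symm.trans (zero_add _).symm))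
    haveI := Module.length_eq_zero_iff.mp h0
    exact Submodule.eq_bot_of_subsingleton
  · intro h
    rw [← (LinearEquiv.ofBijective θ ⟨LinearMap.ker_eq_bot.mp h, hθ⟩).length_eq, hlen]

end

/-- Let A be a Noetherian local ring with maximal ideal m, residue field k, and let r be the dimension
of the k-vector space m/m². Then A is regular if and only if the canonical surjection of graded
k-algebras from the symmetric algebra of m/m² onto the associated graded ring of A for the m-adic
filtration is bijective. Since that surjection is bijective exactly when source and target have the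
same length in every degree, the condition is expressed here as: length_A(A/m^(s+1)) equals the
binomial coefficient C(s+r, r) for every s ≥ 0. -/
theorem result (A : Type u) [CommRing A] [IsLocalRing A]
    [IsNoetherianRing A] :
    IsRegularLocalRing A ↔
      ∀ s : ℕ, Module.length A (A ⧸ IsLocalRing.maximalIdeal A ^ (s + 1)) =
        ((s + Module.finrank (IsLocalRing.ResidueField A) (IsLocalRing.CotangentSpace A)).choose s : ℕ∞) := by
  classical
  set m := IsLocalRing.maximalIdeal A
  set d := Module.finrank (IsLocalRing.ResidueField A) (IsLocalRing.CotangentSpace A) with hd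
  have hrank : m.spanFinrank = d := IsLocalRing.spanFinrank_maximalIdeal_eq_finrank_cotangentSpace A
  obtain ⟨S, hS⟩ : ∃ x : Fin d → A, Ideal.span (Set.range x) = m := by
    have hfg : Submodule.FG (m : Submodule A A) := IsNoetherian.noetherian m
    obtain ⟨F, hF1, hF2⟩ := Submodule.FG.exists_span_finset_card_eq_spanFinrank hfg
    have e : Fin d ≃ F := (finCongr (hrank.symm.trans hF1.symm)).trans F.equivFin.symm
    refine ⟨fun i => e i, ?_⟩
    rw [show Set.range (fun i => ((e i : A))) = (F : Set A) by
      rw [show (fun i => ((e i : A))) = Subtype.val ∘ e from rfl, e.surjective.range_comp]; simp]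
    exact hF2
  have hchoose : ∀ s, ((s + d).choose s) + Nat.multichoose d (s + 1) = (s + 1 + d).choose (s + 1) := by
    intro s
    rw [Nat.multichoose_eq, show d + (s + 1) - 1 = s + d by omega, show s + 1 + d = (s + d) + 1 by omega, Nat.choose_succ_succ]
  have h0 : Module.length A (A ⧸ m ^ 0) = 0 := by
    haveI : Subsingleton (A ⧸ m ^ 0) := Ideal.Quotient.subsingleton_iff.mpr (by rw [pow_zero, Ideal.one_eq_top])
    exact Module.length_eq_zero
  constructor
  · intro hreg s
    have hmem : ∀ i, S i ∈ m := fun i => hS ▸ Ideal.subset_span ⟨i, rfl⟩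
    have hofl : Ideal.ofList (List.ofFn S ++ []) = m := by
      rw [List.append_nil, Ideal.ofList, ← hS]; congr 1; ext; simp
    have hR := RegLocal.isRegular_of_span_eq (List.ofFn S) [] hofl (by simp only [List.length_ofFn, List.length_nil, add_zero]; exact hrank.ge)
    have hq := H4QReg.isQuasiRegular_of_isWeaklyRegular hR.toIsWeaklyRegular
    have hp := fun s => (piece d S hS s).mpr (hq s)
    induction s with
    | zero => rw [length_succ, hp, h0]; simp
    | succ s ih =>
      rw [length_succ, hp, ih, add_comm (Nat.multichoose d (s + 1) : ℕ∞)]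
      exact_mod_cast hchoose s
  · intro h
    have hp : ∀ s, Module.length A (↥(m ^ s) ⧸ Submodule.comap (m ^ s).subtype (m ^ (s + 1)))
        = (Nat.multichoose d s : ℕ∞) := by
      intro s
      rcases s with _ | s
      · have := length_succ (A := A) 0
        rw [h 0, h0, add_zero] at this
        rw [← this]; simp
      · have h1 := length_succ (A := A) (s + 1)
        rw [h (s + 1), h s, ← hchoose s, Nat.cast_add, add_comm] at h1
        exact (WithTop.add_right_cancel (ENat.coe_ne_top _) h1).symm
    have hq : CAlgX.IsQuasiRegular S := fun n => (piece d S hS n).mp (hp n)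
    have hmem : ∀ r ∈ List.ofFn S, r ∈ m := fun r hr => by
      obtain ⟨i, rfl⟩ := List.mem_ofFn.mp hr
      exact hS ▸ Ideal.subset_span ⟨i, rfl⟩
    have hw := H4QRLocal.isWeaklyRegular_of_isQuasiRegular d A S (fun i => hmem _ (List.mem_ofFn.mpr ⟨i, rfl⟩)) hq
    have hreg : RingTheory.Sequence.IsRegular A (List.ofFn S) := by
      refine ⟨hw, fun he => (IsLocalRing.maximalIdeal.isMaximal A).ne_top (top_le_iff.mp ?_)⟩
      rw [he, smul_eq_mul, Ideal.mul_top, Ideal.ofList]
      exact Ideal.span_le.mpr hmem
    refine IsRegularLocalRing.of_spanFinrank_maximalIdeal_le A ?_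
    have hdim := ringKrullDim_add_length_eq_ringKrullDim_of_isRegular (List.ofFn S) hreg
    haveI : Nontrivial (A ⧸ Ideal.ofList (List.ofFn S)) := Ideal.Quotient.nontrivial_iff.mpr fun he =>
      (IsLocalRing.maximalIdeal.isMaximal A).ne_top (top_le_iff.mp (he ▸ Ideal.span_le.mpr hmem))
    rw [hrank, ← hdim, List.length_ofFn]
    exact le_add_of_nonneg_left (ringKrullDim_nonneg_of_nontrivial)

end Groth.Agent.S5778
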