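import Groth.Statements.S5780
import Mathlib


set_option autoImplicit false
universe u
open EGA41

namespace Groth.Agent.S5780

/-- Let A be a Noetherian local ring with maximal ideal m. If every element of m which is not in m² is a
zero divisor in A, then there is a nonzero c in A with c m = 0, i.e. m is an associated prime of A. -/
theorem result (A : Type u) [CommRing A]
    [IsLocalRing A] [IsNoetherianRing A]
    (h : ∀ a ∈ IsLocalRing.maximalIdeal A, a ∉ IsLocalRing.maximalIdeal A ^ 2 → ¬ IsSMulRegular A a) :
    IsLocalRing.maximalIdeal A ∈ associatedPrimes A A := by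
  classical
  by_contra hne
  let m := IsLocalRing.maximalIdeal A
  have hfin : (associatedPrimes A A).Finite := associatedPrimes.finite A A
  by_cases hm : m ≤ m ^ 2
  · have h0 : m = ⊥ := Submodule.eq_bot_of_le_smul_of_le_jacobson_bot m m (IsNoetherian.noetherian m)
      (by simpa [pow_two] using hm) (IsLocalRing.maximalIdeal_le_jacobson _)
    obtain ⟨P, hP⟩ := associatedPrimes.nonempty A A
    have : P = m := le_antisymm (IsLocalRing.le_maximalIdeal hP.isPrime.ne_top) (h0 ▸ bot_le)
    exact hne (by rw [this] at hP; exact hP)
  · let f : Option (Ideal A) → Ideal A := fun o => o.elim (m ^ 2) id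
    have hnot : ¬ (m : Set A) ⊆ ⋃ i ∈ (↑(insert none (hfin.toFinset.image some)) : Set (Option (Ideal A))), (f i : Set A) := by
      rw [Ideal.subset_union_prime none none (fun i hi hi' _ => ?_)]
      · rintro ⟨i, hi, hle⟩
        rcases Finset.mem_insert.1 hi with rfl | hi
        · exact hm hle
        · obtain ⟨P, hP, rfl⟩ := Finset.mem_image.1 hi
          rw [Set.Finite.mem_toFinset] at hP
          exact hne (by rw [← show m = P from le_antisymm hle (IsLocalRing.le_maximalIdeal hP.isPrime.ne_top)] at hP; exact hP)
      · rcases Finset.mem_insert.1 hi with rfl | hi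
        · exact absurd rfl hi'
        · obtain ⟨P, hP, rfl⟩ := Finset.mem_image.1 hi
          exact (hfin.mem_toFinset.1 hP).isPrime
    obtain ⟨a, ha, ha'⟩ := Set.not_subset.1 hnot
    simp only [Set.mem_iUnion, not_exists, Finset.mem_coe] at ha'
    refine h a ha (ha' none (Finset.mem_insert_self _ _)) ?_
    have : a ∈ nonZeroDivisors A := by
      by_contra hc
      have : a ∈ ⋃ p ∈ associatedPrimes A A, (p : Set A) := by rw [biUnion_associatedPrimes_eq_compl_nonZeroDivisors]; exact hc
      simp only [Set.mem_iUnion] at this
      obtain ⟨P, hP, haP⟩ := this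
      exact ha' (some P) (Finset.mem_insert_of_mem (Finset.mem_image_of_mem _ (hfin.mem_toFinset.2 hP))) haP
    exact fun x y hxy => (mul_cancel_left_mem_nonZeroDivisors this).1 hxy

end Groth.Agent.S5780
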