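import Mathlib
import Groth.Statements.S5785
import Groth.Agent.Lib.H4RegCompletion

set_option autoImplicit false
universe u
open EGA41

namespace Groth.Agent.S5785

/-- Let A be a regular ring and J an ideal of A. Then the separated completion of A for the J-adic
topology is a regular ring. -/
theorem result (A : Type u) [CommRing A] [IsRegularRing A] (J : Ideal A) :
    IsRegularRing (AdicCompletion J A) := by
  exact H4RegCompletion.isRegularRing_adicCompletion A J

end Groth.Agent.S5785
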