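import Groth.Statements.S5801
import Mathlib

set_option autoImplicit false
set_option backward.isDefEq.respectTransparency.types false
set_option maxHeartbeats 1000000
set_option linter.all false
universe u
open scoped Pointwise
open EGA41

namespace Groth.Agent.S5801
open Groth.Agent Pointwise

/-- Let A be a ring, M an A-module and f ∈ A, and consider the canonical surjection (M/fM)[T] → gr(M)
for the (f)-adic filtration, whose injectivity says: for all k ≥ 0 and x ∈ M, f^k x ∈ f^(k+1) M
implies x ∈ fM. If f is M-regular this map is bijective; conversely, if it is bijective and M is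
separated for the (f)-adic topology (the intersection of the f^k M is zero), then f is M-regular. -/
theorem result (A : Type u) [CommRing A] (M : Type u)
    [AddCommGroup M] [Module A M] (f : A) :
    (IsSMulRegular M f →
        ∀ (k : ℕ) (x : M), f ^ k • x ∈ f ^ (k + 1) • (⊤ : Submodule A M) → x ∈ f • (⊤ : Submodule A M)) ∧
      ((⨅ k : ℕ, f ^ k • (⊤ : Submodule A M)) = ⊥ →
        (∀ (k : ℕ) (x : M), f ^ k • x ∈ f ^ (k + 1) • (⊤ : Submodule A M) → x ∈ f • (⊤ : Submodule A M)) →
          IsSMulRegular M f) := by
  constructor
  · intro hr k x hx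
    obtain ⟨y, -, hy⟩ := hx
    refine ⟨y, trivial, ?_⟩
    have : f ^ k • x = f ^ k • (f • y) := by
      rw [smul_smul, ← pow_succ]; exact hy.symm
    exact (hr.pow k this).symm
  · intro hsep h a b hab
    rw [← sub_eq_zero]
    have key : ∀ k, a - b ∈ f ^ k • (⊤ : Submodule A M) := by
      intro k
      induction k with
      | zero => exact ⟨a - b, trivial, by simp⟩
      | succ k ih =>
        obtain ⟨z, -, hz⟩ := ih
        have hz' : f ^ k • z = a - b := hz
        have h0 : f ^ (k + 1) • z = 0 := by
          rw [pow_succ', mul_smul, hz', smul_sub, sub_eq_zero]; exact hab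
        obtain ⟨w, -, hw⟩ : z ∈ f • (⊤ : Submodule A M) := h (k + 1) z ⟨0, trivial, by rw [h0]; exact smul_zero _⟩
        have hw' : f • w = z := hw
        exact ⟨w, trivial, by show f ^ (k + 1) • w = a - b; rw [← hz', ← hw', smul_smul, pow_succ]⟩
    have : a - b ∈ ⨅ k : ℕ, f ^ k • (⊤ : Submodule A M) := (Submodule.mem_iInf _).2 key
    rwa [hsep] at this

end Groth.Agent.S5801
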