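import Mathlib
import Groth.Statements.S5805
import Groth.Agent.Lib.RegularLocalSerre
import Groth.Agent.Lib.H2KoszulExt

set_option autoImplicit false
universe u
open CategoryTheory
open EGA41

namespace Groth.Agent.S5805

/-- Let A be a Noetherian local ring with residue field k and n ≥ 0. Then the global dimension of A is
at most n as soon as the projective dimension of the A-module k is at most n: every A-module then
has projective dimension at most n. (The published statement phrases the criterion through the
vanishing of Tor^A_{n+1}(k, k), to which dim.proj_A(k) ≤ n is equivalent for finitely generated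
modules over a Noetherian local ring; this row states the projective-dimension form that the
published proof establishes.) -/
theorem result (A : Type u) [CommRing A] [IsLocalRing A]
    [IsNoetherianRing A] (n : ℕ)
    (hk : HasProjectiveDimensionLT (ModuleCat.of A (IsLocalRing.ResidueField A)) (n + 1)) (M : Type u)
    [AddCommGroup M] [Module A M] : HasProjectiveDimensionLT (ModuleCat.of A M) (n + 1) := by
  haveI : IsRegularLocalRing A := RegLocal.regular_of_pdLT_residueField (n + 1) hk
  set m := IsLocalRing.maximalIdeal A
  obtain ⟨F, hF1, hF2⟩ := Submodule.FG.exists_span_finset_card_eq_spanFinrank (IsNoetherian.noetherian m : Submodule.FG (m : Submodule A A))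
  set xs := F.toList
  have hxs : Ideal.ofList (xs ++ []) = m := by
    rw [List.append_nil, Ideal.ofList]
    refine Eq.trans (congrArg Ideal.span ?_) hF2
    ext a; simp [xs]
  have hlen : xs.length = m.spanFinrank := by rw [Finset.length_toList]; exact hF1
  have hreg := RegLocal.isRegular_of_span_eq xs [] hxs (by simp [hlen]; rfl)
  rw [List.append_nil] at hxs
  have hd : m.spanFinrank ≤ n := by
    by_contra hcon
    obtain ⟨-, ⟨e⟩⟩ := H2KoszulExt.main (IsLocalRing.ResidueField A) xs hreg.toIsWeaklyRegular
    haveI : HasProjectiveDimensionLT (ModuleCat.of A (A ⧸ Ideal.ofList xs)) (n + 1) :=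
      RegLocal.pdLT_congr ((Submodule.quotEquivOfEq _ _ hxs).symm) hk
    haveI := HasProjectiveDimensionLT.subsingleton (ModuleCat.of A (A ⧸ Ideal.ofList xs)) (n + 1) xs.length
      (by omega) (ModuleCat.of A (IsLocalRing.ResidueField A))
    haveI : Subsingleton (IsLocalRing.ResidueField A ⧸ (Ideal.ofList xs • ⊤ : Submodule A (IsLocalRing.ResidueField A))) :=
      e.symm.injective.subsingleton
    have h1 : (Ideal.ofList xs • ⊤ : Submodule A (IsLocalRing.ResidueField A)) = ⊤ :=
      Submodule.Quotient.subsingleton_iff.mp inferInstance
    have h2 : (Ideal.ofList xs • ⊤ : Submodule A (IsLocalRing.ResidueField A)) = ⊥ := by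
      refine le_bot_iff.mp (Submodule.smul_le.mpr fun a ha z _ => ?_)
      rw [Submodule.mem_bot, Algebra.smul_def, IsLocalRing.ResidueField.algebraMap_eq,
        (IsLocalRing.residue_eq_zero_iff a).mpr (show a ∈ m from hxs ▸ ha), zero_mul]
    exact top_ne_bot (h1.symm.trans h2)
  exact RegLocal.pdLT_mono (Nat.succ_le_succ hd) (RegLocal.pdLT_of_regular m.spanFinrank rfl M)

end Groth.Agent.S5805
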