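import Groth.Statements.S5809
import Groth.Agent.Lib.H1TorBal
import Groth.Agent.Lib.FiniteFreeResolution
import Groth.Agent.S14414
import Mathlib

set_option autoImplicit false
universe u
open CategoryTheory
open EGA41

namespace Groth.Agent.S5809

open Groth.Agent.H1TorRes Groth.Agent.H1TorBal
open scoped TensorProduct

/-- Let A be a Noetherian local ring with residue field k, M a finitely generated A-module and n ≥ 0.
For M to have projective dimension at most n it is necessary that Tor^A_i(M, k) = 0 for all i > n,
and it suffices that Tor^A_(n+1)(M, k) = 0. (Tor is written here as the left derived functors of k ⊗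
- evaluated at M, i.e. computed from a projective resolution of M.) -/
theorem result (A : Type u) [CommRing A] [IsLocalRing A]
    [IsNoetherianRing A] (M : Type u) [AddCommGroup M] [Module A M] [Module.Finite A M] (n : ℕ) :
    (HasProjectiveDimensionLT (ModuleCat.of A M) (n + 1) →
        ∀ i : ℕ, n < i → Limits.IsZero (((Tor (ModuleCat.{u} A) i).obj
          (ModuleCat.of A (IsLocalRing.ResidueField A))).obj (ModuleCat.of A M))) ∧
      (Limits.IsZero (((Tor (ModuleCat.{u} A) (n + 1)).obj
          (ModuleCat.of A (IsLocalRing.ResidueField A))).obj (ModuleCat.of A M)) →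
        HasProjectiveDimensionLT (ModuleCat.of A M) (n + 1)) := by
  refine ⟨fun h i hi => Groth.Agent.S14414.result A _ (ModuleCat.of A M) n i hi, fun h => ?_⟩
  obtain ⟨P, hP⟩ := Groth.Agent.FiniteFreeResolution.exists_res (R := A) ⟨ModuleCat.of A M, inferInstance⟩
  haveI := fun j => (hP j).1
  haveI := fun j => (hP j).2
  haveI : ∀ j, Module.Finite A (cF P.complex j) := fun j => (hP j).1
  haveI : ∀ j, Module.Free A (cF P.complex j) := fun j => (hP j).2
  have hEx := (isZero_tor_iff (ModuleCat.of A (IsLocalRing.ResidueField A)) _ P (n + 1)).1 h
  have hinj : Function.Injective ((dbar P n).lTensor (IsLocalRing.ResidueField A)) := by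
    rw [injective_iff_map_eq_zero]
    intro y hy
    obtain ⟨x, rfl⟩ := LinearMap.lTensor_surjective (IsLocalRing.ResidueField A) (toC_surjective P (n + 1)) y
    rw [← LinearMap.lTensor_comp_apply, dbar_comp] at hy
    exact (lTensor_exact _ (LinearMap.exact_map_mkQ_range (cd P.complex (n + 1))) (Submodule.mkQ_surjective _) x).mpr
      (hEx x hy)
  haveI : Module.Finite A (C P (n + 1)) := Module.Finite.of_surjective _ (toC_surjective P (n + 1))
  haveI hfree : Module.Free A (C P n) :=
    Module.free_of_lTensor_residueField_injective (dbar P n) (toC P n) (toC_surjective P n) (dbar_exact P n) hinj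
  haveI : Module.Projective A (C P n) := Module.Projective.of_free
  have hproj : Projective (ModuleCat.of A (C P n)) := (IsProjective.iff_projective _).1 inferInstance
  have key : ∀ k j, j + k = n → HasProjectiveDimensionLT (ModuleCat.of A (C P j)) (k + 1) := by
    intro k
    induction k with
    | zero =>
      intro j hj
      obtain rfl : j = n := hj
      exact projective_iff_hasProjectiveDimensionLT_one.1 hproj
    | succ k ih =>
      intro j hj
      let T : ShortComplex (ModuleCat.{u} A) := ShortComplex.mk (ModuleCat.ofHom (dbar P j)) (ModuleCat.ofHom (toC P j))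
        (ModuleCat.hom_ext (dbar_exact P j).linearMap_comp_eq_zero)
      have hT : T.ShortExact :=
        { exact := (ShortComplex.ShortExact.moduleCat_exact_iff_function_exact _).2 (dbar_exact P j)
          mono_f := (ModuleCat.mono_iff_injective _).2 (dbar_injective P j)
          epi_g := (ModuleCat.epi_iff_surjective _).2 (toC_surjective P j) }
      haveI : Projective T.X₂ := P.projective j
      exact (hT.hasProjectiveDimensionLT_X₃_iff k inferInstance).2 (ih (j + 1) (by omega))
  haveI := key n 0 (zero_add n)
  exact hasProjectiveDimensionLT_of_iso (e0 P).toModuleIso (n + 1)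

end Groth.Agent.S5809
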