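import Groth.Statements.S5815
import Mathlib


set_option autoImplicit false
universe u
open EGA41

namespace Groth.Agent.S5815

/-- Discrete case. A commutative A-algebra B is formally smooth if and only if every A-extension of B by
a B-module L is trivial (has an A-algebra section). A and B are taken in one universe and L ranges
over that universe. (The published statement is for topological rings, with direct-limit classes of
extensions; this row is its discrete case.) -/
theorem result (A B : Type u) [CommRing A] [CommRing B] [Algebra A B] :
    Algebra.FormallySmooth A B ↔
      ∀ (L : Type u) [AddCommGroup L] [Module B L] (X : Exal.Ext A B L), X.IsTrivial := by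
  constructor
  · intro h L _ _ X
    have hI : RingHom.ker X.proj ^ 2 = ⊥ := by
      rw [pow_two, eq_bot_iff, Ideal.mul_le]
      intro r hr s hs
      obtain ⟨z, rfl⟩ := (X.isExtension.exact s).mp hs
      rw [Submodule.mem_bot, X.isExtension.mul_incl, show X.proj r = 0 from hr, zero_smul, map_zero]
    obtain ⟨v, hv⟩ := Algebra.FormallySmooth.comp_surjective A B _ hI
      (Ideal.quotientKerAlgEquivOfSurjective X.isExtension.proj_surjective).symm.toAlgHom
    refine ⟨v, fun b => ?_⟩
    have h1 := congrArg (Ideal.quotientKerAlgEquivOfSurjective X.isExtension.proj_surjective)
      (AlgHom.congr_fun hv b)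
    simpa using h1
  · intro h
    let P := Algebra.Generators.self A B
    let f := IsScalarTower.toAlgHom A P.Ring B
    rw [Algebra.FormallySmooth.iff_split_surjection f P.algebraMap_surjective]
    have surj : Function.Surjective f.kerSquareLift :=
      Ideal.Quotient.lift_surjective_of_surjective _ _ P.algebraMap_surjective
    set I := RingHom.ker f.kerSquareLift.toRingHom
    have hI : I ^ 2 = ⊥ := by
      show RingHom.ker f.kerSquareLift.toRingHom ^ 2 = ⊥
      rw [AlgHom.ker_kerSquareLift, Ideal.cotangentIdeal_square]
    have hmul : ∀ a ∈ I, ∀ b ∈ I, a * b = 0 := fun a ha b hb => by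
      have := Ideal.mul_mem_mul ha hb
      rw [← pow_two, hI] at this
      exact this
    let act : B →+* AddMonoid.End I := f.kerSquareLift.toRingHom.liftOfSurjective surj
      ⟨Module.toAddMonoidEnd _ I, fun a ha => by
        rw [RingHom.mem_ker]
        ext ⟨b, hb⟩
        exact hmul a ha b hb⟩
    letI : Module B I := Module.compHom I act
    obtain ⟨s, hs⟩ := h I
      { E := _
        proj := f.kerSquareLift
        incl := (I.subtype).toAddMonoidHom
        isExtension :=
          { proj_surjective := surj
            incl_injective := Subtype.val_injective
            exact := fun x => ⟨fun hx => ⟨⟨x, hx⟩, rfl⟩, fun ⟨z, hz⟩ => hz ▸ z.2⟩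
            mul_incl := fun x z => by
              show x * (z : _) = ((act (f.kerSquareLift x)) z : _)
              rw [show act (f.kerSquareLift x) = Module.toAddMonoidEnd _ I x from
                RingHom.liftOfRightInverse_comp_apply _ _ _ _ x]
              rfl } }
    exact ⟨s, AlgHom.ext hs⟩

end Groth.Agent.S5815
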