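import Groth.Statements.S5831
import Mathlib

set_option autoImplicit false
set_option backward.isDefEq.respectTransparency.types false
set_option maxHeartbeats 1000000
set_option linter.all false
universe u
open EGA41

namespace Groth.Agent.S5831
open Groth.Agent

/-- Discrete case. Let B be an A-algebra which is a projective A-module (A and B in one universe). If
for every B-module L in that universe every A-bilinear symmetric Hochschild 2-cocycle B × B → L is a
coboundary, then B is formally smooth over A. (The published statement assumes B formally projective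
as a topological A-module; for discrete rings this is projectivity.) -/
theorem result {A B : Type u} [CommRing A]
    [CommRing B] [Algebra A B] [Module.Projective A B]
    (h : ∀ (L : Type u) [AddCommGroup L] [Module B L] [Module A L] [IsScalarTower A B L]
      (f : B →ₗ[A] B →ₗ[A] L), (∀ x y : B, f x y = f y x) →
        (∀ x y z : B, f (x * y) z + z • f x y = x • f y z + f x (y * z)) →
          ∃ g : B →ₗ[A] L, ∀ x y : B, f x y = x • g y - g (x * y) + y • g x) :
    Algebra.FormallySmooth A B := by
    let f0 : MvPolynomial B A →ₐ[A] B := MvPolynomial.aeval id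
    have hf0 : Function.Surjective f0 := fun b => ⟨MvPolynomial.X b, MvPolynomial.aeval_X _ _⟩
    let q := f0.kerSquareLift
    have hq : Function.Surjective q := Ideal.Quotient.lift_surjective_of_surjective _ _ hf0
    obtain ⟨s, hs⟩ := Module.projective_lifting_property q.toLinearMap LinearMap.id hq
    have hqs : ∀ b, q (s b) = b := fun b => congr($hs b)
    let K : Submodule A (MvPolynomial B A ⧸ RingHom.ker f0.toRingHom ^ 2) := LinearMap.ker q.toLinearMap
    have hsq : ∀ k l : MvPolynomial B A ⧸ RingHom.ker f0.toRingHom ^ 2, q k = 0 → q l = 0 → k * l = 0 := by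
      intro k l hk hl
      obtain ⟨k, rfl⟩ := Ideal.Quotient.mk_surjective k
      obtain ⟨l, rfl⟩ := Ideal.Quotient.mk_surjective l
      rw [← map_mul, Ideal.Quotient.eq_zero_iff_mem, pow_two]
      exact Ideal.mul_mem_mul hk hl
    have hs1 : ∀ k, q k = 0 → s 1 * k = k := fun k hk => by
      have h := hsq (s 1 - 1) k (by rw [map_sub, hqs, map_one, sub_self]) hk
      rwa [sub_mul, one_mul, sub_eq_zero] at h
    have hsm : ∀ (x y : B) (k : MvPolynomial B A ⧸ RingHom.ker f0.toRingHom ^ 2), q k = 0 → s (x * y) * k = s x * (s y * k) := fun x y k hk => by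
      have h := hsq (s (x * y) - s x * s y) k (by rw [map_sub, map_mul q, hqs, hqs, hqs, sub_self]) hk
      rwa [sub_mul, sub_eq_zero, mul_assoc] at h
    letI : Module B K :=
      { smul := fun b k => ⟨s b * k.1, LinearMap.mem_ker.2 (by rw [AlgHom.toLinearMap_apply, map_mul, show q k.1 = 0 from k.2, mul_zero])⟩
        one_smul := fun k => Subtype.ext (hs1 k.1 k.2)
        mul_smul := fun x y k => Subtype.ext (hsm x y k.1 k.2)
        smul_zero := fun b => Subtype.ext (mul_zero _)
        smul_add := fun b k l => Subtype.ext (mul_add _ _ _)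
        add_smul := fun x y k => Subtype.ext (by show s (x + y) * k.1 = s x * k.1 + s y * k.1; rw [map_add, add_mul])
        zero_smul := fun k => Subtype.ext (by show s 0 * k.1 = 0; rw [map_zero, zero_mul]) }
    haveI : IsScalarTower A B K := ⟨fun a b k => Subtype.ext (by show s (a • b) * k.1 = a • (s b * k.1); rw [map_smul, smul_mul_assoc])⟩
    let f : B →ₗ[A] B →ₗ[A] K := LinearMap.mk₂ A
      (fun x y => ⟨s x * s y - s (x * y), LinearMap.mem_ker.2 (by rw [AlgHom.toLinearMap_apply, map_sub, map_mul q, hqs, hqs, hqs, sub_self])⟩)
      (fun x x' y => Subtype.ext (by show s (x + x') * s y - s ((x + x') * y) = (s x * s y - s (x * y)) + (s x' * s y - s (x' * y)); rw [add_mul x x' y, map_add, map_add]; ring))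
      (fun a x y => Subtype.ext (by show s (a • x) * s y - s ((a • x) * y) = a • (s x * s y - s (x * y)); rw [smul_mul_assoc a x y, map_smul, map_smul, smul_sub, smul_mul_assoc]))
      (fun x y y' => Subtype.ext (by show s x * s (y + y') - s (x * (y + y')) = (s x * s y - s (x * y)) + (s x * s y' - s (x * y')); rw [mul_add x y y', map_add, map_add]; ring))
      (fun a x y => Subtype.ext (by show s x * s (a • y) - s (x * (a • y)) = a • (s x * s y - s (x * y)); rw [mul_smul_comm a x y, map_smul, map_smul, smul_sub, mul_smul_comm]))
    obtain ⟨g, hg⟩ := h K f (fun x y => Subtype.ext (by show s x * s y - s (x * y) = s y * s x - s (y * x); rw [mul_comm x y, mul_comm (s x)]))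
      (fun x y z => Subtype.ext (by
        show (s (x * y) * s z - s (x * y * z)) + s z * (s x * s y - s (x * y)) = s x * (s y * s z - s (y * z)) + (s x * s (y * z) - s (x * (y * z)))
        rw [mul_assoc x y z]; ring))
    let φ : B →ₗ[A] MvPolynomial B A ⧸ RingHom.ker f0.toRingHom ^ 2 := s - K.subtype ∘ₗ g
    have hqφ : ∀ b, q (φ b) = b := fun b => by
      show q (s b - (g b).1) = b
      rw [map_sub, hqs, show q (g b).1 = 0 from (g b).2, sub_zero]
    have hmul : ∀ x y, φ (x * y) = φ x * φ y := fun x y => by
      have h1 : s x * s y - s (x * y) = s x * (g y).1 - (g (x * y)).1 + s y * (g x).1 := congrArg Subtype.val (hg x y)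
      have h2 := hsq (g x).1 (g y).1 (g x).2 (g y).2
      show s (x * y) - (g (x * y)).1 = (s x - (g x).1) * (s y - (g y).1)
      linear_combination -h1 - h2
    have h1 : φ 1 = 1 := by
      have h2 := hsq (φ 1 - 1) (φ 1 - 1) (by rw [map_sub, hqφ, map_one, sub_self]) (by rw [map_sub, hqφ, map_one, sub_self])
      have h3 := hmul 1 1
      rw [mul_one] at h3
      linear_combination -h2 - h3
    exact Algebra.FormallySmooth.of_split f0 (AlgHom.ofLinearMap φ h1 hmul) (AlgHom.ext hqφ)

end Groth.Agent.S5831
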