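import Groth.Statements.S5840
import Groth.Agent.Lib.H6.ZExact

set_option autoImplicit false
set_option backward.isDefEq.respectTransparency.types false
set_option linter.all false
universe u
open ZClos

namespace Groth.Agent.S5840
open Groth.Agent

open CategoryTheory CategoryTheory.Limits AlgebraicGeometry in
/-- For a locally Noetherian scheme X and a subset Z of X stable under specialization, the Z-closure
functor F ↦ H⁰_{X/Z}(F) on O_X-modules (the filtered colimit, over the closed subsets T of X inside
Z, of the direct images of the restrictions of F to X ∖ T) is left exact: it preserves finite
limits. -/
theorem result (X : Scheme.{u}) [IsLocallyNoetherian X] (Z : Set X)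
    (hZ : StableUnderSpecialization Z) : PreservesFiniteLimits (ZClos.H0 Z) := by
  exact H6.ZExact.preservesFiniteLimits_H0

end Groth.Agent.S5840
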