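import Groth.Statements.S5848
import Groth.Agent.Lib.H6.ZApps

set_option autoImplicit false
set_option backward.isDefEq.respectTransparency.types false
set_option linter.all false
universe u
open ZClos

namespace Groth.Agent.S5848
open Groth.Agent

open CategoryTheory CategoryTheory.Limits AlgebraicGeometry in
/-- For a locally Noetherian scheme X, subsets Z' ⊆ Z of X both stable under specialization and an
O_X-module F: if F is Z-pure then F is Z'-pure, and if F is Z-closed then F is Z'-closed. -/
theorem result (X : Scheme.{u}) [IsLocallyNoetherian X] (Z Z' : Set X)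
    (hZ : StableUnderSpecialization Z) (hZ' : StableUnderSpecialization Z') (h : Z' ⊆ Z) (F : X.Modules) :
    (ZClos.IsZPure Z F → ZClos.IsZPure Z' F) ∧ (ZClos.IsZClosed Z F → ZClos.IsZClosed Z' F) := by
  constructor
  · rw [H6.ZApps.isZPure_iff, H6.ZApps.isZPure_iff]
    exact fun hF T V hV => hF ⟨T.1, T.2.trans h⟩ V hV
  · rw [H6.ZApps.isZClosed_iff, H6.ZApps.isZClosed_iff]
    exact fun hF T V hV => hF ⟨T.1, T.2.trans h⟩ V hV

end Groth.Agent.S5848
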