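import Groth.Statements.S5856
import Groth.Agent.Lib.H6.ZPoint

set_option autoImplicit false
set_option backward.isDefEq.respectTransparency.types false
set_option maxHeartbeats 1000000
set_option linter.all false
universe u
open ZClos

namespace Groth.Agent.S5856
open Groth.Agent

open CategoryTheory CategoryTheory.Limits AlgebraicGeometry in
/-- For a locally Noetherian scheme X, a subset Z of X stable under specialization, a coherent
O_X-module F and a point x, F is Z-closed at x (the map induced on stalks at x by ρ_{X/Z} : F →
H⁰_{X/Z}(F) is bijective) if and only if the stalk F_{x'} has depth at least 2 over O_{X,x'} at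
every generization x' of x lying in Z. -/
theorem result (X : Scheme.{u}) [IsLocallyNoetherian X] (Z : Set X)
    (hZ : StableUnderSpecialization Z) (F : X.Modules) (hF : Coh.IsCoh F) (x : X) :
    ZClos.IsZClosedAt Z F x ↔
      ∀ x' : X, x' ⤳ x → x' ∈ Z → (2 : ℕ∞) ≤ LocCoh.depth (X.presheaf.stalk x') (F.presheaf.stalk x') := by
    haveI : F.IsQuasicoherent := hF.1
    haveI := hF.2
    exact ⟨fun h x' hs hz => H6.ZPoint.two_le_depth_of_bijective hZ h hs hz,
      fun h => ⟨H6.ZPoint.injective_rhoStalk hZ fun x' hs hz => le_trans (by norm_num) (h x' hs hz),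
        H6.ZPoint.surjective_rhoStalk hZ h⟩⟩

end Groth.Agent.S5856
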