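import Groth.Statements.S5857
import Groth.Agent.Lib.H6.ZPoint
import Groth.Agent.Lib.H6.ZApps

set_option autoImplicit false
set_option backward.isDefEq.respectTransparency.types false
set_option maxHeartbeats 1000000
set_option linter.all false
universe u
open ZClos

namespace Groth.Agent.S5857
open Groth.Agent

open CategoryTheory CategoryTheory.Limits AlgebraicGeometry in
/-- For a locally Noetherian scheme X, a subset Z of X stable under specialization and a coherent
O_X-module F whose Z-closure H⁰_{X/Z}(F) is coherent, the stalk of H⁰_{X/Z}(F) at every point of Z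
has depth at least 2. -/
theorem result (X : Scheme.{u}) [IsLocallyNoetherian X] (Z : Set X)
    (hZ : StableUnderSpecialization Z) (F : X.Modules) (hF : Coh.IsCoh F)
    (hH : Coh.IsCoh ((ZClos.H0 Z).obj F)) (x : X) (hx : x ∈ Z) :
    (2 : ℕ∞) ≤ LocCoh.depth (X.presheaf.stalk x) (((ZClos.H0 Z).obj F).presheaf.stalk x) := by
    haveI := hH.1
    haveI := hH.2
    have h1 : IsIso (ZClos.rhoApp Z ((ZClos.H0 Z).obj F)) := H6.ZApps.isZClosed_H0 F
    haveI : IsIso (Scheme.Modules.Hom.mapPresheaf (ZClos.rhoApp Z ((ZClos.H0 Z).obj F))) :=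
      inferInstanceAs (IsIso ((Scheme.Modules.toPresheaf X).map (ZClos.rhoApp Z ((ZClos.H0 Z).obj F))))
    have hb : Function.Bijective (ZClos.rhoStalk Z ((ZClos.H0 Z).obj F) x) := by
      rw [ZClos.rhoStalk]
      haveI := @Functor.map_isIso _ _ _ _ _ _ (TopCat.Presheaf.stalkFunctor (C := Ab.{u}) x) (Scheme.Modules.Hom.mapPresheaf (ZClos.rhoApp Z ((ZClos.H0 Z).obj F))) inferInstance
      exact (ConcreteCategory.isIso_iff_bijective _).1 this
    exact H6.ZPoint.two_le_depth_of_bijective hZ hb specializes_rfl hx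

end Groth.Agent.S5857
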