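import Groth.Statements.S5858
import Groth.Agent.Lib.H6.ZOpen
import Groth.Agent.S5857
import Groth.Agent.Lib.H2Depth
import Groth.Agent.Lib.H2DepthMore

set_option autoImplicit false
set_option backward.isDefEq.respectTransparency.types false
set_option maxHeartbeats 1000000
set_option linter.all false
universe u
open ZClos

namespace Groth.Agent.S5858
open Groth.Agent

open CategoryTheory CategoryTheory.Limits AlgebraicGeometry in
/-- For a locally Noetherian scheme X, a subset Z of X stable under specialization and a coherent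
O_X-module F whose Z-closure H⁰_{X/Z}(F) is coherent: for every associated point x of F outside Z
and every specialization y of x lying in Z, the closure of y has codimension at least 2 in the
closure of x, that is, the quotient of O_{X,y} by the prime ideal of the generization x has
dimension at least 2. -/
theorem result (X : Scheme.{u}) [IsLocallyNoetherian X] (Z : Set X)
    (hZ : StableUnderSpecialization Z) (F : X.Modules) (hF : Coh.IsCoh F)
    (hH : Coh.IsCoh ((ZClos.H0 Z).obj F))
    (x : X) (hx : x ∈ AssSch.Ass F) (hxZ : x ∉ Z) (y : X) (hy : y ∈ Z) (h : x ⤳ y) :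
    (2 : WithBot ℕ∞) ≤ ringKrullDim (X.presheaf.stalk y ⧸
      (IsLocalRing.maximalIdeal (X.presheaf.stalk x)).comap (X.presheaf.stalkSpecializes h).hom) := by
    haveI : F.IsQuasicoherent := hF.1
    haveI := hF.2
    haveI : ((ZClos.H0 Z).obj F).IsQuasicoherent := hH.1
    haveI := hH.2
    set G := (ZClos.H0 Z).obj F with hG
    haveI := H6.ZDepth.finite_stalk (F := G) y
    haveI := H6.ZDepth.finite_stalk (F := G) x
    obtain ⟨V, hV, hyV, -⟩ := exists_isAffineOpen_mem_and_subset (X := X) (x := y) (U := ⊤) trivial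
    haveI : IsNoetherianRing Γ(X, V) := IsLocallyNoetherian.component_noetherian ⟨V, hV⟩
    have hxV : x ∈ V := h.mem_open V.2 hyV
    have hass : (hV.primeIdealOf ⟨x, hxV⟩).asIdeal ∈ associatedPrimes Γ(X, V) Γ(G, V) := by
      by_contra hn
      have h1 := (H6.ZDepth.one_le_depth_iff_ass hV hxV).2 hn
      rw [H6.ZDepth.one_le_depth_iff] at h1
      obtain ⟨-, ξ, hξ⟩ := isAssociatedPrime_iff.1 (show IsAssociatedPrime (IsLocalRing.maximalIdeal (X.presheaf.stalk x)) (F.presheaf.stalk x) from hx)
      have hb : Function.Bijective (H6.ZOpen.st (ZClos.rhoApp Z F) x) := H6.ZApps.isZClosedAt_of_not_mem F hxZ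
      have h0 : H6.ZOpen.st (ZClos.rhoApp Z F) x ξ = 0 := h1 _ fun r hr => by
        have hr0 : r • ξ = 0 := by
          rw [hξ] at hr
          simpa using Submodule.mem_colon_singleton.1 hr
        rw [← H6.ZOpen.st_smul', hr0, map_zero]
      have hξ0 : ξ = 0 := hb.1 (h0.trans (map_zero _).symm)
      subst hξ0
      exact (IsLocalRing.maximalIdeal.isMaximal _).ne_top ((Ideal.eq_top_iff_one _).2 (hξ ▸ Submodule.mem_colon_singleton.2 (by simp)))
    obtain ⟨hq, w, hw⟩ := isAssociatedPrime_iff.1 hass
    set P := (IsLocalRing.maximalIdeal (X.presheaf.stalk x)).comap (X.presheaf.stalkSpecializes h).hom with hP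
    have hmem : ∀ c : Γ(X, V), H6.ZStalk.gO hyV c ∈ P ↔ c ∈ (hV.primeIdealOf ⟨x, hxV⟩).asIdeal := by
      intro c
      rw [← H6.ZDepth.mem_maximalIdeal_iff hV hxV, hP, Ideal.mem_comap]
      rw [show (X.presheaf.stalkSpecializes h).hom (H6.ZStalk.gO hyV c) = H6.ZStalk.gO hxV c from
        ConcreteCategory.congr_hom (TopCat.Presheaf.germ_stalkSpecializes X.presheaf hyV h) c]
    have hann : P ∈ associatedPrimes (X.presheaf.stalk y) (G.presheaf.stalk y) := by
      show IsAssociatedPrime P _
      rw [isAssociatedPrime_iff]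
      refine ⟨inferInstance, H6.ZStalk.gM G hyV w, ?_⟩
      ext r
      obtain ⟨u, c, hu, huc⟩ := H6.ZDepth.exists_eq_smul_O hV hyV r
      have hunit := H6.ZStalk.isUnit_gO hyV hu
      rw [Submodule.mem_colon_singleton, Submodule.mem_bot, ← hunit.smul_eq_zero, smul_smul,
        ← Ideal.unit_mul_mem_iff_mem (I := P) hunit, huc, ← H6.ZStalk.gM_smul, hmem, H6.ZStalk.gM_eq_zero_iff hV hyV]
      have hqy : (hV.primeIdealOf ⟨x, hxV⟩).asIdeal ≤ (hV.primeIdealOf ⟨y, hyV⟩).asIdeal :=
        (H6.ZStalk.specializes_iff hV hxV hyV).1 h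
      constructor
      · intro hc
        rw [hw] at hc
        exact ⟨1, fun h1 => (hV.primeIdealOf ⟨y, hyV⟩).isPrime.ne_top ((Ideal.eq_top_iff_one _).2 h1),
          by simpa using Submodule.mem_colon_singleton.1 hc⟩
      · rintro ⟨v, hv, hv0⟩
        have hvc : v * c ∈ (hV.primeIdealOf ⟨x, hxV⟩).asIdeal := by
          rw [hw]
          exact Submodule.mem_colon_singleton.2 (by simpa [mul_smul] using hv0)
        exact ((hV.primeIdealOf ⟨x, hxV⟩).isPrime.mem_or_mem hvc).resolve_left fun h' => hv (hqy h')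
    haveI : Nontrivial (G.presheaf.stalk y) := by
      rcases subsingleton_or_nontrivial (G.presheaf.stalk y) with hs | hn
      · obtain ⟨hP', v, hv⟩ := isAssociatedPrime_iff.1 hann
        exact absurd ((Ideal.eq_top_iff_one _).2 (hv ▸ Submodule.mem_colon_singleton.2 (by simpa using Subsingleton.elim v 0))) hP'.ne_top
      · exact hn
    have hd := Groth.Agent.S5857.result X Z hZ F hF hH y hy
    exact H2Depth.hasReg_le_dim_quotient (k := 2)
      ((H2Depth.hasReg_iff_le_idealDepth (H2DepthMore.smul_top_ne_top le_rfl)).2 hd) P hann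

end Groth.Agent.S5858
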