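import Groth.Statements.S5860
import Groth.Agent.Lib.H6.ZOpen
import Groth.Agent.S5857

set_option autoImplicit false
set_option backward.isDefEq.respectTransparency.types false
set_option maxHeartbeats 1000000
set_option linter.all false
universe u
open ZClos

namespace Groth.Agent.S5860
open Groth.Agent

open CategoryTheory CategoryTheory.Limits AlgebraicGeometry in
/-- Let X be a locally Noetherian scheme and F a coherent O_X-module with support all of X, having no
associated point at which the local ring of X has dimension 1, and such that F' = H⁰_{X/Z}(F) is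
coherent, Z = Z^(2)(X) being the set of points whose local ring has dimension at least 2. Then F'
satisfies (S_2): at every point x, depth(F'_x) ≥ min(2, dim F'_x). -/
theorem result (X : Scheme.{u}) [IsLocallyNoetherian X] (F : X.Modules) (hF : Coh.IsCoh F)
    (hsupp : ∀ x : X, Nontrivial (F.presheaf.stalk x))
    (hass : ∀ x ∈ AssSch.Ass F, ringKrullDim (X.presheaf.stalk x) ≠ 1)
    (hH : Coh.IsCoh ((ZClos.H0 (ZClos.dimGe X 2)).obj F)) (x : X) :
    min (2 : WithBot ℕ∞) (Module.supportDim (X.presheaf.stalk x) (((ZClos.H0 (ZClos.dimGe X 2)).obj F).presheaf.stalk x)) ≤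
      ((LocCoh.depth (X.presheaf.stalk x) (((ZClos.H0 (ZClos.dimGe X 2)).obj F).presheaf.stalk x) : ℕ∞) : WithBot ℕ∞) := by
    have hZ := H6.ZOpen.stable_dimGe (X := X) 2
    haveI : ((ZClos.H0 (ZClos.dimGe X 2)).obj F).IsQuasicoherent := hH.1
    haveI := hH.2
    haveI : IsNoetherianRing (X.presheaf.stalk x) := inferInstance
    by_cases hx : x ∈ ZClos.dimGe X 2
    · have h := Groth.Agent.S5857.result X _ hZ F hF hH x hx
      refine le_trans (min_le_left _ _) ?_
      show ((2 : ℕ∞) : WithBot ℕ∞) ≤ _
      exact WithBot.coe_le_coe.2 h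
    · have hb : Function.Bijective (ZClos.rhoStalk (ZClos.dimGe X 2) F x) := H6.ZApps.isZClosedAt_of_not_mem F hx
      obtain ⟨d, hd⟩ : ∃ d, ringKrullDim (X.presheaf.stalk x) = d := ⟨_, rfl⟩
      have hle := Module.supportDim_le_ringKrullDim (X.presheaf.stalk x) (((ZClos.H0 (ZClos.dimGe X 2)).obj F).presheaf.stalk x)
      rcases le_or_gt (ringKrullDim (X.presheaf.stalk x)) 0 with h0 | h0
      · refine le_trans (min_le_right _ _) (le_trans hle (le_trans h0 ?_))
        exact WithBot.coe_le_coe.2 (zero_le : (0 : ℕ∞) ≤ _)
      · have h1 : ringKrullDim (X.presheaf.stalk x) = 1 := by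
          have h2 : ringKrullDim (X.presheaf.stalk x) < ((2 : ℕ) : WithBot ℕ∞) := lt_of_not_ge hx
          revert h0 h2
          generalize ringKrullDim (X.presheaf.stalk x) = e
          intro h0 h2
          induction e using WithBot.recBotCoe with
          | bot => simp at h0
          | coe a =>
            induction a using ENat.recTopCoe with
            | top => simp at h2
            | coe n =>
              have h0' : 0 < n := by exact_mod_cast h0
              have h2' : n < 2 := Nat.cast_lt.1 (show (n : ℕ∞) < ((2 : ℕ) : ℕ∞) from WithBot.coe_lt_coe.1 h2)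
              have hn : n = 1 := by omega
              subst hn
              rfl
        refine le_trans (min_le_right _ _) (le_trans hle ?_)
        rw [h1]
        have key : (1 : ℕ∞) ≤ LocCoh.depth (X.presheaf.stalk x) (((ZClos.H0 (ZClos.dimGe X 2)).obj F).presheaf.stalk x) := by
          haveI := H6.ZDepth.finite_stalk (F := (ZClos.H0 (ZClos.dimGe X 2)).obj F) x
          rw [H6.ZDepth.one_le_depth_iff]
          intro w hw
          obtain ⟨ξ, rfl⟩ := hb.2 w
          by_contra hne
          have hξ : ∀ r ∈ IsLocalRing.maximalIdeal (X.presheaf.stalk x), r • ξ = 0 := fun r hr => hb.1 (by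
            rw [map_zero]
            exact (H6.ZOpen.st_smul' (ZClos.rhoApp (ZClos.dimGe X 2) F) r ξ).trans (hw r hr))
          refine hass x ?_ h1
          show IsAssociatedPrime (IsLocalRing.maximalIdeal (X.presheaf.stalk x)) (F.presheaf.stalk x)
          rw [isAssociatedPrime_iff]
          refine ⟨inferInstance, ξ, le_antisymm (fun r hr => Submodule.mem_colon_singleton.2 (by simp [hξ r hr])) ?_⟩
          refine IsLocalRing.le_maximalIdeal fun htop => hne ?_
          have h' : (1 : X.presheaf.stalk x) • ξ ∈ (⊥ : Submodule (X.presheaf.stalk x) (F.presheaf.stalk x)) :=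
            Submodule.mem_colon_singleton.1 (htop ▸ Submodule.mem_top)
          rw [one_smul, Submodule.mem_bot] at h'
          rw [h', map_zero]
        exact_mod_cast key

end Groth.Agent.S5860
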