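import Groth.Statements.S5862
import Groth.Prelude.Def_EGA4Misc
import Mathlib

set_option autoImplicit false
universe u
open RadPt

namespace Groth.Agent.S5862
open CategoryTheory CategoryTheory.Limits AlgebraicGeometry

open CategoryTheory AlgebraicGeometry in
/-- Let f : X → Y and g : Y → Z be morphisms of schemes and y a point of Y. If f is radicial at y (fibre
with at most one point, purely inseparable residue field extension) and g is radicial at g(y), then
g ∘ f is radicial at g(y). Conversely, if f is surjective and g ∘ f is radicial at g(y), then f is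
radicial at y and g is radicial at g(y). -/
theorem result {X Y Z : Scheme.{u}} (f : X ⟶ Y) (g : Y ⟶ Z) (y : Y) :
    (RadPt.IsRadicialAt f y → RadPt.IsRadicialAt g (g y) → RadPt.IsRadicialAt (f ≫ g) (g y)) ∧
      (Surjective f → RadPt.IsRadicialAt (f ≫ g) (g y) →
        RadPt.IsRadicialAt f y ∧ RadPt.IsRadicialAt g (g y)) := by
  open CategoryTheory CategoryTheory.Limits in
  have key : ∀ x : X, ((f ≫ g).residueFieldMap x).hom = (f.residueFieldMap x).hom.comp (g.residueFieldMap (f x)).hom := fun x => by
    rw [Scheme.residueFieldMap_comp]; rfl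
  constructor
  · intro hf hg
    have hfy : ∀ x : X, (f ≫ g) x = g y → f x = y := fun x hx => hg.1 _ _ hx rfl
    refine ⟨fun x x' hx hx' => hf.1 x x' (hfy x hx) (hfy x' hx'), fun x hx => ?_⟩
    rw [key]
    exact (hg.2 (f x) hx).comp (hf.2 x (hfy x hx))
  · intro hs hfg
    have hinj : ∀ x x' : X, f x = y → f x' = y → x = x' := fun x x' hx hx' =>
      hfg.1 x x' (show g (f x) = g y by rw [hx]) (show g (f x') = g y by rw [hx'])
    refine ⟨⟨hinj, fun x hx => ?_⟩, ⟨fun a b ha hb => ?_, fun a ha => ?_⟩⟩
    · have h := hfg.2 x (show g (f x) = g y by rw [hx])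
      rw [key] at h
      algebraize [(g.residueFieldMap (f x)).hom, (f.residueFieldMap x).hom, (f.residueFieldMap x).hom.comp (g.residueFieldMap (f x)).hom]
      haveI : IsPurelyInseparable (Z.residueField (g (f x))) (X.residueField x) := h
      exact IsPurelyInseparable.tower_top (Z.residueField (g (f x))) (Y.residueField (f x)) (X.residueField x)
    · obtain ⟨a', rfl⟩ := f.surjective a
      obtain ⟨b', rfl⟩ := f.surjective b
      rw [hfg.1 a' b' ha hb]
    · obtain ⟨x, rfl⟩ := f.surjective a
      have h := hfg.2 x ha
      rw [key] at h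
      algebraize [(g.residueFieldMap (f x)).hom, (f.residueFieldMap x).hom, (f.residueFieldMap x).hom.comp (g.residueFieldMap (f x)).hom]
      haveI : IsPurelyInseparable (Z.residueField (g (f x))) (X.residueField x) := h
      exact IsPurelyInseparable.tower_bot (Z.residueField (g (f x))) (Y.residueField (f x)) (X.residueField x)

end Groth.Agent.S5862
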