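import Groth.Statements.S5913
import Mathlib
import Groth.Agent.Lib.H4NoethTop


set_option autoImplicit false
universe u
open CategoryTheory AlgebraicGeometry
open EGA43

namespace Groth.Agent.S5913

/-- In the locally Noetherian form: a locally Noetherian scheme X is Jacobson if and only if it has no
subscheme isomorphic to the spectrum of a semi-local integral domain of dimension 1, i.e. there is
no immersion Spec R ⟶ X with R an integral domain having finitely many maximal ideals and Krull
dimension 1. -/
theorem result (X : Scheme.{u}) [IsLocallyNoetherian X] :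
    JacobsonSpace X ↔
      ∀ (R : CommRingCat.{u}) [IsDomain R] (i : Spec R ⟶ X) [IsImmersion i],
        ¬ (Finite (MaximalSpectrum R) ∧ ringKrullDim R = 1) := by
  constructor
  · intro hJ R _ i _ ⟨hfin, hd⟩
    haveI : JacobsonSpace (i.coborderRange : X.Opens) :=
      JacobsonSpace.of_isOpenEmbedding i.coborderRange.ι.isOpenEmbedding
    haveI : JacobsonSpace (PrimeSpectrum R) :=
      JacobsonSpace.of_isClosedEmbedding i.liftCoborder.isClosedEmbedding
    have h := H4NoethTop.not_semilocal_dim_one_of_jacobson (R := R) hfin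
    rw [hd] at h
    exact absurd h (by norm_num)
  · intro h
    rw [jacobsonSpace_iff_locallyClosed]
    intro Z hne hZ
    obtain ⟨x, hxZ, hx⟩ := H4NoethTop.exists_locallyClosed_point hZ hne
    refine ⟨x, hxZ, ?_⟩
    rw [mem_closedPoints_iff, ← closure_subset_iff_isClosed]
    intro y hy
    by_contra hne
    obtain ⟨_, ⟨V, hV, rfl⟩, hyV, -⟩ :=
      X.isBasis_affineOpens.exists_subset_of_mem_open (Set.mem_univ y) isOpen_univ
    haveI : IsNoetherianRing Γ(X, V) := IsLocallyNoetherian.component_noetherian ⟨V, hV⟩
    have hxy : x ⤳ y := specializes_iff_mem_closure.mpr hy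
    have hxV : x ∈ (V : Set X) := hxy.mem_open V.isOpen hyV
    rw [← hV.range_fromSpec] at hxV hyV
    obtain ⟨a, rfl⟩ := hxV
    obtain ⟨b, rfl⟩ := hyV
    have ha := H4NoethTop.isLocallyClosed_singleton_preimage hV.fromSpec.continuous
      hV.fromSpec.isOpenEmbedding.injective hx
    have hab : @LT.lt (PrimeSpectrum Γ(X, V)) _ a b := lt_of_le_of_ne
      ((PrimeSpectrum.le_iff_specializes _ _).mpr
        (hV.fromSpec.isOpenEmbedding.isInducing.specializes_iff.mp hxy))
      fun e => hne (congrArg hV.fromSpec e).symm
    haveI := a.2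
    haveI : IsClosedImmersion (Spec.map (CommRingCat.ofHom (Ideal.Quotient.mk a.asIdeal))) :=
      IsClosedImmersion.spec_of_surjective _ Ideal.Quotient.mk_surjective
    exact h (CommRingCat.of (Γ(X, V) ⧸ a.asIdeal))
      (Spec.map (CommRingCat.ofHom (Ideal.Quotient.mk a.asIdeal)) ≫ hV.fromSpec)
      (H4NoethTop.semilocal_dim_one ha hab)

end Groth.Agent.S5913
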