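import Groth.Statements.S5939
import Groth.Agent.Lib.H2Thick
import Mathlib

set_option autoImplicit false
universe u
open CategoryTheory AlgebraicGeometry
open Unram17

namespace Groth.Agent.S5939
open CategoryTheory CategoryTheory.Limits AlgebraicGeometry

/-- Let f : X ⟶ Y be faithfully flat, locally of finite presentation and quasi-compact, and let g : Y ⟶
Z be a morphism such that f ≫ g is of finite presentation (locally of finite presentation,
quasi-compact and quasi-separated). Then g is quasi-compact and quasi-separated; together with the
descent of local finite presentation along f this says that g is of finite presentation. This is the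
case f quasi-compact. -/
theorem result {X Y Z : Scheme.{u}} (f : X ⟶ Y) (g : Y ⟶ Z)
    [Surjective f] [Flat f] [LocallyOfFinitePresentation f] [QuasiCompact f]
    [LocallyOfFinitePresentation (f ≫ g)] [QuasiCompact (f ≫ g)] [QuasiSeparated (f ≫ g)] :
    QuasiCompact g ∧ QuasiSeparated g := by
  open CategoryTheory CategoryTheory.Limits in
  refine ⟨Groth.Agent.H2Thick.quasiCompact_cancel f g, ⟨?_⟩⟩
  have e : f ≫ pullback.diagonal g = pullback.diagonal (f ≫ g) ≫ pullback.map _ _ _ _ f f (𝟙 _) (by simp) (by simp) := by
    apply pullback.hom_ext <;> simp only [Category.assoc, pullback.diagonal_fst, pullback.diagonal_snd, pullback.lift_fst, pullback.lift_snd, pullback.lift_fst_assoc, pullback.lift_snd_assoc, pullback.diagonal_fst_assoc, pullback.diagonal_snd_assoc, Category.comp_id]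
  have : QuasiCompact (pullback.map (f ≫ g) (f ≫ g) g g f f (𝟙 _) (by simp) (by simp)) :=
    MorphismProperty.pullbackMap (P := @QuasiCompact) (inferInstance : QuasiCompact f) (inferInstance : QuasiCompact f) rfl rfl
  haveI := ‹QuasiSeparated (f ≫ g)›.1
  haveI : QuasiCompact (f ≫ pullback.diagonal g) := by rw [e]; infer_instance
  exact Groth.Agent.H2Thick.quasiCompact_cancel f (pullback.diagonal g)

end Groth.Agent.S5939
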