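import Groth.Statements.S6012
import Groth.Agent.Lib.LFibClv

set_option autoImplicit false
set_option backward.isDefEq.respectTransparency false
set_option backward.isDefEq.respectTransparency.types false
set_option linter.style.haveILetI false
open CategoryTheory
universe v₁ v₂ u₁ u₂
open FibCat FibCat.Cleavage

namespace Groth.Agent.S6012

/-- Let `K` be a cleavage of an arbitrary functor `p : 𝒳 ⥤ 𝒮` (one chosen cartesian lift of every base
morphism at every object over its target; `p` is not assumed fibred). Then `p` is a fibred category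
(composites of cartesian morphisms are cartesian) if and only if, for all composable base morphisms
`g : R ⟶ T` and `f : T ⟶ S`, the comparison natural transformation `c_{f,g}` from `g^* f^*` to
`(fg)^*` determined by `K` is an isomorphism. -/
theorem result (𝒮 : Type u₁) (𝒳 : Type u₂) [Category.{v₁} 𝒮] [Category.{v₂} 𝒳] (p : 𝒳 ⥤ 𝒮) (K : FibCat.Cleavage p) :
    p.IsFibered ↔ ∀ (R S T : 𝒮) (f : T ⟶ S) (g : R ⟶ T), IsIso (K.comp f g) := by
  have hiso : ∀ {R T : 𝒮} (f : R ⟶ T) {a b c : 𝒳} (φ : b ⟶ a) (ψ : c ⟶ a) [p.IsCartesian f φ] [p.IsCartesian f ψ],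
      IsIso (Functor.IsCartesian.map p f φ ψ) := fun f _ _ _ φ ψ _ _ =>
    inferInstanceAs (IsIso (Functor.IsCartesian.domainUniqueUpToIso p f φ ψ).hom)
  constructor
  · intro h R S T f g
    have : ∀ a, IsIso ((K.comp f g).app a) := fun a => by
      rw [LFib.isIso_fiber_iff]
      haveI : p.IsCartesian (g ≫ f) (K.lift (K.obj_proj a.2 f) g ≫ K.lift a.2 f) := Functor.IsFibered.comp g f _ _
      exact hiso (g ≫ f) (K.lift a.2 (g ≫ f)) (K.lift (K.obj_proj a.2 f) g ≫ K.lift a.2 f)
    exact NatIso.isIso_of_isIso_app _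
  · intro h
    refine { toIsPreFibered := K.isPreFibered, comp := fun {R T S} g f {a b c} φ ψ hφ hψ => ?_ }
    haveI := hφ; haveI := hψ
    have hc : p.obj c = S := IsHomLift.codomain_eq p f ψ
    let C' : p.Fiber S := ⟨c, hc⟩
    let e2 : b ≅ K.obj hc f := Functor.IsCartesian.domainUniqueUpToIso p f (K.lift hc f) ψ
    have he2 : e2.hom ≫ K.lift hc f = ψ := by simp [e2]
    haveI : p.IsHomLift (𝟙 T) e2.hom := inferInstance
    haveI : p.IsCartesian g (φ ≫ e2.hom) := inferInstance
    let e1 : a ≅ K.obj (K.obj_proj hc f) g := Functor.IsCartesian.domainUniqueUpToIso p g (K.lift (K.obj_proj hc f) g) (φ ≫ e2.hom)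
    have he1 : e1.hom ≫ K.lift (K.obj_proj hc f) g = φ ≫ e2.hom := by simp [e1]
    haveI : p.IsHomLift (𝟙 R) e1.hom := inferInstance
    haveI := h R S T f g
    let c0 : K.obj (K.obj_proj hc f) g ≅ K.obj hc (g ≫ f) := Functor.Fiber.fiberInclusion.mapIso (asIso ((K.comp f g).app C'))
    haveI : p.IsHomLift (𝟙 R) c0.hom := ((K.comp f g).app C').2
    have hc0 : c0.hom ≫ K.lift hc (g ≫ f) = K.lift (K.obj_proj hc f) g ≫ K.lift hc f := LFibClv.comp_app_fac K f g C'
    have hfin : (e1 ≪≫ c0).hom ≫ K.lift hc (g ≫ f) = φ ≫ ψ := by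
      rw [Iso.trans_hom, Category.assoc, hc0, ← Category.assoc, he1, Category.assoc, he2]
    rw [← hfin]
    haveI : p.IsHomLift (𝟙 R) (e1 ≪≫ c0).hom := by
      rw [Iso.trans_hom]; simpa using (inferInstance : p.IsHomLift (𝟙 R ≫ 𝟙 R) (e1.hom ≫ c0.hom))
    infer_instance

end Groth.Agent.S6012
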