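import Groth.Statements.S6013
import Groth.Agent.Lib.LFibClv

set_option autoImplicit false
set_option backward.isDefEq.respectTransparency false
set_option backward.isDefEq.respectTransparency.types false
set_option linter.style.haveILetI false
open CategoryTheory
universe v₁ v₂ u₁ u₂
open FibCat FibCat.Cleavage

namespace Groth.Agent.S6013

/-- Let `p : 𝒳 ⥤ 𝒮` be a fibred category with a cleavage `K`, and let `f : T ⟶ S` be an isomorphism of
the base. Then the inverse-image functor `f^*` of `K`, from the fibre over `S` to the fibre over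
`T`, is an equivalence of categories. -/
theorem result (𝒮 : Type u₁) (𝒳 : Type u₂) [Category.{v₁} 𝒮] [Category.{v₂} 𝒳] (p : 𝒳 ⥤ 𝒮) [p.IsFibered] (K : FibCat.Cleavage p)
    (S T : 𝒮) (f : T ⟶ S) [IsIso f] : (K.inverseImage f).IsEquivalence := by
  have hiso : ∀ (a : p.Fiber S), IsIso (K.lift a.2 f) := fun a => by
    haveI : p.IsStronglyCartesian f (K.lift a.2 f) := inferInstance
    exact Functor.IsStronglyCartesian.isIso_of_base_isIso p f (K.lift a.2 f)
  refine { faithful := ⟨fun {a b} {k l} e => ?_⟩, full := ⟨fun {a b} k => ?_⟩, essSurj := ⟨fun b => ?_⟩ }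
  · haveI := hiso a
    apply Functor.Fiber.hom_ext
    rw [← cancel_epi (K.lift a.2 f), ← LFibClv.inv_map_fac K f k, ← LFibClv.inv_map_fac K f l, e]
  · haveI := hiso a; haveI := hiso b
    haveI : p.IsHomLift (𝟙 T) (Functor.Fiber.fiberInclusion.map k) := k.2
    let A : K.obj a.2 f ⟶ K.obj b.2 f := Functor.Fiber.fiberInclusion.map k
    haveI : p.IsHomLift (𝟙 T) A := k.2
    haveI : p.IsHomLift (inv f) (inv (K.lift a.2 f)) := inferInstance
    haveI : p.IsHomLift (𝟙 S) (inv (K.lift a.2 f) ≫ A ≫ K.lift b.2 f) := by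
      simpa using (inferInstance : p.IsHomLift (inv f ≫ 𝟙 T ≫ f) (inv (K.lift a.2 f) ≫ A ≫ K.lift b.2 f))
    refine ⟨⟨inv (K.lift a.2 f) ≫ A ≫ K.lift b.2 f, this⟩, LFibClv.ext_lift K f b ?_⟩
    rw [LFibClv.inv_map_fac]
    exact IsIso.hom_inv_id_assoc _ _
  · obtain ⟨b, hb⟩ := b
    haveI : p.IsStronglyCartesian (inv f) (K.lift hb (inv f)) := inferInstance
    haveI : IsIso (K.lift hb (inv f)) := Functor.IsStronglyCartesian.isIso_of_base_isIso p (inv f) (K.lift hb (inv f))
    let a : p.Fiber S := ⟨K.obj hb (inv f), K.obj_proj hb (inv f)⟩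
    haveI := hiso a
    have hl : p.IsHomLift (𝟙 T) (K.lift a.2 f ≫ K.lift hb (inv f)) := by
      simpa using (inferInstance : p.IsHomLift (f ≫ inv f) (K.lift a.2 f ≫ K.lift hb (inv f)))
    let k : (K.inverseImage f).obj a ⟶ ⟨b, hb⟩ := ⟨K.lift a.2 f ≫ K.lift hb (inv f), hl⟩
    haveI : IsIso k := (LFib.isIso_fiber_iff k).2 (inferInstanceAs (IsIso (K.lift a.2 f ≫ K.lift hb (inv f))))
    exact ⟨a, ⟨asIso k⟩⟩

end Groth.Agent.S6013
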