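import Groth.Statements.S6019
import Mathlib

set_option autoImplicit false
set_option backward.isDefEq.respectTransparency false
set_option backward.isDefEq.respectTransparency.types false
set_option linter.style.haveILetI false
open CategoryTheory
universe v₁ v₂ u₁ u₂
open FibCat FibCat.Cleavage

namespace Groth.Agent.S6019

/-- A pre-fibred category admits a normalised cleavage: if every base morphism `R ⟶ p(a)` has a
cartesian morphism over it with target `a`, then one cartesian lift can be chosen for every base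
morphism at every object over its target in such a way that the chosen lift of each identity `𝟙 S`
at each object `a` over `S` is the identity of `a` (identities are transport morphisms). -/
theorem result (𝒮 : Type u₁) (𝒳 : Type u₂) [Category.{v₁} 𝒮] [Category.{v₂} 𝒳]
    (p : 𝒳 ⥤ 𝒮) [p.IsPreFibered] : ∃ K : FibCat.Cleavage p, K.IsNormalised := by
  classical
  have h : ∀ {R S : 𝒮} {a : 𝒳} (ha : p.obj a = S) (f : R ⟶ S),
      ∃ (b : 𝒳) (φ : b ⟶ a), p.IsCartesian f φ ∧ ((∃ e : R = S, f = eqToHom e) → ∃ e : b = a, φ = eqToHom e) := by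
    intro R S a ha f
    by_cases hf : ∃ e : R = S, f = eqToHom e
    · obtain ⟨rfl, rfl⟩ := hf
      haveI : p.IsHomLift (𝟙 R) (𝟙 a) := IsHomLift.id ha
      refine ⟨a, 𝟙 a, ?_, fun _ => ⟨rfl, rfl⟩⟩
      rw [eqToHom_refl]
      haveI : p.IsHomLift (𝟙 R) (Iso.refl a).hom := IsHomLift.id ha
      haveI := Functor.IsStronglyCartesian.of_iso p (𝟙 R) (Iso.refl a)
      exact inferInstanceAs (p.IsCartesian (𝟙 R) (Iso.refl a).hom)
    · obtain ⟨b, φ, hφ⟩ := IsPreFibered.exists_isCartesian p ha f
      exact ⟨b, φ, hφ, fun h => absurd h hf⟩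
  choose ob li hc hn using @h
  exact ⟨⟨fun ha f => ob ha f, fun ha f => li ha f, fun ha f => hc ha f⟩, fun S a ha => hn ha (𝟙 S) ⟨rfl, rfl⟩⟩

end Groth.Agent.S6019
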