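import Groth.Statements.S6057
import Mathlib

set_option autoImplicit false
set_option backward.isDefEq.respectTransparency.types false
open CategoryTheory
universe v₁ u₁
open ShfCat

namespace Groth.Agent.S6057

/-- Let `S` be an object whose representable presheaf is a sheaf for `J` and `φ : F ⟶ h_S` a morphism of
presheaves of sets. The relative presheaf on `C/S` (sections of `F` over `T` lying over the given `T
⟶ S`) is separated (resp. a sheaf) for the induced topology on `C/S` if and only if `F` is separated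
(resp. a sheaf). -/
theorem result {C : Type u₁} [Category.{v₁} C] (J : GrothendieckTopology C)
    {S : C} (hS : Presieve.IsSheaf J (yoneda.obj S)) {F : Cᵒᵖ ⥤ Type v₁} (φ : F ⟶ yoneda.obj S) :
    (Presieve.IsSeparated (J.over S) (ShfCat.relPsh φ) ↔ Presieve.IsSeparated J F) ∧
    (Presieve.IsSheaf (J.over S) (ShfCat.relPsh φ) ↔ Presieve.IsSheaf J F) := by
  have hpush : ∀ {T : Over S} (R : Sieve T) {Y : Over S} (g : Y ⟶ T), R g → (Sieve.overEquiv T R) g.left := fun R Y g hg => by
    rw [Sieve.overEquiv_iff]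
    have e : (Over.homMk g.left : Over.mk (g.left ≫ _) ⟶ _) = Over.homMk (U := Over.mk (g.left ≫ _)) (V := Y) (𝟙 _) (by simp) ≫ g := by ext; simp
    rw [e]
    exact R.downward_closed hg _
  have sepUp : Presieve.IsSeparated J F → Presieve.IsSeparated (J.over S) (ShfCat.relPsh φ) := by
    intro h T R hR x t t' ht ht'
    refine Subtype.ext ((h (Sieve.overEquiv T R) hR).ext fun Y g hg => ?_)
    rw [Sieve.overEquiv_iff] at hg
    exact congrArg Subtype.val ((ht _ hg).trans (ht' _ hg).symm)
  have phiEq : ∀ (T : C) (R : Sieve T), R ∈ J T → ∀ t t' : F.obj (Opposite.op T),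
      (∀ ⦃Y : C⦄ (g : Y ⟶ T), R g → F.map g.op t = F.map g.op t') → φ.app _ t = φ.app _ t' := by
    intro T R hR t t' h
    refine (hS R hR).isSeparatedFor.ext fun Y g hg => ?_
    show (yoneda.obj S).map g.op _ = (yoneda.obj S).map g.op _
    rw [← NatTrans.naturality_apply, ← NatTrans.naturality_apply, h g hg]
  have sepDown : Presieve.IsSeparated (J.over S) (ShfCat.relPsh φ) → Presieve.IsSeparated J F := by
    intro h T R hR x t t' ht ht'
    have e := phiEq T R hR t t' fun Y g hg => (ht g hg).trans (ht' g hg).symm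
    let A : Over S := Over.mk (φ.app (Opposite.op T) t)
    have hR' : (Sieve.overEquiv A).symm R ∈ (J.over S) A := J.overEquiv_symm_mem_over A R hR
    exact congrArg Subtype.val ((h _ hR').ext (t₁ := (⟨t, rfl⟩ : (ShfCat.relPsh φ).obj (Opposite.op A))) (t₂ := ⟨t', e.symm⟩)
      fun Y g hg => Subtype.ext ((ht g.left (by
        have := hpush _ g hg
        simpa using this)).trans (ht' g.left (by
        have := hpush _ g hg
        simpa using this)).symm))
  refine ⟨⟨sepDown, sepUp⟩, fun h => ?_, fun h => ?_⟩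
  · intro T R hR
    rw [← Presieve.isSeparatedFor_and_exists_isAmalgamation_iff_isSheafFor]
    refine ⟨sepDown h.isSeparated R hR, fun x hx => ?_⟩
    let y : Presieve.FamilyOfElements (yoneda.obj S) R.arrows := fun Y g hg => φ.app _ (x g hg)
    have hy : y.Compatible := hx.map φ
    obtain ⟨hom, hhom, -⟩ := hS R hR y hy
    let A : Over S := Over.mk (show T ⟶ S from hom)
    have hR' : (Sieve.overEquiv A).symm R ∈ (J.over S) A := J.overEquiv_symm_mem_over A R hR
    have hmem : ∀ ⦃Y : Over S⦄ (g : Y ⟶ A), ((Sieve.overEquiv A).symm R) g → R g.left := fun Y g hg => by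
      simpa using hpush _ g hg
    let z : Presieve.FamilyOfElements (ShfCat.relPsh φ) ((Sieve.overEquiv A).symm R).arrows :=
      fun Y g hg => ⟨x g.left (hmem g hg), (hhom g.left (hmem g hg)).symm.trans (Over.w g)⟩
    have hz : z.Compatible := fun Y₁ Y₂ Z g₁ g₂ f₁ f₂ h₁ h₂ e =>
      Subtype.ext (hx g₁.left g₂.left (hmem f₁ h₁) (hmem f₂ h₂) (congrArg (fun q => q.left) e))
    obtain ⟨t, ht, -⟩ := h _ hR' z hz
    refine ⟨t.1, fun Y g hg => ?_⟩
    let g' : Over.mk (g ≫ A.hom) ⟶ A := Over.homMk g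
    have hg' : ((Sieve.overEquiv A).symm R) g' := (Sieve.overEquiv_symm_iff R g').2 hg
    exact congrArg Subtype.val (ht g' hg')
  · intro T R hR
    rw [← Presieve.isSeparatedFor_and_exists_isAmalgamation_iff_isSheafFor]
    refine ⟨sepUp h.isSeparated R hR, fun x hx => ?_⟩
    have hx' : ∀ ⦃Y : C⦄ (g : Y ⟶ T.left) (hg : (Sieve.overEquiv T R) g), R (Over.homMk g : Over.mk (g ≫ T.hom) ⟶ T) :=
      fun Y g hg => (Sieve.overEquiv_iff R g).1 hg
    let z : Presieve.FamilyOfElements F (Sieve.overEquiv T R).arrows := fun Y g hg => (x _ (hx' g hg)).1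
    have hz : z.Compatible := fun Y₁ Y₂ Z g₁ g₂ f₁ f₂ h₁ h₂ e =>
      congrArg Subtype.val (hx (Z := Over.mk ((g₁ ≫ f₁) ≫ T.hom)) (Over.homMk g₁ (by simp) : Over.mk ((g₁ ≫ f₁) ≫ T.hom) ⟶ Over.mk (f₁ ≫ T.hom)) (Over.homMk g₂ (by simp [reassoc_of% e]) : Over.mk ((g₁ ≫ f₁) ≫ T.hom) ⟶ Over.mk (f₂ ≫ T.hom))
        (hx' f₁ h₁) (hx' f₂ h₂) (by ext; simpa using e))
    obtain ⟨t, ht, -⟩ := h _ hR z hz
    have he : φ.app (Opposite.op T.left) t = T.hom := by
      refine (hS (Sieve.overEquiv T R) hR).isSeparatedFor.ext fun Y g hg => ?_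
      show (yoneda.obj S).map g.op _ = _
      rw [← NatTrans.naturality_apply, ht g hg]
      exact (x _ (hx' g hg)).2
    refine ⟨⟨t, he⟩, fun Y g hg => Subtype.ext ?_⟩
    have hg' := hpush R g hg
    refine (ht g.left hg').trans ?_
    have key := congrArg Subtype.val (hx (Z := Over.mk (g.left ≫ T.hom)) (𝟙 _) (Over.homMk (𝟙 _) (by simp) : Over.mk (g.left ≫ T.hom) ⟶ Y) (hx' g.left hg') hg (by ext; simp))
    simpa [ShfCat.relPsh_map_val] using key

end Groth.Agent.S6057
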