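import Groth.Statements.S6058
import Mathlib
import Groth.Agent.Lib.H8MultOpenApps
import Groth.Agent.Lib.H8MultTorsionPts

set_option autoImplicit false
universe u
open TensorProduct SGA3b
open SGA3b

namespace Groth.Agent.S6058

/-- Let A be a Noetherian ring, separated and complete for the I-adic topology, and H = Spec C a
commutative affine A-group (C cocommutative) with C flat and of finite type over A, such that the
reduction H₀ = Spec ((A/I) ⊗ C) is an isotrivial (A/I)-group of multiplicative type and such that
for every n > 0 the kernel ₙH = Spec (C/Jₙ) of the n-th power map is finite over A (Jₙ the ideal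
generated by the image of the augmentation ideal under the n-th power endomorphism). Then H is an
isotrivial A-group of multiplicative type. (Affine group schemes over an affine base are taken in
Hopf-algebra form; base change is the tensor product.) -/
theorem result (A : Type u) [CommRing A] [IsNoetherianRing A] (I : Ideal A) [IsAdicComplete I A]
    (C : Type u) [CommRing C] [HopfAlgebra A C] [Coalgebra.IsCocomm A C] [Module.Flat A C] (hft : Algebra.FiniteType A C)
    (h0 : IsIsotrivial (A ⧸ I) ((A ⧸ I) ⊗[A] C))
    (hfin : ∀ n : ℕ, 0 < n → Module.Finite A (C ⧸ torsionIdeal A C n)) :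
    IsIsotrivial A C := by
  obtain ⟨e, he, heI, hH, hiso⟩ := Groth.Agent.H8MultOpen.exists_clopen I hft
    (fun q _ _ => Module.Flat.trans A C (Localization.AtPrime q)) h0
  haveI := hH
  have hJ : ∀ n : ℕ, 0 < n → e ∈ torsionIdeal A C n := by
    intro n hn
    haveI := hfin n hn
    refine Ideal.Quotient.eq_zero_iff_mem.mp (Groth.Agent.H8MultAdic.finite_separated I (C ⧸ torsionIdeal A C n) _ fun m => ?_)
    induction m with
    | zero =>
      rw [pow_zero, Ideal.one_eq_top, Submodule.top_smul]
      exact Submodule.mem_top
    | succ m ih =>
      rw [← he.eq, map_mul, pow_succ]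
      exact Groth.Agent.H8MultCore.mul_mem_smul_top ih (Groth.Agent.H8MultCore.map_smul_top_mem I
        (Ideal.Quotient.mkₐ A (torsionIdeal A C n)).toLinearMap ((Groth.Agent.H8MultCore.mem_map_iff I e).mp heI))
  refine Groth.Agent.H8MultOpenApps.isotrivial_of_span_zero (he.eq_zero_of_isNilpotent (mem_nilradical.mp ?_)) hiso
  rw [nilradical_eq_sInf]
  refine Submodule.mem_sInf.mpr fun (Q : Ideal C) (hQ : Q.IsPrime) => ?_
  let k := AlgebraicClosure Q.ResidueField
  let i : Q.ResidueField →ₐ[A] k := IsScalarTower.toAlgHom A Q.ResidueField k
  have h := Groth.Agent.H8MultTorsionPts.point_eq_zero hft e he hiso hJ k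
    (i.comp (IsScalarTower.toAlgHom A C Q.ResidueField))
  exact Ideal.algebraMap_residueField_eq_zero.mp (i.toRingHom.injective (h.trans (map_zero i).symm))

end Groth.Agent.S6058
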