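import Groth.Statements.S6126
import Mathlib

set_option autoImplicit false
set_option backward.isDefEq.respectTransparency.types false
set_option maxHeartbeats 1000000
set_option linter.all false
open CategoryTheory CategoryTheory.Limits
universe v₁ u₁
open SGA4

namespace Groth.Agent.S6126
open Groth.Agent

/-- Let `E` be a category with `v₁`-small hom-sets admitting a separating family of objects `G t`
indexed by a `v₁`-small type, in which every object admits a monomorphism into an injective object.
Assume that each coproduct `G t ⨿ G t` exists and that every morphism out of `G t ⨿ G t` factors as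
an effective epimorphism followed by a monomorphism. Then `E` admits a coseparating family of
injective objects indexed by a `v₁`-small type. (The published statement moreover bounds the size of
this family in terms of the hom-sets `Hom (G t', G t ⨿ G t)`; only existence is stated here. The
published statement speaks of generating and cogenerating families; its proof uses and produces
joint faithfulness of maps out of, resp. into, the family, which is the sense taken here.) -/
theorem result
    {E : Type u₁} [Category.{v₁} E] {ι : Type v₁} (G : ι → E)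
    (hG : (ObjectProperty.ofObj G).IsSeparating)
    [EnoughInjectives E] [∀ t, HasBinaryCoproduct (G t) (G t)]
    (hfac : ∀ (t : ι) (X : E) (f : G t ⨿ G t ⟶ X),
      ∃ (Y : E) (e : G t ⨿ G t ⟶ Y) (m : Y ⟶ X), EffectiveEpi e ∧ Mono m ∧ e ≫ m = f) :
    ∃ (κ : Type v₁) (H : κ → E),
      (∀ k, Injective (H k)) ∧ (ObjectProperty.ofObj H).IsCoseparating := by
    classical
    let rel : ∀ (t : ι) {Y : E} (e : G t ⨿ G t ⟶ Y),
        Set (Σ s : ι, (G s ⟶ G t ⨿ G t) × (G s ⟶ G t ⨿ G t)) := fun t Y e => {p | p.2.1 ≫ e = p.2.2 ≫ e}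
    let κ : Type v₁ := {p : Σ t : ι, Set (Σ s : ι, (G s ⟶ G t ⨿ G t) × (G s ⟶ G t ⨿ G t)) //
      ∃ (Y : E) (e : G p.1 ⨿ G p.1 ⟶ Y), EffectiveEpi e ∧ rel p.1 e = p.2}
    choose Yk ek hek hrel using fun k : κ => k.2
    refine ⟨κ, fun k => Injective.under (Yk k), fun k => inferInstance, ?_⟩
    intro A X f g hfg
    refine hG f g ?_
    intro G' hG' a
    obtain ⟨t⟩ := hG'
    obtain ⟨Y, e, m, he, hm, hem⟩ := hfac t X (coprod.desc (a ≫ f) (a ≫ g))
    let k : κ := ⟨⟨t, rel t e⟩, Y, e, he, rfl⟩
    have key : ∀ {Y₁ Y₂ : E} (e₁ : G t ⨿ G t ⟶ Y₁) (e₂ : G t ⨿ G t ⟶ Y₂), rel t e₁ = rel t e₂ →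
        ∀ {Z : E} (u v : Z ⟶ G t ⨿ G t), u ≫ e₁ = v ≫ e₁ → u ≫ e₂ = v ≫ e₂ := by
      intro Y₁ Y₂ e₁ e₂ h Z u v huv
      refine hG _ _ ?_
      intro G'' hG'' b
      obtain ⟨s⟩ := hG''
      have h1 : (⟨s, (b ≫ u, b ≫ v)⟩ : Σ s : ι, (G s ⟶ G t ⨿ G t) × (G s ⟶ G t ⨿ G t)) ∈ rel t e₁ := by
        simp [rel, huv]
      rw [h] at h1
      simpa [rel] using h1
    haveI := hek k
    haveI := he
    haveI := hm
    let φ := EffectiveEpi.desc e (ek k) (key e (ek k) (hrel k).symm)
    let ψ := EffectiveEpi.desc (ek k) e (key (ek k) e (hrel k))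
    have hφψ : φ ≫ ψ = 𝟙 Y := by
      rw [← cancel_epi e, ← Category.assoc, EffectiveEpi.fac, EffectiveEpi.fac, Category.comp_id]
    haveI : Mono φ := mono_of_mono_fac hφψ
    let h := Injective.factorThru (φ ≫ Injective.ι (Yk k)) m
    have hh : m ≫ h = φ ≫ Injective.ι (Yk k) := Injective.comp_factorThru _ _
    have h1 := hfg _ ⟨k⟩ h
    have h2 : coprod.inl ≫ e = coprod.inr ≫ e := by
      rw [← cancel_mono (φ ≫ Injective.ι (Yk k)), ← hh, Category.assoc, Category.assoc, ← Category.assoc e m,
        hem, ← Category.assoc, ← Category.assoc, coprod.inl_desc, coprod.inr_desc, Category.assoc, Category.assoc, h1]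
    calc a ≫ f = coprod.inl ≫ e ≫ m := by rw [hem, coprod.inl_desc]
      _ = coprod.inr ≫ e ≫ m := by rw [← Category.assoc, h2, Category.assoc]
      _ = a ≫ g := by rw [hem, coprod.inr_desc]

end Groth.Agent.S6126
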