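import Groth.Statements.S6128
import Mathlib

set_option autoImplicit false
set_option backward.isDefEq.respectTransparency.types false
open CategoryTheory
universe u
open SGA4

namespace Groth.Agent.S6128

/-- Let `u : C ⥤ C'` be a functor between small sites. If the right Kan extension along `u` of the
underlying presheaf of every sheaf of sets on `C` is a sheaf on `C'`, then `u` is cocontinuous: for
every object `Y` of `C` and every covering sieve `R` of `u Y`, the sieve of morphisms `g : Z ⟶ Y`
with `u g ∈ R` covers `Y`. -/
theorem result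
    {C : Type u} [SmallCategory C] {C' : Type u} [SmallCategory C']
    (J : GrothendieckTopology C) (J' : GrothendieckTopology C') (u : C ⥤ C')
    (h : ∀ G : Sheaf J (Type u), Presheaf.IsSheaf J' ((u.op.ran).obj G.obj)) :
    u.IsCocontinuous J J' := by
  refine ⟨fun {c} R hR => ?_⟩
  let G : Sheaf J (Type u) := ⟨(Functor.closedSieves J).toFunctor, (isSheaf_iff_isSheaf_of_type _ _).2 (classifier_isSheaf J)⟩
  have hran := (isSheaf_iff_isSheaf_of_type _ _).1 (h G) R hR
  let Y : C'ᵒᵖ ⥤ Type u := yoneda.obj (u.obj c)
  let adj := u.op.ranAdjunction (Type u)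
  let σ₁ : u.op ⋙ Y ⟶ G.obj :=
    { app := fun d => TypeCat.ofHom fun _ => ⟨(⊤ : Sieve d.unop), fun _ _ _ => trivial⟩
      naturality := fun d d' g => by ext x; exact Subtype.ext (Sieve.pullback_top (f := g.unop)).symm }
  let σ₂ : u.op ⋙ Y ⟶ G.obj :=
    { app := fun d => TypeCat.ofHom fun k => ⟨J.close ((R.pullback k).functorPullback u), J.close_isClosed _⟩
      naturality := fun d d' g => by
        ext k
        refine Subtype.ext ?_
        show J.close _ = (J.close ((R.pullback k).functorPullback u)).pullback g.unop
        rw [← J.pullback_close]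
        congr 1
        ext Z f
        show R (u.map f ≫ u.map g.unop ≫ k) ↔ R (u.map (f ≫ g.unop) ≫ k)
        rw [u.map_comp, Category.assoc] }
  have hσ : σ₁ = σ₂ := by
    apply (adj.homEquiv _ _).injective
    apply yonedaEquiv.injective
    refine hran.isSeparatedFor.ext fun e f hf => ?_
    have key : ∀ σ : u.op ⋙ Y ⟶ G.obj, ((u.op.ran).obj G.obj).map f.op (yonedaEquiv (adj.homEquiv _ _ σ)) =
        yonedaEquiv (adj.homEquiv _ _ (Functor.whiskerLeft u.op (yoneda.map f) ≫ σ)) := fun σ => by
      refine Eq.trans ?_ (congrArg yonedaEquiv (adj.homEquiv_naturality_left (yoneda.map f) σ).symm)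
      exact yonedaEquiv_naturality (adj.homEquiv _ _ σ) f
    rw [key, key]
    congr 2
    ext d k
    refine Subtype.ext ?_
    show (⊤ : Sieve d.unop) = J.close ((R.pullback (k ≫ f)).functorPullback u)
    rw [R.pullback_eq_top_of_mem (R.downward_closed hf k)]
    exact (top_le_iff.1 (le_trans (by intro Z g _; trivial) (J.le_close _))).symm
  have := congrArg Subtype.val (ConcreteCategory.congr_hom (NatTrans.congr_app hσ (Opposite.op c)) (𝟙 (u.obj c)))
  change (⊤ : Sieve c) = J.close ((R.pullback (𝟙 (u.obj c))).functorPullback u) at this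
  rw [Sieve.pullback_id] at this
  exact (J.close_eq_top_iff_mem _).1 this.symm

end Groth.Agent.S6128
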