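import Groth.Statements.S6133
import Mathlib

set_option autoImplicit false
set_option backward.isDefEq.respectTransparency.types false
set_option maxHeartbeats 1000000
set_option linter.all false
open CategoryTheory CategoryTheory.Limits
universe v₁ u₁
open SGA4

namespace Groth.Agent.S6133
open Groth.Agent

/-- Let `C` be a separating family of objects of `E` and let `i' : X' ⟶ X`, `i'' : X'' ⟶ X` be regular
monomorphisms (equalizers of pairs). If for every `T` with `C T` a morphism `T ⟶ X` factors through
`i'` exactly when it factors through `i''`, then `i'` and `i''` define the same subobject of `X`: a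
regular subobject is determined by the morphisms from objects of `C` that it contains. (The
published statement is for strict subobjects, of which regular ones are a special case, and for a
generating family in the sense of jointly reflecting isomorphisms, while the published proof uses
joint faithfulness; the row takes `C` separating.) -/
theorem result
    {E : Type u₁} [Category.{v₁} E] {C : ObjectProperty E} (hC : C.IsSeparating)
    {X X' X'' : E} (i' : X' ⟶ X) (i'' : X'' ⟶ X) [IsRegularMono i'] [IsRegularMono i'']
    (h : ∀ (T : E), C T → ∀ (g : T ⟶ X),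
      (∃ g' : T ⟶ X', g' ≫ i' = g) ↔ (∃ g'' : T ⟶ X'', g'' ≫ i'' = g)) :
    Subobject.mk i' = Subobject.mk i'' := by
  have key : ∀ {A B : E} (iA : A ⟶ X) (iB : B ⟶ X) [IsRegularMono iA], (∀ (T : E), C T → ∀ (g : T ⟶ B), ∃ g' : T ⟶ A, g' ≫ iA = g ≫ iB) → ∃ k : B ⟶ A, k ≫ iA = iB := by
    intro A B iA iB _ hf
    let rm := IsRegularMono.getStruct iA
    have : iB ≫ rm.left = iB ≫ rm.right := by
      refine hC _ _ fun T hT g => ?_
      obtain ⟨g', hg'⟩ := hf T hT g
      rw [← Category.assoc, ← hg', Category.assoc, rm.w, ← Category.assoc, hg', Category.assoc]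
    exact ⟨_, (RegularMono.lift' rm iB this).2⟩
  obtain ⟨k, hk⟩ := key i'' i' fun T hT g => (h T hT (g ≫ i')).1 ⟨g, rfl⟩
  obtain ⟨l, hl⟩ := key i' i'' fun T hT g => (h T hT (g ≫ i'')).2 ⟨g, rfl⟩
  exact le_antisymm (Subobject.mk_le_mk_of_comm k hk) (Subobject.mk_le_mk_of_comm l hl)

end Groth.Agent.S6133
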