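import Groth.Statements.S6139
-- import your own Groth.Agent.* helpers here

set_option autoImplicit false
set_option backward.isDefEq.respectTransparency.types false
open CategoryTheory CategoryTheory.Limits
universe v u
open SGA4

namespace Groth.Agent.S6139

/-- For an object `X` of a category `C`, the empty sieve on `X` is covering for the canonical topology
of `C` (the finest topology for which every representable presheaf is a sheaf) if and only if `X` is
a strict initial object: `X` is initial and every morphism with target `X` is an isomorphism. (The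
source phrases the first condition as: for some topology coarser than the canonical one the
associated sheaf of `h_X` is initial; that sheaf is initial exactly when the empty sieve covers `X`,
and coverage by the empty sieve passes to the finer canonical topology.) -/
theorem result
    {C : Type u} [Category.{v} C] (X : C) :
    (⊥ : Sieve X) ∈ Sheaf.canonicalTopology C X ↔
      (Nonempty (IsInitial X) ∧ ∀ (Y : C) (f : Y ⟶ X), IsIso f) := by
  constructor
  · intro h
    have hu : ∀ (Y : C) (f : Y ⟶ X) (W : C), ∃! t : Y ⟶ W, True := fun Y f W => by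
      have h' := (Sheaf.canonicalTopology C).pullback_stable f h
      have hs := Sheaf.isSheaf_yoneda_obj W _ h'
      obtain ⟨t, -, ht⟩ := hs (fun {Z} g (hg : (⊥ : Sieve X).arrows (g ≫ f)) => False.elim hg) (fun Y₁ Y₂ Z g₁ g₂ f₁ f₂ h₁ => False.elim h₁)
      exact ⟨t, trivial, fun s _ => ht s (fun Z g hg => False.elim hg)⟩
    let ini : ∀ (Y : C) (f : Y ⟶ X), IsInitial Y := fun Y f =>
      IsInitial.ofUniqueHom (fun W => (hu Y f W).choose) (fun W m => (hu Y f W).choose_spec.2 m trivial)
    exact ⟨⟨ini X (𝟙 X)⟩, fun Y f => ⟨(ini X (𝟙 X)).to Y, (ini Y f).hom_ext _ _, (ini X (𝟙 X)).hom_ext _ _⟩⟩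
  · rintro ⟨⟨hX⟩, h⟩
    apply Sheaf.mem_finestTopology_of_forall_isSheafFor
    rintro P ⟨W, rfl⟩ Y f x hx
    haveI := h Y f
    refine ⟨f ≫ hX.to W, fun Z g hg => False.elim hg, fun (t : Y ⟶ W) _ => ?_⟩
    show t = f ≫ hX.to W
    rw [← IsIso.inv_comp_eq]
    exact hX.hom_ext _ _

end Groth.Agent.S6139
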