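import Groth.Statements.S6182
import Groth.Agent.Lib.LTopos5

set_option autoImplicit false
open CategoryTheory CategoryTheory.Limits Opposite
universe u
open ToposFin

namespace Groth.Agent.S6182

open Groth.Agent.LTopos
set_option backward.isDefEq.respectTransparency false
set_option backward.isDefEq.respectTransparency.types false

/-- Let (C, J) and (D, K) be small sites with fibre products in which every object is quasi-compact, and
G : C -> D a continuous functor whose inverse-image functor on sheaves of sets f^* (the sheaf
pullback along G, from sheaves on C to sheaves on D) preserves finite limits, so that G is a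
morphism of sites and f a morphism of topoi. Then f is coherent: f^* sends quasi-compact objects to
quasi-compact objects and quasi-separated objects to quasi-separated objects. -/
theorem result {C D : Type u} [SmallCategory C] [SmallCategory D]
    [HasPullbacks C] [HasPullbacks D] (J : GrothendieckTopology C) (K : GrothendieckTopology D)
    (hC : ∀ X : C, ToposFin.IsQCSite J X) (hD : ∀ Y : D, ToposFin.IsQCSite K Y)
    (G : C ⥤ D) [Functor.IsContinuous G J K] [PreservesFiniteLimits (G.sheafPullback (Type u) J K)] :
    (∀ X : ToposFin.Sh J, ToposFin.IsQC X → ToposFin.IsQC ((G.sheafPullback (Type u) J K).obj X)) ∧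
      (∀ X : ToposFin.Sh J, ToposFin.IsQS X → ToposFin.IsQS ((G.sheafPullback (Type u) J K).obj X)) := by
  refine (preserves_qc_qs _ _ (G.sheafAdjunctionContinuous (Type u) J K) (eps_hE hD) (Set.range (eps J)) ?_ eps_gen).2 ?_
  · rintro _ ⟨A, rfl⟩; exact eps_coherent hC A
  · rintro _ ⟨A, rfl⟩
    obtain ⟨e⟩ := sheafPullback_eps_iso (J := J) K G A
    exact ⟨qc_of_iso e.symm (eps_qc hD _), qs_of_qshom e.hom (qshom_of_mono _) (eps_coherent hD _).2⟩

end Groth.Agent.S6182
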