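import Groth.Statements.S6263
import Mathlib

set_option autoImplicit false
universe u
open CAlg

namespace Groth.Agent.S6263

/-- For a ring map R → S and a finite S-module N which is flat as an R-module, generalizations lift
along the map from the support of N (a subset of Spec S) to Spec R: if p ≤ p' are primes of R and q'
is a prime of S in the support of N whose inverse image in R is p', then some prime q ≤ q' of S lies
in the support of N and has inverse image p. -/
theorem result {R S : Type u} [CommRing R] [CommRing S] [Algebra R S] (N : Type u) [AddCommGroup N] [Module S N] [Module R N] [IsScalarTower R S N] [Module.Finite S N] [Module.Flat R N] (p p' : Ideal R) [p.IsPrime] [p'.IsPrime] (hle : p ≤ p') (q' : PrimeSpectrum S) (hq' : q' ∈ Module.support S N) (hover : q'.asIdeal.under R = p') : ∃ q : PrimeSpectrum S, q ≤ q' ∧ q ∈ Module.support S N ∧ q.asIdeal.under R = p := by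
  classical
  let J : Ideal S := p.map (algebraMap R S)
  let Q := N ⧸ J • (⊤ : Submodule S N)
  let a : Ideal S := Module.annihilator S Q
  have hJa : J ≤ a := by
    intro j hj
    rw [Module.mem_annihilator]
    intro m
    obtain ⟨y, rfl⟩ := Submodule.Quotient.mk_surjective _ m
    rw [← Submodule.Quotient.mk_smul, Submodule.Quotient.mk_eq_zero]
    exact Submodule.smul_mem_smul hj Submodule.mem_top
  have hreg : ∀ r : R, r ∉ p → ∀ x : N, r • x ∈ J • (⊤ : Submodule S N) → x ∈ J • (⊤ : Submodule S N) := by
    intro r hr x hx
    have hres : (J • (⊤ : Submodule S N)).restrictScalars R = p • (⊤ : Submodule R N) := by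
      rw [Ideal.smul_restrictScalars, Submodule.restrictScalars_top]
    rw [← Submodule.restrictScalars_mem R, hres] at hx ⊢
    let e := TensorProduct.quotTensorEquivQuotSMul N p
    have hinj : Function.Injective (LinearMap.rTensor N (LinearMap.lsmul R (R ⧸ p) r)) := by
      refine Module.Flat.rTensor_preserves_injective_linearMap _ ((injective_iff_map_eq_zero _).mpr fun z hz => ?_)
      obtain ⟨z, rfl⟩ := Ideal.Quotient.mk_surjective z
      rw [LinearMap.lsmul_apply, Algebra.smul_def, Ideal.Quotient.algebraMap_eq, ← map_mul,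
        Ideal.Quotient.eq_zero_iff_mem] at hz
      exact Ideal.Quotient.eq_zero_iff_mem.mpr ((‹p.IsPrime›.mem_or_mem hz).resolve_left hr)
    have hsm : LinearMap.rTensor N (LinearMap.lsmul R (R ⧸ p) r) (e.symm (Submodule.Quotient.mk x)) =
        r • e.symm (Submodule.Quotient.mk x) := by
      rw [show LinearMap.lsmul R (R ⧸ p) r = r • LinearMap.id from LinearMap.ext fun z => by simp,
        LinearMap.rTensor_smul, LinearMap.rTensor_id]
      rfl
    rw [← map_smul, ← Submodule.Quotient.mk_smul, (Submodule.Quotient.mk_eq_zero _).mpr hx, map_zero] at hsm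
    have := hinj (hsm.trans (map_zero _).symm)
    rwa [LinearEquiv.map_eq_zero_iff, Submodule.Quotient.mk_eq_zero] at this
  let T : Submonoid S := q'.asIdeal.primeCompl ⊔ Submonoid.map (algebraMap R S) p.primeCompl
  have hdisj : Disjoint (a : Set S) T := by
    rw [Set.disjoint_left]
    rintro z hza hzT
    obtain ⟨s, hs, _, ⟨r, hr, rfl⟩, rfl⟩ := Submonoid.mem_sup.mp hzT
    have hsQ : ∀ x : N, s • x ∈ q'.asIdeal • (⊤ : Submodule S N) := by
      intro x
      have h1 := Module.mem_annihilator.mp hza (Submodule.Quotient.mk x)
      rw [← Submodule.Quotient.mk_smul, Submodule.Quotient.mk_eq_zero, mul_comm, mul_smul,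
        algebraMap_smul] at h1
      refine Submodule.smul_mono_left ?_ (hreg r hr _ h1)
      refine Ideal.map_le_iff_le_comap.mpr (hle.trans ?_)
      rw [← hover]
    have h2 : q' ∈ Module.support S (N ⧸ q'.asIdeal • (⊤ : Submodule S N)) := by
      rw [Module.support_quotient]
      exact ⟨hq', le_refl q'.asIdeal⟩
    refine hs (Module.mem_support_iff_of_finite.mp h2 (Module.mem_annihilator.mpr fun m => ?_))
    obtain ⟨x, rfl⟩ := Submodule.Quotient.mk_surjective _ m
    rw [← Submodule.Quotient.mk_smul, Submodule.Quotient.mk_eq_zero]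
    exact hsQ x
  obtain ⟨q, hq, haq, hqT⟩ := Ideal.exists_le_prime_disjoint a T hdisj
  refine ⟨⟨q, hq⟩, fun z hz => ?_, ?_, le_antisymm (fun r hr => ?_) fun r hr => ?_⟩
  · by_contra hc
    exact Set.disjoint_left.mp hqT hz (Submonoid.mem_sup_left hc)
  · exact Module.support_subset_of_surjective _ (Submodule.mkQ_surjective (J • (⊤ : Submodule S N)))
      (Module.mem_support_iff_of_finite.mpr haq)
  · by_contra hc
    exact Set.disjoint_left.mp hqT hr (Submonoid.mem_sup_right ⟨r, hc, rfl⟩)
  · exact haq (hJa (Ideal.mem_map_of_mem _ hr))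

end Groth.Agent.S6263
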