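import Groth.Statements.S6265
import Mathlib

set_option autoImplicit false
universe u
open CAlg

namespace Groth.Agent.S6265

/-- Let R → S be a ring map with the going-down property such that over every prime of R lies at most
one prime of S, and let p be a prime of R and q a prime of S above it. Then the localization S_p of
S at the image of R - p is a localization of S at q, i.e. S_p = S_q. -/
theorem result {R S : Type u} [CommRing R] [CommRing S] [Algebra R S] [Algebra.HasGoingDown R S] (hinj : ∀ q₁ q₂ : Ideal S, q₁.IsPrime → q₂.IsPrime → q₁.under R = q₂.under R → q₁ = q₂) (p : Ideal R) [p.IsPrime] (q : Ideal S) [q.IsPrime] [q.LiesOver p] : IsLocalization.AtPrime (Localization (Algebra.algebraMapSubmonoid S p.primeCompl)) q := by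
  have hle : Algebra.algebraMapSubmonoid S p.primeCompl ≤ q.primeCompl := by
    rintro _ ⟨a, ha, rfl⟩ hq
    exact ha (show a ∈ p by rw [q.over_def p]; exact hq)
  let L := Localization (Algebra.algebraMapSubmonoid S p.primeCompl)
  have hmax : ∀ Q : Ideal S, Q.IsPrime → Q.under R ≤ p → Q ≤ q := fun Q hQ hQp => by
    obtain ⟨q', hq'q, hq'p, hq'⟩ := Ideal.exists_ideal_le_liesOver_of_le (p := Q.under R) (q := p) q hQp
    exact (hinj Q q' hQ hq'p hq'.over).le.trans hq'q
  refine ⟨⟨fun y => ?_, fun z => ?_, fun {x y} h => ?_⟩⟩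
  · by_contra hu
    obtain ⟨M, hM, hyM⟩ := exists_max_ideal_of_mem_nonunits hu
    have hd := ((IsLocalization.isPrime_iff_isPrime_disjoint (Algebra.algebraMapSubmonoid S p.primeCompl) L M).mp hM.isPrime)
    refine y.2 (hmax _ hd.1 (fun a ha => ?_) hyM)
    by_contra hap
    exact Set.disjoint_left.mp hd.2 ⟨a, hap, rfl⟩ ha
  · obtain ⟨⟨a, s⟩, h⟩ := IsLocalization.surj (Algebra.algebraMapSubmonoid S p.primeCompl) z
    exact ⟨⟨a, ⟨s.1, hle s.2⟩⟩, h⟩
  · obtain ⟨c, hc⟩ := IsLocalization.exists_of_eq (M := Algebra.algebraMapSubmonoid S p.primeCompl) h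
    exact ⟨⟨c.1, hle c.2⟩, hc⟩

end Groth.Agent.S6265
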