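import Groth.Statements.S6266
import Mathlib
import Groth.Agent.Lib.PureIdeals
import Groth.Agent.S6354
import Groth.Agent.Lib.H6.DVRDom2
import Groth.Agent.Lib.FibreRankProjective

set_option autoImplicit false
universe u
open TensorProduct Module
open Groth.Agent.FibreRankProjective
open scoped TensorProduct
open CAlg

namespace Groth.Agent.S6266

/-- Let R be a reduced ring and M an R-module. Then M is a finite projective R-module if and only if M
is finitely generated and the function on Spec R sending a prime p to the dimension of κ(p) ⊗ M over
the residue field κ(p) is locally constant for the Zariski topology. -/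
theorem result (R : Type u) [CommRing R] [IsReduced R] (M : Type u) [AddCommGroup M] [Module R M] : (Module.Finite R M ∧ Module.Projective R M) ↔ (Module.Finite R M ∧ IsLocallyConstant (fun p : PrimeSpectrum R => Module.finrank p.asIdeal.ResidueField (p.asIdeal.ResidueField ⊗[R] M))) := by
  constructor
  · rintro ⟨hfin, hproj⟩
    haveI := hfin
    haveI := hproj
    haveI := Module.finitePresentation_of_projective R M
    refine ⟨hfin, ?_⟩
    show IsLocallyConstant (fr M)
    rw [show fr M = rankAtStalk (R := R) M from funext fun p => fr_of_projective M p]
    exact Module.isLocallyConstant_rankAtStalk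
  · rintro ⟨hfin, hlc⟩
    haveI := hfin
    exact ⟨hfin, projective_of_fr M hlc⟩

end Groth.Agent.S6266
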