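import Groth.Statements.S6267
import Mathlib
import Groth.Agent.Lib.UnivInjective

set_option autoImplicit false
universe u
open TensorProduct Groth.Agent
open CAlg

namespace Groth.Agent.S6267

/-- Let R be a ring and f : M → M' a map of R-modules with M' flat. Then f is universally injective
exactly when, for each finitely generated ideal I of R, the induced map M ⊗ R/I → M' ⊗ R/I (that is,
M/IM → M'/IM') is injective. -/
theorem result {R : Type u} [CommRing R] {M M' : Type u} [AddCommGroup M] [Module R M] [AddCommGroup M'] [Module R M'] [Module.Flat R M'] (f : M →ₗ[R] M') : CAlgX.UniversallyInjective R f ↔ ∀ I : Ideal R, I.FG → Function.Injective (f.rTensor (R ⧸ I)) := by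
  refine ⟨fun h I _ => h _, fun h => ?_⟩
  have hmod : ∀ (I : Ideal R), I.FG → ∀ w : M, f w ∈ I • (⊤ : Submodule R M') → w ∈ I • (⊤ : Submodule R M) := by
    intro I hI w hw
    have e : ∀ (X : Type u) [AddCommGroup X] [Module R X] (v : X), v ⊗ₜ[R] (1 : R ⧸ I) = 0 ↔ v ∈ I • (⊤ : Submodule R X) := by
      intro X _ _ v
      rw [← (TensorProduct.comm R X (R ⧸ I)).map_eq_zero_iff, ← (TensorProduct.quotTensorEquivQuotSMul X I).map_eq_zero_iff, ← Submodule.Quotient.mk_eq_zero]
      simp only [TensorProduct.comm_tmul]
      exact Iff.of_eq (congrArg (· = 0) ((TensorProduct.quotTensorEquivQuotSMul_mk_tmul I 1 v).trans (by simp)))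
    exact (e M w).mp (h I hI (by simpa using (e M' (f w)).mpr hw))
  have hinj : Function.Injective f := by
    intro a b hab
    have := hmod ⊥ Submodule.fg_bot (a - b) (by simp [hab])
    simpa [sub_eq_zero] using this
  have : Module.Flat R (M' ⧸ LinearMap.range f) := by
    rw [Module.Flat.iff_rTensor_injective]
    intro I hI
    rw [injective_iff_map_eq_zero]
    intro x hx
    obtain ⟨y, rfl⟩ := LinearMap.lTensor_surjective I (Submodule.mkQ_surjective (LinearMap.range f)) x
    let mult : ∀ (X : Type u) [AddCommGroup X] [Module R X], I ⊗[R] X →ₗ[R] X := fun X _ _ => (TensorProduct.lid R X).toLinearMap ∘ₗ (Submodule.subtype I).rTensor X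
    have hm : ∀ (X Y : Type u) [AddCommGroup X] [Module R X] [AddCommGroup Y] [Module R Y] (q : X →ₗ[R] Y) (v : I ⊗[R] X), q (mult X v) = mult Y (q.lTensor I v) := by
      intro X Y _ _ _ _ q v
      induction v with
      | zero => simp
      | tmul a b => simp [mult]
      | add a b ha hb => simp [ha, hb]
    have hrange : ∀ (X : Type u) [AddCommGroup X] [Module R X] (w : X), w ∈ I • (⊤ : Submodule R X) → ∃ v, mult X v = w := by
      intro X _ _ w hw
      refine Submodule.smul_induction_on hw (fun a ha b _ => ⟨⟨a, ha⟩ ⊗ₜ b, by simp [mult]⟩) ?_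
      rintro a b ⟨va, rfl⟩ ⟨vb, rfl⟩
      exact ⟨va + vb, map_add _ _ _⟩
    have hmem : ∀ v, mult M' v ∈ I • (⊤ : Submodule R M') := by
      intro v
      induction v with
      | zero => simp
      | tmul a b => simpa [mult] using Submodule.smul_mem_smul a.2 (Submodule.mem_top : b ∈ ⊤)
      | add a b ha hb => rw [map_add]; exact add_mem ha hb
    have h0 : (LinearMap.range f).mkQ (mult M' y) = 0 := by
      rw [hm]; simp [mult, hx]
    obtain ⟨w, hw⟩ := (Submodule.Quotient.mk_eq_zero _).mp h0
    obtain ⟨v, rfl⟩ := hrange M w (hmod I hI w (hw ▸ hmem y))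
    rw [hm] at hw
    have hy : f.lTensor I v = y := by
      apply Module.Flat.rTensor_preserves_injective_linearMap (M := M') (Submodule.subtype I) (Submodule.injective_subtype _)
      exact (TensorProduct.lid R M').injective hw
    rw [← hy]
    exact (lTensor_exact I (LinearMap.exact_map_mkQ_range f) (Submodule.mkQ_surjective _)).apply_apply_eq_zero v
  exact UI.of_flat_cokernel f _ hinj (LinearMap.exact_map_mkQ_range f) (Submodule.mkQ_surjective _)

end Groth.Agent.S6267
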