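import Groth.Statements.S6268
import Mathlib
import Groth.Agent.Lib.UnivInjective

set_option autoImplicit false
universe u
open TensorProduct Groth.Agent
open CAlg

namespace Groth.Agent.S6268

/-- Suppose the structure map R → S of an R-algebra S is universally injective as an R-linear map. Then
tensoring with S detects injectivity and surjectivity of R-linear maps (and hence reflects
isomorphisms): for an R-linear g : M → N, if S ⊗ g is injective then so is g, and if S ⊗ g is
surjective then so is g. -/
theorem result {R S : Type u} [CommRing R] [CommRing S] [Algebra R S] (hS : CAlgX.UniversallyInjective R (Algebra.linearMap R S)) {M N : Type u} [AddCommGroup M] [Module R M] [AddCommGroup N] [Module R N] (g : M →ₗ[R] N) : (Function.Injective (g.lTensor S) → Function.Injective g) ∧ (Function.Surjective (g.lTensor S) → Function.Surjective g) := by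
  have hι : ∀ (X : Type u) [AddCommGroup X] [Module R X], Function.Injective (fun x : X => (1 : S) ⊗ₜ[R] x) := by
    intro X _ _ a b hab
    have := hS X (a₁ := (TensorProduct.lid R X).symm a) (a₂ := (TensorProduct.lid R X).symm b) (by simpa using hab)
    exact (TensorProduct.lid R X).symm.injective this
  constructor
  · intro h a b hab
    exact hι M (h (by simpa using congrArg (fun v => (1 : S) ⊗ₜ[R] v) hab))
  · intro h
    rw [← LinearMap.range_eq_top]
    by_contra hne
    obtain ⟨y, -, hy⟩ := SetLike.exists_of_lt (lt_top_iff_ne_top.mpr hne)
    apply hy
    rw [← Submodule.Quotient.mk_eq_zero]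
    apply hι (N ⧸ LinearMap.range g)
    simp only [tmul_zero]
    obtain ⟨z, hz⟩ := h ((1 : S) ⊗ₜ y)
    have := (lTensor_exact S (LinearMap.exact_map_mkQ_range g) (Submodule.mkQ_surjective _)).apply_apply_eq_zero z
    rw [hz] at this
    simpa using this

end Groth.Agent.S6268
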