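import Groth.Statements.S6271
import Mathlib

set_option autoImplicit false
universe u
open scoped TensorProduct
open CAlg

namespace Groth.Agent.S6271

/-- Let R be a ring, I ⊆ R a locally nilpotent ideal (every element of I is nilpotent) and P̄ a finite
projective R/I-module. Then there is a finite projective R-module P such that P/IP (that is, R/I ⊗
P) is isomorphic to P̄ as an R/I-module. -/
theorem result {R : Type u} [CommRing R] (I : Ideal R) (hI : ∀ x ∈ I, IsNilpotent x) (Pb : Type u) [AddCommGroup Pb] [Module (R ⧸ I) Pb] [Module.Projective (R ⧸ I) Pb] [Module.Finite (R ⧸ I) Pb] : ∃ (P : Type u) (_ : AddCommGroup P) (_ : Module R P), Module.Projective R P ∧ Module.Finite R P ∧ Nonempty (((R ⧸ I) ⊗[R] P) ≃ₗ[R ⧸ I] Pb) := by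
  classical
  obtain ⟨N, f, hf⟩ := Module.Finite.exists_fin' (R ⧸ I) Pb
  obtain ⟨s, hs⟩ := Module.projective_lifting_property f LinearMap.id hf
  let e₀ : Matrix (Fin N) (Fin N) (R ⧸ I) := LinearMap.toMatrix' (s ∘ₗ f)
  let π : Matrix (Fin N) (Fin N) R →+* Matrix (Fin N) (Fin N) (R ⧸ I) := (Ideal.Quotient.mk I).mapMatrix
  have hker : ∀ A ∈ RingHom.ker π, IsNilpotent A := by
    intro A hA
    have hij : ∀ i j, A i j ∈ I := fun i j => Ideal.Quotient.eq_zero_iff_mem.mp (congrArg (fun B : Matrix (Fin N) (Fin N) (R ⧸ I) => B i j) (RingHom.mem_ker.mp hA))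
    let J : Ideal R := Ideal.span (Set.range fun ij : Fin N × Fin N => A ij.1 ij.2)
    obtain ⟨m, hm⟩ : IsNilpotent J := by
      refine (Ideal.FG.isNilpotent_iff_le_nilradical (Submodule.fg_span (Set.finite_range _))).mpr (Ideal.span_le.mpr ?_)
      rintro _ ⟨⟨i, j⟩, rfl⟩
      exact hI _ (hij i j)
    refine ⟨m, ?_⟩
    have hp : ∀ (m : ℕ) i j, (A ^ m) i j ∈ J ^ m := by
      intro m
      induction m with
      | zero => simp [Ideal.one_eq_top]
      | succ m ih =>
        intro i j
        rw [pow_succ A, Matrix.mul_apply, pow_succ J]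
        exact Submodule.sum_mem _ fun l _ => Ideal.mul_mem_mul (ih i l) (Ideal.subset_span ⟨(l, j), rfl⟩)
    ext i j
    have := hp m i j
    rwa [hm, Ideal.zero_eq_bot, Ideal.mem_bot] at this
  have hidem : IsIdempotentElem e₀ := by
    rw [IsIdempotentElem, ← LinearMap.toMatrix'_comp]
    congr 1
    ext1; ext1
    simp [show ∀ z, f (s z) = z from LinearMap.congr_fun hs]
  obtain ⟨e', he', hee⟩ := exists_isIdempotentElem_eq_of_ker_isNilpotent π hker e₀
    ⟨e₀.map (Function.surjInv Ideal.Quotient.mk_surjective), by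
      ext i j; exact Function.surjInv_eq Ideal.Quotient.mk_surjective _⟩ hidem
  let g : Module.End R (Fin N → R) := Matrix.toLin' e'
  have hg : g ∘ₗ g = g := by
    show Matrix.toLin' e' ∘ₗ Matrix.toLin' e' = Matrix.toLin' e'
    rw [← Matrix.toLin'_mul, he']
  let P := LinearMap.range g
  let i : P →ₗ[R] (Fin N → R) := P.subtype
  let r : (Fin N → R) →ₗ[R] P := g.rangeRestrict
  have hri : r ∘ₗ i = LinearMap.id := by
    ext1 ⟨_, z, rfl⟩
    exact Subtype.ext (LinearMap.congr_fun hg z)
  refine ⟨P, inferInstance, inferInstance, Module.Projective.of_split i r hri, Module.Finite.range g, ?_⟩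
  let E := TensorProduct.piScalarRight R (R ⧸ I) (R ⧸ I) (Fin N)
  have hgE : ∀ v, E (g.baseChange (R ⧸ I) (E.symm v)) = s (f v) := by
    have : E.toLinearMap ∘ₗ g.baseChange (R ⧸ I) ∘ₗ E.symm.toLinearMap = s ∘ₗ f := by
      rw [← Matrix.toLin'_toMatrix' (s ∘ₗ f)]
      refine LinearMap.pi_ext' fun j => LinearMap.ext_ring ?_
      have hE : E.symm (Pi.single j 1) = (1 : R ⧸ I) ⊗ₜ[R] Pi.single j 1 := by
        rw [LinearEquiv.symm_apply_eq]
        ext l
        rcases eq_or_ne l j with rfl | hl <;> simp [E, *]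
      ext l
      have hc : Ideal.Quotient.mk I (e' l j) = e₀ l j := congrArg (fun B : Matrix (Fin N) (Fin N) (R ⧸ I) => B l j) hee
      simp only [LinearMap.comp_apply, LinearEquiv.coe_coe, LinearMap.coe_single]
      rw [hE, LinearMap.baseChange_tmul]
      simp [E, g, Algebra.smul_def]
      rw [hc]
      simp [e₀, LinearMap.toMatrix'_apply]
    exact fun v => LinearMap.congr_fun this v
  let a := f ∘ₗ E.toLinearMap ∘ₗ i.baseChange (R ⧸ I)
  let b := r.baseChange (R ⧸ I) ∘ₗ E.symm.toLinearMap ∘ₗ s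
  have hir : ∀ z, i.baseChange (R ⧸ I) (r.baseChange (R ⧸ I) z) = g.baseChange (R ⧸ I) z := fun z => by
    rw [← LinearMap.comp_apply, ← LinearMap.baseChange_comp]; rfl
  have hri' : ∀ z, r.baseChange (R ⧸ I) (i.baseChange (R ⧸ I) z) = z := fun z => by
    rw [← LinearMap.comp_apply, ← LinearMap.baseChange_comp, hri, LinearMap.baseChange_id]; rfl
  have hfs : ∀ z, f (s z) = z := LinearMap.congr_fun hs
  refine ⟨LinearEquiv.ofLinear a b (LinearMap.ext fun z => ?_) (LinearMap.ext fun z => ?_)⟩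
  · show f (E (i.baseChange (R ⧸ I) (r.baseChange (R ⧸ I) (E.symm (s z))))) = z
    rw [hir, hgE, hfs, hfs]
  · show r.baseChange (R ⧸ I) (E.symm (s (f (E (i.baseChange (R ⧸ I) z))))) = z
    rw [← hgE, E.symm_apply_apply, E.symm_apply_apply, ← hir, hri', hri']

end Groth.Agent.S6271
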