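import Groth.Statements.S6273
import Mathlib
import Groth.Agent.Lib.TorsionFreeEmbed
import Groth.Agent.Lib.CAlgSmall1

set_option autoImplicit false
universe u
open TensorProduct Groth.Agent.TorsionFreeEmbed
open Groth.Agent.CAlgSmall1
open CAlg

namespace Groth.Agent.S6273

/-- Let R be a ring, S ⊆ R a multiplicative subset and A = S⁻¹R. If the image of Spec(A) → Spec(R) is
closed, then the localization map R → A is surjective; in particular A is isomorphic to R/I for the
ideal I = ker(R → A). -/
theorem result {R : Type u} [CommRing R] (S : Submonoid R) (A : Type u) [CommRing A] [Algebra R A] [IsLocalization S A] (hcl : IsClosed (Set.range (PrimeSpectrum.comap (algebraMap R A)))) : Function.Surjective (algebraMap R A) := by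
  have hrange := PrimeSpectrum.localization_comap_range A S
  have hclos : closure (Set.range (PrimeSpectrum.comap (algebraMap R A))) = PrimeSpectrum.zeroLocus (RingHom.ker (algebraMap R A) : Set R) :=
    PrimeSpectrum.closure_range_comap _
  rw [hcl.closure_eq] at hclos
  have hu : ∀ s ∈ S, ∃ a : R, algebraMap R A (a * s) = 1 := by
    intro s hs
    by_contra hc
    push_neg at hc
    have hne : RingHom.ker (algebraMap R A) ⊔ Ideal.span {s} ≠ ⊤ := by
      intro ht
      obtain ⟨k, hk, w, hw, e⟩ := Submodule.mem_sup.mp ((Ideal.eq_top_iff_one _).mp ht)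
      obtain ⟨a, rfl⟩ := Ideal.mem_span_singleton'.mp hw
      exact hc a (by rw [← map_one (algebraMap R A), ← e, map_add, RingHom.mem_ker.mp hk, zero_add])
    obtain ⟨m, hm, hle⟩ := Ideal.exists_le_maximal _ hne
    have hmem : (⟨m, hm.isPrime⟩ : PrimeSpectrum R) ∈ PrimeSpectrum.zeroLocus (RingHom.ker (algebraMap R A) : Set R) :=
      le_sup_left.trans hle
    rw [← hclos, hrange] at hmem
    exact Set.disjoint_left.mp hmem hs (hle (Ideal.mem_sup_right (Ideal.mem_span_singleton_self s)))
  intro z
  obtain ⟨⟨r, ⟨s, hs⟩⟩, rfl⟩ := IsLocalization.mk'_surjective S z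
  obtain ⟨a, ha⟩ := hu s hs
  refine ⟨r * a, (IsLocalization.mk'_eq_iff_eq_mul.mpr ?_).symm⟩
  rw [map_mul, mul_assoc, ← map_mul, ha, mul_one]

end Groth.Agent.S6273
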