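import Groth.Statements.S6275
import Mathlib

set_option autoImplicit false
universe u
open TensorProduct
open CAlg

namespace Groth.Agent.S6275

/-- Let R be a Noetherian ring and p ⊆ R a prime. Then there is f ∈ R, f ∉ p, such that R_f → R_p is
injective; equivalently every x ∈ R mapping to zero in R_p maps to zero in R_f. (The cases of a
domain and of a reduced ring with finitely many minimal primes are not included here.) -/
theorem result {R : Type u} [CommRing R] [IsNoetherianRing R] (p : Ideal R) [p.IsPrime] : ∃ f : R, f ∉ p ∧ ∀ x : R, algebraMap R (Localization.AtPrime p) x = 0 → algebraMap R (Localization.Away f) x = 0 := by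
  classical
  let K := RingHom.ker (algebraMap R (Localization.AtPrime p))
  obtain ⟨s, hs⟩ := IsNoetherian.noetherian K
  have : ∀ x ∈ s, ∃ c : p.primeCompl, (c : R) * x = 0 := fun x hx => by
    have hx' : x ∈ K := hs ▸ Submodule.subset_span hx
    exact (IsLocalization.map_eq_zero_iff p.primeCompl _ x).mp hx'
  choose c hc using this
  refine ⟨∏ x ∈ s.attach, (c x.1 x.2 : R), p.primeCompl.prod_mem fun x _ => (c x.1 x.2).2, fun x hx => ?_⟩
  have hle : K ≤ RingHom.ker (algebraMap R (Localization.Away (∏ x ∈ s.attach, (c x.1 x.2 : R)))) := by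
    show K ≤ _
    rw [← hs, Submodule.span_le]
    intro y hy
    refine (IsLocalization.map_eq_zero_iff (Submonoid.powers (∏ x ∈ s.attach, (c x.1 x.2 : R))) _ y).mpr ⟨⟨_, Submonoid.mem_powers _⟩, ?_⟩
    obtain ⟨d, hd⟩ := Finset.dvd_prod_of_mem (fun x : {a // a ∈ s} => (c x.1 x.2 : R)) (Finset.mem_attach s ⟨y, hy⟩)
    show (∏ x ∈ s.attach, (c x.1 x.2 : R)) * y = 0
    rw [hd, mul_right_comm, hc y hy, zero_mul]
  exact hle hx

end Groth.Agent.S6275
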