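import Groth.Statements.S6277
import Mathlib

set_option autoImplicit false
universe u
open CAlg

namespace Groth.Agent.S6277

/-- Any surjective ring endomorphism of a Noetherian ring is an isomorphism (bijective). -/
theorem result {R : Type u} [CommRing R] [IsNoetherianRing R] (f : R →+* R) (hf : Function.Surjective f) : Function.Bijective f := by
  refine ⟨?_, hf⟩
  have hs : ∀ n, Function.Surjective (f^[n]) := fun n => hf.iterate n
  let K : ℕ →o Ideal R := ⟨fun n => RingHom.ker (f^n), by
    refine monotone_nat_of_le_succ fun n x hx => ?_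
    simp only [RingHom.mem_ker, RingHom.coe_pow, Function.iterate_succ_apply'] at hx ⊢
    simp [hx]⟩
  obtain ⟨n, hn⟩ := monotone_stabilizes_iff_noetherian.mpr ‹IsNoetherianRing R› K
  rw [injective_iff_map_eq_zero]
  intro a ha
  obtain ⟨b, rfl⟩ := hs n a
  have : b ∈ K (n+1) := by
    simp only [K, OrderHom.coe_mk, RingHom.mem_ker, RingHom.coe_pow, Function.iterate_succ_apply']; exact ha
  rw [← hn (n+1) (by omega)] at this
  simpa [K] using this

end Groth.Agent.S6277
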