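import Groth.Statements.S6278
import Mathlib
import Groth.Prelude.Def_EGA4b
import Groth.Agent.Lib.NormalRings

set_option autoImplicit false
universe u
open Polynomial
open Groth.Agent.NormalRings
open CAlg

namespace Groth.Agent.S6278

/-- A normal ring R (all localizations at primes are integrally closed domains) is integrally closed in
its total ring of fractions. -/
theorem result (R : Type u) [CommRing R] (hR : EGA4.IsNormalRing R) : IsIntegrallyClosedIn R (FractionRing R) := by
  rw [isIntegrallyClosedIn_iff]
  refine ⟨IsFractionRing.injective R (FractionRing R), fun {x} hx => ?_⟩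
  obtain ⟨⟨a, s⟩, has⟩ := IsLocalization.surj (nonZeroDivisors R) x
  suffices h : a ∈ Ideal.span {(s : R)} by
    obtain ⟨r, rfl⟩ := Ideal.mem_span_singleton.mp h
    refine ⟨r, ?_⟩
    simp only [map_mul] at has
    rw [mul_comm] at has
    exact ((IsLocalization.map_units (FractionRing R) s).mul_left_cancel has).symm
  refine Ideal.mem_of_localization_maximal fun m hm => ?_
  obtain ⟨_, _⟩ := hR m
  let A := Localization.AtPrime m
  let K := FractionRing A
  have hs : ∀ t : nonZeroDivisors R, IsUnit (((algebraMap A K).comp (algebraMap R A)) (t : R)) := by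
    intro t
    refine IsUnit.mk0 _ fun h => ?_
    rw [RingHom.comp_apply, map_eq_zero_iff _ (IsFractionRing.injective A K),
      IsLocalization.map_eq_zero_iff m.primeCompl] at h
    obtain ⟨c, hc⟩ := h
    exact c.2 (by rw [(mul_right_mem_nonZeroDivisors_eq_zero_iff t.2).mp hc]; exact m.zero_mem)
  obtain ⟨g, hg⟩ : ∃ g : FractionRing R →+* K, ∀ r, g (algebraMap R _ r) = algebraMap A K (algebraMap R A r) :=
    ⟨IsLocalization.lift hs, fun r => IsLocalization.lift_eq hs r⟩
  have hint : IsIntegral A (g x) := by
    obtain ⟨q, hq, hq0⟩ := hx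
    refine ⟨q.map (algebraMap R A), hq.map _, ?_⟩
    rw [eval₂_map]
    have := congrArg g hq0
    rw [hom_eval₂, map_zero] at this
    rw [show (algebraMap A K).comp (algebraMap R A) = g.comp (algebraMap R (FractionRing R)) from
      RingHom.ext fun r => (hg r).symm]
    exact this
  obtain ⟨y, hy⟩ := IsIntegrallyClosed.algebraMap_eq_of_integral hint
  rw [Ideal.map_span, Set.image_singleton, Ideal.mem_span_singleton]
  refine ⟨y, IsFractionRing.injective A K ?_⟩
  have := congrArg g has
  rw [map_mul, hg, hg] at this
  rw [map_mul, ← this, hy, mul_comm]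

end Groth.Agent.S6278
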