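import Groth.Statements.S6279
import Mathlib
import Groth.Prelude.Def_EGA4b
import Groth.Agent.Lib.NormalRings

set_option autoImplicit false
universe u
open Polynomial
open Groth.Agent.NormalRings
open CAlg

namespace Groth.Agent.S6279

/-- A finite product of normal rings is normal (a ring is normal when every localization at a prime is
an integrally closed domain). -/
theorem result {ι : Type u} [Finite ι] (A : ι → Type u) [∀ i, CommRing (A i)] (hA : ∀ i, EGA4.IsNormalRing (A i)) : EGA4.IsNormalRing (∀ i, A i) := by
  classical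
  haveI := Fintype.ofFinite ι
  intro P hP
  obtain ⟨i, hi⟩ : ∃ i, (Pi.single i 1 : ∀ i, A i) ∉ P := by
    by_contra! h
    refine hP.ne_top ((Ideal.eq_top_iff_one _).mpr ?_)
    rw [← Finset.univ_sum_single (1 : ∀ i, A i)]
    exact Ideal.sum_mem _ fun i _ => h i
  let π : (∀ i, A i) →+* A i := Pi.evalRingHom A i
  have hsurj : Function.Surjective π := fun a => ⟨Pi.single i a, by simp [π]⟩
  have hker : RingHom.ker π ≤ P := by
    intro x hx
    refine (hP.mem_or_mem (show x * Pi.single i 1 ∈ P from ?_)).resolve_right hi
    rw [show x * Pi.single i 1 = 0 from ?_]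
    · exact P.zero_mem
    funext j
    rcases eq_or_ne j i with rfl | h
    · simpa [π] using hx
    · simp [h]
  let q := P.map π
  haveI hq : q.IsPrime := Ideal.map_isPrime_of_surjective hsurj hker
  have hcomap : q.comap π = P := by
    rw [Ideal.comap_map_of_surjective π hsurj]
    exact sup_eq_left.mpr hker
  obtain ⟨_, _⟩ := hA i q
  let L := Localization.AtPrime q
  letI : Algebra (∀ i, A i) L := ((algebraMap (A i) L).comp π).toAlgebra
  have hmem : ∀ x, π x ∈ q ↔ x ∈ P := fun x => by rw [← Ideal.mem_comap, hcomap]
  haveI : IsLocalization P.primeCompl L := by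
    refine (isLocalization_iff _ _).mpr ⟨fun x => ?_, fun z => ?_, fun {x y} h => ?_⟩
    · exact IsLocalization.map_units L (⟨π x, fun h => x.2 ((hmem _).mp h)⟩ : q.primeCompl)
    · obtain ⟨⟨a, s⟩, h⟩ := IsLocalization.surj q.primeCompl z
      obtain ⟨a', rfl⟩ := hsurj a
      obtain ⟨s', hs'⟩ := hsurj s
      refine ⟨(a', ⟨s', fun h' => s.2 (hs' ▸ (hmem s').mpr h')⟩), ?_⟩
      show z * algebraMap (A i) L (π s') = algebraMap (A i) L (π a')
      rw [hs']
      exact h
    · obtain ⟨t, ht⟩ := IsLocalization.exists_of_eq (M := q.primeCompl) (show algebraMap (A i) L (π x) = algebraMap (A i) L (π y) from h)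
      obtain ⟨t', ht'⟩ := hsurj t
      refine ⟨⟨Pi.single i 1 * t', fun h' => ?_⟩, ?_⟩
      · rcases hP.mem_or_mem h' with h' | h'
        · exact hi h'
        · exact t.2 (ht' ▸ (hmem t').mpr h')
      · funext j
        rcases eq_or_ne j i with rfl | hne
        · simp only [Pi.mul_apply, Pi.single_eq_same, one_mul]
          rw [show t' j = (t : A j) from ht']
          exact ht
        · simp [hne]
  let e : L ≃+* Localization.AtPrime P := (IsLocalization.algEquiv P.primeCompl L (Localization.AtPrime P)).toRingEquiv
  exact ⟨e.symm.injective.isDomain e.symm.toRingHom, IsIntegrallyClosed.of_equiv e⟩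

end Groth.Agent.S6279
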