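import Groth.Statements.S6281
import Mathlib

set_option autoImplicit false
universe u
open TensorProduct
open CAlg

namespace Groth.Agent.S6281

/-- For an R-algebra S and an S-module M, flatness of S over R follows once M is both flat over R and
faithfully flat over S. -/
theorem result {R S : Type u} [CommRing R] [CommRing S] [Algebra R S] (M : Type u) [AddCommGroup M] [Module S M] [Module R M] [IsScalarTower R S M] [Module.Flat R M] [Module.FaithfullyFlat S M] : Module.Flat R S := by
  rw [Module.Flat.iff_lTensor_preserves_injective_linearMap]
  intro N N' _ _ _ _ f hf
  rw [← LinearMap.baseChange_eq_ltensor, ← Module.FaithfullyFlat.lTensor_injective_iff_injective S M (f.baseChange S)]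
  let e := TensorProduct.AlgebraTensorModule.cancelBaseChange R S S M N
  let e' := TensorProduct.AlgebraTensorModule.cancelBaseChange R S S M N'
  have : ∀ x, e' ((f.baseChange S).lTensor M x) = f.lTensor M (e x) := by
    intro x
    induction x with
    | zero => simp
    | add a b ha hb => simp [ha, hb]
    | tmul m y =>
      induction y with
      | zero => simp
      | add a b ha hb => simp only [LinearMap.lTensor_tmul] at ha hb; simp [TensorProduct.tmul_add, ha, hb]
      | tmul t n => simp [e, e']
  intro x y hxy
  apply e.injective
  apply Module.Flat.lTensor_preserves_injective_linearMap (M := M) f hf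
  rw [← this, ← this, hxy]

end Groth.Agent.S6281
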