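import Groth.Statements.S6282
import Mathlib
import Groth.Prelude.Def_CAlgX
import Groth.Agent.Lib.EpiLocal

set_option autoImplicit false
universe u
open TensorProduct
open Groth.Agent.EpiLocal
open scoped TensorProduct
open CAlg

namespace Groth.Agent.S6282

/-- Let S → S' be a homomorphism of R-algebras, M an S-module, and M' = S' ⊗_S M with its induced
R-module structure. (1) When S' is flat over S, R-flatness of M passes to M'. (2) When S' is
faithfully flat over S, M is R-flat exactly when M' is. -/
theorem result {R S S' : Type u} [CommRing R] [CommRing S] [CommRing S'] [Algebra R S] [Algebra R S'] [Algebra S S'] [IsScalarTower R S S'] (M : Type u) [AddCommGroup M] [Module S M] [Module R M] [IsScalarTower R S M] : ([Module.Flat S S'] → Module.Flat R M → Module.Flat R (S' ⊗[S] M)) ∧ ([Module.FaithfullyFlat S S'] → (Module.Flat R M ↔ Module.Flat R (S' ⊗[S] M))) := by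
  have fwd : ∀ [Module.Flat S S'], Module.Flat R M → Module.Flat R (S' ⊗[S] M) := by
    intro _ hM
    rw [Module.Flat.iff_lTensor_preserves_injective_linearMap]
    intro N N' _ _ _ _ f hf x y hxy
    have h1 : Function.Injective (AlgebraTensorModule.lTensor S M f) := Module.Flat.lTensor_preserves_injective_linearMap f hf
    have h2 := Module.Flat.lTensor_preserves_injective_linearMap (M := S') (AlgebraTensorModule.lTensor S M f) h1
    refine (AlgebraTensorModule.assoc R S S S' M N).injective (h2 ?_)
    rw [← assoc_natural, ← assoc_natural, hxy]
  refine ⟨fwd, fun {_} => ⟨fwd, fun hM' => ?_⟩⟩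
  rw [Module.Flat.iff_lTensor_preserves_injective_linearMap]
  intro N N' _ _ _ _ f hf
  have h : Function.Injective ((AlgebraTensorModule.lTensor S M f).lTensor S') := by
    intro x y hxy
    obtain ⟨x, rfl⟩ := (AlgebraTensorModule.assoc R S S S' M N).surjective x
    obtain ⟨y, rfl⟩ := (AlgebraTensorModule.assoc R S S S' M N).surjective y
    rw [← assoc_natural, ← assoc_natural] at hxy
    exact congrArg _ (Module.Flat.lTensor_preserves_injective_linearMap f hf
      ((AlgebraTensorModule.assoc R S S S' M N').injective hxy))
  exact (Module.FaithfullyFlat.lTensor_injective_iff_injective S S' _).mp h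

end Groth.Agent.S6282
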