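import Mathlib
import Groth.Statements.S6283
-- import your own Groth.Agent.* helpers here

set_option autoImplicit false
universe u
open scoped TensorProduct
open CAlg

namespace Groth.Agent.S6283

open TensorProduct in
theorem map_ker_eq {R S : Type u} [CommRing R] [CommRing S] [Algebra R S] [Module.Flat R S] {N : Type u} [AddCommGroup N] [Module R N]
    (n : N) (s : S) :
    s ∈ Ideal.map (algebraMap R S) (LinearMap.ker (LinearMap.toSpanSingleton R N n) : Ideal R) ↔ s ⊗ₜ[R] n = (0 : S ⊗[R] N) := by
  let f := LinearMap.toSpanSingleton R N n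
  let I : Ideal R := LinearMap.ker f
  have hex : Function.Exact (I.subtype.lTensor S) (f.lTensor S) :=
    Module.Flat.lTensor_exact S (LinearMap.exact_subtype_ker_map f)
  have hr : ∀ x : S ⊗[R] R, f.lTensor S x = (TensorProduct.rid R S x) ⊗ₜ[R] n := by
    intro x
    induction x with
    | zero => simp
    | add a b ha hb => simp [ha, hb, TensorProduct.add_tmul]
    | tmul a r => simp [f, TensorProduct.smul_tmul]
  constructor
  · intro hs
    induction hs using Submodule.span_induction with
    | mem x hx =>
      obtain ⟨r, hr', rfl⟩ := hx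
      rw [Algebra.algebraMap_eq_smul_one, TensorProduct.smul_tmul, show r • n = 0 from hr', TensorProduct.tmul_zero]
    | zero => simp
    | add a b _ _ ha hb => rw [TensorProduct.add_tmul, ha, hb, add_zero]
    | smul c a _ ha =>
      rw [smul_eq_mul, ← smul_eq_mul, ← TensorProduct.smul_tmul', ha, smul_zero]
  · intro h0
    obtain ⟨y, hy⟩ := (hex (s ⊗ₜ[R] (1 : R))).1 (by rw [hr]; simpa using h0)
    have key : ∀ y : S ⊗[R] I, TensorProduct.rid R S (I.subtype.lTensor S y) ∈ I.map (algebraMap R S) := by
      intro y
      induction y with
      | zero => simp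
      | add a b ha hb => rw [map_add, map_add]; exact add_mem ha hb
      | tmul a r =>
        simp only [LinearMap.lTensor_tmul, TensorProduct.rid_tmul, Submodule.subtype_apply, Algebra.smul_def]
        exact Ideal.mul_mem_right _ _ (Ideal.mem_map_of_mem _ r.2)
    have := key y
    rw [hy] at this
    simpa using this

/-- Let R → S be a flat ring map, M an R-module and m ∈ M. Then Ann_R(m)S = Ann_S(1 ⊗ m), the
annihilator in S of the element 1 ⊗ m of S ⊗_R M. If moreover M is a finite R-module then Ann_R(M)S
= Ann_S(S ⊗_R M). -/
theorem result {R S : Type u} [CommRing R] [CommRing S] [Algebra R S] [Module.Flat R S] (M : Type u) [AddCommGroup M] [Module R M] : (∀ m : M, ((Submodule.span R {m}).annihilator).map (algebraMap R S) = (Submodule.span S {(1 : S) ⊗ₜ[R] m}).annihilator) ∧ (Module.Finite R M → (Module.annihilator R M).map (algebraMap R S) = Module.annihilator S (S ⊗[R] M)) := by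
  refine ⟨fun m => ?_, fun hfin => ?_⟩
  · ext s
    rw [Submodule.mem_annihilator_span_singleton, show s • ((1 : S) ⊗ₜ[R] m) = s ⊗ₜ[R] m by rw [TensorProduct.smul_tmul', smul_eq_mul, mul_one],
      ← map_ker_eq m s, show (LinearMap.ker (LinearMap.toSpanSingleton R M m) : Ideal R) = (Submodule.span R {m}).annihilator from
        Ideal.ext fun r => by rw [Submodule.mem_annihilator_span_singleton]; rfl]
  · classical
    haveI := hfin
    obtain ⟨n, g, hg⟩ := Submodule.fg_iff_exists_fin_generating_family.1 (Module.Finite.fg_top (R := R) (M := M))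
    have hI : Module.annihilator R M = (LinearMap.ker (LinearMap.toSpanSingleton R (Fin n → M) g) : Ideal R) := by
      ext r
      rw [← Submodule.annihilator_top, ← hg, Submodule.mem_annihilator_span, LinearMap.mem_ker]
      exact ⟨fun h => funext fun i => h ⟨g i, i, rfl⟩, fun h x => by obtain ⟨_, i, rfl⟩ := x; exact congrFun h i⟩
    ext s
    rw [hI, map_ker_eq g s, ← (TensorProduct.piRight R R S (fun _ : Fin n => M)).map_eq_zero_iff, Module.mem_annihilator]
    simp only [TensorProduct.piRight_apply, TensorProduct.piRightHom_tmul]
    constructor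
    · intro h0 z
      induction z with
      | zero => simp
      | add a b ha hb => simp [ha, hb]
      | tmul a m =>
        have hm : m ∈ Submodule.span R (Set.range g) := by rw [hg]; trivial
        induction hm using Submodule.span_induction generalizing a with
        | mem x hx =>
          obtain ⟨i, rfl⟩ := hx
          rw [TensorProduct.smul_tmul', smul_eq_mul, mul_comm, ← smul_eq_mul, ← TensorProduct.smul_tmul', show s ⊗ₜ[R] g i = (0 : S ⊗[R] M) from congrFun h0 i, smul_zero]
        | zero => simp
        | add x y _ _ hx hy => rw [TensorProduct.tmul_add, smul_add, hx, hy, add_zero]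
        | smul c x _ hx => rw [← TensorProduct.smul_tmul]; exact hx _
    · intro h0
      funext i
      show s ⊗ₜ[R] g i = (0 : S ⊗[R] M)
      simpa [TensorProduct.smul_tmul'] using h0 ((1 : S) ⊗ₜ[R] g i)

end Groth.Agent.S6283
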