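import Groth.Statements.S6285
import Mathlib
import Groth.Agent.Lib.TorsionFreeEmbed
import Groth.Agent.Lib.CAlgSmall1

set_option autoImplicit false
universe u
open TensorProduct Groth.Agent.TorsionFreeEmbed
open Groth.Agent.CAlgSmall1
open CAlg

namespace Groth.Agent.S6285

/-- For a ring R and an R-module M of finite presentation, the support Supp(M) is closed in Spec(R), and
its complement in Spec(R) is quasi-compact. -/
theorem result (R : Type u) [CommRing R] (M : Type u) [AddCommGroup M] [Module R M] [Module.FinitePresentation R M] : IsClosed (Module.support R M) ∧ IsCompact (Module.support R M)ᶜ := by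
  classical
  refine ⟨by rw [Module.support_eq_zeroLocus]; exact PrimeSpectrum.isClosed_zeroLocus _, ?_⟩
  obtain ⟨n, K, e, hK⟩ := Module.FinitePresentation.exists_fin R M
  obtain ⟨m, v, hv⟩ := Submodule.fg_iff_exists_fin_generating_family.mp hK
  let π : (Fin n → R) →ₗ[R] M := e.symm.toLinearMap ∘ₗ K.mkQ
  have hπ : Function.Surjective π := e.symm.surjective.comp K.mkQ_surjective
  have hker : ∀ x, π x = 0 ↔ x ∈ K := fun x => by simp [π]
  suffices h : (Module.support R M)ᶜ =
      ⋃ g : Fin n → Fin m, (PrimeSpectrum.basicOpen (Matrix.detRowAlternating (fun i => v (g i))) : Set (PrimeSpectrum R)) by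
    rw [h]; exact isCompact_iUnion fun g => PrimeSpectrum.isCompact_basicOpen _
  ext p
  rw [Set.mem_compl_iff, Module.support_eq_zeroLocus]
  simp only [Set.mem_iUnion, SetLike.mem_coe, PrimeSpectrum.mem_basicOpen, PrimeSpectrum.mem_zeroLocus]
  constructor
  · intro h
    obtain ⟨s, hs, hsp⟩ := Set.not_subset.mp h
    refine det_cols_prime v (s := s) (fun i => ?_) hsp
    rw [hv, ← hker, show Pi.single i s = s • Pi.single i (1 : R) by rw [← Pi.single_smul]; simp, map_smul]
    exact Module.mem_annihilator.mp hs _
  · rintro ⟨g, hg⟩ hsub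
    refine hg (hsub ?_)
    refine Module.mem_annihilator.mpr fun x => ?_
    obtain ⟨y, rfl⟩ := hπ x
    rw [← map_smul, hker, ← hv]
    set d := Matrix.detRowAlternating (fun i => v (g i))
    have hd : d • y = ∑ j, y j • Pi.single j d := by
      ext k
      simp [Finset.sum_apply, Pi.single_apply, mul_comm]
    rw [hd]
    refine Submodule.sum_mem _ fun j _ => Submodule.smul_mem _ _ ?_
    exact Submodule.span_mono (Set.range_comp_subset_range g v) (det_kills (fun i => v (g i)) j)

end Groth.Agent.S6285
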