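import Groth.Statements.S6287
import Mathlib

set_option autoImplicit false
universe u
open CAlg

namespace Groth.Agent.S6287

/-- Let (A_i) be a directed system of valuation rings. Then the colimit A = colim A_i is a valuation
ring (in particular a domain). -/
theorem result {ι : Type u} [Preorder ι] [Nonempty ι] [IsDirected ι (· ≤ ·)] (G : ι → Type u) [∀ i, CommRing (G i)] [∀ i, IsDomain (G i)] [∀ i, ValuationRing (G i)] (f : ∀ i j, i ≤ j → G i →+* G j) [DirectedSystem G fun i j h => f i j h] : ∃ _ : IsDomain (Ring.DirectLimit G fun i j h => f i j h), ValuationRing (Ring.DirectLimit G fun i j h => f i j h) := by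
  classical
  haveI : Nontrivial (Ring.DirectLimit G fun i j h => f i j h) := by
    refine ⟨⟨0, 1, fun he => ?_⟩⟩
    obtain ⟨i⟩ := ‹Nonempty ι›
    have h1 : Ring.DirectLimit.of G (fun i j h => f i j h) i (1 : G i) = 0 := by rw [map_one]; exact he.symm
    obtain ⟨j, hij, hj⟩ := Ring.DirectLimit.of.zero_exact h1
    exact one_ne_zero (α := G j) (by rwa [map_one] at hj)
  have two : ∀ x y : Ring.DirectLimit G fun i j h => f i j h, ∃ i a b,
      Ring.DirectLimit.of G (fun i j h => f i j h) i a = x ∧ Ring.DirectLimit.of G (fun i j h => f i j h) i b = y := by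
    intro x y
    obtain ⟨i, a, rfl⟩ := Ring.DirectLimit.exists_of x
    obtain ⟨j, b, rfl⟩ := Ring.DirectLimit.exists_of y
    obtain ⟨k, hik, hjk⟩ := directed_of (α := ι) (· ≤ ·) i j
    exact ⟨k, f i k hik a, f j k hjk b, Ring.DirectLimit.of_f hik a, Ring.DirectLimit.of_f hjk b⟩
  haveI hd : IsDomain (Ring.DirectLimit G fun i j h => f i j h) := by
    haveI : NoZeroDivisors (Ring.DirectLimit G fun i j h => f i j h) := by
      refine ⟨fun {x y} hxy => ?_⟩
      obtain ⟨i, a, b, rfl, rfl⟩ := two x y
      rw [← map_mul] at hxy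
      obtain ⟨j, hij, hj⟩ := Ring.DirectLimit.of.zero_exact hxy
      rw [map_mul] at hj
      rcases mul_eq_zero.mp hj with h0 | h0
      · exact Or.inl (by rw [← Ring.DirectLimit.of_f hij a, h0, map_zero])
      · exact Or.inr (by rw [← Ring.DirectLimit.of_f hij b, h0, map_zero])
    exact NoZeroDivisors.to_isDomain _
  refine ⟨hd, { cond' := fun x y => ?_ }⟩
  obtain ⟨i, a, b, rfl, rfl⟩ := two x y
  obtain ⟨c, hc | hc⟩ := ValuationRing.cond a b
  · exact ⟨Ring.DirectLimit.of G (fun i j h => f i j h) i c, Or.inl (by rw [← map_mul, hc])⟩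
  · exact ⟨Ring.DirectLimit.of G (fun i j h => f i j h) i c, Or.inr (by rw [← map_mul, hc])⟩

end Groth.Agent.S6287
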