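import Groth.Statements.S6289
import Mathlib

set_option autoImplicit false
universe u
open TensorProduct
open CAlg

namespace Groth.Agent.S6289

/-- Let A' be a valuation ring with residue field K and A ⊆ K a valuation ring with fraction field K.
Then the subring C of A' consisting of the elements whose residue class lies in A is a valuation
ring. -/
theorem result (A' : Type u) [CommRing A'] [IsDomain A'] [ValuationRing A'] (A : ValuationSubring (IsLocalRing.ResidueField A')) : ValuationRing (A.toSubring.comap (IsLocalRing.residue A')) := by
  have : PreValuationRing (A.toSubring.comap (IsLocalRing.residue A')) := ⟨by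
    have key : ∀ (x y : A.toSubring.comap (IsLocalRing.residue A')) (c : A'), x.1 * c = y.1 → ∃ d, x * d = y ∨ y * d = x := by
      intro x y c hc
      rcases A.mem_or_inv_mem (IsLocalRing.residue A' c) with h | h
      · exact ⟨⟨c, h⟩, Or.inl (Subtype.ext hc)⟩
      by_cases hu : IsUnit c
      · obtain ⟨u, rfl⟩ := hu
        exact ⟨⟨↑u⁻¹, by simpa [map_units_inv] using h⟩, Or.inr (Subtype.ext (by simp [← hc, mul_assoc]))⟩
      · refine ⟨⟨c, ?_⟩, Or.inl (Subtype.ext hc)⟩
        show IsLocalRing.residue A' c ∈ A.toSubring
        rw [(IsLocalRing.residue_eq_zero_iff c).mpr hu]; exact A.toSubring.zero_mem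
    intro x y
    obtain ⟨c, hc | hc⟩ := PreValuationRing.cond x.1 y.1
    · exact key x y c hc
    · obtain ⟨d, h⟩ := key y x c hc; exact ⟨d, h.symm⟩⟩
  constructor

end Groth.Agent.S6289
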