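import Groth.Statements.S6290
import Mathlib

set_option autoImplicit false
universe u
open CAlg

namespace Groth.Agent.S6290

/-- Let R be a Noetherian ring, I ⊆ R an ideal, M a finite R-module and N = ⋂ₙ IⁿM. Then for every prime
p ⊇ I there is f ∈ R, f ∉ p, with N_f = 0, i.e. every element of N is annihilated by some power of
f. -/
theorem result {R : Type u} [CommRing R] [IsNoetherianRing R] (I : Ideal R) (M : Type u) [AddCommGroup M] [Module R M] [Module.Finite R M] (p : Ideal R) [p.IsPrime] (hIp : I ≤ p) : ∃ f : R, f ∉ p ∧ ∀ x ∈ (⨅ n : ℕ, I ^ n • (⊤ : Submodule R M)), ∃ k : ℕ, f ^ k • x = 0 := by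
  classical
  let N : Submodule R M := ⨅ n : ℕ, I ^ n • (⊤ : Submodule R M)
  obtain ⟨t, ht⟩ : N.FG := IsNoetherian.noetherian N
  have hr : ∀ x ∈ t, ∃ r : R, r ∈ I ∧ r • x = x := fun x hx => by
    obtain ⟨r, hr⟩ := (Ideal.mem_iInf_smul_pow_eq_bot_iff I x).mp (ht.le (Submodule.subset_span hx))
    exact ⟨r.1, r.2, hr⟩
  choose r hrI hrx using hr
  let f : R := ∏ x ∈ t.attach, (1 - r x.1 x.2)
  refine ⟨f, fun hf => ?_, fun x hx => ⟨1, ?_⟩⟩
  · obtain ⟨y, -, hy⟩ := (Ideal.IsPrime.prod_mem_iff).mp hf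
    have := add_mem hy (hIp (hrI y.1 y.2))
    rw [sub_add_cancel] at this
    exact (Ideal.IsPrime.ne_top ‹_›) ((Ideal.eq_top_iff_one p).mpr this)
  · rw [pow_one]
    have hx' : x ∈ Submodule.span R (t : Set M) := ht.ge hx
    induction hx' using Submodule.span_induction with
    | mem y hy =>
      obtain ⟨c, hc⟩ := Finset.dvd_prod_of_mem (fun x : {x // x ∈ t} => 1 - r x.1 x.2) (Finset.mem_attach t ⟨y, hy⟩)
      rw [show f = (1 - r y hy) * c from hc, mul_comm, mul_smul, sub_smul, one_smul, hrx y hy, sub_self, smul_zero]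
    | zero => exact smul_zero f
    | add a b ha hb iha ihb => rw [smul_add, iha (ht.le ha), ihb (ht.le hb), add_zero]
    | smul c a ha iha => rw [smul_comm, iha (ht.le ha), smul_zero]

end Groth.Agent.S6290
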