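import Groth.Statements.S6292
import Mathlib

set_option autoImplicit false
universe u
open TensorProduct
open CAlg

namespace Groth.Agent.S6292

/-- Let R be a ring and m ⊆ R a finitely generated maximal ideal (for instance R Noetherian). If M is a
finite R-module with mⁿM = 0 for some n, then M has finite length. -/
theorem result {R : Type u} [CommRing R] (m : Ideal R) [m.IsMaximal] (hm : m.FG) (M : Type u) [AddCommGroup M] [Module R M] [Module.Finite R M] (n : ℕ) (hn : m ^ n • (⊤ : Submodule R M) = ⊥) : IsFiniteLength R M := by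
  let Q := R ⧸ m ^ n
  letI : Module Q M := (Module.IsTorsionBySet.module fun x a => by
    have := hn ▸ Submodule.smul_mem_smul a.2 (Submodule.mem_top : x ∈ (⊤ : Submodule R M))
    simpa using this)
  haveI : IsScalarTower R Q M := IsScalarTower.of_algebraMap_smul fun r x => rfl
  have hsurj : Function.Surjective (Ideal.Quotient.mk (m ^ n)) := Ideal.Quotient.mk_surjective
  have key : ∀ P : Ideal Q, P.IsPrime → m.map (Ideal.Quotient.mk (m ^ n)) = P ∧ P.IsMaximal := by
    intro P hP
    have hP' := Ideal.IsPrime.comap (Ideal.Quotient.mk (m ^ n)) (K := P)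
    have hle : m ≤ P.comap (Ideal.Quotient.mk (m ^ n)) := hP'.le_of_pow_le (n := n) (fun x hx => by
      rw [Ideal.mem_comap, Ideal.Quotient.eq_zero_iff_mem.mpr hx]; exact P.zero_mem)
    have e := Ideal.IsMaximal.eq_of_le ‹m.IsMaximal› hP'.ne_top hle
    refine ⟨(congrArg (Ideal.map _) e).trans (Ideal.map_comap_of_surjective _ hsurj P), ⟨hP.ne_top, fun J hJ => ?_⟩⟩
    have h1 : m < J.comap (Ideal.Quotient.mk (m ^ n)) := e.trans_lt
      (lt_of_le_of_ne (Ideal.comap_mono hJ.le) fun e' => hJ.ne (Ideal.comap_injective_of_surjective _ hsurj e'))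
    have h2 := ‹m.IsMaximal›.out.2 _ h1
    rwa [Ideal.comap_eq_top_iff] at h2
  haveI : IsNoetherianRing Q := IsNoetherianRing.of_prime fun P hP => (key P hP).1 ▸ hm.map _
  haveI : Ring.KrullDimLE 0 Q := Ring.KrullDimLE.mk₀ fun P hP => (key P hP).2
  haveI : IsArtinianRing Q := isArtinianRing_iff_isNoetherianRing_krullDimLE_zero.mpr ⟨inferInstance, inferInstance⟩
  haveI : Module.Finite Q M := Module.Finite.of_restrictScalars_finite R Q M
  have hQ : IsFiniteLength Q M := isFiniteLength_iff_isNoetherian_isArtinian.mpr ⟨inferInstance, inferInstance⟩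
  rw [← Module.length_ne_top_iff] at hQ ⊢
  rwa [Module.length_eq_of_surjective (R := Q) (S := R) (M := M) hsurj]

end Groth.Agent.S6292
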