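import Groth.Statements.S6295
import Mathlib

set_option autoImplicit false
universe u
open CAlg

namespace Groth.Agent.S6295

/-- Let R be a reduced ring. Then every localization R_p at a minimal prime p is a field and the map R →
∏_{p minimal} R_p is injective (so R is a subring of a product of fields); moreover the set of
zerodivisors of R is the union of the minimal primes. -/
theorem result (R : Type u) [CommRing R] [IsReduced R] : (∀ p : PrimeSpectrum R, p.asIdeal ∈ minimalPrimes R → IsField (Localization.AtPrime p.asIdeal)) ∧ Function.Injective (algebraMap R (∀ p : {p : PrimeSpectrum R // p.asIdeal ∈ minimalPrimes R}, Localization.AtPrime p.1.asIdeal)) ∧ (∀ x : R, x ∉ nonZeroDivisors R ↔ ∃ p ∈ minimalPrimes R, x ∈ p) := by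
  have hnil : ∀ x : R, (∀ p ∈ minimalPrimes R, x ∈ p) → x = 0 := fun x hx => by
    have h1 : x ∈ (⊥ : Ideal R).radical := by
      rw [← Ideal.sInf_minimalPrimes]
      exact Ideal.mem_sInf.mpr fun {p} hp => hx p hp
    exact IsNilpotent.eq_zero h1
  have hrad : (⊥ : Ideal R).radical = ⊥ := (Submodule.eq_bot_iff _).mpr fun x hx => IsNilpotent.eq_zero hx
  refine ⟨fun p hp => ?_, ?_, fun x => ?_⟩
  · haveI : Ring.KrullDimLE 0 (Localization.AtPrime p.asIdeal) := .of_isLocalization _ hp _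
    exact Ring.KrullDimLE.isField_of_isReduced
  · refine (injective_iff_map_eq_zero _).mpr fun x hx => hnil x fun p hp => ?_
    have h1 := congrFun hx ⟨⟨p, hp.1.1⟩, hp⟩
    haveI := hp.1.1
    obtain ⟨s, hs⟩ := (IsLocalization.map_eq_zero_iff p.primeCompl _ x).mp h1
    exact (hp.1.1.mem_or_mem (hs ▸ zero_mem p : (s : R) * x ∈ p)).resolve_left s.2
  · have h := Ideal.iUnion_minimalPrimes (I := (⊥ : Ideal R))
    rw [hrad] at h
    have key : (x ∈ ⋃ p ∈ minimalPrimes R, (p : Set R)) ↔ x ∈ {z : R | ∃ y ∉ (⊥ : Ideal R), z * y ∈ (⊥ : Ideal R)} := by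
      rw [← h]
    refine Iff.trans ?_ ((Iff.intro (fun h' => ?_) (fun h' => ?_) : (x ∈ ⋃ p ∈ minimalPrimes R, (p : Set R)) ↔ ∃ p ∈ minimalPrimes R, x ∈ p))
    rotate_left
    · obtain ⟨p, hp, hxp⟩ := Set.mem_iUnion₂.mp h'; exact ⟨p, hp, hxp⟩
    · obtain ⟨p, hp, hxp⟩ := h'; exact Set.mem_iUnion₂.mpr ⟨p, hp, hxp⟩
    rw [key, mem_nonZeroDivisors_iff_right]
    simp only [Set.mem_setOf_eq, Submodule.mem_bot]
    simp only [not_forall, exists_prop]
    exact ⟨fun ⟨y, hy, hy0⟩ => ⟨y, hy0, by rwa [mul_comm]⟩, fun ⟨y, hy0, hy⟩ => ⟨y, by rwa [mul_comm], hy0⟩⟩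

end Groth.Agent.S6295
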