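import Groth.Statements.S6296
import Mathlib

set_option autoImplicit false
universe u
open CAlg

namespace Groth.Agent.S6296

/-- Let A → B be a local homomorphism of local rings such that (1) B is a finite A-module, (2) the
maximal ideal m_B is finitely generated, (3) the induced map of residue fields is an isomorphism,
and (4) m_A/m_A² → m_B/m_B² is surjective, i.e. m_B ⊆ m_A B + m_B². Then A → B is surjective. -/
theorem result {A B : Type u} [CommRing A] [CommRing B] [IsLocalRing A] [IsLocalRing B] [Algebra A B] [IsLocalHom (algebraMap A B)] [Module.Finite A B] (hfg : (IsLocalRing.maximalIdeal B).FG) (hres : Function.Surjective (IsLocalRing.ResidueField.map (algebraMap A B))) (hcot : IsLocalRing.maximalIdeal B ≤ (IsLocalRing.maximalIdeal A).map (algebraMap A B) ⊔ (IsLocalRing.maximalIdeal B) ^ 2) : Function.Surjective (algebraMap A B) := by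
  classical
  set mA := IsLocalRing.maximalIdeal A
  set mB := IsLocalRing.maximalIdeal B
  have hle : mA.map (algebraMap A B) ≤ mB := Ideal.map_le_iff_le_comap.mpr fun a ha hu => ha (isUnit_of_map_unit (algebraMap A B) a hu)
  have hmB : mB ≤ mA.map (algebraMap A B) := by
    refine Submodule.le_of_le_smul_of_le_jacobson_bot hfg (IsLocalRing.maximalIdeal_le_jacobson ⊥) ?_
    rw [smul_eq_mul, ← sq]
    exact hcot
  have htop : (⊤ : Submodule A B) ≤ LinearMap.range (Algebra.linearMap A B) ⊔ mA • (⊤ : Submodule A B) := by
    intro b _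
    obtain ⟨c, hc⟩ := hres (IsLocalRing.residue B b)
    obtain ⟨a, rfl⟩ := IsLocalRing.residue_surjective c
    rw [IsLocalRing.ResidueField.map_residue] at hc
    rw [← add_sub_cancel (algebraMap A B a) b, Ideal.smul_top_eq_map]
    refine Submodule.add_mem_sup ⟨a, rfl⟩ (hmB ?_)
    exact Ideal.Quotient.eq.mp hc.symm
  have := Submodule.le_of_le_smul_of_le_jacobson_bot (N := LinearMap.range (Algebra.linearMap A B)) (N' := ⊤)
    (Module.Finite.fg_top (R := A) (M := B)) (IsLocalRing.maximalIdeal_le_jacobson ⊥) htop
  exact fun b => this (Submodule.mem_top (x := b))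

end Groth.Agent.S6296
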