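import Groth.Statements.S6298
import Mathlib

set_option autoImplicit false
universe u
open CAlg

namespace Groth.Agent.S6298

/-- Let R be a ring, x ∈ R, I ⊆ R an ideal and p₁, …, p_r prime ideals such that for each i the coset x
+ I is not contained in p_i. Then there is y ∈ I with x + y ∉ p_i for all i. -/
theorem result {R : Type u} [CommRing R] (x : R) (I : Ideal R) {r : ℕ} (p : Fin r → Ideal R) [∀ i, (p i).IsPrime] (h : ∀ i, ∃ y ∈ I, x + y ∉ p i) : ∃ y ∈ I, ∀ i, x + y ∉ p i := by
  classical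
  suffices H : ∀ s : Finset (Fin r), ∃ y ∈ I, ∀ i ∈ s, x + y ∉ p i by
    obtain ⟨y, hy, hy'⟩ := H Finset.univ
    exact ⟨y, hy, fun i => hy' i (Finset.mem_univ i)⟩
  intro s
  induction s using Finset.strongInduction with
  | H s ih =>
    rcases s.eq_empty_or_nonempty with rfl | hne
    · exact ⟨0, I.zero_mem, by simp⟩
    obtain ⟨j, hjs, hmin⟩ := s.finite_toSet.exists_minimalFor p _ hne
    rw [Finset.mem_coe] at hjs
    obtain ⟨y, hy, hy'⟩ := ih (s.erase j) (Finset.erase_ssubset hjs)
    by_cases hxy : x + y ∈ p j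
    swap
    · refine ⟨y, hy, fun i hi => ?_⟩
      by_cases hij : i = j
      · exact hij ▸ hxy
      · exact hy' i (Finset.mem_erase.mpr ⟨hij, hi⟩)
    obtain ⟨y', hy0, hy1⟩ := h j
    have hnle : ¬ I * ∏ i ∈ s.erase j, p i ≤ p j := by
      intro hle
      rcases (Ideal.IsPrime.mul_le inferInstance).mp hle with hI | hP
      · exact hy1 (by simpa using (p j).add_mem hxy (hI (I.sub_mem hy0 hy)))
      · obtain ⟨i, hi, hle⟩ := (Ideal.IsPrime.prod_le inferInstance).mp hP
        exact hy' i hi (hmin (Finset.mem_of_mem_erase hi) hle hxy)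
    obtain ⟨z, hz, hz'⟩ := SetLike.not_le_iff_exists.mp hnle
    refine ⟨y + z, I.add_mem hy (Ideal.mul_le_left hz), fun i hi hh => ?_⟩
    rw [← add_assoc] at hh
    by_cases hij : i = j
    · subst hij; exact hz' (by simpa using (p i).sub_mem hh hxy)
    · have hi' := Finset.mem_erase.mpr ⟨hij, hi⟩
      have hzi : z ∈ p i := Ideal.le_of_dvd (Finset.dvd_prod_of_mem p hi') (Ideal.mul_le_right hz)
      exact hy' i hi' (by simpa using (p i).sub_mem hh hzi)

end Groth.Agent.S6298
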