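import Groth.Statements.S6299
import Mathlib
import Groth.Prelude.Def_Found
import Groth.Agent.Lib.JapaneseBasic

set_option autoImplicit false
universe u
open Groth.Agent.JapaneseBasic
open CAlg

namespace Groth.Agent.S6299

/-- Let R be a Noetherian normal domain. Then the power series ring R[[x]] is a Noetherian normal domain
(here: it is an integrally closed domain and a Noetherian ring). -/
theorem result (R : Type u) [CommRing R] [IsDomain R] [IsNoetherianRing R] [IsIntegrallyClosed R] : IsIntegrallyClosed (PowerSeries R) ∧ IsNoetherianRing (PowerSeries R) := by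
  haveI : IsNoetherianRing (PowerSeries R) := inferInstance
  refine ⟨(isIntegrallyClosed_iff (FractionRing (PowerSeries R))).mpr fun {x} hx => ?_, inferInstance⟩
  let K := FractionRing R
  let φ : PowerSeries R →+* PowerSeries K := PowerSeries.map (algebraMap R K)
  have hφ : Function.Injective φ := PowerSeries.map_injective _ (IsFractionRing.injective R K)
  obtain ⟨d, hd, hdx⟩ := hx.isAlmostIntegral
  obtain ⟨f, g, hg, rfl⟩ := IsFractionRing.div_surjective (PowerSeries R) x
  have hg0 : algebraMap (PowerSeries R) (FractionRing (PowerSeries R)) g ≠ 0 :=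
    IsFractionRing.to_map_ne_zero_of_mem_nonZeroDivisors hg
  let L := FractionRing (PowerSeries K)
  let ψ : FractionRing (PowerSeries R) →+* L :=
    IsFractionRing.lift (g := (algebraMap (PowerSeries K) L).comp φ) ((IsFractionRing.injective (PowerSeries K) L).comp hφ)
  have hψ : ∀ z, ψ (algebraMap (PowerSeries R) (FractionRing (PowerSeries R)) z) = algebraMap (PowerSeries K) L (φ z) :=
    fun z => IsFractionRing.lift_algebraMap _ z
  obtain ⟨F, hFeq⟩ : ∃ F, algebraMap (PowerSeries K) L F = ψ (algebraMap _ _ f / algebraMap _ _ g) := by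
    refine IsIntegrallyClosed.algebraMap_eq_of_integral ?_
    obtain ⟨q, hq, hq0⟩ := hx
    refine ⟨q.map φ, hq.map _, ?_⟩
    rw [Polynomial.eval₂_map]
    have h1 := congrArg ψ hq0
    rw [Polynomial.hom_eval₂, map_zero] at h1
    rw [show (algebraMap (PowerSeries K) L).comp φ = ψ.comp (algebraMap _ _) from RingHom.ext fun z => (hψ z).symm]
    exact h1
  have hF : ∀ n : ℕ, ∃ w, φ w = φ d * F ^ n := by
    intro n
    obtain ⟨w, hw⟩ := hdx n
    refine ⟨w, IsFractionRing.injective (PowerSeries K) L ?_⟩
    rw [← hψ, map_mul, map_pow, hFeq, ← hψ, ← map_pow, ← map_mul, hw, Algebra.smul_def]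
  choose r hr using series_in ⟨d, nonZeroDivisors.ne_zero hd, hF⟩
  refine ⟨PowerSeries.mk r, ψ.injective ?_⟩
  rw [hψ, ← hFeq]
  congr 1
  ext k
  simp [φ, hr, K]

end Groth.Agent.S6299
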