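import Groth.Statements.S6300
import Mathlib
import Groth.Prelude.Def_EGA4b
import Groth.Agent.Lib.NormalRings

set_option autoImplicit false
universe u
open Polynomial
open Groth.Agent.NormalRings
open CAlg

namespace Groth.Agent.S6300

/-- Let R be a normal ring (every localization at a prime is an integrally closed domain). Then R[x] is
a normal ring. -/
theorem result (R : Type u) [CommRing R] (hR : EGA4.IsNormalRing R) : EGA4.IsNormalRing (Polynomial R) := by
  intro P _
  let p := P.comap (C : R →+* R[X])
  let A := Localization.AtPrime p
  obtain ⟨_, _⟩ := hR p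
  let L := Localization.AtPrime P
  let M := p.primeCompl.map (C : R →+* R[X])
  letI : Algebra R[X] A[X] := Polynomial.algebra R A
  haveI : IsLocalization M A[X] := Polynomial.isLocalization p.primeCompl A
  have hle : M ≤ P.primeCompl := by
    rintro _ ⟨r, hr, rfl⟩
    exact hr
  letI : Algebra A[X] L := IsLocalization.localizationAlgebraOfSubmonoidLe A[X] L M P.primeCompl hle
  haveI : IsScalarTower R[X] A[X] L :=
    IsLocalization.localization_isScalarTower_of_submonoid_le A[X] L M P.primeCompl hle
  haveI : IsLocalization (P.primeCompl.map (algebraMap R[X] A[X])) L :=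
    IsLocalization.isLocalization_of_submonoid_le A[X] L M P.primeCompl hle
  refine normal_of_localizations (P.primeCompl.map (algebraMap R[X] A[X])) ?_
  rintro ⟨x, hx, hx0⟩
  obtain ⟨⟨_, r, hr, rfl⟩, hm⟩ := (IsLocalization.map_eq_zero_iff M A[X] x).mp hx0
  have h0 : C r * x ∈ P := by simp only at hm; rw [hm]; exact P.zero_mem
  rcases (Ideal.IsPrime.mem_or_mem ‹P.IsPrime› h0) with h | h
  · exact hr h
  · exact hx h

end Groth.Agent.S6300
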