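import Mathlib
import Groth.Statements.S6301
-- import your own Groth.Agent.* helpers here

set_option autoImplicit false
universe u
open CAlg

namespace Groth.Agent.S6301

/-- An R-module M is flat exactly when, for every finitely presented R-module P and every surjective
R-module map N → M, the induced map Hom_R(P, N) → Hom_R(P, M) is surjective (modules P, N taken in
the same universe). -/
theorem result {R : Type u} [CommRing R] (M : Type u) [AddCommGroup M] [Module R M] : Module.Flat R M ↔ ∀ (P : Type u) [AddCommGroup P] [Module R P], Module.FinitePresentation R P → ∀ (N : Type u) [AddCommGroup N] [Module R N] (g : N →ₗ[R] M), Function.Surjective g → ∀ h : P →ₗ[R] M, ∃ h' : P →ₗ[R] N, g.comp h' = h := by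
  constructor
  · intro hF P _ _ hP N _ _ g hg h
    haveI := hP
    obtain ⟨k, a, y, rfl⟩ := Module.Flat.exists_factorization_of_finitePresentation h
    obtain ⟨z, hz⟩ := Module.projective_lifting_property g y hg
    exact ⟨z ∘ₗ a, by rw [← LinearMap.comp_assoc, hz]⟩
  · intro H
    refine Module.Flat.of_forall_exists_factorization fun {l f x} hx => ?_
    let S : Submodule R (Fin l →₀ R) := Submodule.span R {f}
    haveI : Module.FinitePresentation R ((Fin l →₀ R) ⧸ S) :=
      Module.finitePresentation_of_surjective S.mkQ S.mkQ_surjective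
        (by rw [Submodule.ker_mkQ]; exact Submodule.fg_span_singleton f)
    let g : (M →₀ R) →ₗ[R] M := Finsupp.linearCombination R id
    have hg : Function.Surjective g := fun m => ⟨Finsupp.single m 1, by simp [g]⟩
    obtain ⟨h', hh'⟩ := H ((Fin l →₀ R) ⧸ S) inferInstance (M →₀ R) g hg
      (S.liftQ x (by rw [Submodule.span_le, Set.singleton_subset_iff]; exact hx))
    classical
    let a0 : (Fin l →₀ R) →ₗ[R] (M →₀ R) := h' ∘ₗ S.mkQ
    let T : Finset M := Finset.univ.biUnion fun i : Fin l => (a0 (Finsupp.single i 1)).support
    let e : Fin T.card ≃ T := T.equivFin.symm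
    let ι : Fin T.card → M := fun i => (e i : M)
    have hι : Function.Injective ι := Subtype.val_injective.comp e.injective
    let i' : (Fin T.card →₀ R) →ₗ[R] (M →₀ R) := Finsupp.lmapDomain R R ι
    let p' : (M →₀ R) →ₗ[R] (Fin T.card →₀ R) := Finsupp.lcomapDomain ι hι
    have hip : ∀ v, i' (p' (a0 v)) = a0 v := by
      intro v
      suffices i' ∘ₗ p' ∘ₗ a0 = a0 from DFunLike.congr_fun this v
      apply Finsupp.lhom_ext'
      intro i
      apply LinearMap.ext_ring
      simp only [LinearMap.comp_apply, Finsupp.lsingle_apply]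
      refine Finsupp.mapDomain_comapDomain ι hι _ ?_
      intro m hm
      have hmT : m ∈ T := Finset.mem_biUnion.2 ⟨i, Finset.mem_univ _, hm⟩
      exact ⟨e.symm ⟨m, hmT⟩, by simp [ι]⟩
    refine ⟨T.card, p' ∘ₗ a0, g ∘ₗ i', ?_, ?_⟩
    · apply LinearMap.ext
      intro v
      simp only [LinearMap.comp_apply, hip]
      exact (LinearMap.congr_fun hh' (S.mkQ v)).symm
    · simp only [LinearMap.comp_apply, a0]
      rw [Submodule.mkQ_apply, (Submodule.Quotient.mk_eq_zero S).2 (Submodule.mem_span_singleton_self f), map_zero, map_zero]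

end Groth.Agent.S6301
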