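import Groth.Statements.S6303
import Mathlib
import Groth.Agent.Lib.TorsionFreeEmbed

set_option autoImplicit false
universe u
open TensorProduct
open Groth.Agent.TorsionFreeEmbed
open CAlg

namespace Groth.Agent.S6303

/-- Let R be a ring, I, J ⊆ R ideals and M a flat R-module. Then IM ∩ JM = (I ∩ J)M. -/
theorem result {R : Type u} [CommRing R] (I J : Ideal R) (M : Type u) [AddCommGroup M] [Module R M] [Module.Flat R M] : (I • (⊤ : Submodule R M)) ⊓ (J • ⊤) = (I ⊓ J) • (⊤ : Submodule R M) := by
  refine le_antisymm ?_ (le_inf (Submodule.smul_mono_left inf_le_left) (Submodule.smul_mono_left inf_le_right))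
  rintro x ⟨hxI, hxJ⟩
  let f : (R ⧸ (I ⊓ J)) →ₗ[R] (R ⧸ I) × (R ⧸ J) :=
    (Submodule.factor inf_le_left).prod (Submodule.factor inf_le_right)
  have hf : Function.Injective f := by
    rw [injective_iff_map_eq_zero]
    intro z hz
    obtain ⟨r, rfl⟩ := Submodule.Quotient.mk_surjective _ z
    have hz1 : Submodule.Quotient.mk (p := I) r = 0 := congrArg Prod.fst hz
    have hz2 : Submodule.Quotient.mk (p := J) r = 0 := congrArg Prod.snd hz
    exact (Submodule.Quotient.mk_eq_zero _).mpr ⟨(Submodule.Quotient.mk_eq_zero _).mp hz1, (Submodule.Quotient.mk_eq_zero _).mp hz2⟩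
  have h := Module.Flat.rTensor_preserves_injective_linearMap (M := M) f hf
  have key : ∀ K : Ideal R, Submodule.Quotient.mk (p := K) (1 : R) ⊗ₜ[R] x = 0 ↔ x ∈ (K • ⊤ : Submodule R M) := by
    intro K
    have := TensorProduct.quotTensorEquivQuotSMul_mk_tmul K 1 x
    rw [one_smul] at this
    rw [← Submodule.Quotient.mk_eq_zero, ← this]
    exact (EmbeddingLike.map_eq_zero_iff (f := TensorProduct.quotTensorEquivQuotSMul M K)).symm
  rw [← key]
  apply h
  rw [map_zero, LinearMap.rTensor_tmul]
  have h1 : f (Submodule.Quotient.mk 1) = (Submodule.Quotient.mk 1, Submodule.Quotient.mk 1) := rfl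
  rw [h1]
  apply (TensorProduct.prodLeft R R (R ⧸ I) (R ⧸ J) M).injective
  rw [TensorProduct.prodLeft_tmul, map_zero, (key I).mpr hxI, (key J).mpr hxJ]
  rfl

end Groth.Agent.S6303
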