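import Groth.Statements.S6304
import Mathlib

set_option autoImplicit false
universe u
open TensorProduct
open CAlg

namespace Groth.Agent.S6304

/-- In a short exact sequence 0 → M' → M → M'' → 0 of R-modules whose right-hand term M'' is flat, the
middle term M is flat when M' is, and M' is flat when M is. -/
theorem result {R : Type u} [CommRing R] {M' M M'' : Type u} [AddCommGroup M'] [Module R M'] [AddCommGroup M] [Module R M] [AddCommGroup M''] [Module R M''] (f : M' →ₗ[R] M) (g : M →ₗ[R] M'') (hf : Function.Injective f) (hexact : Function.Exact f g) (hg : Function.Surjective g) [Module.Flat R M''] : (Module.Flat R M' → Module.Flat R M) ∧ (Module.Flat R M → Module.Flat R M') := by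
  have inj : ∀ (A : Type u) [AddCommGroup A] [Module R A], Function.Injective (f.lTensor A) :=
    fun A _ _ => LinearMap.lTensor_injective_of_exact_of_flat g hg f hf hexact A
  constructor
  · intro _
    rw [Module.Flat.iff_rTensor_preserves_injective_linearMap]
    intro N N' _ _ _ _ i hi
    rw [injective_iff_map_eq_zero]
    intro x hx
    have h2 : i.rTensor M'' (g.lTensor N x) = 0 := by
      rw [← LinearMap.comp_apply, LinearMap.rTensor_comp_lTensor, ← LinearMap.lTensor_comp_rTensor,
        LinearMap.comp_apply, hx, map_zero]
    have h3 := (injective_iff_map_eq_zero _).mp (Module.Flat.rTensor_preserves_injective_linearMap (M := M'') i hi) _ h2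
    obtain ⟨y, rfl⟩ := (lTensor_exact N hexact hg x).mp h3
    have h4 : f.lTensor N' (i.rTensor M' y) = 0 := by
      rw [← LinearMap.comp_apply, LinearMap.lTensor_comp_rTensor, ← LinearMap.rTensor_comp_lTensor, LinearMap.comp_apply, hx]
    have h5 := (injective_iff_map_eq_zero _).mp (inj N') _ h4
    rw [(injective_iff_map_eq_zero _).mp (Module.Flat.rTensor_preserves_injective_linearMap (M := M') i hi) _ h5, map_zero]
  · intro _
    rw [Module.Flat.iff_rTensor_preserves_injective_linearMap]
    intro N N' _ _ _ _ i hi
    have e : Function.Injective (f.lTensor N' ∘ i.rTensor M') := by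
      rw [← LinearMap.coe_comp, LinearMap.lTensor_comp_rTensor, ← LinearMap.rTensor_comp_lTensor, LinearMap.coe_comp]
      exact (Module.Flat.rTensor_preserves_injective_linearMap (M := M) i hi).comp (inj N)
    exact e.of_comp

end Groth.Agent.S6304
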