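import Groth.Statements.S6307
import Mathlib

set_option autoImplicit false
universe u
open CAlg

namespace Groth.Agent.S6307

/-- Let R be a ring, J ⊆ R a principal ideal and I ⊆ J an ideal. Then I = J · (I : J). -/
theorem result {R : Type u} [CommRing R] (I J : Ideal R) (hJ : J.IsPrincipal) (hIJ : I ≤ J) : I = J * I.colon J := by
  apply le_antisymm
  · intro x hx
    obtain ⟨g, hg⟩ := hJ.principal
    have hg' : J = Ideal.span {g} := hg
    obtain ⟨c, rfl⟩ := Ideal.mem_span_singleton.mp (hg' ▸ hIJ hx)
    refine Ideal.mul_mem_mul (hg' ▸ Ideal.mem_span_singleton_self g) ?_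
    rw [Submodule.mem_colon]
    intro j hj
    obtain ⟨d, rfl⟩ := Ideal.mem_span_singleton.mp (show j ∈ Ideal.span {g} from hg' ▸ hj)
    have := I.mul_mem_left d hx
    simpa [smul_eq_mul, mul_comm, mul_assoc, mul_left_comm] using this
  · rw [Ideal.mul_le]
    intro j hj r hr
    rw [Submodule.mem_colon] at hr
    simpa [mul_comm] using hr j hj

end Groth.Agent.S6307
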