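import Groth.Statements.S6312
import Mathlib

set_option autoImplicit false
universe u
open CAlg

namespace Groth.Agent.S6312

/-- Let R be a ring, M an R-module and S ⊆ R a multiplicative subset. Then length_{S⁻¹R}(S⁻¹M) ≤
length_R(M). -/
theorem result {R : Type u} [CommRing R] (S : Submonoid R) (M : Type u) [AddCommGroup M] [Module R M] : Module.length (Localization S) (LocalizedModule S M) ≤ Module.length R M := by
  rw [← WithBot.coe_le_coe, Module.coe_length, Module.coe_length]
  let L := Localization S
  let f := LocalizedModule.mkLinearMap S M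
  let φ : Submodule L (LocalizedModule S M) → Submodule R M := fun N => (N.restrictScalars R).comap f
  have key : ∀ N N', φ N ≤ φ N' → N ≤ N' := by
    intro N N' h x hx
    obtain ⟨⟨m, s⟩, hms⟩ := IsLocalizedModule.surj S f x
    have hms : (s : R) • x = f m := hms
    have h1 : f m ∈ N := hms ▸ (N.smul_of_tower_mem (s:R) hx)
    have h2 : (s : R) • x ∈ N' := hms ▸ h h1
    have h3 : x = (Localization.mk 1 s : L) • ((s : R) • x) := by
      rw [← algebraMap_smul L (s:R) x, smul_smul, ← Localization.mk_one_eq_algebraMap, Localization.mk_mul]
      simp [Localization.mk_self]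
    rw [h3]; exact N'.smul_mem _ h2
  refine Order.krullDim_le_of_strictMono φ fun N N' hlt => ?_
  have hmono : φ N ≤ φ N' := fun m hm => hlt.le hm
  exact lt_of_le_of_ne hmono fun e => hlt.not_ge (key _ _ e.ge)

end Groth.Agent.S6312
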