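import Groth.Statements.S6313
import Groth.Agent.Lib.H2TorBalance
import Groth.Agent.Lib.H5FCxTor
import Mathlib

set_option autoImplicit false
universe u
open CategoryTheory
open CAlg

namespace Groth.Agent.S6313

theorem gen0 {R : Type u} [CommRing R] {M F B N L K : Type u} [AddCommGroup M] [Module R M] [AddCommGroup F] [Module R F]
    [Module.Flat R F] [AddCommGroup B] [Module R B] [Module.Flat R B] [AddCommGroup N] [Module R N]
    [AddCommGroup L] [Module R L] [AddCommGroup K] [Module R K]
    (f : L →ₗ[R] B) (g : B →ₗ[R] M) (hf : Function.Injective f) (hfg : Function.Exact f g) (hg : Function.Surjective g)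
    (i : K →ₗ[R] F) (p : F →ₗ[R] N) (hip : Function.Exact i p) (hp : Function.Surjective p)
    (I : Ideal R) (q : R →ₗ[R] N) (hq : Function.Surjective q) (hI : Function.Exact I.subtype q)
    (h : Function.Injective (i.lTensor M)) : Function.Injective (I.subtype.lTensor M) := by
  have hF : Function.Injective (f.rTensor F) := Module.Flat.rTensor_preserves_injective_linearMap f hf
  have h1 : Function.Injective (f.rTensor N) := Groth.Agent.H2TorBalance.bal f g hfg hg i p hip hp hF h
  have hB : Function.Injective (I.subtype.rTensor B) :=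
    Module.Flat.rTensor_preserves_injective_linearMap _ I.injective_subtype
  exact (LinearMap.lTensor_inj_iff_rTensor_inj M _).mpr
    (Groth.Agent.H2TorBalance.bal I.subtype q hI hq f g hfg hg hB ((LinearMap.lTensor_inj_iff_rTensor_inj N f).mpr h1))

theorem gen' {R : Type u} [CommRing R] {M F N : Type u} [AddCommGroup M] [Module R M] [AddCommGroup F] [Module R F]
    [Module.Flat R F] [AddCommGroup N] [Module R N] (p : F →ₗ[R] N) (hp : Function.Surjective p) (I : Ideal R)
    (q : R →ₗ[R] N) (hq : Function.Surjective q) (hI : Function.Exact I.subtype q)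
    (h : Function.Injective ((LinearMap.ker p).subtype.lTensor M)) : Function.Injective (I.subtype.lTensor M) :=
  by
  let g : (M →₀ R) →ₗ[R] M := Finsupp.linearCombination R (_root_.id : M → M)
  have hg : Function.Surjective g :=
    fun n => ⟨Finsupp.single n 1, (Finsupp.linearCombination_single R _ _).trans (one_smul R n)⟩
  exact @gen0 R _ M F (M →₀ R) N ↥(LinearMap.ker g) ↥(LinearMap.ker p) _ _ _ _ _ _ _ _ _ _ _ _ _ _
    (LinearMap.ker g).subtype g (Submodule.injective_subtype _) (LinearMap.exact_subtype_ker_map g) hg
    (LinearMap.ker p).subtype p (LinearMap.exact_subtype_ker_map p) hp I q hq hI h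

/-- For a ring R and an R-module M, flatness of M over R is equivalent to the vanishing of Tor₁ᴿ(M, R/I)
for every finitely generated ideal I ⊆ R. -/
theorem result (R : Type u) [CommRing R] (M : Type u) [AddCommGroup M] [Module R M] : Module.Flat R M ↔ ∀ I : Ideal R, I.FG → Limits.IsZero (((CategoryTheory.Tor (ModuleCat.{u} R) 1).obj (ModuleCat.of R M)).obj (ModuleCat.of R (R ⧸ I))) := by
  have key : ∀ (N : Type u) [AddCommGroup N] [Module R N] (P : ProjectiveResolution (ModuleCat.of R N)),
      Limits.IsZero (((CategoryTheory.Tor (ModuleCat.{u} R) 1).obj (ModuleCat.of R M)).obj (ModuleCat.of R N)) ↔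
        Function.Injective ((LinearMap.ker (P.π.f 0).hom).subtype.lTensor M) := by
    intro N _ _ P
    obtain ⟨e⟩ := Groth.Agent.H5FCxTor.torOne_equiv M N P
    rw [ModuleCat.isZero_iff_subsingleton, e.toEquiv.subsingleton_congr, Submodule.subsingleton_iff_eq_bot,
      LinearMap.ker_eq_bot]
  constructor
  · intro hM I _
    exact (key _ (ProjectiveResolution.of _)).mpr (Module.Flat.lTensor_preserves_injective_linearMap _ (Submodule.injective_subtype _))
  · intro h
    rw [Module.Flat.iff_lTensor_injective]
    intro I hI
    let P := ProjectiveResolution.of (ModuleCat.of R (R ⧸ I))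
    haveI : Module.Projective R (P.complex.X 0) := (IsProjective.iff_projective _).2 (P.projective 0)
    refine gen' (N := R ⧸ I) (P.π.f 0).hom ?_ I I.mkQ I.mkQ_surjective (LinearMap.exact_subtype_mkQ I) ?_
    · exact (ModuleCat.epi_iff_surjective (P.π.f 0)).1 inferInstance
    · exact (key _ P).mp (h I hI)

end Groth.Agent.S6313
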