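import Groth.Statements.S6314
import Groth.Agent.Lib.H2TorBalance
import Groth.Agent.Lib.H5FCxTor
import Mathlib

set_option autoImplicit false
universe u
open CategoryTheory
open CAlg

namespace Groth.Agent.S6314

/-- Let R be a ring and M a flat R-module. Then Torᵢᴿ(M, N) = 0 for all R-modules N and all i > 0. -/
theorem result (R : Type u) [CommRing R] (M : Type u) [AddCommGroup M] [Module R M] [Module.Flat R M] (N : ModuleCat.{u} R) (i : ℕ) (hi : 0 < i) : Limits.IsZero (((CategoryTheory.Tor (ModuleCat.{u} R) i).obj (ModuleCat.of R M)).obj N) := by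
  let P := ProjectiveResolution.of N
  refine Limits.IsZero.of_iso ?_ (Groth.Agent.H5FCxTor.torIso i M P)
  obtain ⟨n, rfl⟩ : ∃ n, i = n + 1 := ⟨i - 1, by omega⟩
  have h := P.complex_exactAt_succ n
  have h1 : (ComplexShape.down ℕ).prev (n + 1) = n + 2 := by simp
  have h2 : (ComplexShape.down ℕ).next (n + 1) = n := by simp
  rw [HomologicalComplex.exactAt_iff' P.complex (n + 2) (n + 1) n h1 h2] at h
  rw [← HomologicalComplex.exactAt_iff_isZero_homology, HomologicalComplex.exactAt_iff' _ (n + 2) (n + 1) n h1 h2]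
  exact Module.Flat.lTensor_shortComplex_exact (ModuleCat.of R M) (P.complex.sc' (n + 2) (n + 1) n) h

end Groth.Agent.S6314
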