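import Groth.Statements.S6331
import Mathlib
import Groth.Agent.Lib.TorsionFreeEmbed
import Groth.Agent.Lib.CAlgSmall1

set_option autoImplicit false
universe u
open TensorProduct Groth.Agent.TorsionFreeEmbed
open Groth.Agent.CAlgSmall1
open CAlg

namespace Groth.Agent.S6331

/-- Let R be a ring, I ⊆ R an ideal all of whose elements are nilpotent, and n ≥ 1 an integer whose
image in R/I is invertible. Then (1) raising to the n-th power is a bijection of the subset 1 + I of
R onto itself: for every y ∈ I there is exactly one x ∈ I with (1 + x)ⁿ = 1 + y; (2) a unit u of R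
has an n-th root in R exactly when the residue class of u has an n-th root in R/I. -/
theorem result {R : Type u} [CommRing R] (I : Ideal R) (hI : ∀ x ∈ I, IsNilpotent x) (n : ℕ) (hn : 1 ≤ n) (hinv : IsUnit ((n : ℕ) : R ⧸ I)) : (∀ y ∈ I, ∃! x : R, x ∈ I ∧ (1 + x) ^ n = 1 + y) ∧ (∀ u : Rˣ, (∃ v : R, v ^ n = (u : R)) ↔ ∃ w : R ⧸ I, w ^ n = Ideal.Quotient.mk I (u : R)) := by
  refine ⟨fun y hy => ?_, fun u => ?_⟩
  · obtain ⟨x, hx, e⟩ := root_exists hI hinv hy
    exact ⟨x, ⟨hx, e⟩, fun x' hx' => sub_pow_eq_mul hI hinv hx'.1 hx (hx'.2.trans e.symm)⟩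
  · constructor
    · rintro ⟨v, hv⟩
      exact ⟨Ideal.Quotient.mk I v, by rw [← map_pow, hv]⟩
    · rintro ⟨w, hw⟩
      obtain ⟨v, rfl⟩ := Ideal.Quotient.mk_surjective w
      rw [← map_pow, Ideal.Quotient.eq] at hw
      have hvu : IsUnit (v ^ n) := by
        have := (hI _ hw).isUnit_add_left_of_commute u.isUnit (Commute.all _ _)
        simpa using this
      obtain ⟨v', rfl⟩ := (isUnit_pow_iff (Nat.one_le_iff_ne_zero.mp hn)).mp hvu
      obtain ⟨x, -, hx⟩ := root_exists hI hinv (y := ↑(v' ^ n)⁻¹ * ((u : R) - (v' : R) ^ n))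
        (I.mul_mem_left _ (by simpa using I.neg_mem hw))
      refine ⟨(v' : R) * (1 + x), ?_⟩
      rw [mul_pow, hx, mul_add, mul_one, ← mul_assoc, ← Units.val_pow_eq_pow_val, Units.mul_inv, one_mul]
      ring

end Groth.Agent.S6331
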