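import Groth.Statements.S6332
import Mathlib

set_option autoImplicit false
universe u
open Fields

namespace Groth.Agent.S6332

open IntermediateField in
/-- Let L/K be a finite Galois extension of fields of characteristic p > 0 whose degree equals the prime
p (equivalently, the Galois group is cyclic of order p). Then there is an element z of L with z ^ p
- z in K which generates L over K. -/
theorem result {K L : Type u} [Field K] [Field L] [Algebra K L] (p : ℕ)
    [Fact p.Prime] [CharP K p] [FiniteDimensional K L] [IsGalois K L]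
    (hdeg : Module.finrank K L = p) :
    ∃ z : L, z ^ p - z ∈ Set.range (algebraMap K L) ∧ K⟮z⟯ = ⊤ := by
  have hp := (Fact.out : p.Prime)
  have hcard : Nat.card (L ≃ₐ[K] L) = p := by rw [IsGalois.card_aut_eq_finrank, hdeg]
  haveI : IsCyclic (L ≃ₐ[K] L) := isCyclic_of_prime_card hcard
  obtain ⟨σ0, hσ0⟩ := IsCyclic.exists_generator (α := L ≃ₐ[K] L)
  let e : Multiplicative (ZMod p) ≃* (L ≃ₐ[K] L) := zmodMulEquivOfGenerator hσ0 hcard
  haveI : CharP L p := charP_of_injective_algebraMap (algebraMap K L).injective p
  let ι : ZMod p →+* L := ZMod.castHom dvd_rfl L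
  obtain ⟨θ, hθ⟩ := Algebra.trace_surjective K L 1
  let z : L := ∑ i : ZMod p, ι i * e (Multiplicative.ofAdd i) θ
  set σ := e (Multiplicative.ofAdd 1) with hσ
  have htr : ∑ i : ZMod p, e (Multiplicative.ofAdd i) θ = 1 := by
    rw [← map_one (algebraMap K L), ← hθ, trace_eq_sum_automorphisms]
    exact Fintype.sum_equiv (Multiplicative.ofAdd.trans e.toEquiv) _ _ fun i => rfl
  have hιfix : ∀ (g : L ≃ₐ[K] L) (i : ZMod p), g (ι i) = ι i := fun g i =>
    RingHom.congr_fun (Subsingleton.elim (g.toAlgHom.toRingHom.comp ι) ι) i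
  have hσz : σ z = z - 1 := by
    calc σ z = ∑ i : ZMod p, ι i * e (Multiplicative.ofAdd (1 + i)) θ := by
          simp only [z, map_sum, map_mul, hιfix, ofAdd_add]
          rfl
      _ = ∑ i : ZMod p, ι (i - 1) * e (Multiplicative.ofAdd i) θ :=
          Fintype.sum_equiv (Equiv.addLeft 1) _ _ fun i => by simp
      _ = z - 1 := by
          simp only [map_sub, map_one, sub_mul, one_mul, Finset.sum_sub_distrib]
          rw [htr]
  refine ⟨z, ?_, ?_⟩
  · rw [IsGalois.mem_range_algebraMap_iff_fixed]
    intro g
    obtain ⟨i, rfl⟩ := e.surjective g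
    have hg : e i = σ ^ (Multiplicative.toAdd i).val := by
      rw [hσ, ← map_pow, ← ofAdd_nsmul, nsmul_eq_mul, mul_one, ZMod.natCast_zmod_val]
      rfl
    rw [hg]
    generalize (Multiplicative.toAdd i).val = k
    induction k with
    | zero => simp
    | succ k ih =>
      haveI : ExpChar L p := .prime hp
      rw [pow_succ, AlgEquiv.mul_apply, map_sub σ, map_pow σ, hσz, sub_pow_expChar, one_pow]
      ring_nf
      ring_nf at ih
      exact ih
  · rcases (IntermediateField.isSimpleOrder_of_finrank_prime K L (hdeg ▸ hp)).eq_bot_or_eq_top K⟮z⟯ with h | h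
    · exfalso
      rw [IntermediateField.adjoin_simple_eq_bot_iff, IntermediateField.mem_bot] at h
      obtain ⟨r, hr⟩ := h
      rw [← hr, AlgEquiv.commutes, eq_comm, sub_eq_self] at hσz
      exact one_ne_zero hσz
    · exact h

end Groth.Agent.S6332
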