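import Groth.Statements.S6333
import Mathlib

set_option autoImplicit false
universe u
open Fields

namespace Groth.Agent.S6333
open scoped IntermediateField.algebraAdjoinAdjoin
set_option maxHeartbeats 1000000

/-- For a finitely generated field extension K/k, the algebraic closure of k inside K is a finite
extension of k. -/
theorem result {k K : Type u} [Field k] [Field K] [Algebra k K]
    (hfg : (⊤ : IntermediateField k K).FG) :
    FiniteDimensional k (algebraicClosure k K) := by
  have : Algebra.EssFiniteType k K := IntermediateField.fg_top_iff.1 hfg
  obtain ⟨s, hs, -⟩ := IntermediateField.exists_finset_maximalFor_isTranscendenceBasis_separableClosure k K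
  let E := IntermediateField.adjoin k ((s : Set K))
  have : Algebra.EssFiniteType E K := .of_comp k _ _
  have : Algebra.IsAlgebraic E K := by
    convert! hs.isAlgebraic_field <;> simp [E]
  have : Module.Finite E K := Algebra.finite_of_essFiniteType_of_isAlgebraic
  have hL : AlgebraicIndependent (algebraicClosure k K) (Subtype.val : (↑(s : Set K) : Type u) → K) := hs.1.algebraicClosure
  refine Module.rank_lt_aleph0_iff.1 (lt_of_le_of_lt (rank_le (n := Module.finrank E K) fun t ht => ?_)
    (Cardinal.natCast_lt_aleph0))
  let A := Algebra.adjoin k (s : Set K)
  have hA : LinearIndependent A (fun i : t => ((i : algebraicClosure k K) : K)) := by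
    rw [Fintype.linearIndependent_iff]
    intro c hc
    have hp : ∀ i, ∃ p : MvPolynomial (s : Set K) k, MvPolynomial.aeval (Subtype.val : (↑(s : Set K) : Type u) → K) p = (c i : K) := fun i => by
      have h := (c i).2
      simp only [A] at h
      have e : Algebra.adjoin k (s : Set K) = (MvPolynomial.aeval (Subtype.val : (↑(s : Set K) : Type u) → K)).range := by
        rw [← Algebra.adjoin_range_eq_range_aeval, Subtype.range_coe]
      exact e.le h
    choose p hp using hp
    let q : MvPolynomial (s : Set K) (algebraicClosure k K) :=
      ∑ i : t, MvPolynomial.C (i : algebraicClosure k K) * MvPolynomial.map (algebraMap k _) (p i)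
    have hq : MvPolynomial.aeval (Subtype.val : (↑(s : Set K) : Type u) → K) q = 0 := by
      refine Eq.trans ?_ hc
      simp only [q, map_sum, map_mul, MvPolynomial.aeval_C, MvPolynomial.aeval_map_algebraMap, hp]
      refine Finset.sum_congr rfl fun i _ => ?_
      rw [Algebra.smul_def, mul_comm]; rfl
    have hq0 : q = 0 := hL.eq_zero_of_aeval_eq_zero q hq
    intro i
    have : p i = 0 := MvPolynomial.ext _ _ fun m => by
      have h := congrArg (MvPolynomial.coeff m) hq0
      simp only [q, MvPolynomial.coeff_sum, MvPolynomial.coeff_C_mul, MvPolynomial.coeff_map,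
        MvPolynomial.coeff_zero] at h
      rw [MvPolynomial.coeff_zero]
      refine Fintype.linearIndependent_iff.1 ht (fun j => MvPolynomial.coeff m (p j)) ?_ i
      refine Eq.trans (Finset.sum_congr rfl fun j _ => ?_) h
      rw [Algebra.smul_def, mul_comm]
    exact Subtype.ext ((hp i).symm.trans (by rw [this, map_zero]; rfl))
  have hE := (LinearIndependent.iff_fractionRing (R := A) (K := E)).1 hA
  simpa using hE.fintype_card_le_finrank

end Groth.Agent.S6333
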