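import Groth.Statements.S6335
import Mathlib

set_option autoImplicit false
universe u
open Fields

namespace Groth.Agent.S6335

/-- Let K be a field of characteristic p > 0, L/K a separable algebraic extension and a an element of L.
If a is a root of a polynomial P over K which is separable (pairwise distinct roots in an algebraic
closure) and all of whose coefficients are p-th powers in K, then a is a p-th power in L. (Part (1),
the case where P is the minimal polynomial of a, is a special case.) -/
theorem result {K L : Type u} [Field K] [Field L] [Algebra K L]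
    (p : ℕ) [Fact p.Prime] [CharP K p] [Algebra.IsSeparable K L] (a : L) (P : Polynomial K)
    (hroot : Polynomial.aeval a P = 0) (hsep : P.Separable) (hcoeff : ∀ i : ℕ, ∃ b : K, b ^ p = P.coeff i) :
    ∃ c : L, c ^ p = a := by
  classical
  haveI : ExpChar K p := .prime Fact.out
  haveI : CharP L p := charP_of_injective_algebraMap (algebraMap K L).injective p
  haveI : ExpChar L p := .prime Fact.out
  obtain ⟨Q, hQ⟩ : ∃ Q : Polynomial K, Q.map (frobenius K p) = P := by
    rw [← Polynomial.mem_lifts, Polynomial.lifts_iff_coeff_lifts]
    exact fun i => hcoeff i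
  let Lb := AlgebraicClosure L
  haveI : CharP Lb p := charP_of_injective_algebraMap (algebraMap L Lb).injective p
  haveI : ExpChar Lb p := .prime Fact.out
  obtain ⟨c, hc⟩ := IsAlgClosed.exists_pow_nat_eq (algebraMap L Lb a) (Fact.out : p.Prime).pos
  have hQs : Q.Separable := by
    rw [← Polynomial.separable_map (frobenius K p), hQ]
    exact hsep
  have h0 : Polynomial.aeval c Q = 0 := by
    apply frobenius_inj Lb p
    rw [map_zero, Polynomial.aeval_def, Polynomial.hom_eval₂]
    have e : (frobenius Lb p).comp (algebraMap K Lb) = (algebraMap K Lb).comp (frobenius K p) :=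
      RingHom.ext fun x => ((algebraMap K Lb).map_frobenius p x).symm
    rw [e, ← Polynomial.eval₂_map, hQ, frobenius_def, hc, IsScalarTower.algebraMap_eq K L Lb, ← Polynomial.hom_eval₂,
      ← Polynomial.aeval_def, hroot, map_zero]
  have hcK : IsSeparable K c := hQs.of_dvd (minpoly.dvd K c h0)
  have hcL : IsSeparable L c := hcK.tower_top L
  have h := IntermediateField.adjoin_simple_eq_adjoin_pow_expChar_of_isSeparable L Lb hcL p
  have hbot : IntermediateField.adjoin L {c ^ p} = ⊥ := by
    rw [IntermediateField.adjoin_simple_eq_bot_iff, hc]
    exact IntermediateField.algebraMap_mem _ a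
  rw [hbot, IntermediateField.adjoin_simple_eq_bot_iff, IntermediateField.mem_bot] at h
  obtain ⟨x, rfl⟩ := h
  exact ⟨x, (algebraMap L Lb).injective (by rw [map_pow]; exact hc)⟩

end Groth.Agent.S6335
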