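import Groth.Statements.S6336
import Mathlib

set_option autoImplicit false
universe u
open Fields

namespace Groth.Agent.S6336

open IntermediateField Polynomial in
/-- With an added hypothesis: let L/K be a finite extension of degree e generated by a single element a
whose e-th power lies in K, and assume that the polynomial X ^ e - 1 splits into linear factors over
K (so every e-th root of unity of any extension of K already lies in K; this holds when K contains a
primitive e-th root of unity, and when e is a power of the characteristic). Then every intermediate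
field of L/K is generated by a ^ d for some divisor d of e. (The published statement has no
hypothesis on roots of unity; for K the rationals and a a primitive 8-th root of unity, e = 4 and a
^ 4 = -1, the intermediate field generated by a + a⁻¹, a square root of 2, is none of K(a), K(a ^
2), K(a ^ 4); the published proof uses that the e-th roots of unity met are fixed by the
automorphisms it constructs, which the splitting hypothesis guarantees.) -/
theorem result {K L : Type u} [Field K] [Field L] [Algebra K L]
    [FiniteDimensional K L] (a : L) (ha : K⟮a⟯ = ⊤)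
    (hpow : a ^ Module.finrank K L ∈ Set.range (algebraMap K L))
    (hroots : (X ^ Module.finrank K L - 1 : K[X]).Splits) (L' : IntermediateField K L) :
    ∃ d : ℕ, d ∣ Module.finrank K L ∧ L' = K⟮a ^ d⟯ := by
  classical
  obtain ⟨c, hc⟩ := hpow
  set n := Module.finrank K L with hn
  have hn0 : 0 < n := Module.finrank_pos
  haveI : FiniteDimensional L' L := IntermediateField.finiteDimensional_right L'
  set m := Module.finrank L' L with hm
  have hmn : m ∣ n := Dvd.intro_left _ (Module.finrank_mul_finrank K L' L)
  refine ⟨m, hmn, ?_⟩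
  have hint : IsIntegral L' a := IsIntegral.of_finite L' a
  set q := minpoly L' a with hq
  have hdeg : q.natDegree = m := by
    rw [hq, hm, ← IntermediateField.adjoin.finrank hint]
    have htop : (L')⟮a⟯ = ⊤ := by
      rw [eq_top_iff]
      intro x _
      have hx : x ∈ K⟮a⟯ := by rw [ha]; trivial
      exact (IntermediateField.adjoin_simple_le_iff (K := (L')⟮a⟯.restrictScalars K)).2 (IntermediateField.mem_adjoin_simple_self L' a) hx
    rw [htop]
    exact (IntermediateField.topEquiv (F := L') (E := L)).toLinearEquiv.finrank_eq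
  have hroot : ∀ r : L, r ^ n = a ^ n → ∃ z : K, r = algebraMap K L z * a := by
    intro r hr
    rcases eq_or_ne a 0 with h | h
    · exact ⟨1, by rw [h, mul_zero]; exact eq_zero_of_pow_eq_zero (by rw [hr, h, zero_pow hn0.ne'])⟩
    · have h1 : (r / a) ^ n = 1 := by rw [div_pow, hr, div_self (pow_ne_zero n h)]
      obtain ⟨z, hz⟩ : r / a ∈ (algebraMap K L).range := hroots.mem_range_of_isRoot
        (by rw [← Polynomial.C_1]; exact X_pow_sub_C_ne_zero hn0 1) (by simp [Polynomial.IsRoot, h1])
      exact ⟨z, by rw [hz, div_mul_cancel₀ _ h]⟩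
  have hsplit : (X ^ n - Polynomial.C (a ^ n) : L[X]).Splits := by
    have h := (hroots.map (algebraMap K L))
    rw [Polynomial.map_sub, Polynomial.map_pow, Polynomial.map_X, Polynomial.map_one] at h
    rcases eq_or_ne a 0 with h0 | h0
    · simp [h0, zero_pow hn0.ne']
    · refine Polynomial.splits_iff_card_roots.2 ?_
      have hcard := Polynomial.splits_iff_card_roots.1 h
      rw [Polynomial.natDegree_X_pow_sub_C]
      rw [← Polynomial.C_1, Polynomial.natDegree_X_pow_sub_C] at hcard
      refine le_antisymm (((Polynomial.card_roots' _)).trans Polynomial.natDegree_X_pow_sub_C.le) ?_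
      calc n = ((X ^ n - Polynomial.C (1 : L)).roots.map (a * ·)).card := by rw [Multiset.card_map, hcard]
        _ ≤ _ := Multiset.card_le_card ?_
      have hne := X_pow_sub_C_ne_zero hn0 (a ^ n)
      have e : (X ^ n - Polynomial.C (1 : L)).roots.map (a * ·) = (X ^ n - Polynomial.C (a ^ n)).roots := by
        have e1 : (X ^ n - Polynomial.C (a ^ n) : L[X]) = Polynomial.C (a ^ n) * (X ^ n - Polynomial.C (1 : L)).comp (Polynomial.C a⁻¹ * X) := by
          rw [Polynomial.sub_comp, Polynomial.pow_comp, Polynomial.X_comp, Polynomial.C_comp, mul_sub, ← Polynomial.C_mul, mul_one,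
            mul_pow, ← mul_assoc, ← Polynomial.C_pow, ← Polynomial.C_mul, ← mul_pow, mul_inv_cancel₀ h0, one_pow, Polynomial.C_1, one_mul]
        rw [e1, Polynomial.roots_C_mul _ (pow_ne_zero n h0), show (Polynomial.C a⁻¹ * X : L[X]) = Polynomial.C a⁻¹ * X + Polynomial.C 0 by simp, Polynomial.roots_comp_C_mul_X_add_C _ _ _ (isUnit_iff_ne_zero.2 (inv_ne_zero h0))]
        simp
      rw [e]
  have hdvd : q.map (algebraMap L' L) ∣ X ^ n - Polynomial.C (a ^ n) := by
    have h := minpoly.dvd L' a (p := X ^ n - Polynomial.C (algebraMap K L' c)) (by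
      simp [hc, ← IsScalarTower.algebraMap_apply K L' L])
    have h2 := Polynomial.map_dvd (algebraMap L' L) h
    rwa [Polynomial.map_sub, Polynomial.map_pow, Polynomial.map_X, Polynomial.map_C,
      ← IsScalarTower.algebraMap_apply, hc] at h2
  have hqs : (q.map (algebraMap L' L)).Splits := hsplit.of_dvd (X_pow_sub_C_ne_zero hn0 _) hdvd
  have hqm : (q.map (algebraMap L' L)).Monic := (minpoly.monic hint).map _
  have hcard : (q.map (algebraMap L' L)).roots.card = m := by
    rw [← hqs.natDegree_eq_card_roots, Polynomial.natDegree_map, hdeg]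
  have hprod : ∀ s : Multiset L, (∀ r ∈ s, r ^ n = a ^ n) → ∃ z : K, s.prod = algebraMap K L z * a ^ s.card := by
    intro s
    induction s using Multiset.induction_on with
    | empty => exact fun _ => ⟨1, by simp⟩
    | cons r s ih =>
      intro hs
      obtain ⟨z, hz⟩ := ih fun r' hr' => hs r' (Multiset.mem_cons_of_mem hr')
      obtain ⟨w, hw⟩ := hroot r (hs r (Multiset.mem_cons_self r s))
      exact ⟨w * z, by rw [Multiset.prod_cons, hz, hw, map_mul, Multiset.card_cons, pow_succ]; ring⟩
  have hmem : a ^ m ∈ L' := by
    obtain ⟨z, hz⟩ := hprod (q.map (algebraMap L' L)).roots fun r hr => by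
      have h := (Polynomial.mem_roots hqm.ne_zero).1 hr
      have h2 := h.dvd hdvd
      simpa [Polynomial.IsRoot, sub_eq_zero] using h2
    have h0 := hqs.coeff_zero_eq_prod_roots_of_monic hqm
    rw [Polynomial.coeff_map, hz, hcard, Polynomial.natDegree_map, hdeg] at h0
    rcases eq_or_ne z 0 with hz0 | hz0
    · rw [hz0, map_zero, zero_mul, mul_zero, FaithfulSMul.algebraMap_eq_zero_iff, hq,
        minpoly.coeff_zero_eq_zero hint] at h0
      rw [h0, zero_pow (Module.finrank_pos (R := L') (M := L)).ne']
      exact zero_mem _
    · have hu : ((-1 : L) ^ m * algebraMap K L z) ≠ 0 :=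
        mul_ne_zero (pow_ne_zero _ (by simp)) (by simpa using hz0)
      have he : a ^ m = ((-1 : L) ^ m * algebraMap K L z)⁻¹ * algebraMap L' L (q.coeff 0) := by
        rw [h0, ← mul_assoc ((-1 : L) ^ m), inv_mul_cancel_left₀ hu]
      rw [he]
      exact mul_mem (inv_mem (mul_mem (pow_mem (neg_mem (one_mem L')) m) (L'.algebraMap_mem z))) (q.coeff 0).2
  have hle : K⟮a ^ m⟯ ≤ L' := IntermediateField.adjoin_simple_le_iff.2 hmem
  set E := K⟮a ^ m⟯ with hE
  refine (IntermediateField.eq_of_le_of_finrank_le' hle ?_).symm
  show Module.finrank E L ≤ m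
  have hint' : IsIntegral E a := IsIntegral.of_finite E a
  have htop : (E)⟮a⟯ = ⊤ := by
    rw [eq_top_iff]
    intro x _
    have hx : x ∈ K⟮a⟯ := by rw [ha]; trivial
    exact (IntermediateField.adjoin_simple_le_iff (K := (E)⟮a⟯.restrictScalars K)).2 (IntermediateField.mem_adjoin_simple_self E a) hx
  rw [← (IntermediateField.topEquiv (F := E) (E := L)).toLinearEquiv.finrank_eq, ← htop,
    IntermediateField.adjoin.finrank hint']
  have hm0 : 0 < m := Module.finrank_pos
  refine (Polynomial.natDegree_le_of_dvd (minpoly.dvd E a (p := X ^ m - Polynomial.C ⟨a ^ m, IntermediateField.mem_adjoin_simple_self K _⟩) ?_) (X_pow_sub_C_ne_zero hm0 _)).trans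
    Polynomial.natDegree_X_pow_sub_C.le
  simp

end Groth.Agent.S6336
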