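import Groth.Statements.S6337
import Mathlib
import Groth.Prelude.Def_Found
import Groth.Prelude.Def_CAlgX
import Groth.Agent.Lib.MittagLeffler

set_option autoImplicit false
universe u
open TensorProduct
open Groth.Agent.MittagLeffler
open CAlg

namespace Groth.Agent.S6337

/-- A direct sum of modules is Mittag-Leffler if and only if each summand is Mittag-Leffler. -/
theorem result (R : Type u) [CommRing R] {ι : Type u} (M : ι → Type u)
    [∀ i, AddCommGroup (M i)] [∀ i, Module R (M i)] :
    CAlg.IsMittagLeffler R (DirectSum ι M) ↔ ∀ i, CAlg.IsMittagLeffler R (M i) := by
  classical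
  constructor
  · intro h i
    exact ml_of_ui (DirectSum.lof R ι M i) (ui_of_retraction _ (DirectSum.component R ι M i)
      (LinearMap.ext fun x => DirectSum.component.lof_self R i x)) h
  · intro h
    refine of_zero fun κ Q _ _ z hz => ?_
    apply (TensorProduct.directSumLeft R R M (∀ k, Q k)).injective
    rw [map_zero]
    refine DirectSum.ext_component R fun i => ?_
    have hc : ∀ z : DirectSum ι M ⊗[R] (∀ k, Q k),
        DirectSum.component R ι (fun i => M i ⊗[R] (∀ k, Q k)) i (TensorProduct.directSumLeft R R M (∀ k, Q k) z) =
          (DirectSum.component R ι M i).rTensor _ z := by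
      intro z
      induction z with
      | zero => simp
      | tmul a b =>
        induction a using DirectSum.induction_on with
        | zero => simp
        | of j x =>
          rw [← DirectSum.lof_eq_of R, TensorProduct.directSumLeft_tmul_lof, LinearMap.rTensor_tmul]
          rcases eq_or_ne j i with rfl | hji
          · rw [DirectSum.component.lof_self, DirectSum.component.lof_self]
          · rw [DirectSum.component.of, DirectSum.component.of, dif_neg hji, dif_neg hji, zero_tmul]
        | add a c ha hc => simp only [add_tmul, map_add, ha, hc]
      | add a b ha hb => simp only [map_add, ha, hb]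
    rw [hc, map_zero]
    exact zero_of (h i) fun k => by rw [pr_nat, hz k, map_zero]

end Groth.Agent.S6337
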