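import Groth.Statements.S6341
import Mathlib
import Groth.Prelude.Def_Found
import Groth.Prelude.Def_CAlgX
import Groth.Agent.Lib.MittagLeffler

set_option autoImplicit false
universe u
open TensorProduct
open Groth.Agent.MittagLeffler
open CAlg

namespace Groth.Agent.S6341

/-- The colimit of a directed system of Mittag-Leffler modules with universally injective transition
maps is Mittag-Leffler. -/
theorem result (R : Type u) [CommRing R] {ι : Type u}
    [Preorder ι] [IsDirected ι (· ≤ ·)] [DecidableEq ι] (G : ι → Type u) [∀ i, AddCommGroup (G i)]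
    [∀ i, Module R (G i)] (f : ∀ i j, i ≤ j → G i →ₗ[R] G j) [DirectedSystem G fun i j h => f i j h]
    (hf : ∀ i j (h : i ≤ j), CAlgX.UniversallyInjective R (f i j h))
    (hG : ∀ i, CAlg.IsMittagLeffler R (G i)) :
    CAlg.IsMittagLeffler R (Module.DirectLimit G f) := by
  refine of_zero fun κ Q _ _ z hz => ?_
  rcases isEmpty_or_nonempty ι with hι | hι
  · haveI : Subsingleton (Module.DirectLimit G f) := by
      refine subsingleton_of_forall_eq 0 fun x => ?_
      exact LinearMap.congr_fun (Module.DirectLimit.hom_ext fun i => isEmptyElim i : (LinearMap.id : Module.DirectLimit G f →ₗ[R] _) = 0) x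
    exact Subsingleton.elim _ _
  have hui : ∀ i, CAlgX.UniversallyInjective R (Module.DirectLimit.of R ι G f i) := by
    intro i N _ _
    rw [← LinearMap.ker_eq_bot, LinearMap.ker_eq_bot']
    intro x hx
    have h1 := congrArg (TensorProduct.directLimitLeft f N) hx
    rw [TensorProduct.directLimitLeft_rTensor_of, map_zero] at h1
    obtain ⟨j, hij, hj⟩ := Module.DirectLimit.of.zero_exact h1
    exact hf i j hij N (hj.trans (map_zero _).symm)
  obtain ⟨i, w, hw⟩ := Module.DirectLimit.exists_of (TensorProduct.directLimitLeft f _ z)
  have hz' : z = (Module.DirectLimit.of R ι G f i).rTensor _ w := by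
    apply (TensorProduct.directLimitLeft f _).injective
    rw [TensorProduct.directLimitLeft_rTensor_of]
    exact hw.symm
  subst hz'
  rw [zero_of (hG i) (z := w) fun k => hui i (Q k) (by rw [map_zero, ← pr_nat, hz k]), map_zero]

end Groth.Agent.S6341
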