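import Groth.Statements.S6342
import Mathlib
import Groth.Prelude.Def_Found
import Groth.Prelude.Def_CAlgX
import Groth.Agent.Lib.MittagLeffler
import Groth.Agent.Lib.MittagLefflerBaseChange

set_option autoImplicit false
universe u
open TensorProduct Groth.Agent.MittagLeffler
open Groth.Agent.MittagLefflerBaseChange
open CAlg

namespace Groth.Agent.S6342

/-- Let R → S be a ring map such that S is Mittag-Leffler as an R-module, and let M be an S-module which
is flat and Mittag-Leffler over S. Then M is Mittag-Leffler as an R-module. -/
theorem result (R S : Type u) [CommRing R] [CommRing S] [Algebra R S]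
    (M : Type u) [AddCommGroup M] [Module S M] [Module R M] [IsScalarTower R S M]
    (hS : CAlg.IsMittagLeffler R S) [Module.Flat S M] (hM : CAlg.IsMittagLeffler S M) :
    CAlg.IsMittagLeffler R M := by
  exact ml_restrict hM fun ι Q _ _ =>
    Module.Flat.lTensor_preserves_injective_linearMap _ (show Function.Injective (piRightHom R S S Q) from hS ι Q)

end Groth.Agent.S6342
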