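import Groth.Statements.S6343
import Mathlib
import Groth.Prelude.Def_Found
import Groth.Prelude.Def_CAlgX
import Groth.Agent.Lib.MittagLeffler

set_option autoImplicit false
universe u
open TensorProduct
open Groth.Agent.MittagLeffler
open scoped TensorProduct
open CAlg

namespace Groth.Agent.S6343

/-- The tensor product of two Mittag-Leffler modules over a commutative ring is Mittag-Leffler. -/
theorem result (R : Type u) [CommRing R] (M N : Type u) [AddCommGroup M] [Module R M]
    [AddCommGroup N] [Module R N] (hM : CAlg.IsMittagLeffler R M) (hN : CAlg.IsMittagLeffler R N) :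
    CAlg.IsMittagLeffler R (M ⊗[R] N) := by
  refine ml_of_dom_free fun n f => ?_
  obtain ⟨M', N', hM'fin, hN'fin, hrange⟩ := TensorProduct.exists_finite_submodule_of_setFinite
    (Set.range fun k => f (Pi.single k 1)) (Set.finite_range _)
  obtain ⟨a, p1, hp1⟩ := Module.Finite.exists_fin' R M'
  obtain ⟨b, p2, hp2⟩ := Module.Finite.exists_fin' R N'
  let f1 := M'.subtype ∘ₗ p1
  let f2 := N'.subtype ∘ₗ p2
  have hex : ∀ k, ∃ y, TensorProduct.map f1 f2 y = f (Pi.single k 1) := by
    intro k
    obtain ⟨v, hv⟩ := hrange (Set.mem_range_self k)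
    obtain ⟨y, rfl⟩ := TensorProduct.map_surjective hp1 hp2 v
    exact ⟨y, by rw [← hv]; simp only [f1, f2, TensorProduct.map_comp, LinearMap.comp_apply, TensorProduct.mapIncl]⟩
  choose y hy using hex
  let L := Fintype.linearCombination R y
  have hL : TensorProduct.map f1 f2 ∘ₗ L = f := (Pi.basisFun R (Fin n)).ext fun k => by
    simp [L, Fintype.linearCombination_apply, Pi.single_apply, ite_smul, hy]
  haveI := Module.finitePresentation_of_projective R (Fin a → R)
  haveI := Module.finitePresentation_of_projective R (Fin b → R)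
  obtain ⟨Q1, _, _, _, g1, -, -, hg1⟩ := exists_dom hM f1
  obtain ⟨Q2, _, _, _, g2, -, -, hg2⟩ := exists_dom hN f2
  refine ⟨Q1 ⊗[R] Q2, inferInstance, inferInstance, TensorProduct.map g1 g2 ∘ₗ L, ?_, fun N0 _ _ => ?_⟩
  · obtain ⟨a', K1, e1, hK1⟩ := Module.FinitePresentation.exists_fin R Q1
    obtain ⟨b', K2, e2, hK2⟩ := Module.FinitePresentation.exists_fin R Q2
    let q1 : (Fin a' → R) →ₗ[R] Q1 := e1.symm.toLinearMap ∘ₗ K1.mkQ
    let q2 : (Fin b' → R) →ₗ[R] Q2 := e2.symm.toLinearMap ∘ₗ K2.mkQ
    have hq1 : Function.Surjective q1 := e1.symm.surjective.comp K1.mkQ_surjective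
    have hq2 : Function.Surjective q2 := e2.symm.surjective.comp K2.mkQ_surjective
    haveI := Module.Finite.iff_fg.mpr (show (LinearMap.ker q1).FG by
      rwa [LinearMap.ker_comp_of_ker_eq_bot _ e1.symm.ker, Submodule.ker_mkQ])
    haveI := Module.Finite.iff_fg.mpr (show (LinearMap.ker q2).FG by
      rwa [LinearMap.ker_comp_of_ker_eq_bot _ e2.symm.ker, Submodule.ker_mkQ])
    refine ml_quot (q1.rTensor Q2) (LinearMap.rTensor_surjective _ hq1) ?_ ?_
    · rw [LinearMap.exact_iff.mp (rTensor_exact Q2 (LinearMap.exact_subtype_ker_map q1) hq1)]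
      exact Module.Finite.iff_fg.mp (Module.Finite.range _)
    · refine ml_quot (q2.lTensor (Fin a' → R)) (LinearMap.lTensor_surjective _ hq2) ?_ ?_
      · rw [LinearMap.exact_iff.mp (lTensor_exact (Fin a' → R) (LinearMap.exact_subtype_ker_map q2) hq2)]
        exact Module.Finite.iff_fg.mp (Module.Finite.range _)
      · haveI := Module.finitePresentation_of_projective R ((Fin a' → R) ⊗[R] (Fin b' → R))
        exact ml_fp _
  · ext x
    simp only [LinearMap.mem_ker]
    rw [← hL, LinearMap.rTensor_comp, LinearMap.rTensor_comp, LinearMap.comp_apply, LinearMap.comp_apply]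
    have hmap : ∀ {Y1 Y2 : Type u} [AddCommGroup Y1] [Module R Y1] [AddCommGroup Y2] [Module R Y2]
        (φ1 : (Fin a → R) →ₗ[R] Y1) (φ2 : (Fin b → R) →ₗ[R] Y2) (t : ((Fin a → R) ⊗[R] (Fin b → R)) ⊗[R] N0),
        TensorProduct.assoc R Y1 Y2 N0 ((TensorProduct.map φ1 φ2).rTensor N0 t) =
          (φ2.rTensor N0).lTensor Y1 (φ1.rTensor _ (TensorProduct.assoc R _ _ N0 t)) := by
      intro Y1 Y2 _ _ _ _ φ1 φ2 t
      induction t with
      | zero => simp
      | tmul u v =>
        induction u with
        | zero => simp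
        | tmul c d => simp
        | add c d hc hd => simp only [add_tmul, map_add, hc, hd]
      | add u v hu hv => simp only [map_add, hu, hv]
    rw [← (TensorProduct.assoc R M N N0).map_eq_zero_iff, ← (TensorProduct.assoc R Q1 Q2 N0).map_eq_zero_iff,
      hmap, hmap, dom_lTensor hg2 M N0]
    generalize TensorProduct.assoc R _ _ N0 (L.rTensor N0 x) = t
    rw [← LinearMap.comp_apply, LinearMap.lTensor_comp_rTensor, ← LinearMap.rTensor_comp_lTensor, LinearMap.comp_apply]
    conv_rhs => rw [← LinearMap.comp_apply, LinearMap.lTensor_comp_rTensor, ← LinearMap.rTensor_comp_lTensor, LinearMap.comp_apply]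
    exact SetLike.ext_iff.mp (hg1 _) _

end Groth.Agent.S6343
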