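import Groth.Statements.S6345
import Mathlib
import Groth.Prelude.Def_Found
import Groth.Prelude.Def_CAlgX
import Groth.Agent.Lib.MittagLeffler
import Groth.Agent.Lib.MittagLefflerBaseChange

set_option autoImplicit false
universe u
open TensorProduct Groth.Agent.MittagLeffler
open Groth.Agent.MittagLefflerBaseChange
open CAlg

namespace Groth.Agent.S6345

/-- Let I be a finitely generated ideal of a commutative ring R and M an R/I-module. Then M is
Mittag-Leffler over R if and only if it is Mittag-Leffler over R/I. -/
theorem result (R : Type u) [CommRing R] (I : Ideal R) (hI : I.FG)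
    (M : Type u) [AddCommGroup M] [Module (R ⧸ I) M] [Module R M] [IsScalarTower R (R ⧸ I) M] :
    CAlg.IsMittagLeffler R M ↔ CAlg.IsMittagLeffler (R ⧸ I) M := by
  haveI : Module.FinitePresentation R (R ⧸ I) :=
    Module.finitePresentation_of_surjective (Submodule.mkQ I) (Submodule.mkQ_surjective I) (by rwa [Submodule.ker_mkQ])
  refine ⟨fun hM => of_zero fun ι Q _ _ z hz => ?_, ml_restrict_fp⟩
  letI : ∀ i, Module R (Q i) := fun i => Module.compHom (Q i) (algebraMap R (R ⧸ I))
  haveI : ∀ i, IsScalarTower R (R ⧸ I) (Q i) := fun i => IsScalarTower.of_compHom R (R ⧸ I) (Q i)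
  haveI : ∀ (X : Type u) [AddCommGroup X] [Module (R ⧸ I) X] [Module R X] [IsScalarTower R (R ⧸ I) X],
      TensorProduct.CompatibleSMul R (R ⧸ I) M X := fun X _ _ _ _ => ⟨fun s m x => by
    obtain ⟨r, rfl⟩ := Ideal.Quotient.mk_surjective s
    rw [← Ideal.Quotient.algebraMap_eq, algebraMap_smul, algebraMap_smul, TensorProduct.smul_tmul]⟩
  let e := fun (X : Type u) (_ : AddCommGroup X) (_ : Module (R ⧸ I) X) (_ : Module R X) (_ : IsScalarTower R (R ⧸ I) X) =>
    (TensorProduct.equivOfCompatibleSMul R (R ⧸ I) R M X).toAddEquiv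
  have hnat : ∀ (w : M ⊗[R ⧸ I] (∀ i, Q i)) (i : ι),
      piRightHom R R M Q (e (∀ i, Q i) inferInstance inferInstance inferInstance inferInstance w) i =
        e (Q i) inferInstance inferInstance inferInstance inferInstance (piRightHom (R ⧸ I) (R ⧸ I) M Q w i) := by
    intro w i
    induction w with
    | zero => simp
    | tmul m f => rfl
    | add a b ha hb => simp only [map_add, Pi.add_apply, ha, hb]
  refine (e (∀ i, Q i) inferInstance inferInstance inferInstance inferInstance).injective ?_
  rw [map_zero]
  exact zero_of hM fun i => by rw [hnat, hz, map_zero]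

end Groth.Agent.S6345
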