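import Groth.Statements.S6347
import Mathlib
import Groth.Prelude.Def_Found
import Groth.Prelude.Def_CAlgX
import Groth.Agent.Lib.MittagLeffler
import Groth.Agent.Lib.UnivInjective
import Groth.Agent.Lib.KaplanskyProjective
import Groth.Agent.Lib.MittagLefflerProjective

set_option autoImplicit false
universe u
open TensorProduct Groth.Agent.MittagLeffler
open scoped Classical
open Groth.Agent.MittagLefflerProjective
open CAlg

namespace Groth.Agent.S6347

/-- Over a Noetherian ring R, the product module R^A (functions from any set A to R) is flat and
Mittag-Leffler. -/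
theorem result (R : Type u) [CommRing R] [IsNoetherianRing R]
    (A : Type u) : Module.Flat R (A → R) ∧ CAlg.IsMittagLeffler R (A → R) := by
  have hflat : Module.Flat R (A → R) := by
    rw [Module.Flat.iff_lift_lsmul_comp_subtype_injective]
    intro I hI
    haveI : Module.Finite R I := Module.Finite.iff_fg.mpr hI
    haveI : Module.FinitePresentation R I := Module.finitePresentation_of_finite R I
    rw [← LinearMap.ker_eq_bot, LinearMap.ker_eq_bot']
    intro z hz
    refine zero_of (ml_fp I) (Q := fun _ : A => R) fun a => ?_
    apply (TensorProduct.rid R I).injective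
    rw [map_zero]
    refine Subtype.ext ?_
    have : ∀ t : I ⊗[R] (A → R), ((TensorProduct.rid R I (piRightHom R R I (fun _ : A => R) t a) : I) : R) =
        TensorProduct.lift ((LinearMap.lsmul R (A → R)).comp I.subtype) t a := by
      intro t
      induction t with
      | zero => simp
      | tmul b c => simp [mul_comm]
      | add b c hb hc => simp only [map_add, Pi.add_apply, Submodule.coe_add, hb, hc]
    rw [this, hz]
    rfl
  refine ⟨hflat, ml_of_smallest fun n x => ?_⟩
  let v : A → (Fin n → R) := fun a => TensorProduct.rid R (Fin n → R) (piRightHom R R (Fin n → R) (fun _ : A => R) x a)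
  let F' := Submodule.span R (Set.range v)
  haveI : Module.Finite R F' := Module.Finite.iff_fg.mpr (IsNoetherian.noetherian _)
  refine ⟨F', ?_, fun F'' hF'' => ?_⟩
  · obtain ⟨w, hw⟩ := surj_of_finite F' (fun _ : A => R)
      (fun a => (TensorProduct.rid R F').symm ⟨v a, Submodule.subset_span ⟨a, rfl⟩⟩)
    refine ⟨w, ?_⟩
    refine ml_free n A (fun _ => R) (funext fun a => ?_)
    rw [pr_nat, hw]
    apply (TensorProduct.rid R (Fin n → R)).injective
    simp [v]
  · obtain ⟨y, rfl⟩ := hF''
    rw [Submodule.span_le]
    rintro _ ⟨a, rfl⟩
    have : v a = ((TensorProduct.rid R F'' (piRightHom R R F'' (fun _ : A => R) y a) : F'') : Fin n → R) := by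
      show TensorProduct.rid R (Fin n → R) _ = _
      rw [pr_nat]
      generalize piRightHom R R F'' (fun _ : A => R) y a = t
      induction t with
      | zero => simp
      | tmul b c => simp
      | add b c hb hc => simp only [map_add, Submodule.coe_add, hb, hc]
    rw [this]
    exact SetLike.coe_mem _

end Groth.Agent.S6347
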