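import Groth.Statements.S6348
import Mathlib
import Groth.Prelude.Def_Found
import Groth.Prelude.Def_CAlgX
import Groth.Agent.Lib.MittagLeffler
import Groth.Agent.Lib.MittagLefflerBaseChange

set_option autoImplicit false
universe u
open TensorProduct Groth.Agent.MittagLeffler
open Groth.Agent.MittagLefflerBaseChange
open scoped TensorProduct
open CAlg

namespace Groth.Agent.S6348

/-- For a ring map R → S and a Mittag-Leffler R-module M, the S-module S ⊗_R M is Mittag-Leffler. (The
companion parts on flat modules, projective modules and direct sums of countably generated modules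
are standard base-change facts.) -/
theorem result (R S : Type u) [CommRing R] [CommRing S] [Algebra R S] (M : Type u)
    [AddCommGroup M] [Module R M] (hM : CAlg.IsMittagLeffler R M) :
    CAlg.IsMittagLeffler S (S ⊗[R] M) := by
  refine of_zero fun ι Q _ _ z hz => ?_
  letI : ∀ i, Module R (Q i) := fun i => Module.compHom (Q i) (algebraMap R S)
  haveI : ∀ i, IsScalarTower R S (Q i) := fun i => IsScalarTower.of_compHom R S (Q i)
  let e := fun (X : Type u) (_ : AddCommGroup X) (_ : Module S X) (_ : Module R X) (_ : IsScalarTower R S X) =>
    ((TensorProduct.comm S (S ⊗[R] M) X ≪≫ₗ AlgebraTensorModule.cancelBaseChange R S S X M).toAddEquiv.trans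
      (TensorProduct.comm R X M).toAddEquiv)
  have hnat : ∀ (z : (S ⊗[R] M) ⊗[S] (∀ i, Q i)) (i : ι),
      piRightHom R R M Q (e (∀ i, Q i) inferInstance inferInstance inferInstance inferInstance z) i =
        e (Q i) inferInstance inferInstance inferInstance inferInstance (piRightHom S S (S ⊗[R] M) Q z i) := by
    intro z i
    induction z with
    | zero => simp
    | tmul y f =>
      induction y with
      | zero => simp
      | tmul a m => rfl
      | add a b ha hb => simp only [add_tmul, map_add, Pi.add_apply, ha, hb]
    | add a b ha hb => simp only [map_add, Pi.add_apply, ha, hb]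
  refine (e (∀ i, Q i) inferInstance inferInstance inferInstance inferInstance).injective ?_
  rw [map_zero]
  exact zero_of hM fun i => by rw [hnat, hz, map_zero]

end Groth.Agent.S6348
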