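import Groth.Statements.S6359
import Mathlib
import Groth.Prelude.Def_CAlgX
import Groth.Agent.Lib.UnivInjective
import Groth.Agent.Lib.PureSplit

set_option autoImplicit false
universe u
open TensorProduct
open Groth.Agent.PureSplit
open CAlg

namespace Groth.Agent.S6359

/-- Let f : M → N and g : M → M' be maps of R-modules such that the cokernel of f is finitely presented.
Then g dominates f (for every module Q the kernel of f ⊗ id_Q is contained in the kernel of g ⊗
id_Q) if and only if g factors through f. -/
theorem result (R : Type u) [CommRing R] {M N M' : Type u}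
    [AddCommGroup M] [Module R M] [AddCommGroup N] [Module R N] [AddCommGroup M'] [Module R M']
    (f : M →ₗ[R] N) (g : M →ₗ[R] M') [Module.FinitePresentation R (N ⧸ LinearMap.range f)] :
    (∀ (Q : Type u) [AddCommGroup Q] [Module R Q], LinearMap.ker (f.rTensor Q) ≤ LinearMap.ker (g.rTensor Q)) ↔
      ∃ h : N →ₗ[R] M', g = h ∘ₗ f := by
  constructor
  · intro hdom
    let φ : M →ₗ[R] M' × N := g.prod (-f)
    let U := LinearMap.range φ
    let j : M' →ₗ[R] (M' × N) ⧸ U := U.mkQ ∘ₗ LinearMap.inl R M' N
    have hj : CAlgX.UniversallyInjective R j := by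
      intro Q _ _
      rw [injective_iff_map_eq_zero]
      intro z hz
      rw [LinearMap.rTensor_comp, LinearMap.comp_apply] at hz
      obtain ⟨w, hw⟩ := (rTensor_exact Q (LinearMap.exact_map_mkQ_range φ) (Submodule.mkQ_surjective _) _).mp hz
      have h1 := congrArg ((LinearMap.fst R M' N).rTensor Q) hw
      have h2 := congrArg ((LinearMap.snd R M' N).rTensor Q) hw
      rw [← LinearMap.rTensor_comp_apply, ← LinearMap.rTensor_comp_apply, LinearMap.fst_prod,
        LinearMap.fst_comp_inl, LinearMap.rTensor_id, LinearMap.id_apply] at h1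
      rw [← LinearMap.rTensor_comp_apply, ← LinearMap.rTensor_comp_apply, LinearMap.snd_prod,
        LinearMap.snd_comp_inl, LinearMap.rTensor_zero, LinearMap.zero_apply] at h2
      have h2' : f.rTensor Q w = 0 := by
        have : (-f).rTensor Q = -(f.rTensor Q) := by
          refine TensorProduct.ext' fun a b => ?_
          simp [TensorProduct.neg_tmul]
        rw [this, LinearMap.neg_apply, neg_eq_zero] at h2
        exact h2
      rw [← h1]
      exact hdom Q h2'
    let c : ((M' × N) ⧸ U) ⧸ LinearMap.range j →ₗ[R] N ⧸ LinearMap.range f :=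
      (LinearMap.range j).liftQ (U.liftQ ((LinearMap.range f).mkQ ∘ₗ LinearMap.snd R M' N) (by
        rintro _ ⟨m, rfl⟩
        simp [φ, Submodule.Quotient.mk_eq_zero]))
        (by rintro _ ⟨a, rfl⟩; simp [j])
    let d : N ⧸ LinearMap.range f →ₗ[R] ((M' × N) ⧸ U) ⧸ LinearMap.range j :=
      (LinearMap.range f).liftQ ((LinearMap.range j).mkQ ∘ₗ U.mkQ ∘ₗ LinearMap.inr R M' N) (by
        rintro _ ⟨m, rfl⟩
        rw [LinearMap.mem_ker, LinearMap.comp_apply, Submodule.mkQ_apply, Submodule.Quotient.mk_eq_zero]
        refine ⟨g m, ?_⟩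
        simp only [j, LinearMap.comp_apply, Submodule.mkQ_apply, Submodule.Quotient.eq]
        exact ⟨m, by simp [φ]⟩)
    let e : (N ⧸ LinearMap.range f) ≃ₗ[R] ((M' × N) ⧸ U) ⧸ LinearMap.range j :=
      LinearEquiv.ofLinear d c (by
        refine Submodule.linearMap_qext _ (Submodule.linearMap_qext _ (LinearMap.ext fun x => ?_))
        obtain ⟨a, b⟩ := x
        simp only [c, d, LinearMap.comp_apply, Submodule.mkQ_apply, Submodule.liftQ_apply, LinearMap.snd_apply,
          LinearMap.inr_apply, LinearMap.id_comp, Submodule.Quotient.eq]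
        exact ⟨-a, by
          simp only [j, LinearMap.comp_apply, Submodule.mkQ_apply, ← Submodule.Quotient.mk_sub,
            LinearMap.inl_apply]
          simp⟩)
        (Submodule.linearMap_qext _ (LinearMap.ext fun x => by simp [c, d]))
    haveI : Module.FinitePresentation R (((M' × N) ⧸ U) ⧸ LinearMap.range j) :=
      Module.finitePresentation_of_surjective e.toLinearMap e.surjective (by rw [LinearEquiv.ker]; exact Submodule.fg_bot)
    obtain ⟨r, hr⟩ := exists_retraction_of_pure j hj
    refine ⟨r ∘ₗ U.mkQ ∘ₗ LinearMap.inr R M' N, LinearMap.ext fun m => ?_⟩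
    have : U.mkQ (LinearMap.inr R M' N (f m)) = j (g m) := by
      simp only [j, LinearMap.comp_apply, Submodule.mkQ_apply, Submodule.Quotient.eq]
      exact ⟨-m, by simp [φ]⟩
    simp only [LinearMap.comp_apply]
    rw [this]
    exact (LinearMap.congr_fun hr (g m)).symm
  · rintro ⟨h, rfl⟩ Q _ _ z hz
    rw [LinearMap.mem_ker] at hz ⊢
    rw [LinearMap.rTensor_comp, LinearMap.comp_apply, hz, map_zero]

end Groth.Agent.S6359
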