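import Groth.Statements.S6362
import Mathlib

set_option autoImplicit false
universe u
open scoped TensorProduct
open Fields

namespace Groth.Agent.S6362

/-- Let K/F be a finite separable extension and L/F an extension with L algebraically closed. Then the
L-algebra map K ⊗_F L → ∏_σ L, indexed by the F-algebra maps σ : K → L and sending a ⊗ b to (σ(a)
b)_σ, is an isomorphism; stated as bijectivity of that map. -/
theorem result {F K L : Type u} [Field F] [Field K] [Field L]
    [Algebra F K] [Algebra F L] [FiniteDimensional F K] [Algebra.IsSeparable F K] [IsAlgClosed L] :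
    Function.Bijective (fun x : K ⊗[F] L => fun σ : K →ₐ[F] L =>
      Algebra.TensorProduct.lift σ (AlgHom.id F L) (fun a b => Commute.all (σ a) b) x) := by
  classical
  have hcard : Fintype.card (K →ₐ[F] L) = Module.finrank F K := AlgHom.card F K L
  let b0 := Module.finBasis F K
  let b : Module.Basis (K →ₐ[F] L) F K := b0.reindex ((finCongr hcard.symm).trans (Fintype.equivFin _).symm)
  let Mx : Matrix (K →ₐ[F] L) (K →ₐ[F] L) L := fun σ τ => σ (b τ)
  have hM : IsUnit Mx := by
    rw [← Matrix.linearIndependent_rows_iff_isUnit, Fintype.linearIndependent_iff]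
    intro g hg
    refine Fintype.linearIndependent_iff.1 (linearIndependent_toLinearMap F K L) g (b.ext fun τ => ?_)
    have := congrFun hg τ
    simp only [Finset.sum_apply, Pi.smul_apply, smul_eq_mul, Pi.zero_apply] at this
    simpa [Mx, Matrix.row] using this
  have hdet := (Matrix.isUnit_iff_isUnit_det Mx).1 hM
  set T : K ⊗[F] L → ((K →ₐ[F] L) → L) := fun x σ => Algebra.TensorProduct.lift σ (AlgHom.id F L) (fun a b => Commute.all (σ a) b) x
  have hval : ∀ l : (K →ₐ[F] L) → L, T (∑ τ, b τ ⊗ₜ[F] l τ) = Mx.mulVec l := fun l => by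
    funext σ
    simp only [T, map_sum, Mx, Matrix.mulVec, dotProduct]
    exact Finset.sum_congr rfl fun x _ => Algebra.TensorProduct.lift_tmul _ _ _ _ _
  have hsurj : ∀ x : K ⊗[F] L, ∃ l : (K →ₐ[F] L) → L, x = ∑ τ, b τ ⊗ₜ[F] l τ := by
    intro x
    induction x using TensorProduct.induction_on with
    | zero => exact ⟨0, by simp⟩
    | tmul k l =>
      refine ⟨fun τ => b.repr k τ • l, ?_⟩
      conv_lhs => rw [← b.sum_repr k, TensorProduct.sum_tmul]
      simp [TensorProduct.smul_tmul]
    | add x y hx hy =>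
      obtain ⟨l, rfl⟩ := hx; obtain ⟨m, rfl⟩ := hy
      exact ⟨l + m, by simp [TensorProduct.tmul_add, Finset.sum_add_distrib]⟩
  constructor
  · intro x y h
    obtain ⟨l, rfl⟩ := hsurj x
    obtain ⟨m, rfl⟩ := hsurj y
    change T _ = T _ at h
    rw [hval, hval] at h
    have := congrArg Mx⁻¹.mulVec h
    rw [Matrix.mulVec_mulVec, Matrix.mulVec_mulVec, Matrix.nonsing_inv_mul Mx hdet, Matrix.one_mulVec, Matrix.one_mulVec] at this
    rw [this]
  · intro y
    refine ⟨∑ τ, b τ ⊗ₜ[F] Mx⁻¹.mulVec y τ, ?_⟩
    show T _ = y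
    rw [hval, Matrix.mulVec_mulVec, Matrix.mul_nonsing_inv Mx hdet, Matrix.one_mulVec]

end Groth.Agent.S6362
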