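import Groth.Statements.S6364
import Mathlib

set_option autoImplicit false
set_option backward.isDefEq.respectTransparency.types false
set_option maxHeartbeats 1000000
set_option linter.all false
universe u
open Fields

namespace Groth.Agent.S6364
open Groth.Agent

open IntermediateField in
/-- Let L/K be a finite extension and a ∈ L with minimal polynomial P over K. Then P ^ e, with e = [L :
K(a)], is the characteristic polynomial of multiplication by a (the K-linear map x ↦ a x on L), and
e · deg P = [L : K]. -/
theorem result {K L : Type u} [Field K] [Field L] [Algebra K L] [FiniteDimensional K L]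
    (a : L) :
    (Algebra.lmul K L a).charpoly = minpoly K a ^ Module.finrank K⟮a⟯ L ∧
      Module.finrank K⟮a⟯ L * (minpoly K a).natDegree = Module.finrank K L := by
    classical
    have hint : IsIntegral K a := IsIntegral.of_finite K a
    haveI : Module.Finite K⟮a⟯ L := Module.Finite.of_restrictScalars_finite K K⟮a⟯ L
    let pb := IntermediateField.adjoin.powerBasis hint
    let c := Module.Free.chooseBasis K⟮a⟯ L
    have hdim : pb.dim = (minpoly K a).natDegree := IntermediateField.adjoin.powerBasis_dim hint
    refine ⟨?_, ?_⟩
    · rw [← LinearMap.charpoly_toMatrix _ (pb.basis.smulTower c)]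
      change (Algebra.leftMulMatrix (pb.basis.smulTower c) (algebraMap K⟮a⟯ L (IntermediateField.AdjoinSimple.gen K a))).charpoly = _
      rw [Algebra.smulTower_leftMulMatrix_algebraMap]
      have hg : IntermediateField.AdjoinSimple.gen K a = pb.gen := rfl
      rw [hg, Matrix.charpoly, Matrix.charmatrix, Matrix.scalar_apply]
      rw [show (Matrix.diagonal (fun _ : Fin pb.dim × Module.Free.ChooseBasisIndex K⟮a⟯ L => (Polynomial.X : Polynomial K)) -
            Polynomial.C.mapMatrix (Matrix.blockDiagonal fun _ => Algebra.leftMulMatrix pb.basis pb.gen)) =
          Matrix.blockDiagonal (fun _ : Module.Free.ChooseBasisIndex K⟮a⟯ L => Matrix.charmatrix (Algebra.leftMulMatrix pb.basis pb.gen)) from ?_,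
        Matrix.det_blockDiagonal, Finset.prod_const, Finset.card_univ, ← Module.finrank_eq_card_chooseBasisIndex]
      · congr 1
        rw [← Matrix.charpoly, charpoly_leftMulMatrix pb]
        exact IntermediateField.minpoly_gen K a
      · ext ⟨i, k⟩ ⟨j, l⟩
        by_cases h : k = l
        · subst h; by_cases h2 : i = j <;> simp [Matrix.charmatrix_apply, Matrix.blockDiagonal_apply, Matrix.diagonal, h2]
        · simp [Matrix.blockDiagonal_apply, Matrix.diagonal, h]
    · rw [← hdim, ← pb.finrank, mul_comm, Module.finrank_mul_finrank]

end Groth.Agent.S6364
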