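import Groth.Statements.S6365
import Mathlib

set_option autoImplicit false
universe u
open Fields

namespace Groth.Agent.S6365

/-- Let L/K be a finite extension of fields, V a finite-dimensional L-vector space and φ an L-linear
endomorphism of V. Then the trace over K of φ (regarded as a K-linear map) is the trace from L to K
of the trace over L of φ. (The determinant analogue, det_K φ = Norm_{L/K}(det_L φ), is the standard
companion.) -/
theorem result {K L : Type u} [Field K] [Field L] [Algebra K L]
    [FiniteDimensional K L] (V : Type u) [AddCommGroup V] [Module L V] [Module K V] [IsScalarTower K L V]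
    [FiniteDimensional L V] (φ : V →ₗ[L] V) :
    LinearMap.trace K V (φ.restrictScalars K) = Algebra.trace K L (LinearMap.trace L V φ) := by
  haveI : FiniteDimensional K V := FiniteDimensional.trans K L V
  obtain ⟨t, rfl⟩ := (dualTensorHomEquiv L V V).surjective φ
  induction t using TensorProduct.induction_on with
  | zero => simp
  | add x y hx hy => rw [map_add, map_add, map_add, ← hx, ← hy, LinearMap.restrictScalars_add, map_add]
  | tmul f v =>
    have hL : LinearMap.trace L V (dualTensorHom L V V (f ⊗ₜ v)) = f v := by simp
    show LinearMap.trace K V ((dualTensorHom L V V (f ⊗ₜ v)).restrictScalars K) = Algebra.trace K L (LinearMap.trace L V (dualTensorHom L V V (f ⊗ₜ v)))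
    rw [hL, Algebra.trace_apply]
    have e : (dualTensorHom L V V (f ⊗ₜ v)).restrictScalars K =
        ((LinearMap.toSpanSingleton L V v).restrictScalars K).comp (f.restrictScalars K) := by
      ext x; simp
    rw [e, LinearMap.trace_comp_comm']
    congr 1
    ext x
    simp [mul_comm]

end Groth.Agent.S6365
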