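import Groth.Statements.S6366
import Mathlib
import Groth.Agent.Lib.MittagLeffler
import Groth.Agent.Lib.CoherentRings

set_option autoImplicit false
universe u
open TensorProduct
open Groth.Agent.CoherentRings
open CAlg

namespace Groth.Agent.S6366

/-- Let R be a coherent ring, i.e. every finitely generated ideal of R is finitely presented. Then an
R-module is coherent (finitely generated, and every finitely generated submodule is finitely
presented) if and only if it is finitely presented. -/
theorem result (R : Type u) [CommRing R]
    (hR : ∀ I : Ideal R, I.FG → Module.FinitePresentation R I) (M : Type u) [AddCommGroup M] [Module R M] :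
    (Module.Finite R M ∧ ∀ N : Submodule R M, N.FG → Module.FinitePresentation R N) ↔ Module.FinitePresentation R M := by
  constructor
  · rintro ⟨hf, hc⟩
    haveI := hc ⊤ Module.Finite.fg_top
    exact Module.FinitePresentation.of_equiv Submodule.topEquiv
  · intro h
    refine ⟨inferInstance, fun N hN => ?_⟩
    obtain ⟨n, K, e, hK⟩ := Module.FinitePresentation.exists_fin R M
    let g : (Fin n → R) →ₗ[R] M := e.symm.toLinearMap ∘ₗ K.mkQ
    have hg : Function.Surjective g := e.symm.surjective.comp K.mkQ_surjective
    have hkg : LinearMap.ker g = K := by
      rw [LinearMap.ker_comp_of_ker_eq_bot _ e.symm.ker, Submodule.ker_mkQ]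
    have hfg : (N.comap g).FG := by
      refine Submodule.fg_of_fg_map_of_fg_inf_ker g ?_ ?_
      · rwa [Submodule.map_comap_eq_of_surjective hg]
      · rw [inf_eq_right.mpr, hkg]
        · exact hK
        · intro x hx
          rw [Submodule.mem_comap, show g x = 0 from hx]
          exact N.zero_mem
    haveI := coh_free hR n _ hfg
    let p : N.comap g →ₗ[R] N := g.restrict (fun x hx => hx)
    have hp : Function.Surjective p := by
      rintro ⟨y, hy⟩
      obtain ⟨x, rfl⟩ := hg y
      exact ⟨⟨x, hy⟩, rfl⟩
    refine Module.finitePresentation_of_surjective p hp ?_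
    refine Submodule.fg_of_fg_map_injective (N.comap g).subtype Subtype.val_injective ?_
    rw [show (LinearMap.ker p).map (N.comap g).subtype = K from ?_]
    · exact hK
    · rw [← hkg]
      ext x
      constructor
      · rintro ⟨⟨x, hx⟩, hx', rfl⟩
        exact congrArg Subtype.val hx'
      · intro hx
        exact ⟨⟨x, show g x ∈ N by rw [show g x = 0 from hx]; exact N.zero_mem⟩, Subtype.ext hx, rfl⟩

end Groth.Agent.S6366
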