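import Groth.Statements.S6368
import Mathlib
import Groth.Prelude.Def_Found
import Groth.Agent.Lib.KaplanskyProjective
import Groth.Agent.Lib.ProjectiveDescent

set_option autoImplicit false
universe u
open TensorProduct Groth.Agent.ProjectiveDescent
open scoped TensorProduct
open CAlg

namespace Groth.Agent.S6368

/-- Let R → S be faithfully flat and M an R-module. If the S-module S ⊗_R M is countably generated then
M is countably generated. -/
theorem result (R S : Type u) [CommRing R] [CommRing S] [Algebra R S]
    [Module.FaithfullyFlat R S] (M : Type u) [AddCommGroup M] [Module R M]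
    (h : CAlg.IsCountablyGenerated S (S ⊗[R] M)) : CAlg.IsCountablyGenerated R M := by
  classical
  obtain ⟨s, hsc, hs⟩ := h
  choose fg hfg using fun z : S ⊗[R] M => fin_gen (R := R) z
  let C : Set M := ⋃ z ∈ s, (fg z : Set M)
  refine ⟨C, hsc.biUnion fun z _ => (fg z).countable_toSet, ?_⟩
  let N := Submodule.span R C
  have htop : im S N = ⊤ := by
    rw [eq_top_iff, ← hs, Submodule.span_le]
    intro z hz
    refine (im_le_iff.mpr ((Submodule.span_mono ?_).trans (im_le_iff.mp le_rfl))) (hfg z)
    exact fun y hy => Set.mem_biUnion hz hy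
  haveI : Subsingleton (S ⊗[R] (M ⧸ N)) := by
    refine subsingleton_of_forall_eq 0 fun y => ?_
    obtain ⟨x, rfl⟩ := LinearMap.lTensor_surjective S N.mkQ_surjective y
    have hx : x ∈ LinearMap.range (N.subtype.baseChange S) := by rw [range_baseChange_subtype, htop]; trivial
    exact (lTensor_exact S (LinearMap.exact_subtype_mkQ N) N.mkQ_surjective x).mpr hx
  haveI : Subsingleton (M ⧸ N) := Module.FaithfullyFlat.lTensor_reflects_triviality R S (M ⧸ N)
  exact Submodule.Quotient.subsingleton_iff.mp ‹_›

end Groth.Agent.S6368
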