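import Groth.Statements.S6369
import Mathlib
import Groth.Agent.Lib.DedekindUniqueFactor

set_option autoImplicit false
universe u
open Ideal nonZeroDivisors
open Groth.Agent.DedekindUniqueFactor
open CAlg

namespace Groth.Agent.S6369

/-- (1) ⇒ (3): let R be a domain such that every nonzero ideal is a product of nonzero prime ideals,
uniquely up to permutation of the factors. Then R is Noetherian, integrally closed and of dimension
at most one, i.e. a Dedekind domain in the Noetherian sense. (The converse and the description by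
discrete valuation rings at maximal ideals are the standard equivalences.) -/
theorem result (R : Type u) [CommRing R] [IsDomain R]
    (h : ∀ I : Ideal R, I ≠ ⊥ → ∃! s : Multiset (Ideal R), (∀ p ∈ s, p.IsPrime ∧ p ≠ ⊥) ∧ s.prod = I) :
    IsDedekindDomain R := by
  have hprime : ∀ P : Ideal R, P.IsPrime → P ≠ ⊥ → ∃ K c, c ≠ (0 : R) ∧ P * K = span {c} := by
    intro P hP hP0
    obtain ⟨a, haP, ha⟩ := Submodule.exists_mem_ne_zero_of_ne_bot hP0
    obtain ⟨s, ⟨hs, hprod⟩, -⟩ := h (span {a}) (by simpa using ha)
    have hle : s.prod ≤ P := hprod ▸ (span_singleton_le_iff_mem P).mpr haP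
    obtain ⟨Q, hQs, hQP⟩ := hP.multiset_prod_le.mp hle
    have he : Q * (s.erase Q).prod = span {a} := by
      rw [← Multiset.prod_cons, Multiset.cons_erase hQs, hprod]
    have hmax := maximal_of_dvd h ha (hs Q hQs).1 he
    obtain rfl := hmax.eq_of_le hP.ne_top hQP
    exact ⟨_, a, ha, he⟩
  have hall : ∀ I : Ideal R, I ≠ ⊥ → ∃ K c, c ≠ (0 : R) ∧ I * K = span {c} := by
    intro I hI
    obtain ⟨s, ⟨hs, hprod⟩, -⟩ := h I hI
    subst hprod
    clear hI
    induction s using Multiset.induction with
    | empty => exact ⟨⊤, 1, one_ne_zero, by simp⟩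
    | cons P s ih =>
      obtain ⟨K, c, hc, e⟩ := hprime P (hs P (by simp)).1 (hs P (by simp)).2
      obtain ⟨L, d, hd, e'⟩ := ih (fun p hp => hs p (by simp [hp]))
      refine ⟨K * L, c * d, mul_ne_zero hc hd, ?_⟩
      rw [Multiset.prod_cons, ← span_singleton_mul_span_singleton, ← e, ← e']
      ring
  have hinv : ∀ I ≠ (⊥ : FractionalIdeal R⁰ (FractionRing R)), I * I⁻¹ = 1 := by
    intro I hI
    rw [FractionalIdeal.mul_inv_cancel_iff_isUnit]
    obtain ⟨a, aI, ha, rfl⟩ := FractionalIdeal.exists_eq_spanSingleton_mul I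
    have haI : aI ≠ ⊥ := by
      rintro rfl
      exact hI (by simp)
    obtain ⟨K, c, hc, e⟩ := hall aI haI
    refine IsUnit.mul ?_ ?_
    · have ha' : (algebraMap R (FractionRing R) a)⁻¹ ≠ 0 := by
        simpa using ha
      exact IsUnit.of_mul_eq_one (FractionalIdeal.spanSingleton R⁰ ((algebraMap R (FractionRing R) a)⁻¹)⁻¹)
        (by rw [FractionalIdeal.spanSingleton_mul_spanSingleton, mul_inv_cancel₀ ha',
          FractionalIdeal.spanSingleton_one])
    · have h1 : (aI : FractionalIdeal R⁰ (FractionRing R)) * (K : FractionalIdeal R⁰ (FractionRing R)) =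
          FractionalIdeal.spanSingleton R⁰ (algebraMap R (FractionRing R) c) := by
        rw [← FractionalIdeal.coeIdeal_mul, e, FractionalIdeal.coeIdeal_span_singleton]
      have hc' : algebraMap R (FractionRing R) c ≠ 0 := by simpa using hc
      refine IsUnit.of_mul_eq_one ((K : FractionalIdeal R⁰ (FractionRing R)) *
        FractionalIdeal.spanSingleton R⁰ ((algebraMap R (FractionRing R) c)⁻¹)) ?_
      rw [← mul_assoc, h1, FractionalIdeal.spanSingleton_mul_spanSingleton, mul_inv_cancel₀ hc']
      simp
  exact isDedekindDomain_iff_mul_inv_cancel.mpr hinv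

end Groth.Agent.S6369
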