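import Groth.Statements.S6371
import Mathlib
import Groth.Prelude.Def_CAlgX
import Groth.Agent.Lib.EpiLocal

set_option autoImplicit false
universe u
open TensorProduct
open Groth.Agent.EpiLocal
open CAlg

namespace Groth.Agent.S6371

/-- A ring map R → S is an epimorphism of rings if and only if for every prime p of R the localized map
R_p → S_p is an epimorphism, where S_p is S localized at the image of R ∖ p. -/
theorem result (R S : Type u) [CommRing R] [CommRing S] [Algebra R S] :
    Algebra.IsEpi R S ↔ ∀ (p : Ideal R) [p.IsPrime],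
      Algebra.IsEpi (Localization.AtPrime p) (Localization (Algebra.algebraMapSubmonoid S p.primeCompl)) := by
  constructor
  · intro h p _
    let Sp := Localization (Algebra.algebraMapSubmonoid S p.primeCompl)
    rw [Algebra.isEpi_iff_forall_one_tmul_eq]
    intro x
    let f := (IsScalarTower.toAlgHom R S Sp).toLinearMap
    obtain ⟨⟨s, t⟩, hst⟩ := IsLocalizedModule.surj p.primeCompl f x
    have h0 := congrArg (TensorProduct.map f f) ((Algebra.isEpi_iff_forall_one_tmul_eq R S).mp h s)
    have h1 : (1 : Sp) ⊗ₜ[R] f s = f s ⊗ₜ[R] (1 : Sp) := by simpa [f] using h0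
    have h2 := congrArg (IsLocalization.moduleTensorEquiv p.primeCompl (Localization.AtPrime p) Sp Sp).symm h1
    have h3 : (1 : Sp) ⊗ₜ[Localization.AtPrime p] f s = f s ⊗ₜ[Localization.AtPrime p] (1 : Sp) := h2
    rw [← hst, Submonoid.smul_def, ← algebraMap_smul (Localization.AtPrime p) (t : R), tmul_smul, ← smul_tmul'] at h3
    exact (IsLocalization.map_units (Localization.AtPrime p) t).smul_left_cancel.mp h3
  · intro h
    rw [Algebra.isEpi_iff_forall_one_tmul_eq]
    intro s
    let d : S ⊗[R] S := 1 ⊗ₜ s - s ⊗ₜ 1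
    suffices hd : (LinearMap.toSpanSingleton R (S ⊗[R] S) d).ker = ⊤ by
      have h1 : (1 : R) ∈ (LinearMap.toSpanSingleton R (S ⊗[R] S) d).ker := hd ▸ Submodule.mem_top
      rw [LinearMap.mem_ker, LinearMap.toSpanSingleton_apply, one_smul] at h1
      exact sub_eq_zero.mp h1
    by_contra hne
    obtain ⟨p, hp, hle⟩ := Ideal.exists_le_maximal _ hne
    let Sp := Localization (Algebra.algebraMapSubmonoid S p.primeCompl)
    let f := (IsScalarTower.toAlgHom R S Sp).toLinearMap
    haveI := h p
    have h2 : (1 : Sp) ⊗ₜ[R] f s = f s ⊗ₜ[R] (1 : Sp) :=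
      congrArg (IsLocalization.moduleTensorEquiv p.primeCompl (Localization.AtPrime p) Sp Sp)
        ((Algebra.isEpi_iff_forall_one_tmul_eq (Localization.AtPrime p) Sp).mp inferInstance (f s))
    have h3 : TensorProduct.map f f d = 0 := by
      rw [map_sub, TensorProduct.map_tmul, TensorProduct.map_tmul, sub_eq_zero]
      simpa [f] using h2
    obtain ⟨t, ht⟩ := (IsLocalizedModule.eq_zero_iff p.primeCompl (TensorProduct.map f f)).mp h3
    exact t.2 (hle (by rw [LinearMap.mem_ker, LinearMap.toSpanSingleton_apply]; exact ht))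

end Groth.Agent.S6371
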