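import Groth.Statements.S6372
import Mathlib

set_option autoImplicit false
universe u
open CAlg
open TensorProduct

namespace Groth.Agent.S6372

/-- A faithfully flat epimorphism of rings is an isomorphism: if R → S is faithfully flat and an
epimorphism in the category of rings then it is bijective. -/
theorem result (R S : Type u) [CommRing R] [CommRing S] [Algebra R S]
    [Module.FaithfullyFlat R S] [Algebra.IsEpi R S] : Function.Bijective (algebraMap R S) := by
  refine ⟨FaithfulSMul.algebraMap_injective R S, ?_⟩
  let l := Algebra.linearMap R S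
  have hl : Function.Surjective (l.lTensor S) := by
    intro z
    induction z with
    | zero => exact ⟨0, map_zero _⟩
    | tmul x y =>
      refine ⟨(x * y) ⊗ₜ 1, ?_⟩
      have e := (Algebra.isEpi_iff_forall_one_tmul_eq R S).mp inferInstance y
      calc l.lTensor S ((x * y) ⊗ₜ 1) = (x * y) ⊗ₜ[R] (1:S) := by simp [l]
        _ = x ⊗ₜ[R] (1:S) * (y ⊗ₜ 1) := by simp
        _ = _ := by rw [← e]; simp
    | add a b ha hb =>
      obtain ⟨a, rfl⟩ := ha; obtain ⟨b, rfl⟩ := hb
      exact ⟨a + b, map_add _ _ _⟩
  have hex : Function.Exact (l.lTensor S) ((LinearMap.range l).mkQ.lTensor S) :=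
    lTensor_exact S (LinearMap.exact_map_mkQ_range l) (Submodule.mkQ_surjective _)
  have hz : ∀ z, (LinearMap.range l).mkQ.lTensor S z = 0 := fun z => (hex z).mpr (hl z)
  have : Subsingleton (S ⊗[R] (S ⧸ LinearMap.range l)) := subsingleton_of_forall_eq 0 fun w => by
    obtain ⟨z, rfl⟩ := LinearMap.lTensor_surjective S (Submodule.mkQ_surjective _) w
    exact hz z
  have := Module.FaithfullyFlat.lTensor_reflects_triviality R S (S ⧸ LinearMap.range l)
  intro x
  exact (Submodule.Quotient.mk_eq_zero _).mp (Subsingleton.elim (Submodule.Quotient.mk (p := LinearMap.range l) x) 0)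

end Groth.Agent.S6372
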