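import Groth.Statements.S6374
import Mathlib
import Groth.Prelude.Def_CAlgX
import Groth.Agent.Lib.EpiLocal

set_option autoImplicit false
universe u
open TensorProduct
open Groth.Agent.EpiLocal
open CAlg

namespace Groth.Agent.S6374

/-- For an epimorphism of rings R → S, the induced map Spec S → Spec R is injective and induces trivial
residue field extensions; stated in the form the proof gives: for every prime p of R the fibre ring
S ⊗_R κ(p) is either zero or κ(p) → S ⊗_R κ(p) is bijective, together with injectivity of Spec S →
Spec R. -/
theorem result (R S : Type u) [CommRing R] [CommRing S] [Algebra R S]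
    [Algebra.IsEpi R S] :
    Function.Injective (PrimeSpectrum.comap (algebraMap R S)) ∧
      ∀ (p : Ideal R) [p.IsPrime],
        Subsingleton (p.Fiber S) ∨ Function.Bijective (algebraMap p.ResidueField (p.Fiber S)) := by
  have hsurj : ∀ (p : Ideal R) [p.IsPrime], Function.Surjective (algebraMap p.ResidueField (p.Fiber S)) := fun p _ => by
    haveI := fiber_epi (S := S) p
    exact epi_over_field
  constructor
  · intro q q' h
    have hb : ∀ (p : Ideal R) [p.IsPrime], Subsingleton (PrimeSpectrum (p.Fiber S)) := fun p _ =>
      ⟨fun x y => PrimeSpectrum.comap_injective_of_surjective _ (hsurj p) (Subsingleton.elim _ _)⟩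
    let p := PrimeSpectrum.comap (algebraMap R S) q
    haveI := hb p.asIdeal
    have := (PrimeSpectrum.preimageEquivFiber R S p).injective
      (a₁ := ⟨q, rfl⟩) (a₂ := ⟨q', h.symm⟩) (Subsingleton.elim _ _)
    exact congrArg Subtype.val this
  · intro p _
    rcases subsingleton_or_nontrivial (p.Fiber S) with h | h
    · exact Or.inl h
    · exact Or.inr ⟨(algebraMap p.ResidueField (p.Fiber S)).injective, hsurj p⟩

end Groth.Agent.S6374
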