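import Groth.Statements.S6375
import Mathlib
import Groth.Agent.Lib.EpiCard

set_option autoImplicit false
universe u
open TensorProduct Cardinal
open Groth.Agent.EpiCard
open CAlg

namespace Groth.Agent.S6375

/-- For an infinite source ring: if R → S is an epimorphism of rings with R infinite, then |S| ≤ |R| as
cardinals. (For finite R the published statement also asserts |S| ≤ |R|, but its proof only gives
that S is countable and omits the rest, so that case is not included.) -/
theorem result (R S : Type u) [CommRing R] [CommRing S] [Algebra R S] [Algebra.IsEpi R S]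
    [Infinite R] : Cardinal.mk S ≤ Cardinal.mk R := by
  classical
  choose n m a b C x y h1 h2 h3 h4 using fun s : S => exists_data (R := R) s
  let D := ULift.{u} ℕ × ULift.{u} ℕ × List R × List R × List (List R)
  let F : S → D := fun s => (⟨n s⟩, ⟨m s⟩, List.ofFn (a s), List.ofFn (b s),
    List.ofFn fun i => List.ofFn (C s i))
  have key : ∀ s t : S, ∀ (a' b' : Fin (n s) → R) (C' : Fin (n s) → Fin (m s) → R)
      (x' : Fin (n s) → S), a' = a s → b' = b s → C' = C s →
      ∑ i, a' i • x' i = 1 → ∑ i, b' i • x' i = t → (∀ j, ∑ i, C' i j • x' i = 0) → s = t := by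
    rintro s t _ _ _ x' rfl rfl rfl e1 e2 e3
    have : ∑ i, (a s i • s - b s i • (1 : S)) * x' i = 0 := by
      simp only [h4, Finset.sum_mul]
      rw [Finset.sum_comm]
      refine Finset.sum_eq_zero fun j _ => ?_
      have h := e3 j
      calc ∑ i, C s i j • y s j * x' i = y s j * ∑ i, C s i j • x' i := by
            rw [Finset.mul_sum]
            exact Finset.sum_congr rfl fun i _ => by rw [smul_mul_assoc, mul_smul_comm]
        _ = 0 := by rw [h, mul_zero]
    have hs : ∑ i, (a s i • s - b s i • (1 : S)) * x' i = s - t := by
      simp only [sub_mul, smul_mul_assoc, one_mul, Finset.sum_sub_distrib, e2]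
      simp only [← mul_smul_comm, ← Finset.mul_sum, e1, mul_one]
    exact sub_eq_zero.mp (hs ▸ this)
  have hF : Function.Injective F := by
    intro s t h
    simp only [F, D, Prod.mk.injEq, ULift.up_inj] at h
    obtain ⟨hn, hm, ha, hb, hC⟩ := h
    revert ha hb hC
    have g1 := h1 t
    have g2 := h2 t
    have g3 := h3 t
    generalize a t = a', b t = b', C t = C', x t = x' at g1 g2 g3 ⊢
    revert a' b' C' x'
    rw [← hn, ← hm]
    intro a' b' C' x' g1 g2 g3 ha hb hC
    refine key s t a' b' C' x' (List.ofFn_injective ha).symm (List.ofFn_injective hb).symm ?_ g1 g2 g3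
    exact (funext fun i => List.ofFn_injective (congrFun (List.ofFn_injective hC) i)).symm
  refine (Cardinal.mk_le_of_injective hF).trans (le_of_eq ?_)
  have hR := Cardinal.aleph0_le_mk R
  simp [D, Cardinal.mk_list_eq_mk, Cardinal.mul_eq_self hR, Cardinal.aleph0_mul_eq hR]

end Groth.Agent.S6375
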