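import Groth.Statements.S6377
import Groth.Agent.Lib.H1TorBal
import Mathlib

set_option autoImplicit false
universe u
open CategoryTheory
open scoped TensorProduct
open CAlg

namespace Groth.Agent.S6377

open Groth.Agent.H1TorRes Groth.Agent.H1TorBal
open scoped TensorProduct

section aux

variable {A : Type u} [CommRing A] {F : ℕ → Type u} [∀ i, AddCommGroup (F i)] [∀ i, Module A (F i)]
  [∀ i, Module.Flat A (F i)]
variable (d : ∀ i, F (i + 1) →ₗ[A] F i) (hdd : ∀ i, (d i).comp (d (i + 1)) = 0)
include hdd

theorem ex_killed (I : Ideal A) {i : ℕ}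
    (h : ∀ (N : Type u) [AddCommGroup N] [Module A N], (∀ a ∈ I, ∀ x : N, a • x = 0) → Ex d N i) :
    ∀ (n : ℕ) (N : Type u) [AddCommGroup N] [Module A N], (∀ a ∈ I ^ n, ∀ x : N, a • x = 0) → Ex d N i := by
  intro n
  induction n with
  | zero =>
    intro N _ _ hN
    exact h N fun a _ x => by
      rw [show x = 0 from (one_smul A x).symm.trans (hN 1 (by simp) x), smul_zero]
  | succ n ih =>
    intro N _ _ hN
    let S : Submodule A N := I • ⊤
    refine ex_middle d hdd S.subtype S.mkQ S.injective_subtype S.mkQ_surjective (LinearMap.exact_subtype_mkQ S) i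
      (ih S fun a ha x => Subtype.ext ?_) (h _ fun a ha x => ?_)
    · obtain ⟨x, hx⟩ := x
      show a • x = 0
      induction hx using Submodule.smul_induction_on' with
      | smul b hb y _ => rw [← mul_smul]; exact hN _ (by rw [pow_succ]; exact Ideal.mul_mem_mul ha hb) y
      | add y _ z _ hy hz => rw [smul_add, hy, hz, add_zero]
    · obtain ⟨x, rfl⟩ := Submodule.mkQ_surjective S x
      rw [← map_smul, Submodule.mkQ_apply, Submodule.Quotient.mk_eq_zero]
      exact Submodule.smul_mem_smul ha Submodule.mem_top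

theorem step {M : Type u} [AddCommGroup M] [Module A M] (aug : F 0 →ₗ[A] M) (haug : Function.Surjective aug)
    (hex : Function.Exact (d 0) aug) (hres : ∀ k, Function.Exact (d (k + 1)) (d k)) (a : A) [Module.Flat (Localization.Away a) (Localization.Away a ⊗[A] M)]
    {ι : Type} (f : ι → A) (P : ι → Prop) (N : Type u) [AddCommGroup N] [Module A N]
    (hN : ∀ j, P j → ∀ x : N, ∃ n, f j ^ n • x = 0) (i : ℕ) (hi : 1 ≤ i)
    (h : ∀ (N' : Type u) [AddCommGroup N'] [Module A N'], (∀ j, P j → ∀ x : N', ∃ n, f j ^ n • x = 0) →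
      (∀ x : N', ∃ n, a ^ n • x = 0) → ∀ k, 1 ≤ k → k ≤ i + 1 → Ex d N' k) : Ex d N i := by
  let g := LocalizedModule.mkLinearMap (Submonoid.powers a) N
  have htors : ∀ j, P j → ∀ y : LocalizedModule (Submonoid.powers a) N, ∃ n, f j ^ n • y = 0 := by
    intro j hj y
    obtain ⟨⟨x, s⟩, hs⟩ := IsLocalizedModule.surj (Submonoid.powers a) g y
    obtain ⟨n, hn⟩ := hN j hj x
    refine ⟨n, IsLocalizedModule.smul_injective g s ?_⟩
    show s • (f j ^ n • y) = s • (0 : LocalizedModule (Submonoid.powers a) N)
    rw [smul_comm, show s • y = g x from hs, ← map_smul, hn, map_zero, smul_zero]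
  have hB : ∀ k, 1 ≤ k → k ≤ i → Ex d (LocalizedModule (Submonoid.powers a) N) k := by
    refine ex_module d hdd aug haug hex (Localization.Away a) i (fun k hk _ => ?_) _
    obtain ⟨j, rfl⟩ := Nat.exists_eq_add_of_le' hk
    haveI : Module.Flat A (Localization.Away a) := IsLocalization.flat _ (Submonoid.powers a)
    exact fun x hx => (Module.Flat.lTensor_exact (Localization.Away a) (hres j) x).mp hx
  have hrange : Ex d (LinearMap.range g) i := by
    refine ex_left d (LinearMap.range g).subtype (LinearMap.range g).mkQ Subtype.val_injective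
      (Submodule.mkQ_surjective _) (LinearMap.exact_subtype_mkQ _) i (hB i hi le_rfl) (h _ ?_ ?_ (i + 1) (by omega) le_rfl) hdd
    · intro j hj y
      obtain ⟨y, rfl⟩ := Submodule.mkQ_surjective _ y
      obtain ⟨n, hn⟩ := htors j hj y
      exact ⟨n, by rw [← map_smul, hn, map_zero]⟩
    · intro y
      obtain ⟨y, rfl⟩ := Submodule.mkQ_surjective _ y
      obtain ⟨⟨x, s, n, hn⟩, hs⟩ := IsLocalizedModule.surj (Submonoid.powers a) g y
      refine ⟨n, ?_⟩
      rw [← map_smul, Submodule.mkQ_apply, Submodule.Quotient.mk_eq_zero]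
      exact ⟨x, hs.symm.trans (by rw [Submonoid.smul_def]; exact congrArg (· • y) hn.symm)⟩
  refine ex_middle d hdd (LinearMap.ker g).subtype g.rangeRestrict Subtype.val_injective g.surjective_rangeRestrict
    (by intro x; rw [← LinearMap.mem_ker, LinearMap.ker_rangeRestrict]; exact ⟨fun hx => ⟨⟨x, hx⟩, rfl⟩, fun ⟨y, hy⟩ => hy ▸ y.2⟩)
    i (h _ ?_ ?_ i hi (Nat.le_succ i)) hrange
  · intro j hj y
    obtain ⟨n, hn⟩ := hN j hj y
    exact ⟨n, Subtype.ext hn⟩
  · intro y
    obtain ⟨⟨s, n, hn⟩, hs⟩ := (IsLocalizedModule.eq_zero_iff (Submonoid.powers a) g).mp (LinearMap.mem_ker.mp y.2)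
    refine ⟨n, Subtype.ext ?_⟩
    show a ^ n • (y : N) = 0
    rw [show a ^ n = s from hn]
    exact hs

end aux

/-- Let A be a ring, M an A-module and I = (f_1, ..., f_r) an ideal generated by r ≥ 1 elements. If (1)
M_{f_i} is flat over A_{f_i} for each i, (2) M/IM is flat over A/I, and (3) Tor_i^A(M, A/I) = 0 for
i = 1, ..., r + 1, then M is flat over A. (The published statement adds the same with 'faithfully
flat', whose proof it omits; that variant is not included.) -/
theorem result (A : Type u) [CommRing A] (M : Type u) [AddCommGroup M]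
    [Module A M] {r : ℕ} (hr : 1 ≤ r) (f : Fin r → A)
    (h1 : ∀ i, Module.Flat (Localization.Away (f i)) (LocalizedModule (Submonoid.powers (f i)) M))
    (h2 : Module.Flat (A ⧸ Ideal.span (Set.range f)) ((A ⧸ Ideal.span (Set.range f)) ⊗[A] M))
    (h3 : ∀ i : ℕ, 1 ≤ i → i ≤ r + 1 →
      Limits.IsZero (((CategoryTheory.Tor (ModuleCat.{u} A) i).obj (ModuleCat.of A M)).obj (ModuleCat.of A (A ⧸ Ideal.span (Set.range f))))) :
    Module.Flat A M := by
  let Q : ProjectiveResolution (ModuleCat.of A M) := Classical.choice HasProjectiveResolution.out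
  haveI := flat_resolution Q
  let aug : cF Q.complex 0 →ₗ[A] M := augm Q
  have haug : Function.Surjective aug := aug_surjective Q
  have hexa : Function.Exact (cd Q.complex 0) aug := aug_exact Q
  have hdd := cd_comp Q.complex
  let I : Ideal A := Ideal.span (Set.range f)
  have hI : ∀ (N : Type u) [AddCommGroup N] [Module A N], (∀ a ∈ I, ∀ x : N, a • x = 0) →
      ∀ i, 1 ≤ i → i ≤ r + 1 → Ex (cd Q.complex) N i := by
    intro N _ _ hN
    have ht : Module.IsTorsionBySet A N (I : Set A) := fun x a => hN a a.2 x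
    letI := ht.module
    haveI : IsScalarTower A (A ⧸ I) N := Module.IsTorsionBySet.isScalarTower ht
    refine ex_module (cd Q.complex) hdd aug haug hexa (A ⧸ I) (r + 1) (fun i hi hin => ?_) N
    obtain ⟨j, rfl⟩ := Nat.exists_eq_add_of_le' hi
    exact (isZero_tor_iff_left Q (ModuleCat.of A (A ⧸ I)) j).1 (h3 (j + 1) hi hin)
  have hT : ∀ (N : Type u) [AddCommGroup N] [Module A N], (∀ j (x : N), ∃ n, f j ^ n • x = 0) →
      ∀ i, 1 ≤ i → i ≤ r + 1 → Ex (cd Q.complex) N i := by
    intro N _ _ hN i hi hin
    refine ex_of_finite (cd Q.complex) hdd i fun J hJ => ?_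
    obtain ⟨s, rfl⟩ := hJ
    have hrad : I ≤ (Submodule.span A (s : Set N)).annihilator.radical := Ideal.span_le.mpr fun a ⟨j, hj⟩ => by
      subst hj
      classical
      choose n hn using fun x => hN j x
      refine ⟨s.sum n, Submodule.mem_annihilator.mpr fun x hx => ?_⟩
      induction hx using Submodule.span_induction with
      | mem x hx =>
        obtain ⟨c, hc⟩ := Nat.exists_eq_add_of_le' (Finset.single_le_sum (f := n) (fun _ _ => Nat.zero_le _) hx)
        rw [hc, pow_add, mul_smul, hn, smul_zero]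
      | zero => exact smul_zero _
      | add a b _ _ ha hb => rw [smul_add, ha, hb, add_zero]
      | smul c a _ ha => rw [smul_comm, ha, smul_zero]
    obtain ⟨k, hk⟩ := Ideal.exists_pow_le_of_le_radical_of_fg hrad ⟨(Set.finite_range f).toFinset, by simp [I]⟩
    exact ex_killed (cd Q.complex) hdd I (fun N _ _ h => hI N h i hi hin) k _ fun a ha x =>
      Subtype.ext (Submodule.mem_annihilator.mp (hk ha) x x.2)
  have hdown : ∀ (d : ℕ) (N : Type u) [AddCommGroup N] [Module A N],
      (∀ j : Fin r, (j : ℕ) + d < r → ∀ x : N, ∃ n, f j ^ n • x = 0) →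
      ∀ i, 1 ≤ i → i + d ≤ r + 1 → Ex (cd Q.complex) N i := by
    intro d
    induction d with
    | zero => intro N _ _ hN i hi hin; exact hT N (fun j => hN j j.2) i hi (by omega)
    | succ d ih =>
      intro N _ _ hN i hi hin
      let j0 : Fin r := ⟨r - (d + 1), by omega⟩
      haveI : Module.Flat (Localization.Away (f j0)) (Localization.Away (f j0) ⊗[A] M) := by
        haveI := h1 j0
        exact Module.Flat.of_linearEquiv (LocalizedModule.equivTensorProduct (Submonoid.powers (f j0)) M).symm
      exact step (cd Q.complex) hdd aug haug hexa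
        (fun k => (ShortComplex.ShortExact.moduleCat_exact_iff_function_exact _).1 (Q.exact_succ k)) (f j0) f (fun j => (j : ℕ) + (d + 1) < r) N hN i hi
        (fun N' _ _ hN' hj0 k hk1 hk2 => ih N' (fun j hj x => by
          by_cases h : (j : ℕ) + (d + 1) < r
          · exact hN' j h x
          · have : j = j0 := Fin.ext (by show (j : ℕ) = r - (d + 1); omega)
            exact this ▸ hj0 x) k hk1 (by omega))
  have hall : ∀ (N : Type u) [AddCommGroup N] [Module A N], Ex (cd Q.complex) N 1 :=
    fun N _ _ => hdown r N (fun j hj => absurd hj (by omega)) 1 le_rfl (by omega)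
  rw [Module.Flat.iff_rTensor_injective']
  intro J
  exact injective_of_ex_one (cd Q.complex) J.subtype J.mkQ J.injective_subtype J.mkQ_surjective
    (LinearMap.exact_subtype_mkQ J) hdd aug haug hexa (hall (A ⧸ J))

end Groth.Agent.S6377
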