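import Groth.Statements.S6378
import Groth.Agent.Lib.H1TorRes
import Mathlib

set_option autoImplicit false
universe u
open CategoryTheory
open CAlg

namespace Groth.Agent.S6378

open Groth.Agent.H1TorRes
open scoped TensorProduct

/-- Let (R, m, κ) be a local ring and M an R-module with Tor_1^R(κ, M) = 0. Then Tor_1^R(N, M) = 0 for
every finite length R-module N. -/
theorem result (R : Type u) [CommRing R] [IsLocalRing R]
    (M : Type u) [AddCommGroup M] [Module R M]
    (h : Limits.IsZero (((CategoryTheory.Tor (ModuleCat.{u} R) 1).obj (ModuleCat.of R (IsLocalRing.ResidueField R))).obj (ModuleCat.of R M)))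
    (N : Type u) [AddCommGroup N] [Module R N] (hN : IsFiniteLength R N) :
    Limits.IsZero (((CategoryTheory.Tor (ModuleCat.{u} R) 1).obj (ModuleCat.of R N)).obj (ModuleCat.of R M)) := by
  let P : ProjectiveResolution (ModuleCat.of R M) := Classical.choice HasProjectiveResolution.out
  refine (isZero_tor_iff (ModuleCat.of R N) _ P 1).2 ?_
  have hk := (isZero_tor_iff (ModuleCat.of R (IsLocalRing.ResidueField R)) _ P 1).1 h
  haveI := flat_resolution P
  clear h
  induction hN with
  | @of_subsingleton N _ _ _ =>
    intro x _
    refine ⟨0, ?_⟩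
    haveI : Subsingleton (N ⊗[R] cF P.complex 1) := inferInstance
    exact Subsingleton.elim _ _
  | @of_simple_quotient N _ _ K hs hK ih =>
    obtain ⟨J, hJ, ⟨e⟩⟩ := isSimpleModule_iff_quot_maximal.mp hs
    obtain rfl := IsLocalRing.eq_maximalIdeal hJ
    refine ex_middle (cd P.complex) (cd_comp P.complex) K.subtype K.mkQ K.injective_subtype K.mkQ_surjective
      (LinearMap.exact_subtype_mkQ K) 1 ih ?_
    exact ex_of_injective_surjective (cd P.complex) e 1 hk

end Groth.Agent.S6378
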