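import Groth.Statements.S6383
import Mathlib
import Groth.Prelude.Def_Found
import Groth.Agent.Lib.KaplanskyProjective
import Groth.Agent.Lib.ProjectiveDescent

set_option autoImplicit false
universe u
open TensorProduct Groth.Agent.ProjectiveDescent
open scoped TensorProduct
open CAlg

namespace Groth.Agent.S6383

/-- For a ring map R → S and an R-module M whose base change S ⊗_R M is an internal direct sum of
countably generated S-submodules Q_i (i ∈ I), every countably generated submodule N ≤ M can be
enlarged to a countably generated submodule N' ≤ M, together with a subset I' ⊆ I, so that the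
S-span of the image 1 ⊗ N' inside S ⊗_R M equals the sum of the Q_i over i ∈ I'. -/
theorem result (R S : Type u) [CommRing R] [CommRing S] [Algebra R S]
    (M : Type u) [AddCommGroup M] [Module R M] {I : Type u} [DecidableEq I] (Q : I → Submodule S (S ⊗[R] M))
    (hQ : DirectSum.IsInternal Q) (hQc : ∀ i, ∃ t : Set (S ⊗[R] M), t.Countable ∧ Submodule.span S t = Q i)
    (N : Submodule R M) (hN : ∃ s : Set M, s.Countable ∧ Submodule.span R s = N) :
    ∃ (N' : Submodule R M) (I' : Set I), N ≤ N' ∧ (∃ s : Set M, s.Countable ∧ Submodule.span R s = N') ∧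
      Submodule.span S ((TensorProduct.mk R S M 1) '' (N' : Set M)) = ⨆ i ∈ I', Q i := by
  obtain ⟨s0, hs0, hs0N⟩ := hN
  choose gen hgenc hgen using hQc
  choose sup hsup using fun a : M => Groth.Agent.Kap.exists_finite_support Q hQ ((1 : S) ⊗ₜ[R] a)
  choose fg hfg using fun z : S ⊗[R] M => fin_gen (R := R) z
  let next : Set M → Set M := fun A => A ∪ ⋃ a ∈ A, ⋃ j ∈ (sup a : Set I), ⋃ g ∈ gen j, (fg g : Set M)
  let A : ℕ → Set M := fun k => next^[k] s0
  have hA : ∀ k, (A k).Countable := by
    intro k
    induction k with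
    | zero => exact hs0
    | succ k ih =>
      show (next^[k + 1] s0).Countable
      rw [Function.iterate_succ_apply']
      exact ih.union (ih.biUnion fun a _ => (sup a).countable_toSet.biUnion fun j _ =>
        (hgenc j).biUnion fun g _ => (fg _).countable_toSet)
  let C0 : Set M := ⋃ k, A k
  let D : Set I := ⋃ a ∈ C0, (sup a : Set I)
  have hclose : ∀ a ∈ C0, ∀ j ∈ sup a, ∀ g ∈ gen j, (fg g : Set M) ⊆ C0 := by
    intro a ha j hj g hg y hy
    obtain ⟨k, hk⟩ := Set.mem_iUnion.mp ha
    refine Set.mem_iUnion.mpr ⟨k + 1, ?_⟩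
    show y ∈ next^[k + 1] s0
    rw [Function.iterate_succ_apply']
    exact Or.inr (Set.mem_biUnion hk (Set.mem_biUnion (Finset.mem_coe.mpr hj) (Set.mem_biUnion hg hy)))
  refine ⟨Submodule.span R C0, D, ?_, ⟨C0, Set.countable_iUnion hA, rfl⟩, ?_⟩
  · rw [← hs0N]
    exact Submodule.span_mono fun y hy => Set.mem_iUnion.mpr ⟨0, hy⟩
  show im S (Submodule.span R C0) = Groth.Agent.Kap.part Q D
  apply le_antisymm
  · rw [im_le_iff, Submodule.span_le]
    intro a ha
    exact (Groth.Agent.Kap.part_le_iff Q).mpr (fun j hj => Groth.Agent.Kap.le_part Q (Set.mem_biUnion ha hj)) (hsup a)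
  · refine (Groth.Agent.Kap.part_le_iff Q).mpr fun j hj => ?_
    obtain ⟨a, ha, hja⟩ := Set.mem_iUnion₂.mp hj
    rw [← hgen j, Submodule.span_le]
    intro g hg
    exact (im_le_iff.mpr ((Submodule.span_mono (hclose a ha j hja g hg)).trans (im_le_iff.mp le_rfl))) (hfg g)

end Groth.Agent.S6383
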