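import Groth.Statements.S6386
import Mathlib
import Groth.Agent.Lib.FlatClosure

set_option autoImplicit false
universe u
open Cardinal
open Groth.Agent.FlatClosure
open CAlg

namespace Groth.Agent.S6386

/-- The key step of its proof: let A be a ring, κ = max(|A|, ℵ₀), and B a flat A-algebra. Then every
A-subalgebra E ⊆ B with at most κ elements lies inside a flat A-subalgebra B' ⊆ B with at most κ
elements. Consequently B is the filtered colimit (union) of its flat A-subalgebras of cardinality at
most κ. -/
theorem result (A B : Type u) [CommRing A] [CommRing B] [Algebra A B]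
    [Module.Flat A B] (E : Subalgebra A B) (hE : Cardinal.mk E ≤ max (Cardinal.mk A) Cardinal.aleph0) :
    ∃ B' : Subalgebra A B, E ≤ B' ∧ Module.Flat A B' ∧ Cardinal.mk B' ≤ max (Cardinal.mk A) Cardinal.aleph0 := by
  choose g hle hcard hg using fun T : {T : Subalgebra A B // #T ≤ max #A ℵ₀} => flat_closure_step T.1 T.2
  let s : ℕ → {T : Subalgebra A B // #T ≤ max #A ℵ₀} := fun n => Nat.rec ⟨E, hE⟩ (fun _ T => ⟨g T, hcard T⟩) n
  have hmono : Monotone fun n => (s n).1 := monotone_nat_of_le_succ fun n => hle (s n)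
  have hdir : Directed (· ≤ ·) fun n => (s n).1 := hmono.directed_le
  refine ⟨⨆ n, (s n).1, le_iSup (fun n => (s n).1) 0, ?_, ?_⟩
  · rw [Module.Flat.iff_forall_isTrivialRelation]
    intro l f x hfx
    have hx : ∀ i, ∃ n, (x i : B) ∈ (s n).1 := fun i => by
      have h := (x i).2
      rwa [← SetLike.mem_coe, Subalgebra.coe_iSup_of_directed hdir, Set.mem_iUnion] at h
    choose n hn using hx
    obtain ⟨N, hN⟩ := (Set.finite_range n).bddAbove
    have hsum : ∑ i, f i • (x i : B) = 0 := by
      have := congrArg Subtype.val hfx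
      simpa using this
    obtain ⟨k, a, y, hy, h1, h2⟩ := hg (s N) l f (fun i => (x i : B))
      (fun i => hmono (hN ⟨i, rfl⟩) (hn i)) hsum
    refine ⟨k, a, fun j => ⟨y j, le_iSup (fun n => (s n).1) (N+1) (hy j)⟩, fun i => Subtype.ext ?_, h2⟩
    simpa using h1 i
  · have : ((⨆ n, (s n).1 : Subalgebra A B) : Set B) = ⋃ n, ((s n).1 : Set B) :=
      Subalgebra.coe_iSup_of_directed hdir
    calc #(⨆ n, (s n).1 : Subalgebra A B) = #(((⨆ n, (s n).1 : Subalgebra A B) : Set B)) := rfl
      _ = #(⋃ n, ((s n).1 : Set B)) := by rw [this]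
      _ ≤ max #A ℵ₀ := by
          have h1 := Cardinal.mk_iUnion_le_lift (f := fun n => ((s n).1 : Set B))
          simp only [Cardinal.lift_id'] at h1
          rw [Cardinal.mk_nat, Cardinal.lift_aleph0] at h1
          refine h1.trans ((Cardinal.mul_le_max _ _).trans (max_le (max_le (le_max_right _ _) ?_) (le_max_right _ _)))
          exact ciSup_le' fun n => by simpa using (s n).2

end Groth.Agent.S6386
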