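import Groth.Statements.S6388
import Mathlib
import Groth.Prelude.Def_Found
import Groth.Prelude.Def_CAlgX
import Groth.Agent.Lib.MittagLeffler

set_option autoImplicit false
universe u
open TensorProduct Groth.Agent.MittagLeffler
open CAlg

namespace Groth.Agent.S6388

/-- Let f : M → N and g : M → M' be maps of R-modules and let N' be their pushout, realised as the
quotient of M' × N by the submodule of elements (g x, -f x). Then g dominates f — for every module Q
the kernel of f ⊗ id_Q is contained in the kernel of g ⊗ id_Q — if and only if the canonical map M'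
→ N' is universally injective. -/
theorem result (R : Type u) [CommRing R] {M N M' : Type u}
    [AddCommGroup M] [Module R M] [AddCommGroup N] [Module R N] [AddCommGroup M'] [Module R M']
    (f : M →ₗ[R] N) (g : M →ₗ[R] M') :
    (∀ (Q : Type u) [AddCommGroup Q] [Module R Q], LinearMap.ker (f.rTensor Q) ≤ LinearMap.ker (g.rTensor Q)) ↔
      CAlgX.UniversallyInjective R
        ((LinearMap.range (g.prod (-f))).mkQ ∘ₗ LinearMap.inl R M' N) := by
  constructor
  · intro h Q _ _
    rw [← LinearMap.ker_eq_bot, LinearMap.ker_eq_bot']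
    intro z hz
    rw [LinearMap.rTensor_comp, LinearMap.comp_apply] at hz
    obtain ⟨w, hw⟩ := (rTensor_exact Q (LinearMap.exact_map_mkQ_range (g.prod (-f))) (Submodule.mkQ_surjective _) _).mp hz
    have h2 := congrArg ((LinearMap.snd R M' N).rTensor Q) hw
    have h1 := congrArg ((LinearMap.fst R M' N).rTensor Q) hw
    simp only [← LinearMap.comp_apply, ← LinearMap.rTensor_comp, LinearMap.fst_prod, LinearMap.snd_prod,
      LinearMap.fst_comp_inl, LinearMap.snd_comp_inl, LinearMap.rTensor_id, LinearMap.rTensor_zero,
      LinearMap.id_apply, LinearMap.zero_apply, LinearMap.rTensor_neg, LinearMap.neg_apply, neg_eq_zero] at h1 h2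
    rw [← h1]
    exact LinearMap.mem_ker.mp (h Q (LinearMap.mem_ker.mpr h2))
  · intro h Q _ _ x hx
    rw [LinearMap.mem_ker] at hx ⊢
    apply h Q
    rw [map_zero]
    have heq : ((LinearMap.range (g.prod (-f))).mkQ ∘ₗ LinearMap.inl R M' N) ∘ₗ g =
        ((LinearMap.range (g.prod (-f))).mkQ ∘ₗ LinearMap.inr R M' N) ∘ₗ f :=
      LinearMap.ext fun m => (Submodule.Quotient.eq _).mpr ⟨m, by simp⟩
    rw [← LinearMap.comp_apply, ← LinearMap.rTensor_comp, heq, LinearMap.rTensor_comp, LinearMap.comp_apply, hx, map_zero]

end Groth.Agent.S6388
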