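import Groth.Statements.S6390
import Mathlib
import Groth.Prelude.Def_Found
import Groth.Agent.Lib.Devissage

set_option autoImplicit false
universe u
open scoped Classical
open Groth.Agent.Devissage
open scoped Classical
open CAlg

namespace Groth.Agent.S6390

/-- An R-module M is a direct sum of countably generated modules if and only if it admits a Kaplansky
dévissage, i.e. an increasing family of submodules (M_s) indexed by a well-ordered set S with M_s =
⋃_{t<s} M_t at non-successor indices (so the first term is 0), ⋃_s M_s = M, and, whenever t is the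
successor of s, M_s a direct summand of M_t with M_t/M_s countably generated. -/
theorem result (R : Type u) [CommRing R] (M : Type u)
    [AddCommGroup M] [Module R M] :
    (∃ (ι : Type u) (N : ι → Submodule R M), DirectSum.IsInternal N ∧ ∀ i, CAlg.IsCountablyGenerated R (N i)) ↔
      ∃ (S : Type u) (_ : LinearOrder S) (_ : WellFoundedLT S) (Mf : S → Submodule R M), Monotone Mf ∧
        (∀ s : S, Order.IsSuccPrelimit s → Mf s = ⨆ t : {t : S // t < s}, Mf t.1) ∧
        (⨆ s, Mf s) = ⊤ ∧
        (∀ s t : S, s ⋖ t → ∃ C : Submodule R M, Mf s ⊓ C = ⊥ ∧ Mf s ⊔ C = Mf t ∧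
          CAlg.IsCountablyGenerated R (↥(Mf t) ⧸ Submodule.comap (Mf t).subtype (Mf s))) := by
  classical
  constructor
  · rintro ⟨ι, N, hN, hcg⟩
    obtain ⟨hind, hsup⟩ := DirectSum.isInternal_submodule_iff_iSupIndep_and_iSup_eq_top N |>.mp hN
    obtain ⟨lo, wf⟩ := exists_wellFoundedLT ι
    let Mf : WithTop ι → Submodule R M := fun s => ⨆ i : {i : ι // (i : WithTop ι) < s}, N i.1
    refine ⟨WithTop ι, inferInstance, inferInstance, Mf, ?_, ?_, ?_, ?_⟩
    · intro a b hab
      exact iSup_le fun i => le_iSup_of_le ⟨i.1, lt_of_lt_of_le i.2 hab⟩ le_rfl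
    · intro s hs
      refine le_antisymm (iSup_le fun i => ?_) (iSup_le fun t => iSup_le fun i => le_iSup_of_le ⟨i.1, i.2.trans t.2⟩ le_rfl)
      obtain ⟨t, h1, h2⟩ := (not_covBy_iff i.2).mp (hs i.1)
      exact le_iSup_of_le ⟨t, h2⟩ (le_iSup_of_le ⟨i.1, h1⟩ le_rfl)
    · rw [eq_top_iff, ← hsup]
      exact iSup_le fun i => le_iSup_of_le ⊤ (le_iSup_of_le ⟨i, WithTop.coe_lt_top i⟩ le_rfl)
    · intro s t hst
      obtain ⟨i, rfl⟩ := WithTop.ne_top_iff_exists.mp (ne_top_of_lt hst.1)
      have hle : ∀ j : ι, (j : WithTop ι) < t ↔ (j : WithTop ι) < i ∨ j = i := by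
        intro j
        constructor
        · intro hj
          rcases lt_trichotomy (j : WithTop ι) i with h | h | h
          · exact Or.inl h
          · exact Or.inr (WithTop.coe_injective h)
          · exact absurd hj (hst.2 h)
        · rintro (h | rfl)
          · exact h.trans hst.1
          · exact hst.1
      have h1 : Mf i ⊓ N i = ⊥ := by
        rw [eq_bot_iff, ← (hind i).eq_bot, inf_comm]
        refine inf_le_inf le_rfl (iSup_le fun j => ?_)
        exact le_iSup₂_of_le j.1 (fun h => absurd j.2 (by rw [h]; exact lt_irrefl _)) le_rfl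
      have h2 : Mf i ⊔ N i = Mf t := by
        refine le_antisymm (sup_le (iSup_le fun j => le_iSup_of_le ⟨j.1, j.2.trans hst.1⟩ le_rfl)
          (le_iSup_of_le ⟨i, hst.1⟩ le_rfl)) (iSup_le fun j => ?_)
        rcases (hle j.1).mp j.2 with h | h
        · exact le_sup_of_le_left (le_iSup_of_le ⟨j.1, h⟩ le_rfl)
        · exact le_sup_of_le_right (by rw [h])
      obtain ⟨e⟩ := compl_quot_equiv _ _ _ h1 h2
      exact ⟨N i, h1, h2, countably_equiv e.toLinearMap e.surjective (hcg i)⟩
  · rintro ⟨S, _, _, Mf, hmono, hlim, htop, hs⟩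
    choose C h1 h2 h3 using fun p : {p : S × S // p.1 ⋖ p.2} => hs p.1.1 p.1.2 p.2
    refine ⟨_, C, by convert devissage_internal Mf hmono hlim htop C (fun p => ⟨h1 p, h2 p⟩), fun p => ?_⟩
    obtain ⟨e⟩ := compl_quot_equiv _ _ _ (h1 p) (h2 p)
    exact countably_equiv e.symm.toLinearMap e.symm.surjective (h3 p)

end Groth.Agent.S6390
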