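import Groth.Statements.S6391
import Mathlib
import Groth.Prelude.Def_PBC
import Groth.Agent.Lib.H2IndEtaleLift

set_option autoImplicit false
universe u
open CAlg

namespace Groth.Agent.S6391
set_option maxHeartbeats 1000000
set_option synthInstance.maxHeartbeats 400000
set_option backward.isDefEq.respectTransparency.types false

/-- Let R be a ring, S and S' henselian local rings which are filtered colimits of étale R-algebras, and
K a field together with R-algebra maps S → K and S' → K identifying K with the residue field of each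
(surjective with kernel the maximal ideal). Then exactly one isomorphism of R-algebras S → S'
commutes with the two maps to K. -/
theorem result (R S S' K : Type u) [CommRing R]
    [CommRing S] [CommRing S'] [Field K] [HenselianLocalRing S] [HenselianLocalRing S']
    [Algebra R S] [Algebra R S'] [Algebra R K] (hS : EtPBC.IsIndEtale R S) (hS' : EtPBC.IsIndEtale R S')
    (u : S →ₐ[R] K) (u' : S' →ₐ[R] K) (hu : Function.Surjective u) (hu' : Function.Surjective u')
    (hku : RingHom.ker u.toRingHom = IsLocalRing.maximalIdeal S)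
    (hku' : RingHom.ker u'.toRingHom = IsLocalRing.maximalIdeal S') :
    ∃! e : S ≃ₐ[R] S', u'.comp (e : S →ₐ[R] S') = u := by
  let m := IsLocalRing.maximalIdeal S
  let m' := IsLocalRing.maximalIdeal S'
  let q : (S ⧸ m) ≃ₐ[R] K := (Ideal.quotientEquivAlgOfEq R hku.symm).trans (Ideal.quotientKerAlgEquivOfSurjective hu)
  let q' : (S' ⧸ m') ≃ₐ[R] K := (Ideal.quotientEquivAlgOfEq R hku'.symm).trans (Ideal.quotientKerAlgEquivOfSurjective hu')
  have hq : ∀ s, q (Ideal.Quotient.mk m s) = u s := fun s => by simp [q]; rfl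
  have hq' : ∀ s, q' (Ideal.Quotient.mk m' s) = u' s := fun s => by simp [q']; rfl
  obtain ⟨φ, hφ, hφu⟩ := Groth.Agent.H2IndEtaleLift.existsUnique_lift hS S' m' (q'.symm.toAlgHom.comp u)
  obtain ⟨ψ, hψ, hψu⟩ := Groth.Agent.H2IndEtaleLift.existsUnique_lift hS' S m (q.symm.toAlgHom.comp u')
  have hφ' : ∀ s, u' (φ s) = u s := fun s => by
    have := congrArg q' (AlgHom.congr_fun hφ s)
    simpa [hq'] using this
  have hψ' : ∀ s, u (ψ s) = u' s := fun s => by
    have := congrArg q (AlgHom.congr_fun hψ s)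
    simpa [hq] using this
  obtain ⟨a, -, hau⟩ := Groth.Agent.H2IndEtaleLift.existsUnique_lift hS S m (Ideal.Quotient.mkₐ R m)
  obtain ⟨b, -, hbu⟩ := Groth.Agent.H2IndEtaleLift.existsUnique_lift hS' S' m' (Ideal.Quotient.mkₐ R m')
  have h1 : ψ.comp φ = AlgHom.id R S := (hau _ (AlgHom.ext fun s => q.injective (by
    show q (Ideal.Quotient.mk m (ψ (φ s))) = q (Ideal.Quotient.mk m s)
    rw [hq, hq, hψ', hφ']))).trans (hau _ rfl).symm
  have h2 : φ.comp ψ = AlgHom.id R S' := (hbu _ (AlgHom.ext fun s => q'.injective (by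
    show q' (Ideal.Quotient.mk m' (φ (ψ s))) = q' (Ideal.Quotient.mk m' s)
    rw [hq', hq', hφ', hψ']))).trans (hbu _ rfl).symm
  refine ⟨AlgEquiv.ofAlgHom φ ψ h2 h1, AlgHom.ext hφ', fun e he => AlgEquiv.ext fun s => ?_⟩
  refine AlgHom.congr_fun (hφu (e : S →ₐ[R] S') (AlgHom.ext fun t => q'.injective ?_)) s
  show q' (Ideal.Quotient.mk m' (e t)) = q' (q'.symm (u t))
  rw [hq', q'.apply_symm_apply]
  exact AlgHom.congr_fun he t

end Groth.Agent.S6391
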