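import Groth.Statements.S6399
import Groth.Agent.Lib.LFibCat2

set_option autoImplicit false
set_option backward.isDefEq.respectTransparency false
set_option backward.isDefEq.respectTransparency.types false
set_option linter.style.haveILetI false
open CategoryTheory
universe v u
open FibCat

namespace Groth.Agent.S6399

/-- A functor `G : 𝒳 ⟶ 𝒴` over `C` between categories fibred in groupoids is fully faithful if and only
if the diagonal `𝒳 ⟶ 𝒳 ×_𝒴 𝒳` is an equivalence over `C`. -/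
theorem result {C : Type u} [Category.{v} C] {𝒳 𝒴 : BasedCategory.{v, max u v} C} (G : 𝒳 ⥤ᵇ 𝒴) (h𝒳 : FibCat.IsFibGrpd 𝒳.p) (h𝒴 : FibCat.IsFibGrpd 𝒴.p) :
    (G.toFunctor.Full ∧ G.toFunctor.Faithful) ↔ FibCat.IsEquivOver (FibCat.diag G) := by
  constructor
  · rintro ⟨hfull, hfaith⟩
    refine H9Fib.isEquivOver_of (FibCat.diag G) ⟨fun {x y} k => ⟨k.hom.fst, ?_⟩⟩
      ⟨fun {x y} {a b} e => congrArg (fun q => q.hom.fst) e⟩ fun η => ?_
    · refine ObjectProperty.hom_ext _ (Limits.CategoricalPullback.hom_ext rfl ?_)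
      apply G.toFunctor.map_injective
      have w : G.map k.hom.fst ≫ 𝟙 (G.obj y) = 𝟙 (G.obj x) ≫ G.map k.hom.snd := k.hom.w
      exact (Category.comp_id _).symm.trans (w.trans (Category.id_comp _))
    · obtain ⟨⟨x, x', m⟩, hm⟩ := η
      haveI hm' : 𝒴.p.IsHomLift (𝟙 (𝒳.p.obj x)) m.hom := hm
      let n : x ≅ x' := G.toFunctor.preimageIso m
      refine ⟨x, ObjectProperty.isoMk _ (Limits.CategoricalPullback.mkIso (Iso.refl x) n ?_), ?_⟩
      · show G.map (𝟙 x) ≫ m.hom = 𝟙 (G.obj x) ≫ G.map n.hom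
        simp [n]
      · exact IsHomLift.of_fac' _ _ _ rfl rfl (by simp; exact 𝒳.p.map_id x)
  · intro h
    obtain ⟨hfull, -, hess⟩ := H9Fib.full_of_isEquivOver h
    have key : ∀ {x : 𝒳.obj} (a : x ⟶ x), G.map a = 𝟙 _ → a = 𝟙 x := fun {x} a ha => by
      let k : (FibCat.diag G).obj x ⟶ (FibCat.diag G).obj x :=
        ObjectProperty.homMk { fst := a, snd := 𝟙 x, w := (show G.map a ≫ 𝟙 _ = 𝟙 _ ≫ G.map (𝟙 x) by simp [ha]) }
      obtain ⟨c, hc⟩ := (FibCat.diag G).toFunctor.map_surjective k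
      exact (congrArg (fun q => q.hom.fst) hc).symm.trans (congrArg (fun q => q.hom.snd) hc)
    have hF : ∀ U, (FibCat.fiberFunctor G U).Faithful := fun U => ⟨fun {a b} {k l} e => by
      have e1 : G.map k.1 = G.map l.1 := congrArg Subtype.val e
      haveI : 𝒳.p.IsHomLift (𝟙 U) l.1 := l.2
      haveI := LFib.isIso_vertical h𝒳 (U := U) l.1
      have := key (k.1 ≫ inv l.1) (by rw [G.toFunctor.map_comp, G.toFunctor.map_inv, show G.toFunctor.map k.1 = G.toFunctor.map l.1 from e1, IsIso.hom_inv_id])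
      exact Functor.Fiber.hom_ext (((IsIso.comp_inv_eq _).1 this).trans (Category.id_comp _))⟩
    have hf : G.toFunctor.Faithful := LFib.faithful_of_fiber G h𝒳 h𝒴 hF
    refine ⟨LFib.full_of_fiber G h𝒳 h𝒴 fun U => ⟨fun {a b} k => ?_⟩, hf⟩
    obtain ⟨x, hx⟩ := a
    obtain ⟨x', hx'⟩ := b
    have hk : 𝒴.p.IsHomLift (𝟙 U) (k.1 : G.obj x ⟶ G.obj x') := k.2
    haveI := hk
    haveI : IsIso (k.1 : G.obj x ⟶ G.obj x') := LFib.isIso_vertical h𝒴 (U := U) _
    obtain ⟨z, e, he⟩ := hess ⟨{ fst := x, snd := x', iso := asIso (k.1 : G.obj x ⟶ G.obj x') }, by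
      show 𝒴.p.IsHomLift (𝟙 (𝒳.p.obj x)) _; rw [hx]; exact hk⟩
    have w : G.map e.hom.hom.fst ≫ (k.1 : G.obj x ⟶ G.obj x') = 𝟙 (G.obj z) ≫ G.map e.hom.hom.snd := e.hom.hom.w
    have inv_fst : e.inv.hom.fst ≫ e.hom.hom.fst = 𝟙 x := congrArg (fun q => q.hom.fst) e.inv_hom_id
    let n : x ⟶ x' := e.inv.hom.fst ≫ e.hom.hom.snd
    have hn : G.map n = k.1 := by
      rw [Category.id_comp] at w
      show G.toFunctor.map _ = _
      rw [G.toFunctor.map_comp]
      erw [← w, ← Category.assoc, ← G.toFunctor.map_comp, inv_fst, G.toFunctor.map_id, Category.id_comp]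
    haveI : 𝒴.p.IsHomLift (𝟙 U) (G.map n) := hn ▸ hk
    exact ⟨⟨n, BasedFunctor.isHomLift_map G _ _⟩, Functor.Fiber.hom_ext hn⟩

end Groth.Agent.S6399
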