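import Groth.Statements.S6400
import Groth.Agent.Lib.LFibCat2

set_option autoImplicit false
set_option backward.isDefEq.respectTransparency false
set_option backward.isDefEq.respectTransparency.types false
set_option linter.style.haveILetI false
open CategoryTheory
universe v u
open FibCat

namespace Groth.Agent.S6400

/-- For fibred categories `𝒳, 𝒴, 𝒮` over `C` and functors `F : 𝒳 ⟶ 𝒮`, `G : 𝒴 ⟶ 𝒮` over `C` preserving
strongly cartesian morphisms, the 2-fibre product `𝒳 ×_𝒮 𝒴` over `C` is fibred over `C`. (The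
published statement also says that this category, with its two projections, is a 2-fibre product in
the 2-category of fibred categories over `C`; this row states only that it is fibred.) -/
theorem result {C : Type u} [Category.{v} C] {𝒳 𝒴 𝒮 : BasedCategory.{v, max u v} C} (F : 𝒳 ⥤ᵇ 𝒮) (G : 𝒴 ⥤ᵇ 𝒮) [𝒳.p.IsFibered] [𝒴.p.IsFibered] [𝒮.p.IsFibered]
    (hF : ∀ {R S : C} (f : R ⟶ S) {a b : 𝒳.obj} (φ : a ⟶ b), 𝒳.p.IsStronglyCartesian f φ → 𝒮.p.IsStronglyCartesian f (F.map φ))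
    (hG : ∀ {R S : C} (f : R ⟶ S) {a b : 𝒴.obj} (φ : a ⟶ b), 𝒴.p.IsStronglyCartesian f φ → 𝒮.p.IsStronglyCartesian f (G.map φ)) :
    (FibCat.fp F G).p.IsFibered := by
  refine Functor.IsFibered.of_exists_isStronglyCartesian fun w V g => ?_
  obtain ⟨⟨a, b, i⟩, hi⟩ := w
  change V ⟶ 𝒳.p.obj a at g
  change F.obj a ≅ G.obj b at i
  haveI hi' : 𝒮.p.IsHomLift (𝟙 (𝒳.p.obj a)) i.hom := hi
  obtain ⟨a', α, hα⟩ := Functor.IsPreFibered.exists_isCartesian' (p := 𝒳.p) (a := a) g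
  haveI := hα
  have hb : 𝒴.p.obj b = 𝒳.p.obj a := (G.w_obj _).symm.trans (IsHomLift.codomain_eq 𝒮.p (𝟙 (𝒳.p.obj a)) i.hom)
  obtain ⟨b', β, hβ⟩ := IsPreFibered.exists_isCartesian 𝒴.p hb g
  haveI := hβ
  have hsA := hF g α inferInstance
  have hsB := hG g β inferInstance
  haveI := hsA; haveI := hsB
  haveI : 𝒮.p.IsStronglyCartesian (𝟙 (𝒳.p.obj a)) i.hom := inferInstance
  haveI hsAi : 𝒮.p.IsStronglyCartesian g (F.map α ≫ i.hom) := by
    simpa using (inferInstance : 𝒮.p.IsStronglyCartesian (g ≫ 𝟙 _) (F.map α ≫ i.hom))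
  let Φ := Functor.IsCartesian.domainUniqueUpToIso 𝒮.p g (G.map β) (F.map α ≫ i.hom)
  have hΦl : 𝒮.p.IsHomLift (𝟙 V) Φ.hom := inferInstance
  have hΦ : Φ.hom ≫ G.map β = F.map α ≫ i.hom := by simp [Φ]
  have ha' : 𝒳.p.obj a' = V := IsHomLift.domain_eq 𝒳.p g α
  let w' : (FibCat.fp F G).obj := ⟨{ fst := a', snd := b', iso := Φ }, by show 𝒮.p.IsHomLift (𝟙 (𝒳.p.obj a')) Φ.hom; rw [ha']; exact hΦl⟩
  let φ : w' ⟶ ⟨{ fst := a, snd := b, iso := i }, hi⟩ := ObjectProperty.homMk { fst := α, snd := β, w := hΦ.symm }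
  haveI hφ : (FibCat.fp F G).p.IsHomLift g φ := IsHomLift.of_fac' _ _ _ ha' rfl (IsHomLift.fac' 𝒳.p g α)
  refine ⟨w', φ, { universal_property' := fun {z} h ψ hψ => ?_ }⟩
  haveI := hψ
  haveI l1 : 𝒳.p.IsHomLift (h ≫ g) ψ.hom.fst := BasedFunctor.preserves_isHomLift (FibCat.fpFst F G) (h ≫ g) ψ
  haveI l2 : 𝒴.p.IsHomLift (h ≫ g) ψ.hom.snd := BasedFunctor.preserves_isHomLift (FibCat.fpSnd F G) (h ≫ g) ψ
  obtain ⟨χ1, ⟨h1, e1⟩, u1⟩ := Functor.IsStronglyCartesian.universal_property 𝒳.p g α h (h ≫ g) rfl ψ.hom.fst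
  obtain ⟨χ2, ⟨h2, e2⟩, u2⟩ := Functor.IsStronglyCartesian.universal_property 𝒴.p g β h (h ≫ g) rfl ψ.hom.snd
  haveI := h1; haveI := h2
  have sq : F.map χ1 ≫ Φ.hom = z.obj.iso.hom ≫ G.map χ2 := by
    haveI hz : 𝒮.p.IsHomLift (𝟙 (𝒳.p.obj z.obj.fst)) z.obj.iso.hom := z.property
    haveI : 𝒮.p.IsHomLift h (F.map χ1 ≫ Φ.hom) := by simpa using (inferInstance : 𝒮.p.IsHomLift (h ≫ 𝟙 V) (F.map χ1 ≫ Φ.hom))
    haveI : 𝒮.p.IsHomLift h (z.obj.iso.hom ≫ G.map χ2) := by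
      simpa using (inferInstance : 𝒮.p.IsHomLift (𝟙 (𝒳.p.obj z.obj.fst) ≫ h) (z.obj.iso.hom ≫ G.map χ2))
    refine Functor.IsStronglyCartesian.ext 𝒮.p g (G.map β) (g := h) ?_
    have wψ : F.map ψ.hom.fst ≫ i.hom = z.obj.iso.hom ≫ G.map ψ.hom.snd := ψ.hom.w
    rw [Category.assoc, Category.assoc, hΦ, ← Category.assoc, ← F.toFunctor.map_comp, e1, ← G.toFunctor.map_comp, e2]
    exact wψ
  refine ⟨ObjectProperty.homMk { fst := χ1, snd := χ2, w := sq }, ⟨?_, ?_⟩, ?_⟩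
  · exact IsHomLift.of_fac' _ _ _ rfl ha' (IsHomLift.fac' 𝒳.p h χ1)
  · exact ObjectProperty.hom_ext _ (Limits.CategoricalPullback.hom_ext e1 e2)
  · rintro χ ⟨hχ, eχ⟩
    haveI := hχ
    refine ObjectProperty.hom_ext _ (Limits.CategoricalPullback.hom_ext (u1 _ ⟨?_, ?_⟩) (u2 _ ⟨?_, ?_⟩))
    · exact BasedFunctor.preserves_isHomLift (FibCat.fpFst F G) h χ
    · exact congrArg (fun q => q.hom.fst) eχ
    · exact BasedFunctor.preserves_isHomLift (FibCat.fpSnd F G) h χ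
    · exact congrArg (fun q => q.hom.snd) eχ

end Groth.Agent.S6400
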