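import Groth.Statements.S6402
import Groth.Agent.Lib.LFibCat2

set_option autoImplicit false
set_option backward.isDefEq.respectTransparency false
set_option backward.isDefEq.respectTransparency.types false
set_option linter.style.haveILetI false
open CategoryTheory
universe v u
open FibCat

namespace Groth.Agent.S6402

/-- For a functor `F : 𝒳 ⟶ 𝒴` of fibred categories over `C` preserving strongly cartesian morphisms, the
relative inertia `I_{𝒳/𝒴}` (pairs `(x, α)` with `α` an automorphism of `x` sent to the identity by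
`F`) is equivalent over `C` to `𝒳 ×_{Δ, 𝒳 ×_𝒴 𝒳, Δ} 𝒳`, by a functor over `C` whose composite with
either projection is the forgetful functor `(x, α) ↦ x`. (Only the two projections of the
equivalence are pinned here; its 2-cell component at `(x, α)` is `(α, 𝟙)`.) -/
theorem result {C : Type u} [Category.{v} C] {𝒳 𝒴 : BasedCategory.{v, max u v} C} [𝒳.p.IsFibered] [𝒴.p.IsFibered] (F : 𝒳 ⥤ᵇ 𝒴) (hF : FibCat.PreservesStronglyCartesian F) :
    ∃ E : FibCat.inertia F ⥤ᵇ FibCat.fp (FibCat.diag F) (FibCat.diag F),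
      FibCat.IsEquivOver E ∧ BasedFunctor.comp E (FibCat.fpFst _ _) = FibCat.inertiaToBase F ∧
        BasedFunctor.comp E (FibCat.fpSnd _ _) = FibCat.inertiaToBase F := by
  let E : FibCat.inertia F ⥤ᵇ FibCat.fp (FibCat.diag F) (FibCat.diag F) :=
    { toFunctor :=
        { obj := fun z => ⟨{ fst := z.pt, snd := z.pt,
                             iso := ObjectProperty.isoMk _ (Limits.CategoricalPullback.mkIso z.aut (Iso.refl z.pt) (by
                               show F.map z.aut.hom ≫ 𝟙 _ = 𝟙 _ ≫ F.map (𝟙 z.pt)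
                               rw [z.map_aut]; simp)) },
              show (FibCat.fp F F).p.IsHomLift (𝟙 (𝒳.p.obj z.pt)) _ from IsHomLift.of_fac' _ _ _ rfl rfl (by
                simp
                haveI : 𝒳.p.IsHomLift (𝟙 (𝒳.p.obj z.pt)) z.aut.hom := by
                  apply (BasedFunctor.isHomLift_iff F _ _).1
                  rw [show F.map z.aut.hom = 𝟙 (F.obj z.pt) from z.map_aut]
                  infer_instance
                exact (IsHomLift.eq_of_isHomLift 𝒳.p (𝟙 (𝒳.p.obj z.pt)) z.aut.hom).symm)⟩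
          map := fun {z w} m => ObjectProperty.homMk
            { fst := m.hom, snd := m.hom, w := by
                apply ObjectProperty.hom_ext
                apply Limits.CategoricalPullback.hom_ext
                · exact m.comm.symm
                · show m.hom ≫ 𝟙 _ = 𝟙 _ ≫ m.hom
                  simp }
          map_id := fun z => rfl
          map_comp := fun m n => rfl }
      w := rfl }
  refine ⟨E, H9Fib.isEquivOver_of E ⟨fun {z w} m => ?_⟩ ⟨fun {z w} {a b} h => InertiaObj.hom_ext (congrArg (fun q => q.hom.fst) h)⟩ fun η => ?_, rfl, rfl⟩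
  · have w1 : m.hom.fst ≫ w.aut.hom = z.aut.hom ≫ m.hom.snd := congrArg (fun q => q.hom.fst) m.hom.w
    have w2 : m.hom.fst ≫ 𝟙 w.pt = 𝟙 z.pt ≫ m.hom.snd := congrArg (fun q => q.hom.snd) m.hom.w
    have hfs : m.hom.fst = m.hom.snd := (Category.comp_id _).symm.trans (w2.trans (Category.id_comp _))
    refine ⟨⟨m.hom.fst, ?_⟩, ObjectProperty.hom_ext _ (Limits.CategoricalPullback.hom_ext rfl hfs)⟩
    rw [w1, hfs]
  · obtain ⟨⟨x, x', i⟩, hi⟩ := η
    let i1 : x ≅ x' := ⟨i.hom.hom.fst, i.inv.hom.fst, congrArg (fun q => q.hom.fst) i.hom_inv_id, congrArg (fun q => q.hom.fst) i.inv_hom_id⟩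
    let i2 : x ≅ x' := ⟨i.hom.hom.snd, i.inv.hom.snd, congrArg (fun q => q.hom.snd) i.hom_inv_id, congrArg (fun q => q.hom.snd) i.inv_hom_id⟩
    have hw : F.map i1.hom = F.map i2.hom := by
      have w : F.map i.hom.hom.fst ≫ 𝟙 _ = 𝟙 _ ≫ F.map i.hom.hom.snd := i.hom.hom.w
      exact (Category.comp_id _).symm.trans (w.trans (Category.id_comp _))
    let z : (FibCat.inertia F).obj := ⟨x, i1 ≪≫ i2.symm, by
      show F.toFunctor.map (i1.hom ≫ i2.inv) = _
      rw [F.toFunctor.map_comp]
      erw [hw, ← F.toFunctor.map_comp, Iso.hom_inv_id, F.toFunctor.map_id]⟩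
    refine ⟨z, ObjectProperty.isoMk _ (Limits.CategoricalPullback.mkIso (Iso.refl x) i2 ?_), IsHomLift.of_fac' _ _ _ rfl rfl (by simp; exact 𝒳.p.map_id x)⟩
    apply ObjectProperty.hom_ext
    apply Limits.CategoricalPullback.hom_ext
    · show 𝟙 x ≫ i1.hom = (i1.hom ≫ i2.inv) ≫ i2.hom
      simp
    · show 𝟙 x ≫ i2.hom = 𝟙 x ≫ i2.hom
      rfl

end Groth.Agent.S6402
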