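import Groth.Statements.S6403
import Groth.Agent.Lib.LFibCat2

set_option autoImplicit false
set_option backward.isDefEq.respectTransparency false
set_option backward.isDefEq.respectTransparency.types false
set_option linter.style.haveILetI false
open CategoryTheory
universe v u
open FibCat

namespace Groth.Agent.S6403

/-- For a functor `F : 𝒳 ⟶ 𝒴` of fibred categories over `C` preserving strongly cartesian morphisms, the
relative inertia `I_{𝒳/𝒴}` is a fibred category over `C`. -/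
theorem result {C : Type u} [Category.{v} C] {𝒳 𝒴 : BasedCategory.{v, max u v} C} [𝒳.p.IsFibered] [𝒴.p.IsFibered] (F : 𝒳 ⥤ᵇ 𝒴) (hF : FibCat.PreservesStronglyCartesian F) :
    (FibCat.inertia F).p.IsFibered := by
  refine Functor.IsFibered.of_exists_isStronglyCartesian fun w V g => ?_
  obtain ⟨x, α, hα⟩ := w
  change V ⟶ 𝒳.p.obj x at g
  obtain ⟨y, φ, hφ⟩ := Functor.IsPreFibered.exists_isCartesian' (p := 𝒳.p) (a := x) g
  haveI := hφ
  haveI hsc : 𝒳.p.IsStronglyCartesian g φ := inferInstance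
  haveI hFsc : 𝒴.p.IsStronglyCartesian g (F.map φ) := hF g φ hsc
  haveI hαl : 𝒳.p.IsHomLift (𝟙 (𝒳.p.obj x)) α.hom := by
    apply (BasedFunctor.isHomLift_iff F _ _).1
    rw [show F.map α.hom = 𝟙 (F.obj x) from hα]
    infer_instance
  haveI : 𝒳.p.IsHomLift g (φ ≫ α.hom) := by simpa using (inferInstance : 𝒳.p.IsHomLift (g ≫ 𝟙 _) (φ ≫ α.hom))
  haveI : 𝒳.p.IsStronglyCartesian g (φ ≫ α.hom) := by simpa using (inferInstance : 𝒳.p.IsStronglyCartesian (g ≫ 𝟙 _) (φ ≫ α.hom))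
  let β : y ≅ y := Functor.IsCartesian.domainUniqueUpToIso 𝒳.p g φ (φ ≫ α.hom)
  have hβl : 𝒳.p.IsHomLift (𝟙 V) β.hom := inferInstance
  have hβ : β.hom ≫ φ = φ ≫ α.hom := by simp [β]
  have hy : 𝒳.p.obj y = V := IsHomLift.domain_eq 𝒳.p g φ
  have hFβ : F.map β.hom = 𝟙 (F.obj y) := by
    haveI : 𝒴.p.IsHomLift (𝟙 V) (F.map β.hom) := inferInstance
    haveI : 𝒴.p.IsHomLift (𝟙 V) (𝟙 (F.obj y)) := IsHomLift.id ((F.w_obj y).trans hy)
    refine Functor.IsStronglyCartesian.ext 𝒴.p g (F.map φ) (g := 𝟙 V) ?_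
    rw [← F.toFunctor.map_comp, hβ, F.toFunctor.map_comp, show F.toFunctor.map α.hom = 𝟙 _ from hα, Category.comp_id, Category.id_comp]
  let W : (FibCat.inertia F).obj := ⟨y, β, hFβ⟩
  let k : W ⟶ ⟨x, α, hα⟩ := ⟨φ, hβ⟩
  haveI : (FibCat.inertia F).p.IsHomLift g k := IsHomLift.of_fac' _ _ _ hy rfl (IsHomLift.fac' 𝒳.p g φ)
  refine ⟨W, k, { universal_property' := fun {z} h ψ hψ => ?_ }⟩
  haveI := hψ
  haveI : 𝒳.p.IsHomLift (h ≫ g) ψ.hom := BasedFunctor.preserves_isHomLift (FibCat.inertiaToBase F) (h ≫ g) ψ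
  obtain ⟨χ, ⟨h1, h2⟩, hu⟩ := Functor.IsStronglyCartesian.universal_property 𝒳.p g φ h (h ≫ g) rfl ψ.hom
  haveI := h1
  haveI : 𝒳.p.IsHomLift (𝟙 (𝒳.p.obj z.pt)) z.aut.hom := by
    apply (BasedFunctor.isHomLift_iff F _ _).1
    rw [show F.map z.aut.hom = 𝟙 (F.obj z.pt) from z.map_aut]
    infer_instance
  have hc : z.aut.hom ≫ χ = χ ≫ β.hom := by
    haveI : 𝒳.p.IsHomLift h (z.aut.hom ≫ χ) := by simpa using (inferInstance : 𝒳.p.IsHomLift (𝟙 (𝒳.p.obj z.pt) ≫ h) (z.aut.hom ≫ χ))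
    haveI : 𝒳.p.IsHomLift h (χ ≫ β.hom) := by simpa using (inferInstance : 𝒳.p.IsHomLift (h ≫ 𝟙 V) (χ ≫ β.hom))
    refine Functor.IsStronglyCartesian.ext 𝒳.p g φ (g := h) ?_
    rw [Category.assoc, Category.assoc, h2, hβ, ← Category.assoc, h2]
    exact ψ.comm
  refine ⟨⟨χ, hc⟩, ⟨IsHomLift.of_fac' _ _ _ rfl hy (IsHomLift.fac' 𝒳.p h χ), InertiaObj.hom_ext h2⟩, ?_⟩
  rintro κ ⟨k1, k2⟩
  haveI := k1
  exact InertiaObj.hom_ext (hu _ ⟨BasedFunctor.preserves_isHomLift (FibCat.inertiaToBase F) h κ, congrArg InertiaObj.Hom.hom k2⟩)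

end Groth.Agent.S6403
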