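import Groth.Statements.S6404
import Groth.Agent.Lib.LFibCat2

set_option autoImplicit false
set_option backward.isDefEq.respectTransparency false
set_option backward.isDefEq.respectTransparency.types false
set_option linter.style.haveILetI false
open CategoryTheory
universe v u
open FibCat

namespace Groth.Agent.S6404

/-- The inertia of a category fibred in groupoids over `C` is fibred in groupoids over `C`. -/
theorem result {C : Type u} [Category.{v} C] {𝒳 : BasedCategory.{v, max u v} C} (h𝒳 : FibCat.IsFibGrpd 𝒳.p) :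
    FibCat.IsFibGrpd (FibCat.inertia (FibCat.toSelf 𝒳)).p := by
  refine { exists_lift := fun {w V} f => ?_, isStronglyCartesian := fun {y x} φ => ?_ }
  · obtain ⟨pt, aut, haut⟩ := w
    change V ⟶ 𝒳.p.obj pt at f
    obtain ⟨y, φ, hφ⟩ := h𝒳.exists_lift f
    haveI := hφ
    haveI := LFib.sc h𝒳 f φ
    have ha : 𝒳.p.map aut.hom = 𝟙 _ := haut
    haveI : 𝒳.p.IsHomLift (𝟙 (𝒳.p.obj pt)) aut.hom := by rw [← ha]; infer_instance
    have hβ := CategoryTheory.Functor.IsStronglyCartesian.map_isHomLift 𝒳.p f φ (g := 𝟙 V) (f' := f ≫ 𝟙 (𝒳.p.obj pt)) (by simp) (φ ≫ aut.hom)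
    let β : y ⟶ y := CategoryTheory.Functor.IsStronglyCartesian.map 𝒳.p f φ (g := 𝟙 V) (f' := f ≫ 𝟙 (𝒳.p.obj pt)) (by simp) (φ ≫ aut.hom)
    haveI : IsIso β := @LFib.isIso_vertical _ _ _ _ _ h𝒳 V _ _ β hβ
    have hpβ : 𝒳.p.map β = 𝟙 _ := by
      have := @IsHomLift.fac' _ _ _ _ 𝒳.p _ _ _ _ (𝟙 V) β hβ
      simpa using this
    refine ⟨⟨y, asIso β, hpβ⟩, ⟨φ, ?_⟩, ?_⟩
    · exact CategoryTheory.Functor.IsStronglyCartesian.fac 𝒳.p f φ (g := 𝟙 V) (f' := f ≫ 𝟙 (𝒳.p.obj pt)) (by simp) (φ ≫ aut.hom)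
    · exact IsHomLift.of_fac' _ _ _ (IsHomLift.domain_eq 𝒳.p f φ) rfl (IsHomLift.fac' 𝒳.p f φ)
  · refine { universal_property' := fun {z} g ψ hψ => ?_ }
    change 𝒳.p.obj z.pt ⟶ 𝒳.p.obj y.pt at g
    haveI := h𝒳.isStronglyCartesian φ.hom
    haveI : 𝒳.p.IsHomLift (g ≫ 𝒳.p.map φ.hom) ψ.hom :=
      IsHomLift.of_fac' _ _ _ rfl rfl (@IsHomLift.fac' _ _ _ _ (FibCat.inertia (FibCat.toSelf 𝒳)).p _ _ _ _ (g ≫ _) ψ hψ)
    obtain ⟨χ, ⟨h1, h2⟩, hu⟩ := CategoryTheory.Functor.IsStronglyCartesian.universal_property 𝒳.p (𝒳.p.map φ.hom) φ.hom g _ rfl ψ.hom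
    haveI := h1
    haveI : 𝒳.p.IsHomLift (𝟙 (𝒳.p.obj z.pt)) z.aut.hom := by rw [← (show 𝒳.p.map z.aut.hom = 𝟙 _ from z.map_aut)]; infer_instance
    haveI : 𝒳.p.IsHomLift (𝟙 (𝒳.p.obj y.pt)) y.aut.hom := by rw [← (show 𝒳.p.map y.aut.hom = 𝟙 _ from y.map_aut)]; infer_instance
    have hc : z.aut.hom ≫ χ = χ ≫ y.aut.hom := by
      haveI l1 : 𝒳.p.IsHomLift g (z.aut.hom ≫ χ) := by simpa using (inferInstance : 𝒳.p.IsHomLift (𝟙 (𝒳.p.obj z.pt) ≫ g) (z.aut.hom ≫ χ))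
      haveI l2 : 𝒳.p.IsHomLift g (χ ≫ y.aut.hom) := by simpa using (inferInstance : 𝒳.p.IsHomLift (g ≫ 𝟙 (𝒳.p.obj y.pt)) (χ ≫ y.aut.hom))
      refine CategoryTheory.Functor.IsStronglyCartesian.ext 𝒳.p (𝒳.p.map φ.hom) φ.hom (g := g) ?_
      rw [Category.assoc, Category.assoc, h2, φ.comm, ← Category.assoc, h2, ψ.comm]
    refine ⟨⟨χ, hc⟩, ⟨IsHomLift.of_fac' _ _ _ rfl rfl (IsHomLift.fac' 𝒳.p g χ), InertiaObj.hom_ext h2⟩, ?_⟩
    rintro κ ⟨k1, k2⟩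
    exact InertiaObj.hom_ext (hu _ ⟨IsHomLift.of_fac' _ _ _ rfl rfl (@IsHomLift.fac' _ _ _ _ (FibCat.inertia (FibCat.toSelf 𝒳)).p _ _ _ _ g κ k1), congrArg InertiaObj.Hom.hom k2⟩)

end Groth.Agent.S6404
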