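import Groth.Statements.S6405
import Groth.Agent.Lib.LFibCat2

set_option autoImplicit false
set_option backward.isDefEq.respectTransparency false
set_option backward.isDefEq.respectTransparency.types false
set_option linter.style.haveILetI false
open CategoryTheory
universe v u
open FibCat

namespace Groth.Agent.S6405

/-- (2) ⇒ (1): if `𝒳` is fibred in groupoids over `C` and the canonical functor `I_𝒳 ⟶ 𝒳` from its
inertia is an equivalence over `C`, then `𝒳` is fibred in setoids. (The published statement is an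
equivalence; this row states only that the inertia condition implies that `𝒳` is fibred in setoids.) -/
theorem result {C : Type u} [Category.{v} C] {𝒳 : BasedCategory.{v, max u v} C} (h𝒳 : FibCat.IsFibGrpd 𝒳.p)
    (h : FibCat.IsEquivOver (FibCat.inertiaToBase (FibCat.toSelf 𝒳))) : FibCat.IsFibSetoid 𝒳.p := by
  obtain ⟨hfull, -, -⟩ := H9Fib.full_of_isEquivOver h
  have key : ∀ {x : 𝒳.obj} (a : x ≅ x), 𝒳.p.map a.hom = 𝟙 _ → a.hom = 𝟙 x := fun {x} a ha => by
    let o1 : (FibCat.inertia (FibCat.toSelf 𝒳)).obj := ⟨x, Iso.refl x, 𝒳.p.map_id x⟩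
    let o2 : (FibCat.inertia (FibCat.toSelf 𝒳)).obj := ⟨x, a, ha⟩
    obtain ⟨k, hk⟩ := (FibCat.inertiaToBase (FibCat.toSelf 𝒳)).toFunctor.map_surjective (X := o1) (Y := o2) (𝟙 x)
    have hk' : k.hom = 𝟙 x := hk
    have := k.comm
    rw [hk'] at this
    simpa [o1, o2] using this.symm
  refine ⟨h𝒳, fun U a b => ⟨fun k l => ?_⟩⟩
  haveI : 𝒳.p.IsHomLift (𝟙 U) k.1 := k.2
  haveI : 𝒳.p.IsHomLift (𝟙 U) l.1 := l.2
  haveI := LFib.isIso_vertical h𝒳 (U := U) l.1
  have hp : 𝒳.p.map (k.1 ≫ inv l.1) = 𝟙 _ := by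
    have e1 := IsHomLift.fac' 𝒳.p (𝟙 U) k.1
    have e2 := IsHomLift.fac' 𝒳.p (𝟙 U) l.1
    rw [Functor.map_comp, Functor.map_inv, IsIso.comp_inv_eq, e1, e2]
    simp
  haveI := LFib.isIso_vertical h𝒳 (U := U) k.1
  have := key (asIso k.1 ≪≫ (asIso l.1).symm) hp
  apply Functor.Fiber.hom_ext
  exact ((IsIso.comp_inv_eq _).1 this).trans (Category.id_comp _)

end Groth.Agent.S6405
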