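import Groth.Statements.S6406
import Groth.Agent.Lib.LFibCat2

set_option autoImplicit false
set_option backward.isDefEq.respectTransparency false
set_option backward.isDefEq.respectTransparency.types false
set_option linter.style.haveILetI false
open CategoryTheory
universe v u
open FibCat

namespace Groth.Agent.S6406

/-- A category fibred in setoids over `C` admits an equivalence over `C` to a category fibred in sets
over `C`. (The target is taken in the same universes as the slices `C/U`; its morphism sets are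
essentially as small as those of `C`.) -/
theorem result {C : Type u} [Category.{v} C] {𝒳 : BasedCategory.{v, max u v} C} (h𝒳 : FibCat.IsFibSetoid 𝒳.p) :
    ∃ (𝒴 : BasedCategory.{v, max u v} C) (F : 𝒳 ⥤ᵇ 𝒴), FibCat.IsFibSet 𝒴.p ∧ FibCat.IsEquivOver F := by
  let st : Setoid 𝒳.obj :=
    { r := fun x y => ∃ e : x ≅ y, 𝒳.p.IsHomLift (𝟙 (𝒳.p.obj x)) e.hom
      iseqv := by
        refine ⟨fun x => ⟨Iso.refl x, IsHomLift.id rfl⟩, ?_, ?_⟩
        · rintro x y ⟨e, he⟩
          haveI := he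
          have hy := IsHomLift.codomain_eq 𝒳.p (𝟙 (𝒳.p.obj x)) e.hom
          exact ⟨e.symm, by rw [hy]; exact IsHomLift.lift_id_inv 𝒳.p (𝒳.p.obj x) e⟩
        · rintro x y z ⟨e, he⟩ ⟨e', he'⟩
          haveI := he
          have hy := IsHomLift.codomain_eq 𝒳.p (𝟙 (𝒳.p.obj x)) e.hom
          haveI : 𝒳.p.IsHomLift (𝟙 (𝒳.p.obj x)) e'.hom := hy ▸ he'
          exact ⟨e ≪≫ e', by rw [Iso.trans_hom]; infer_instance⟩ }
  let out : Quotient st → 𝒳.obj := Quotient.out
  let 𝒴 : BasedCategory.{v, max u v} C := BasedCategory.ofFunctor (inducedFunctor out ⋙ 𝒳.p)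
  let E : 𝒴 ⥤ᵇ 𝒳 := { toFunctor := inducedFunctor out, w := rfl }
  haveI : E.toFunctor.Full := inferInstanceAs (inducedFunctor out).Full
  haveI : E.toFunctor.Faithful := inferInstanceAs (inducedFunctor out).Faithful
  have hE : FibCat.IsEquivOver E := H9Fib.isEquivOver_of E inferInstance inferInstance fun η => by
    obtain ⟨e, he⟩ := Quotient.mk_out (s := st) η
    haveI := he
    have h : 𝒳.p.obj η = 𝒳.p.obj (out (Quotient.mk st η)) := IsHomLift.codomain_eq 𝒳.p (𝟙 (𝒳.p.obj (out (Quotient.mk st η)))) e.hom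
    exact ⟨Quotient.mk st η, e, by rw [h]; exact he⟩
  have hY : FibCat.IsFibGrpd 𝒴.p := LFib.isFibGrpd_of_equiv hE h𝒳.1
  refine ⟨𝒴, hE.choose, ⟨hY, fun U => ?_⟩, ⟨E, ⟨hE.choose_spec.2.some⟩, ⟨hE.choose_spec.1.some⟩⟩⟩
  haveI : ∀ a b : 𝒴.p.Fiber U, Subsingleton (a ⟶ b) := fun a b => ⟨fun k l => by
    haveI := h𝒳.2 U
    exact (LFib.fiber_faithful E inferInstance U).map_injective (Subsingleton.elim _ _)⟩
  refine { eq_of_hom := fun {a b} k => Subtype.ext ?_ }
  obtain ⟨a, ha⟩ := a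
  obtain ⟨b, hb⟩ := b
  have hk2 := k.2
  haveI := hk2
  haveI hk : 𝒳.p.IsHomLift (𝟙 U) (E.map k.1) := BasedFunctor.preserves_isHomLift E (𝟙 U) k.1
  haveI := LFib.isIso_vertical h𝒳.1 (U := U) (E.map k.1)
  have hrel : st.r (out a) (out b) := ⟨asIso (E.map k.1), by rw [show 𝒳.p.obj (out a) = U from ha]; exact hk⟩
  have := Quotient.sound hrel
  rwa [Quotient.out_eq, Quotient.out_eq] at this

end Groth.Agent.S6406
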