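import Groth.Statements.S6407
import Groth.Agent.Lib.LFibCat

set_option autoImplicit false
set_option backward.isDefEq.respectTransparency false
set_option backward.isDefEq.respectTransparency.types false
open CategoryTheory
universe v u
open FibCat

namespace Groth.Agent.S6407

/-- For categories `𝒳, 𝒴` fibred in setoids over `C` and functors `f, g : 𝒳 ⟶ 𝒴` over `C` that agree on
isomorphism classes of objects of each fibre category, there is a unique 2-isomorphism `f ≅ g` over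
`C`. -/
theorem result {C : Type u} [Category.{v} C] {𝒳 𝒴 : BasedCategory.{v, max u v} C} (h𝒳 : FibCat.IsFibSetoid 𝒳.p) (h𝒴 : FibCat.IsFibSetoid 𝒴.p) (f g : 𝒳 ⥤ᵇ 𝒴)
    (hfg : ∀ (U : C) (x : 𝒳.p.Fiber U), Nonempty ((FibCat.fiberFunctor f U).obj x ≅ (FibCat.fiberFunctor g U).obj x)) :
    Nonempty (Unique (f ≅ g)) := by
  have key : ∀ {V W : C} (u : V ⟶ W) {a b : 𝒴.obj} (s t : a ⟶ b), 𝒴.p.IsHomLift u s → 𝒴.p.IsHomLift u t → s = t :=
    fun u _ _ s t hs ht => @LFib.ext_thin _ _ _ _ _ h𝒴.1 _ _ (h𝒴.2 _) _ _ u s t hs ht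
  choose e he using fun x : 𝒳.obj => (⟨(hfg _ ⟨x, rfl⟩).some, trivial⟩ :
    ∃ _ : (FibCat.fiberFunctor f (𝒳.p.obj x)).obj ⟨x, rfl⟩ ≅ (FibCat.fiberFunctor g (𝒳.p.obj x)).obj ⟨x, rfl⟩, True)
  let η : f.toFunctor ≅ g.toFunctor := NatIso.ofComponents (fun x => Functor.Fiber.fiberInclusion.mapIso (e x)) (fun {x y} k => by
    haveI : 𝒴.p.IsHomLift (𝟙 (𝒳.p.obj y)) (Functor.Fiber.fiberInclusion.mapIso (e y)).hom := (e y).hom.2
    haveI : 𝒴.p.IsHomLift (𝟙 (𝒳.p.obj x)) (Functor.Fiber.fiberInclusion.mapIso (e x)).hom := (e x).hom.2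
    exact key (𝒳.p.map k) (f.map k ≫ _) (_ ≫ g.map k) inferInstance inferInstance)
  refine ⟨⟨⟨BasedNatIso.mkNatIso η (fun x => (e x).hom.2)⟩, fun i => ?_⟩⟩
  refine Iso.ext ?_
  ext x
  exact key (𝟙 (𝒳.p.obj x)) _ _ (i.hom.isHomLift rfl) (e x).hom.2

end Groth.Agent.S6407
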