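import Groth.Statements.S6408
import Groth.Agent.Lib.LFibCat

set_option autoImplicit false
set_option backward.isDefEq.respectTransparency false
set_option backward.isDefEq.respectTransparency.types false
open CategoryTheory
universe v u
open FibCat

namespace Groth.Agent.S6408

/-- Between categories fibred in sets over `C` the only 2-morphisms over `C` are identities. -/
theorem result {C : Type u} [Category.{v} C] {𝒳 𝒴 : BasedCategory.{v, max u v} C} (h𝒳 : FibCat.IsFibSet 𝒳.p) (h𝒴 : FibCat.IsFibSet 𝒴.p) {F G : 𝒳 ⥤ᵇ 𝒴} (α : F ⟶ G) :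
    ∃ h : F = G, α = eqToHom h := by
  have hobj : ∀ x, F.obj x = G.obj x := fun x => by
    haveI := h𝒴.2 (𝒳.p.obj x)
    have h1 : (FibCat.fiberFunctor F (𝒳.p.obj x)).obj ⟨x, rfl⟩ = (FibCat.fiberFunctor G (𝒳.p.obj x)).obj ⟨x, rfl⟩ :=
      IsDiscrete.eq_of_hom (Subtype.mk (α.toNatTrans.app x) (α.isHomLift rfl) :)
    exact congrArg Subtype.val h1
  have key : ∀ {V W : C} (u : V ⟶ W) {a b : 𝒴.obj} (s t : a ⟶ b), 𝒴.p.IsHomLift u s → 𝒴.p.IsHomLift u t → s = t :=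
    fun u _ _ s t hs ht => @LFib.ext_thin _ _ _ _ _ h𝒴.1 _ _ (fun a b => by haveI := h𝒴.2; infer_instance) _ _ u s t hs ht
  have hF : F = G := by
    obtain ⟨F', hFw⟩ := F
    obtain ⟨G', hGw⟩ := G
    have : F' = G' := CategoryTheory.Functor.ext hobj fun x y k => by
      haveI : 𝒴.p.IsHomLift (𝒳.p.map k) (F'.map k) := BasedFunctor.preserves_isHomLift (⟨F', hFw⟩ : 𝒳 ⥤ᵇ 𝒴) _ _
      haveI : 𝒴.p.IsHomLift (𝒳.p.map k) (G'.map k) := BasedFunctor.preserves_isHomLift (⟨G', hGw⟩ : 𝒳 ⥤ᵇ 𝒴) _ _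
      exact key (𝒳.p.map k) _ _ inferInstance inferInstance
    subst this; rfl
  subst hF
  refine ⟨rfl, ?_⟩
  ext x
  exact key (𝟙 (𝒳.p.obj x)) _ _ (α.isHomLift rfl) ((𝟙 F : F ⟶ F).isHomLift rfl)

end Groth.Agent.S6408
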