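import Groth.Statements.S6410
import Groth.Agent.Lib.LFibCat

set_option autoImplicit false
set_option backward.isDefEq.respectTransparency false
set_option backward.isDefEq.respectTransparency.types false
open CategoryTheory
universe v u
open FibCat

namespace Groth.Agent.S6410

variable {C : Type u} [Category.{v} C] {𝒳 : BasedCategory.{v, max u v} C}

open CategoryTheory.Functor

theorem over_lift {U : C} {o o' : Over U} (k : o ⟶ o') : (overCat U).p.IsStronglyCartesian k.left k := by
  refine { toIsHomLift := Functor.IsHomLift.map (p := Over.forget U) k, universal_property' := fun {z} g ψ hψ => ?_ }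
  have e : ψ.left = g ≫ k.left := by
    have := @IsHomLift.fac' _ _ _ _ (Over.forget U) _ _ _ _ (g ≫ k.left) ψ hψ
    simpa using this
  refine ⟨Over.homMk g (by rw [← Over.w k, ← Category.assoc, ← e]; exact Over.w ψ), ⟨?_, ?_⟩, ?_⟩
  · exact IsHomLift.of_fac _ _ _ rfl rfl (by simp; rfl)
  · apply Over.OverMorphism.ext; exact e.symm
  · rintro χ ⟨h1, -⟩
    apply Over.OverMorphism.ext
    have := @IsHomLift.fac' _ _ _ _ (Over.forget U) _ _ _ _ g χ h1
    simpa using this

theorem ff [𝒳.p.IsFibered] (U : C) :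
    ((ObjectProperty.ι (FibCat.PreservesStronglyCartesian (𝒳 := FibCat.overCat U) (𝒴 := 𝒳))) ⋙ FibCat.evalAtId 𝒳 U).IsEquivalence := by
  let tk : ∀ o : Over U, o ⟶ Over.mk (𝟙 U) := fun o => Over.homMk o.hom (by simp)
  have tk_nat : ∀ {o o' : Over U} (k : o ⟶ o'), k ≫ tk o' = tk o := fun {o o'} k => by ext; exact Over.w k
  have hsc : ∀ (H : overCat U ⥤ᵇ 𝒳), FibCat.PreservesStronglyCartesian H → ∀ o : Over U,
      𝒳.p.IsStronglyCartesian o.hom (H.map (tk o)) := fun H hH o => hH _ _ (over_lift (tk o))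
  refine { faithful := ⟨?_⟩, full := ⟨?_⟩, essSurj := ⟨?_⟩ }
  · intro G H a b e
    have e' : a.hom.toNatTrans.app (Over.mk (𝟙 U)) = b.hom.toNatTrans.app (Over.mk (𝟙 U)) := congrArg Subtype.val e
    refine ObjectProperty.hom_ext _ ?_
    ext o
    haveI := hsc H.obj H.property o
    haveI : 𝒳.p.IsHomLift (𝟙 o.left) (a.hom.toNatTrans.app o) := a.hom.isHomLift rfl
    haveI : 𝒳.p.IsHomLift (𝟙 o.left) (b.hom.toNatTrans.app o) := b.hom.isHomLift rfl
    refine IsStronglyCartesian.ext 𝒳.p o.hom (H.obj.map (tk o)) (g := 𝟙 o.left) ?_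
    rw [← a.hom.toNatTrans.naturality, ← b.hom.toNatTrans.naturality, e']
  · intro G H β
    haveI hβ : 𝒳.p.IsHomLift (𝟙 U) β.1 := β.2
    have hl : ∀ o : Over U, 𝒳.p.IsHomLift o.hom (G.obj.map (tk o) ≫ β.1) := fun o => by
      haveI : 𝒳.p.IsHomLift o.hom (G.obj.map (tk o)) := (hsc G.obj G.property o).toIsHomLift
      exact inferInstanceAs (𝒳.p.IsHomLift o.hom (G.obj.map (tk o) ≫ β.1))
    have hex : ∀ o : Over U, ∃ α : G.obj.obj o ⟶ H.obj.obj o, 𝒳.p.IsHomLift (𝟙 o.left) α ∧ α ≫ H.obj.map (tk o) = G.obj.map (tk o) ≫ β.1 := fun o => by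
      haveI := hsc H.obj H.property o
      haveI := hl o
      exact (IsStronglyCartesian.universal_property 𝒳.p o.hom (H.obj.map (tk o)) (𝟙 o.left) o.hom (Category.id_comp _).symm _).exists
    choose α hα hfac using hex
    let η : G.obj.toFunctor ⟶ H.obj.toFunctor :=
      { app := α
        naturality := fun o o' k => by
          haveI := hsc H.obj H.property o'
          haveI := hα o
          haveI := hα o'
          haveI : 𝒳.p.IsHomLift k.left (G.obj.map k) := (G.property _ _ (over_lift k)).toIsHomLift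
          haveI : 𝒳.p.IsHomLift k.left (H.obj.map k) := (H.property _ _ (over_lift k)).toIsHomLift
          refine IsStronglyCartesian.ext 𝒳.p o'.hom (H.obj.map (tk o')) (g := k.left) ?_
          rw [Category.assoc, Category.assoc, hfac, ← H.obj.toFunctor.map_comp, tk_nat, hfac, ← Category.assoc, ← G.obj.toFunctor.map_comp, tk_nat] }
    refine ⟨ObjectProperty.homMk ⟨η, fun o => hα o⟩, Functor.Fiber.hom_ext ?_⟩
    show α (Over.mk (𝟙 U)) = β.1
    have := hfac (Over.mk (𝟙 U))
    have ht : tk (Over.mk (𝟙 U)) = 𝟙 _ := by ext; rfl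
    rw [ht, G.obj.toFunctor.map_id, H.obj.toFunctor.map_id, Category.comp_id, Category.id_comp] at this
    exact this
  · rintro ⟨x, hx⟩
    have hlift : ∀ o : Over U, ∃ (y : 𝒳.obj) (φ : y ⟶ x), 𝒳.p.IsStronglyCartesian o.hom φ := fun o => by
      obtain ⟨y, φ, hφ⟩ := IsPreFibered.exists_isCartesian 𝒳.p hx o.hom
      exact ⟨y, φ, inferInstance⟩
    choose y φ hφ using hlift
    have hy : ∀ o : Over U, 𝒳.p.obj (y o) = o.left := fun o => @IsHomLift.domain_eq _ _ _ _ 𝒳.p _ _ _ _ o.hom (φ o) (hφ o).toIsHomLift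
    have hmap : ∀ {o o' : Over U} (k : o ⟶ o'), ∃! m : y o ⟶ y o', 𝒳.p.IsHomLift k.left m ∧ m ≫ φ o' = φ o := fun {o o'} k => by
      haveI := hφ o; haveI := hφ o'
      exact IsStronglyCartesian.universal_property 𝒳.p o'.hom (φ o') k.left o.hom (Over.w k).symm (φ o)
    choose m hm hmu using fun o o' k => hmap (o := o) (o' := o') k
    let G0 : Over U ⥤ 𝒳.obj :=
      { obj := y
        map := fun {o o'} k => m o o' k
        map_id := fun o => (hmu o o (𝟙 o) (𝟙 _) ⟨IsHomLift.id (hy o), Category.id_comp _⟩).symm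
        map_comp := fun {a b c} k l => (hmu a c (k ≫ l) _ ⟨by
            haveI := (hm a b k).1; haveI := (hm b c l).1
            exact (inferInstance : 𝒳.p.IsHomLift (k.left ≫ l.left) (m a b k ≫ m b c l)), by rw [Category.assoc, (hm b c l).2, (hm a b k).2]⟩).symm }
    let G : overCat U ⥤ᵇ 𝒳 :=
      { toFunctor := G0
        w := CategoryTheory.Functor.ext hy fun o o' k => by
          haveI := (hm o o' k).1
          exact IsHomLift.fac' 𝒳.p k.left (m o o' k) }
    have hG : FibCat.PreservesStronglyCartesian G := by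
      intro R S f o o' k hk
      haveI : (Over.forget U).IsHomLift f k := hk.toIsHomLift
      subst_hom_lift (Over.forget U) f k
      show 𝒳.p.IsStronglyCartesian k.left (m o o' k)
      haveI := (hm o o' k).1
      haveI := hφ o'
      haveI : 𝒳.p.IsStronglyCartesian (k.left ≫ o'.hom) (m o o' k ≫ φ o') := by
        rw [(hm o o' k).2, Over.w k]; exact hφ o
      exact IsStronglyCartesian.of_comp (p := 𝒳.p) (g := o'.hom) (ψ := φ o')
    haveI h1 := hφ (Over.mk (𝟙 U))
    haveI : 𝒳.p.IsStronglyCartesian (𝟙 U) (φ (Over.mk (𝟙 U))) := h1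
    haveI : IsIso (φ (Over.mk (𝟙 U))) := IsStronglyCartesian.isIso_of_base_isIso 𝒳.p (𝟙 U) (φ (Over.mk (𝟙 U)))
    let k0 : (FibCat.evalAtId 𝒳 U).obj G ⟶ ⟨x, hx⟩ := Subtype.mk (φ (Over.mk (𝟙 U))) h1.toIsHomLift
    haveI : IsIso k0 := (LFib.isIso_fiber_iff k0).2 inferInstance
    exact ⟨⟨G, hG⟩, ⟨asIso k0⟩⟩

/-- For `𝒳` fibred over `C`, evaluation at `𝟙_U` restricted to the functors `C/U ⟶ 𝒳` over `C` that
preserve strongly cartesian morphisms is an equivalence of categories onto the fibre category `𝒳_U`. -/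
theorem result {C : Type u} [Category.{v} C] {𝒳 : BasedCategory.{v, max u v} C} [𝒳.p.IsFibered] (U : C) :
    ((ObjectProperty.ι (FibCat.PreservesStronglyCartesian (𝒳 := FibCat.overCat U) (𝒴 := 𝒳))) ⋙ FibCat.evalAtId 𝒳 U).IsEquivalence := by
  exact ff U

end Groth.Agent.S6410
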