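import Groth.Statements.S6419
import Groth.Agent.Lib.LFibCat

set_option autoImplicit false
set_option backward.isDefEq.respectTransparency false
set_option backward.isDefEq.respectTransparency.types false
open CategoryTheory
universe v₁ u₁ v₂ u₂
open FibCat

namespace Groth.Agent.S6419

/-- If `p' : 𝒮 ⥤ C/U` composed with the forgetful functor `C/U ⥤ C` is fibred in groupoids, then so is
`p'`. -/
theorem result {𝒮 : Type u₁} [Category.{v₁} 𝒮] {C : Type u₂} [Category.{v₂} C] {U : C} (p' : 𝒮 ⥤ Over U) (h : FibCat.IsFibGrpd (p' ⋙ Over.forget U)) : FibCat.IsFibGrpd p' := by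
  refine { exists_lift := fun {x V} f => ?_, isStronglyCartesian := fun {y x} φ => ?_ }
  · obtain ⟨y, φ, hφ⟩ := h.exists_lift (x := x) f.left
    have hy : (p'.obj y).left = V.left := @IsHomLift.domain_eq _ _ _ _ (p' ⋙ Over.forget U) _ _ _ _ f.left φ hφ
    have hmap : (p'.map φ).left = eqToHom hy ≫ f.left := by
      have := @IsHomLift.fac' _ _ _ _ (p' ⋙ Over.forget U) _ _ _ _ f.left φ hφ
      simpa using this
    have hobj : p'.obj y = V := H5Cat.over_obj_ext _ _ hy (by rw [← Over.w (p'.map φ), hmap, Category.assoc, Over.w f])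
    refine ⟨y, φ, IsHomLift.of_fac' _ _ _ hobj rfl ?_⟩
    apply Over.OverMorphism.ext
    rw [hmap]
    simp
  · refine { universal_property' := fun {z} g ψ hψ => ?_ }
    have e := @IsHomLift.fac' _ _ _ _ p' _ _ _ _ (g ≫ p'.map φ) ψ hψ
    haveI := h.isStronglyCartesian φ
    haveI : (p' ⋙ Over.forget U).IsHomLift (g.left ≫ (p'.map φ).left) ψ :=
      IsHomLift.of_fac' _ _ _ rfl rfl (by simp [e])
    obtain ⟨χ, ⟨h1, h2⟩, hu⟩ := Functor.IsStronglyCartesian.universal_property (p' ⋙ Over.forget U) ((p' ⋙ Over.forget U).map φ) φ g.left (g.left ≫ (p'.map φ).left) rfl ψ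
    refine ⟨χ, ⟨IsHomLift.of_fac' _ _ _ rfl rfl ?_, h2⟩, ?_⟩
    · apply Over.OverMorphism.ext
      have := @IsHomLift.fac' _ _ _ _ (p' ⋙ Over.forget U) _ _ _ _ g.left χ h1
      simpa using this
    · rintro χ' ⟨k1, k2⟩
      have := @IsHomLift.fac' _ _ _ _ p' _ _ _ _ g χ' k1
      exact hu _ ⟨IsHomLift.of_fac' _ _ _ rfl rfl (by simp [this]), k2⟩

end Groth.Agent.S6419
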