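import Groth.Statements.S6413
import Groth.Agent.Lib.LFibCat2

set_option autoImplicit false
set_option backward.isDefEq.respectTransparency false
set_option backward.isDefEq.respectTransparency.types false
set_option linter.style.haveILetI false
open CategoryTheory
universe v u
open FibCat

namespace Groth.Agent.S6413

/-- For `𝒳, 𝒴` fibred in groupoids over `C` and `F : 𝒳 ⟶ 𝒴` over `C`, the projection `𝒳 ×_{F, 𝒴, id} 𝒴 ⟶
𝒴` is a category fibred in groupoids over `𝒴`. -/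
theorem result {C : Type u} [Category.{v} C] {𝒳 𝒴 : BasedCategory.{v, max u v} C} (h𝒳 : FibCat.IsFibGrpd 𝒳.p) (h𝒴 : FibCat.IsFibGrpd 𝒴.p) (F : 𝒳 ⥤ᵇ 𝒴) :
    FibCat.IsFibGrpd (FibCat.fpSnd F (BasedFunctor.id 𝒴)).toFunctor := by
  refine { exists_lift := fun {w V} g => ?_, isStronglyCartesian := fun {y x} φ => ?_ }
  · obtain ⟨⟨a, b, i⟩, hi⟩ := w
    change V ⟶ b at g
    haveI hi' : 𝒴.p.IsHomLift (𝟙 (𝒳.p.obj a)) i.hom := hi
    have hb : 𝒴.p.obj b = 𝒳.p.obj a := IsHomLift.codomain_eq 𝒴.p (𝟙 (𝒳.p.obj a)) i.hom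
    obtain ⟨a', α, hα⟩ := h𝒳.exists_lift (x := a) (V := 𝒴.p.obj V) (𝒴.p.map g ≫ eqToHom hb)
    haveI := hα
    haveI l1 : 𝒴.p.IsHomLift (𝒴.p.map g ≫ eqToHom hb) g := inferInstance
    haveI := LFib.sc h𝒴 (𝒴.p.map g ≫ eqToHom hb) g
    haveI : 𝒴.p.IsHomLift (𝒴.p.map g ≫ eqToHom hb) (F.map α ≫ i.hom) := by
      simpa using (inferInstance : 𝒴.p.IsHomLift ((𝒴.p.map g ≫ eqToHom hb) ≫ 𝟙 (𝒳.p.obj a)) (F.map α ≫ i.hom))
    let χ : F.obj a' ⟶ V := CategoryTheory.Functor.IsStronglyCartesian.map 𝒴.p (𝒴.p.map g ≫ eqToHom hb) g (g := 𝟙 (𝒴.p.obj V)) (Category.id_comp _).symm (F.map α ≫ i.hom)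
    have hχ : 𝒴.p.IsHomLift (𝟙 (𝒴.p.obj V)) χ := CategoryTheory.Functor.IsStronglyCartesian.map_isHomLift 𝒴.p (𝒴.p.map g ≫ eqToHom hb) g (g := 𝟙 (𝒴.p.obj V)) (Category.id_comp _).symm (F.map α ≫ i.hom)
    haveI := hχ
    haveI : IsIso χ := LFib.isIso_vertical h𝒴 (U := 𝒴.p.obj V) χ
    have ha : 𝒳.p.obj a' = 𝒴.p.obj V := IsHomLift.domain_eq 𝒳.p (𝒴.p.map g ≫ eqToHom hb) α
    refine ⟨⟨{ fst := a', snd := V, iso := asIso χ }, by show 𝒴.p.IsHomLift (𝟙 (𝒳.p.obj a')) χ; rw [ha]; exact hχ⟩,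
      ObjectProperty.homMk { fst := α, snd := g, w := ?_ }, ?_⟩
    · exact (CategoryTheory.Functor.IsStronglyCartesian.fac 𝒴.p (𝒴.p.map g ≫ eqToHom hb) g (g := 𝟙 (𝒴.p.obj V)) (Category.id_comp _).symm (F.map α ≫ i.hom)).symm
    · exact IsHomLift.of_fac' _ _ _ rfl rfl (by simp; rfl)
  · refine { universal_property' := fun {z} g ψ hψ => ?_ }
    haveI := h𝒳.isStronglyCartesian φ.hom.fst
    have eψ : ψ.hom.snd = g ≫ φ.hom.snd :=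
      (@IsHomLift.eq_of_isHomLift _ _ _ _ (FibCat.fpSnd F (BasedFunctor.id 𝒴)).toFunctor _ _ (g ≫ φ.hom.snd) ψ hψ).symm
    have wφ : F.map φ.hom.fst ≫ x.obj.iso.hom = y.obj.iso.hom ≫ φ.hom.snd := φ.hom.w
    have wψ : F.map ψ.hom.fst ≫ x.obj.iso.hom = z.obj.iso.hom ≫ ψ.hom.snd := ψ.hom.w
    let m : F.obj z.obj.fst ⟶ F.obj y.obj.fst := z.obj.iso.hom ≫ g ≫ y.obj.iso.inv
    have hm : m ≫ F.map φ.hom.fst = F.map ψ.hom.fst := by
      rw [← cancel_mono x.obj.iso.hom, wψ, Category.assoc, wφ, eψ]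
      simp [m]
    let u : 𝒳.p.obj z.obj.fst ⟶ 𝒳.p.obj y.obj.fst := eqToHom (F.w_obj _).symm ≫ 𝒴.p.map m ≫ eqToHom (F.w_obj _)
    haveI lm : 𝒴.p.IsHomLift u m := IsHomLift.of_fac _ _ _ (F.w_obj _) (F.w_obj _) rfl
    haveI : 𝒴.p.IsHomLift (u ≫ 𝒳.p.map φ.hom.fst) (F.map ψ.hom.fst) := by rw [← hm]; infer_instance
    haveI : 𝒳.p.IsHomLift (u ≫ 𝒳.p.map φ.hom.fst) ψ.hom.fst := BasedFunctor.isHomLift_map F _ _
    obtain ⟨χ, ⟨h1, h2⟩, hu⟩ := CategoryTheory.Functor.IsStronglyCartesian.universal_property 𝒳.p (𝒳.p.map φ.hom.fst) φ.hom.fst u _ rfl ψ.hom.fst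
    haveI := h1
    have hFχ : F.map χ = m := by
      haveI := LFib.sc h𝒴 (𝒳.p.map φ.hom.fst) (F.map φ.hom.fst)
      refine CategoryTheory.Functor.IsStronglyCartesian.ext 𝒴.p (𝒳.p.map φ.hom.fst) (F.map φ.hom.fst) (g := u) ?_
      rw [hm, ← h2, F.toFunctor.map_comp]
    refine ⟨ObjectProperty.homMk { fst := χ, snd := g, w := ?_ }, ⟨?_, ?_⟩, ?_⟩
    · show F.map χ ≫ y.obj.iso.hom = z.obj.iso.hom ≫ g
      rw [hFχ]; simp [m]
    · exact IsHomLift.of_fac' _ _ _ rfl rfl (by simp; rfl)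
    · exact ObjectProperty.hom_ext _ (Limits.CategoricalPullback.hom_ext h2 eψ.symm)
    · rintro κ ⟨k1, k2⟩
      have es : κ.hom.snd = g := (@IsHomLift.eq_of_isHomLift _ _ _ _ (FibCat.fpSnd F (BasedFunctor.id 𝒴)).toFunctor _ _ g κ k1).symm
      refine ObjectProperty.hom_ext _ (Limits.CategoricalPullback.hom_ext ?_ es)
      have wκ : F.map κ.hom.fst ≫ y.obj.iso.hom = z.obj.iso.hom ≫ κ.hom.snd := κ.hom.w
      have hmκ : F.map κ.hom.fst = m := by rw [← cancel_mono y.obj.iso.hom, wκ, es]; simp [m]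
      haveI : 𝒴.p.IsHomLift u (F.map κ.hom.fst) := hmκ ▸ lm
      exact hu _ ⟨BasedFunctor.isHomLift_map F _ _, congrArg (fun q : z ⟶ x => q.hom.fst) k2⟩

end Groth.Agent.S6413
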