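import Groth.Statements.S6417
import Mathlib

set_option autoImplicit false
open CategoryTheory CategoryTheory.Limits
universe v₁ u₁ v₂ u₂
open FibCat

namespace Groth.Agent.S6417

/-- For `p : 𝒮 ⥤ C`, a strongly cartesian `φ : x ⟶ y`, any `ψ : z ⟶ y`, and a strongly cartesian `a : w
⟶ z` lying over the second projection of `p x ×_{p y} p z`, the object `w` is a fibre product `x ×_y
z`: there is `b : w ⟶ x` over the first projection with `(b, a)` a pullback square. -/
theorem result {𝒮 : Type u₁} [Category.{v₁} 𝒮] {C : Type u₂} [Category.{v₂} C] (p : 𝒮 ⥤ C) {x y z w : 𝒮} (φ : x ⟶ y) (ψ : z ⟶ y)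
    [p.IsStronglyCartesian (p.map φ) φ] [HasPullback (p.map φ) (p.map ψ)] (a : w ⟶ z)
    [p.IsStronglyCartesian (pullback.snd (p.map φ) (p.map ψ)) a] :
    ∃ b : w ⟶ x, p.IsHomLift (pullback.fst (p.map φ) (p.map ψ)) b ∧ IsPullback b a φ ψ := by
  have hP : IsPullback (pullback.fst (p.map φ) (p.map ψ)) (pullback.snd (p.map φ) (p.map ψ)) (p.map φ) (p.map ψ) :=
    IsPullback.of_hasPullback _ _
  have hscA : p.IsStronglyCartesian (pullback.snd (p.map φ) (p.map ψ)) a := inferInstance
  have hd : p.obj w = pullback (p.map φ) (p.map ψ) := IsHomLift.domain_eq p (pullback.snd (p.map φ) (p.map ψ)) a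
  suffices H : ∀ (P : C) (f : P ⟶ p.obj x) (g : P ⟶ p.obj z), IsPullback f g (p.map φ) (p.map ψ) →
      p.IsStronglyCartesian g a → p.obj w = P → ∃ b : w ⟶ x, p.IsHomLift f b ∧ IsPullback b a φ ψ from
    H _ _ _ hP hscA hd
  intro P f g hsq hA hP'
  subst hP'
  haveI := hA
  have hga : g = p.map a := IsHomLift.eq_of_isHomLift p g a
  haveI : p.IsHomLift (f ≫ p.map φ) (a ≫ ψ) := by
    rw [hsq.w, hga, ← Functor.map_comp]; infer_instance
  obtain ⟨b, ⟨hb, hbφ⟩, -⟩ := Functor.IsStronglyCartesian.universal_property p (p.map φ) φ f _ rfl (a ≫ ψ)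
  have hfb : f = p.map b := @IsHomLift.eq_of_isHomLift _ _ _ _ p _ _ f b hb
  refine ⟨b, hb, IsPullback.of_isLimit (PullbackCone.IsLimit.mk hbφ
    (fun s => Functor.IsStronglyCartesian.map p g a (g := hsq.lift (p.map s.fst) (p.map s.snd) (by rw [← Functor.map_comp, ← Functor.map_comp, s.condition]))
      (f' := p.map s.snd) (by simp) s.snd) ?_ ?_ ?_)⟩
  · intro s
    haveI := hb
    have hl : hsq.lift (p.map s.fst) (p.map s.snd) (by rw [← Functor.map_comp, ← Functor.map_comp, s.condition]) ≫ f = p.map s.fst := hsq.lift_fst _ _ _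
    set χ := Functor.IsStronglyCartesian.map p g a (g := hsq.lift (p.map s.fst) (p.map s.snd) (by rw [← Functor.map_comp, ← Functor.map_comp, s.condition]))
      (f' := p.map s.snd) (by simp) s.snd with hχ
    haveI : p.IsHomLift (p.map s.fst) (χ ≫ b) := by rw [← hl]; infer_instance
    haveI : p.IsHomLift (p.map s.fst) s.fst := inferInstance
    refine Functor.IsStronglyCartesian.ext p (p.map φ) φ (g := p.map s.fst) ?_
    rw [Category.assoc, hbφ, hχ, Functor.IsStronglyCartesian.fac_assoc, s.condition]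
  · intro s; exact Functor.IsStronglyCartesian.fac p g a _ _
  · intro s m h1 h2
    refine @Functor.IsStronglyCartesian.map_uniq _ _ _ _ p _ _ _ _ g a _ _ _ _ _ _ s.snd _ m ?_ h2
    have : hsq.lift (p.map s.fst) (p.map s.snd) (by rw [← Functor.map_comp, ← Functor.map_comp, s.condition]) = p.map m := by
      apply hsq.hom_ext
      · rw [hsq.lift_fst, ← h1, hfb, Functor.map_comp]
      · rw [hsq.lift_snd, ← h2, hga, Functor.map_comp]
    rw [this]; infer_instance

end Groth.Agent.S6417
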