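import Groth.Statements.S6421
import Mathlib

set_option autoImplicit false
set_option backward.isDefEq.respectTransparency false
set_option backward.isDefEq.respectTransparency.types false
open CategoryTheory CategoryTheory.Limits
universe v u
open FibCat

namespace Groth.Agent.S6421

theorem map_iso {X Y Z A B C : Type u} [Category.{v} X] [Category.{v} Y] [Category.{v} Z] [Category.{v} A] [Category.{v} B] [Category.{v} C] {H : X ⥤ Z} {I : Y ⥤ Z} {F : A ⥤ C} {G : B ⥤ C} (ψ : CatCospanTransform H I F G) (x : CategoricalPullback H I) :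
    ((FibCat.categoricalPullbackMap ψ).obj x).iso.hom =
      ψ.squareLeft.iso.inv.app x.fst ≫ ψ.base.map x.iso.hom ≫ ψ.squareRight.iso.hom.app x.snd := by
  simp [FibCat.categoricalPullbackMap, CategoricalPullback.toCatCommSqOver]
  rfl

/-- For a 2-commutative morphism of cospans of categories whose outer functors `X ⥤ A`, `Y ⥤ B` are
fully faithful and whose middle functor `Z ⥤ C` is faithful, the induced functor `X ×_Z Y ⥤ A ×_C B`
is fully faithful. -/
theorem result {X Y Z A B C : Type u} [Category.{v} X] [Category.{v} Y] [Category.{v} Z] [Category.{v} A] [Category.{v} B] [Category.{v} C] {H : X ⥤ Z} {I : Y ⥤ Z} {F : A ⥤ C} {G : B ⥤ C} (ψ : CatCospanTransform H I F G) [ψ.left.Full] [ψ.left.Faithful] [ψ.right.Full] [ψ.right.Faithful] [ψ.base.Faithful] :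
    (FibCat.categoricalPullbackMap ψ).Full ∧ (FibCat.categoricalPullbackMap ψ).Faithful := by
  refine ⟨⟨fun {x y} k => ?_⟩, ⟨fun {x y} {a b} e => ?_⟩⟩
  · obtain ⟨f, hf⟩ := ψ.left.map_surjective k.fst
    obtain ⟨g, hg⟩ := ψ.right.map_surjective k.snd
    have hw : H.map f ≫ y.iso.hom = x.iso.hom ≫ I.map g := by
      apply ψ.base.map_injective
      have w := k.w
      rw [← hf, ← hg, map_iso, map_iso] at w
      have n1 : F.map (ψ.left.map f) ≫ ψ.squareLeft.iso.inv.app y.fst = ψ.squareLeft.iso.inv.app x.fst ≫ ψ.base.map (H.map f) :=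
        ψ.squareLeft.iso.inv.naturality f
      have n2 : ψ.base.map (I.map g) ≫ ψ.squareRight.iso.hom.app y.snd = ψ.squareRight.iso.hom.app x.snd ≫ G.map (ψ.right.map g) :=
        ψ.squareRight.iso.hom.naturality g
      erw [← Category.assoc, n1, Category.assoc, Category.assoc, Category.assoc, ← n2] at w
      rw [cancel_epi] at w
      rw [← Category.assoc, ← Category.assoc] at w
      erw [cancel_mono] at w
      rw [Functor.map_comp, Functor.map_comp]
      exact w
    exact ⟨⟨f, g, hw⟩, CategoricalPullback.hom_ext hf hg⟩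
  · apply CategoricalPullback.hom_ext
    · exact ψ.left.map_injective (congrArg CategoricalPullback.Hom.fst e)
    · exact ψ.right.map_injective (congrArg CategoricalPullback.Hom.snd e)

end Groth.Agent.S6421
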