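import Groth.Statements.S6422
import Groth.Agent.S6421

set_option autoImplicit false
set_option backward.isDefEq.respectTransparency false
set_option backward.isDefEq.respectTransparency.types false
open CategoryTheory CategoryTheory.Limits
universe v u
open FibCat

namespace Groth.Agent.S6422

/-- For a 2-commutative morphism of cospans of categories whose outer functors `X ⥤ A`, `Y ⥤ B` are
equivalences and whose middle functor `Z ⥤ C` is fully faithful, the induced functor `X ×_Z Y ⥤ A
×_C B` is an equivalence of categories. -/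
theorem result {X Y Z A B C : Type u} [Category.{v} X] [Category.{v} Y] [Category.{v} Z] [Category.{v} A] [Category.{v} B] [Category.{v} C] {H : X ⥤ Z} {I : Y ⥤ Z} {F : A ⥤ C} {G : B ⥤ C} (ψ : CatCospanTransform H I F G) [ψ.left.IsEquivalence] [ψ.right.IsEquivalence] [ψ.base.Full] [ψ.base.Faithful] :
    (FibCat.categoricalPullbackMap ψ).IsEquivalence := by
  obtain ⟨hfull, hfaith⟩ := S6421.result ψ
  haveI := hfull; haveI := hfaith
  refine { essSurj := ⟨fun w => ?_⟩ }
  let a := ψ.left.objPreimage w.fst
  let b := ψ.right.objPreimage w.snd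
  let ea := ψ.left.objObjPreimageIso w.fst
  let eb := ψ.right.objObjPreimageIso w.snd
  let z : H.obj a ≅ I.obj b := ψ.base.preimageIso (ψ.squareLeft.iso.app a ≪≫ F.mapIso ea ≪≫ w.iso ≪≫ (G.mapIso eb).symm ≪≫ (ψ.squareRight.iso.app b).symm)
  refine ⟨⟨a, b, z⟩, ⟨CategoricalPullback.mkIso ea eb ?_⟩⟩
  rw [S6421.map_iso]
  simp [z]
  erw [Category.id_comp, ← G.map_comp, Iso.inv_hom_id, G.map_id, Category.comp_id]

end Groth.Agent.S6422
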