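import Groth.Statements.S6423
import Mathlib

set_option autoImplicit false
open CategoryTheory CategoryTheory.Limits
universe v u
open CatLim

namespace Groth.Agent.S6423

structure Pre {J : Type} [SmallCategory J] {C : Type u} [Category.{v} C] (F : J ⥤ C) (S : Set J)
    (E : Set (Σ a b : J, a ⟶ b)) where
  P : C
  π : ∀ j ∈ S, P ⟶ F.obj j
  comm : ∀ e ∈ E, ∀ (h₁ : e.1 ∈ S) (h₂ : e.2.1 ∈ S), π e.1 h₁ ≫ F.map e.2.2 = π e.2.1 h₂
  lift : ∀ s : Cone F, ∃ l : s.pt ⟶ P, ∀ j (h : j ∈ S), l ≫ π j h = s.π.app j
  mono : ∀ {T : C} (l l' : T ⟶ P), (∀ j (h : j ∈ S), l ≫ π j h = l' ≫ π j h) → l = l'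

theorem hasLimit_of {J : Type} [SmallCategory J] [FinCategory J] [IsConnected J] {C : Type u} [Category.{v} C]
    [HasEqualizers C] [HasPullbacks C] (F : J ⥤ C) : HasLimit F := by
  classical
  obtain ⟨j₀⟩ := (inferInstance : Nonempty J)
  have h0 : Nonempty (Pre F {j₀} ∅) := ⟨⟨F.obj j₀, fun j h => eqToHom (by rw [Set.mem_singleton_iff.1 h]), fun e he => he.elim,
    fun s => ⟨s.π.app j₀, fun j h => by obtain rfl := Set.mem_singleton_iff.1 h; simp⟩,
    fun l l' h => by simpa using h j₀ rfl⟩⟩
  have hfwd : ∀ (S : Set J) (j k : J) (a : j ⟶ k), j ∈ S → k ∉ S → Nonempty (Pre F S ∅) → Nonempty (Pre F (insert k S) ∅) := by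
    rintro S j k a hj hk ⟨X⟩
    refine ⟨⟨X.P, fun i h => if hi : i = k then X.π j hj ≫ F.map a ≫ eqToHom (by rw [hi]) else X.π i (h.resolve_left hi), fun e he => he.elim,
      fun s => ?_, fun l l' h => X.mono l l' fun i hi => ?_⟩⟩
    · obtain ⟨l, hl⟩ := X.lift s
      refine ⟨l, fun i h => ?_⟩
      split_ifs with hi
      · subst hi
        rw [← Category.assoc, hl j hj, eqToHom_refl, Category.comp_id]
        exact s.w a
      · exact hl i _
    · have := h i (Or.inr hi)
      have hne : i ≠ k := fun e => hk (e ▸ hi)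
      simpa [dif_neg hne] using this
  have hbwd : ∀ (S : Set J) (j k : J) (a : k ⟶ j), j ∈ S → k ∉ S → Nonempty (Pre F S ∅) → Nonempty (Pre F (insert k S) ∅) := by
    rintro S j k a hj hk ⟨X⟩
    refine ⟨⟨pullback (X.π j hj) (F.map a), fun i h => if hi : i = k then pullback.snd _ _ ≫ eqToHom (by rw [hi]) else pullback.fst _ _ ≫ X.π i (h.resolve_left hi), fun e he => he.elim,
      fun s => ?_, fun l l' h => ?_⟩⟩
    · obtain ⟨l, hl⟩ := X.lift s
      refine ⟨pullback.lift l (s.π.app k) (by rw [hl j hj]; exact (s.w a).symm), fun i h => ?_⟩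
      split_ifs with hi
      · subst hi; simp only [eqToHom_refl, Category.comp_id]; exact pullback.lift_snd _ _ _
      · rw [pullback.lift_fst_assoc]; exact hl i _
    · refine pullback.hom_ext (X.mono _ _ fun i hi => ?_) ?_
      · have hne : i ≠ k := fun e => hk (e ▸ hi)
        simpa [dif_neg hne] using h i (Or.inr hi)
      · simpa using h k (Or.inl rfl)
  have htop : Nonempty (Pre F Set.univ ∅) := by
    have hex : ∀ n : ℕ, n ≤ Fintype.card J → ∀ S : Finset J, S.card + n = Fintype.card J → j₀ ∈ S → Nonempty (Pre F (S : Set J) ∅) → Nonempty (Pre F Set.univ ∅) := by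
      intro n
      induction n with
      | zero =>
        intro _ S hS _ hX
        rw [Nat.add_zero] at hS
        rwa [Finset.eq_univ_of_card S hS, Finset.coe_univ] at hX
      | succ n ih =>
        intro hn S hS hj hX
        have hedge : ∃ j k : J, j ∈ S ∧ k ∉ S ∧ (Nonempty (j ⟶ k) ∨ Nonempty (k ⟶ j)) := by
          by_contra hcon
          push Not at hcon
          have hall : ∀ i, i ∈ (S : Set J) := induct_on_objects (S : Set J) (Finset.mem_coe.2 hj) fun {i₁ i₂} f => by
            constructor <;> intro hi <;> by_contra hni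
            · exact (hcon _ _ hi hni).1.false f
            · exact (hcon _ _ hi hni).2.false f
          have : S = Finset.univ := Finset.eq_univ_iff_forall.2 hall
          rw [this, Finset.card_univ] at hS
          omega
        obtain ⟨j, k, hjS, hkS, hh⟩ := hedge
        refine ih (by omega) (insert k S) (by rw [Finset.card_insert_of_notMem hkS]; omega) (Finset.mem_insert_of_mem hj) ?_
        rw [Finset.coe_insert]
        rcases hh with ⟨⟨a⟩⟩ | ⟨⟨a⟩⟩
        · exact hfwd _ j k a hjS hkS hX
        · exact hbwd _ j k a hjS hkS hX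
    refine hex (Fintype.card J - 1) (Nat.sub_le _ _) {j₀} ?_ (Finset.mem_singleton_self _) (by rwa [Finset.coe_singleton])
    have := Fintype.card_pos_iff.2 ⟨j₀⟩
    simp only [Finset.card_singleton]; omega
  have hall : ∀ E : Finset (Σ a b : J, a ⟶ b), Nonempty (Pre F Set.univ (E : Set (Σ a b : J, a ⟶ b))) := by
    intro E
    induction E using Finset.induction with
    | empty => simpa using htop
    | insert e E he ih =>
      obtain ⟨X⟩ := ih
      refine ⟨⟨equalizer (X.π e.1 (Set.mem_univ _) ≫ F.map e.2.2) (X.π e.2.1 (Set.mem_univ _)), fun j h => equalizer.ι _ _ ≫ X.π j h, ?_, fun s => ?_, fun l l' h => ?_⟩⟩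
      · intro e' he' h₁ h₂
        rw [Finset.coe_insert] at he'
        rcases he' with rfl | he'
        · rw [Category.assoc]; exact equalizer.condition _ _
        · rw [Category.assoc, X.comm e' he' h₁ h₂]
      · obtain ⟨l, hl⟩ := X.lift s
        refine ⟨equalizer.lift l ?_, fun j h => ?_⟩
        · rw [← Category.assoc, hl, hl]; exact s.w e.2.2
        · rw [← Category.assoc, equalizer.lift_ι]; exact hl j h
      · exact equalizer.hom_ext (X.mono _ _ fun j hj => by simpa using h j hj)
  obtain ⟨X⟩ := hall Finset.univ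
  let c : Cone F :=
    { pt := X.P
      π := { app := fun j => X.π j (Set.mem_univ _)
             naturality := fun a b f => by simpa using (X.comm ⟨a, b, f⟩ (Finset.mem_coe.2 (Finset.mem_univ _)) (Set.mem_univ _) (Set.mem_univ _)).symm } }
  choose l hl using X.lift
  exact ⟨⟨⟨c, ⟨l, fun s j => hl s j (Set.mem_univ _), fun s m hm => X.mono _ _ fun j _ => (hm j).trans (hl s j (Set.mem_univ _)).symm⟩⟩⟩⟩

/-- (2) ⇒ (1): a category with equalizers and fibre products has all finite connected limits. -/
theorem result {C : Type u} [Category.{v} C] [HasEqualizers C] [HasPullbacks C]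
    (J : Type) [SmallCategory J] [FinCategory J] [IsConnected J] : HasLimitsOfShape J C := by
  exact ⟨fun F => hasLimit_of F⟩

end Groth.Agent.S6423
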