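import Groth.Statements.S6424
import Mathlib

set_option autoImplicit false
set_option backward.isDefEq.respectTransparency.types false
set_option maxHeartbeats 1000000
set_option linter.all false
open CategoryTheory CategoryTheory.Limits
universe v u
open CatLim

namespace Groth.Agent.S6424
open Groth.Agent

/-- (2) ⇒ (1): a category with products of pairs and equalizers has all finite nonempty limits. -/
theorem result {C : Type u} [Category.{v} C] [HasBinaryProducts C] [HasEqualizers C]
    (J : Type) [SmallCategory J] [FinCategory J] [Nonempty J] : HasLimitsOfShape J C := by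
  classical
  have hfin : ∀ (n : ℕ) (f : Fin (n + 1) → C), HasProduct f := by
    intro n
    induction n with
    | zero =>
      intro f
      exact ⟨⟨⟨Fan.mk (f 0) (fun i => eqToHom (by rw [Fin.fin_one_eq_zero i])), mkFanLimit _ (fun s => s.proj 0) (fun s i => by obtain rfl := Fin.fin_one_eq_zero i; simp) (fun s m h => by simpa using h 0)⟩⟩⟩
    | succ n ih =>
      intro f
      haveI := ih (fun i => f i.succ)
      exact HasLimit.mk ⟨_, extendFanIsLimit f (limit.isLimit _) (limit.isLimit _)⟩
  have hprod : ∀ (α : Type) [Finite α] [Nonempty α] (f : α → C), HasProduct f := by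
    intro α _ _ f
    haveI := Fintype.ofFinite α
    obtain ⟨n, hn⟩ : ∃ n, Fintype.card α = n + 1 := ⟨Fintype.card α - 1, by have := Fintype.card_pos (α := α); omega⟩
    let e : Fin (n + 1) ≃ α := ((Fintype.equivFin α).trans (finCongr hn)).symm
    haveI := hfin n (f ∘ e)
    haveI : HasLimit ((Discrete.equivalence e).functor ⋙ Discrete.functor f) := hasLimit_of_iso (F := Discrete.functor (f ∘ e)) (Discrete.natIso fun _ => Iso.refl _)
    exact hasLimit_of_equivalence_comp (Discrete.equivalence e)
  haveI : Nonempty (Σ p : J × J, p.1 ⟶ p.2) := ⟨⟨(Classical.arbitrary J, Classical.arbitrary J), 𝟙 _⟩⟩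
  refine ⟨fun F => ?_⟩
  haveI := hprod J F.obj
  haveI := hprod (Σ p : J × J, p.1 ⟶ p.2) (fun f => F.obj f.1.2)
  exact hasLimit_of_equalizer_and_product F

end Groth.Agent.S6424
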