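import Groth.Statements.S6425
import Mathlib

set_option autoImplicit false
open CategoryTheory CategoryTheory.Limits
universe v
open CatLim

namespace Groth.Agent.S6425

/-- Over an index category in which any two objects map to a common object, the comparison map `colim (M
× N) → colim M × colim N` for diagrams of sets is surjective. -/
theorem result {I : Type v} [SmallCategory I]
    (hI : ∀ x y : I, ∃ (z : I) (_ : x ⟶ z) (_ : y ⟶ z), True) (M N : I ⥤ Type v) :
    Function.Surjective (prodComparison (colim : (I ⥤ Type v) ⥤ Type v) M N) := by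
  intro z
  obtain ⟨x, a, ha⟩ := Types.jointly_surjective' (F := M) ((Limits.prod.fst : (colim : (I ⥤ Type v) ⥤ Type v).obj M ⨯ (colim : (I ⥤ Type v) ⥤ Type v).obj N ⟶ _) z)
  obtain ⟨y, b, hb⟩ := Types.jointly_surjective' (F := N) ((Limits.prod.snd : (colim : (I ⥤ Type v) ⥤ Type v).obj M ⨯ (colim : (I ⥤ Type v) ⥤ Type v).obj N ⟶ _) z)
  obtain ⟨w, f, g, -⟩ := hI x y
  let s : (M.obj w ⨯ N.obj w : Type v) := (Types.binaryProductIso (M.obj w) (N.obj w)).inv (M.map f a, N.map g b)
  let t : (M ⨯ N).obj w := (PreservesLimitPair.iso ((evaluation I (Type v)).obj w) M N).inv s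
  have h1 : (Limits.prod.fst : M ⨯ N ⟶ M).app w t = M.map f a :=
    (ConcreteCategory.congr_hom (PreservesLimitPair.iso_inv_fst ((evaluation I (Type v)).obj w) M N) s).trans (ConcreteCategory.congr_hom (Types.binaryProductIso_inv_comp_fst _ _) _)
  have h2 : (Limits.prod.snd : M ⨯ N ⟶ N).app w t = N.map g b :=
    (ConcreteCategory.congr_hom (PreservesLimitPair.iso_inv_snd ((evaluation I (Type v)).obj w) M N) s).trans (ConcreteCategory.congr_hom (Types.binaryProductIso_inv_comp_snd _ _) _)
  have e1 : (Limits.prod.fst : (colim : (I ⥤ Type v) ⥤ Type v).obj M ⨯ (colim : (I ⥤ Type v) ⥤ Type v).obj N ⟶ _)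
      (prodComparison (colim : (I ⥤ Type v) ⥤ Type v) M N (colimit.ι (M ⨯ N) w t)) = colimit.ι M x a := by
    refine ((ConcreteCategory.congr_hom (prodComparison_fst (colim : (I ⥤ Type v) ⥤ Type v) (A := M) (B := N)) _).trans
      (ConcreteCategory.congr_hom (ι_colimMap (Limits.prod.fst : M ⨯ N ⟶ M) w) t)).trans ?_
    exact (congrArg (colimit.ι M w) h1).trans (ConcreteCategory.congr_hom (colimit.w M f) a)
  have e2 : (Limits.prod.snd : (colim : (I ⥤ Type v) ⥤ Type v).obj M ⨯ (colim : (I ⥤ Type v) ⥤ Type v).obj N ⟶ _)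
      (prodComparison (colim : (I ⥤ Type v) ⥤ Type v) M N (colimit.ι (M ⨯ N) w t)) = colimit.ι N y b := by
    refine ((ConcreteCategory.congr_hom (prodComparison_snd (colim : (I ⥤ Type v) ⥤ Type v) (A := M) (B := N)) _).trans
      (ConcreteCategory.congr_hom (ι_colimMap (Limits.prod.snd : M ⨯ N ⟶ N) w) t)).trans ?_
    exact (congrArg (colimit.ι N w) h2).trans (ConcreteCategory.congr_hom (colimit.w N g) b)
  refine ⟨colimit.ι (M ⨯ N) w t, (Types.binaryProductIso _ _).toEquiv.injective (Prod.ext ?_ ?_)⟩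
  · exact (ConcreteCategory.congr_hom (Types.binaryProductIso_hom_comp_fst _ _) _).trans ((e1.trans ha).trans (ConcreteCategory.congr_hom (Types.binaryProductIso_hom_comp_fst _ _) _).symm)
  · exact (ConcreteCategory.congr_hom (Types.binaryProductIso_hom_comp_snd _ _) _).trans ((e2.trans hb).trans (ConcreteCategory.congr_hom (Types.binaryProductIso_hom_comp_snd _ _) _).symm)

end Groth.Agent.S6425
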