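import Groth.Statements.S6427
import Mathlib

set_option autoImplicit false
open CategoryTheory CategoryTheory.Limits
universe v
open CatLim

namespace Groth.Agent.S6427

/-- Over an index category in which every pair of morphisms with common source can be completed to a
commutative square, colimits of sets preserve injective morphisms of diagrams. -/
theorem result {I : Type v} [SmallCategory I]
    (hI : ∀ ⦃x y z : I⦄ (f : x ⟶ y) (g : x ⟶ z), ∃ (w : I) (f' : y ⟶ w) (g' : z ⟶ w), f ≫ f' = g ≫ g')
    {M N : I ⥤ Type v} (φ : M ⟶ N) (hφ : ∀ i, Function.Injective (φ.app i)) :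
    Function.Injective (colimMap φ) := by
  classical
  have key : ∀ (x y : Σ i, N.obj i), Relation.EqvGen N.ColimitTypeRel x y →
      ∃ (w : I) (f : x.1 ⟶ w) (g : y.1 ⟶ w), N.map f x.2 = N.map g y.2 := by
    intro x y h
    induction h with
    | rel x y h =>
      obtain ⟨f, hf⟩ := h
      exact ⟨y.1, f, 𝟙 _, by simp [hf]⟩
    | refl x => exact ⟨x.1, 𝟙 _, 𝟙 _, rfl⟩
    | symm x y _ ih => obtain ⟨w, f, g, e⟩ := ih; exact ⟨w, g, f, e.symm⟩
    | trans x y z _ _ ih₁ ih₂ =>
      obtain ⟨w, f, g, e⟩ := ih₁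
      obtain ⟨w', f', g', e'⟩ := ih₂
      obtain ⟨v, a, b, hab⟩ := hI g f'
      refine ⟨v, f ≫ a, g' ≫ b, ?_⟩
      rw [Functor.map_comp, Functor.map_comp, types_comp_apply, types_comp_apply, e, ← e', ← types_comp_apply (N.map g), ← types_comp_apply (N.map f'), ← Functor.map_comp, ← Functor.map_comp, hab]
  intro p q h
  obtain ⟨i, x, rfl⟩ := Types.jointly_surjective' p
  obtain ⟨j, y, rfl⟩ := Types.jointly_surjective' q
  rw [← types_comp_apply (colimit.ι M i), ← types_comp_apply (colimit.ι M j), ι_colimMap, ι_colimMap, types_comp_apply, types_comp_apply] at h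
  obtain ⟨w, f, g, e⟩ := key _ _ (Types.colimit_eq h)
  dsimp only at e
  rw [← FunctorToTypes.naturality, ← FunctorToTypes.naturality] at e
  exact Types.colimit_sound' f g (hφ w e)

end Groth.Agent.S6427
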