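import Groth.Statements.S6429
import Mathlib

set_option autoImplicit false
open CategoryTheory CategoryTheory.MonoidalCategory
universe v u
open MonCat

namespace Groth.Agent.S6429

/-- An object `X` of a monoidal category is invertible (some `X'` has `X ⊗ X' ≅ 𝟙` and `X' ⊗ X ≅ 𝟙`) if
and only if tensoring on the left by `X` is an equivalence, if and only if tensoring on the right by
`X` is an equivalence. -/
theorem result {C : Type u} [Category.{v} C] [MonoidalCategory C] (X : C) :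
    ((tensorLeft X).IsEquivalence ↔ ∃ X' : C, Nonempty (X ⊗ X' ≅ 𝟙_ C) ∧ Nonempty (X' ⊗ X ≅ 𝟙_ C)) ∧
      ((tensorRight X).IsEquivalence ↔ ∃ X' : C, Nonempty (X ⊗ X' ≅ 𝟙_ C) ∧ Nonempty (X' ⊗ X ≅ 𝟙_ C)) := by
  constructor
  · constructor
    · intro h
      obtain ⟨X', ⟨e⟩⟩ : ∃ X' : C, Nonempty (X ⊗ X' ≅ 𝟙_ C) := ⟨_, ⟨(tensorLeft X).objObjPreimageIso (𝟙_ C)⟩⟩
      refine ⟨_, ⟨e⟩, ⟨(tensorLeft X).preimageIso ?_⟩⟩
      exact (α_ X _ X).symm ≪≫ whiskerRightIso e X ≪≫ λ_ X ≪≫ (ρ_ X).symm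
    · rintro ⟨X', ⟨e⟩, ⟨e'⟩⟩
      exact (CategoryTheory.Equivalence.mk (tensorLeft X) (tensorLeft X')
        ((leftUnitorNatIso C).symm ≪≫ ((tensoringLeft C).mapIso e').symm ≪≫ tensorLeftTensor X' X)
        ((tensorLeftTensor X X').symm ≪≫ (tensoringLeft C).mapIso e ≪≫ leftUnitorNatIso C)).isEquivalence_functor
  · constructor
    · intro h
      obtain ⟨X', ⟨e⟩⟩ : ∃ X' : C, Nonempty (X' ⊗ X ≅ 𝟙_ C) := ⟨_, ⟨(tensorRight X).objObjPreimageIso (𝟙_ C)⟩⟩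
      refine ⟨_, ⟨(tensorRight X).preimageIso ?_⟩, ⟨e⟩⟩
      exact α_ X _ X ≪≫ whiskerLeftIso X e ≪≫ ρ_ X ≪≫ (λ_ X).symm
    · rintro ⟨X', ⟨e⟩, ⟨e'⟩⟩
      exact (CategoryTheory.Equivalence.mk (tensorRight X) (tensorRight X')
        ((rightUnitorNatIso C).symm ≪≫ ((tensoringRight C).mapIso e).symm ≪≫ tensorRightTensor X X')
        ((tensorRightTensor X' X).symm ≪≫ (tensoringRight C).mapIso e' ≪≫ rightUnitorNatIso C)).isEquivalence_functor

end Groth.Agent.S6429
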