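import Groth.Statements.S6430
import Groth.Agent.Lib.LFibCat

set_option autoImplicit false
set_option backward.isDefEq.respectTransparency false
set_option backward.isDefEq.respectTransparency.types false
open CategoryTheory
universe v₂ u₂ v u
open FibCat

namespace Groth.Agent.S6430

/-- For a fibred category `p : 𝒮 ⥤ C`, the wide subcategory of `𝒮` on the strongly cartesian morphisms
is fibred in groupoids over `C`. -/
theorem result {C : Type u} [Category.{v} C] {𝒮 : Type u₂} [Category.{v₂} 𝒮] (p : 𝒮 ⥤ C) [p.IsFibered] :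
    FibCat.IsFibGrpd (FibCat.cartSubProj p) := by
  refine { exists_lift := fun {x V} f => ?_, isStronglyCartesian := fun {y x} φ => ?_ }
  · obtain ⟨x⟩ := x
    change V ⟶ p.obj x at f
    obtain ⟨y, φ, hφ⟩ := Functor.IsPreFibered.exists_isCartesian' (p := p) (a := x) f
    have hc : p.IsStronglyCartesian f φ := inferInstance
    have h1 : FibCat.cartMor p φ := by
      have := hc.toIsHomLift
      obtain rfl := IsHomLift.domain_eq p f φ
      obtain rfl := IsHomLift.eq_of_isHomLift p f φ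
      exact hc
    exact ⟨⟨y⟩, ⟨φ, h1⟩, IsHomLift.of_fac' _ _ _ (IsHomLift.domain_eq p f φ) rfl (IsHomLift.fac' p f φ)⟩
  · refine { universal_property' := fun {z} g ψ hψ => ?_ }
    haveI hφ : p.IsStronglyCartesian (p.map φ.1) φ.1 := φ.2
    have e : p.map ψ.1 = g ≫ p.map φ.1 := by
      have := @IsHomLift.fac' _ _ _ _ (FibCat.cartSubProj p) _ _ _ _ (g ≫ _) ψ hψ
      simpa using this
    haveI : p.IsHomLift (g ≫ p.map φ.1) ψ.1 := e ▸ inferInstance
    obtain ⟨χ, ⟨h1, h2⟩, hu⟩ := Functor.IsStronglyCartesian.universal_property p (p.map φ.1) φ.1 g _ rfl ψ.1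
    haveI := h1
    have hgχ : g = p.map χ := IsHomLift.eq_of_isHomLift p g χ
    have hχ : FibCat.cartMor p χ := by
      haveI : p.IsStronglyCartesian (p.map ψ.1) ψ.1 := ψ.2
      haveI : p.IsStronglyCartesian (p.map χ ≫ p.map φ.1) (χ ≫ φ.1) := by rw [h2, ← hgχ, ← e]; infer_instance
      exact Functor.IsStronglyCartesian.of_comp (p := p) (g := p.map φ.1) (ψ := φ.1)
    refine ⟨⟨χ, hχ⟩, ⟨IsHomLift.of_fac' _ _ _ rfl rfl (by simp [hgχ]), WideSubcategory.hom_ext _ h2⟩, ?_⟩
    rintro χ' ⟨k1, k2⟩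
    have := @IsHomLift.fac' _ _ _ _ (FibCat.cartSubProj p) _ _ _ _ g χ' k1
    have hk : g = p.map χ'.1 := by simpa using this.symm
    exact WideSubcategory.hom_ext _ (hu _ ⟨hk ▸ inferInstance, congrArg (fun q => q.1) k2⟩)

end Groth.Agent.S6430
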