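import Groth.Statements.S6437
import Mathlib

set_option autoImplicit false
open CategoryTheory CategoryTheory.Limits
universe v
open CatLim

namespace Groth.Agent.S6437


section helpers
variable {I : Type v} [SmallCategory I]

theorem colim_rel
    (h1 : ∀ ⦃w x y : I⦄ (a : w ⟶ x) (b : w ⟶ y), ∃ (z : I) (c : x ⟶ z) (d : y ⟶ z), a ≫ c = b ≫ d)
    (G : I ⥤ Type v) {i i' : I} {x : G.obj i} {y : G.obj i'}
    (h : colimit.ι G i x = colimit.ι G i' y) :
    ∃ (k : I) (a : i ⟶ k) (b : i' ⟶ k), G.map a x = G.map b y := by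
  have key : ∀ p q : Σ j, G.obj j, Relation.EqvGen G.ColimitTypeRel p q →
      ∃ (k : I) (a : p.1 ⟶ k) (b : q.1 ⟶ k), G.map a p.2 = G.map b q.2 := by
    intro p q hpq
    induction hpq with
    | rel p q hr =>
      obtain ⟨f, hf⟩ := hr
      exact ⟨q.1, f, 𝟙 _, by simp [hf]⟩
    | refl p => exact ⟨p.1, 𝟙 _, 𝟙 _, rfl⟩
    | symm p q _ ih =>
      obtain ⟨k, a, b, hab⟩ := ih
      exact ⟨k, b, a, hab.symm⟩
    | trans p q r _ _ ih ih' =>
      obtain ⟨k, a, b, hab⟩ := ih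
      obtain ⟨k', a', b', hab'⟩ := ih'
      obtain ⟨z, c, d, hcd⟩ := h1 b a'
      refine ⟨z, a ≫ c, b' ≫ d, ?_⟩
      have e1 : G.map c (G.map b q.2) = G.map d (G.map a' q.2) := by
        rw [← FunctorToTypes.map_comp_apply, ← FunctorToTypes.map_comp_apply, hcd]
      rw [FunctorToTypes.map_comp_apply, FunctorToTypes.map_comp_apply, hab, e1, hab']
  exact key ⟨i, x⟩ ⟨i', y⟩ (Types.colimit_eq h)

theorem colim_eq_same
    (h1 : ∀ ⦃w x y : I⦄ (a : w ⟶ x) (b : w ⟶ y), ∃ (z : I) (c : x ⟶ z) (d : y ⟶ z), a ≫ c = b ≫ d)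
    (h2 : ∀ ⦃x y : I⦄ (a b : x ⟶ y), ∃ (z : I) (c : y ⟶ z), a ≫ c = b ≫ c)
    (G : I ⥤ Type v) {i : I} {x y : G.obj i}
    (h : colimit.ι G i x = colimit.ι G i y) :
    ∃ (k : I) (a : i ⟶ k), G.map a x = G.map a y := by
  obtain ⟨k, a, b, hab⟩ := colim_rel h1 G h
  obtain ⟨z, c, hc⟩ := h2 a b
  refine ⟨z, a ≫ c, ?_⟩
  conv_rhs => rw [hc]
  rw [FunctorToTypes.map_comp_apply, FunctorToTypes.map_comp_apply, hab]

/-- Finitely many upward closed conditions on arrows out of `i` hold simultaneously. -/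
theorem merge
    (h1 : ∀ ⦃w x y : I⦄ (a : w ⟶ x) (b : w ⟶ y), ∃ (z : I) (c : x ⟶ z) (d : y ⟶ z), a ≫ c = b ≫ d)
    {κ : Type*} [Finite κ] {i : I} (Q : κ → ∀ z : I, (i ⟶ z) → Prop)
    (hup : ∀ t (z z' : I) (e : i ⟶ z) (c : z ⟶ z'), Q t z e → Q t z' (e ≫ c))
    (hex : ∀ t, ∃ (z : I) (e : i ⟶ z), Q t z e) :
    ∃ (z : I) (e : i ⟶ z), ∀ t, Q t z e := by
  classical
  haveI := Fintype.ofFinite κ
  suffices h : ∀ S : Finset κ, ∃ (z : I) (e : i ⟶ z), ∀ t ∈ S, Q t z e by
    obtain ⟨z, e, he⟩ := h Finset.univ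
    exact ⟨z, e, fun t => he t (Finset.mem_univ t)⟩
  intro S
  induction S using Finset.induction with
  | empty => exact ⟨i, 𝟙 _, by simp⟩
  | @insert t S _ ih =>
    obtain ⟨z, e, he⟩ := ih
    obtain ⟨z', e', he'⟩ := hex t
    obtain ⟨w, c, d, hcd⟩ := h1 e e'
    refine ⟨w, e ≫ c, fun u hu => ?_⟩
    rcases Finset.mem_insert.mp hu with rfl | hu
    · rw [hcd]; exact hup _ _ _ _ _ he'
    · exact hup _ _ _ _ _ (he u hu)

end helpers

/-- Over an index category in which spans can be completed to commutative squares and parallel pairs can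
be coequalized (a disjoint union of filtered categories), colimits of sets commute with finite
connected limits. -/
theorem result {I : Type v} [SmallCategory I]
    (h1 : ∀ ⦃w x y : I⦄ (a : w ⟶ x) (b : w ⟶ y), ∃ (z : I) (c : x ⟶ z) (d : y ⟶ z), a ≫ c = b ≫ d)
    (h2 : ∀ ⦃x y : I⦄ (a b : x ⟶ y), ∃ (z : I) (c : y ⟶ z), a ≫ c = b ≫ c)
    (J : Type) [SmallCategory J] [FinCategory J] [IsConnected J] :
    PreservesLimitsOfShape J (colim : (I ⥤ Type v) ⥤ Type v) := by
  classical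
  have hJ : Nonempty J := IsConnected.is_nonempty
  obtain ⟨j0⟩ := hJ
  refine ⟨fun {K} => ⟨fun {c} hc => ?_⟩⟩
  rw [Types.isLimit_iff]
  intro s hs
  have hlim : ∀ z : I, ∀ y ∈ (K ⋙ (evaluation I (Type v)).obj z).sections,
      ∃! x : c.pt.obj z, ∀ j, (c.π.app j).app z x = y j := fun z =>
    (Types.isLimit_iff _).mp ⟨isLimitOfPreserves ((evaluation I (Type v)).obj z) hc⟩
  -- representatives of the section
  have hrep : ∀ j, ∃ (i : I) (y : (K.obj j).obj i), colimit.ι (K.obj j) i y = s j := fun j =>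
    Types.jointly_surjective' (F := K.obj j) (s j)
  choose i y hy using hrep
  have hedge : ∀ {j j' : J} (f : j ⟶ j'),
      colimit.ι (K.obj j') (i j) ((K.map f).app (i j) (y j)) = colimit.ι (K.obj j') (i j') (y j') := by
    intro j j' f
    have e : colim.map (K.map f) (s j) = s j' := hs f
    rw [← hy j, ← hy j'] at e
    rw [← e]
    exact (ConcreteCategory.congr_hom (colimit.ι_map (K.map f) (i j)) (y j)).symm
  -- a common index
  have hconn : ∀ j, ∃ k, Nonempty (i j0 ⟶ k) ∧ Nonempty (i j ⟶ k) := by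
    intro j
    refine induct_on_objects {j | ∃ k, Nonempty (i j0 ⟶ k) ∧ Nonempty (i j ⟶ k)}
      (j₀ := j0) ⟨i j0, ⟨𝟙 _⟩, ⟨𝟙 _⟩⟩ (fun {j1 j2} f => ?_) j
    obtain ⟨k', a', b', -⟩ := colim_rel h1 _ (hedge f)
    constructor
    · rintro ⟨k, ⟨a⟩, ⟨b⟩⟩
      obtain ⟨z, c, d, -⟩ := h1 b a'
      exact ⟨z, ⟨a ≫ c⟩, ⟨b' ≫ d⟩⟩
    · rintro ⟨k, ⟨a⟩, ⟨b⟩⟩
      obtain ⟨z, c, d, -⟩ := h1 b b'
      exact ⟨z, ⟨a ≫ c⟩, ⟨a' ≫ d⟩⟩
  obtain ⟨k0, -, hk0⟩ := merge h1 (κ := J) (i := i j0) (fun j z _ => Nonempty (i j ⟶ z))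
    (fun t z z' e c h => ⟨h.some ≫ c⟩)
    (fun j => by obtain ⟨k, ⟨a⟩, hb⟩ := hconn j; exact ⟨k, a, hb⟩)
  let y' : ∀ j, (K.obj j).obj k0 := fun j => (K.obj j).map (hk0 j).some (y j)
  have hy' : ∀ j, colimit.ι (K.obj j) k0 (y' j) = s j := fun j => by
    rw [← hy j]
    exact (Types.colimit_sound (hk0 j).some rfl).symm
  have hedge' : ∀ {j j' : J} (f : j ⟶ j'),
      colimit.ι (K.obj j') k0 ((K.map f).app k0 (y' j)) = colimit.ι (K.obj j') k0 (y' j') := by
    intro j j' f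
    have e : colim.map (K.map f) (s j) = s j' := hs f
    rw [← hy' j, ← hy' j'] at e
    rw [← e]
    exact (ConcreteCategory.congr_hom (colimit.ι_map (K.map f) k0) (y' j)).symm
  obtain ⟨z, e, he⟩ := merge h1 (κ := Σ j : J, Σ j' : J, (j ⟶ j')) (i := k0)
    (fun t z e => (K.obj t.2.1).map e ((K.map t.2.2).app k0 (y' t.1)) = (K.obj t.2.1).map e (y' t.2.1))
    (fun t z z' e c h => by rw [FunctorToTypes.map_comp_apply, FunctorToTypes.map_comp_apply, h])
    (fun t => colim_eq_same h1 h2 _ (hedge' t.2.2))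
  let y'' : ∀ j, (K.obj j).obj z := fun j => (K.obj j).map e (y' j)
  have hsec : y'' ∈ (K ⋙ (evaluation I (Type v)).obj z).sections := by
    intro j j' f
    show (K.map f).app z ((K.obj j).map e (y' j)) = (K.obj j').map e (y' j')
    rw [← he ⟨j, j', f⟩]
    exact NatTrans.naturality_apply (K.map f) e (y' j)
  obtain ⟨x, hx, -⟩ := hlim z y'' hsec
  have himg : ∀ (w : I) (u : c.pt.obj w) (j : J),
      colim.map (c.π.app j) (colimit.ι c.pt w u) = colimit.ι (K.obj j) w ((c.π.app j).app w u) :=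
    fun w u j => ConcreteCategory.congr_hom (colimit.ι_map (c.π.app j) w) u
  refine ⟨colimit.ι c.pt z x, fun j => ?_, ?_⟩
  · show colim.map (c.π.app j) (colimit.ι c.pt z x) = s j
    rw [himg, hx j, ← hy' j]
    exact (Types.colimit_sound e rfl).symm
  · intro x2' hx2'
    obtain ⟨i2, x2, rfl⟩ := Types.jointly_surjective' x2'
    have h2' : ∀ j, colimit.ι (K.obj j) z ((c.π.app j).app z x) =
        colimit.ι (K.obj j) i2 ((c.π.app j).app i2 x2) := by
      intro j
      rw [hx j, ← himg i2 x2 j]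
      refine Eq.trans ?_ (hx2' j).symm
      rw [← hy' j]
      exact (Types.colimit_sound e rfl).symm
    obtain ⟨k, a, b, -⟩ := colim_rel h1 _ (h2' j0)
    have hnat : ∀ (j : J) {p q : I} (m : p ⟶ q) (t : c.pt.obj p),
        (c.π.app j).app q (c.pt.map m t) = (K.obj j).map m ((c.π.app j).app p t) :=
      fun j p q m t => NatTrans.naturality_apply (c.π.app j) m t
    let u1 := c.pt.map a x
    let u2 := c.pt.map b x2
    have hu : ∀ j, colimit.ι (K.obj j) k ((c.π.app j).app k u1) =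
        colimit.ι (K.obj j) k ((c.π.app j).app k u2) := by
      intro j
      rw [hnat j a x, hnat j b x2,
        ← Types.colimit_sound a rfl, ← Types.colimit_sound b rfl]
      exact h2' j
    obtain ⟨w, g, hg⟩ := merge h1 (κ := J) (i := k)
      (fun j w g => (K.obj j).map g ((c.π.app j).app k u1) = (K.obj j).map g ((c.π.app j).app k u2))
      (fun t z z' e c h => by rw [FunctorToTypes.map_comp_apply, FunctorToTypes.map_comp_apply, h])
      (fun j => colim_eq_same h1 h2 _ (hu j))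
    have hsec2 : (fun j => (c.π.app j).app w (c.pt.map g u1)) ∈
        (K ⋙ (evaluation I (Type v)).obj w).sections := by
      intro j j' f
      exact (ConcreteCategory.congr_hom (congr_app (c.w f) w) _)
    have heq : c.pt.map g u1 = c.pt.map g u2 := (hlim w _ hsec2).unique (fun j => rfl) (fun j => by
      exact (hnat j g u2).trans ((hg j).symm.trans (hnat j g u1).symm))
    have e1 : colimit.ι c.pt z x = colimit.ι c.pt w (c.pt.map g u1) :=
      (Types.colimit_sound a rfl).trans (Types.colimit_sound g rfl)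
    have e2 : colimit.ι c.pt i2 x2 = colimit.ι c.pt w (c.pt.map g u2) :=
      (Types.colimit_sound b rfl).trans (Types.colimit_sound g rfl)
    rw [e1, e2, heq]

end Groth.Agent.S6437
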