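import Groth.Statements.S6438
import Mathlib
import Groth.Agent.Lib.H6.FinModel

set_option autoImplicit false
set_option backward.isDefEq.respectTransparency.types false
set_option maxHeartbeats 1000000
set_option linter.all false
open CategoryTheory
universe v u
open CatLim

namespace Groth.Agent.S6438
open Groth.Agent

/-- A category with finitely many objects whose morphisms are generated under composition by finitely
many of them receives a functor from a finite category which is both final and initial, the finite
category being connected (resp. nonempty) exactly when the given one is. (The published statement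
says that limits and colimits of every diagram are computed after restriction along the functor;
this is expressed here through finality and initiality.) -/
theorem result {I : Type u} [Category.{v} I] [Finite I]
    (gen : Finset (Σ x y : I, x ⟶ y))
    (hgen : ∀ P : MorphismProperty I, P.IsMultiplicative → (∀ a ∈ gen, P a.2.2) → P = ⊤) :
    ∃ (J : Type) (_ : SmallCategory J) (_ : FinCategory J) (F : J ⥤ I),
      F.Final ∧ F.Initial ∧ (IsConnected J ↔ IsConnected I) ∧ (Nonempty J ↔ Nonempty I) := by
    classical
    obtain ⟨n, ⟨e⟩⟩ := Finite.exists_equiv_fin I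
    let q : Fin (Fintype.card (↥gen ⊕ Fin n)) → ↥gen ⊕ Fin n := (Fintype.equivFin _).symm
    let s : Fin (Fintype.card (↥gen ⊕ Fin n)) → Fin n := fun k => Sum.elim (fun a => e a.1.1) id (q k)
    let t : Fin (Fintype.card (↥gen ⊕ Fin n)) → Fin n := fun k => Sum.elim (fun a => e a.1.2.1) id (q k)
    let edx : ∀ z : ↥gen ⊕ Fin n, (e.symm (Sum.elim (fun a => e a.1.1) id z) ⟶
        e.symm (Sum.elim (fun a => e a.1.2.1) id z)) := fun z =>
      match z with
      | .inl a => eqToHom (e.symm_apply_apply _) ≫ a.1.2.2 ≫ eqToHom (e.symm_apply_apply _).symm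
      | .inr i => 𝟙 (e.symm i)
    let ed : ∀ k, e.symm (s k) ⟶ e.symm (t k) := fun k => edx (q k)
    have hloop : ∀ i, ∃ k, s k = i ∧ t k = i ∧ HEq (ed k) (𝟙 (e.symm i)) := by
      intro i
      obtain ⟨k, hk⟩ : ∃ k, q k = Sum.inr i := (Fintype.equivFin _).symm.surjective _
      refine ⟨k, by simp [s, hk], by simp [t, hk], ?_⟩
      show HEq (edx (q k)) _
      rw [hk]
      exact HEq.rfl
    have htop : ∀ Q : MorphismProperty I, Q.IsMultiplicative → (∀ k, Q (ed k)) → Q = ⊤ := by
      intro Q hQ hk
      refine hgen Q hQ fun a ha => ?_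
      obtain ⟨k, hk'⟩ : ∃ k, q k = Sum.inl ⟨a, ha⟩ := (Fintype.equivFin _).symm.surjective _
      have h : Q (edx (q k)) := hk k
      rw [hk'] at h
      have he : ∀ {x y : I} (p : x = y), Q (eqToHom p) := fun p => by subst p; exact Q.id_mem _
      have h2 := Q.comp_mem _ _ (he (e.symm_apply_apply a.1).symm)
        (Q.comp_mem _ _ h (he (e.symm_apply_apply a.2.1)))
      simpa [edx] using h2
    obtain ⟨h1, h2⟩ := H6FM.final_initial (s := s) (t := t) (fun i => e.symm i) ed e.symm.bijective hloop htop
    haveI := h1
    refine ⟨H6FM.Obj n _ s t, inferInstance, inferInstance, H6FM.func (fun i => e.symm i) ed, h1, h2,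
      CategoryTheory.Functor.isConnected_iff_of_final (H6FM.func (s := s) (t := t) (fun i => e.symm i) ed), ?_⟩
    exact ⟨fun ⟨j⟩ => ⟨(H6FM.func (fun i => e.symm i) ed).obj j⟩, fun ⟨x⟩ => ⟨H6FM.Obj.lo (e x)⟩⟩

end Groth.Agent.S6438
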