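import Groth.Statements.S6439
import Groth.Agent.Lib.H9FibEquiv

set_option autoImplicit false
set_option backward.isDefEq.respectTransparency false
set_option backward.isDefEq.respectTransparency.types false
set_option linter.style.haveILetI false
open CategoryTheory
universe v u
open FibCat

namespace Groth.Agent.S6439

variable {C : Type u} [Category.{v} C] {S T R : BasedCategory.{v, max u v} C}

theorem pre_equiv {φ : S ⥤ᵇ T} (h : FibCat.IsEquivOver φ) :
    (Bicategory.precomp R (show S ⟶ T from φ)).IsEquivalence := by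
  obtain ⟨φ', ⟨a⟩, ⟨b⟩⟩ := h
  let E : CategoryTheory.Equivalence (T ⟶ R) (S ⟶ R) :=
    CategoryTheory.Equivalence.mk (Bicategory.precomp R (show S ⟶ T from φ)) (Bicategory.precomp R (show T ⟶ S from φ'))
      (NatIso.ofComponents (fun α => (H9Fib.wRight b α).symm) (fun {α β} τ => by
        apply BasedNatTrans.homCategory.ext
        apply NatTrans.ext
        funext x
        exact (τ.toNatTrans.naturality (b.inv.toNatTrans.app x)).symm))
      (NatIso.ofComponents (fun α => H9Fib.wRight a α) (fun {α β} τ => by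
        apply BasedNatTrans.homCategory.ext
        apply NatTrans.ext
        funext x
        exact (τ.toNatTrans.naturality (a.hom.toNatTrans.app x)).symm))
  exact inferInstanceAs E.functor.IsEquivalence

theorem post_equiv {ψ : T ⥤ᵇ R} (h : FibCat.IsEquivOver ψ) :
    (Bicategory.postcomp S (show T ⟶ R from ψ)).IsEquivalence := by
  obtain ⟨ψ', ⟨a⟩, ⟨b⟩⟩ := h
  let E : CategoryTheory.Equivalence (S ⟶ T) (S ⟶ R) :=
    CategoryTheory.Equivalence.mk (Bicategory.postcomp S (show T ⟶ R from ψ)) (Bicategory.postcomp S (show R ⟶ T from ψ'))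
      (NatIso.ofComponents (fun α => (H9Fib.wLeft α a).symm) (fun {α β} τ => by
        apply BasedNatTrans.homCategory.ext
        apply NatTrans.ext
        funext x
        exact a.inv.toNatTrans.naturality (τ.toNatTrans.app x)))
      (NatIso.ofComponents (fun α => H9Fib.wLeft α b) (fun {α β} τ => by
        apply BasedNatTrans.homCategory.ext
        apply NatTrans.ext
        funext x
        exact b.hom.toNatTrans.naturality (τ.toNatTrans.app x)))
  exact inferInstanceAs E.functor.IsEquivalence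

/-- For categories fibred in groupoids over `C` and equivalences `φ : 𝒮₁ ⟶ 𝒮₂`, `ψ : 𝒮₃ ⟶ 𝒮₄` over `C`,
the functor `α ↦ ψ ∘ α ∘ φ` between the categories of functors over `C` is an equivalence of
categories. -/
theorem result {C : Type u} [Category.{v} C] {𝒮₁ 𝒮₂ 𝒮₃ 𝒮₄ : BasedCategory.{v, max u v} C}
    (h₁ : FibCat.IsFibGrpd 𝒮₁.p) (h₂ : FibCat.IsFibGrpd 𝒮₂.p) (h₃ : FibCat.IsFibGrpd 𝒮₃.p) (h₄ : FibCat.IsFibGrpd 𝒮₄.p)
    (φ : 𝒮₁ ⟶ 𝒮₂) (ψ : 𝒮₃ ⟶ 𝒮₄) (hφ : FibCat.IsEquivOver φ) (hψ : FibCat.IsEquivOver ψ) :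
    (Bicategory.precomp 𝒮₃ φ ⋙ Bicategory.postcomp 𝒮₁ ψ).IsEquivalence := by
  haveI := pre_equiv (R := 𝒮₃) hφ
  haveI := post_equiv (S := 𝒮₁) hψ
  exact inferInstanceAs (Functor.IsEquivalence (Bicategory.precomp 𝒮₃ φ ⋙ Bicategory.postcomp 𝒮₁ ψ))

end Groth.Agent.S6439
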