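import Groth.Statements.S6443
import Groth.Agent.Lib.LFibOver

set_option autoImplicit false
set_option backward.isDefEq.respectTransparency false
set_option backward.isDefEq.respectTransparency.types false
set_option linter.style.haveILetI false
open CategoryTheory
universe v u
open FibCat

namespace Groth.Agent.S6443

/-- If a category `𝒮` fibred in groupoids over `C` is represented by `X` via `j : 𝒮 ⟶ C/X` and by `X'`
via `j' : 𝒮 ⟶ C/X'` (equivalences over `C`), then there is an isomorphism `X' ≅ X` under which `j'`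
becomes 2-isomorphic to `j` over `C`. -/
theorem result {C : Type u} [Category.{v} C] {𝒮 : BasedCategory.{v, max u v} C} (h𝒮 : FibCat.IsFibGrpd 𝒮.p)
    {X X' : C} (j : 𝒮 ⥤ᵇ FibCat.overCat X) (j' : 𝒮 ⥤ᵇ FibCat.overCat X') (hj : FibCat.IsEquivOver j) (hj' : FibCat.IsEquivOver j') :
    ∃ e : X' ≅ X, Nonempty (BasedFunctor.comp j' (⟨Over.map e.hom, Over.mapForget_eq e.hom⟩ : FibCat.overCat X' ⥤ᵇ FibCat.overCat X) ≅ j) := by
  obtain ⟨G, ⟨a⟩, ⟨b⟩⟩ := hj
  obtain ⟨G', ⟨a'⟩, ⟨b'⟩⟩ := hj'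
  let k : FibCat.overCat X' ⥤ᵇ FibCat.overCat X := BasedFunctor.comp G' j
  let l : FibCat.overCat X ⥤ᵇ FibCat.overCat X' := BasedFunctor.comp G j'
  have ikl : BasedFunctor.comp k l ≅ BasedFunctor.id (FibCat.overCat X') :=
    H9Fib.wLeft G' (H9Fib.wRight a j') ≪≫ b'
  have ilk : BasedFunctor.comp l k ≅ BasedFunctor.id (FibCat.overCat X) :=
    H9Fib.wLeft G (H9Fib.wRight a' j) ≪≫ b
  refine ⟨⟨LFib.ehom k, LFib.ehom l, ?_, ?_⟩, ⟨H9Fib.wLeft j' (LFib.mapIso k) ≪≫ H9Fib.wRight a' j⟩⟩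
  · rw [← LFib.ehom_comp, LFib.ehom_congr ikl, LFib.ehom_id]
  · rw [← LFib.ehom_comp, LFib.ehom_congr ilk, LFib.ehom_id]

end Groth.Agent.S6443
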