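import Groth.Statements.S6447
import Groth.Agent.Lib.LFibCat

set_option autoImplicit false
set_option backward.isDefEq.respectTransparency false
set_option backward.isDefEq.respectTransparency.types false
open CategoryTheory CategoryTheory.Limits
universe v u
open FibCat

namespace Groth.Agent.S6447

lemma map_iso {X Y V : Type u} [Category.{v} X] [Category.{v} Y] [Category.{v} V] (p : X ⥤ Y) (q : V ⥤ Y)
    (w : CategoricalPullback (CategoricalPullback.π₂ p q) (CategoricalPullback.π₂ p q)) :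
    ((FibCat.categoricalPullbackMap (⟨CategoricalPullback.π₁ p q, q, CategoricalPullback.π₁ p q, ⟨(CatCommSq.iso (CategoricalPullback.π₁ p q) (CategoricalPullback.π₂ p q) p q).symm⟩, ⟨(CatCommSq.iso (CategoricalPullback.π₁ p q) (CategoricalPullback.π₂ p q) p q).symm⟩⟩ : CatCospanTransform (CategoricalPullback.π₂ p q) (CategoricalPullback.π₂ p q) p p)).obj w).iso.hom =
      w.fst.iso.hom ≫ q.map w.iso.hom ≫ w.snd.iso.inv := by
  simp [FibCat.categoricalPullbackMap, CategoricalPullback.CatCommSqOver.transform, CategoricalPullback.toCatCommSqOver, CatCommSq.iso]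
  rfl


/-- For a 2-fibre product `U = X ×_Y V` of categories, the square formed by `U ⟶ X`, the diagonals `U ⟶
U ×_V U`, `X ⟶ X ×_Y X` and the induced functor `U ×_V U ⟶ X ×_Y X` is 2-cartesian. (The filling
2-isomorphism is the one whose two components at every object are identities; it exists and is
unique with that property.) -/
theorem result {X Y V : Type u} [Category.{v} X] [Category.{v} Y] [Category.{v} V] (p : X ⥤ Y) (q : V ⥤ Y) :
    ∃ e, (∀ u, (e.hom.app u).fst = 𝟙 _ ∧ (e.hom.app u).snd = 𝟙 _) ∧ FibCat.IsTwoCart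
      (CategoricalPullback.π₁ p q)
      ((CategoricalPullback.CatCommSqOver.toFunctorToCategoricalPullback (CategoricalPullback.π₂ p q) (CategoricalPullback.π₂ p q) (CategoricalPullback p q)).obj ⟨𝟭 _, 𝟭 _, Iso.refl _⟩)
      ((CategoricalPullback.CatCommSqOver.toFunctorToCategoricalPullback p p X).obj ⟨𝟭 _, 𝟭 _, Iso.refl _⟩)
      (FibCat.categoricalPullbackMap (⟨CategoricalPullback.π₁ p q, q, CategoricalPullback.π₁ p q, ⟨(CatCommSq.iso (CategoricalPullback.π₁ p q) (CategoricalPullback.π₂ p q) p q).symm⟩, ⟨(CatCommSq.iso (CategoricalPullback.π₁ p q) (CategoricalPullback.π₂ p q) p q).symm⟩⟩ : CatCospanTransform (CategoricalPullback.π₂ p q) (CategoricalPullback.π₂ p q) p p))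
      e := by
  refine ⟨NatIso.ofComponents (fun u => CategoricalPullback.mkIso (Iso.refl u.fst) (Iso.refl u.fst) ?w) ?nat, fun u => ⟨rfl, rfl⟩, ?eq⟩
  case w =>
    show p.map (𝟙 u.fst) ≫ _ = 𝟙 _ ≫ p.map (𝟙 u.fst)
    erw [map_iso]
    show p.map (𝟙 u.fst) ≫ (u.iso.hom ≫ q.map (𝟙 u.snd) ≫ u.iso.inv) = 𝟙 _ ≫ p.map (𝟙 u.fst)
    simp
  case nat =>
    intro u u' m
    apply CategoricalPullback.hom_ext
    · show m.fst ≫ 𝟙 _ = 𝟙 _ ≫ m.fst; simp
    · show m.fst ≫ 𝟙 _ = 𝟙 _ ≫ m.fst; simp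
  case eq =>
    show (Functor.IsEquivalence _)
    refine { full := ⟨fun {u u'} k => ?_⟩, faithful := ⟨fun {u u'} {m m'} h => congrArg (fun r => r.snd.fst) h⟩, essSurj := ⟨fun η => ?_⟩ }
    · have a1 : k.snd.fst.snd ≫ 𝟙 u'.snd = 𝟙 u.snd ≫ k.snd.snd.snd := k.snd.w
      have a2 : k.fst ≫ 𝟙 u'.fst = 𝟙 u.fst ≫ k.snd.fst.fst := congrArg (fun r => r.fst) k.w
      have a3 : k.fst ≫ 𝟙 u'.fst = 𝟙 u.fst ≫ k.snd.snd.fst := congrArg (fun r => r.snd) k.w
      replace a1 : k.snd.fst.snd = k.snd.snd.snd := (Category.comp_id _).symm.trans (a1.trans (Category.id_comp _))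
      replace a2 : k.fst = k.snd.fst.fst := (Category.comp_id _).symm.trans (a2.trans (Category.id_comp _))
      replace a3 : k.fst = k.snd.snd.fst := (Category.comp_id _).symm.trans (a3.trans (Category.id_comp _))
      exact ⟨k.snd.fst, CategoricalPullback.hom_ext a2.symm (CategoricalPullback.hom_ext rfl (CategoricalPullback.hom_ext (a2.symm.trans a3) a1))⟩
    · obtain ⟨x, ⟨a, b, j⟩, l⟩ := η
      change a.snd ≅ b.snd at j
      let l1 : x ≅ a.fst := (CategoricalPullback.π₁ p p).mapIso l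
      let l2 : x ≅ b.fst := (CategoricalPullback.π₂ p p).mapIso l
      have hl : p.map l1.hom ≫ a.iso.hom ≫ q.map j.hom ≫ b.iso.inv = p.map l2.hom := by
        have h : p.map l1.hom ≫ (a.iso.hom ≫ q.map j.hom ≫ b.iso.inv) = 𝟙 _ ≫ p.map l2.hom := by
          have h0 := l.hom.w
          erw [map_iso] at h0
          exact h0
        exact h.trans (Category.id_comp _)
      let β : a ≅ b := CategoricalPullback.mkIso (l1.symm ≪≫ l2) j (by
        show p.map (l1.inv ≫ l2.hom) ≫ b.iso.hom = a.iso.hom ≫ q.map j.hom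
        rw [Functor.map_comp, ← hl]
        simp)
      refine ⟨a, ⟨CategoricalPullback.mkIso l1.symm (CategoricalPullback.mkIso (Iso.refl a) β ?_) ?_⟩⟩
      · show (𝟙 a : a ⟶ a).snd ≫ j.hom = 𝟙 _ ≫ j.hom
        simp
      · apply CategoricalPullback.hom_ext
        · show l1.inv ≫ l1.hom = 𝟙 _ ≫ 𝟙 a.fst
          simp
        · show l1.inv ≫ l2.hom = 𝟙 _ ≫ (l1.inv ≫ l2.hom)
          simp

end Groth.Agent.S6447
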