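import Groth.Statements.S6448
import Mathlib

set_option autoImplicit false
open CategoryTheory
universe v u
open CatLim

namespace Groth.Agent.S6448

/-- In a category where spans complete to commutative squares and parallel pairs are coequalized by a
later arrow, every connected component is filtered (so the category is a disjoint union of filtered
categories). -/
theorem result {I : Type u} [Category.{v} I]
    (h1 : ∀ ⦃w x y : I⦄ (a : w ⟶ x) (b : w ⟶ y), ∃ (z : I) (c : x ⟶ z) (d : y ⟶ z), a ≫ c = b ≫ d)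
    (h2 : ∀ ⦃x y : I⦄ (a b : x ⟶ y), ∃ (z : I) (c : y ⟶ z), a ≫ c = b ≫ c)
    (j : ConnectedComponents I) : IsFiltered j.Component := by
  have hz : ∀ {x y : I}, Zigzag x y → ∃ (z : I) (_ : x ⟶ z) (_ : y ⟶ z), True := by
    intro x y h
    induction h with
    | refl => exact ⟨x, 𝟙 x, 𝟙 x, trivial⟩
    | tail _ hzag ih =>
      obtain ⟨z, a, b, -⟩ := ih
      rcases hzag with ⟨⟨g⟩⟩ | ⟨⟨g⟩⟩
      · obtain ⟨w, c, d, -⟩ := h1 b g
        exact ⟨w, a ≫ c, d, trivial⟩
      · exact ⟨z, a, g ≫ b, trivial⟩
  have hmem : ∀ (X : j.Component) {z : I}, (X.obj ⟶ z) → j.objectProperty z := fun X {z} g =>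
    ((Quotient.sound (s := Zigzag.setoid I) (Zigzag.of_inv g)) : (Quotient.mk'' z : CategoryTheory.ConnectedComponents I) = Quotient.mk'' X.obj).trans X.property
  haveI : IsFilteredOrEmpty j.Component :=
    { cocone_objs := fun X Y => by
        obtain ⟨z, a, b, -⟩ := hz (Quotient.exact' (X.property.trans Y.property.symm))
        exact ⟨⟨z, hmem X a⟩, ObjectProperty.homMk a, ObjectProperty.homMk b, trivial⟩
      cocone_maps := fun X Y f g => by
        obtain ⟨z, c, e⟩ := h2 f.hom g.hom
        exact ⟨⟨z, hmem Y c⟩, ObjectProperty.homMk c, ObjectProperty.hom_ext _ e⟩ }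
  exact { }

end Groth.Agent.S6448
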