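import Groth.Statements.S6484
-- import your own Groth.Agent.* helpers here

set_option autoImplicit false
set_option backward.isDefEq.respectTransparency.types false
universe u
open CategoryTheory AlgebraicGeometry
open CategoryTheory.Limits
open Cyc

namespace Groth.Agent.S6484

/-- If f : Y → X is completely decomposed (this prelude's Cyc.IsCompletelyDecomposed: over every point
of X lies a point of Y with trivial residue field extension) and g : X' → X is any morphism of
schemes, then the base change Y ×_X X' → X' is completely decomposed. Consequently the base change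
of an envelope (a proper completely decomposed morphism) is an envelope, properness being preserved
by base change. (The published envelope statement takes X′ → X between schemes locally of finite
type over a base; this row allows any g.) -/
theorem result (X X' Y : Scheme.{u}) (f : Y ⟶ X) (g : X' ⟶ X) (hcd : Cyc.IsCompletelyDecomposed f) : Cyc.IsCompletelyDecomposed (pullback.snd f g) := by
  intro x'
  obtain ⟨y, hy, hs⟩ := hcd (g x')
  haveI : IsIso (f.residueFieldMap y) := (ConcreteCategory.isIso_iff_bijective _).2 ⟨(f.residueFieldMap y).hom.injective, hs⟩
  let φ := inv (f.residueFieldMap y) ≫ (X.residueFieldCongr hy).hom ≫ g.residueFieldMap x'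
  have hw : (Spec.map φ ≫ Y.fromSpecResidueField y) ≫ f = X'.fromSpecResidueField x' ≫ g := by
    rw [Category.assoc, ← Scheme.Hom.SpecMap_residueFieldMap_fromSpecResidueField, ← Spec.map_comp_assoc,
      ← Scheme.Hom.SpecMap_residueFieldMap_fromSpecResidueField g x', ← Scheme.residueFieldCongr_fromSpecResidueField hy,
      ← Spec.map_comp_assoc]
    simp [φ]
  let l := pullback.lift _ _ hw
  obtain ⟨⟨z, φ'⟩, hl⟩ := (Scheme.SpecToEquivOfField (X'.residueField x') (pullback f g)).symm.surjective l
  change Spec.map φ' ≫ (pullback f g).fromSpecResidueField z = l at hl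
  have he : Spec.map φ' ≫ (pullback f g).fromSpecResidueField z ≫ pullback.snd f g = X'.fromSpecResidueField x' := by
    rw [← Category.assoc, hl]; exact pullback.lift_snd _ _ _
  have hz : pullback.snd f g z = x' := by
    have := congrArg (fun q => q (IsLocalRing.closedPoint (X'.residueField x'))) he
    simpa [Scheme.Hom.comp_apply] using this.trans (Scheme.fromSpecResidueField_apply _ _)
  refine ⟨z, hz, ?_⟩
  rw [← Scheme.Hom.SpecMap_residueFieldMap_fromSpecResidueField, ← Spec.map_comp_assoc] at he
  rw [← Scheme.residueFieldCongr_fromSpecResidueField hz, cancel_mono, Spec.map_inj] at he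
  intro c
  obtain ⟨d, hd⟩ : ∃ d, (X'.residueFieldCongr hz).hom d = φ' c :=
    ⟨(X'.residueFieldCongr hz).inv (φ' c), (X'.residueFieldCongr hz).inv_hom_id_apply _⟩
  refine ⟨d, φ'.hom.injective ?_⟩
  rw [← hd, ← he]
  rfl

end Groth.Agent.S6484
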