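import Groth.Statements.S6510
import Groth.Agent.Lib.H7MVTri
import Mathlib

set_option autoImplicit false
universe u
open CategoryTheory
attribute [local instance] HasDerivedCategory.standard
open DCoh

namespace Groth.Agent.S6510

attribute [local instance] HasDerivedCategory.standard


open AlgebraicGeometry CategoryTheory.Limits in
/-- If a scheme X is the union of two opens U and V, then for every E ∈ D(O_X) there is a distinguished
triangle E → Rj_{U,*}(E|_U) ⊕ Rj_{V,*}(E|_V) → Rj_{U∩V,*}(E|_{U∩V}) → E[1] in D(O_X). The objects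
are the stated ones; the morphisms of the triangle are only asserted to exist. (The published
statement is for ringed spaces; this row is for schemes.) -/
theorem result {X : Scheme.{u}} (U V : X.Opens) (hUV : U ⊔ V = ⊤)
    [DCoh.HasRpush U.ι] [DCoh.HasRpush V.ι] [DCoh.HasRpush (U ⊓ V).ι]
    [PreservesFiniteLimits (Scheme.Modules.restrictFunctor U.ι)]
    [PreservesFiniteLimits (Scheme.Modules.restrictFunctor V.ι)]
    [PreservesFiniteLimits (Scheme.Modules.restrictFunctor (U ⊓ V).ι)] (E : DCoh.D X) :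
    ∃ (a : E ⟶ ((DCoh.Rpush U.ι).obj ((DCoh.restrictD U.ι).obj E) ⊞ (DCoh.Rpush V.ι).obj ((DCoh.restrictD V.ι).obj E))) (b : ((DCoh.Rpush U.ι).obj ((DCoh.restrictD U.ι).obj E) ⊞ (DCoh.Rpush V.ι).obj ((DCoh.restrictD V.ι).obj E)) ⟶ (DCoh.Rpush (U ⊓ V).ι).obj ((DCoh.restrictD (U ⊓ V).ι).obj E)) (c : (DCoh.Rpush (U ⊓ V).ι).obj ((DCoh.restrictD (U ⊓ V).ι).obj E) ⟶ (E)⟦(1 : ℤ)⟧),
      Pretriangulated.Triangle.mk a b c ∈ Pretriangulated.distinguishedTriangles := by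
  obtain ⟨M, ⟨e₀⟩⟩ : ∃ M, Nonempty (DerivedCategory.Q.obj M ≅ E) := ⟨_, ⟨DerivedCategory.Q.objObjPreimageIso E⟩⟩
  obtain ⟨I, f, hI, hf, -, hinj⟩ := H5KInj.exists_kInjective M
  have := (DerivedCategory.isIso_Q_map_iff_quasiIso _ f).2 hf
  let e : DerivedCategory.Q.obj I ≅ E := (asIso (DerivedCategory.Q.map f)).symm ≪≫ e₀
  have key : ∀ (W : X.Opens) [DCoh.HasRpush W.ι],
      Nonempty (H7MVTri.fobj (𝟭 X.Modules) W I ≅ (DCoh.Rpush W.ι).obj ((DCoh.restrictD W.ι).obj E)) := fun W _ =>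
    ⟨(H7MV.nonempty_obj_rpush W I hI).some ≪≫ (DCoh.Rpush W.ι).mapIso ((DCoh.restrictD W.ι).mapIso e)⟩
  obtain ⟨T, hT, ⟨a₁⟩, ⟨a₂⟩, ⟨a₃⟩⟩ := H7MVTri.exists_triangle_mv_map (𝟭 X.Modules) U V I hinj
  let t₁ : H7MVTri.fobj (𝟭 X.Modules) (U ⊔ V) I ≅ E :=
    eqToIso (by rw [hUV]) ≪≫ (show H7MVTri.fobj (𝟭 X.Modules) ⊤ I ≅ DerivedCategory.Q.obj I from
      (H7MV.nonempty_obj_top I).some) ≪≫ e
  exact H7MVTri.exists_morphisms T hT (a₁ ≪≫ t₁) (a₂ ≪≫ biprod.mapIso (key U).some (key V).some) (a₃ ≪≫ (key (U ⊓ V)).some)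

end Groth.Agent.S6510
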