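import Groth.Statements.S6511
import Groth.Agent.S6510
import Groth.Agent.S0922
import Mathlib

set_option autoImplicit false
universe u
open CategoryTheory
attribute [local instance] HasDerivedCategory.standard
open DCoh

namespace Groth.Agent.S6511

open AlgebraicGeometry CategoryTheory.Limits in
/-- Let f : X → Y be a morphism of schemes and X = U ∪ V with U, V open; write a, b, c for the
restrictions of f to U, V, U ∩ V. For every E ∈ D(O_X) there is a distinguished triangle Rf_*E →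
Ra_*(E|_U) ⊕ Rb_*(E|_V) → Rc_*(E|_{U∩V}) → Rf_*E[1] in D(O_Y). The objects are the stated ones; the
morphisms are only asserted to exist. (The published statement is for ringed spaces; this row is for
schemes.) -/
theorem result {X Y : Scheme.{u}} (f : X ⟶ Y) (U V : X.Opens) (hUV : U ⊔ V = ⊤)
    [DCoh.HasRpush f] [DCoh.HasRpush (U.ι ≫ f)] [DCoh.HasRpush (V.ι ≫ f)] [DCoh.HasRpush ((U ⊓ V).ι ≫ f)]
    [PreservesFiniteLimits (Scheme.Modules.restrictFunctor U.ι)]
    [PreservesFiniteLimits (Scheme.Modules.restrictFunctor V.ι)]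
    [PreservesFiniteLimits (Scheme.Modules.restrictFunctor (U ⊓ V).ι)] (E : DCoh.D X) :
    ∃ (a : (DCoh.Rpush f).obj E ⟶ ((DCoh.Rpush (U.ι ≫ f)).obj ((DCoh.restrictD U.ι).obj E) ⊞ (DCoh.Rpush (V.ι ≫ f)).obj ((DCoh.restrictD V.ι).obj E))) (b : ((DCoh.Rpush (U.ι ≫ f)).obj ((DCoh.restrictD U.ι).obj E) ⊞ (DCoh.Rpush (V.ι ≫ f)).obj ((DCoh.restrictD V.ι).obj E)) ⟶ (DCoh.Rpush ((U ⊓ V).ι ≫ f)).obj ((DCoh.restrictD (U ⊓ V).ι).obj E)) (c : (DCoh.Rpush ((U ⊓ V).ι ≫ f)).obj ((DCoh.restrictD (U ⊓ V).ι).obj E) ⟶ ((DCoh.Rpush f).obj E)⟦(1 : ℤ)⟧),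
      Pretriangulated.Triangle.mk a b c ∈ Pretriangulated.distinguishedTriangles := by

  have hU : DCoh.HasRpush U.ι := Groth.Agent.H7MV.hasRpush _
  have hV : DCoh.HasRpush V.ι := Groth.Agent.H7MV.hasRpush _
  have hW : DCoh.HasRpush (U ⊓ V).ι := Groth.Agent.H7MV.hasRpush _
  obtain ⟨a, b, c, hT⟩ := Groth.Agent.S6510.result U V hUV E
  have hra := Groth.Agent.H7RpushAdj.preservesLimits_rpush f
  have hlim : PreservesLimitsOfSize.{0, 0} (DCoh.Rpush f) := (Adjunction.ofIsRightAdjoint _).rightAdjoint_preservesLimits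
  have hbi : PreservesBinaryBiproducts (DCoh.Rpush f) := preservesBinaryBiproducts_of_preservesBinaryProducts _
  let key : ∀ (W : X.Opens) [DCoh.HasRpush W.ι] [DCoh.HasRpush (W.ι ≫ f)],
      (DCoh.Rpush f).obj ((DCoh.Rpush W.ι).obj ((DCoh.restrictD W.ι).obj E)) ≅
        (DCoh.Rpush (W.ι ≫ f)).obj ((DCoh.restrictD W.ι).obj E) := fun W _ _ =>
    (Groth.Agent.S0922.result W.ι f).some.app _
  let e2 := (DCoh.Rpush f).mapBiprod ((DCoh.Rpush U.ι).obj ((DCoh.restrictD U.ι).obj E))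
      ((DCoh.Rpush V.ι).obj ((DCoh.restrictD V.ι).obj E)) ≪≫ biprod.mapIso (key U) (key V)
  let e3 := key (U ⊓ V)
  obtain ⟨c', hT'⟩ := Groth.Agent.H7RpushAdj.exists_rpush_triangle f _ hT
  refine ⟨(DCoh.Rpush f).map a ≫ e2.hom, e2.inv ≫ (DCoh.Rpush f).map b ≫ e3.hom,
    e3.inv ≫ c',
    Pretriangulated.isomorphic_distinguished _ hT' _ ?_⟩
  exact Pretriangulated.Triangle.isoMk _ _ (Iso.refl _) e2.symm e3.symm
    ((Category.assoc _ _ _).trans (((congrArg _ e2.hom_inv_id).trans (Category.comp_id _)).trans (Category.id_comp _).symm))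
    ((Category.assoc _ _ _).trans (congrArg (e2.inv ≫ ·) ((Category.assoc _ _ _).trans
      ((congrArg _ e3.hom_inv_id).trans (Category.comp_id _)))))
    ((congrArg ((e3.inv ≫ c') ≫ ·) ((shiftFunctor (DCoh.D Y) (1 : ℤ)).map_id _)).trans (Category.comp_id _))

end Groth.Agent.S6511
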