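import Groth.Statements.S6512
import Groth.Agent.Lib.H7MVTri
import Groth.Agent.Lib.H7RGamma
import Mathlib

set_option autoImplicit false
universe u
open CategoryTheory
attribute [local instance] HasDerivedCategory.standard
open DCoh

namespace Groth.Agent.S6512

attribute [local instance] HasDerivedCategory.standard


open AlgebraicGeometry CategoryTheory.Limits in
/-- If a scheme X is the union of two opens U and V, then for every E ∈ D(O_X) there is a distinguished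
triangle RΓ(X, E) → RΓ(U, E) ⊕ RΓ(V, E) → RΓ(U ∩ V, E) → RΓ(X, E)[1] in D(Ab), where RΓ(U, E) means
RΓ(U, E|_U). The objects are the stated ones; the morphisms are only asserted to exist (the long
exact cohomology sequence follows by applying the homological functor H^0). (The published statement
is for ringed spaces; this row is for schemes.) -/
theorem result {X : Scheme.{u}} (U V : X.Opens) (hUV : U ⊔ V = ⊤)
    [DCoh.HasRΓ X] [DCoh.HasRΓ (U : Scheme.{u})] [DCoh.HasRΓ (V : Scheme.{u})] [DCoh.HasRΓ (U ⊓ V : X.Opens)]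
    [PreservesFiniteLimits (Scheme.Modules.restrictFunctor U.ι)]
    [PreservesFiniteLimits (Scheme.Modules.restrictFunctor V.ι)]
    [PreservesFiniteLimits (Scheme.Modules.restrictFunctor (U ⊓ V).ι)] (E : DCoh.D X) :
    ∃ (a : (DCoh.RΓ X).obj E ⟶ ((DCoh.RΓ (U : Scheme.{u})).obj ((DCoh.restrictD U.ι).obj E) ⊞ (DCoh.RΓ (V : Scheme.{u})).obj ((DCoh.restrictD V.ι).obj E))) (b : ((DCoh.RΓ (U : Scheme.{u})).obj ((DCoh.restrictD U.ι).obj E) ⊞ (DCoh.RΓ (V : Scheme.{u})).obj ((DCoh.restrictD V.ι).obj E)) ⟶ (DCoh.RΓ (U ⊓ V : X.Opens)).obj ((DCoh.restrictD (U ⊓ V).ι).obj E)) (c : (DCoh.RΓ (U ⊓ V : X.Opens)).obj ((DCoh.restrictD (U ⊓ V).ι).obj E) ⟶ ((DCoh.RΓ X).obj E)⟦(1 : ℤ)⟧),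
      Pretriangulated.Triangle.mk a b c ∈ Pretriangulated.distinguishedTriangles := by
  obtain ⟨M, ⟨e₀⟩⟩ : ∃ M, Nonempty (DerivedCategory.Q.obj M ≅ E) := ⟨_, ⟨DerivedCategory.Q.objObjPreimageIso E⟩⟩
  obtain ⟨I, f, hI, hf, -, hinj⟩ := H5KInj.exists_kInjective M
  have := (DerivedCategory.isIso_Q_map_iff_quasiIso _ f).2 hf
  let e : DerivedCategory.Q.obj I ≅ E := (asIso (DerivedCategory.Q.map f)).symm ≪≫ e₀
  have key : ∀ (W : X.Opens) [DCoh.HasRΓ W.toScheme] [PreservesFiniteLimits (Scheme.Modules.restrictFunctor W.ι)],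
      Nonempty (H7MVTri.fobj (DCoh.gammaAb X) W I ≅ (DCoh.RΓ W.toScheme).obj ((DCoh.restrictD W.ι).obj E)) :=
    fun W _ _ => ⟨(H7RGamma.nonempty_rg_restrict X W I hI).some ≪≫
      (DCoh.RΓ W.toScheme).mapIso ((DCoh.restrictD W.ι).mapIso e)⟩
  obtain ⟨T, hT, ⟨a₁⟩, ⟨a₂⟩, ⟨a₃⟩⟩ := H7MVTri.exists_triangle_mv_map (DCoh.gammaAb X) U V I hinj
  haveI : ∀ M : X.Modules, IsIso ((Scheme.Modules.restrictAdjunction (⊤ : X.Opens).ι).unit.app M) :=
    H7MV.isIso_unit_top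
  let u : 𝟭 X.Modules ≅ CechOX.pushRestr (⊤ : X.Opens) :=
    NatIso.ofComponents (fun M => asIso ((Scheme.Modules.restrictAdjunction (⊤ : X.Opens).ι).unit.app M))
      (fun φ => (Scheme.Modules.restrictAdjunction (⊤ : X.Opens).ι).unit.naturality φ)
  let t₁ : H7MVTri.fobj (DCoh.gammaAb X) (U ⊔ V) I ≅ (DCoh.RΓ X).obj E :=
    eqToIso (by rw [hUV]) ≪≫ DerivedCategory.Q.mapIso
      ((NatIso.mapHomologicalComplex (Functor.isoWhiskerRight u.symm (DCoh.gammaAb X)) _).app I) ≪≫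
      (show DerivedCategory.Q.obj (((𝟭 X.Modules ⋙ DCoh.gammaAb X).mapHomologicalComplex _).obj I) ≅
        (DCoh.RΓ X).obj (DerivedCategory.Q.obj I) from (H7RGamma.rgIso X I hI).symm) ≪≫ (DCoh.RΓ X).mapIso e
  exact H7MVTri.exists_morphisms T hT (a₁ ≪≫ t₁) (a₂ ≪≫ biprod.mapIso (key U).some (key V).some) (a₃ ≪≫ (key (U ⊓ V)).some)

end Groth.Agent.S6512
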