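import Groth.Statements.S6516
import Groth.Agent.Lib.H7FinFree
import Mathlib

set_option autoImplicit false
universe u
open CategoryTheory
open DCoh

namespace Groth.Agent.S6516

open AlgebraicGeometry in
/-- Schemes; with the bounded finite-locally-free reading of strictly perfect used throughout this
problem's derived-category definitions: the mapping cone of a morphism between strictly perfect
complexes of O_X-modules is strictly perfect. -/
theorem result {X : Scheme.{u}} {E F : CochainComplex X.Modules ℤ} (φ : E ⟶ F)
    (hE : DCoh.IsStrictlyPerfect E) (hF : DCoh.IsStrictlyPerfect F) :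
    DCoh.IsStrictlyPerfect (CochainComplex.mappingCone φ) := by
  obtain ⟨⟨a, b, hab⟩, hfE⟩ := hE
  obtain ⟨⟨c, d, hcd⟩, hfF⟩ := hF
  refine ⟨⟨min a c - 1, max b d, fun k hk => (CochainComplex.mappingCone.isZero_X_iff φ k).2
    ⟨hab _ (by omega), hcd k (by omega)⟩⟩, fun k => ?_⟩
  have := HomologicalComplex.HasHomotopyCofiber.hasBinaryBiproduct φ k (k + 1) rfl
  exact H7FinFree.finLocFree_of_iso
    ((Limits.biprod.isoCoprod (E.X (k + 1)) (F.X k)).symm ≪≫ (HomologicalComplex.homotopyCofiber.XIsoBiprod φ k (k + 1) rfl).symm)
    (H7FinFree.finLocFree_sigma (fun j : Limits.WalkingPair => Limits.WalkingPair.casesOn (motive := fun _ => X.Modules) j (E.X (k + 1)) (F.X k))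
      (fun j => by cases j; exacts [hfE _, hfF _]))

end Groth.Agent.S6516
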