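import Groth.Statements.S6518
import Groth.Agent.Lib.H7PseudoSingle
import Mathlib

set_option autoImplicit false
universe u
open CategoryTheory
attribute [local instance] HasDerivedCategory.standard
open DCoh

namespace Groth.Agent.S6518

attribute [local instance] HasDerivedCategory.standard


open AlgebraicGeometry in
/-- Let X be a scheme and F an O_X-module, viewed as an object of D(O_X) placed in degree 0. Then (1)
finite type of the O_X-module F is equivalent to F being 0-pseudo-coherent, and (2) F admits a
finite presentation as an O_X-module exactly when it is (−1)-pseudo-coherent. (The published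
statement is for ringed spaces; this row is for schemes.) -/
theorem result {X : Scheme.{u}} (F : X.Modules) :
    (DCoh.IsPseudoCoherentD 0 (DCoh.inD X F) ↔ CohB1.IsFT F) ∧
    (DCoh.IsPseudoCoherentD (-1) (DCoh.inD X F) ↔ CohB1.IsFP F) := by
  exact ⟨⟨H7PseudoSingle.isFT_of_isPseudo, H7PseudoSingle.isPseudo_of_isFT⟩,
    ⟨H7PseudoSingle.isFP_of_isPseudo, H7PseudoSingle.isPseudo_of_isFP⟩⟩

end Groth.Agent.S6518
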