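import Groth.Statements.S6528
import Groth.Agent.S6510
import Groth.Agent.Lib.H7SuppZero
import Mathlib

set_option autoImplicit false
universe u
open CategoryTheory
attribute [local instance] HasDerivedCategory.standard
open DCoh

namespace Groth.Agent.S6528

attribute [local instance] HasDerivedCategory.standard


open AlgebraicGeometry CategoryTheory.Limits in
/-- Let j : U → X be an open subscheme and T ⊆ U a subset which is closed in X. (1) If E ∈ D(O_X) has
cohomology sheaves supported on T, then E ≅ Rj_*(E|_U). (2) If F ∈ D(O_U) has cohomology sheaves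
supported on T, then j_!F ≅ Rj_*F. The published statement asserts that the canonical maps are
isomorphisms; this row asserts only that isomorphisms exist. (The published statement is for ringed
spaces; this row is for schemes.) -/
theorem result {X : Scheme.{u}} (U : X.Opens) [DCoh.HasRpush U.ι]
    [PreservesFiniteLimits (CxOX.extZero U.ι)] (T : Set X) (hT : IsClosed T) (hTU : T ⊆ (U : Set X)) :
    (∀ E : DCoh.D X, (∀ i : ℤ, CohB1.support (DCoh.HD E i) ⊆ T) →
      Nonempty (E ≅ (DCoh.Rpush U.ι).obj ((DCoh.restrictD U.ι).obj E))) ∧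
    (∀ F : DCoh.D (U : Scheme.{u}),
      (∀ i : ℤ, (fun x : (U : Scheme.{u}) => U.ι.base x) '' CohB1.support (DCoh.HD F i) ⊆ T) →
      Nonempty ((CxOX.extZeroD U.ι).obj F ≅ (DCoh.Rpush U.ι).obj F)) := by
  let V : X.Opens := ⟨Tᶜ, hT.isOpen_compl⟩
  have hUV : U ⊔ V = ⊤ := top_le_iff.1 fun x _ => (em (x ∈ T)).elim (fun h => Or.inl (hTU h)) Or.inr
  haveI := H7MV.hasRpush V.ι
  haveI := H7MV.hasRpush (U ⊓ V).ι
  have h₁ : ∀ E : DCoh.D X, (∀ i : ℤ, CohB1.support (DCoh.HD E i) ⊆ T) →
      Nonempty (E ≅ (DCoh.Rpush U.ι).obj ((DCoh.restrictD U.ι).obj E)) := by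
    intro E hE
    have hz : ∀ (W : X.Opens) [DCoh.HasRpush W.ι], W ≤ V →
        IsZero ((DCoh.Rpush W.ι).obj ((DCoh.restrictD W.ι).obj E)) := fun W _ hW =>
      haveI := H7RpushAdj.preservesLimits_rpush W.ι
      haveI : (DCoh.Rpush W.ι).PreservesZeroMorphisms :=
        Functor.preservesZeroMorphisms_of_isRightAdjoint _
      (DCoh.Rpush W.ι).map_isZero (H7SuppZero.isZero_rD W.ι E fun i y hy => hW y.2 (hE i hy))
    obtain ⟨a, b, c, hT'⟩ := S6510.result U V hUV E
    have hV := hz V le_rfl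
    have : IsIso a := (Pretriangulated.Triangle.isZero₃_iff_isIso₁ _ hT').1 (hz (U ⊓ V) inf_le_right)
    exact ⟨@asIso _ _ _ _ a this ≪≫
      { hom := biprod.fst
        inv := biprod.inl
        hom_inv_id := biprod.hom_ext _ _ (by simp) (hV.eq_of_tgt _ _)
        inv_hom_id := biprod.inl_fst }⟩
  refine ⟨h₁, fun F hF => ?_⟩
  obtain ⟨e⟩ := h₁ ((CxOX.extZeroD U.ι).obj F) fun i => (H7SuppZero.support_HD_extZeroD U.ι F i).trans (hF i)
  exact ⟨e ≪≫ (DCoh.Rpush U.ι).mapIso (H7SuppZero.nonempty_rD_extZeroD U.ι F).some⟩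

end Groth.Agent.S6528
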