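import Groth.Statements.S6519
import Groth.Agent.S6528
import Groth.Agent.Lib.H7PerfTri
import Mathlib

set_option autoImplicit false
universe u
open CategoryTheory
attribute [local instance] HasDerivedCategory.standard
open DCoh

namespace Groth.Agent.S6519

open CategoryTheory.Limits AlgebraicGeometry


open AlgebraicGeometry in
/-- Let j : U → X be the inclusion of an open subscheme, and let T ⊆ U be a closed subset whose image
j(T) is also closed in X. Suppose E in D(O_U) is perfect and every cohomology sheaf of E has support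
contained in T. In that case the derived pushforward Rj_*E is perfect as an object of D(O_X). (The
published statement is for ringed spaces; this row is for schemes.) -/
theorem result {X : Scheme.{u}} (U : X.Opens) [DCoh.HasRpush U.ι]
    (E : DCoh.D (U : Scheme.{u})) (hE : DCoh.IsPerfect E) (T : Set (U : Scheme.{u}))
    (hT : IsClosed T) (hjT : IsClosed ((fun x : (U : Scheme.{u}) => U.ι.base x) '' T))
    (hsupp : ∀ i : ℤ, CohB1.support (DCoh.HD E i) ⊆ T) :
    DCoh.IsPerfect ((DCoh.Rpush U.ι).obj E) := by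
  haveI : PreservesFiniteLimits (CxOX.extZero U.ι) := Groth.Agent.LExtZero.preservesFiniteLimits_extZero U.ι
  let T' : Set X := (fun x : (U : Scheme.{u}) => U.ι.base x) '' T
  have hT'U : T' ⊆ (U : Set X) := by
    rintro _ ⟨x, -, rfl⟩
    exact x.2
  have hF : ∀ i : ℤ, (fun x : (U : Scheme.{u}) => U.ι.base x) '' CohB1.support (DCoh.HD E i) ⊆ T' := fun i =>
    Set.image_mono (hsupp i)
  obtain ⟨e⟩ := (Groth.Agent.S6528.result U T' hjT hT'U).2 E hF
  refine Groth.Agent.H7PerfTri.isPerfect_of_iso e ((Groth.Agent.H7PerfTri.isPerfect_iff _).2 fun x => ?_)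
  by_cases hx : x ∈ (U : Set X)
  · obtain ⟨W, j, _, P, ⟨w, hw⟩, hP, ⟨eP⟩⟩ := (Groth.Agent.H7PerfTri.isPerfect_iff E).1 hE ⟨x, hx⟩
    exact ⟨W, j ≫ U.ι, inferInstance, P, ⟨w, congrArg U.ι.base hw⟩, hP,
      ⟨(Groth.Agent.H7PerfTri.rDComp j U.ι (j ≫ U.ι) rfl _).symm ≪≫
        (Groth.Agent.H7PerfTri.rD j).mapIso (Groth.Agent.H7SuppZero.nonempty_rD_extZeroD U.ι E).some ≪≫ eP⟩⟩
  · let V : X.Opens := ⟨T'ᶜ, hjT.isOpen_compl⟩
    have hz := Groth.Agent.H7SuppZero.isZero_rD V.ι ((CxOX.extZeroD U.ι).obj E) fun i y hy =>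
      y.2 (((Groth.Agent.H7SuppZero.support_HD_extZeroD U.ι E i).trans (hF i)) hy)
    refine ⟨V, V.ι, inferInstance, (HasZeroObject.zero' (CochainComplex (V : Scheme.{u}).Modules ℤ)).1,
      ⟨⟨x, fun h => hx (hT'U h)⟩, rfl⟩, ?_, ⟨hz.iso (Functor.map_isZero _ (isZero_zero _))⟩⟩
    have hk : ∀ k, IsZero ((HasZeroObject.zero' (CochainComplex (V : Scheme.{u}).Modules ℤ)).1.X k) := fun k =>
      (HomologicalComplex.eval _ (ComplexShape.up ℤ) k).map_isZero (isZero_zero _)
    refine ⟨⟨0, 0, fun k _ => hk k⟩, fun k => fun z => ⟨⊤, 0, trivial, ⟨?_⟩⟩⟩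
    refine ((Scheme.Modules.restrictFunctor _).map_isZero (hk k)).iso ?_
    exact (IsZero.iff_id_eq_zero _).2 (Limits.Sigma.hom_ext _ _ fun i => i.elim0)

end Groth.Agent.S6519
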