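import Groth.Statements.S6602
import Mathlib

set_option autoImplicit false
set_option backward.isDefEq.respectTransparency.types false
set_option maxHeartbeats 1000000
set_option linter.all false
universe v u
open CategoryTheory CategoryTheory.Limits
open CohDer

namespace Groth.Agent.S6602
open Groth.Agent

open CategoryTheory.Pretriangulated in
/-- (1) ⇔ (2): let D be a triangulated category and B a full triangulated subcategory. The inclusion
functor B → D has a left adjoint if and only if for every X in D there is a distinguished triangle A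
→ X → B → A⟦1⟧ with B in B and A in the left orthogonal ^⊥B. (The published statement further
asserts that B is then saturated and, when strictly full, equals the right orthogonal of its left
orthogonal; this row asserts only the equivalence.) -/
theorem result {D : Type u} [Category.{v} D] [Preadditive D] [HasZeroObject D] [HasShift D ℤ]
    [∀ n : ℤ, (shiftFunctor D n).Additive] [Pretriangulated D] [IsTriangulated D]
    (P : ObjectProperty D) [P.IsTriangulated] :
    P.ι.IsRightAdjoint ↔ ∀ X : D, ∃ (A B : D) (f : A ⟶ X) (g : X ⟶ B) (h : B ⟶ (shiftFunctor D (1 : ℤ)).obj A),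
      Triangle.mk f g h ∈ distinguishedTriangles ∧ P B ∧ P.leftOrthogonal A := by
    constructor
    · intro hR X
      let adj := Adjunction.ofIsRightAdjoint P.ι
      let B := (Functor.leftAdjoint P.ι).obj X
      let g : X ⟶ B.obj := adj.unit.app X
      have hb : ∀ (B' : P.FullSubcategory) (φ : X ⟶ B'.obj), ∃! ψ : B.obj ⟶ B'.obj, g ≫ ψ = φ := by
        intro B' φ
        refine ⟨((adj.homEquiv X B').symm φ).hom, ?_, fun ψ hψ => ?_⟩
        · exact (adj.homEquiv X B').apply_symm_apply φ |> (Eq.trans (adj.homEquiv_unit X B' _).symm)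
        · have e : adj.homEquiv X B' (ObjectProperty.homMk ψ) = φ := (adj.homEquiv_unit X B' _).trans hψ
          rw [← e, Equiv.symm_apply_apply]; rfl
      obtain ⟨A, f, h, hT⟩ := Pretriangulated.distinguished_cocone_triangle₁ g
      refine ⟨A, B.obj, f, g, h, hT, B.property, fun B' φ hB' => ?_⟩
      let B'' : P.FullSubcategory := ⟨(shiftFunctor D (1 : ℤ)).obj B', P.le_shift 1 _ hB'⟩
      have h1 : h ≫ (shiftFunctor D (1 : ℤ)).map φ = 0 := by
        refine (hb B'' 0).unique ?_ (comp_zero)
        rw [← Category.assoc]
        exact (congrArg (fun t => t ≫ (shiftFunctor D (1 : ℤ)).map φ)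
          (Pretriangulated.comp_distTriang_mor_zero₂₃ _ hT)).trans zero_comp
      obtain ⟨χ', hχ⟩ := Pretriangulated.Triangle.yoneda_exact₂ _
          (Pretriangulated.rot_of_distTriang _ (Pretriangulated.rot_of_distTriang _ hT))
          ((shiftFunctor D (1 : ℤ)).map φ) h1
      change (shiftFunctor D (1 : ℤ)).obj X ⟶ (shiftFunctor D (1 : ℤ)).obj B' at χ'
      change (shiftFunctor D (1 : ℤ)).map φ = (-(shiftFunctor D (1 : ℤ)).map f) ≫ χ' at hχ
      obtain ⟨χ, rfl⟩ := (shiftFunctor D (1 : ℤ)).map_surjective χ'
      obtain ⟨χ₀, hχ₀, -⟩ := hb ⟨B', hB'⟩ χ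
      apply (shiftFunctor D (1 : ℤ)).map_injective
      rw [hχ, Preadditive.neg_comp, ← Functor.map_comp, ← hχ₀, ← Category.assoc,
        (show f ≫ g = 0 from Pretriangulated.comp_distTriang_mor_zero₁₂ _ hT), zero_comp]
      simp
    · intro hyp
      choose A B f g h hT hB hA using hyp
      let L : D → P.FullSubcategory := fun X => ⟨B X, hB X⟩
      have bij : ∀ (X : D) (Y : P.FullSubcategory),
          Function.Bijective (fun φ : L X ⟶ Y => g X ≫ φ.hom) := by
        intro X Y
        constructor
        · intro a b hab
          apply ObjectProperty.hom_ext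
          rw [← sub_eq_zero]
          have h0 : g X ≫ (a.hom - b.hom) = 0 := by
            rw [Preadditive.comp_sub, sub_eq_zero]; exact hab
          obtain ⟨β, hβ⟩ := Pretriangulated.Triangle.yoneda_exact₃ _ (hT X) _ h0
          have : β = 0 := (P.leftOrthogonal.le_shift (1 : ℤ) _ (hA X)) β Y.property
          rw [this] at hβ
          exact hβ.trans comp_zero
        · intro φ
          obtain ⟨ψ, hψ⟩ := Pretriangulated.Triangle.yoneda_exact₂ _ (hT X) φ (hA X (f X ≫ φ) Y.property)
          exact ⟨ObjectProperty.homMk ψ, hψ.symm⟩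
      exact ⟨_, ⟨Adjunction.adjunctionOfEquivLeft
        (fun X Y => Equiv.ofBijective _ (bij X Y))
        (fun X Y Y' φ ψ => (Category.assoc _ _ _).symm)⟩⟩

end Groth.Agent.S6602
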