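import Groth.Statements.S6607
import Mathlib

set_option autoImplicit false
set_option backward.isDefEq.respectTransparency.types false
set_option maxHeartbeats 1000000
set_option linter.all false
universe v u
open CategoryTheory CategoryTheory.Limits
open CohDer

namespace Groth.Agent.S6607.Aux

open CategoryTheory CategoryTheory.Limits CategoryTheory.Pretriangulated

variable {D : Type u} [Category.{v} D] [Preadditive D] [HasZeroObject D] [HasShift D ℤ]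
  [∀ n : ℤ, (shiftFunctor D n).Additive] [Pretriangulated D] [IsTriangulated D]
  (B : ObjectProperty D) [B.IsTriangulated]

/-- `g` is a reflection of `X` in `B` -/
def Refl {X Y : D} (g : X ⟶ Y) : Prop :=
  B Y ∧ ∀ (B' : D) (φ : X ⟶ B'), B B' → ∃! ψ : Y ⟶ B', g ≫ ψ = φ

variable {B}

theorem Refl.zero {X Y B' : D} {g : X ⟶ Y} (hg : Refl B g) (hB : B B') (ψ : Y ⟶ B') (h : g ≫ ψ = 0) :
    ψ = 0 :=
  (hg.2 B' 0 hB).unique h comp_zero

theorem of_triangle {A X Y : D} (f : A ⟶ X) (g : X ⟶ Y) (h : Y ⟶ (shiftFunctor D (1 : ℤ)).obj A)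
    (hT : Triangle.mk f g h ∈ distinguishedTriangles) (hY : B Y) (hA : B.leftOrthogonal A) :
    Refl B g := by
  refine ⟨hY, fun B' φ hB => ?_⟩
  obtain ⟨ψ, hψ⟩ : ∃ ψ : Y ⟶ B', φ = g ≫ ψ := Triangle.yoneda_exact₂ _ hT φ (hA (f ≫ φ) hB)
  refine ⟨ψ, hψ.symm, fun ψ' hψ' => ?_⟩
  rw [← sub_eq_zero]
  have h0 : g ≫ (ψ' - ψ) = 0 := by
    rw [Preadditive.comp_sub, hψ', sub_eq_zero]
    exact hψ
  obtain ⟨β, hβ⟩ := Triangle.yoneda_exact₃ _ hT _ h0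
  have hb : β = 0 := (B.leftOrthogonal.le_shift (1 : ℤ) _ hA) β hB
  rw [hb] at hβ
  exact hβ.trans comp_zero

theorem to_triangle {X Y : D} {g : X ⟶ Y} (hg : Refl B g) :
    ∃ (A Y : D) (f : A ⟶ X) (g : X ⟶ Y) (h : Y ⟶ (shiftFunctor D (1 : ℤ)).obj A),
      Triangle.mk f g h ∈ distinguishedTriangles ∧ B Y ∧ B.leftOrthogonal A := by
  obtain ⟨A, f, h, hT⟩ := distinguished_cocone_triangle₁ g
  refine ⟨A, Y, f, g, h, hT, hg.1, fun B' φ hB' => ?_⟩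
  have h1 : h ≫ (shiftFunctor D (1 : ℤ)).map φ = 0 := by
    refine hg.zero (B.le_shift 1 _ hB') _ ?_
    rw [← Category.assoc]
    exact (congrArg (fun t => t ≫ (shiftFunctor D (1 : ℤ)).map φ)
      (comp_distTriang_mor_zero₂₃ _ hT)).trans zero_comp
  obtain ⟨χ', hχ⟩ := Triangle.yoneda_exact₂ _ (rot_of_distTriang _ (rot_of_distTriang _ hT))
    ((shiftFunctor D (1 : ℤ)).map φ) h1
  change (shiftFunctor D (1 : ℤ)).obj X ⟶ (shiftFunctor D (1 : ℤ)).obj B' at χ'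
  change (shiftFunctor D (1 : ℤ)).map φ = (-(shiftFunctor D (1 : ℤ)).map f) ≫ χ' at hχ
  obtain ⟨χ, rfl⟩ := (shiftFunctor D (1 : ℤ)).map_surjective χ'
  obtain ⟨χ₀, hχ₀, -⟩ := hg.2 B' χ hB'
  apply (shiftFunctor D (1 : ℤ)).map_injective
  rw [hχ, Preadditive.neg_comp, ← Functor.map_comp, ← hχ₀, ← Category.assoc,
    (show f ≫ g = 0 from comp_distTriang_mor_zero₁₂ _ hT), zero_comp]
  simp

theorem Refl.shift {X Y : D} {g : X ⟶ Y} (hg : Refl B g) (n : ℤ) :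
    Refl B ((shiftFunctor D n).map g) := by
  refine ⟨B.le_shift n _ hg.1, fun B' φ hB => ?_⟩
  let e : (shiftFunctor D n).obj ((shiftFunctor D (-n)).obj B') ≅ B' :=
    (shiftFunctorCompIsoId D (-n) n (by simp)).app B'
  have hB'' := B.le_shift (-n) _ hB
  obtain ⟨φ₀, hφ₀⟩ := (shiftFunctor D n).map_surjective (φ ≫ e.inv)
  obtain ⟨ψ₀, hψ₀, huniq⟩ := hg.2 _ φ₀ hB''
  refine ⟨(shiftFunctor D n).map ψ₀ ≫ e.hom, ?_, fun ψ hψ => ?_⟩
  · show (shiftFunctor D n).map g ≫ (shiftFunctor D n).map ψ₀ ≫ e.hom = φ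
    rw [← Category.assoc, ← Functor.map_comp, hψ₀, hφ₀, Category.assoc, e.inv_hom_id, Category.comp_id]
  · obtain ⟨ψ₁, hψ₁⟩ := (shiftFunctor D n).map_surjective (ψ ≫ e.inv)
    have : ψ₁ = ψ₀ := huniq _ ((shiftFunctor D n).map_injective (by
      rw [Functor.map_comp, hψ₁, hφ₀, ← Category.assoc, hψ]))
    rw [← this, hψ₁, Category.assoc, e.inv_hom_id, Category.comp_id]

theorem Refl.ext (T : Triangle D) (hT : T ∈ distinguishedTriangles) {Y₁ Y₃ : D} {g₁ : T.obj₁ ⟶ Y₁}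
    {g₃ : T.obj₃ ⟶ Y₃} (h₁ : Refl B g₁) (h₃ : Refl B g₃) :
    ∃ (Y₂ : D) (g₂ : T.obj₂ ⟶ Y₂), Refl B g₂ := by
  obtain ⟨w', hw', -⟩ := h₃.2 _ (T.mor₃ ≫ (shiftFunctor D (1 : ℤ)).map g₁) (B.le_shift 1 _ h₁.1)
  obtain ⟨Y₂, u, v, hU⟩ := distinguished_cocone_triangle₂ w'
  obtain ⟨g₂, hc₁, hc₂⟩ : ∃ g₂ : T.obj₂ ⟶ Y₂, T.mor₁ ≫ g₂ = g₁ ≫ u ∧ T.mor₂ ≫ g₃ = g₂ ≫ v :=
    complete_distinguished_triangle_morphism₂ T _ hT hU g₁ g₃ hw'.symm
  obtain ⟨Z, hZ, ⟨e⟩⟩ := B.ext_of_isTriangulatedClosed₂' _ hU h₁.1 h₃.1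
  change Y₂ ≅ Z at e
  refine ⟨Z, g₂ ≫ e.hom, hZ, fun B' φ hB => ?_⟩
  suffices hs : ∃! χ : Y₂ ⟶ B', g₂ ≫ χ = φ by
    obtain ⟨χ, hχ, hu⟩ := hs
    refine ⟨e.inv ≫ χ, ?_, fun ψ hψ => ?_⟩
    · show (g₂ ≫ e.hom) ≫ e.inv ≫ χ = φ
      rw [Category.assoc, e.hom_inv_id_assoc, hχ]
    · rw [← hu (e.hom ≫ ψ) (by show g₂ ≫ e.hom ≫ ψ = φ; rw [← Category.assoc]; exact hψ), e.inv_hom_id_assoc]
  have hinj : ∀ ψ : Y₂ ⟶ B', g₂ ≫ ψ = 0 → ψ = 0 := by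
    intro ψ hψ
    obtain ⟨ρ, hρ⟩ : ∃ ρ : Y₃ ⟶ B', ψ = v ≫ ρ := Triangle.yoneda_exact₂ _ hU ψ
      (h₁.zero hB _ (by
        show g₁ ≫ u ≫ ψ = 0
        rw [← Category.assoc, ← hc₁, Category.assoc, hψ, comp_zero]))
    obtain ⟨σ, hσ⟩ : ∃ σ, g₃ ≫ ρ = T.mor₃ ≫ σ := Triangle.yoneda_exact₃ T hT _ (by
      rw [← Category.assoc, hc₂, Category.assoc, ← hρ, hψ])
    obtain ⟨σ', hσ', -⟩ := (h₁.shift 1).2 B' σ hB
    have hρ' : ρ = w' ≫ σ' := (h₃.2 B' (g₃ ≫ ρ) hB).unique rfl (by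
      rw [← Category.assoc, hw', Category.assoc, hσ', hσ])
    rw [hρ, hρ', ← Category.assoc, (show v ≫ w' = 0 from comp_distTriang_mor_zero₂₃ _ hU), zero_comp]
  obtain ⟨ψ₁, hψ₁, -⟩ := h₁.2 B' (T.mor₁ ≫ φ) hB
  have h0 : w' ≫ (shiftFunctor D (1 : ℤ)).map ψ₁ = 0 := by
    refine h₃.zero (B.le_shift 1 _ hB) _ ?_
    rw [← Category.assoc, hw', Category.assoc, ← Functor.map_comp, hψ₁, Functor.map_comp,
      ← Category.assoc, comp_distTriang_mor_zero₃₁ _ hT, zero_comp]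
  obtain ⟨χ', hχ⟩ := Triangle.yoneda_exact₂ _ (rot_of_distTriang _ (rot_of_distTriang _ hU))
    ((shiftFunctor D (1 : ℤ)).map ψ₁) h0
  change (shiftFunctor D (1 : ℤ)).obj Y₂ ⟶ (shiftFunctor D (1 : ℤ)).obj B' at χ'
  change (shiftFunctor D (1 : ℤ)).map ψ₁ = (-(shiftFunctor D (1 : ℤ)).map u) ≫ χ' at hχ
  obtain ⟨χ, rfl⟩ := (shiftFunctor D (1 : ℤ)).map_surjective χ'
  have hu : ψ₁ = u ≫ (-χ) := (shiftFunctor D (1 : ℤ)).map_injective (by
    rw [hχ]; simp [Functor.map_comp, Functor.map_neg])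
  obtain ⟨ρ, hρ⟩ := Triangle.yoneda_exact₂ T hT (φ - g₂ ≫ (-χ)) (by
    rw [Preadditive.comp_sub, ← Category.assoc, hc₁, Category.assoc, ← hu, hψ₁, sub_self])
  obtain ⟨ψ₃, hψ₃, -⟩ := h₃.2 B' ρ hB
  have hex : g₂ ≫ (-χ + v ≫ ψ₃) = φ := by
    rw [Preadditive.comp_add, ← Category.assoc, ← hc₂, Category.assoc, hψ₃, ← hρ, add_sub_cancel]
  refine ⟨_, hex, fun ψ hψ => ?_⟩
  rw [← sub_eq_zero]
  exact hinj _ (by rw [Preadditive.comp_sub, hψ, hex, sub_self])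

variable (B) in
theorem main : ObjectProperty.IsTriangulated (fun X : D => ∃ (A Y : D) (f : A ⟶ X) (g : X ⟶ Y) (h : Y ⟶ (shiftFunctor D (1 : ℤ)).obj A),
      Triangle.mk f g h ∈ distinguishedTriangles ∧ B Y ∧ B.leftOrthogonal A) :=
  haveI : ObjectProperty.IsClosedUnderIsomorphisms (fun X : D => ∃ (A Y : D) (f : A ⟶ X) (g : X ⟶ Y) (h : Y ⟶ (shiftFunctor D (1 : ℤ)).obj A),
      Triangle.mk f g h ∈ distinguishedTriangles ∧ B Y ∧ B.leftOrthogonal A) := ⟨fun {X X'} e hX => by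
    obtain ⟨A, Y, f, g, h, hT, hY, hA⟩ := hX
    exact ⟨A, Y, f ≫ e.hom, e.inv ≫ g, h, isomorphic_distinguished _ hT _
      (Triangle.isoMk _ _ (Iso.refl _) e.symm (Iso.refl _)
        (((Category.assoc f e.hom e.inv).trans ((congrArg (fun t => f ≫ t) e.hom_inv_id).trans (Category.comp_id f))).trans (Category.id_comp f).symm)
        (Category.comp_id (e.inv ≫ g)) (by
          show h ≫ (shiftFunctor D (1 : ℤ)).map (𝟙 A) = 𝟙 Y ≫ h
          simp)), hY, hA⟩⟩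
  { exists_zero := by
      obtain ⟨Z, hZ, hBZ⟩ := B.exists_prop_of_containsZero
      exact ⟨Z, hZ, to_triangle (g := 𝟙 Z) ⟨hBZ, fun B' φ _ => ⟨φ, Category.id_comp φ,
        fun ψ hψ => (Category.id_comp ψ).symm.trans hψ⟩⟩⟩
    isStableUnderShiftBy := fun n => ⟨fun X hX => by
      obtain ⟨A, Y, f, g, h, hT, hY, hA⟩ := hX
      exact to_triangle ((of_triangle f g h hT hY hA).shift n)⟩
    toIsTriangulatedClosed₂ := .mk' fun T hT h₁ h₃ => by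
      obtain ⟨A₁, Y₁, f₁, g₁, k₁, hT₁, hY₁, hA₁⟩ := h₁
      obtain ⟨A₃, Y₃, f₃, g₃, k₃, hT₃, hY₃, hA₃⟩ := h₃
      obtain ⟨Y₂, g₂, h₂⟩ := Refl.ext T hT (of_triangle f₁ g₁ k₁ hT₁ hY₁ hA₁) (of_triangle f₃ g₃ k₃ hT₃ hY₃ hA₃)
      exact to_triangle h₂ }

end Groth.Agent.S6607.Aux

namespace Groth.Agent.S6607
open Groth.Agent

open CategoryTheory.Pretriangulated in
/-- Let D be a triangulated category and B a full triangulated subcategory. Let P(X) be the property: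
there is a distinguished triangle A → X → B → A⟦1⟧ with B in B and A in ^⊥B. Then P satisfies
two-out-of-three in distinguished triangles, i.e. it is stable under all shifts and closed under
extensions (a triangulated object property). -/
theorem result {D : Type u} [Category.{v} D] [Preadditive D] [HasZeroObject D] [HasShift D ℤ]
    [∀ n : ℤ, (shiftFunctor D n).Additive] [Pretriangulated D] [IsTriangulated D]
    (B : ObjectProperty D) [B.IsTriangulated] :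
    ObjectProperty.IsTriangulated (fun X : D => ∃ (A Y : D) (f : A ⟶ X) (g : X ⟶ Y) (h : Y ⟶ (shiftFunctor D (1 : ℤ)).obj A),
      Triangle.mk f g h ∈ distinguishedTriangles ∧ B Y ∧ B.leftOrthogonal A) := by
    exact Aux.main B

end Groth.Agent.S6607
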