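import Groth.Statements.S6608
import Mathlib

set_option autoImplicit false
universe v u
open CategoryTheory CategoryTheory.Limits
open CohDer

namespace Groth.Agent.S6608

open CategoryTheory.Pretriangulated in
/-- Let D be a pretriangulated category and S a set of arrows of D containing the identities and
satisfying MS6 (compatibility with the triangulated structure; here together with stability under
shifts, MS5). Then every isomorphism of D lies in S. -/
theorem result {D : Type u} [Category.{v} D] [Preadditive D] [HasZeroObject D] [HasShift D ℤ]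
    [∀ n : ℤ, (shiftFunctor D n).Additive] [Pretriangulated D]
    (S : MorphismProperty D) [S.ContainsIdentities] [S.IsCompatibleWithTriangulation]
    {X Y : D} (f : X ⟶ Y) [IsIso f] : S f := by
  let T₀ : Triangle D := (contractibleTriangle X).invRotate
  have h₀ : T₀ ∈ distTriang D := inv_rot_of_distTriang _ (contractible_distinguished X)
  let T₁ : Triangle D := Triangle.mk (Y := X) T₀.mor₁ (f : X ⟶ Y) (inv f ≫ (T₀.mor₃ : X ⟶ _))
  have h₁ : T₁ ∈ distTriang D := isomorphic_distinguished _ h₀ _
    (Triangle.isoMk _ _ (Iso.refl _) (Iso.refl _) (asIso f).symm ((Category.comp_id _).trans (Category.id_comp _).symm) ((IsIso.hom_inv_id f).trans (Category.id_comp (𝟙 X)).symm) ((congrArg (fun q => _ ≫ q) (CategoryTheory.Functor.map_id _ _)).trans (Category.comp_id _)))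
  obtain ⟨c, hc, e, -⟩ := MorphismProperty.IsCompatibleWithTriangulation.compatible_with_triangulation
    T₀ T₁ h₀ h₁ (𝟙 _) (𝟙 _) (S.id_mem _) (S.id_mem _) ((Category.comp_id _).trans (Category.id_comp _).symm)
  have e' : c = f := by
    have e2 : 𝟙 X ≫ c = 𝟙 X ≫ f := e
    rw [Category.id_comp] at e2
    exact e2.trans (Category.id_comp f)
  exact e' ▸ hc

end Groth.Agent.S6608
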