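import Groth.Statements.S6611
import Mathlib

set_option autoImplicit false
set_option backward.isDefEq.respectTransparency.types false
set_option maxHeartbeats 1000000
set_option linter.all false
universe v u
open CategoryTheory CategoryTheory.Limits
open CohDer

namespace Groth.Agent.S6611
open Groth.Agent
open CochainComplex.HomComplex

/-- Let A be an abelian category, α : K ⟶ L a quasi-isomorphism of cochain complexes which is injective
in every degree, I a bounded below complex of injective objects and γ : K ⟶ I a morphism. Then there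
is a morphism β : L ⟶ I with α ≫ β = γ. -/
theorem result {A : Type u} [Category.{v} A] [Abelian A]
    (K L I : CochainComplex A ℤ) (α : K ⟶ L) [QuasiIso α] (hα : ∀ n : ℤ, Mono (α.f n))
    (a : ℤ) [I.IsStrictlyGE a] (hI : ∀ n : ℤ, Injective (I.X n)) (γ : K ⟶ I) :
    ∃ β : L ⟶ I, α ≫ β = γ := by
    haveI : ∀ n, Injective (I.X n) := hI
    haveI := CochainComplex.isKInjective_of_injective I a
    haveI : Mono α := HomologicalComplex.mono_of_mono_f α hα
    let Q := cokernel α
    let π : L ⟶ Q := cokernel.π α
    let S := ShortComplex.mk α π (cokernel.condition α)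
    have hS : S.ShortExact :=
      { exact := S.exact_of_g_is_cokernel (cokernelIsCokernel α)
        mono_f := inferInstanceAs (Mono α)
        epi_g := inferInstanceAs (Epi (cokernel.π α)) }
    have hQ : Q.Acyclic := hS.acyclic_X₃ (inferInstanceAs (QuasiIso α))
    have hdeg := (HomologicalComplex.shortExact_iff_degreewise_shortExact S).1 hS
    have hπ : ∀ p, Epi (π.f p) := fun p => (hdeg p).epi_g
    have hαπ : ∀ p, α.f p ≫ π.f p = 0 := fun p => by
      rw [← HomologicalComplex.comp_f]
      simp [π]
    let g0 : ∀ p, L.X p ⟶ I.X p := fun p => @Injective.factorThru _ _ _ _ _ (hI p) (γ.f p) (α.f p) (hα p)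
    have hg0 : ∀ p, α.f p ≫ g0 p = γ.f p := fun p => @Injective.comp_factorThru _ _ _ _ _ (hI p) (γ.f p) (α.f p) (hα p)
    let z : Cochain L I 1 := δ 0 1 (Cochain.ofHoms g0)
    have hz : ∀ p q (hpq : p + 1 = q), α.f p ≫ z.v p q hpq = 0 := by
      intro p q hpq
      simp only [z, δ_zero_cochain_v, Cochain.ofHoms_v, Preadditive.comp_sub]
      rw [← Category.assoc, hg0, ← Category.assoc, α.comm, Category.assoc, hg0, γ.comm, sub_self]
    have hw : ∀ p q (hpq : p + 1 = q), ∃ w : Q.X p ⟶ I.X q, π.f p ≫ w = z.v p q hpq := fun p q hpq =>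
      haveI := (hdeg p).epi_g
      ⟨(hdeg p).exact.desc (z.v p q hpq) (hz p q hpq), (hdeg p).exact.g_desc _ _⟩
    choose w hw using hw
    let W : Cochain Q I 1 := Cochain.mk w
    have hπW : (Cochain.ofHom π).comp W (zero_add 1) = z := by
      ext p q hpq
      rw [Cochain.zero_cochain_comp_v, Cochain.ofHom_v]
      exact hw p q hpq
    have hW : δ 1 2 W = 0 := by
      ext p q hpq
      haveI := hπ p
      rw [← cancel_epi (π.f p)]
      have e : (Cochain.ofHom π).comp (δ 1 2 W) (zero_add 2) = 0 := by
        rw [← δ_ofHom_comp, hπW]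
        exact δ_δ 0 1 2 _
      have e' := Cochain.congr_v e p q hpq
      rw [Cochain.zero_cochain_comp_v, Cochain.ofHom_v] at e'
      rw [e']
      simp
    obtain ⟨e, he⟩ := CochainComplex.IsKInjective.eq_δ_of_cocycle (L := I) (Cocycle.mk W 2 (by norm_num) hW) hQ 0 (by norm_num)
    let b : Cochain L I 0 := Cochain.ofHoms g0 - (Cochain.ofHom π).comp e (zero_add 0)
    have hb : δ 0 1 b = 0 := by
      have he' : δ 0 1 e = W := he
      rw [δ_sub, δ_ofHom_comp, he', hπW, sub_self]
    refine ⟨Cocycle.homOf (Cocycle.mk b 1 (by norm_num) hb), ?_⟩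
    ext p
    rw [HomologicalComplex.comp_f, Cocycle.homOf_f]
    show α.f p ≫ b.v p p (add_zero p) = γ.f p
    simp only [b, Cochain.sub_v, Cochain.ofHoms_v, Cochain.zero_cochain_comp_v, Cochain.ofHom_v,
      Preadditive.comp_sub, hg0, ← Category.assoc, hαπ, zero_comp, sub_zero]

end Groth.Agent.S6611
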