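import Groth.Statements.S6612
import Mathlib

set_option autoImplicit false
set_option backward.isDefEq.respectTransparency.types false
set_option maxHeartbeats 1000000
set_option linter.all false
universe v u
open CategoryTheory CategoryTheory.Limits
open CohDer

namespace Groth.Agent.S6612
open Groth.Agent

/-- Let A be an additive category and 0 → A₂ → B₂ → C₂ → 0 a termwise split exact sequence of complexes.
Given a chain map b from a complex B₁ into B₂ and a chain map b' from B₂ into a complex B₃, suppose
that both composites b ≫ (B₂ → C₂) and (A₂ → B₂) ≫ b' are null-homotopic. Then b ≫ b' is homotopic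
to zero. (The published statement has three termwise split sequences Aᵢ → Bᵢ → Cᵢ and asks both
squares of each diagram to commute up to homotopy; this row keeps only the middle sequence and the
two conditions at B₂ that the argument uses, so it is more general.) -/
theorem result {V : Type u} [Category.{v} V] [Preadditive V] [HasBinaryBiproducts V]
    (S : ShortComplex (CochainComplex V ℤ))
    (σ : ∀ n : ℤ, (S.map (HomologicalComplex.eval V (ComplexShape.up ℤ) n)).Splitting)
    {B₁ B₃ : CochainComplex V ℤ} (b : B₁ ⟶ S.X₂) (b' : S.X₂ ⟶ B₃)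
    (hb : Nonempty (Homotopy (b ≫ S.g) 0)) (hb' : Nonempty (Homotopy (S.f ≫ b') 0)) :
    Nonempty (Homotopy (b ≫ b') 0) := by
    obtain ⟨h⟩ := hb
    obtain ⟨h'⟩ := hb'
    let hom : ∀ i j, B₁.X i ⟶ S.X₂.X j := fun i j => h.hom i j ≫ (σ j).s
    have hzero : ∀ i j, ¬(ComplexShape.up ℤ).Rel j i → hom i j = 0 := fun i j hij => by
      simp [hom, h.zero i j hij]
    let N := Homotopy.nullHomotopicMap hom
    have hNg : N ≫ S.g = b ≫ S.g := by
      rw [Homotopy.nullHomotopicMap_comp]
      have e : (fun i j => hom i j ≫ S.g.f j) = h.hom := by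
        funext i j
        have : (σ j).s ≫ S.g.f j = 𝟙 _ := (σ j).s_g
        show (h.hom i j ≫ (σ j).s) ≫ S.g.f j = h.hom i j
        exact (Category.assoc _ _ _).trans ((congrArg (fun t => h.hom i j ≫ t) this).trans (Category.comp_id _))
      rw [e]
      ext n
      rw [h.comm n, Homotopy.nullHomotopicMap]
      simp
    have hz : ∀ n, (b - N).f n ≫ S.g.f n = 0 := fun n => by
      have e : (b - N) ≫ S.g = 0 := by rw [Preadditive.sub_comp, hNg, sub_self]
      exact congrArg (fun t => HomologicalComplex.Hom.f t n) e
    let r : ∀ n, S.X₂.X n ⟶ S.X₁.X n := fun n => (σ n).r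
    let s : ∀ n, S.X₃.X n ⟶ S.X₂.X n := fun n => (σ n).s
    have hrf : ∀ n, ((b - N).f n ≫ r n) ≫ S.f.f n = (b - N).f n := fun n => by
      have e : r n ≫ S.f.f n + S.g.f n ≫ s n = 𝟙 (S.X₂.X n) := (σ n).id
      conv_rhs => rw [← Category.comp_id ((b - N).f n), ← e, Preadditive.comp_add,
        ← Category.assoc _ (S.g.f n), hz, zero_comp, add_zero]
      rw [Category.assoc]
    have hmono : ∀ n, Mono (S.f.f n) := fun n => (σ n).splitMono_f.mono
    let c : B₁ ⟶ S.X₁ :=
      { f := fun n => (b - N).f n ≫ r n
        comm' := fun i j _ => by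
          haveI := hmono j
          have e1 := hrf i
          have e2 := hrf j
          rw [← cancel_mono (S.f.f j)]
          simp only [Category.assoc, ← S.f.comm i j] at e1 e2 ⊢
          rw [reassoc_of% e1, e2]
          exact (b - N).comm i j }
    have hc : c ≫ S.f = b - N := by
      ext n
      exact hrf n
    have hbb : b ≫ b' = N ≫ b' + c ≫ (S.f ≫ b') := by
      rw [← Category.assoc, hc, Preadditive.sub_comp, add_sub_cancel]
    exact ⟨(Homotopy.ofEq hbb).trans ((((Homotopy.nullHomotopy hom hzero).compRight b').add
      (h'.compLeft c)).trans (Homotopy.ofEq (by simp)))⟩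

end Groth.Agent.S6612
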