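import Groth.Statements.S6624
import Groth.Agent.Lib.H5RAcy

set_option autoImplicit false
universe w w' v v' u u'
open CategoryTheory CategoryTheory.Limits
open CohDer

namespace Groth.Agent.S6624

/-- Part (1): in the case where A has enough injectives: let F : A ⥤ B be an additive functor between
abelian categories, A with enough injectives, and X an object of A. Then X is right acyclic for F,
i.e. the canonical map F(X)[0] ⟶ RF(X[0]) is an isomorphism in D⁺(B), if and only if F(X) ⟶ R⁰F(X)
is an isomorphism and RⁱF(X) = 0 for all i > 0. -/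
theorem result {A : Type u} [Category.{v} A] [Abelian A] [HasDerivedCategory.{w} A] [EnoughInjectives A]
    {B : Type u'} [Category.{v'} B] [Abelian B] [HasDerivedCategory.{w'} B]
    (F : A ⥤ B) [F.Additive] (X : A) :
    IsIso (F.rightDerivedFunctorPlusUnit.app ((HomotopyCategory.Plus.singleFunctor A 0).obj X)) ↔
      (IsIso (F.toRightDerivedZero.app X) ∧ ∀ i : ℕ, 0 < i → IsZero ((F.rightDerived i).obj X)) := by
  let R := injectiveResolution X
  let J : CochainComplex.Plus A := ⟨R.cochainComplex, 0, inferInstance⟩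
  let φ : (HomotopyCategory.Plus.singleFunctor A 0).obj X ⟶ (HomotopyCategory.Plus.quotient A).obj J :=
    ObjectProperty.homMk ((HomotopyCategory.quotient _ _).map R.ι')
  haveI : IsIso (DerivedCategory.Plus.Qh.map φ) :=
    Localization.inverts DerivedCategory.Plus.Qh (HomotopyCategory.Plus.quasiIso A) φ
      ((HomotopyCategory.quotient_map_mem_quasiIso_iff _).2 (by rw [HomologicalComplex.mem_quasiIso_iff]; infer_instance))
  haveI : ∀ m, Injective (J.obj.X m) := fun m => (inferInstance : Injective (R.cochainComplex.X m))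
  haveI : IsIso (F.rightDerivedFunctorPlusUnit.app ((HomotopyCategory.Plus.quotient A).obj J)) := inferInstance
  have hn := F.rightDerivedFunctorPlusUnit.naturality φ
  haveI : IsIso ((DerivedCategory.Plus.Qh ⋙ F.rightDerivedFunctorPlus).map φ) :=
    (inferInstance : IsIso (F.rightDerivedFunctorPlus.map (DerivedCategory.Plus.Qh.map φ)))
  have h1 : IsIso (F.rightDerivedFunctorPlusUnit.app ((HomotopyCategory.Plus.singleFunctor A 0).obj X)) ↔
      IsIso ((F.mapHomotopyCategoryPlus ⋙ DerivedCategory.Plus.Qh).map φ) := by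
    constructor
    · intro h; exact IsIso.of_isIso_fac_right hn
    · intro h; exact IsIso.of_isIso_fac_right hn.symm
  have h2 : IsIso ((F.mapHomotopyCategoryPlus ⋙ DerivedCategory.Plus.Qh).map φ) ↔
      QuasiIso ((F.mapHomologicalComplex (.up ℤ)).map R.ι') := by
    rw [← DerivedCategory.isIso_Q_map_iff_quasiIso]
    refine Iff.trans (b := IsIso ((HomotopyCategory.quotient B (ComplexShape.up ℤ) ⋙ DerivedCategory.Qh).map
        ((F.mapHomologicalComplex (.up ℤ)).map R.ι')))
      ⟨fun h => (inferInstance : IsIso (DerivedCategory.Plus.ι.map ((F.mapHomotopyCategoryPlus ⋙ DerivedCategory.Plus.Qh).map φ))), fun h => ?_⟩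
      (NatIso.isIso_map_iff (DerivedCategory.quotientCompQhIso B) _)
    exact @isIso_of_reflects_iso _ _ _ _ _ _ _ DerivedCategory.Plus.ι h _
  let a : (F.mapHomologicalComplex (.up ℕ)).obj ((CochainComplex.single₀ A).obj X) ⟶
      (F.mapHomologicalComplex (.up ℕ)).obj R.cocomplex := (F.mapHomologicalComplex (.up ℕ)).map R.ι
  have h3 : QuasiIso ((F.mapHomologicalComplex (.up ℤ)).map R.ι') ↔ QuasiIso a := by
    rw [InjectiveResolution.ι', Functor.map_comp, quasiIso_iff_comp_left, ← HomologicalComplex.quasiIso_extendMap_iff a ComplexShape.embeddingUpNat]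
    have hsq : (F.mapHomologicalComplex (.up ℤ)).map ((ComplexShape.embeddingUpNat.extendFunctor A).map R.ι) ≫
        (Groth.Agent.H5RAcy.mapExtendIso F R.cocomplex).hom =
        (Groth.Agent.H5RAcy.mapExtendIso F ((CochainComplex.single₀ A).obj X)).hom ≫
          HomologicalComplex.extendMap a ComplexShape.embeddingUpNat := by
      ext i
      by_cases hi : 0 ≤ i
      · obtain ⟨k, rfl⟩ := Int.eq_ofNat_of_zero_le hi
        simp only [HomologicalComplex.comp_f]
        change F.map ((HomologicalComplex.extendMap R.ι ComplexShape.embeddingUpNat).f _) ≫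
          (Groth.Agent.H5RAcy.compIso F R.cocomplex _).hom =
          (Groth.Agent.H5RAcy.compIso F ((CochainComplex.single₀ A).obj X) _).hom ≫ _
        rw [Groth.Agent.H5RAcy.compIso_eq F R.cocomplex (k : ℤ) k rfl,
          Groth.Agent.H5RAcy.compIso_eq F ((CochainComplex.single₀ A).obj X) (k : ℤ) k rfl,
          HomologicalComplex.extendMap_f R.ι ComplexShape.embeddingUpNat (i := k) (i' := (k : ℤ)) rfl,
          HomologicalComplex.extendMap_f a ComplexShape.embeddingUpNat (i := k) (i' := (k : ℤ)) rfl]
        simp [Groth.Agent.H5RAcy.cIso, a]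
        all_goals (congr 1; exact (Iso.inv_hom_id_assoc _ _).symm)
      · exact (HomologicalComplex.isZero_extend_X _ _ _ (fun k hk => hi (by rw [← hk]; exact Int.natCast_nonneg k))).eq_of_tgt _ _
    refine (quasiIso_iff_comp_right _ (Groth.Agent.H5RAcy.mapExtendIso F R.cocomplex).hom).symm.trans ?_
    erw [hsq]
    rw [quasiIso_iff_comp_left]
  have h4 : QuasiIso a ↔ (QuasiIsoAt a 0 ∧ ∀ i : ℕ, 0 < i → QuasiIsoAt a i) := by
    rw [quasiIso_iff]
    exact ⟨fun h => ⟨h 0, fun i _ => h i⟩, fun h i => i.eq_zero_or_pos.elim (fun e => e ▸ h.1) (h.2 i)⟩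
  have h5 : ∀ i : ℕ, 0 < i → (QuasiIsoAt a i ↔ IsZero ((F.rightDerived i).obj X)) := fun i hi => by
    rw [quasiIsoAt_iff_exactAt, HomologicalComplex.exactAt_iff_isZero_homology, (R.isoRightDerivedObj F i).isZero_iff]
    · rfl
    · rw [HomologicalComplex.exactAt_iff]
      exact ShortComplex.exact_of_isZero_X₂ _ (F.map_isZero (HomologicalComplex.isZero_single_obj_X _ 0 X i (by omega)))
  have h6 : QuasiIsoAt a 0 ↔ IsIso (F.toRightDerivedZero.app X) := by
    have hz : (F.map (R.ι.f 0)) ≫ F.map (R.cocomplex.d 0 1) = 0 := by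
      rw [← F.map_comp, R.ι_f_zero_comp_complex_d, F.map_zero]
    have hL : IsIso (F.toRightDerivedZero.app X) ↔ IsIso (R.toRightDerivedZero' F) := by
      let E := CochainComplex.isoHomologyπ₀ ((F.mapHomologicalComplex (.up ℕ)).obj R.cocomplex) ≪≫
        ((HomotopyCategory.homologyFunctorFactors B (ComplexShape.up ℕ) 0).app _).symm
      change IsIso (R.toRightDerivedZero' F ≫ E.hom) ↔ _
      exact isIso_comp_right_iff _ _
    rw [hL, InjectiveResolution.toRightDerivedZero', CochainComplex.isIso_liftCycles_iff,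
      CochainComplex.quasiIsoAt₀_iff, ShortComplex.quasiIso_iff_of_zeros]
    · rfl
    all_goals first | exact HomologicalComplex.shape _ _ _ (by simp) | (change F.map _ = 0; simp; exact F.map_zero _ _) | (simp [CochainComplex.single₀]; all_goals first | rfl | exact F.map_zero _ _)
  rw [h1, h2, h3, h4, h6]
  exact and_congr_right fun _ => forall₂_congr h5

end Groth.Agent.S6624
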