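import Groth.Statements.S6625
import Groth.Agent.Lib.LAcyClass

set_option autoImplicit false
universe w w' v v' u u'
open CategoryTheory CategoryTheory.Limits
open CohDer

namespace Groth.Agent.S6625

/-- In the case where A has enough injectives: let F : A ⥤ B be an additive functor between abelian
categories, A with enough injectives, and I a class of objects of A such that (1) each object of A
embeds by a monomorphism into some object of I, and (2) whenever 0 → P → Q → R → 0 is a short exact
sequence whose terms P and Q lie in I, the third term R also lies in I, and applying F to the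
sequence yields a short exact sequence in B. Under these assumptions, each X belonging to I is right
acyclic for F, meaning the map F(X)[0] ⟶ RF(X[0]) is an isomorphism. -/
theorem result {A : Type u} [Category.{v} A] [Abelian A] [HasDerivedCategory.{w} A] [EnoughInjectives A]
    {B : Type u'} [Category.{v'} B] [Abelian B] [HasDerivedCategory.{w'} B]
    (F : A ⥤ B) [F.Additive] (I : ObjectProperty A)
    (h1 : ∀ X : A, ∃ (Y : A) (ι : X ⟶ Y), I Y ∧ Mono ι)
    (h2 : ∀ S : ShortComplex A, S.ShortExact → I S.X₁ → I S.X₂ → I S.X₃ ∧ (S.map F).ShortExact)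
    (X : A) (hX : I X) :
    IsIso (F.rightDerivedFunctorPlusUnit.app ((HomotopyCategory.Plus.singleFunctor A 0).obj X)) := by
  let R := injectiveResolution X
  let K₀ : CochainComplex A ℤ := (HomologicalComplex.single A (ComplexShape.up ℤ) 0).obj X
  let i : K₀ ⟶ R.cochainComplex := R.ι'
  haveI : QuasiIso i := (inferInstance : QuasiIso R.ι')
  haveI : CochainComplex.IsStrictlyGE K₀ 0 := inferInstanceAs (CochainComplex.IsStrictlyGE ((CochainComplex.singleFunctor A 0).obj X) 0)
  haveI : CochainComplex.IsStrictlyGE R.cochainComplex 0 := inferInstance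
  haveI : CochainComplex.IsStrictlyGE (CochainComplex.mappingCone i) (-1) :=
    CochainComplex.isStrictlyGE_mappingCone i 0 0 (-1) (by omega) (by omega)
  have e : ∀ n : ℤ, (CochainComplex.mappingCone i).X n ≅ K₀.X (n + 1) ⊞ R.cochainComplex.X n := fun n =>
    HomologicalComplex.homotopyCofiber.XIsoBiprod i n (n + 1) rfl
  have hinj : ∀ n : ℤ, -1 < n → Injective ((CochainComplex.mappingCone i).X n) := fun n hn => by
    haveI : Injective (K₀.X (n + 1)) :=
      (HomologicalComplex.isZero_single_obj_X (ComplexShape.up ℤ) 0 X (n + 1) (by omega)).injective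
    haveI : Injective (R.cochainComplex.X n) := inferInstance
    exact Injective.of_iso (e n).symm inferInstance
  have hm : Groth.Agent.LAcyClass.Ret I ((CochainComplex.mappingCone i).X (-1)) := by
    have h0 : IsZero (R.cochainComplex.X (-1)) := CochainComplex.isZero_of_isStrictlyGE _ 0 _ (by omega)
    let g : K₀.X ((-1 : ℤ) + 1) ≅ X := eqToIso (congrArg K₀.X (show (-1 : ℤ) + 1 = 0 by omega)) ≪≫
      HomologicalComplex.singleObjXSelf (ComplexShape.up ℤ) 0 X
    refine ⟨X, (e (-1)).hom ≫ biprod.fst ≫ g.hom, g.inv ≫ biprod.inl ≫ (e (-1)).inv, hX, ?_⟩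
    simp only [Category.assoc, Iso.hom_inv_id_assoc]
    rw [← Category.assoc biprod.fst, show biprod.fst ≫ biprod.inl = 𝟙 (K₀.X ((-1 : ℤ) + 1) ⊞ R.cochainComplex.X (-1)) from by
      apply biprod.hom_ext
      · simp
      · exact h0.eq_of_tgt _ _, Category.id_comp, Iso.hom_inv_id]
  have h1' : HomotopyCategory.quasiIso A (ComplexShape.up ℤ) ((HomotopyCategory.quotient _ _).map i) :=
    (HomotopyCategory.quotient_map_mem_quasiIso_iff i).2 (by rw [HomologicalComplex.mem_quasiIso_iff]; infer_instance)
  have hC : ∀ j, (CochainComplex.mappingCone i).ExactAt j := by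
    have h' := h1'
    rw [HomotopyCategory.quasiIso_eq_trW_subcategoryAcyclic] at h'
    replace h' := ((HomotopyCategory.subcategoryAcyclic A).trW_iff_of_distinguished _
      (HomotopyCategory.mappingCone_triangleh_distinguished i)).1 h'
    exact fun j => (HomotopyCategory.quotient_obj_mem_subcategoryAcyclic_iff_exactAt _).1 h' j
  have h2' : HomotopyCategory.quasiIso B (ComplexShape.up ℤ)
      ((HomotopyCategory.quotient _ _).map ((F.mapHomologicalComplex (.up ℤ)).map i)) := by
    rw [HomotopyCategory.quasiIso_eq_trW_subcategoryAcyclic]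
    refine ((HomotopyCategory.subcategoryAcyclic B).trW_iff_of_distinguished _
        (HomotopyCategory.mappingCone_triangleh_distinguished ((F.mapHomologicalComplex (.up ℤ)).map i))).2 ?_
    refine (HomotopyCategory.quotient_obj_mem_subcategoryAcyclic_iff_exactAt _).2 fun j => ?_
    exact (Groth.Agent.LAcyClass.exactAt_map F I h1 h2 (CochainComplex.mappingCone i) (-1) hC hm hinj j).of_iso
      (CochainComplex.mappingCone.mapHomologicalComplexIso i F)
  let J : CochainComplex.Plus A := ⟨R.cochainComplex, 0, inferInstance⟩
  let φ : (HomotopyCategory.Plus.singleFunctor A 0).obj X ⟶ (HomotopyCategory.Plus.quotient A).obj J :=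
    ObjectProperty.homMk ((HomotopyCategory.quotient _ _).map i)
  haveI : IsIso (DerivedCategory.Plus.Qh.map φ) :=
    Localization.inverts DerivedCategory.Plus.Qh (HomotopyCategory.Plus.quasiIso A) φ h1'
  haveI hB : IsIso (DerivedCategory.Plus.Qh.map (F.mapHomotopyCategoryPlus.map φ)) :=
    Localization.inverts DerivedCategory.Plus.Qh (HomotopyCategory.Plus.quasiIso B) _ h2'
  haveI : ∀ m, Injective (J.obj.X m) := fun m => (inferInstance : Injective (R.cochainComplex.X m))
  haveI : IsIso (F.rightDerivedFunctorPlusUnit.app ((HomotopyCategory.Plus.quotient A).obj J)) := inferInstance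
  have hn := F.rightDerivedFunctorPlusUnit.naturality φ
  haveI : IsIso ((F.mapHomotopyCategoryPlus ⋙ DerivedCategory.Plus.Qh).map φ) := hB
  haveI : IsIso ((DerivedCategory.Plus.Qh ⋙ F.rightDerivedFunctorPlus).map φ) :=
    (inferInstance : IsIso (F.rightDerivedFunctorPlus.map (DerivedCategory.Plus.Qh.map φ)))
  exact IsIso.of_isIso_fac_right hn.symm

end Groth.Agent.S6625
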