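import Groth.Statements.S6626
import Mathlib
import Groth.Agent.Lib.LEtGlue
import Groth.Agent.Lib.LEtGerm

set_option autoImplicit false
open CategoryTheory CategoryTheory.Limits AlgebraicGeometry Opposite
universe u
open EtCore

namespace Groth.Agent.S6626

/-- Let f : X ⟶ Y be a morphism of schemes satisfying condition (A) (for every etale U ⟶ X and every
point u of U there are an etale V ⟶ Y, an open and closed subscheme W of X ×_Y V and an X-morphism W
⟶ U whose image contains u). Then, on abelian sheaves on the small etale sites, f_* reflects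
monomorphisms and epimorphisms, the counit f⁻¹ f_* F ⟶ F is an epimorphism for every F, and f_* is
faithful. -/
theorem result {X Y : Scheme.{u}} (f : X ⟶ Y) (hA : BigSite.PropA f) :
    (EtCoh.push f).ReflectsMonomorphisms ∧ (EtCoh.push f).ReflectsEpimorphisms ∧
      (∀ F : EtCoh.Ab X, Epi ((EtCoh.pullPushAdj f).counit.app F)) ∧ (EtCoh.push f).Faithful := by
  classical
  suffices hepi : ∀ F : EtCoh.Ab X, Epi ((EtCoh.pullPushAdj f).counit.app F) by
    have : (EtCoh.push f).Faithful := (EtCoh.pullPushAdj f).faithful_R_of_epi_counit_app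
    exact ⟨inferInstance, inferInstance, hepi, this⟩
  intro G
  rw [Groth.Agent.LEtStalk.epi_iff]
  intro Ω _ _ ξ p
  let Φ := Scheme.pointSmallEtale ξ
  obtain ⟨U, w, z, rfl⟩ := Φ.toPresheafFiber_jointly_surjective (P := G.obj) p
  have : Etale U.hom := U.prop
  obtain ⟨V, v, hv, W, hW, h, hh, q, hq⟩ := hA U.left U.hom (w.left (default : Spec (CommRingCat.of Ω)))
  let V' : Y.Etale := Scheme.Etale.mk v
  let B : X.Etale := (EtCoh.bc f).obj V'
  let bh : B.left ⟶ pullback f v := (pullbackSymmetry v f).hom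
  let O : B.left.Opens := bh ⁻¹ᵁ W
  let O' : B.left.Opens := ⟨(O : Set B.left)ᶜ, (hW.preimage bh.continuous).isOpen_compl⟩
  let Ws : ULift.{u} Bool → B.left.Opens := fun b => cond b.down O O'
  have hrange : Set.range (O.ι ≫ bh) ⊆ Set.range W.ι := by
    intro a ha
    obtain ⟨t, rfl⟩ := ha
    refine (Set.ext_iff.1 (Scheme.Opens.range_ι W) _).2 ?_
    exact (congrArg (· ∈ W) (Scheme.Hom.comp_apply O.ι bh t)).mpr t.2
  let l : (O : Scheme.{u}) ⟶ W := IsOpenImmersion.lift W.ι (O.ι ≫ bh) hrange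
  have hl : l ≫ W.ι = O.ι ≫ bh := IsOpenImmersion.lift_fac _ _ _
  let k : Groth.Agent.LEtGlue.sub B O ⟶ U := MorphismProperty.Over.homMk (l ≫ h) (by
    change (l ≫ h) ≫ U.hom = O.ι ≫ B.hom
    rw [Category.assoc, hh, ← Category.assoc, hl, Category.assoc]
    exact congrArg (O.ι ≫ ·) (pullbackSymmetry_hom_comp_fst v f)) trivial
  have hP : Presieve.IsSheaf X.smallEtaleTopology (G.obj ⋙ forget AddCommGrpCat.{u + 1}) :=
    (isSheaf_iff_isSheaf_of_type _ _).1 ((sheafCompose _ (forget AddCommGrpCat.{u + 1})).obj G).2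
  obtain ⟨t, ht⟩ := Groth.Agent.LEtGlue.exists_glue (G.obj ⋙ forget AddCommGrpCat.{u + 1}) hP B Ws
    (by
      rintro ⟨_ | _⟩ ⟨_ | _⟩ hab
      · exact (hab rfl).elim
      · exact disjoint_iff_inf_le.2 fun x hx => hx.1 hx.2
      · exact disjoint_iff_inf_le.2 fun x hx => hx.2 hx.1
      · exact (hab rfl).elim)
    (eq_top_iff.2 fun x _ => by
      by_cases hx : x ∈ O
      · exact TopologicalSpace.Opens.mem_iSup.2 ⟨⟨true⟩, hx⟩
      · exact TopologicalSpace.Opens.mem_iSup.2 ⟨⟨false⟩, hx⟩)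
    (fun b => match b with
      | ⟨true⟩ => (G.obj.map k.op z :)
      | ⟨false⟩ => (0 : G.obj.obj (op (Groth.Agent.LEtGlue.sub B O'))))
  have ht' : G.obj.map (Groth.Agent.LEtGlue.incl B O).op t = G.obj.map k.op z := ht ⟨true⟩
  obtain ⟨q', hq'⟩ : ∃ q' : (O : Scheme.{u}), (l ≫ h) q' = w.left (default : Spec (CommRingCat.of Ω)) := by
    have hmem : (pullbackSymmetry v f).inv (W.ι q) ∈ O := by
      change bh ((pullbackSymmetry v f).inv (W.ι q)) ∈ W
      exact (congrArg (· ∈ W) ((Scheme.Hom.comp_apply _ bh _).symm.trans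
        (congrArg (fun e : _ ⟶ pullback f v => e (W.ι q)) (pullbackSymmetry v f).inv_hom_id))).mpr q.2
    refine ⟨⟨_, hmem⟩, ?_⟩
    have hlq : l ⟨_, hmem⟩ = q := W.ι.isOpenEmbedding.injective (by
      rw [← Scheme.Hom.comp_apply, hl, Scheme.Hom.comp_apply]
      exact (Scheme.Hom.comp_apply _ bh _).symm.trans
        (congrArg (fun e : _ ⟶ pullback f v => e (W.ι q)) (pullbackSymmetry v f).inv_hom_id))
    exact (Scheme.Hom.comp_apply l h _).trans ((congrArg h hlq).trans hq)
  obtain ⟨y, hy⟩ := Groth.Agent.LEtGerm.exists_lift_point ξ k w q' hq'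
  let yB := Φ.fiber.map (Groth.Agent.LEtGlue.incl B O) y
  refine ⟨Φ.toPresheafFiber B yB ((EtCoh.pull f).obj ((EtCoh.push f).obj G)).obj
    (((EtCoh.pullPushAdj f).unit.app ((EtCoh.push f).obj G)).hom.app (op V') t), ?_⟩
  refine (Φ.toPresheafFiber_naturality_apply ((EtCoh.pullPushAdj f).counit.app G).hom B yB _).trans ?_
  have e1 : ((EtCoh.pullPushAdj f).counit.app G).hom.app (op B)
      (((EtCoh.pullPushAdj f).unit.app ((EtCoh.push f).obj G)).hom.app (op V') t) = t :=
    ConcreteCategory.congr_hom (congrArg (fun a : (EtCoh.push f).obj G ⟶ (EtCoh.push f).obj G => a.hom.app (op V'))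
      ((EtCoh.pullPushAdj f).right_triangle_components G)) t
  refine (congrArg (fun s => Φ.toPresheafFiber B yB G.obj s) e1).trans ?_
  refine (Φ.toPresheafFiber_w_apply (Groth.Agent.LEtGlue.incl B O) y G.obj t).symm.trans ?_
  refine (congrArg (Φ.toPresheafFiber _ y G.obj) ht').trans ?_
  refine (Φ.toPresheafFiber_w_apply k y G.obj z).trans ?_
  rw [hy]

end Groth.Agent.S6626
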