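import Groth.Statements.S6629
import Mathlib
import Groth.Agent.Lib.LEtGlue

set_option autoImplicit false
open CategoryTheory CategoryTheory.Limits AlgebraicGeometry Opposite
universe u
open EtDesc

namespace Groth.Agent.S6629

/-- Let f : X ⟶ Y be a morphism of schemes satisfying condition (B) (for every etale V ⟶ Y and every
etale covering of X ×_Y V there is an etale covering of V by schemes V_j such that each X ×_Y V_j is
a disjoint union of open subschemes each mapping into X ×_Y V through a member of the given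
covering). Then the direct image of sheaves of sets on the small etale sites along f sends
epimorphisms to epimorphisms. -/
theorem result {X Y : Scheme.{u}} (f : X ⟶ Y) (hB : BigSite.PropB f) :
    (EtDesc.pushSh f).PreservesEpimorphisms := by
  refine ⟨fun {F G} g _ => ?_⟩
  have hg : Presheaf.IsLocallySurjective X.smallEtaleTopology g.hom := (Sheaf.isLocallySurjective_iff_epi g).2 inferInstance
  have key : Sheaf.IsLocallySurjective ((EtDesc.pushSh f).map g) := ⟨fun {V'} t => by
    have eX : X.smallEtaleTopology = (X.smallPretopology (P := EtCoh.etaleMP) (Q := EtCoh.etaleMP)).toGrothendieck :=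
      Scheme.smallGrothendieckTopology_eq_toGrothendieck_smallPretopology X le_rfl
    have eY : Y.smallEtaleTopology = (Y.smallPretopology (P := EtCoh.etaleMP) (Q := EtCoh.etaleMP)).toGrothendieck :=
      Scheme.smallGrothendieckTopology_eq_toGrothendieck_smallPretopology Y le_rfl
    let B : X.Etale := (EtCoh.bc f).obj V'
    let t₀ : G.obj.obj (op B) := t
    have hcov : Presheaf.imageSieve g.hom t₀ ∈ X.smallEtaleTopology B := Presheaf.imageSieve_mem _ g.hom t₀
    have hcov' := (congrArg (fun J : GrothendieckTopology X.Etale => (J B : Set (Sieve B))) eX) ▸ hcov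
    choose U gU y hS het hy using (Scheme.mem_toGrothendieck_smallPretopology B _).1 hcov'
    choose s hs using hS
    have : Etale V'.hom := V'.prop
    let v : V'.left ⟶ Y := V'.hom
    obtain ⟨κ, V₁, v₁, hv₁, hsurj, hdec⟩ := hB V'.left v B.left (fun x => (U x).left)
      (fun x => (gU x).left ≫ (pullbackSymmetry v f).hom) (fun x => by
        have : Etale (gU x).left := het x
        exact MorphismProperty.comp_mem @Etale _ _ this inferInstance)
      (fun x => by
        refine ⟨(pullbackSymmetry v f).inv x, y _, ?_⟩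
        rw [Scheme.Hom.comp_apply]
        refine (congrArg (pullbackSymmetry v f).hom (hy _)).trans ?_
        exact (Scheme.Hom.comp_apply _ _ x).symm.trans
          (congrArg (fun e : _ ⟶ pullback f v => e x) (pullbackSymmetry v f).inv_hom_id))
    generalize hS' : Presheaf.imageSieve _ t = S
    rw [eY]
    subst hS'
    refine (Scheme.mem_toGrothendieck_smallPretopology V' _).2 fun y₀ => ?_
    obtain ⟨j, y₁, hy₁⟩ := hsurj y₀
    have := hv₁ j
    have : Etale (v₁ j ≫ v) := MorphismProperty.comp_mem @Etale _ _ (hv₁ j) V'.prop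
    let Vj : Y.Etale := Scheme.Etale.mk (v₁ j ≫ v)
    let o : Vj ⟶ V' := MorphismProperty.Over.homMk (v₁ j) rfl trivial
    refine ⟨Vj, o, y₁, ?_, hv₁ j, hy₁⟩
    obtain ⟨μ, W, hd, hsup, hfac⟩ := hdec j
    choose i h hh using hfac
    let Bj : X.Etale := (EtCoh.bc f).obj Vj
    let σ : Bj.left ⟶ pullback f (v₁ j ≫ v) := (pullbackSymmetry (v₁ j ≫ v) f).hom
    let O : μ → Bj.left.Opens := fun a => σ ⁻¹ᵁ W a
    have hO : (⨆ a, O a) = ⊤ := eq_top_iff.2 fun x _ => by
      obtain ⟨a, ha⟩ := TopologicalSpace.Opens.mem_iSup.1 (show σ x ∈ ⨆ a, W a by rw [hsup]; trivial)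
      exact TopologicalSpace.Opens.mem_iSup.2 ⟨a, ha⟩
    have hdO : ∀ a b, a ≠ b → Disjoint (O a) (O b) := fun a b hab =>
      disjoint_iff_inf_le.2 fun x hx => (hd a b hab).le_bot (show σ x ∈ W a ⊓ W b from hx)
    have hr : ∀ a, Set.range ((O a).ι ≫ σ) ⊆ Set.range (W a).ι := fun a => by
      intro x hx
      obtain ⟨q, rfl⟩ := hx
      refine (Set.ext_iff.1 (Scheme.Opens.range_ι (W a)) _).2 ?_
      exact (congrArg (· ∈ W a) (Scheme.Hom.comp_apply (O a).ι σ q)).mpr q.2
    let l : ∀ a, ((O a : Scheme.{u}) ⟶ W a) := fun a => IsOpenImmersion.lift (W a).ι ((O a).ι ≫ σ) (hr a)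
    have key2 : ∀ a, (l a ≫ h a) ≫ (gU (i a)).left = (O a).ι ≫ ((EtCoh.bc f).map o).left := fun a => by
      rw [Category.assoc]
      refine (congrArg (fun e => l a ≫ h a ≫ e) ((Category.assoc _ _ _).trans ((congrArg ((gU (i a)).left ≫ ·)
        (pullbackSymmetry v f).hom_inv_id).trans (Category.comp_id _))).symm).trans ?_
      refine (congrArg (l a ≫ ·) ((Category.assoc _ _ _).symm.trans (congrArg (· ≫ (pullbackSymmetry v f).inv) (hh a)))).trans ?_
      rw [Category.assoc]
      rw [IsOpenImmersion.lift_fac_assoc, Category.assoc]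
      congr 1
      apply pullback.hom_ext
      · simp only [σ, Category.assoc, pullbackSymmetry_inv_comp_fst, pullback.lift_snd, pullbackSymmetry_hom_comp_snd_assoc]
        refine (Category.assoc _ _ _).symm.trans ((congrArg (· ≫ v₁ j) (pullbackSymmetry_hom_comp_snd (v₁ j ≫ v) f)).trans ?_)
        exact (EtCoh.isPullback_bc_map f o).w.symm
      · simp only [σ, Category.assoc, pullbackSymmetry_inv_comp_snd, pullback.lift_fst, Category.comp_id, pullbackSymmetry_hom_comp_fst]
        refine (pullbackSymmetry_hom_comp_fst (v₁ j ≫ v) f).trans ?_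
        exact (MorphismProperty.Over.w ((EtCoh.bc f).map o)).symm
    let k : ∀ a, Groth.Agent.LEtGlue.sub Bj (O a) ⟶ U (i a) := fun a => MorphismProperty.Over.homMk (l a ≫ h a) (by
      refine (congrArg ((l a ≫ h a) ≫ ·) (MorphismProperty.Over.w (gU (i a))).symm).trans ?_
      refine (Category.assoc _ _ _).symm.trans ((congrArg (· ≫ B.hom) (key2 a)).trans ?_)
      exact (Category.assoc _ _ _).trans (congrArg ((O a).ι ≫ ·) (MorphismProperty.Over.w ((EtCoh.bc f).map o)))) trivial
    have hk : ∀ a, k a ≫ gU (i a) = Groth.Agent.LEtGlue.incl Bj (O a) ≫ (EtCoh.bc f).map o := fun a =>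
      MorphismProperty.Over.Hom.ext (key2 a)
    obtain ⟨r, hr'⟩ := Groth.Agent.LEtGlue.exists_glue F.obj ((isSheaf_iff_isSheaf_of_type _ _).1 F.2) Bj O hdO hO
      (fun a => F.obj.map (k a).op (s (i a)))
    refine ⟨r, ?_⟩
    refine Groth.Agent.LEtGlue.eq_of_restrict G.obj ((isSheaf_iff_isSheaf_of_type _ _).1 G.2) Bj O hO _ _ fun a => ?_
    refine (NatTrans.naturality_apply g.hom (Groth.Agent.LEtGlue.incl Bj (O a)).op r).symm.trans ?_
    rw [hr' a, NatTrans.naturality_apply g.hom (k a).op (s (i a)), hs (i a)]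
    exact (ConcreteCategory.congr_hom (G.obj.map_comp (gU (i a)).op (k a).op) t₀).symm.trans
      ((congrArg (fun e => G.obj.map e t₀) (congrArg Quiver.Hom.op (hk a))).trans
        (ConcreteCategory.congr_hom (G.obj.map_comp ((EtCoh.bc f).map o).op (Groth.Agent.LEtGlue.incl Bj (O a)).op) t₀))⟩
  exact (Sheaf.isLocallySurjective_iff_epi _).1 key

end Groth.Agent.S6629
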