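import Groth.Statements.S6631
import Mathlib

set_option autoImplicit false
open CategoryTheory CategoryTheory.Limits AlgebraicGeometry Opposite
universe u
open EtDesc

namespace Groth.Agent.S6631

/-- Let f : X ⟶ Y be a morphism of schemes satisfying condition (C) (for every etale U ⟶ X there are an
etale V ⟶ Y and a surjective X-morphism X ×_Y V ⟶ U). Then the direct image of sheaves of sets on
the small etale sites along f reflects monomorphisms and epimorphisms. -/
theorem result {X Y : Scheme.{u}} (f : X ⟶ Y) (hC : BigSite.PropC f) :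
    (EtDesc.pushSh f).ReflectsMonomorphisms ∧ (EtDesc.pushSh f).ReflectsEpimorphisms := by
  have eX : X.smallEtaleTopology = (X.smallPretopology (P := EtCoh.etaleMP) (Q := EtCoh.etaleMP)).toGrothendieck :=
    Scheme.smallGrothendieckTopology_eq_toGrothendieck_smallPretopology X le_rfl
  have eY : Y.smallEtaleTopology = (Y.smallPretopology (P := EtCoh.etaleMP) (Q := EtCoh.etaleMP)).toGrothendieck :=
    Scheme.smallGrothendieckTopology_eq_toGrothendieck_smallPretopology Y le_rfl
  have main : ∀ U : X.Etale, ∃ (V : Y.Etale) (k : (EtCoh.bc f).obj V ⟶ U), Etale k.left ∧ Function.Surjective k.left := by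
    intro U
    have : Etale U.hom := U.prop
    obtain ⟨V, v, hv, h, hh, hsurj⟩ := hC U.left U.hom
    let V' : Y.Etale := Scheme.Etale.mk v
    let k : (EtCoh.bc f).obj V' ⟶ U := MorphismProperty.Over.homMk ((pullbackSymmetry v f).hom ≫ h) (by
      rw [Category.assoc, hh]
      exact pullbackSymmetry_hom_comp_fst v f) trivial
    refine ⟨V', k, ?_, ?_⟩
    · have : Etale (k.left ≫ U.hom) := by rw [MorphismProperty.Over.w k]; exact ((EtCoh.bc f).obj V').prop
      exact MorphismProperty.of_postcomp (W := @Etale) (W' := @Etale) k.left U.hom U.prop this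
    · intro x
      obtain ⟨y, rfl⟩ := hsurj.surj x
      refine ⟨(pullbackSymmetry v f).inv y, ?_⟩
      change ((pullbackSymmetry v f).hom ≫ h) ((pullbackSymmetry v f).inv y) = h y
      rw [← Scheme.Hom.comp_apply]
      exact congrArg (fun e : _ ⟶ U.left => e y) ((pullbackSymmetry v f).inv_hom_id_assoc h)
  constructor
  · refine ⟨fun {F G} φ _ => ?_⟩
    have hm : ∀ V, Function.Injective (φ.hom.app (op ((EtCoh.bc f).obj V))) := fun V => by
      have : Sheaf.IsLocallyInjective ((EtDesc.pushSh f).map φ) := by
        have : Mono ((sheafToPresheaf _ _).map ((EtDesc.pushSh f).map φ)) := inferInstance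
        refine Presheaf.isLocallyInjective_of_injective _ _ fun W => ?_
        exact (mono_iff_injective _).1 (((NatTrans.mono_iff_mono_app _).1 this) W)
      exact (Sheaf.isLocallyInjective_iff_injective _).1 this (op V)
    have : Sheaf.IsLocallyInjective φ := ⟨fun {W} a b e => by
      obtain ⟨V, k, hk, hs⟩ := main W.unop
      have hab : F.obj.map k.op a = F.obj.map k.op b := hm V (by
        rw [NatTrans.naturality_apply, NatTrans.naturality_apply, e])
      generalize hS : Presheaf.equalizerSieve a b = S
      rw [eX]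
      subst hS
      refine (Scheme.mem_toGrothendieck_smallPretopology W.unop _).2 fun x => ?_
      obtain ⟨y, hy⟩ := hs x
      exact ⟨(EtCoh.bc f).obj V, k, y, hab, hk, hy⟩⟩
    exact Sheaf.mono_of_isLocallyInjective φ
  · refine ⟨fun {F G} φ _ => ?_⟩
    have hp : Presheaf.IsLocallySurjective Y.smallEtaleTopology ((EtDesc.pushSh f).map φ).hom :=
      (Sheaf.isLocallySurjective_iff_epi _).2 inferInstance
    have : Sheaf.IsLocallySurjective φ := ⟨fun {U} t => by
      obtain ⟨V, k, hk, hs⟩ := main U
      have hcov := Presheaf.imageSieve_mem Y.smallEtaleTopology ((EtDesc.pushSh f).map φ).hom (U := op V) (G.obj.map k.op t)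
      have hcov' := (congrArg (fun J : GrothendieckTopology Y.Etale => (J V : Set (Sieve V))) eY) ▸ hcov
      generalize hS : Presheaf.imageSieve _ t = S
      rw [eX]
      subst hS
      refine (Scheme.mem_toGrothendieck_smallPretopology U _).2 fun x => ?_
      obtain ⟨q, hq⟩ := hs x
      obtain ⟨V₁, o, y, ⟨r, hr⟩, ho, hy⟩ :=
        (Scheme.mem_toGrothendieck_smallPretopology V _).1 hcov' ((pullback.fst V.hom f) q)
      have sq := EtCoh.isPullback_bc_map f o
      obtain ⟨z, hz1, -⟩ := Scheme.Pullback.exists_preimage_pullback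
        (f := (pullback.fst V.hom f : ((EtCoh.bc f).obj V).left ⟶ V.left)) (g := o.left) q y hy.symm
      refine ⟨(EtCoh.bc f).obj V₁, (EtCoh.bc f).map o ≫ k, sq.isoPullback.inv z, ⟨r, ?_⟩, ?_, ?_⟩
      · exact hr.trans (ConcreteCategory.congr_hom (G.obj.map_comp k.op ((EtCoh.bc f).map o).op) t).symm
      · have h1 : Etale ((EtCoh.bc f).map o).left := by
          have : Etale (((EtCoh.bc f).map o).left ≫ ((EtCoh.bc f).obj V).hom) := by
            rw [MorphismProperty.Over.w]; exact ((EtCoh.bc f).obj V₁).prop
          exact MorphismProperty.of_postcomp (W := @Etale) (W' := @Etale) _ _ ((EtCoh.bc f).obj V).prop this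
        exact MorphismProperty.comp_mem @Etale _ _ h1 hk
      · refine Eq.trans ?_ hq
        refine Eq.trans ?_ (congrArg k.left hz1)
        refine (Scheme.Hom.comp_apply _ k.left _).trans (congrArg k.left ?_)
        exact (Scheme.Hom.comp_apply _ _ z).symm.trans (congrArg (fun e : Limits.pullback _ _ ⟶ (((EtCoh.bc f).obj V).left : Scheme.{u}) => e z) sq.isoPullback_inv_fst)⟩
    exact (Sheaf.isLocallySurjective_iff_epi φ).1 this

end Groth.Agent.S6631
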