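import Groth.Statements.S6632
import Mathlib

set_option autoImplicit false
open CategoryTheory CategoryTheory.Limits AlgebraicGeometry Opposite
universe u
open EtCore

namespace Groth.Agent.S6632

/-- Let f : X ⟶ Y be a morphism of schemes such that, for every etale V ⟶ Y, the base change X ×_Y V ⟶ V
satisfies condition (C) (for every etale U ⟶ X ×_Y V there are an etale V' ⟶ V and a surjective
morphism from the base change of V' to U over X ×_Y V) and is closed as a map of topological spaces.
Then the base change functor V ↦ X ×_Y V from the small etale site of Y to that of X is almost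
cocontinuous: every covering sieve of X ×_Y V contains the images of the members of some covering
sieve of V, except for members V' for which X ×_Y V' is covered by the empty sieve. -/
theorem result {X Y : Scheme.{u}} (f : X ⟶ Y)
    (hC : ∀ (V : Scheme.{u}) (v : V ⟶ Y) [Etale v], BigSite.PropC (pullback.snd f v))
    (hcl : ∀ (V : Scheme.{u}) (v : V ⟶ Y) [Etale v], IsClosedMap (pullback.snd f v).base) :
    BigSite.IsAlmostCocontinuous (EtCoh.bc f) Y.smallEtaleTopology X.smallEtaleTopology := by
  intro V' R hR
  have eX : X.smallEtaleTopology = (X.smallPretopology (P := EtCoh.etaleMP) (Q := EtCoh.etaleMP)).toGrothendieck :=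
    Scheme.smallGrothendieckTopology_eq_toGrothendieck_smallPretopology X le_rfl
  have eY : Y.smallEtaleTopology = (Y.smallPretopology (P := EtCoh.etaleMP) (Q := EtCoh.etaleMP)).toGrothendieck :=
    Scheme.smallGrothendieckTopology_eq_toGrothendieck_smallPretopology Y le_rfl
  rw [eX] at hR
  choose A gA a hA het ha using (Scheme.mem_toGrothendieck_smallPretopology _ R).1 hR
  have : Etale V'.hom := V'.prop
  let v : V'.left ⟶ Y := V'.hom
  let σ : ((EtCoh.bc f).obj V').left ⟶ pullback f v := (pullbackSymmetry v f).hom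
  have hP : ∀ x, ∃ (W : Y.Etale) (g : W ⟶ V'), Etale g.left ∧ R ((EtCoh.bc f).map g) ∧
      ∃ w : W.left, g.left w = (pullback.snd f v) (σ x) := fun x => by
    have : Etale (gA x).left := het x
    have hEσ : Etale σ := by dsimp only [σ]; infer_instance
    have : Etale ((gA x).left ≫ σ) := MorphismProperty.comp_mem @Etale _ _ (het x) hEσ
    obtain ⟨V₁, v₁, hv₁, h, hh, hsurj⟩ := hC V'.left v (A x).left ((gA x).left ≫ σ)
    have : Etale (v₁ ≫ v) := MorphismProperty.comp_mem @Etale _ _ hv₁ V'.prop
    let W : Y.Etale := Scheme.Etale.mk (v₁ ≫ v)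
    let g : W ⟶ V' := MorphismProperty.Over.homMk v₁ rfl trivial
    have sq := EtCoh.isPullback_bc_map f g
    let c : ((EtCoh.bc f).obj W).left ⟶ pullback (pullback.snd f v) v₁ :=
      pullback.lift (((EtCoh.bc f).map g).left ≫ σ) (pullback.fst W.hom f) (by
        refine (Category.assoc _ _ _).trans ((congrArg (((EtCoh.bc f).map g).left ≫ ·) (pullbackSymmetry_hom_comp_snd v f)).trans ?_)
        exact sq.w)
    refine ⟨W, g, hv₁, ?_, ?_⟩
    · have hkey : (c ≫ h) ≫ (gA x).left = ((EtCoh.bc f).map g).left := by
        refine (cancel_mono σ).1 ?_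
        refine (Category.assoc _ _ _).trans ((Category.assoc _ _ _).trans ((congrArg (c ≫ ·) hh).trans ?_))
        exact pullback.lift_fst _ _ _
      let k : (EtCoh.bc f).obj W ⟶ A x := MorphismProperty.Over.homMk (c ≫ h) (by
        refine (congrArg ((c ≫ h) ≫ ·) (MorphismProperty.Over.w (gA x)).symm).trans ?_
        refine (Category.assoc _ _ _).symm.trans ((congrArg (· ≫ ((EtCoh.bc f).obj V').hom) hkey).trans ?_)
        exact MorphismProperty.Over.w ((EtCoh.bc f).map g)) trivial
      have : k ≫ gA x = (EtCoh.bc f).map g := MorphismProperty.Over.Hom.ext hkey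
      exact this ▸ R.downward_closed (hA x) k
    · obtain ⟨t, ht⟩ := hsurj.surj (a x)
      refine ⟨(pullback.snd (pullback.snd f v) v₁) t, ?_⟩
      have e1 : (pullback.fst (pullback.snd f v) v₁) t = σ x := by
        refine (congrArg (fun k : pullback (pullback.snd f v) v₁ ⟶ pullback f v => k t) hh).symm.trans ?_
        refine (Scheme.Hom.comp_apply h _ t).trans ((congrArg ((gA x).left ≫ σ) ht).trans ?_)
        exact (Scheme.Hom.comp_apply (gA x).left σ (a x)).trans (congrArg σ (ha x))
      refine (Scheme.Hom.comp_apply _ v₁ t).symm.trans ?_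
      refine (congrArg (fun k : pullback (pullback.snd f v) v₁ ⟶ V'.left => k t) pullback.condition.symm).trans ?_
      exact (Scheme.Hom.comp_apply _ (pullback.snd f v) t).trans (congrArg (pullback.snd f v) e1)
  let O : V'.left.Opens := ⟨(Set.range (pullback.snd f v))ᶜ,
    (hcl V'.left v).isClosed_range.isOpen_compl⟩
  let R' : Sieve V' :=
    { arrows := fun W g => (⊥ : Sieve ((EtCoh.bc f).obj W)) ∈ X.smallEtaleTopology _ ∨ R ((EtCoh.bc f).map g)
      downward_closed := fun {W W'} g hg k => by
        rcases hg with hg | hg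
        · refine Or.inl ?_
          have := X.smallEtaleTopology.pullback_stable ((EtCoh.bc f).map k) hg
          rwa [show Sieve.pullback ((EtCoh.bc f).map k) ⊥ = ⊥ from Sieve.ext fun _ _ => Iff.rfl] at this
        · exact Or.inr (by rw [Functor.map_comp]; exact R.downward_closed hg _) }
  refine ⟨R', ?_, fun W g hg => hg⟩
  rw [eY]
  refine (Scheme.mem_toGrothendieck_smallPretopology V' R').2 fun y => ?_
  by_cases hy : y ∈ Set.range (pullback.snd f v)
  · obtain ⟨b, rfl⟩ := hy
    obtain ⟨W, g, hg, hR', w, hw⟩ := hP ((pullbackSymmetry v f).inv b)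
    refine ⟨W, g, w, Or.inr hR', hg, hw.trans (congrArg (pullback.snd f v) ?_)⟩
    exact (Scheme.Hom.comp_apply _ σ b).symm.trans
      (congrArg (fun k : pullback f v ⟶ pullback f v => k b) (pullbackSymmetry v f).inv_hom_id)
  · have : Etale (O.ι ≫ V'.hom) := MorphismProperty.comp_mem @Etale O.ι V'.hom inferInstance V'.prop
    let W : Y.Etale := Scheme.Etale.mk (O.ι ≫ V'.hom)
    let g : W ⟶ V' := MorphismProperty.Over.homMk O.ι rfl trivial
    refine ⟨W, g, ⟨y, hy⟩, Or.inl ?_, (inferInstance : Etale O.ι), rfl⟩
    rw [eX]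
    refine (Scheme.mem_toGrothendieck_smallPretopology _ _).2 fun (z : (pullback W.hom f : Scheme.{u})) => ?_
    refine ((pullback.fst W.hom f) z).2 ⟨σ (((EtCoh.bc f).map g).left z), ?_⟩ |>.elim
    refine (Scheme.Hom.comp_apply σ (pullback.snd f v) _).symm.trans ?_
    refine (congrArg (fun k : ((EtCoh.bc f).obj V').left ⟶ V'.left => k (((EtCoh.bc f).map g).left z))
      (pullbackSymmetry_hom_comp_snd v f)).trans ?_
    exact (Scheme.Hom.comp_apply _ _ z).symm.trans
      ((congrArg (fun k : _ ⟶ V'.left => k z) (EtCoh.isPullback_bc_map f g).w).trans (Scheme.Hom.comp_apply _ _ z))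

end Groth.Agent.S6632
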