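import Groth.Statements.S6637
import Groth.Agent.Lib.H5Cont

set_option autoImplicit false
open CategoryTheory CategoryTheory.Limits AlgebraicGeometry Opposite
universe u
open BigSite

namespace Groth.Agent.S6637

/-- For the Zariski, etale, smooth and fppf topologies: for a monomorphism of schemes f : X ⟶ Y the
counit f_big⁻¹ f_big,* F ⟶ F is an isomorphism for every sheaf of sets F on the big site of X, and
for every abelian sheaf. (The published statement also covers the syntomic topology; this row treats
the Zariski, etale, smooth and fppf topologies only.) -/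
theorem result {X Y : Scheme.{u}} (f : X ⟶ Y) [Mono f]
    (K : Precoverage Scheme.{u}) (hK : K = Scheme.zariskiPrecoverage ∨ K = Scheme.etalePrecoverage ∨
      K = Scheme.precoverage @Smooth ∨ K = Scheme.fppfPrecoverage) :
    (∀ F : QuotSh.Sh K X, IsIso ((BigSite.bigAdj K f (Type (u + 1))).counit.app F)) ∧
      (∀ F : BigSite.Ab K X, IsIso ((BigSite.bigAdj K f AddCommGrpCat.{u + 1}).counit.app F)) := by
  haveI : (Over.map f).Full := ⟨fun {U V} g => ⟨Over.homMk g.left ((cancel_mono f).1 (by simpa using Over.w g)), by ext; rfl⟩⟩
  haveI : (Over.map f).Faithful := ⟨fun {U V a b} h => by ext; exact congrArg (fun φ => φ.left) h⟩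
  haveI : IsIso (Over.mapPullbackAdj f).unit := (Over.mapPullbackAdj f).unit_isIso_of_L_fully_faithful
  constructor
  · intro F
    haveI : IsIso ((bigAdj K f (Type (u + 1))).counit.app F).hom := by
      rw [NatTrans.isIso_iff_isIso_app]
      intro U
      change IsIso (F.obj.map ((Over.mapPullbackAdj f).unit.app U.unop).op)
      infer_instance
    exact (isIso_iff_of_reflects_iso _ (sheafToPresheaf _ _)).1 this
  · intro F
    haveI : IsIso ((bigAdj K f AddCommGrpCat.{u + 1}).counit.app F).hom := by
      rw [NatTrans.isIso_iff_isIso_app]
      intro U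
      change IsIso (F.obj.map ((Over.mapPullbackAdj f).unit.app U.unop).op)
      infer_instance
    exact (isIso_iff_of_reflects_iso _ (sheafToPresheaf _ _)).1 this

end Groth.Agent.S6637
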