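import Groth.Statements.S6658
import Mathlib
import Groth.Agent.Lib.LEtExtZero
import Groth.Agent.Lib.LDerConn
import Groth.Agent.Lib.LDerPrecomp

set_option autoImplicit false
universe u
open CategoryTheory CategoryTheory.Limits AlgebraicGeometry Opposite
open EtDual

namespace Groth.Agent.S6658

/-- The exact sequence and the isomorphisms: let j : U → X be an open immersion of schemes with closed
complement Z and F an abelian sheaf on the small etale site of X. Write H^q_Z(F) for the q-th local
cohomology sheaf of F with support in Z, kept as a sheaf on X (the q-th right derived functor of G ↦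
ker(G → j_* j⁻¹ G)). Then the cokernel of the unit F → j_* j⁻¹ F is isomorphic to H^1_Z(F), and for
every p ≥ 1 the higher direct image R^p j_* (j⁻¹ F) is isomorphic to H^{p+1}_Z(F). (The published
statement also gives the distinguished triangle behind these isomorphisms and identifies them with
its connecting maps; this row asserts only that isomorphisms exist.) -/
theorem result {X U : Scheme.{u}} (j : U ⟶ X) [IsOpenImmersion j]
    (F : EtCoh.Ab X) :
    Nonempty (cokernel (EtDual.unitApp j F) ≅ (EtDual.locCoh j 1).obj F) ∧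
      ∀ p : ℕ, 1 ≤ p →
        Nonempty ((EtCoh.Rpush j p).obj ((EtCoh.pull j).obj F) ≅ (EtDual.locCoh j (p + 1)).obj F) := by
  have := Groth.Agent.LEtPullExactAb.preservesFiniteLimits_pull j
  have := (EtCoh.pullPushAdj j).leftAdjoint_preservesColimits
  have : PreservesFiniteColimits (EtCoh.pull j) := inferInstance
  have : (EtCoh.push j).IsRightAdjoint := (EtCoh.pullPushAdj j).isRightAdjoint
  have : (EtCoh.pull j).Additive := (EtCoh.pullPushAdj j).left_adjoint_additive
  have : PreservesFiniteLimits (EtCoh.pull j ⋙ EtCoh.push j) := comp_preservesFiniteLimits _ _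
  let α : EtDual.secSupp j ⟶ 𝟭 (EtCoh.Ab X) :=
    { app := fun F => kernel.ι _
      naturality := fun F G φ => kernel.lift_ι _ _ _ }
  let β : 𝟭 (EtCoh.Ab X) ⟶ EtCoh.pull j ⋙ EtCoh.push j := (EtCoh.pullPushAdj j).unit
  have w : α ≫ β = 0 := NatTrans.ext (funext fun F => kernel.condition _)
  have h : ∀ I : EtCoh.Ab X, Injective I → (ShortComplex.mk (α.app I) (β.app I) (by
      rw [← NatTrans.comp_app, w]; rfl)).ShortExact := fun I hI => by
    have : Mono (α.app I) := (inferInstance : Mono (kernel.ι _))
    have : Epi (β.app I) := Groth.Agent.LEtExtZero.epi_unit j I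
    exact ShortComplex.ShortExact.mk' (ShortComplex.exact_of_f_is_kernel _ (kernelIsKernel (β.app I))) ‹_› ‹_›
  refine ⟨?_, fun p hp => ?_⟩
  · obtain ⟨e⟩ := Groth.Agent.LDerConn.one_iso α β w h
    exact ⟨(PreservesCokernel.iso ((evaluation (EtCoh.Ab X) (EtCoh.Ab X)).obj F) β).symm ≪≫ (e.app F).symm⟩
  · obtain ⟨n, rfl⟩ : ∃ n, p = n + 1 := ⟨p - 1, by omega⟩
    obtain ⟨e⟩ := Groth.Agent.LDerConn.succ_iso α β w h n
    obtain ⟨e'⟩ := Groth.Agent.LDerPrecomp.nonempty_precomp (EtCoh.pull j)
      (fun G hG => Groth.Agent.LEtExtZero.injective_pull j G) (EtCoh.push j) (n + 1)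
    exact ⟨(e'.symm ≪≫ e).app F⟩

end Groth.Agent.S6658
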