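import Groth.Statements.S6778
import Mathlib

set_option autoImplicit false
set_option backward.isDefEq.respectTransparency.types false
set_option maxHeartbeats 1000000
set_option linter.all false
open CategoryTheory CategoryTheory.Limits
universe v u
open CategoryTheory CategoryTheory.Abelian

namespace Groth.Agent.S6778
open Groth.Agent

/-- For a commutative diagram with rows `x ⟶ y ⟶ z` and `u ⟶ v ⟶ w` in an abelian category, if the
second row is exact and the second map `g` of the first row is an epimorphism, then the induced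
sequence of cokernels of the vertical maps is exact. -/
theorem result {A : Type u} [Category.{v} A] [Abelian A] {x y z u' v' w : A} (f : x ⟶ y) (g : y ⟶ z) (k : u' ⟶ v') (l : v' ⟶ w) (α : x ⟶ u') (β : y ⟶ v') (γ : z ⟶ w) (h₁ : α ≫ k = f ≫ β) (h₂ : β ≫ l = g ≫ γ) (hkl : k ≫ l = 0) (hex : (ShortComplex.mk k l hkl).Exact) [Epi g] : ∃ hc : cokernel.map α β f k h₁ ≫ cokernel.map β γ g l h₂ = 0, (ShortComplex.mk _ _ hc).Exact := by
  have hc : cokernel.map α β f k h₁ ≫ cokernel.map β γ g l h₂ = 0 := by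
    apply coequalizer.hom_ext
    simp [reassoc_of% hkl]
  refine ⟨hc, ?_⟩
  rw [ShortComplex.exact_iff_exact_up_to_refinements]
  intro T t ht
  replace ht : t ≫ cokernel.map β γ g l h₂ = 0 := ht
  obtain ⟨T₁, π₁, hπ₁, y, hy⟩ := surjective_up_to_refinements_of_epi (cokernel.π β) t
  have hy' : (y ≫ l) ≫ cokernel.π γ = 0 := by
    have := congrArg (π₁ ≫ ·) ht
    simp only [← Category.assoc, hy, comp_zero] at this
    simpa [cokernel.map] using this
  obtain ⟨T₂, π₂, hπ₂, zz, hzz⟩ := (ShortComplex.exact_iff_exact_up_to_refinements (ShortComplex.mk γ (cokernel.π γ) (cokernel.condition γ))).1 (ShortComplex.exact_cokernel γ) (y ≫ l) hy'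
  replace hzz : π₂ ≫ y ≫ l = zz ≫ γ := hzz
  obtain ⟨T₃, π₃, hπ₃, yy, hyy⟩ := surjective_up_to_refinements_of_epi g zz
  have h3 : (π₃ ≫ π₂ ≫ y - yy ≫ β) ≫ l = 0 := by
    rw [Preadditive.sub_comp, Category.assoc, Category.assoc, Category.assoc, hzz, h₂, ← reassoc_of% hyy, sub_self]
  obtain ⟨T₄, π₄, hπ₄, uu, huu⟩ := (ShortComplex.exact_iff_exact_up_to_refinements _).1 hex _ h3
  replace huu : π₄ ≫ (π₃ ≫ π₂ ≫ y - yy ≫ β) = uu ≫ k := huu
  refine ⟨T₄, π₄ ≫ π₃ ≫ π₂ ≫ π₁, inferInstance, uu ≫ cokernel.π α, ?_⟩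
  show (π₄ ≫ π₃ ≫ π₂ ≫ π₁) ≫ t = (uu ≫ cokernel.π α) ≫ cokernel.map α β f k h₁
  have h4 : (uu ≫ cokernel.π α) ≫ cokernel.map α β f k h₁ = (uu ≫ k) ≫ cokernel.π β := by simp
  rw [h4, ← huu]
  simp [hy]

end Groth.Agent.S6778
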