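import Groth.Statements.S6779
import Mathlib

set_option autoImplicit false
open CategoryTheory
universe u
open SSet

namespace Groth.Agent.S6779

open Simplicial in
theorem ye {Z : SSet.{u}} {n : ℕ} (j : Fin (n + 2)) (φ : Δ[n + 1] ⟶ Z) :
    yonedaEquiv (stdSimplex.δ j ≫ φ) = Z.δ j (yonedaEquiv φ) := by
  obtain ⟨x, rfl⟩ := yonedaEquiv.symm.surjective φ
  rw [Equiv.apply_symm_apply]
  rfl

section
open Simplicial
variable (X : SimplicialObject GrpCat.{u})

theorem dd {m : ℕ} {i j : Fin (m + 2)} (H : i ≤ j) (x : X _⦋m + 2⦌) : X.δ i (X.δ j.succ x) = X.δ j (X.δ i.castSucc x) := by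
  have := X.δ_comp_δ H
  exact ConcreteCategory.congr_hom this x

theorem ds_self {m : ℕ} (i : Fin (m + 1)) (x : X _⦋m⦌) : X.δ i.castSucc (X.σ i x) = x :=
  ConcreteCategory.congr_hom (X.δ_comp_σ_self (i := i)) x

theorem ds_succ {m : ℕ} (i : Fin (m + 1)) (x : X _⦋m⦌) : X.δ i.succ (X.σ i x) = x :=
  ConcreteCategory.congr_hom (X.δ_comp_σ_succ (i := i)) x

theorem ds_le {m : ℕ} {i : Fin (m + 2)} {j : Fin (m + 1)} (H : i ≤ j.castSucc) (x : X _⦋m + 1⦌) :
    X.δ i.castSucc (X.σ j.succ x) = X.σ j (X.δ i x) :=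
  ConcreteCategory.congr_hom (X.δ_comp_σ_of_le H) x

theorem ds_gt {m : ℕ} {i : Fin (m + 2)} {j : Fin (m + 1)} (H : j.castSucc < i) (x : X _⦋m + 1⦌) :
    X.δ i.succ (X.σ j.castSucc x) = X.σ j (X.δ i x) :=
  ConcreteCategory.congr_hom (X.δ_comp_σ_of_gt H) x

/-- the compatibility of a horn -/
def Compat {m : ℕ} (i : Fin (m + 3)) (x : ∀ j : Fin (m + 3), j ≠ i → X _⦋m + 1⦌) : Prop :=
  ∀ (a b : Fin (m + 2)) (ha : a.castSucc ≠ i) (hb : b.succ ≠ i), a ≤ b →
    X.δ b (x a.castSucc ha) = X.δ a (x b.succ hb)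

/-- filling a horn of dimension at least two -/
theorem fill {m : ℕ} (i : Fin (m + 3)) (x : ∀ j : Fin (m + 3), j ≠ i → X _⦋m + 1⦌) (hx : Compat X i x) :
    ∃ w : X _⦋m + 2⦌, ∀ (j : Fin (m + 3)) (hj : j ≠ i), X.δ j w = x j hj := by
  have h1 : ∀ r : ℕ, r ≤ (i : ℕ) → ∃ w : X _⦋m + 2⦌, ∀ (j : Fin (m + 3)) (hj : j ≠ i), (j : ℕ) < r → X.δ j w = x j hj := by
    intro r hr
    induction r with
    | zero => exact ⟨1, fun j _ h => absurd h (Nat.not_lt_zero _)⟩
    | succ r ih =>
      obtain ⟨w, hw⟩ := ih (by omega)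
      let r' : Fin (m + 2) := ⟨r, by omega⟩
      have hri : r'.castSucc ≠ i := fun h => by have := congrArg Fin.val h; simp [r'] at this; omega
      set u := (X.δ r'.castSucc w)⁻¹ * x r'.castSucc hri with hu
      refine ⟨w * X.σ r' u, fun j hj hjr => ?_⟩
      rw [map_mul]
      rcases eq_or_lt_of_le (Nat.lt_succ_iff.1 hjr) with h | h
      · obtain rfl : j = r'.castSucc := Fin.ext h
        rw [ds_self, hu, mul_inv_cancel_left]
      · obtain ⟨j', rfl⟩ : ∃ j' : Fin (m + 2), j'.castSucc = j := ⟨⟨j, by omega⟩, rfl⟩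
        obtain ⟨b, hb⟩ : ∃ b : Fin (m + 1), b.succ = r' := ⟨⟨r - 1, by omega⟩, Fin.ext (by simp [r']; simp at h; omega)⟩
        have hle : j' ≤ b.castSucc := Fin.le_def.2 (by have := congrArg Fin.val hb; simp [r'] at this h ⊢; omega)
        have hu1 : X.δ j' u = 1 := by
          have e1 : r'.castSucc = (b.castSucc).succ := by rw [← hb, Fin.succ_castSucc]
          have e2 : X.δ b.castSucc (x j'.castSucc hj) = X.δ j' (x r'.castSucc hri) := by
            rw [hx j' b.castSucc hj (by rw [← e1]; exact hri) hle]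
            congr 2; exact e1.symm
          rw [hu, map_mul, map_inv, ← e2, e1, dd X hle, hw _ hj h, inv_mul_cancel]
        rw [hw _ hj h, ← hb, ds_le X hle, hu1, map_one, mul_one]
  have h2 : ∀ q : ℕ, q + (i : ℕ) ≤ m + 2 → ∃ w : X _⦋m + 2⦌, ∀ (j : Fin (m + 3)) (hj : j ≠ i),
      ((j : ℕ) < (i : ℕ) ∨ m + 2 < (j : ℕ) + q) → X.δ j w = x j hj := by
    intro q hq
    induction q with
    | zero =>
      obtain ⟨w, hw⟩ := h1 i le_rfl
      exact ⟨w, fun j hj h => hw j hj (h.resolve_right (by omega))⟩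
    | succ q ih =>
      obtain ⟨w, hw⟩ := ih (by omega)
      let r' : Fin (m + 2) := ⟨m + 1 - q, by omega⟩
      have hri : r'.succ ≠ i := fun h => by have := congrArg Fin.val h; simp [r'] at this; omega
      set u := (X.δ r'.succ w)⁻¹ * x r'.succ hri with hu
      refine ⟨w * X.σ r' u, fun j hj hjr => ?_⟩
      rw [map_mul]
      by_cases hjeq : (j : ℕ) = m + 2 - q
      · obtain rfl : j = r'.succ := Fin.ext (by simp [r']; omega)
        rw [ds_succ, hu, mul_inv_cancel_left]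
      have hjr' : (j : ℕ) < (i : ℕ) ∨ m + 2 < (j : ℕ) + q := by omega
      rw [hw _ hj hjr']
      rcases hjr' with h | h
      · obtain ⟨j', rfl⟩ : ∃ j' : Fin (m + 2), j'.castSucc = j := ⟨⟨j, by omega⟩, rfl⟩
        simp only [Fin.val_castSucc] at h
        obtain ⟨b, hb⟩ : ∃ b : Fin (m + 1), b.succ = r' := ⟨⟨m - q, by omega⟩, Fin.ext (by simp [r']; omega)⟩
        have hbv : (b : ℕ) = m - q := by have := congrArg Fin.val hb; simp [r'] at this; omega
        have hle : j' ≤ b.castSucc := Fin.le_def.2 (by simp; omega)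
        have hle' : j' ≤ r' := Fin.le_def.2 (by simp [r']; omega)
        have hu1 : X.δ j' u = 1 := by
          rw [hu, map_mul, map_inv, dd X hle', hw _ hj (Or.inl h), ← hx j' r' hj hri hle', inv_mul_cancel]
        rw [← hb, ds_le X hle, hu1, map_one, mul_one]
      · obtain ⟨j', rfl⟩ : ∃ j' : Fin (m + 2), j'.succ = j := ⟨⟨(j : ℕ) - 1, by omega⟩, Fin.ext (by simp; omega)⟩
        simp only [Fin.val_succ] at h
        obtain ⟨b, hb⟩ : ∃ b : Fin (m + 1), b.castSucc = r' := ⟨⟨m + 1 - q, by omega⟩, rfl⟩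
        have hbv : (b : ℕ) = m + 1 - q := by have := congrArg Fin.val hb; simpa [r'] using this
        have hlt : b.castSucc < j' := Fin.lt_def.2 (by simp; omega)
        obtain ⟨a, ha⟩ : ∃ a : Fin (m + 2), a.castSucc = r'.succ := ⟨⟨m + 2 - q, by omega⟩, Fin.ext (by simp [r']; omega)⟩
        have hle : a ≤ j' := Fin.le_def.2 (by have := congrArg Fin.val ha; simp [r'] at this; omega)
        have hu1 : X.δ j' u = 1 := by
          have e2 : X.δ a (x j'.succ hj) = X.δ j' (x r'.succ hri) := by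
            rw [← hx a j' (by rw [ha]; exact hri) hj hle]
            congr 2
          rw [hu, map_mul, map_inv, ← e2, ← ha, ← dd X hle, hw _ hj (Or.inr (by simpa using h)), inv_mul_cancel]
        rw [← hb, ds_gt X hlt, hu1, map_one, mul_one]
  obtain ⟨w, hw⟩ := h2 (m + 2 - (i : ℕ)) (by omega)
  exact ⟨w, fun j hj => hw j hj (by rcases lt_or_gt_of_ne (fun h => hj (Fin.ext h)) with h | h <;> omega)⟩

end

/-- The underlying simplicial set of a simplicial group is a Kan complex. -/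
theorem result (X : SimplicialObject GrpCat.{u}) : SSet.KanComplex (X ⋙ forget GrpCat.{u}) := by
  open Simplicial in
  refine KanComplex.iff.2 fun n i f hf => ?_
  suffices h : ∃ w : X _⦋n + 1⦌, ∀ (j : Fin (n + 2)) (hj : j ≠ i), X.δ j w = yonedaEquiv (f j hj) by
    obtain ⟨w, hw⟩ := h
    refine ⟨yonedaEquiv.symm w, fun j hj => yonedaEquiv.injective ?_⟩
    rw [ye, Equiv.apply_symm_apply]
    exact hw j hj
  obtain _ | m := n
  · obtain ⟨k, hk⟩ : ∃ k : Fin 2, ∀ j : Fin 2, j ≠ i → j = k := by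
      refine ⟨1 - i, fun j hj => ?_⟩
      fin_cases i <;> fin_cases j <;> simp_all
    by_cases hki : k = i
    · exact ⟨1, fun j hj => absurd ((hk j hj).trans hki) hj⟩
    refine ⟨X.σ 0 (yonedaEquiv (f k hki)), fun j hj => ?_⟩
    obtain rfl := hk j hj
    fin_cases j
    · exact ds_self X 0 _
    · exact ds_succ X 0 _
  · refine fill X i (fun j hj => yonedaEquiv (f j hj)) fun a b ha hb hab => ?_
    have h1 := congrArg yonedaEquiv (hf a.castSucc b.succ ha hb (Fin.lt_def.2 (by have := Fin.le_def.1 hab; simp; omega)))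
    rw [ye, ye] at h1
    simp only [Fin.pred_succ, Fin.castPred_castSucc] at h1
    exact h1

end Groth.Agent.S6779
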