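import Groth.Statements.S6782
import Mathlib

set_option autoImplicit false
set_option backward.isDefEq.respectTransparency.types false
set_option maxHeartbeats 1000000
set_option linter.all false
open CategoryTheory Opposite
universe u
open SSet

namespace Groth.Agent.S6782
open Groth.Agent
open CategoryTheory CategoryTheory.Limits Opposite

/-- A map of `n`-coskeletal simplicial sets which is bijective on simplices of dimension `< n` and
surjective on `n`-simplices is a trivial Kan fibration. -/
theorem result {U V : SSet.{u}} (f : V ⟶ U) (n : ℕ) (h1 : ∀ i : ℕ, i < n → Function.Bijective (f.app (op (SimplexCategory.mk i)))) (h2 : Function.Surjective (f.app (op (SimplexCategory.mk n)))) [SimplicialObject.IsCoskeletal U n] [SimplicialObject.IsCoskeletal V n] : SSet.modelCategoryQuillen.I.rlp f := by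
    intro A B g hg
    simp only [SSet.modelCategoryQuillen.I] at hg
    obtain ⟨m⟩ := hg
    refine ⟨fun {a b} sq => ?_⟩
    by_cases hm : n < m
    · let L := (SimplexCategory.Truncated.inclusion n).op
      haveI : IsIso (Functor.whiskerLeft L (SSet.boundary.{u} m).ι) := by
        rw [NatTrans.isIso_iff_isIso_app]
        intro d
        rw [isIso_iff_bijective]
        refine ⟨fun p q h => Subtype.ext h, fun p => ⟨⟨p, ?_⟩, rfl⟩⟩
        obtain ⟨d⟩ := d
        obtain ⟨⟨d⟩, hd⟩ := d
        change _ ∈ (SSet.boundary m).obj (op (SimplexCategory.mk d))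
        rw [SSet.boundary_obj_eq_univ d m (lt_of_le_of_lt hd hm)]
        trivial
      let l := Functor.liftOfIsRightKanExtension V (𝟙 (L ⋙ V)) _
        (inv (Functor.whiskerLeft L (SSet.boundary.{u} m).ι) ≫ Functor.whiskerLeft L a)
      have hl : Functor.whiskerLeft L l = inv (Functor.whiskerLeft L (SSet.boundary.{u} m).ι) ≫ Functor.whiskerLeft L a := by
        have := Functor.liftOfIsRightKanExtension_fac V (𝟙 (L ⋙ V)) _
          (inv (Functor.whiskerLeft L (SSet.boundary.{u} m).ι) ≫ Functor.whiskerLeft L a)
        exact (Category.comp_id _).symm.trans this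
      refine ⟨⟨{ l := l, fac_left := ?_, fac_right := ?_ }⟩⟩
      · refine Functor.hom_ext_of_isRightKanExtension V (𝟙 (L ⋙ V)) _ _ ?_
        rw [Category.comp_id, Category.comp_id, Functor.whiskerLeft_comp, hl, IsIso.hom_inv_id_assoc]
      · refine Functor.hom_ext_of_isRightKanExtension U (𝟙 (L ⋙ U)) _ _ ?_
        rw [Category.comp_id, Category.comp_id, Functor.whiskerLeft_comp, hl, Category.assoc,
          ← Functor.whiskerLeft_comp, sq.w, Functor.whiskerLeft_comp, IsIso.inv_hom_id_assoc]
    · have hs : Function.Surjective (f.app (op (SimplexCategory.mk m))) := by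
        rcases (Nat.le_of_not_lt hm).lt_or_eq with h | h
        · exact (h1 m h).2
        · exact h ▸ h2
      obtain ⟨x, hx⟩ := hs (SSet.yonedaEquiv b)
      refine ⟨⟨{ l := SSet.yonedaEquiv.symm x, fac_left := ?_, fac_right := ?_ }⟩⟩
      · cases m with
        | zero =>
          ext
        | succ k =>
          refine SSet.boundary.hom_ext fun i => SSet.yonedaEquiv.injective ((h1 k (by omega)).1 ?_)
          rw [SSet.boundary.ι_ι_assoc, SSet.stdSimplex.yonedaEquiv_δ_comp, Equiv.apply_symm_apply]
          rw [← SSet.yonedaEquiv_comp (_ ≫ a), Category.assoc, sq.w, SSet.boundary.ι_ι_assoc,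
            SSet.stdSimplex.yonedaEquiv_δ_comp, ← hx]
          exact ConcreteCategory.congr_hom (SimplicialObject.δ_naturality f i) x
      · apply SSet.yonedaEquiv.injective
        rw [SSet.yonedaEquiv_comp, Equiv.apply_symm_apply]
        exact hx

end Groth.Agent.S6782
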