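import Groth.Statements.S6788
import Mathlib

set_option autoImplicit false
set_option backward.isDefEq.respectTransparency.types false
set_option maxHeartbeats 1000000
set_option linter.all false
open CategoryTheory CategoryTheory.Limits
universe v u v' u'
open CategoryTheory CategoryTheory.Localization

namespace Groth.Agent.S6788
open Groth.Agent

/-- For a multiplicative system `W` (left and right calculus of fractions) in a preadditive category
with a zero object and its localization functor `L`, an object `X` becomes zero in the localization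
iff some zero map out of `X` lies in `W`, iff some zero map into `X` lies in `W`. (The published
statement assumes the category additive; only the zero object and the preadditive structure are
used.) -/
theorem result {C : Type u} [Category.{v} C] [Preadditive C] [HasZeroObject C] {D : Type u'} [Category.{v'} D] (L : C ⥤ D) (W : MorphismProperty C) [W.HasLeftCalculusOfFractions] [W.HasRightCalculusOfFractions] [L.IsLocalization W] (X : C) : (IsZero (L.obj X) ↔ ∃ Y : C, W (0 : X ⟶ Y)) ∧ (IsZero (L.obj X) ↔ ∃ Z : C, W (0 : Z ⟶ X)) := by
  have hinv := Localization.inverts L W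
  let O : C := Classical.choose (HasZeroObject.zero (C := C))
  have hO : IsZero O := Classical.choose_spec (HasZeroObject.zero (C := C))
  have hess : L.EssSurj := Localization.essSurj L W
  have hLO : IsZero (L.obj O) := by
    constructor
    · intro Y
      refine ⟨⟨⟨L.map (hO.to_ (L.objPreimage Y)) ≫ (L.objObjPreimageIso Y).hom⟩, fun g => ?_⟩⟩
      show g = L.map (hO.to_ (L.objPreimage Y)) ≫ (L.objObjPreimageIso Y).hom
      rw [← cancel_mono (L.objObjPreimageIso Y).inv, Category.assoc, Iso.hom_inv_id, Category.comp_id]
      obtain ⟨φ, hφ⟩ := Localization.exists_leftFraction L W (g ≫ (L.objObjPreimageIso Y).inv)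
      haveI := hinv _ φ.hs
      rw [hφ, ← cancel_mono (L.map φ.s), MorphismProperty.LeftFraction.map_comp_map_s, ← L.map_comp]
      exact congrArg L.map (hO.eq_of_src _ _)
    · intro Y
      refine ⟨⟨⟨(L.objObjPreimageIso Y).inv ≫ L.map (hO.from_ (L.objPreimage Y))⟩, fun g => ?_⟩⟩
      show g = (L.objObjPreimageIso Y).inv ≫ L.map (hO.from_ (L.objPreimage Y))
      rw [← cancel_epi (L.objObjPreimageIso Y).hom, Iso.hom_inv_id_assoc]
      obtain ⟨φ, hφ⟩ := Localization.exists_rightFraction L W ((L.objObjPreimageIso Y).hom ≫ g)
      haveI := hinv _ φ.hs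
      rw [hφ, ← cancel_epi (L.map φ.s), MorphismProperty.RightFraction.map_s_comp_map, ← L.map_comp]
      exact congrArg L.map (hO.eq_of_tgt _ _)
  have key : IsZero (L.obj X) ↔ L.map (𝟙 X) = L.map (0 : X ⟶ X) := by
    constructor
    · exact fun h => h.eq_of_src _ _
    · intro h
      refine hLO.of_iso ⟨L.map (hO.from_ X), L.map (hO.to_ X), ?_, hLO.eq_of_src _ _⟩
      rw [← L.map_comp, ← L.map_id, h]
      exact congrArg L.map (by rw [hO.eq_of_tgt (hO.from_ X) 0, zero_comp])
  constructor
  · rw [key, MorphismProperty.map_eq_iff_postcomp L W]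
    constructor
    · rintro ⟨Y, s, hs, e⟩
      rw [Category.id_comp, zero_comp] at e
      exact ⟨Y, e ▸ hs⟩
    · rintro ⟨Y, h⟩
      exact ⟨Y, 0, h, by simp⟩
  · rw [key, MorphismProperty.map_eq_iff_precomp L W]
    constructor
    · rintro ⟨Y, s, hs, e⟩
      rw [Category.comp_id, comp_zero] at e
      exact ⟨Y, e ▸ hs⟩
    · rintro ⟨Y, h⟩
      exact ⟨Y, 0, h, by simp⟩

end Groth.Agent.S6788
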