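import Groth.Statements.S6799
import Mathlib

set_option autoImplicit false
set_option backward.isDefEq.respectTransparency.types false
set_option maxHeartbeats 1000000
set_option linter.all false
open CategoryTheory Opposite
universe u
open SSet

namespace Groth.Agent.S6799
open Groth.Agent
open CategoryTheory.MonoidalCategory

/-- Two maps between `n`-coskeletal simplicial sets which agree on simplices of dimension `< n` are
homotopic, by a single homotopy. -/
theorem result {U V : SSet.{u}} (f₀ f₁ : V ⟶ U) (n : ℕ) (h : ∀ i : ℕ, i < n → f₀.app (op (SimplexCategory.mk i)) = f₁.app (op (SimplexCategory.mk i))) [SimplicialObject.IsCoskeletal U n] [SimplicialObject.IsCoskeletal V n] : Nonempty (SSet.Homotopy f₀ f₁) := by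
    classical
    let L := (SimplexCategory.Truncated.inclusion n).op
    have key : ∀ (i j : SimplexCategory) (α : j ⟶ i), i.len ≤ n → j.len ≤ n → ∀ x : V.obj (op i),
        j = i ∧ HEq α (𝟙 i) ∨ f₀.app (op j) (V.map α.op x) = f₁.app (op j) (V.map α.op x) := by
      intro i j α hi hj x
      obtain ⟨a, rfl⟩ : ∃ a, i = SimplexCategory.mk a := ⟨i.len, rfl⟩
      obtain ⟨b, rfl⟩ : ∃ b, j = SimplexCategory.mk b := ⟨j.len, rfl⟩
      simp only [SimplexCategory.len_mk] at hi hj
      by_cases hb : b < n
      · right; rw [h b hb]
      have nat0 : ∀ {c : SimplexCategory} (φ : SimplexCategory.mk b ⟶ c) (y : V.obj (op c)),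
          f₀.app (op c) y = f₁.app (op c) y →
          f₀.app (op (SimplexCategory.mk b)) (V.map φ.op y) = f₁.app (op (SimplexCategory.mk b)) (V.map φ.op y) := by
        intro c φ y hy
        rw [NatTrans.naturality_apply f₀, NatTrans.naturality_apply f₁, hy]
      by_cases ha : a < n
      · right
        exact nat0 α x (by rw [h a ha])
      obtain rfl : b = a := by omega
      by_cases hinj : Function.Injective α.toOrderHom
      · left
        haveI : Mono α := SimplexCategory.mono_iff_injective.2 hinj
        exact ⟨rfl, heq_of_eq (SimplexCategory.eq_id_of_mono α)⟩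
      · right
        rcases b with _ | m
        · exact absurd (Function.injective_of_subsingleton (α := Fin 1) _) hinj
        obtain ⟨k, θ, hθ⟩ := SimplexCategory.eq_σ_comp_of_not_injective α hinj
        rw [hθ, op_comp, Functor.map_comp]
        show f₀.app _ (V.map _ (V.map _ x)) = f₁.app _ (V.map _ (V.map _ x))
        exact nat0 _ _ (by rw [h m (by omega)])
    let c : ∀ d : SimplexCategoryᵒᵖ, (V ⊗ SSet.stdSimplex.obj (SimplexCategory.mk 1)).obj d → U.obj d :=
      fun d p => if ∀ k : Fin (d.unop.len + 1), (SSet.stdSimplex.objEquiv p.2).toOrderHom k = 0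
        then f₀.app d p.1 else f₁.app d p.1
    let β : L ⋙ (V ⊗ SSet.stdSimplex.obj (SimplexCategory.mk 1)) ⟶ L ⋙ U :=
      { app := fun d => ↾(c (L.obj d))
        naturality := by
          intro d e g
          ext p
          rcases key d.unop.obj e.unop.obj (L.map g).unop d.unop.property e.unop.property p.1 with
            ⟨hde, hα⟩ | hα
          · obtain ⟨⟨e, he⟩⟩ := e
            obtain ⟨⟨d, hd⟩⟩ := d
            dsimp at hde
            subst hde
            have hg : L.map g = 𝟙 _ := Quiver.Hom.unop_inj (eq_of_heq hα)
            have hl : (L ⋙ (V ⊗ SSet.stdSimplex.obj (SimplexCategory.mk 1))).map g = 𝟙 _ :=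
              (congrArg (V ⊗ SSet.stdSimplex.obj (SimplexCategory.mk 1)).map hg).trans (CategoryTheory.Functor.map_id _ _)
            have hr : (L ⋙ U).map g = 𝟙 _ := (congrArg U.map hg).trans (CategoryTheory.Functor.map_id _ _)
            rw [hl, hr]
            rfl
          · show c (L.obj e) ((V ⊗ SSet.stdSimplex.obj (SimplexCategory.mk 1)).map (L.map g) p) =
              U.map (L.map g) (c (L.obj d) p)
            have h0 : f₀.app (L.obj e) (V.map (L.map g) p.1) = U.map (L.map g) (f₀.app (L.obj d) p.1) :=
              NatTrans.naturality_apply f₀ _ _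
            have h1 : f₁.app (L.obj e) (V.map (L.map g) p.1) = U.map (L.map g) (f₁.app (L.obj d) p.1) :=
              NatTrans.naturality_apply f₁ _ _
            have hα' : f₀.app (L.obj e) (V.map (L.map g) p.1) = f₁.app (L.obj e) (V.map (L.map g) p.1) := hα
            have hfst : ((V ⊗ SSet.stdSimplex.obj (SimplexCategory.mk 1)).map (L.map g) p).1 = V.map (L.map g) p.1 := rfl
            simp only [c, hfst]
            split_ifs with a b
            · exact h0
            · exact hα'.trans h1
            · exact hα'.symm.trans h0
            · exact h1 }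
    let H : V ⊗ SSet.stdSimplex.obj (SimplexCategory.mk 1) ⟶ U := Functor.liftOfIsRightKanExtension U (𝟙 (L ⋙ U)) _ β
    have hH : ∀ (d : (SimplexCategory.Truncated n)ᵒᵖ) p, H.app (L.obj d) p = c (L.obj d) p := fun d p => by
      have e := Functor.liftOfIsRightKanExtension_fac_app U (𝟙 (L ⋙ U)) _ β d
      rw [NatTrans.id_app, Category.comp_id] at e
      exact ConcreteCategory.congr_hom e p
    refine ⟨{ h := H, h₀ := ?_, h₁ := ?_, rel := ?_ }⟩
    · apply Functor.hom_ext_of_isRightKanExtension U (𝟙 (L ⋙ U))
      ext d x
      refine (hH d _).trans ?_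
      exact if_pos fun k => rfl
    · apply Functor.hom_ext_of_isRightKanExtension U (𝟙 (L ⋙ U))
      ext d x
      refine (hH d _).trans ?_
      exact if_neg fun hk => absurd (hk 0) (show ¬ ((1 : Fin 2) = 0) by decide)
    · ext d ⟨⟨x, hx⟩, y⟩
      exact hx.elim

end Groth.Agent.S6799
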