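import Groth.Statements.S6806
import Mathlib

set_option autoImplicit false
set_option backward.isDefEq.respectTransparency.types false
set_option maxHeartbeats 1000000
set_option linter.all false
open CategoryTheory CategoryTheory.Limits
universe v u
open CategoryTheory CategoryTheory.Abelian

namespace Groth.Agent.S6806
open Groth.Agent
open Opposite

/-- For an `m`-truncated simplicial object `U` of an abelian category, the normalized Moore complex of
its free extension `i_{m!} U` (left adjoint of truncation) is zero in every degree `n > m`. Here the
normalized complex in degree `n` is the intersection of the kernels of the faces `d_1, …, d_n`; the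
published statement intersects the kernels of `d_0, …, d_{n-1}` instead, and the two versions
correspond under reversal of the ordering of each `[n]`, so both vanish. -/
theorem result {A : Type u} [Category.{v} A] [Abelian A] (m : ℕ) [∀ F : (SimplexCategory.Truncated m)ᵒᵖ ⥤ A, (SimplexCategory.Truncated.inclusion m).op.HasLeftKanExtension F] (U : SimplicialObject.Truncated A m) (n : ℕ) (hn : m < n) : AlgebraicTopology.NormalizedMooreComplex.objX ((SimplicialObject.Truncated.sk m).obj U) n = ⊥ := by
    classical
    let X : SimplicialObject A := (SimplicialObject.Truncated.sk m).obj U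
    let W : A := X.obj (op (SimplexCategory.mk n))
    let g : X.obj (op (SimplexCategory.mk n)) ⟶ W := (AlgebraicTopology.DoldKan.PInfty (X := X)).f n
    haveI : ∀ a : SimplexCategoryᵒᵖ, Finite (a ⟶ op (SimplexCategory.mk n)) := fun a =>
      Finite.of_injective Quiver.Hom.unop Quiver.Hom.unop_inj
    let T : SimplicialObject A :=
      { obj := fun a => ∏ᶜ fun _ : (a ⟶ op (SimplexCategory.mk n)) => W
        map := fun f => Limits.Pi.lift fun ψ => Limits.Pi.π _ (f ≫ ψ)
        map_id := fun a => by
          apply Limits.Pi.hom_ext; intro ψ; simp
        map_comp := fun f f' => by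
          apply Limits.Pi.hom_ext; intro ψ; simp [Category.assoc] }
    let η : X ⟶ T :=
      { app := fun a => Limits.Pi.lift fun ψ => X.map ψ ≫ g
        naturality := fun a b f => by
          apply Limits.Pi.hom_ext; intro ψ; simp [T] }
    haveI : Functor.IsLeftKanExtension X ((SimplexCategory.Truncated.inclusion m).op.lanUnit.app U) :=
      inferInstanceAs (((SimplexCategory.Truncated.inclusion m).op.lan.obj U).IsLeftKanExtension ((SimplexCategory.Truncated.inclusion m).op.lanUnit.app U))
    have hη : η = 0 := by
      apply Functor.hom_ext_of_isLeftKanExtension X ((SimplexCategory.Truncated.inclusion m).op.lanUnit.app U)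
      congr 1
      ext d
      apply Limits.Pi.hom_ext
      intro ψ
      have hψ : ¬ Mono ψ.unop := fun h => by
        haveI := h
        have h1 := SimplexCategory.len_le_of_mono ψ.unop
        have h2 : d.unop.obj.len ≤ m := d.unop.property
        have h3 : n ≤ d.unop.obj.len := h1
        omega
      have h0 : X.map ψ ≫ g = 0 := AlgebraicTopology.DoldKan.degeneracy_comp_PInfty X n ψ.unop hψ
      simp only [Functor.whiskerLeft_app, η, Limits.Pi.lift_π, h0]
      exact zero_comp.symm
    have hg : g = 0 := by
      have e := congrArg (fun t : X ⟶ T => t.app (op (SimplexCategory.mk n)) ≫ Limits.Pi.π _ (𝟙 _)) hη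
      simpa [η, T] using e
    have e := HomologicalComplex.congr_hom (AlgebraicTopology.DoldKan.inclusionOfMooreComplexMap_comp_PInfty X) n
    rw [HomologicalComplex.comp_f, AlgebraicTopology.inclusionOfMooreComplexMap_f] at e
    have h0 : (AlgebraicTopology.NormalizedMooreComplex.objX X n).arrow = 0 := by
      have e' : (AlgebraicTopology.NormalizedMooreComplex.objX X n).arrow ≫ g =
          (AlgebraicTopology.NormalizedMooreComplex.objX X n).arrow := e
      rw [← e', hg]
      exact comp_zero
    exact (Subobject.mk_arrow _).symm.trans (Subobject.mk_eq_bot_iff_zero.2 h0)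

end Groth.Agent.S6806
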