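import Groth.Statements.S6808
import Mathlib

set_option autoImplicit false
set_option backward.isDefEq.respectTransparency.types false
set_option maxHeartbeats 1000000
set_option linter.all false
open CategoryTheory Opposite
universe u
open SSet

namespace Groth.Agent.S6808
open Groth.Agent

/-- A map of simplicial sets preserving non-degeneracy of simplices and injective on non-degenerate
simplices is injective in every dimension. -/
theorem result {U V : SSet.{u}} (f : U ⟶ V) (ha : ∀ (n : ℕ) (x : U.obj (op (SimplexCategory.mk n))), x ∈ U.nonDegenerate n → f.app (op (SimplexCategory.mk n)) x ∈ V.nonDegenerate n) (hb : ∀ n : ℕ, Set.InjOn (f.app (op (SimplexCategory.mk n))) (U.nonDegenerate n)) (n : ℕ) : Function.Injective (f.app (op (SimplexCategory.mk n))) := by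
  intro x y hxy
  obtain ⟨m₁, p₁, hp₁, a₁, h₁⟩ := U.exists_nonDegenerate x
  obtain ⟨m₂, p₂, hp₂, a₂, h₂⟩ := U.exists_nonDegenerate y
  have e₁ : f.app _ x = V.map p₁.op (f.app _ a₁.1) := by
    rw [h₁]; exact FunctorToTypes.naturality f p₁.op a₁.1
  have e₂ : f.app _ x = V.map p₂.op (f.app _ a₂.1) := by
    rw [hxy, h₂]; exact FunctorToTypes.naturality f p₂.op a₂.1
  obtain rfl := V.unique_nonDegenerate_dim _ p₁ ⟨_, ha _ _ a₁.2⟩ e₁ p₂ ⟨_, ha _ _ a₂.2⟩ e₂
  have h3 := congrArg Subtype.val (V.unique_nonDegenerate_simplex _ p₁ ⟨_, ha _ _ a₁.2⟩ e₁ p₂ ⟨_, ha _ _ a₂.2⟩ e₂)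
  have h4 := V.unique_nonDegenerate_map _ p₁ ⟨_, ha _ _ a₁.2⟩ e₁ p₂ ⟨_, ha _ _ a₂.2⟩ e₂
  rw [h₁, h₂, h4, hb _ a₁.2 a₂.2 h3]

end Groth.Agent.S6808
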