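import Groth.Statements.S6818
import Mathlib

set_option autoImplicit false
set_option backward.isDefEq.respectTransparency.types false
set_option maxHeartbeats 1000000
set_option linter.all false
open CategoryTheory CategoryTheory.Limits Opposite
universe v u
open CategoryTheory CategoryTheory.Abelian

namespace Groth.Agent.S6818
open Groth.Agent

/-- For a simplicial object `U` of an abelian category and `n ≥ 0`, the subobjects `U'_m ⊆ U_m`
generated by the images of all `U_i ⟶ U_m` induced by maps `[m] ⟶ [i]` with `i ≤ n` form a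
simplicial subobject equal to `U` in dimensions `≤ n` whose normalized part vanishes in dimensions
`> n`. Here the normalized subobject of `U_m` is the joint kernel of the faces `d_1, …, d_m`; the
published statement uses the faces `d_0, …, d_{m-1}`, the mirror-image convention, and both versions
hold. -/
theorem result {A : Type u} [Category.{v} A] [Abelian A] (U : SimplicialObject A) (n : ℕ) (U' : ∀ m : ℕ, Subobject (U.obj (op (SimplexCategory.mk m)))) (hU' : ∀ m : ℕ, IsLUB (Set.range (fun φ : Σ i : Fin (n + 1), (SimplexCategory.mk m ⟶ SimplexCategory.mk i) => imageSubobject (U.map φ.2.op))) (U' m)) : (∀ (m m' : ℕ) (ψ : SimplexCategory.mk m' ⟶ SimplexCategory.mk m), imageSubobject ((U' m).arrow ≫ U.map ψ.op) ≤ U' m') ∧ (∀ i : ℕ, i ≤ n → U' i = ⊤) ∧ (∀ m : ℕ, n < m → U' m ⊓ AlgebraicTopology.NormalizedMooreComplex.objX U m = ⊥) := by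
    classical
    have gen : ∀ (m i : ℕ) (hi : i ≤ n) (θ : SimplexCategory.mk m ⟶ SimplexCategory.mk i),
        imageSubobject (U.map θ.op) ≤ U' m := fun m i hi θ =>
      (hU' m).1 ⟨⟨⟨i, Nat.lt_succ_of_le hi⟩, θ⟩, rfl⟩
    have lift : ∀ (m : ℕ) {Z : A} (g : U.obj (Opposite.op (SimplexCategory.mk m)) ⟶ Z),
        (∀ (i : ℕ) (_ : i ≤ n) (θ : SimplexCategory.mk m ⟶ SimplexCategory.mk i), U.map θ.op ≫ g = 0) →
        (U' m).arrow ≫ g = 0 := by
      intro m Z g hg
      have hle : U' m ≤ kernelSubobject g := (hU' m).2 (by
        rintro _ ⟨⟨i, θ⟩, rfl⟩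
        exact imageSubobject_le _ (factorThruKernelSubobject g _ (hg i (Nat.le_of_lt_succ i.2) θ))
          (factorThruKernelSubobject_comp_arrow g _ _))
      rw [← Subobject.ofLE_arrow hle, Category.assoc, kernelSubobject_arrow_comp, comp_zero]
    refine ⟨fun m m' ψ => ?_, fun i hi => ?_, fun m hm => ?_⟩
    · have h0 : ((U' m).arrow ≫ U.map ψ.op) ≫ cokernel.π (U' m').arrow = 0 := by
        rw [Category.assoc]
        refine lift m _ fun i hi θ => ?_
        rw [← Category.assoc, ← Functor.map_comp, ← op_comp]
        rw [← imageSubobject_arrow_comp (U.map (ψ ≫ θ).op), ← Subobject.ofLE_arrow (gen m' i hi (ψ ≫ θ))]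
        simp only [Category.assoc, cokernel.condition, comp_zero]
      exact imageSubobject_le _ (Abelian.monoLift (U' m').arrow _ h0) (Abelian.monoLift_comp _ _ _)
    · have h := gen i i hi (𝟙 _)
      rw [op_id, U.map_id] at h
      exact top_le_iff.1 (le_trans (le_of_eq (by simp [imageSubobject_mono, Subobject.top_eq_id])) h)
    · let N := AlgebraicTopology.NormalizedMooreComplex.objX U m
      let P : U.obj (Opposite.op (SimplexCategory.mk m)) ⟶ U.obj (Opposite.op (SimplexCategory.mk m)) :=
        (AlgebraicTopology.DoldKan.PInfty (X := U)).f m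
      have h1 : (U' m).arrow ≫ P = 0 := lift m P fun i hi θ =>
        AlgebraicTopology.DoldKan.degeneracy_comp_PInfty U m θ fun h => by
          haveI := h
          have h3 : m ≤ i := SimplexCategory.len_le_of_mono θ
          omega
      have h2 : N.arrow ≫ P = N.arrow := by
        have e := HomologicalComplex.congr_hom (AlgebraicTopology.DoldKan.inclusionOfMooreComplexMap_comp_PInfty U) m
        rw [HomologicalComplex.comp_f, AlgebraicTopology.inclusionOfMooreComplexMap_f] at e
        exact e
      have h3 : (U' m ⊓ N).arrow = 0 := by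
        have e : (U' m ⊓ N).arrow = (U' m ⊓ N).arrow ≫ P := by
          conv_lhs => rw [← Subobject.ofLE_arrow (inf_le_right : U' m ⊓ N ≤ N), ← h2, ← Category.assoc,
            Subobject.ofLE_arrow]
        rw [e, ← Subobject.ofLE_arrow (inf_le_left : U' m ⊓ N ≤ U' m), Category.assoc, h1, comp_zero]
      exact (Subobject.mk_arrow _).symm.trans (Subobject.mk_eq_bot_iff_zero.2 h3)

end Groth.Agent.S6818
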