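import Groth.Statements.S6855
import Mathlib

set_option autoImplicit false
set_option backward.isDefEq.respectTransparency.types false
universe u
open CategoryTheory CategoryTheory.Limits TopologicalSpace
open ModSite

namespace Groth.Agent.S6855

/-- Let X be a topological space and O a sheaf of rings on X. Then the support of O, the set of points x
with nonzero stalk O_x, is closed in X. -/
theorem result {X : TopCat.{u}} (O : TopCat.Sheaf CommRingCat.{u} X) :
    IsClosed {x : X | Nontrivial (O.presheaf.stalk x)} := by
  rw [← isOpen_compl_iff, isOpen_iff_forall_mem_open]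
  intro x hx
  have hsub : Subsingleton (O.presheaf.stalk x) := not_nontrivial_iff_subsingleton.1 hx
  have h01 : O.presheaf.germ ⊤ x trivial 1 = O.presheaf.germ ⊤ x trivial 0 := hsub.elim _ _
  obtain ⟨W, hxW, i₁, i₂, e⟩ := O.presheaf.germ_eq x _ _ (1 : O.presheaf.obj (Opposite.op ⊤)) 0 h01
  refine ⟨W, fun y hy hn => ?_, W.isOpen, hxW⟩
  rw [map_one, map_zero] at e
  have := congrArg (O.presheaf.germ W y hy) e
  rw [map_one, map_zero] at this
  haveI hnt : Nontrivial (O.presheaf.stalk y) := hn
  exact one_ne_zero (α := O.presheaf.stalk y) this

end Groth.Agent.S6855
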