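import Groth.Statements.S6864
import Mathlib

set_option autoImplicit false
universe u
open TensorProduct
open TensorProduct
open CAlg

namespace Groth.Agent.S6864

/-- Let `I` be an ideal of a commutative ring `R` contained in the Jacobson radical and let `φ : P → P'`
be an `R`-linear map between finite projective `R`-modules. If the induced map `P/IP → P'/IP'` is
bijective, then `φ` is bijective. -/
theorem result {R : Type u} [CommRing R] (I : Ideal R)
    (hI : I ≤ Ideal.jacobson (⊥ : Ideal R)) {P P' : Type u}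
    [AddCommGroup P] [Module R P] [Module.Finite R P] [Module.Projective R P]
    [AddCommGroup P'] [Module R P'] [Module.Finite R P'] [Module.Projective R P'] (φ : P →ₗ[R] P')
    (h : Function.Bijective (φ.baseChange (R ⧸ I))) : Function.Bijective φ := by
  have q : ∀ (X : Type u) [AddCommGroup X] [Module R X] (x : X), (1 : R ⧸ I) ⊗ₜ[R] x = 0 ↔ x ∈ I • (⊤ : Submodule R X) := by
    intro X _ _ x
    rw [← (TensorProduct.quotTensorEquivQuotSMul X I).map_eq_zero_iff, ← Submodule.Quotient.mk_eq_zero]
    exact Iff.of_eq (congrArg (· = 0) ((TensorProduct.quotTensorEquivQuotSMul_mk_tmul I 1 x).trans (by simp)))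
  have hs : Function.Surjective φ := by
    rw [← LinearMap.range_eq_top, eq_top_iff]
    refine Submodule.le_of_le_smul_of_le_jacobson_bot Module.Finite.fg_top hI ?_
    intro y _
    obtain ⟨z, hz⟩ := h.2 ((1 : R ⧸ I) ⊗ₜ y)
    obtain ⟨x, rfl⟩ : ∃ x, z = (1 : R ⧸ I) ⊗ₜ x := by
      obtain ⟨x, hx⟩ := TensorProduct.mk_surjective R P (R ⧸ I) Ideal.Quotient.mk_surjective z
      exact ⟨x, hx.symm⟩
    have : y - φ x ∈ I • (⊤ : Submodule R P') := (q P' _).mp (by simpa [TensorProduct.tmul_sub, sub_eq_zero] using hz.symm)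
    exact Submodule.mem_sup.mpr ⟨φ x, ⟨x, rfl⟩, y - φ x, this, by simp⟩
  obtain ⟨σ, hσ⟩ := Module.projective_lifting_property φ LinearMap.id hs
  have hσ' : ∀ y, φ (σ y) = y := fun y => DFunLike.congr_fun hσ y
  let p : P →ₗ[R] LinearMap.ker φ := (LinearMap.id - σ ∘ₗ φ).codRestrict _ (fun x => by simp [hσ'])
  have hp : Function.Surjective p := fun x => ⟨x.1, by ext; simp [p, LinearMap.mem_ker.mp x.2]⟩
  have : Module.Finite R (LinearMap.ker φ) := Module.Finite.of_surjective p hp
  refine ⟨?_, hs⟩
  rw [← LinearMap.ker_eq_bot, ← Submodule.subsingleton_iff_eq_bot]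
  have htop : (⊤ : Submodule R (LinearMap.ker φ)) = ⊥ := by
    refine Submodule.eq_bot_of_le_smul_of_le_jacobson_bot I _ Module.Finite.fg_top ?_ hI
    rintro x -
    have hx : (1 : R ⧸ I) ⊗ₜ[R] x.1 = 0 := h.1 (by simp [LinearMap.mem_ker.mp x.2])
    have := Submodule.mem_map_of_mem (f := p) ((q P _).mp hx)
    rw [Submodule.map_smul''] at this
    have e : p x.1 = x := by ext; simp [p, LinearMap.mem_ker.mp x.2]
    rw [e] at this
    exact Submodule.smul_mono le_rfl le_top this
  exact (Submodule.subsingleton_iff R).mp (subsingleton_of_bot_eq_top htop.symm)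

end Groth.Agent.S6864
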