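import Groth.Statements.S6865
import Mathlib

set_option autoImplicit false
universe u
open TensorProduct
open CAlg

namespace Groth.Agent.S6865

/-- Let `I` be an ideal of a commutative ring `R` contained in the Jacobson radical and let `P, P'` be
finite projective `R`-modules. If `P/IP` and `P'/IP'` are isomorphic `R/I`-modules, then `P` and
`P'` are isomorphic. -/
theorem result {R : Type u} [CommRing R] (I : Ideal R)
    (hI : I ≤ Ideal.jacobson (⊥ : Ideal R)) (P P' : Type u)
    [AddCommGroup P] [Module R P] [Module.Finite R P] [Module.Projective R P]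
    [AddCommGroup P'] [Module R P'] [Module.Finite R P'] [Module.Projective R P']
    (e : (R ⧸ I) ⊗[R] P ≃ₗ[R ⧸ I] (R ⧸ I) ⊗[R] P') : Nonempty (P ≃ₗ[R] P') := by
  have key : ∀ (P P' : Type u) [AddCommGroup P] [Module R P] [Module.Projective R P]
      [AddCommGroup P'] [Module R P'] [Module.Finite R P']
      (e : (R ⧸ I) ⊗[R] P ≃ₗ[R ⧸ I] (R ⧸ I) ⊗[R] P'), ∃ f : P →ₗ[R] P', Function.Surjective f := by
    intro P P' _ _ _ _ _ _ e
    have hsurj : Function.Surjective (TensorProduct.mk R (R ⧸ I) P' 1) :=
      TensorProduct.mk_surjective R P' (R ⧸ I) Ideal.Quotient.mk_surjective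
    obtain ⟨f, hf⟩ := Module.projective_lifting_property (TensorProduct.mk R (R ⧸ I) P' 1)
      (e.toLinearMap.restrictScalars R ∘ₗ TensorProduct.mk R (R ⧸ I) P 1) hsurj
    refine ⟨f, LinearMap.range_eq_top.mp (top_le_iff.mp ?_)⟩
    refine Submodule.le_of_le_smul_of_le_jacobson_bot Module.Finite.fg_top hI fun x _ => ?_
    have hsP : Function.Surjective (TensorProduct.mk R (R ⧸ I) P 1) :=
      TensorProduct.mk_surjective R P (R ⧸ I) Ideal.Quotient.mk_surjective
    obtain ⟨y, hy⟩ := hsP (e.symm ((1 : R ⧸ I) ⊗ₜ[R] x))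
    rw [← add_sub_cancel (f y) x]
    refine Submodule.add_mem_sup ⟨y, rfl⟩ ?_
    have hk : (TensorProduct.mk R (R ⧸ I) P' 1) (x - f y) = 0 := by
      have := LinearMap.congr_fun hf y
      simp only [LinearMap.comp_apply, LinearMap.coe_restrictScalars, LinearEquiv.coe_coe] at this
      rw [map_sub, this, hy, LinearEquiv.apply_symm_apply, TensorProduct.mk_apply, sub_self]
    have := congrArg (TensorProduct.quotTensorEquivQuotSMul P' I) hk
    rw [map_zero, TensorProduct.mk_apply, ← map_one (Ideal.Quotient.mk I),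
      TensorProduct.quotTensorEquivQuotSMul_mk_tmul, Submodule.Quotient.mk_eq_zero, one_smul] at this
    exact this
  obtain ⟨f, hf⟩ := key P P' e
  obtain ⟨g, hg⟩ := key P' P e.symm
  have hb : Function.Injective (g ∘ₗ f) := OrzechProperty.injective_of_surjective_endomorphism _ (hg.comp hf)
  exact ⟨LinearEquiv.ofBijective f ⟨Function.Injective.of_comp hb, hf⟩⟩

end Groth.Agent.S6865
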