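import Groth.Statements.S6866
import Mathlib
import Groth.Agent.Lib.TorsionFreeEmbed
import Groth.Agent.Lib.CAlgSmall1

set_option autoImplicit false
universe u
open TensorProduct Groth.Agent.TorsionFreeEmbed
open Groth.Agent.CAlgSmall1
open TensorProduct
open CAlg

namespace Groth.Agent.S6866

/-- If `M` is a torsion free module over a domain `R` and `R → R'` is a flat ring map to another domain,
then `R' ⊗_R M` is torsion free over `R'`. -/
theorem result (R R' : Type u) [CommRing R] [IsDomain R] [CommRing R']
    [IsDomain R'] [Algebra R R'] [Module.Flat R R'] (M : Type u) [AddCommGroup M] [Module R M]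
    [Module.IsTorsionFree R M] : Module.IsTorsionFree R' (R' ⊗[R] M) := by
  classical
  refine ⟨fun {t} ht => isSMulRegular_iff_right_eq_zero_of_smul.mpr fun z hz => ?_⟩
  obtain ⟨N, hN, hzN⟩ := TensorProduct.exists_finite_submodule_right_of_setFinite {z} (Set.finite_singleton z)
  obtain ⟨w, rfl⟩ := hzN rfl
  obtain ⟨k, f, hf⟩ := torsionFree_embed (R := R) (M := N)
  have hinj := Module.Flat.lTensor_preserves_injective_linearMap (M := R') N.subtype Subtype.val_injective
  have hfinj := Module.Flat.lTensor_preserves_injective_linearMap (M := R') f hf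
  have htw : t • w = 0 := hinj (by
    rw [map_zero, ← hz]
    exact (TensorProduct.AlgebraTensorModule.lTensor R' R' N.subtype).map_smul t w)
  let P := TensorProduct.piScalarRight R R' R' (Fin k)
  have h0 : P (TensorProduct.AlgebraTensorModule.lTensor R' R' f w) = 0 := by
    refine funext fun i => ?_
    have h1 : t • P (TensorProduct.AlgebraTensorModule.lTensor R' R' f w) = 0 := by
      rw [← map_smul, ← map_smul, htw, map_zero, map_zero]
    exact (mul_eq_zero.mp (congrFun h1 i)).resolve_left ht.ne_zero
  have h2 : f.lTensor R' w = 0 := P.map_eq_zero_iff.mp h0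
  rw [hfinj (h2.trans (map_zero _).symm), map_zero]

end Groth.Agent.S6866
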