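import Groth.Statements.S6870
import Mathlib
import Groth.Agent.Lib.TorsionFreeEmbed
import Groth.Agent.Lib.CAlgSmall1

set_option autoImplicit false
universe u
open TensorProduct Groth.Agent.TorsionFreeEmbed
open Groth.Agent.CAlgSmall1
open CAlg

namespace Groth.Agent.S6870

/-- Let `R` be a domain, `M` a finite `R`-module and `j : M → M**` the evaluation map into the double
dual. Then one nonzero `c ∈ R` kills the kernel of `j` and multiplies `M**` into the image of `j`.
(The published statement says only that the kernel and cokernel of `j` are torsion; this row gives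
one such `c` for both.) -/
theorem result (R : Type u) [CommRing R] [IsDomain R] (M : Type u)
    [AddCommGroup M] [Module R M] [Module.Finite R M] :
    ∃ c : R, c ≠ 0 ∧ (∀ x : M, Module.Dual.eval R M x = 0 → c • x = 0) ∧
      ∀ y : Module.Dual R (Module.Dual R M), c • y ∈ LinearMap.range (Module.Dual.eval R M) := by
  classical
  obtain ⟨n, g, hg⟩ := Module.Finite.exists_fin (R := R) (M := M)
  obtain ⟨t, ht, htmax⟩ := exists_maximal_linearIndepOn R g
  let b := Module.Basis.span ht
  have hex : ∀ i, ∃ a : R, a ≠ 0 ∧ a • g i ∈ Submodule.span R (Set.range fun j : t => g j) := by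
    intro i
    rw [show Set.range (fun j : t => g j) = g '' t from (Set.image_eq_range g t).symm]
    by_cases hi : i ∈ t
    · exact ⟨1, one_ne_zero, by simpa using Submodule.subset_span (Set.mem_image_of_mem g hi)⟩
    · exact htmax i hi
  choose a ha0 ha using hex
  have hc0 : (∏ i, a i) ≠ 0 := Finset.prod_ne_zero_iff.mpr fun i _ => ha0 i
  set c := ∏ i, a i
  have hmem : ∀ x : M, c • x ∈ Submodule.span R (Set.range fun j : t => g j) := by
    intro x
    have hx : x ∈ Submodule.span R (Set.range g) := hg ▸ Submodule.mem_top
    induction hx using Submodule.span_induction with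
    | mem x hx =>
      obtain ⟨i, rfl⟩ := hx
      obtain ⟨q, hq⟩ := Finset.dvd_prod_of_mem a (Finset.mem_univ i)
      show c • g i ∈ _
      rw [show c = q * a i by rw [mul_comm]; exact hq, mul_smul]
      exact Submodule.smul_mem _ _ (ha i)
    | zero => simp
    | add x y _ _ hx hy => rw [smul_add]; exact add_mem hx hy
    | smul r x _ hx => rw [smul_comm]; exact Submodule.smul_mem _ _ hx
  let m : M →ₗ[R] Submodule.span R (Set.range fun j : t => g j) :=
    (LinearMap.lsmul R M c).codRestrict _ hmem
  let φ : t → Module.Dual R M := fun i => (b.coord i).comp m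
  haveI : Fintype t := Fintype.ofFinite t
  have hrec : ∀ x : M, c • x = ∑ i, φ i x • g i := by
    intro x
    have := congrArg Subtype.val (b.sum_repr (m x))
    rw [AddSubmonoidClass.coe_finset_sum] at this
    simp only [Submodule.coe_smul, b, Module.Basis.span_apply] at this
    simp only [φ, LinearMap.comp_apply, Module.Basis.coord_apply, b]
    rw [show c • x = ((m x : Submodule.span R (Set.range fun j : t => g j)) : M) from rfl]
    convert this.symm using 3 with i
    all_goals simp [Module.Basis.span]
  refine ⟨c, hc0, fun x hx => ?_, fun y => ⟨∑ i, y (φ i) • g i, ?_⟩⟩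
  · rw [hrec x]
    exact Finset.sum_eq_zero fun i _ => by
      rw [show φ i x = (Module.Dual.eval R M x) (φ i) from rfl, hx, LinearMap.zero_apply, zero_smul]
  · refine LinearMap.ext fun ψ => ?_
    have hψ : c • ψ = ∑ i : t, ψ (g i) • φ i := by
      ext x
      have := congrArg ψ (hrec x)
      simp only [map_smul, map_sum, smul_eq_mul] at this
      simp only [LinearMap.smul_apply, LinearMap.coe_sum, Finset.sum_apply, smul_eq_mul, this]
      exact Finset.sum_congr rfl fun i _ => mul_comm _ _
    rw [show (c • y) ψ = y (c • ψ) by simp, hψ]
    simp [Module.Dual.eval_apply, mul_comm]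

end Groth.Agent.S6870
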