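import Mathlib
import Groth.Statements.S6875
-- import your own Groth.Agent.* helpers here

set_option autoImplicit false
universe u
open CAlg

namespace Groth.Agent.S6875

theorem dual_reflexive {R : Type u} [CommRing R] [IsDomain R] (X : Type u) [AddCommGroup X] [Module R X] [Module.Finite R X] :
    Module.IsReflexive R (Module.Dual R X) := by
  classical
  obtain ⟨n, v, hv⟩ := Submodule.fg_iff_exists_fin_generating_family.1 (Module.Finite.fg_top (R := R) (M := X))
  obtain ⟨s, hs, hmax⟩ := exists_maximal_linearIndepOn R v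
  let i : (s →₀ R) →ₗ[R] X := Finsupp.linearCombination R (fun j : s => v j)
  have hi : Function.Injective i := hs
  have hr : LinearMap.range i = Submodule.span R (v '' s) := by
    rw [Finsupp.range_linearCombination]; congr 1; ext; simp
  have hex : ∀ j : Fin n, ∃ a : R, a ≠ 0 ∧ a • v j ∈ LinearMap.range i := fun j => by
    rw [hr]
    by_cases hj : j ∈ s
    · exact ⟨1, one_ne_zero, by rw [one_smul]; exact Submodule.subset_span ⟨j, hj, rfl⟩⟩
    · exact hmax j hj
  choose a ha0 ha using hex
  let t : R := ∏ j, a j
  have ht0 : t ≠ 0 := Finset.prod_ne_zero_iff.2 fun j _ => ha0 j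
  have htX : ∀ x, t • x ∈ LinearMap.range i := by
    intro x
    have : x ∈ Submodule.span R (Set.range v) := by rw [hv]; trivial
    induction this using Submodule.span_induction with
    | mem y hy =>
      obtain ⟨j, rfl⟩ := hy
      rw [show t = (∏ k ∈ Finset.univ.erase j, a k) * a j from (Finset.prod_erase_mul _ _ (Finset.mem_univ j)).symm, mul_smul]
      exact Submodule.smul_mem _ _ (ha j)
    | zero => simp
    | add _ _ _ _ h1 h2 => rw [smul_add]; exact add_mem h1 h2
    | smul c _ _ h1 => rw [smul_comm]; exact Submodule.smul_mem _ c h1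
  let p : X →ₗ[R] (s →₀ R) :=
    (LinearEquiv.ofInjective i hi).symm.toLinearMap ∘ₗ (t • LinearMap.id : X →ₗ[R] X).codRestrict (LinearMap.range i) htX
  have hip : ∀ x, i (p x) = t • x := fun x => by
    have := LinearEquiv.apply_symm_apply (LinearEquiv.ofInjective i hi) ⟨t • x, htX x⟩
    exact congrArg Subtype.val this
  refine ⟨⟨fun φ ψ h => ?_, fun Φ => ?_⟩⟩
  · ext x
    exact LinearMap.congr_fun h (Module.Dual.eval R X x)
  · refine ⟨Φ ∘ₗ Module.Dual.eval R X, ?_⟩
    ext Ψ
    show Ψ (Φ ∘ₗ Module.Dual.eval R X) = Φ Ψ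
    apply mul_left_cancel₀ ht0
    obtain ⟨f, hf⟩ := (Module.bijective_dual_eval R (s →₀ R)).2 (p.dualMap.dualMap Ψ)
    have key : t • Ψ = Module.Dual.eval R X (i f) := by
      ext φ
      have h1 := LinearMap.congr_fun hf (i.dualMap φ)
      simp only [Module.Dual.eval_apply, LinearMap.dualMap_apply] at h1
      have h2 : p.dualMap (i.dualMap φ) = t • φ := by
        ext x
        simp [hip]
      show t • Ψ φ = φ (i f)
      rw [h1, ← map_smul, ← h2]
    have h3 : t * Ψ (Φ ∘ₗ Module.Dual.eval R X) = Φ (Module.Dual.eval R X (i f)) := by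
      rw [← smul_eq_mul, ← LinearMap.smul_apply, key]
      rfl
    rw [h3, ← key, map_smul, smul_eq_mul]

/-- Let `R` be a Noetherian domain, `M` a finite `R`-module and `N` a finite reflexive `R`-module. Then
`Hom_R(M, N)` is reflexive. -/
theorem result (R : Type u) [CommRing R] [IsDomain R] [IsNoetherianRing R]
    (M N : Type u) [AddCommGroup M] [Module R M] [Module.Finite R M] [AddCommGroup N] [Module R N] [Module.Finite R N]
    [Module.IsReflexive R N] : Module.IsReflexive R (M →ₗ[R] N) := by
  haveI : Module.Finite R (Module.Dual R N) := inferInstance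
  haveI := dual_reflexive (R := R) (TensorProduct R M (Module.Dual R N))
  let e : (M →ₗ[R] N) ≃ₗ[R] Module.Dual R (TensorProduct R M (Module.Dual R N)) :=
    (LinearEquiv.congrRight (Module.evalEquiv R N)).trans (TensorProduct.lift.equiv (RingHom.id R) M (Module.Dual R N) R)
  exact Module.IsReflexive.of_split e.toLinearMap e.symm.toLinearMap (LinearMap.ext fun x => e.symm_apply_apply x)

end Groth.Agent.S6875
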