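import Groth.Statements.S6878
import Mathlib

set_option autoImplicit false
universe u
open CAlg

namespace Groth.Agent.S6878

/-- Let `R` be a Noetherian ring and `φ : M → N` a map of `R`-modules. Suppose that for every prime `𝔭`
of `R` either `M_𝔭 → N_𝔭` is injective or `𝔭` is not an associated prime of `M`. Then `φ` is
injective. -/
theorem result (R : Type u) [CommRing R]
    [IsNoetherianRing R] {M N : Type u} [AddCommGroup M] [Module R M] [AddCommGroup N] [Module R N] (φ : M →ₗ[R] N)
    (h : ∀ (p : Ideal R) [p.IsPrime],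
      Function.Injective (LocalizedModule.map p.primeCompl φ) ∨ p ∉ associatedPrimes R M) :
    Function.Injective φ := by
  rw [← LinearMap.ker_eq_bot]
  by_contra hne
  haveI : Nontrivial ↥(LinearMap.ker φ) := (Submodule.nontrivial_iff_ne_bot).mpr hne
  obtain ⟨p, hp⟩ := associatedPrimes.nonempty R ↥(LinearMap.ker φ)
  have hpM : p ∈ associatedPrimes R M := IsAssociatedPrime.map_of_injective hp (f := (LinearMap.ker φ).subtype) Subtype.val_injective
  obtain ⟨hprime, z, hz⟩ := isAssociatedPrime_iff.mp hp
  rcases h p with hinj | hn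
  swap
  · exact hn hpM
  have h0 : LocalizedModule.mk (z : M) (1 : p.primeCompl) = 0 := hinj (by
    rw [LocalizedModule.map_mk, map_zero, LinearMap.mem_ker.mp z.2, LocalizedModule.zero_mk])
  rw [← LocalizedModule.mkLinearMap_apply, IsLocalizedModule.eq_zero_iff p.primeCompl] at h0
  obtain ⟨⟨r, hrp⟩, hr⟩ := h0
  refine hrp ?_
  rw [hz, SetLike.mem_coe, Submodule.mem_colon_singleton, Submodule.mem_bot]
  exact Subtype.ext hr

end Groth.Agent.S6878
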