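import Groth.Statements.S6882
import Mathlib
import Groth.Agent.Lib.TorsionFreeEmbed
import Groth.Agent.Lib.CAlgSmall1

set_option autoImplicit false
universe u
open TensorProduct Groth.Agent.TorsionFreeEmbed
open Groth.Agent.CAlgSmall1
open CAlg

namespace Groth.Agent.S6882

/-- For a finite module `M` over a discrete valuation ring `R`, the evaluation map from `M` to its
double dual `M**` is surjective. -/
theorem result (R : Type u) [CommRing R] [IsDomain R]
    [IsDiscreteValuationRing R] (M : Type u) [AddCommGroup M] [Module R M] [Module.Finite R M] :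
    Function.Surjective (Module.Dual.eval R M) := by
  let T := Submodule.torsion R M
  haveI : Module.Free R (M ⧸ T) := Module.free_of_finite_type_torsion_free'
  intro y
  obtain ⟨f, hf⟩ := (Module.bijective_dual_eval R (M ⧸ T)).2 (y ∘ₗ T.mkQ.dualMap)
  obtain ⟨x, rfl⟩ := T.mkQ_surjective f
  refine ⟨x, LinearMap.ext fun ψ => ?_⟩
  have hT : T ≤ LinearMap.ker ψ := by
    intro z hz
    obtain ⟨a, ha⟩ := (Submodule.mem_torsion_iff z).mp hz
    have := congrArg ψ ha
    rw [map_zero, Submonoid.smul_def, map_smul, smul_eq_mul] at this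
    exact (mul_eq_zero.mp this).resolve_left (nonZeroDivisors.coe_ne_zero a)
  have h2 := LinearMap.congr_fun hf (T.liftQ ψ hT)
  simp only [Module.Dual.eval_apply, LinearMap.comp_apply] at h2 ⊢
  convert h2 using 2 <;> first | rfl | (ext z; rfl) | simp

end Groth.Agent.S6882
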