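import Groth.Statements.S6887
import Mathlib

set_option autoImplicit false
set_option backward.isDefEq.respectTransparency.types false
set_option maxHeartbeats 1000000
set_option linter.all false
universe u
open Polynomial
open CAlg

namespace Groth.Agent.S6887
open Groth.Agent

/-- Let `(A, I)` be a Zariski pair (`I` inside the Jacobson radical) and `A → B` a finite ring map.
Suppose `B/IB ≅ B₁ × B₂` as `A`-algebras with `A → B₁` surjective, and `b ∈ B` maps to `(1, 0)`.
Then there is a monic `f ∈ A[x]` with `f(b) = 0` whose reduction modulo `I` is `(x - 1) x^d` for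
some `d ≥ 1`. -/
theorem result (A B : Type u) [CommRing A] [CommRing B]
    [Algebra A B] [Module.Finite A B] (I : Ideal A) (hI : I ≤ Ideal.jacobson (⊥ : Ideal A))
    (B₁ B₂ : Type u) [CommRing B₁] [CommRing B₂] [Algebra A B₁] [Algebra A B₂]
    (e : (B ⧸ I.map (algebraMap A B)) ≃ₐ[A] B₁ × B₂) (h₁ : Function.Surjective (algebraMap A B₁)) (b : B)
    (hb : e (Ideal.Quotient.mk (I.map (algebraMap A B)) b) = (1, 0)) :
    ∃ (f : A[X]) (d : ℕ), f.Monic ∧ Polynomial.aeval b f = 0 ∧ 1 ≤ d ∧
      f.map (Ideal.Quotient.mk I) = (X - 1) * X ^ d := by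
    classical
    let J := I.map (algebraMap A B)
    obtain ⟨m, y, hy⟩ := Module.Finite.exists_fin (R := A) (M := B)
    let x : Option (Option (Fin m)) → B := fun k => k.elim b (fun k' => k'.elim 0 (fun j => (1 - b) * y j))
    have hJ : ∀ z, e (Ideal.Quotient.mk J z) = 0 → z ∈ J := fun z hz =>
      Ideal.Quotient.eq_zero_iff_mem.1 (e.injective (hz.trans (map_zero e).symm))
    have hJsmul : ∀ z, z ∈ J → z ∈ I • (⊤ : Submodule A B) := fun z hz => by
      rw [Ideal.smul_top_eq_map]; exact hz
    have he : ∀ z, e (Ideal.Quotient.mk J ((1 - b) * z)) = (0, (e (Ideal.Quotient.mk J z)).2) := fun z => by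
      rw [map_mul, map_mul, map_sub, map_sub, map_one, map_one, hb]
      ext <;> simp
    have hb1 : b * b - b ∈ J := hJ _ (by
      rw [map_sub, map_sub, map_mul, map_mul, hb]
      ext <;> simp)
    have hbx : ∀ z, b * ((1 - b) * z) ∈ J := fun z => hJ _ (by
      rw [map_mul, map_mul, he, hb]
      ext <;> simp)
    have hspan : Submodule.span A (Set.range x) = ⊤ := by
      refine top_le_iff.1 (Submodule.le_of_le_smul_of_le_jacobson_bot Module.Finite.fg_top hI fun z _ => ?_)
      obtain ⟨a, ha⟩ := h₁ (e (Ideal.Quotient.mk J z)).1
      have hz : z - (a • b + (1 - b) * z) ∈ J := hJ _ (by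
        rw [map_sub, map_sub, map_add, map_add, he, ← Ideal.Quotient.mkₐ_eq_mk A, map_smul, map_smul,
          Ideal.Quotient.mkₐ_eq_mk, hb]
        ext <;> simp [Algebra.smul_def, ha])
      have hmem : (1 - b) * z ∈ Submodule.span A (Set.range x) := by
        have : z ∈ Submodule.span A (Set.range y) := hy ▸ Submodule.mem_top
        have h2 := Submodule.apply_mem_span_image_of_mem_span (LinearMap.mulLeft A (1 - b)) this
        refine Submodule.span_mono ?_ h2
        rintro _ ⟨_, ⟨j, rfl⟩, rfl⟩
        exact ⟨some (some j), rfl⟩
      rw [← add_sub_cancel (a • b + (1 - b) * z) z]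
      exact Submodule.add_mem_sup (Submodule.add_mem _ (Submodule.smul_mem _ a (Submodule.subset_span ⟨none, rfl⟩)) hmem)
        (hJsmul _ hz)
    have hrep : ∀ z ∈ J, ∃ c : Option (Option (Fin m)) → A, (∀ i, c i ∈ I) ∧ ∑ i, c i • x i = z := by
      intro z hz
      have h2 : z ∈ I • Submodule.span A (Set.range x) := by rw [hspan]; exact hJsmul z hz
      obtain ⟨a, ha, hsum⟩ := (Submodule.mem_ideal_smul_span_iff_exists_sum I x z).1 h2
      exact ⟨a, ha, by rw [← hsum, Finsupp.sum_fintype]; simp⟩
    let δ : Option (Option (Fin m)) → A := fun k => k.elim 1 (fun _ => 0)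
    have hcol : ∀ k, b * x k - δ k • x k ∈ J := by
      rintro (_ | _ | j)
      · simpa [x, δ] using hb1
      · simp [x, δ]
      · simpa [x, δ] using hbx (y j)
    choose c hcI hc using fun k => hrep _ (hcol k)
    let T : Matrix (Option (Option (Fin m))) (Option (Option (Fin m))) A :=
      Matrix.of fun i k => (if i = k then δ k else 0) + c k i
    let π : (Option (Option (Fin m)) → A) →ₗ[A] B := Fintype.linearCombination A x
    have hint : ∀ v, b * π v = π (T.mulVec v) := by
      suffices (LinearMap.mulLeft A b).comp π = π.comp T.mulVecLin from fun v => LinearMap.congr_fun this v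
      refine LinearMap.pi_ext' fun k => LinearMap.ext_ring ?_
      simp only [LinearMap.comp_apply, LinearMap.single_apply, LinearMap.mulLeft_apply, Matrix.mulVecLin_apply, π,
        Fintype.linearCombination_apply_single, one_smul, Matrix.mulVec_single_one]
      rw [Fintype.linearCombination_apply]
      simp only [T, Matrix.col_apply, Matrix.of_apply, add_smul, Finset.sum_add_distrib, ite_smul, zero_smul,
        Finset.sum_ite_eq', Finset.mem_univ, if_true, hc k, add_sub_cancel]
    refine ⟨T.charpoly, m + 1, T.charpoly_monic, ?_, Nat.le_add_left 1 m, ?_⟩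
    · have key : ∀ (q : A[X]) v, aeval b q * π v = π ((aeval T q).mulVec v) := by
        intro q
        induction q using Polynomial.induction_on with
        | C a => intro v; simp [Algebra.smul_def, Matrix.algebraMap_eq_diagonal, Matrix.mulVec_diagonal]
                 rw [← Algebra.smul_def, ← map_smul]
                 congr 1
                 funext i
                 simp [Matrix.mulVec_diagonal]
        | add p q hp hq => intro v; simp [map_add, add_mul, hp, hq, Matrix.add_mulVec]
        | monomial n a ih =>
          intro v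
          rw [pow_succ, ← mul_assoc, map_mul (aeval b) _ X, aeval_X, mul_assoc, hint, ih, map_mul (aeval T) _ X, aeval_X,
            Matrix.mulVec_mulVec]
      obtain ⟨v, hv⟩ : ∃ v, π v = 1 := by
        have : (1 : B) ∈ LinearMap.range π := by rw [Fintype.range_linearCombination, hspan]; trivial
        exact this
      have h3 := key T.charpoly v
      rwa [Matrix.aeval_self_charpoly, Matrix.zero_mulVec, map_zero, hv, mul_one] at h3
    · rw [← Matrix.charpoly_map]
      have hT : T.map (Ideal.Quotient.mk I) = Matrix.diagonal fun k => Ideal.Quotient.mk I (δ k) := by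
        ext i k
        rw [Matrix.map_apply, Matrix.diagonal_apply]
        simp only [T, Matrix.of_apply, map_add, Ideal.Quotient.eq_zero_iff_mem.2 (hcI k i), add_zero]
        split_ifs with h
        · rw [h]
        · exact map_zero _
      rw [hT, Matrix.charpoly_diagonal, Fintype.prod_option]
      simp [δ, Finset.prod_const]

end Groth.Agent.S6887
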