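import Groth.Statements.S6888
import Mathlib
-- import your own Groth.Agent.* helpers here

set_option autoImplicit false
universe u
open Polynomial
open CAlg

namespace Groth.Agent.S6888

/-- Let `A` be absolutely integrally closed (every monic polynomial over `A` is a product of linear
factors) and `I ⊆ A` an ideal contained in the Jacobson radical such that `A → A/I` is surjective
(hence bijective) on idempotents. Then `(A, I)` is a henselian pair. (The published statement also
records the converse, which holds for every henselian pair; this row states the sufficiency only.) -/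
theorem result (A : Type u) [CommRing A]
    (hA : ∀ f : A[X], f.Monic → ∃ s : Multiset A, f = (s.map fun a => X - C a).prod) (I : Ideal A)
    (hI : I ≤ Ideal.jacobson (⊥ : Ideal A))
    (hidem : ∀ e : A ⧸ I, IsIdempotentElem e → ∃ e' : A, IsIdempotentElem e' ∧ Ideal.Quotient.mk I e' = e) :
    HenselianRing A I := by
  refine ⟨hI, fun f hf a₀ ha₀ hu => ?_⟩
  obtain ⟨roots, hfs⟩ := hA f hf
  obtain ⟨w₀, hw₀⟩ := hu.exists_right_inv
  obtain ⟨w₀, rfl⟩ := Ideal.Quotient.mk_surjective w₀
  -- congruence of values
  have cong : ∀ (g : A[X]) (e x y : A), e * (x - y) = 0 → e * g.eval x = e * g.eval y := by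
    intro g e x y h
    obtain ⟨c, hc⟩ := Polynomial.sub_dvd_eval_sub x y g
    rw [← sub_eq_zero, ← mul_sub, hc, ← mul_assoc, h, zero_mul]
  suffices key : ∀ (s : Multiset A) (ε a₀ w : A), IsIdempotentElem ε →
      ε * ((s.map fun a => X - C a).prod).eval a₀ ∈ I →
      ε * (1 - (derivative (s.map fun a => X - C a).prod).eval a₀ * w) ∈ I →
      ∃ a, ε * ((s.map fun a => X - C a).prod).eval a = 0 ∧ ε * (a - a₀) ∈ I by
    obtain ⟨a, h1, h2⟩ := key roots 1 a₀ w₀ IsIdempotentElem.one (by rw [← hfs, one_mul]; exact ha₀) (by
      rw [← hfs, one_mul, ← Ideal.Quotient.eq_zero_iff_mem, map_sub, map_mul, hw₀, map_one, sub_self])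
    exact ⟨a, by rw [Polynomial.IsRoot, hfs]; simpa using h1, by simpa using h2⟩
  intro s
  induction s using Multiset.induction_on with
  | empty =>
    intro ε a₀ w hε h0 _
    have hεI : ε ∈ I := by simpa using h0
    have hε0 : ε = 0 := by
      have hu : IsUnit (1 - ε) := by
        refine Ideal.isUnit_of_sub_one_mem_jacobson_bot _ (hI ?_)
        simpa using I.neg_mem hεI
      refine hu.mul_left_eq_zero.mp ?_
      rw [mul_sub, mul_one, hε.eq, sub_self]
    exact ⟨a₀, by simp [hε0], by simp [hε0]⟩
  | cons r s ih =>
    intro ε a₀ w hε h0 h1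
    simp only [Multiset.map_cons, Multiset.prod_cons] at h0 h1 ⊢
    set g := (s.map fun a => X - C a).prod
    have hd : derivative ((X - C r) * g) = g + (X - C r) * derivative g := by
      rw [derivative_mul]; simp
    rw [hd] at h1
    simp only [eval_add, eval_mul, eval_sub, eval_X, eval_C] at h0 h1 ⊢
    let q := Ideal.Quotient.mk I
    have q0 : q ε * ((q a₀ - q r) * q (g.eval a₀)) = 0 := by
      simpa only [q, map_mul, map_sub] using Ideal.Quotient.eq_zero_iff_mem.mpr h0
    have q1 : q ε * (1 - (q (g.eval a₀) + (q a₀ - q r) * q ((derivative g).eval a₀)) * q w) = 0 := by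
      simpa only [q, map_mul, map_sub, map_add, map_one] using Ideal.Quotient.eq_zero_iff_mem.mpr h1
    have qε : q ε * q ε = q ε := by rw [← map_mul, hε.eq]
    have hidem' : IsIdempotentElem (q ε * q (g.eval a₀) * q w) := by
      unfold IsIdempotentElem
      linear_combination (-(q ε * q (g.eval a₀) * q w)) * q1
        - (q ε * q w * q w * q ((derivative g).eval a₀)) * q0
        + (q (g.eval a₀) * q w) * qε
    obtain ⟨e₁, he₁, he₁'⟩ := hidem _ hidem'
    let e := e₁ * ε
    have he : IsIdempotentElem e := he₁.mul hε
    have qe : q e = q ε * q (g.eval a₀) * q w := by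
      simp only [e, map_mul, q] at he₁' ⊢
      rw [he₁']
      linear_combination (q (g.eval a₀) * q w) * qε
    have heε : e * ε = e := by simp only [e, mul_assoc, hε.eq]
    let ε' := ε - e
    have hε' : IsIdempotentElem ε' := by
      unfold IsIdempotentElem
      simp only [ε']
      linear_combination hε.eq + he.eq - (2 : A) * heε
    have he0 : e * ε' = 0 := by
      simp only [ε']
      linear_combination heε - he.eq
    have qε' : q ε' = q ε - q ε * q (g.eval a₀) * q w := by simp only [ε', map_sub, qe]
    obtain ⟨a₂, ha₂, ha₂'⟩ := ih ε' a₀ ((a₀ - r) * w) hε'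
      (Ideal.Quotient.eq_zero_iff_mem.mp (by
        change q (ε' * g.eval a₀) = 0
        rw [map_mul, qε']
        linear_combination q (g.eval a₀) * q1 + (q w * q ((derivative g).eval a₀)) * q0))
      (Ideal.Quotient.eq_zero_iff_mem.mp (by
        change q (ε' * (1 - (derivative g).eval a₀ * ((a₀ - r) * w))) = 0
        simp only [map_mul, map_sub, map_one, qε']
        linear_combination q1 + (q w * q w * q ((derivative g).eval a₀)) * q0))
    let a := e * r + ε' * a₂ + (1 - ε) * a₀
    have h1e : e * (a - r) = 0 := by
      simp only [a]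
      linear_combination r * he.eq + a₂ * he0 - a₀ * heε
    have h1ε : ε' * (a - a₂) = 0 := by
      simp only [a, ε']
      linear_combination (r - a₂) * (heε - he.eq) + (a₂ - a₀) * hε.eq + (a₀ - a₂) * heε
    refine ⟨a, ?_, ?_⟩
    · have c1 := cong ((X - C r) * g) e a r h1e
      have c2 := cong ((X - C r) * g) ε' a a₂ h1ε
      simp only [eval_mul, eval_sub, eval_X, eval_C, sub_self, zero_mul, mul_zero] at c1 c2
      have c3 : ε' * ((a₂ - r) * g.eval a₂) = 0 := by linear_combination (a₂ - r) * ha₂
      simp only [ε'] at c2 c3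
      linear_combination c1 + c2 + c3
    · refine Ideal.Quotient.eq_zero_iff_mem.mp ?_
      have hr : q e * (q r - q a₀) = 0 := by
        rw [qe]
        linear_combination (-q w) * q0
      have h2 : q ε' * (q a₂ - q a₀) = 0 := by
        simpa only [q, map_mul, map_sub] using Ideal.Quotient.eq_zero_iff_mem.mpr ha₂'
      have e1 : ε * (a - a₀) = e * (r - a₀) + ε' * (a₂ - a₀) := by
        simp only [a, ε']
        linear_combination (r - a₂) * heε + (a₂ - a₀) * hε.eq
      change q (ε * (a - a₀)) = 0
      simp only [e1, map_add, map_mul, map_sub]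
      linear_combination hr + h2

end Groth.Agent.S6888
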