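import Groth.Statements.S6891
import Mathlib

set_option autoImplicit false
universe u
open Fitt

namespace Groth.Agent.S6891

/-- Let `M` be a finite `R`-module. Then `Fit_0(M) ⊆ Ann_R(M)`, the closed set `V(Fit_0(M))` equals
`Supp(M)`, and for an ideal `I` one has `Fit_0(R/I) = I`. -/
theorem result {R : Type u} [CommRing R] (M : Type u) [AddCommGroup M]
    [Module R M] [Module.Finite R M] (I : Ideal R) :
    Fitt.ideal R M 0 ≤ Module.annihilator R M ∧
    PrimeSpectrum.zeroLocus (Fitt.ideal R M 0 : Set R) = Module.support R M ∧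
    Fitt.ideal R (R ⧸ I) 0 = I := by
  classical
  have hann : ∀ (N : Type u) [AddCommGroup N] [Module R N], Fitt.ideal R N 0 ≤ Module.annihilator R N := by
    intro N _ _
    refine Ideal.span_le.2 ?_
    rintro d ⟨n, x, a, hx, hrel, rfl⟩
    refine Module.mem_annihilator.2 fun y => ?_
    have hy : y ∈ Submodule.span R (Set.range x) := hx ▸ trivial
    induction hy using Submodule.span_induction with
    | mem z hz =>
      obtain ⟨l, rfl⟩ := hz
      have h1 : ∀ j, (a.det • (1 : Matrix (Fin n) (Fin n) R)) l j = (a.adjugate * a) l j := fun j => by rw [Matrix.adjugate_mul]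
      have h2 : a.det • x l = ∑ j, ((a.det • (1 : Matrix (Fin n) (Fin n) R)) l j) • x j := by
        simp [Matrix.one_apply]
      rw [h2]
      simp only [h1, Matrix.mul_apply, Finset.sum_smul]
      rw [Finset.sum_comm]
      refine Finset.sum_eq_zero fun i _ => ?_
      simp only [← smul_smul, ← Finset.smul_sum, hrel i (by simpa using i.2), smul_zero]
    | zero => exact smul_zero _
    | add p q _ _ hp hq => rw [smul_add, hp, hq, add_zero]
    | smul r p _ hp => rw [smul_comm, hp, smul_zero]
  refine ⟨hann M, ?_, ?_⟩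
  · rw [Module.support_eq_zeroLocus]
    refine Set.Subset.antisymm (fun p hp => ?_) (PrimeSpectrum.zeroLocus_anti_mono (hann M))
    intro f hf
    obtain ⟨n, x, hx⟩ := Module.Finite.exists_fin (R := R) (M := M)
    have hmem : f ^ n ∈ Fitt.ideal R M 0 := Ideal.subset_span ⟨n, x, f • 1, hx, fun i _ => by
      simp [Matrix.one_apply, Module.mem_annihilator.1 hf], by simp⟩
    exact p.isPrime.mem_of_pow_mem n (hp hmem)
  · refine le_antisymm ((hann (R ⧸ I)).trans (Ideal.annihilator_quotient).le) fun i hi => ?_
    refine Ideal.subset_span ⟨1, fun _ => (1 : R ⧸ I), Matrix.of fun _ _ => i, ?_, fun j _ => ?_, by simp⟩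
    · rw [eq_top_iff]
      intro y _
      obtain ⟨r, rfl⟩ := Ideal.Quotient.mk_surjective y
      have : (Ideal.Quotient.mk I r) = r • (1 : R ⧸ I) := by
        rw [Algebra.smul_def, mul_one]; rfl
      rw [this]
      exact Submodule.smul_mem _ _ (Submodule.subset_span ⟨0, rfl⟩)
    · simp only [Matrix.of_apply, Finset.univ_unique, Finset.sum_singleton, Algebra.smul_def, mul_one]
      exact Ideal.Quotient.eq_zero_iff_mem.2 hi

end Groth.Agent.S6891
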