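import Groth.Statements.S6909
import Mathlib
import Groth.Agent.Lib.ArtinReesHom

set_option autoImplicit false
universe u
open Groth.Agent.ArtinReesHom
open Submodule
open CAlg

namespace Groth.Agent.S6909

/-- Let `A` be a Noetherian ring, `I ⊆ A` an ideal inside the Jacobson radical, and `L → M → N` two
complexes `(f, g)` and `(f', g')` of finite `A`-modules with `f' ≡ f` modulo `I^{c+1}M` and `g' ≡ g`
modulo `I^{c+1}N`. If `c` works in the Artin–Rees lemma for `f` and for `g` (that is `f(L) ∩ IⁿM ⊆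
f(I^{n-c}L)` for `n ≥ c`, and likewise for `g`) and `(f, g)` is exact, then `c` works for `g'` and
`(f', g')` is exact. -/
theorem result {A : Type u} [CommRing A] [IsNoetherianRing A] (I : Ideal A)
    (hI : I ≤ Ideal.jacobson (⊥ : Ideal A)) {L M N : Type u} [AddCommGroup L] [Module A L] [Module.Finite A L]
    [AddCommGroup M] [Module A M] [Module.Finite A M] [AddCommGroup N] [Module A N] [Module.Finite A N]
    (f f' : L →ₗ[A] M) (g g' : M →ₗ[A] N) (c : ℕ) (hgf : g.comp f = 0) (hgf' : g'.comp f' = 0)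
    (hf : (∀ n : ℕ, c ≤ n → LinearMap.range f ⊓ (I ^ n • (⊤ : Submodule A M)) ≤ Submodule.map f (I ^ (n - c) • (⊤ : Submodule A L))))
    (hg : (∀ n : ℕ, c ≤ n → LinearMap.range g ⊓ (I ^ n • (⊤ : Submodule A N)) ≤ Submodule.map g (I ^ (n - c) • (⊤ : Submodule A M))))
    (hex : Function.Exact f g)
    (hff' : ∀ x : L, f x - f' x ∈ I ^ (c + 1) • (⊤ : Submodule A M))
    (hgg' : ∀ y : M, g y - g' y ∈ I ^ (c + 1) • (⊤ : Submodule A N)) :
    (∀ n : ℕ, c ≤ n → LinearMap.range g' ⊓ (I ^ n • (⊤ : Submodule A N)) ≤ Submodule.map g' (I ^ (n - c) • (⊤ : Submodule A M))) ∧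
    Function.Exact f' g' := by
  have hg'f' : ∀ l, g' (f' l) = 0 := fun l => LinearMap.congr_fun hgf' l
  -- improve a preimage
  have step : ∀ (y : M) (n k : ℕ), g' y ∈ (I ^ n • ⊤ : Submodule A N) → k + c ≤ n →
      ∃ y' ∈ (I ^ k • ⊤ : Submodule A M), y - y' ∈ LinearMap.range f' := by
    intro y n k hy
    induction k with
    | zero => exact fun _ => ⟨y, by simp, by simp⟩
    | succ k ih =>
      intro hk
      obtain ⟨y', hy', l₀, e₀⟩ := ih (by omega)
      have hval : g' y' = g' y := by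
        have := congrArg g' e₀; rw [hg'f', map_sub] at this; exact (sub_eq_zero.mp this.symm).symm
      have h1 : g y' ∈ (I ^ (k + c + 1) • ⊤ : Submodule A N) := by
        have e : g y' = g' y' + (g - g') y' := by simp
        rw [e]
        refine add_mem (hval ▸ pow_mono I (by omega) hy) ?_
        exact pow_mono I (by omega) (mem_pow_of_range_le I (g - g') (c + 1) k (fun x => hgg' x) hy')
      obtain ⟨y1, hy1, e1⟩ := hg (k + c + 1) (by omega) ⟨LinearMap.mem_range_self g y', h1⟩
      rw [show k + c + 1 - c = k + 1 by omega] at hy1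
      obtain ⟨l, hl⟩ := (hex (y' - y1)).mp (by rw [map_sub, e1, sub_self])
      have hfl : f l ∈ (I ^ k • ⊤ : Submodule A M) :=
        hl ▸ sub_mem hy' (pow_mono I (by omega) hy1)
      obtain ⟨l', hl', e2⟩ : ∃ l' ∈ (I ^ (k - c) • ⊤ : Submodule A L), f l' = f l := by
        by_cases hkc : c ≤ k
        · exact hf k hkc ⟨LinearMap.mem_range_self f l, hfl⟩
        · exact ⟨l, by rw [show k - c = 0 by omega]; simp, rfl⟩
      refine ⟨y1 + (f - f') l', add_mem hy1 ?_, l₀ + l', ?_⟩
      · exact pow_mono I (by omega) (mem_pow_of_range_le I (f - f') (c + 1) (k - c) (fun x => hff' x) hl')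
      · rw [map_add, e₀, LinearMap.sub_apply, e2, hl]
        abel
  refine ⟨fun n hn z hz => ?_, fun y => ⟨fun hy => ?_, ?_⟩⟩
  · obtain ⟨⟨y, rfl⟩, hy⟩ := hz
    obtain ⟨y', hy', l, e⟩ := step y n (n - c) hy (by omega)
    refine ⟨y', hy', ?_⟩
    have := congrArg g' e; rw [hg'f', map_sub] at this; exact (sub_eq_zero.mp this.symm).symm
  · have h : Submodule.Quotient.mk y ∈ (⨅ n : ℕ, I ^ n • ⊤ : Submodule A (M ⧸ LinearMap.range f')) := by
      refine Submodule.mem_iInf _ |>.mpr fun n => ?_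
      obtain ⟨y', hy', hl⟩ := step y (n + c) n (by rw [hy]; exact zero_mem _) le_rfl
      rw [(Submodule.Quotient.eq _).mpr hl]
      have := smul_top_map_le (LinearMap.range f').mkQ (I ^ n) hy'
      exact Submodule.smul_mono le_rfl le_top this
    rw [Ideal.iInf_pow_smul_eq_bot_of_le_jacobson I hI, Submodule.mem_bot, Submodule.Quotient.mk_eq_zero] at h
    exact h
  · rintro ⟨l, rfl⟩; exact hg'f' l

end Groth.Agent.S6909
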