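import Groth.Statements.S6933
import Groth.Prelude.Def_Wider
import Groth.Agent.Lib.InjHullBasic
import Mathlib

set_option autoImplicit false
universe u
open InjHull Pointwise DirectSum
open CategoryTheory
open InjHull

namespace Groth.Agent.S6933

/-- An abelian group `J` that is injective as an object of the category of abelian groups is divisible:
`n J = J` for every nonzero integer `n`. (The published statement is an equivalence; this row states
the implication from injective to divisible.) -/
theorem result (J : Type u) [AddCommGroup J] (hJ : Injective (AddCommGrpCat.of J))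
    (n : ℤ) (hn : n ≠ 0) (x : J) : ∃ y : J, n • y = x := by
  let mu : AddCommGrpCat.of (ULift.{u} ℤ) ⟶ AddCommGrpCat.of (ULift.{u} ℤ) :=
    AddCommGrpCat.ofHom ((zsmulAddGroupHom n) : ULift.{u} ℤ →+ ULift.{u} ℤ)
  have hmu : CategoryTheory.Mono mu := by
    rw [AddCommGrpCat.mono_iff_injective]
    intro a b h
    apply ULift.ext
    have := congrArg ULift.down h
    simpa [mu, hn] using this
  let f : AddCommGrpCat.of (ULift.{u} ℤ) ⟶ AddCommGrpCat.of J :=
    AddCommGrpCat.ofHom (AddMonoidHom.mk' (fun a : ULift.{u} ℤ => a.down • x) (fun a b => add_smul a.down b.down x))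
  obtain ⟨h, hh⟩ := hJ.factors f mu
  refine ⟨h.hom ⟨1⟩, ?_⟩
  have := congrArg (fun k => k.hom (⟨1⟩ : ULift.{u} ℤ)) hh
  simp only [AddCommGrpCat.hom_comp, AddMonoidHom.comp_apply] at this
  rw [← map_zsmul]
  simpa [f, mu] using this

end Groth.Agent.S6933
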