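import Groth.Statements.S6940
import Mathlib
import Groth.Prelude.Def_DRing2
import Groth.Prelude.Def_DDual2
import Groth.Prelude.Def_DTen4
import Groth.Prelude.Def_DerCA
import Groth.Agent.Lib.H5WayOut
import Groth.Agent.Lib.PseudoCoherentRing
import Groth.Agent.Lib.PseudoCoherentRingMore
import Groth.Agent.S6938
import Groth.Agent.S6939
import Groth.Agent.S6935
import Groth.Agent.S6942
import Groth.Agent.Lib.PseudoCoherentRestrict

set_option autoImplicit false
universe u
open Groth.Agent.PseudoCoherentRestrict
open CategoryTheory Limits Pretriangulated HomologicalComplex Groth.Agent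
open scoped ZeroObject
open Groth.Agent.PseudoCoherentRing Groth.Agent.PseudoCoherentRingMore
open CategoryTheory CategoryTheory.Limits
attribute [local instance] HasDerivedCategory.standard
open DRing

namespace Groth.Agent.S6940

/-- Let A → B be a homomorphism of commutative rings making B a pseudo-coherent A-module; let K be an
object of D(B) and m an integer. Then m-pseudo-coherence of K over B is equivalent to
m-pseudo-coherence over A of K with its scalars restricted to A, and likewise pseudo-coherence of K
over B is equivalent to pseudo-coherence over A of its restriction. -/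
theorem result {A B : Type u} [CommRing A]
    [CommRing B] [Algebra A B] (hB : DRing.IsPseudoCoherentModule' A B) (K : Dual.D B) (m : ℤ) :
    (DRing.IsPseudoCoherent B m K ↔ DRing.IsPseudoCoherent A m ((DRing.restrictD (algebraMap A B)).obj K)) ∧
      (DRing.IsPseudoCoherent' B K ↔ DRing.IsPseudoCoherent' A ((DRing.restrictD (algebraMap A B)).obj K)) := by
  have h1 : ∀ m, DRing.IsPseudoCoherent B m K ↔
      DRing.IsPseudoCoherent A m ((DRing.restrictD (algebraMap A B)).obj K) := fun m =>
    ⟨isPseudo_rD _ (hB_algebra hB), isPseudo_of_rD _ (hB_algebra hB)⟩
  exact ⟨h1 m, by rw [isPseudo'_iff, isPseudo'_iff]; exact forall_congr' h1⟩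

end Groth.Agent.S6940
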