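import Groth.Statements.S6956
import Mathlib
import Groth.Prelude.Def_DRing2
import Groth.Prelude.Def_DDual2
import Groth.Prelude.Def_DTen4
import Groth.Prelude.Def_DerCA
import Groth.Agent.Lib.H5WayOut
import Groth.Agent.Lib.PseudoCoherentRing
import Groth.Agent.Lib.PseudoCoherentRingMore
import Groth.Agent.S6938
import Groth.Agent.S6939
import Groth.Agent.S6935
import Groth.Agent.S6942
import Groth.Agent.Lib.PseudoCoherentRestrict

set_option autoImplicit false
universe u
open Groth.Agent.PseudoCoherentRestrict
open CategoryTheory Limits Pretriangulated HomologicalComplex Groth.Agent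
open scoped ZeroObject
open Groth.Agent.PseudoCoherentRing Groth.Agent.PseudoCoherentRingMore
open CategoryTheory CategoryTheory.Limits
attribute [local instance] HasDerivedCategory.standard
open DRing

namespace Groth.Agent.S6956

/-- Let A → B be a homomorphism of commutative rings such that B is perfect as an A-module, and let K be
a perfect object of D(B). Then K, with scalars restricted to A, is a perfect object of D(A). -/
theorem result {A B : Type u} [CommRing A] [CommRing B] [Algebra A B]
    (hB : DRing.IsPerfectModule A B) (K : Dual.D B) (hK : DRing.IsPerfect B K) :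
    DRing.IsPerfect A ((DRing.restrictD (algebraMap A B)).obj K) := by
  let φ := algebraMap A B
  let G := rM φ ⋙ DerivedCategory.singleFunctor (ModuleCat.{u} A) 0
  have : G.Additive := inferInstance
  have : PreservesBinaryBiproducts G := preservesBinaryBiproducts_of_preservesBiproducts _
  let e0 : ((rM φ).obj (ModuleCat.of B B) : Type u) ≃ₗ[A] B :=
    { toFun := fun x => x
      invFun := fun x => x
      left_inv := fun _ => rfl
      right_inv := fun _ => rfl
      map_add' := fun _ _ => rfl
      map_smul' := fun r x => (Algebra.smul_def r (A := B) x).symm }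
  have hB' : DRing.IsPerfect A (Dual.inD A ((rM φ).obj (ModuleCat.of B B))) :=
    isPerfect_of_iso ((DerivedCategory.singleFunctor (ModuleCat.{u} A) 0).mapIso e0.toModuleIso.symm) hB
  have hfree := inD_free_induction φ (DRing.IsPerfect A) (fun e => isPerfect_of_iso e) (fun X hX => isPerfect_zero hX)
    (fun T hT => isPerfect₂ T hT) hB'
  have hproj : ∀ M : ModuleCat.{u} B, Module.Finite B M → Module.Projective B M →
      DRing.IsPerfect A (G.obj M) := by
    intro M _ _
    obtain ⟨k, f, hf⟩ := Module.Finite.exists_fin' B M
    obtain ⟨s, hs⟩ := Module.projective_lifting_property f LinearMap.id hf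
    let e : (M × LinearMap.ker f) ≃ₗ[B] (Fin k → B) :=
      LinearEquiv.ofLinear
        (s.coprod (LinearMap.ker f).subtype)
        (f.prod (LinearMap.codRestrict _ (LinearMap.id - s ∘ₗ f) (fun x => by
          simp [show f (s (f x)) = f x from LinearMap.congr_fun hs (f x)])))
        (LinearMap.ext fun x => by simp)
        (LinearMap.ext fun x => by
          obtain ⟨x, y, hy⟩ := x
          have h1 : f (s x) = x := LinearMap.congr_fun hs x
          have h2 : f y = 0 := hy
          refine Prod.ext ?_ (Subtype.ext ?_) <;> simp [h1, h2])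
    refine isPerfect_summand' (L := G.obj (ModuleCat.of B (LinearMap.ker f))) (isPerfect_of_iso ?_ (hfree k))
    exact (G.mapIso (ModuleCat.biprodIsoProd M (ModuleCat.of B (LinearMap.ker f)) ≪≫ e.toModuleIso)).symm ≪≫
      G.mapBiprod _ _
  obtain ⟨E, a, b, h1, h2, ⟨e⟩⟩ := hK
  refine isPerfect_of_iso ((rD φ).mapIso e) (isPerfect_of_iso ((DTen.resFactors φ).app E).symm ?_)
  exact term_induction (DRing.IsPerfect A) (fun e => isPerfect_of_iso e) (fun X hX => isPerfect_zero hX)
    (fun T hT => isPerfect₂ T hT) ((b - a).toNat + 1) ((DTen.resCx φ).obj E) a b (by omega)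
    (fun i hi => (rM φ).map_isZero (h1 i hi)) (fun i _ _ => isPerfect_shift (hproj (E.X i) (h2 i).1 (h2 i).2) (-i))

end Groth.Agent.S6956
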