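import Groth.Statements.S6957
import Mathlib
import Groth.Prelude.Def_DRing2
import Groth.Prelude.Def_DDual2
import Groth.Agent.Lib.H5Perf
import Groth.Agent.Lib.PseudoCoherentBaseChange

set_option autoImplicit false
universe u
open CategoryTheory Limits Pretriangulated HomologicalComplex Groth.Agent
open Groth.Agent.PseudoCoherentBaseChange
open CategoryTheory CategoryTheory.Limits
attribute [local instance] HasDerivedCategory.standard
open DRing

namespace Groth.Agent.S6957

/-- Let A → B be a homomorphism of commutative rings such that the derived base change D(A) → D(B)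
exists, and let K be a perfect object of D(A). Then K ⊗^L_A B is a perfect object of D(B). -/
theorem result {A B : Type u} [CommRing A] [CommRing B] (φ : A →+* B)
    [DRing.HasLBaseChange φ] (K : Dual.D A) (hK : DRing.IsPerfect A K) :
    DRing.IsPerfect B ((DRing.LBaseChange φ).obj K) := by
  obtain ⟨E, a, b, h1, h2, ⟨e⟩⟩ := hK
  have := H5Perf.isKProjective_of_vanishesOutside E a b h1 h2
  obtain ⟨e'⟩ := lBaseChange_iso φ E
  refine ⟨((ModuleCat.extendScalars.{u, u, u} φ).mapHomologicalComplex (ComplexShape.up ℤ)).obj E, a, b,
    fun i hi => (ModuleCat.extendScalars.{u, u, u} φ).map_isZero (h1 i hi), fun i => ?_,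
    ⟨e'.symm ≪≫ (DRing.LBaseChange φ).mapIso e⟩⟩
  letI := φ.toAlgebra
  have := (h2 i).1; have := (h2 i).2
  exact ⟨inferInstanceAs (Module.Finite B (TensorProduct A B (E.X i))),
    inferInstanceAs (Module.Projective B (TensorProduct A B (E.X i)))⟩

end Groth.Agent.S6957
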