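import Groth.Statements.S6958
import Mathlib
import Groth.Prelude.Def_DRing2
import Groth.Prelude.Def_DDual2
import Groth.Prelude.Def_DTen4
import Groth.Prelude.Def_DerCA
import Groth.Agent.Lib.H5WayOut
import Groth.Agent.Lib.PseudoCoherentRing
import Groth.Agent.Lib.PseudoCoherentRingMore
import Groth.Agent.S6938
import Groth.Agent.S6939
import Groth.Agent.S6935
import Groth.Agent.S6942
import Groth.Agent.Lib.PseudoCoherentRestrict

set_option autoImplicit false
universe u
open Groth.Agent.PseudoCoherentRestrict
open CategoryTheory Limits Pretriangulated HomologicalComplex Groth.Agent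
open scoped ZeroObject
open Groth.Agent.PseudoCoherentRing Groth.Agent.PseudoCoherentRingMore
open CategoryTheory CategoryTheory.Limits
attribute [local instance] HasDerivedCategory.standard
open DRing

namespace Groth.Agent.S6958

/-- Let A → B be a flat homomorphism of commutative rings and M a perfect A-module. Then B ⊗_A M is a
perfect B-module. -/
theorem result {A B : Type u} [CommRing A] [CommRing B] [Algebra A B]
    [Module.Flat A B] (M : Type u) [AddCommGroup M] [Module A M] (hM : DRing.IsPerfectModule A M) :
    DRing.IsPerfectModule B (TensorProduct A B M) := by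
  have h1 := isPerfect_extCx (algebraMap A B) (RingHom.flat_algebraMap_iff.2 inferInstance)
    (isPerfect_of_iso ((DerivedCategory.singleFunctorIsoCompQ (ModuleCat.{u} A) 0).app (ModuleCat.of A M)) hM)
  have h2 : DRing.IsPerfectModule B ((ModuleCat.extendScalars.{u, u, u} (algebraMap A B)).obj (ModuleCat.of A M)) :=
    isPerfect_of_iso ((DerivedCategory.singleFunctorIsoCompQ (ModuleCat.{u} B) 0).app _).symm
      (isPerfect_of_iso (DerivedCategory.Q.mapIso
        ((HomologicalComplex.singleMapHomologicalComplex (ModuleCat.extendScalars.{u, u, u} (algebraMap A B))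
          (ComplexShape.up ℤ) 0).app (ModuleCat.of A M))) h1)
  have e : (algebraMap A B).toAlgebra = ‹Algebra A B› := Algebra.algebra_ext _ _ fun _ => rfl
  have h3 : letI := (algebraMap A B).toAlgebra; DRing.IsPerfectModule B (TensorProduct A B M) := h2
  rw [e] at h3
  exact h3

end Groth.Agent.S6958
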