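import Groth.Statements.S6969
import Mathlib

set_option autoImplicit false
universe u
open CAlg

namespace Groth.Agent.S6969

theorem exists_fin_factor {R : Type u} [CommRing R] {M N P : Type u} [AddCommGroup M] [Module R M] [Module.Finite R M]
    [AddCommGroup N] [Module R N] [AddCommGroup P] [Module R P] [Module.Projective R P] (f : M →ₗ[R] P) (g : P →ₗ[R] N) :
    ∃ (n : ℕ) (α : M →ₗ[R] (Fin n → R)) (β : (Fin n → R) →ₗ[R] N), β ∘ₗ α = g ∘ₗ f := by
  classical
  obtain ⟨s, hs⟩ := Module.projective_def'.mp (‹Module.Projective R P›)
  obtain ⟨t, ht⟩ := Module.Finite.fg_top (R := R) (M := M)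
  let U : Finset P := t.biUnion fun m => (s (f m)).support
  have hU : ∀ m : M, (s (f m)).support ⊆ U := by
    intro m
    have hm : m ∈ Submodule.span R (t : Set M) := ht ▸ Submodule.mem_top
    induction hm using Submodule.span_induction with
    | mem x hx => exact Finset.subset_biUnion_of_mem (fun m => (s (f m)).support) hx
    | zero => simp
    | add x y _ _ hx hy => rw [map_add, map_add]; exact Finsupp.support_add.trans (Finset.union_subset hx hy)
    | smul c x _ hx => rw [map_smul, map_smul]; exact Finsupp.support_smul.trans hx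
  let e := U.equivFin
  refine ⟨U.card, LinearMap.pi fun i => (Finsupp.lapply ((e.symm i : U) : P)) ∘ₗ s ∘ₗ f,
    Fintype.linearCombination R fun i => g ((e.symm i : U) : P), LinearMap.ext fun m => ?_⟩
  have h1 : Finsupp.linearCombination R id (s (f m)) = f m := LinearMap.congr_fun hs (f m)
  rw [LinearMap.comp_apply, LinearMap.comp_apply]
  conv_rhs => rw [← h1]
  rw [Finsupp.linearCombination_apply, Finsupp.sum_of_support_subset _ (hU m) (fun i (a : R) => a • id i) (fun i _ => zero_smul R _),
    map_sum, Fintype.linearCombination_apply, ← Finset.sum_coe_sort U, ← e.symm.sum_comp]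
  simp

/-- Let R be a commutative ring and φ : M → N an R-linear map which factors through a projective
R-module. If M is finitely generated, then φ factors through a finitely generated projective
R-module. -/
theorem result (R : Type u) [CommRing R] {M N : Type u} [AddCommGroup M]
    [Module R M] [Module.Finite R M] [AddCommGroup N] [Module R N] (φ : M →ₗ[R] N)
    (h : ∃ (P : Type u) (_ : AddCommGroup P) (_ : Module R P) (_ : Module.Projective R P) (f : M →ₗ[R] P)
      (g : P →ₗ[R] N), g ∘ₗ f = φ) :
    ∃ (P : Type u) (_ : AddCommGroup P) (_ : Module R P) (_ : Module.Projective R P) (_ : Module.Finite R P)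
      (f : M →ₗ[R] P) (g : P →ₗ[R] N), g ∘ₗ f = φ := by
  obtain ⟨P, _, _, _, f, g, hfg⟩ := h
  obtain ⟨n, α, β, h'⟩ := exists_fin_factor f g
  exact ⟨Fin n → R, inferInstance, inferInstance, inferInstance, inferInstance, α, β, h'.trans hfg⟩

end Groth.Agent.S6969
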