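import Groth.Statements.S6984
import Mathlib
import Groth.Prelude.Def_DRing2
import Groth.Prelude.Def_DDual2
import Groth.Prelude.Def_DTen4
import Groth.Prelude.Def_DerCA
import Groth.Agent.Lib.H5WayOut
import Groth.Agent.Lib.PseudoCoherentRing
import Groth.Agent.Lib.PseudoCoherentRingMore
import Groth.Agent.S6938
import Groth.Agent.S6939
import Groth.Agent.S6935
import Groth.Agent.S6942
import Groth.Agent.Lib.PseudoCoherentRestrict

set_option autoImplicit false
universe u
open Groth.Agent.PseudoCoherentRestrict
open CategoryTheory Limits Pretriangulated HomologicalComplex Groth.Agent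
open scoped ZeroObject
open Groth.Agent.PseudoCoherentRing Groth.Agent.PseudoCoherentRingMore
open CategoryTheory CategoryTheory.Limits
attribute [local instance] HasDerivedCategory.standard
open DerCA

namespace Groth.Agent.S6984

/-- Let R be a commutative ring, A → B a finite homomorphism of finite type R-algebras, K an object of
D(B) and m an integer. Then K is m-pseudo-coherent relative to R over B if and only if K, with
scalars restricted to A, is m-pseudo-coherent relative to R over A; and K is pseudo-coherent
relative to R over B if and only if its restriction to A is pseudo-coherent relative to R. -/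
theorem result {R A B : Type u} [CommRing R] [CommRing A] [CommRing B]
    [Algebra R A] [Algebra A B] [Algebra R B] [IsScalarTower R A B] [Algebra.FiniteType R A]
    [Algebra.FiniteType R B] [Module.Finite A B] (K : Dual.D B) (m : ℤ) :
    (DerCA.IsRelPseudoCoherent R B m K ↔
      DerCA.IsRelPseudoCoherent R A m ((DRing.restrictD (algebraMap A B)).obj K)) ∧
      (DerCA.IsRelPseudoCoherentAll R B K ↔
        DerCA.IsRelPseudoCoherentAll R A ((DRing.restrictD (algebraMap A B)).obj K)) := by
  obtain ⟨n, α, hα⟩ := exists_pres R A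
  obtain ⟨k, b, hb⟩ := Module.Finite.exists_fin (R := A) (M := B)
  let φ := (α : MvPolynomial (Fin n) R →+* A)
  let ψ := (algebraMap A B).comp φ
  let Ψ := MvPolynomial.eval₂Hom ψ b
  let γ : MvPolynomial (Fin (k + n)) R ≃ₐ[R] MvPolynomial (Fin k) (MvPolynomial (Fin n) R) :=
    (MvPolynomial.renameEquiv R finSumFinEquiv.symm).trans (MvPolynomial.sumAlgEquiv R (Fin k) (Fin n))
  have hΨr : ∀ r : R, Ψ (algebraMap R (MvPolynomial (Fin k) (MvPolynomial (Fin n) R)) r) = algebraMap R B r := by
    intro r
    rw [IsScalarTower.algebraMap_apply R (MvPolynomial (Fin n) R) (MvPolynomial (Fin k) (MvPolynomial (Fin n) R))]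
    simp [Ψ, ψ, φ, MvPolynomial.algebraMap_eq, ← IsScalarTower.algebraMap_apply R A B]
  let β : MvPolynomial (Fin (k + n)) R →ₐ[R] B :=
    { Ψ.comp γ.toRingEquiv.toRingHom with
      commutes' := fun r => by
        change Ψ (γ (algebraMap R _ r)) = algebraMap R B r
        rw [γ.commutes, hΨr] }
  have hβ : Function.Surjective β := by
    intro x
    obtain ⟨c, hc⟩ := (Submodule.mem_span_range_iff_exists_fun A).1 (hb.ge (Submodule.mem_top (x := x)))
    choose d hd using fun i => hα (c i)
    refine ⟨γ.symm (∑ i, MvPolynomial.C (d i) * MvPolynomial.X i), ?_⟩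
    change Ψ (γ (γ.symm _)) = x
    rw [γ.apply_symm_apply, map_sum, ← hc]
    refine Finset.sum_congr rfl fun i _ => ?_
    simp [Ψ, ψ, φ, hd, Algebra.smul_def]
  have hint : ∀ i, ∃ p : Polynomial (MvPolynomial (Fin n) R), p.Monic ∧ p.eval₂ ψ (b i) = 0 := by
    intro i
    obtain ⟨p, hp, hp0⟩ := (Algebra.IsIntegral.isIntegral (R := A) (b i))
    obtain ⟨q, hq, -, hqm⟩ := Polynomial.lifts_and_natDegree_eq_and_monic (f := φ) (p := p)
      ((Polynomial.lifts_iff_coeff_lifts p).2 fun j => hα (p.coeff j)) hp
    exact ⟨q, hqm, by rw [← Polynomial.eval₂_map, hq, hp0]⟩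
  have key : ∀ m : ℤ, DerCA.IsRelPseudoCoherent R B m K ↔
      DerCA.IsRelPseudoCoherent R A m ((DRing.restrictD (algebraMap A B)).obj K) := by
    intro m
    obtain ⟨e⟩ := nonempty_rD_comp φ (algebraMap A B) ψ rfl K
    rw [isRel_iff_via β hβ, isRel_iff_via α hα,
      iff_comp (pcMap_of_bijective γ.toRingEquiv.toRingHom γ.bijective) Ψ (β : MvPolynomial (Fin (k + n)) R →+* B) rfl K m,
      ← pc_iff_mvPolynomial K m k ψ b hint]
    exact ⟨isPseudo_of_iso e.symm, isPseudo_of_iso e⟩
  exact ⟨key m, forall_congr' key⟩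

end Groth.Agent.S6984
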