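import Groth.Statements.S6993
import Mathlib
import Groth.Agent.Lib.LRelFP

set_option autoImplicit false
universe u
open CAlg

namespace Groth.Agent.S6993

/-- Let R → A → B be finite type homomorphisms of commutative rings with A of finite presentation over
R, M a B-module, and α : A[x_1, ..., x_n] → B, β : R[y_1, ..., y_k] → B surjective algebra
homomorphisms over A and R respectively. If M is finitely presented as an A[x_1, ..., x_n]-module
through α (finitely presented relative to A), then M is finitely presented as an R[y_1, ...,
y_k]-module through β (finitely presented relative to R). -/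
theorem result {R A B : Type u} [CommRing R] [CommRing A]
    [CommRing B] [Algebra R A] [Algebra A B] [Algebra R B] [IsScalarTower R A B] [Algebra.FinitePresentation R A]
    [Algebra.FiniteType A B] (M : Type u) [AddCommGroup M] [Module B M] {n k : ℕ}
    (α : MvPolynomial (Fin n) A →ₐ[A] B) (hα : Function.Surjective α)
    (β : MvPolynomial (Fin k) R →ₐ[R] B) (hβ : Function.Surjective β)
    (hM : @Module.FinitePresentation (MvPolynomial (Fin n) A) M _ _ (Module.compHom M α.toRingHom)) :
    @Module.FinitePresentation (MvPolynomial (Fin k) R) M _ _ (Module.compHom M β.toRingHom) := by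
  haveI : Algebra.FinitePresentation R (MvPolynomial (Fin n) A) := Algebra.FinitePresentation.trans R A _
  obtain ⟨N, δ, hδ, hker⟩ := Algebra.FinitePresentation.out (R := R) (A := MvPolynomial (Fin n) A)
  let Q := MvPolynomial (Fin n) A
  let P := MvPolynomial (Fin N) R
  let αR : Q →ₐ[R] B := α.restrictScalars R
  let γ : P →ₐ[R] B := αR.comp δ
  refine (Groth.Agent.LRelFP.main (A := B) (B := B) M γ (hα.comp hδ) β hβ).mp ?_
  letI : Module P M := Module.compHom M γ.toRingHom
  letI : Module Q M := Module.compHom M α.toRingHom
  haveI : Module.FinitePresentation Q M := hM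
  letI : Algebra P Q := δ.toRingHom.toAlgebra
  haveI : IsScalarTower P Q M := IsScalarTower.of_algebraMap_smul fun _ _ => rfl
  haveI : Module.FinitePresentation P Q :=
    Module.finitePresentation_of_surjective (Algebra.linearMap P Q) hδ hker
  exact (Groth.Agent.LRelFP.iff_of_finite P Q M).mpr inferInstance

end Groth.Agent.S6993
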