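import Groth.Statements.S7000
import Mathlib
import Groth.Prelude.Def_DRing2
import Groth.Prelude.Def_DDual2
import Groth.Agent.Lib.H5DTen
import Groth.Agent.Lib.H5Perf
import Groth.Agent.Lib.H5Amp
import Groth.Agent.Lib.H5WayOut
import Groth.Agent.Lib.CoherentRings
import Groth.Agent.Lib.UnivInjective
import Groth.Agent.Lib.PseudoCoherentRing
import Groth.Agent.Lib.H7StupidGE
import Groth.Agent.S2087
import Groth.Agent.Lib.PseudoCoherentRingMore

set_option autoImplicit false
universe u
open Groth.Agent.PseudoCoherentRingMore
open CategoryTheory Limits Pretriangulated HomologicalComplex Groth.Agent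
open scoped ZeroObject
open Groth.Agent.PseudoCoherentRing
open CategoryTheory CategoryTheory.Limits
attribute [local instance] HasDerivedCategory.standard
open DRing

namespace Groth.Agent.S7000

/-- Let A → B be a flat homomorphism of commutative rings, m an integer and M an A-module. If M is
m-pseudo-coherent then the B-module B ⊗_A M is m-pseudo-coherent; if M is pseudo-coherent then B ⊗_A
M is pseudo-coherent. -/
theorem result {A B : Type u} [CommRing A] [CommRing B] [Algebra A B]
    [Module.Flat A B] (m : ℤ) (M : Type u) [AddCommGroup M] [Module A M] :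
    (DRing.IsPseudoCoherentModule A m M → DRing.IsPseudoCoherentModule B m (TensorProduct A B M)) ∧
      (DRing.IsPseudoCoherentModule' A M → DRing.IsPseudoCoherentModule' B (TensorProduct A B M)) := by
  have key : ∀ m : ℤ, DRing.IsPseudoCoherentModule A m M →
      DRing.IsPseudoCoherentModule B m (TensorProduct A B M) := by
    intro m h
    have h' := (isPseudo_single_iff _ m).1
      (show DRing.IsPseudoCoherentModule A m (ModuleCat.of A M) from h)
    have h1 := isPseudo_extCx (algebraMap A B) (RingHom.flat_algebraMap_iff.2 inferInstance) h'
    have h2 := (isPseudo_single_iff ((ModuleCat.extendScalars.{u, u, u} (algebraMap A B)).obj (ModuleCat.of A M)) m).2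
      (isPseudo_of_iso (DerivedCategory.Q.mapIso
        ((HomologicalComplex.singleMapHomologicalComplex (ModuleCat.extendScalars.{u, u, u} (algebraMap A B))
          (ComplexShape.up ℤ) 0).app (ModuleCat.of A M))) h1)
    have e : (algebraMap A B).toAlgebra = ‹Algebra A B› := Algebra.algebra_ext _ _ fun _ => rfl
    have h3 : letI := (algebraMap A B).toAlgebra; DRing.IsPseudoCoherentModule B m (TensorProduct A B M) := h2
    rw [e] at h3
    exact h3
  exact ⟨key m, fun h => isPseudo'_iff.2 fun j => key j (isPseudo'_iff.1 h j)⟩

end Groth.Agent.S7000
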