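import Mathlib
import Groth.Statements.S7015
-- import your own Groth.Agent.* helpers here

set_option autoImplicit false
universe u
open CategoryTheory MonoidalCategory
open DRing

namespace Groth.Agent.S7015

/-- Let R be a commutative ring and M, N R-modules such that N is a left dual of M for the tensor
product of R-modules, i.e. there are a coevaluation R → M ⊗ N and an evaluation N ⊗ M → R satisfying
the triangle identities (an exact pairing). Then M and N are finitely generated projective
R-modules. -/
theorem result (R : Type u) [CommRing R] (M N : Type u) [AddCommGroup M]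
    [Module R M] [AddCommGroup N] [Module R N] [ExactPairing (ModuleCat.of R M) (ModuleCat.of R N)] :
    Module.Finite R M ∧ Module.Projective R M ∧ Module.Finite R N ∧ Module.Projective R N := by
  classical
  let X := ModuleCat.of R M
  let Y := ModuleCat.of R N
  have hM := congrArg (fun f => f.hom) (ExactPairing.evaluation_coevaluation X Y)
  have hN := congrArg (fun f => f.hom) (ExactPairing.coevaluation_evaluation X Y)
  let η : R →ₗ[R] TensorProduct R M N := (η_ X Y).hom
  let ev : TensorProduct R N M →ₗ[R] R := (ε_ X Y).hom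
  obtain ⟨S, hS⟩ := TensorProduct.exists_finset (η (1 : R))
  have kM : ∀ x : M, x = ∑ p ∈ S, ev (p.2 ⊗ₜ[R] x) • p.1 := by
    intro x
    let F : TensorProduct R (TensorProduct R M N) M →ₗ[R] TensorProduct R M R :=
      (ev.lTensor M) ∘ₗ (TensorProduct.assoc R M N M).toLinearMap
    have h1 : F (η (1 : R) ⊗ₜ[R] x) = ((1 : R) • x) ⊗ₜ[R] (1 : R) := LinearMap.congr_fun hM ((1 : R) ⊗ₜ[R] x)
    rw [hS, TensorProduct.sum_tmul, map_sum] at h1
    have h2 := congrArg (TensorProduct.rid R M) h1
    simpa [F] using h2.symm
  have kN : ∀ y : N, y = ∑ p ∈ S, ev (y ⊗ₜ[R] p.1) • p.2 := by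
    intro y
    let F : TensorProduct R N (TensorProduct R M N) →ₗ[R] TensorProduct R R N :=
      (ev.rTensor N) ∘ₗ (TensorProduct.assoc R N M N).symm.toLinearMap
    have h1 : F (y ⊗ₜ[R] η (1 : R)) = (1 : R) ⊗ₜ[R] ((1 : R) • y) := LinearMap.congr_fun hN (y ⊗ₜ[R] (1 : R))
    rw [hS, TensorProduct.tmul_sum, map_sum] at h1
    have h2 := congrArg (TensorProduct.lid R N) h1
    simpa [F] using h2.symm
  refine ⟨?_, ?_, ?_, ?_⟩
  · refine ⟨⟨S.image Prod.fst, eq_top_iff.2 fun x _ => ?_⟩⟩
    rw [kM x]
    exact Submodule.sum_mem _ fun p hp => Submodule.smul_mem _ _ (Submodule.subset_span (Finset.mem_image_of_mem _ hp))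
  · exact Module.Projective.of_split
      (LinearMap.pi fun p : S => ev ∘ₗ (TensorProduct.mk R N M p.1.2)) (Fintype.linearCombination R (fun p : S => p.1.1))
      (LinearMap.ext fun x => by
        rw [LinearMap.comp_apply, Fintype.linearCombination_apply, LinearMap.id_apply]
        exact (Finset.sum_coe_sort S fun p => ev (p.2 ⊗ₜ[R] x) • p.1).trans (kM x).symm)
  · refine ⟨⟨S.image Prod.snd, eq_top_iff.2 fun x _ => ?_⟩⟩
    rw [kN x]
    exact Submodule.sum_mem _ fun p hp => Submodule.smul_mem _ _ (Submodule.subset_span (Finset.mem_image_of_mem _ hp))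
  · exact Module.Projective.of_split
      (LinearMap.pi fun p : S => ev ∘ₗ ((TensorProduct.mk R N M).flip p.1.1)) (Fintype.linearCombination R (fun p : S => p.1.2))
      (LinearMap.ext fun y => by
        rw [LinearMap.comp_apply, Fintype.linearCombination_apply, LinearMap.id_apply]
        exact (Finset.sum_coe_sort S fun p => ev (y ⊗ₜ[R] p.1) • p.2).trans (kN y).symm)

end Groth.Agent.S7015
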