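import Groth.Statements.S7022
import Mathlib
import Groth.Prelude.Def_DRing2
import Groth.Prelude.Def_DDual2
import Groth.Prelude.Def_DTen4
import Groth.Prelude.Def_DerCA
import Groth.Agent.Lib.H5WayOut
import Groth.Agent.Lib.PseudoCoherentRing
import Groth.Agent.Lib.PseudoCoherentRingMore
import Groth.Agent.S6938
import Groth.Agent.S6939
import Groth.Agent.S6935
import Groth.Agent.S6942
import Groth.Agent.Lib.PseudoCoherentRestrict

set_option autoImplicit false
universe u
open Groth.Agent.PseudoCoherentRestrict
open CategoryTheory Limits Pretriangulated HomologicalComplex Groth.Agent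
open scoped ZeroObject
open Groth.Agent.PseudoCoherentRing Groth.Agent.PseudoCoherentRingMore
open CategoryTheory CategoryTheory.Limits
attribute [local instance] HasDerivedCategory.standard
open DerCA

namespace Groth.Agent.S7022

/-- Let R → A be a finite type homomorphism of commutative rings, m an integer and K, L objects of the
derived category D(A). Whenever the direct sum K ⊕ L is pseudo-coherent relative to R in degree m,
both summands K and L are too; likewise, relative pseudo-coherence of K ⊕ L (in every degree) passes
to K and to L. -/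
theorem result {R A : Type u} [CommRing R] [CommRing A] [Algebra R A] [Algebra.FiniteType R A] (m : ℤ) (K L : Dual.D A) [HasBinaryBiproduct K L] :
    (DerCA.IsRelPseudoCoherent R A m (K ⊞ L) → DerCA.IsRelPseudoCoherent R A m K ∧ DerCA.IsRelPseudoCoherent R A m L) ∧
      (DerCA.IsRelPseudoCoherentAll R A (K ⊞ L) →
        DerCA.IsRelPseudoCoherentAll R A K ∧ DerCA.IsRelPseudoCoherentAll R A L) := by
  obtain ⟨n, α, hα⟩ := exists_pres R A
  let F := rD (α : MvPolynomial (Fin n) R →+* A)
  have : F.Additive := inferInstance
  have : PreservesBinaryBiproducts F := preservesBinaryBiproducts_of_preservesBiproducts _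
  have key : ∀ j, DRing.IsPseudoCoherent (MvPolynomial (Fin n) R) j (F.obj (K ⊞ L)) →
      DRing.IsPseudoCoherent (MvPolynomial (Fin n) R) j (F.obj K) ∧
        DRing.IsPseudoCoherent (MvPolynomial (Fin n) R) j (F.obj L) := fun j h =>
    isPseudo_summand_le _ _ (isPseudo_of_iso (F.mapBiprod K L) h)
  simp only [DerCA.IsRelPseudoCoherentAll, isRel_iff_via α hα]
  exact ⟨key m, fun h => ⟨fun j => (key j (h j)).1, fun j => (key j (h j)).2⟩⟩

end Groth.Agent.S7022
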