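import Groth.Statements.S7024
import Mathlib
import Groth.Prelude.Def_DRing2
import Groth.Prelude.Def_DDual2
import Groth.Prelude.Def_DTen4
import Groth.Prelude.Def_DerCA
import Groth.Agent.Lib.H5WayOut
import Groth.Agent.Lib.PseudoCoherentRing
import Groth.Agent.Lib.PseudoCoherentRingMore
import Groth.Agent.S6938
import Groth.Agent.S6939
import Groth.Agent.S6935
import Groth.Agent.S6942
import Groth.Agent.Lib.PseudoCoherentRestrict

set_option autoImplicit false
universe u
open Groth.Agent.PseudoCoherentRestrict
open CategoryTheory Limits Pretriangulated HomologicalComplex Groth.Agent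
open scoped ZeroObject
open Groth.Agent.PseudoCoherentRing Groth.Agent.PseudoCoherentRingMore
open CategoryTheory CategoryTheory.Limits
attribute [local instance] HasDerivedCategory.standard
open DerCA

namespace Groth.Agent.S7024

/-- Let R → A be a finite type homomorphism of commutative rings, m an integer and K an object of D(A)
whose cohomology vanishes in large degrees. If the module H^i(K) is (m - i)-pseudo-coherent relative
to R for every i, then K is m-pseudo-coherent relative to R. Moreover, K is relatively
pseudo-coherent over R as soon as each cohomology module H^i(K) has this property over R. -/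
theorem result {R A : Type u} [CommRing R] [CommRing A] [Algebra R A] [Algebra.FiniteType R A] (m : ℤ) (K : Dual.D A)
    (hb : ∃ b : ℤ, ∀ i : ℤ, b < i → Subsingleton (Dual.HD A K i)) :
    ((∀ i : ℤ, DerCA.IsRelPseudoCoherentModule R A (m - i) (Dual.HD A K i)) → DerCA.IsRelPseudoCoherent R A m K) ∧
      ((∀ i : ℤ, DerCA.IsRelPseudoCoherentModuleAll R A (Dual.HD A K i)) → DerCA.IsRelPseudoCoherentAll R A K) := by
  obtain ⟨n, α, hα⟩ := exists_pres R A
  let φ := (α : MvPolynomial (Fin n) R →+* A)
  obtain ⟨b, hb⟩ := hb
  have hb' : ∃ b : ℤ, ∀ i : ℤ, b < i → Subsingleton ((HF (MvPolynomial (Fin n) R) i).obj ((rD φ).obj K)) :=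
    ⟨b, fun i hi => by
      obtain ⟨e⟩ := nonempty_HF_rD φ K i
      exact @Equiv.subsingleton _ _ e.toLinearEquiv.toEquiv (hb i hi)⟩
  have key : ∀ m : ℤ, (∀ i : ℤ, DerCA.IsRelPseudoCoherentModule R A (m - i) (Dual.HD A K i)) →
      DerCA.IsRelPseudoCoherent R A m K := by
    intro m h
    rw [isRel_iff_via α hα]
    refine (Groth.Agent.S6939.result _ m _ hb').1 fun i => ?_
    obtain ⟨e⟩ := nonempty_HF_rD φ K i
    exact isPseudo_of_iso ((DerivedCategory.singleFunctor (ModuleCat.{u} (MvPolynomial (Fin n) R)) 0).mapIso e.symm)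
      ((isRelModule_iff α hα (Dual.HD A K i) (m - i)).1 (h i))
  exact ⟨key m, fun h j => key j fun i => h i (j - i)⟩

end Groth.Agent.S7024
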