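import Groth.Statements.S7026
import Mathlib
import Groth.Prelude.Def_DRing2
import Groth.Prelude.Def_DDual2
import Groth.Prelude.Def_DTen4
import Groth.Prelude.Def_DerCA
import Groth.Agent.Lib.H5WayOut
import Groth.Agent.Lib.PseudoCoherentRing
import Groth.Agent.Lib.PseudoCoherentRingMore
import Groth.Agent.S6938
import Groth.Agent.S6939
import Groth.Agent.S6935
import Groth.Agent.S6942
import Groth.Agent.Lib.PseudoCoherentRestrict

set_option autoImplicit false
universe u
open Groth.Agent.PseudoCoherentRestrict
open CategoryTheory Limits Pretriangulated HomologicalComplex Groth.Agent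
open scoped ZeroObject
open Groth.Agent.PseudoCoherentRing Groth.Agent.PseudoCoherentRingMore
open CategoryTheory CategoryTheory.Limits
attribute [local instance] HasDerivedCategory.standard
open DerCA

namespace Groth.Agent.S7026

/-- Let R be a Noetherian commutative ring, R → A a finite type ring homomorphism, m an integer, K an
object of D(A) and M an A-module. Then: m-pseudo-coherence of K relative to R is equivalent to
H^i(K) vanishing for all large i together with H^i(K) being a finitely generated A-module for each i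
≥ m; pseudo-coherence of K relative to R (every degree) is equivalent to the same with H^i(K)
finitely generated for every i; and the A-module M is pseudo-coherent relative to R exactly when M
is finitely generated. -/
theorem result {R A : Type u} [CommRing R]
    [IsNoetherianRing R] [CommRing A] [Algebra R A] [Algebra.FiniteType R A] (m : ℤ) (K : Dual.D A)
    (M : Type u) [AddCommGroup M] [Module A M] :
    (DerCA.IsRelPseudoCoherent R A m K ↔
      (∃ b : ℤ, ∀ i : ℤ, b < i → Subsingleton (Dual.HD A K i)) ∧ ∀ i : ℤ, m ≤ i → Module.Finite A (Dual.HD A K i)) ∧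
    (DerCA.IsRelPseudoCoherentAll R A K ↔
      (∃ b : ℤ, ∀ i : ℤ, b < i → Subsingleton (Dual.HD A K i)) ∧ ∀ i : ℤ, Module.Finite A (Dual.HD A K i)) ∧
    (DerCA.IsRelPseudoCoherentModuleAll R A M ↔ Module.Finite A M) := by
  obtain ⟨n, α, hα⟩ := exists_pres R A
  let φ := (α : MvPolynomial (Fin n) R →+* A)
  let P := MvPolynomial (Fin n) R
  have key : ∀ (m : ℤ) (K : Dual.D A), DerCA.IsRelPseudoCoherent R A m K ↔
      (∃ b : ℤ, ∀ i : ℤ, b < i → Subsingleton (Dual.HD A K i)) ∧ ∀ i : ℤ, m ≤ i → Module.Finite A (Dual.HD A K i) := by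
    intro m K
    rw [isRel_iff_via α hα, (Groth.Agent.S6942.result P m ((rD φ).obj K) PUnit).1]
    have e := fun i => (nonempty_HF_rD φ K i).some.toLinearEquiv
    refine and_congr (exists_congr fun b => forall₂_congr fun i _ => ⟨fun h => ?_, fun h => ?_⟩)
      (forall₂_congr fun i _ => ⟨fun h => ?_, fun h => ?_⟩)
    · exact @Equiv.subsingleton _ _ (e i).toEquiv.symm h
    · exact @Equiv.subsingleton _ _ (e i).toEquiv h
    · have : Module.Finite P ((HF P i).obj ((rD φ).obj K)) := h
      have : Module.Finite P ((rM φ).obj ((HF A i).obj K)) := Module.Finite.equiv (e i)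
      exact finite_of_restrict φ ((HF A i).obj K)
    · have : Module.Finite A ((HF A i).obj K) := h
      have := finite_restrict_of_surjective φ hα ((HF A i).obj K)
      exact Module.Finite.equiv (e i).symm
  have hall : ∀ K : Dual.D A, DerCA.IsRelPseudoCoherentAll R A K ↔
      (∃ b : ℤ, ∀ i : ℤ, b < i → Subsingleton (Dual.HD A K i)) ∧ ∀ i : ℤ, Module.Finite A (Dual.HD A K i) := fun K =>
    ⟨fun h => ⟨((key 0 K).1 (h 0)).1, fun i => ((key i K).1 (h i)).2 i le_rfl⟩,
      fun h j => (key j K).2 ⟨h.1, fun i _ => h.2 i⟩⟩
  refine ⟨key m K, hall K, fun h => ?_, fun h j => ?_⟩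
  · obtain ⟨e⟩ := nonempty_H0_inD (R := A) M
    have : Module.Finite A ((HF A 0).obj (Dual.inD A M)) := ((hall _).1 h).2 0
    exact Module.Finite.equiv e.toLinearEquiv
  · have hM : Module.Finite P ((rM φ).obj (ModuleCat.of A M)) :=
      @finite_restrict_of_surjective _ _ _ _ φ hα (ModuleCat.of A M) h
    exact (isRelModule_iff α hα M j).2
      (isPseudo'_iff.1 ((Groth.Agent.S6942.result P j (Dual.inD P PUnit) ((rM φ).obj (ModuleCat.of A M))).2.2 hM) j)

end Groth.Agent.S7026
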