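import Groth.Statements.S7030
import Mathlib
import Groth.Prelude.Def_DRing2
import Groth.Prelude.Def_DDual2
import Groth.Agent.Lib.H5DTen
import Groth.Agent.Lib.H5Perf
import Groth.Agent.Lib.H5Amp
import Groth.Agent.Lib.H5WayOut
import Groth.Agent.Lib.CoherentRings
import Groth.Agent.Lib.UnivInjective
import Groth.Agent.Lib.PseudoCoherentRing
import Groth.Agent.Lib.H7StupidGE
import Groth.Agent.S2087
import Groth.Agent.Lib.PseudoCoherentRingMore

set_option autoImplicit false
universe u
open Groth.Agent.PseudoCoherentRingMore
open CategoryTheory Limits Pretriangulated HomologicalComplex Groth.Agent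
open scoped ZeroObject
open Groth.Agent.PseudoCoherentRing
open CategoryTheory CategoryTheory.Limits
attribute [local instance] HasDerivedCategory.standard
open DRing

namespace Groth.Agent.S7030

/-- Let R be a commutative ring such that the derived tensor product - ⊗^L_R M exists on D(R) for every
R-module M, and let K be an object of D(R) whose cohomology vanishes outside a bounded range of
degrees and whose cohomology modules H^i(K) are all perfect R-modules. Then K is a perfect object of
D(R). -/
theorem result (R : Type u) [CommRing R] [∀ M : ModuleCat.{u} R, DRing.HasLTensor R M] (K : Dual.D R)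
    (hb : ∃ a b : ℤ, ∀ i : ℤ, (i < a ∨ b < i) → Subsingleton (Dual.HD R K i))
    (hK : ∀ i : ℤ, DRing.IsPerfectModule R (Dual.HD R K i)) : DRing.IsPerfect R K := by
  obtain ⟨a, b, hab⟩ := hb
  have h1 : DerivedCategory.IsGE K a := (DerivedCategory.isGE_iff _ _).2 fun i hi =>
    have : Subsingleton ((HF R i).obj K) := hab i (Or.inl hi)
    ModuleCat.isZero_of_subsingleton _
  have h2 : DerivedCategory.IsLE K b := (DerivedCategory.isLE_iff _ _).2 fun i hi =>
    have : Subsingleton ((HF R i).obj K) := hab i (Or.inr hi)
    ModuleCat.isZero_of_subsingleton _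
  exact cohom_induction (DRing.IsPerfect R) (fun e => isPerfect_of_iso e) (fun X hX => isPerfect_zero hX)
    (fun T hT => isPerfect₂ T hT) ((b - a).toNat + 1) K a b (by omega) h1 h2 (fun i _ _ => isPerfect_shift (hK i) (-i))

end Groth.Agent.S7030
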