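import Groth.Statements.S7031
import Groth.Agent.Lib.H1RegPerfect
import Mathlib

set_option autoImplicit false
universe u
open CategoryTheory CategoryTheory.Limits
attribute [local instance] HasDerivedCategory.standard
open DRing

namespace Groth.Agent.S7031

/-- Let R be a regular commutative ring (Noetherian, with regular local rings at all primes) such that
the derived tensor product - ⊗^L_R M exists on D(R) for every R-module M, and let K be an object of
D(R). Then K is perfect if and only if H^i(K) = 0 outside a bounded range of degrees and every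
H^i(K) is a finitely generated R-module. -/
theorem result (R : Type u) [CommRing R] [IsNoetherianRing R]
    (hreg : ∀ p : PrimeSpectrum R, IsRegularLocalRing (Localization.AtPrime p.asIdeal)) [∀ M : ModuleCat.{u} R, DRing.HasLTensor R M] (K : Dual.D R) :
    DRing.IsPerfect R K ↔
      (∃ a b : ℤ, ∀ i : ℤ, (i < a ∨ b < i) → Subsingleton (Dual.HD R K i)) ∧ ∀ i : ℤ, Module.Finite R (Dual.HD R K i) := by
  refine ⟨fun h => ⟨Groth.Agent.H1RegPerfect.bounded_H K h, Groth.Agent.H1RegPerfect.finite_H K h⟩, ?_⟩
  rintro ⟨⟨a, b, hab⟩, hfin⟩
  refine Groth.Agent.PseudoCoherentRingMore.cohom_induction (DRing.IsPerfect R)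
    (fun e => Groth.Agent.PseudoCoherentRingMore.isPerfect_of_iso e)
    (fun X hX => Groth.Agent.PseudoCoherentRingMore.isPerfect_zero hX)
    (fun T hT => Groth.Agent.PseudoCoherentRingMore.isPerfect₂ T hT) ((b - a).toNat + 1) K a b (by omega) ?_ ?_ ?_
  · exact (DerivedCategory.isGE_iff K a).2 fun i hi => @ModuleCat.isZero_of_subsingleton R _ _ (hab i (Or.inl hi))
  · exact (DerivedCategory.isLE_iff K b).2 fun i hi => @ModuleCat.isZero_of_subsingleton R _ _ (hab i (Or.inr hi))
  · intro i _ _
    haveI := hfin i
    exact Groth.Agent.PseudoCoherentRingMore.isPerfect_shift (Groth.Agent.H1RegPerfect.isPerfectModule_of_regular hreg _) (-i)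

end Groth.Agent.S7031
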