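import Groth.Statements.S7039
import Mathlib
import Groth.Prelude.Def_Wider
import Groth.Prelude.Def_DRing3
import Groth.Agent.Lib.RegularLocalSerre

set_option autoImplicit false
universe u
open LocCoh

namespace Groth.Agent.S7039
open CategoryTheory Groth.Agent.RegLocal
open scoped TensorProduct
set_option linter.style.haveILetI false

/-- For a finitely generated ideal I of a commutative ring R and any R-module M, the quotient of M by
its submodule of I-power torsion elements has no nonzero element annihilated by I. -/
theorem result {R : Type u} [CommRing R] (I : Ideal R) (hI : I.FG)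
    (M : Type u) [AddCommGroup M] [Module R M] :
    LocCoh.torsionBy I (M ⧸ DRing.torsionSub I M) = ⊥ := by
  rw [eq_bot_iff]
  intro x hx
  obtain ⟨m, rfl⟩ := Submodule.Quotient.mk_surjective _ x
  have hm : ∀ a ∈ I, a • m ∈ DRing.torsionSub I M := fun a ha => by
    have := (Submodule.mem_torsionBySet_iff _ _).1 hx ⟨a, ha⟩
    rwa [← Submodule.Quotient.mk_smul, Submodule.Quotient.mk_eq_zero] at this
  rw [Submodule.mem_bot, Submodule.Quotient.mk_eq_zero]
  have : I ≤ (Submodule.colon (⊥ : Submodule R M) {m}).radical := by
    intro a ha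
    obtain ⟨n, hn⟩ := hm a ha
    refine ⟨n + 1, Submodule.mem_colon_singleton.2 ?_⟩
    rw [pow_succ, mul_smul, Submodule.mem_bot]
    exact hn _ (Ideal.pow_mem_pow ha n)
  obtain ⟨n, hn⟩ := Ideal.exists_pow_le_of_le_radical_of_fg this hI
  exact ⟨n, fun a ha => by simpa using Submodule.mem_colon_singleton.1 (hn ha)⟩

end Groth.Agent.S7039
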