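import Groth.Statements.S7040
import Mathlib
import Groth.Prelude.Def_Wider
import Groth.Prelude.Def_DRing3
import Groth.Agent.Lib.RegularLocalSerre
import Groth.Agent.Lib.H2LDual
import Groth.Agent.Lib.H2LCBaseChange

set_option autoImplicit false
universe u
open CategoryTheory
open LocCoh

namespace Groth.Agent.S7040
open CategoryTheory Groth.Agent.RegLocal Groth.Agent.H2LC
open scoped TensorProduct
set_option linter.style.haveILetI false
set_option backward.isDefEq.respectTransparency.types false

/-- For a finitely generated ideal I of a commutative ring R, the property of being an I-power torsion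
module (every element killed by a power of I) is a Serre class in the category of R-modules: it
holds for 0 and is closed under subobjects, quotients and extensions. -/
theorem result {R : Type u} [CommRing R] (I : Ideal R) (hI : I.FG) :
    ObjectProperty.IsSerreClass (C := ModuleCat.{u} R) (fun M => LocCoh.IsPowerTorsion I M) := by
  refine { exists_zero := ⟨ModuleCat.of R PUnit, ModuleCat.isZero_of_subsingleton _, fun m => ⟨0, fun a _ => Subsingleton.elim _ _⟩⟩, prop_of_mono := ?_, prop_of_epi := ?_, prop_X₂_of_shortExact := ?_ }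
  · intro X Y f hf hY m
    obtain ⟨n, hn⟩ := hY (f.hom m)
    exact ⟨n, fun a ha => (ModuleCat.mono_iff_injective f).1 hf (by rw [map_smul, map_zero]; exact hn a ha)⟩
  · intro X Y f hf hX m
    obtain ⟨x, rfl⟩ := (ModuleCat.epi_iff_surjective f).1 hf m
    obtain ⟨n, hn⟩ := hX x
    exact ⟨n, fun a ha => by rw [← map_smul, hn a ha, map_zero]⟩
  · intro S hS h1 h3 m
    obtain ⟨n, hn⟩ := h3 (S.g.hom m)
    obtain ⟨g, hg⟩ := Submodule.fg_top _ |>.1 ((Module.Finite.iff_fg (N := (I ^ n : Ideal R))).2 (Submodule.FG.pow hI n)).fg_top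
    have hk : ∀ a ∈ I ^ n, ∃ k, ∀ b ∈ I ^ k, b • a • m = 0 := by
      intro a ha
      obtain ⟨x, hx⟩ := (ShortComplex.moduleCat_exact_iff S).1 hS.exact (a • m) (by rw [map_smul]; exact hn a ha)
      obtain ⟨k, hk⟩ := h1 x
      exact ⟨k, fun b hb => by rw [← hx, ← map_smul, hk b hb, map_zero]⟩
    have : I ≤ (Submodule.colon (⊥ : Submodule R S.X₂) {m}).radical := by
      intro a ha
      obtain ⟨k, hk⟩ := hk (a ^ n) (Ideal.pow_mem_pow ha n)
      refine ⟨k + n, Submodule.mem_colon_singleton.2 ?_⟩
      rw [pow_add, mul_smul, Submodule.mem_bot]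
      exact hk _ (Ideal.pow_mem_pow ha k)
    obtain ⟨k, hk⟩ := Ideal.exists_pow_le_of_le_radical_of_fg this hI
    exact ⟨k, fun a ha => by simpa using Submodule.mem_colon_singleton.1 (hk ha)⟩

end Groth.Agent.S7040
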