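import Groth.Statements.S7044
import Groth.Agent.Lib.H5DCApps

set_option autoImplicit false
universe u
attribute [local instance] HasDerivedCategory.standard
open DRing

namespace Groth.Agent.S7044

/-- Let A be a commutative ring and I an ideal of A; if A, regarded as an object of D(A) sitting in
degree 0, is I-adically derived complete, then the pair (A, I) is henselian: I lies in the Jacobson
radical and simple roots modulo I of monic polynomials lift to roots in A. -/
theorem result {A : Type u} [CommRing A] (I : Ideal A)
    (hc : DRing.IsDerivedComplete I (Dual.inD A A)) : HenselianRing A I := by
  exact Groth.Agent.H5DCApps.henselian I ((Groth.Agent.H5DComp.isDerivedComplete_inD_iff I A).1 hc)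

end Groth.Agent.S7044
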