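import Groth.Statements.S7046
import Groth.Agent.Lib.H5DCApps

set_option autoImplicit false
universe u
attribute [local instance] HasDerivedCategory.standard
open DRing

namespace Groth.Agent.S7046

/-- A reduced commutative ring A which, placed in degree 0 of D(A), is derived complete with respect to
a finitely generated ideal I is I-adically complete, i.e. separated and complete for the I-adic
topology. -/
theorem result {A : Type u} [CommRing A] [IsReduced A]
    (I : Ideal A) (hI : I.FG) (hc : DRing.IsDerivedComplete I (Dual.inD A A)) :
    IsAdicComplete I A := by
  exact Groth.Agent.H5DCApps.isAdicComplete_of_reduced I hI ((Groth.Agent.H5DComp.isDerivedComplete_inD_iff I A).1 hc)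

end Groth.Agent.S7046
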