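import Mathlib
import Groth.Statements.S7062
import Groth.Agent.Lib.H4GlueTor
-- import your own Groth.Agent.* helpers here

set_option autoImplicit false
universe u
open EtGlue

namespace Groth.Agent.S7062

/-- For a glueing pair (R → R', f), i.e. R/f^nR → R'/f^nR' is bijective for all n > 0 and the sequence 0
→ R → R' ⊕ R_f → R'_f → 0 is exact, the group Tor_1^R(R', f^n R) vanishes for every n > 0 (Tor
computed by resolving the second argument, the ideal f^n R). -/
theorem result {R R' : Type u} [CommRing R] [CommRing R'] [Algebra R R']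
    (f : R) (h : EtGlue.IsGlueingPair R R' f) (n : ℕ) (hn : 0 < n) :
    Subsingleton (DRing.Tor R 1 R' ↥(Ideal.span ({f ^ n} : Set R))) := by
  let I : Ideal R := Ideal.span ({f ^ n} : Set R)
  let π : R →ₗ[R] I := LinearMap.toSpanSingleton R I ⟨f ^ n, Ideal.mem_span_singleton_self _⟩
  refine H4GlueTor.tor_of_torsion_kernel h π (fun ⟨y, hy⟩ => ?_) (fun x => ⟨n, Subtype.ext ?_⟩)
  · obtain ⟨c, rfl⟩ := Ideal.mem_span_singleton'.1 hy
    exact ⟨c, Subtype.ext rfl⟩
  · have := congrArg Subtype.val (LinearMap.mem_ker.1 x.2)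
    show f ^ n * (x : R) = 0
    rw [mul_comm]
    exact this

end Groth.Agent.S7062
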