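import Groth.Statements.S7107
import Mathlib

set_option autoImplicit false
universe u
open CAlg

namespace Groth.Agent.S7107

/-- Let R be a ring and P, Q modules such that P ⊕ Q is isomorphic to a free module F on an infinite
basis. Then P ⊕ F is isomorphic to F. -/
theorem result (R : Type u) [CommRing R] (P Q : Type u) [AddCommGroup P] [Module R P]
    [AddCommGroup Q] [Module R Q] (ι : Type u) [Infinite ι] (e : (P × Q) ≃ₗ[R] (ι →₀ R)) :
    Nonempty ((P × (ι →₀ R)) ≃ₗ[R] (ι →₀ R)) := by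
  classical
  obtain ⟨σ⟩ : Nonempty (ι ≃ ℕ × ι) := Cardinal.lift_mk_eq'.mp (by
    simp only [Cardinal.mk_prod, Cardinal.lift_mul, Cardinal.lift_uzero, Cardinal.mk_nat, Cardinal.lift_aleph0]
    simp only [Cardinal.lift_id]; exact (Cardinal.aleph0_mul_eq (Cardinal.aleph0_le_mk ι)).symm)
  let eI : (ι →₀ R) ≃ₗ[R] (ℕ →₀ P) × (ℕ →₀ Q) :=
    Finsupp.domLCongr σ ≪≫ₗ Finsupp.curryLinearEquiv R ≪≫ₗ Finsupp.mapRange.linearEquiv e.symm ≪≫ₗ
      LinearEquiv.ofLinearMap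
        ((Finsupp.mapRange.linearMap (LinearMap.fst R P Q)).prod (Finsupp.mapRange.linearMap (LinearMap.snd R P Q)))
        ((Finsupp.mapRange.linearMap (LinearMap.inl R P Q)).coprod (Finsupp.mapRange.linearMap (LinearMap.inr R P Q)))
        (by ext <;> simp) (by ext <;> simp)
  let eP : (P × (ℕ →₀ P)) ≃ₗ[R] (ℕ →₀ P) :=
    ((Finsupp.LinearEquiv.finsuppUnique R P PUnit.{1}).symm.prodCongr (LinearEquiv.refl R _)) ≪≫ₗ
      (Finsupp.sumFinsuppLEquivProdFinsupp R).symm ≪≫ₗ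
      Finsupp.domLCongr ((Equiv.sumComm _ _).trans Equiv.natSumPUnitEquivNat)
  exact ⟨(LinearEquiv.refl R P).prodCongr eI ≪≫ₗ (LinearEquiv.prodAssoc R _ _ _).symm ≪≫ₗ
    eP.prodCongr (LinearEquiv.refl R _) ≪≫ₗ eI.symm⟩

end Groth.Agent.S7107
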