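import Groth.Statements.S7108
import Mathlib
import Groth.Agent.S7107

set_option autoImplicit false
universe u
open CAlg

namespace Groth.Agent.S7108

/-- Every projective module P over a ring R becomes free after adding a suitable free module: P ⊕ F is
free for some free module F (here F is the free module on some index type). -/
theorem result (R : Type u) [CommRing R] (P : Type u) [AddCommGroup P]
    [Module R P] [Module.Projective R P] : ∃ ι : Type u, Module.Free R (P × (ι →₀ R)) := by
  obtain ⟨s, hs⟩ := Module.projective_def'.mp ‹Module.Projective R P›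
  let g : (P →₀ R) →ₗ[R] P := Finsupp.linearCombination R id
  have hgs : ∀ a, g (s a) = a := fun a => DFunLike.congr_fun hs a
  let e1 : (P × LinearMap.ker g) ≃ₗ[R] (P →₀ R) :=
    LinearEquiv.ofLinearMap (s.coprod (Submodule.subtype _))
      (g.prod ((LinearMap.id - s.comp g).codRestrict _ fun x => by simp [hgs]))
      (by ext x; simp) (by
        apply LinearMap.ext; rintro ⟨a, b⟩
        have hb : g b.1 = 0 := b.2
        ext <;> simp [hgs, hb])
  refine ⟨P ⊕ P × ℕ, ?_⟩
  let e : (P × (LinearMap.ker g × (P × ℕ →₀ R))) ≃ₗ[R] (P ⊕ P × ℕ →₀ R) :=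
    (LinearEquiv.prodAssoc R _ _ _).symm ≪≫ₗ (e1.prodCongr (LinearEquiv.refl R _)) ≪≫ₗ
      (Finsupp.sumFinsuppLEquivProdFinsupp R).symm
  obtain ⟨e2⟩ := Groth.Agent.S7107.result R P (LinearMap.ker g × (P × ℕ →₀ R)) (P ⊕ P × ℕ) e
  exact Module.Free.of_equiv e2.symm

end Groth.Agent.S7108
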