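import Groth.Statements.S7109
import Mathlib
import Groth.Agent.Lib.TorsionFreeEmbed
import Groth.Agent.Lib.CAlgSmall1

set_option autoImplicit false
universe u
open TensorProduct Groth.Agent.TorsionFreeEmbed
open Groth.Agent.CAlgSmall1
open CAlg

namespace Groth.Agent.S7109

/-- Let P be a projective module over a ring R and s an element of P. Then there are a finite free
module R^n and a direct summand K of R^n ⊕ P which is finite free and contains (0, s). -/
theorem result (R : Type u) [CommRing R] (P : Type u) [AddCommGroup P]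
    [Module R P] [Module.Projective R P] (s : P) :
    ∃ (n : ℕ) (K K' : Submodule R ((Fin n → R) × P)), IsCompl K K' ∧ Module.Free R K ∧ Module.Finite R K ∧
      ((0, s) : (Fin n → R) × P) ∈ K := by
  classical
  obtain ⟨i, hi⟩ := (Module.projective_def').mp (inferInstance : Module.Projective R P)
  let π : (P →₀ R) →ₗ[R] P := Finsupp.linearCombination R id
  let S := (i s).support
  let e := S.equivFin
  let n := S.card
  let incl : (Fin n → R) →ₗ[R] (P →₀ R) := ∑ j, (Finsupp.lsingle ((e.symm j : P))).comp (LinearMap.proj j)
  let a : (Fin n → R) →ₗ[R] P := π ∘ₗ incl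
  let b : P →ₗ[R] (Fin n → R) := LinearMap.pi fun j => (Finsupp.lapply ((e.symm j : P))).comp i
  have hab : a (b s) = s := by
    have h1 : incl (b s) = i s := by
      simp only [incl, b, LinearMap.coe_sum, Finset.sum_apply, LinearMap.comp_apply, LinearMap.proj_apply,
        LinearMap.pi_apply, Finsupp.lsingle_apply, Finsupp.lapply_apply]
      rw [e.symm.sum_comp (fun x : S => Finsupp.single (x : P) ((i s) (x : P))),
        Finset.sum_coe_sort S (fun x => Finsupp.single x ((i s) x))]
      exact Finsupp.sum_single (i s)
    show π (incl (b s)) = s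
    rw [h1]; exact LinearMap.congr_fun hi s
  let u : (Fin n → R) →ₗ[R] (Fin n → R) × P := (LinearMap.id - b ∘ₗ a).prod a
  let r : (Fin n → R) × P →ₗ[R] (Fin n → R) := LinearMap.id.coprod b
  have hru : ∀ v, r (u v) = v := fun v => by simp [r, u]
  refine ⟨n, LinearMap.range u, LinearMap.ker r, ?_, ?_, inferInstance, ⟨b s, by simp [u, hab]⟩⟩
  · refine IsCompl.of_eq ?_ ?_
    · rw [eq_bot_iff]
      rintro _ ⟨⟨v, rfl⟩, hv⟩
      rw [SetLike.mem_coe, LinearMap.mem_ker, hru] at hv
      simp [hv]
    · rw [eq_top_iff]
      intro x _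
      rw [← add_sub_cancel (u (r x)) x]
      exact Submodule.add_mem_sup ⟨_, rfl⟩ (by simp [hru])
  · exact Module.Free.of_equiv (LinearEquiv.ofInjective u (Function.LeftInverse.injective hru))

end Groth.Agent.S7109
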