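import Groth.Statements.S7110
import Mathlib
import Groth.Agent.Lib.KaplanskyProjective

set_option autoImplicit false
set_option backward.isDefEq.respectTransparency.types false
set_option maxHeartbeats 1000000
set_option linter.all false
universe u
open CAlg

namespace Groth.Agent.S7110
open Groth.Agent

/-- Let R be a ring whose quotient by its Jacobson radical is Noetherian, P a projective R-module such
that for every maximal ideal m the localization P_m is not finitely generated over R_m (P has
infinite rank everywhere), s an element of P and M a submodule with Rs + M = P. Then for some m in M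
the element s + m spans a free direct summand of P of rank one: there is a linear form φ on P with
φ(s + m) = 1. (Rank one is meant: the zero submodule does not count.) -/
theorem result (R : Type u) [CommRing R]
    [IsNoetherianRing (R ⧸ (⊥ : Ideal R).jacobson)]
    (P : Type u) [AddCommGroup P] [Module R P] [Module.Projective R P]
    (hP : ∀ (m : Ideal R) [m.IsMaximal],
      ¬ Module.Finite (Localization.AtPrime m) (LocalizedModule m.primeCompl P))
    (s : P) (M : Submodule R P) (hM : Submodule.span R {s} ⊔ M = ⊤) :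
    ∃ m ∈ M, ∃ φ : P →ₗ[R] R, φ (s + m) = 1 := by
    classical
    let J : Ideal R := (⊥ : Ideal R).jacobson
    let O : P → Ideal R := fun p => LinearMap.range (LinearMap.applyₗ p : (P →ₗ[R] R) →ₗ[R] R)
    let T : Set (Ideal (R ⧸ J)) := {I | ∃ m ∈ M, I = (O (s + m)).map (Ideal.Quotient.mk J)}
    obtain ⟨I, ⟨m, hm, rfl⟩, hmax⟩ := (wellFounded_gt (α := Ideal (R ⧸ J))).has_min T ⟨_, 0, M.zero_mem, rfl⟩
    refine ⟨m, hm, ?_⟩
    by_contra hno
    have hne : O (s + m) ⊔ J ≠ ⊤ := by
      intro htop
      obtain ⟨a, ha, j, hj, haj⟩ := Submodule.mem_sup.1 ((Ideal.eq_top_iff_one _).1 htop)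
      obtain ⟨φ, hφ⟩ := ha
      have hu : IsUnit a := by
        by_contra hu
        obtain ⟨n, hn, han⟩ := exists_max_ideal_of_mem_nonunits hu
        haveI := hn
        have hjn : j ∈ n := (Submodule.mem_sInf.1 hj) n ⟨bot_le, hn⟩
        exact hn.ne_top ((Ideal.eq_top_iff_one _).2 (haj ▸ n.add_mem han hjn))
      obtain ⟨v, rfl⟩ := hu
      refine hno ⟨(↑v⁻¹ : R) • φ, ?_⟩
      rw [LinearMap.smul_apply, smul_eq_mul, show φ (s + m) = (v : R) from hφ, Units.inv_mul]
    obtain ⟨n, hn, hle⟩ := Ideal.exists_le_maximal _ hne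
    haveI := hn
    obtain ⟨G, hG⟩ := (IsNoetherian.noetherian ((O (s + m)).map (Ideal.Quotient.mk J)) :)
    have hGex : ∀ g : G, ∃ φ : P →ₗ[R] R, Ideal.Quotient.mk J (φ (s + m)) = g := by
      intro g
      have h1 : (g : R ⧸ J) ∈ (O (s + m)).map (Ideal.Quotient.mk J) := hG ▸ Ideal.subset_span g.2
      obtain ⟨y, ⟨φ, rfl⟩, hy⟩ := (Ideal.mem_map_iff_of_surjective _ Ideal.Quotient.mk_surjective).1 h1
      exact ⟨φ, hy⟩
    choose φ hφ using hGex
    let Φ : M →ₗ[R] (G → R ⧸ J) := LinearMap.pi fun g => (Submodule.mkQ J).comp ((φ g).comp M.subtype)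
    haveI : IsNoetherian R (R ⧸ J) := ⟨fun N => by
      obtain ⟨G', hG'⟩ := IsNoetherian.noetherian (Submodule.span (R ⧸ J) (N : Set (R ⧸ J)))
      refine ⟨G', ?_⟩
      rw [← Submodule.restrictScalars_span R (R ⧸ J) Ideal.Quotient.mk_surjective, hG',
        Submodule.restrictScalars_span R (R ⧸ J) Ideal.Quotient.mk_surjective, Submodule.span_eq]⟩
    obtain ⟨X, hX⟩ := (IsNoetherian.noetherian (LinearMap.range Φ) :)
    have hXex : ∀ x : X, ∃ z, Φ z = x := fun x => by
      have : (x : G → R ⧸ J) ∈ LinearMap.range Φ := hX ▸ Submodule.subset_span x.2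
      exact this
    choose z hz using hXex
    have hq : ∃ q, ∃ hq : q ∈ M, Φ ⟨q, hq⟩ = 0 ∧ ∃ ψ : P →ₗ[R] R, ψ q ∉ n := by
      by_contra hall
      push Not at hall
      let Y : Finset P := insert s (Finset.univ.image fun x => (z x : P))
      have hker : ∀ q, ∀ hq : q ∈ M, Φ ⟨q, hq⟩ = 0 → q ∈ (n • ⊤ : Submodule R P) := by
        intro q hq h0
        obtain ⟨σ, hσ⟩ := Module.Projective.out (R := R) (P := P)
        rw [← hσ q, Finsupp.linearCombination_apply]
        refine Submodule.sum_mem _ fun v _ => Submodule.smul_mem_smul ?_ Submodule.mem_top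
        exact hall q hq h0 ((Finsupp.lapply v).comp σ)
      have hspan : (⊤ : Submodule R P) ≤ Submodule.span R (Y : Set P) ⊔ n • ⊤ := by
        refine le_trans hM.ge (sup_le (le_sup_of_le_left (Submodule.span_mono (by simp [Y]))) fun q hq => ?_)
        have h1 : Φ ⟨q, hq⟩ ∈ Submodule.span R (Set.range fun x => Φ (z x)) := by
          simp only [hz]
          rw [Subtype.range_coe_subtype]
          exact hX.symm ▸ LinearMap.mem_range_self Φ _
        rw [Set.range_comp' Φ z, ← Submodule.map_span] at h1
        obtain ⟨w, hw, hw2⟩ := h1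
        have h2 : (w : P) ∈ Submodule.span R (Y : Set P) := by
          have h3 := Submodule.mem_map_of_mem (f := M.subtype) hw
          rw [Submodule.map_span, ← Set.range_comp] at h3
          refine Submodule.span_mono ?_ h3
          rintro _ ⟨x, rfl⟩
          simp [Y]
        have h4 := hker (q - w) (M.sub_mem hq w.2) (by
          rw [show (⟨q - w, M.sub_mem hq w.2⟩ : M) = ⟨q, hq⟩ - w from rfl, map_sub, hw2, sub_self])
        rw [← add_sub_cancel (w : P) q]
        exact Submodule.add_mem_sup h2 h4
      let A := Localization.AtPrime n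
      let L := LocalizedModule n.primeCompl P
      let mkL : P →ₗ[R] L := LocalizedModule.mkLinearMap n.primeCompl P
      haveI : Module.Projective A L := Module.projective_of_isLocalizedModule n.primeCompl mkL
      haveI : Module.Free A L := Kap.free_of_projective L
      let b := Module.Free.chooseBasis A L
      obtain ⟨i, hi⟩ : ∃ i, ∀ y ∈ Y, b.repr (mkL y) i = 0 := by
        by_contra hfin
        push Not at hfin
        refine hP n ?_
        haveI : Finite (Module.Free.ChooseBasisIndex A L) := by
          refine @Finite.of_fintype _ ⟨Y.biUnion fun y => (b.repr (mkL y)).support, fun i => ?_⟩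
          obtain ⟨y, hy, hyi⟩ := hfin i
          exact Finset.mem_biUnion.2 ⟨y, hy, Finsupp.mem_support_iff.2 hyi⟩
        exact Module.Finite.of_basis b
      let K : Submodule R P := Submodule.comap
        (((b.coord i).restrictScalars R).comp mkL) ((IsLocalRing.maximalIdeal A).restrictScalars R)
      have hK : ∀ v, v ∈ K ↔ b.repr (mkL v) i ∈ IsLocalRing.maximalIdeal A := fun v => Iff.rfl
      have hYK : Submodule.span R (Y : Set P) ≤ K := Submodule.span_le.2 fun y hy => by
        rw [SetLike.mem_coe, hK, hi y hy]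
        exact Ideal.zero_mem _
      have hnK : n • (⊤ : Submodule R P) ≤ K := Submodule.smul_le.2 fun r hr v _ => by
        rw [hK, map_smul, ← algebraMap_smul A r (mkL v), map_smul, Finsupp.smul_apply, smul_eq_mul]
        exact Ideal.mul_mem_right _ _ ((IsLocalization.AtPrime.to_map_mem_maximal_iff A n r).2 hr)
      obtain ⟨⟨v, u⟩, hvu⟩ := IsLocalizedModule.surj n.primeCompl mkL (b i)
      have hv : v ∈ K := sup_le hYK hnK (hspan Submodule.mem_top)
      rw [hK, ← hvu, Submonoid.smul_def, ← algebraMap_smul A (u : R) (b i), map_smul, b.repr_self,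
        Finsupp.smul_apply, Finsupp.single_eq_same, smul_eq_mul, mul_one,
        IsLocalization.AtPrime.to_map_mem_maximal_iff A n] at hv
      exact u.2 hv
    obtain ⟨q, hqM, hq0, ψ, hψ⟩ := hq
    refine hmax _ ⟨m + q, M.add_mem hm hqM, rfl⟩ (lt_of_le_of_ne ?_ ?_)
    · rw [← hG]
      refine Ideal.span_le.2 fun g hg => ?_
      refine (Ideal.mem_map_iff_of_surjective _ Ideal.Quotient.mk_surjective).2
        ⟨φ ⟨g, hg⟩ (s + (m + q)), ⟨φ ⟨g, hg⟩, rfl⟩, ?_⟩
      have h0 : Ideal.Quotient.mk J (φ ⟨g, hg⟩ q) = 0 := congrFun hq0 ⟨g, hg⟩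
      rw [← add_assoc, map_add, map_add, h0, add_zero, hφ]
    · intro heq
      have h1 : Ideal.Quotient.mk J (ψ (s + (m + q))) ∈ (O (s + m)).map (Ideal.Quotient.mk J) :=
        heq ▸ Ideal.mem_map_of_mem _ ⟨ψ, rfl⟩
      have h2 : ψ (s + (m + q)) ∈ O (s + m) ⊔ J := by
        rwa [← Ideal.mem_comap, Ideal.comap_map_of_surjective _ Ideal.Quotient.mk_surjective,
          ← RingHom.ker_eq_comap_bot, Ideal.mk_ker] at h1
      refine hψ ?_
      have h3 := hle h2
      rw [← add_assoc, map_add] at h3
      exact (Ideal.add_mem_iff_right _ (hle (Submodule.mem_sup_left ⟨ψ, rfl⟩))).1 h3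

end Groth.Agent.S7110
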