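import Groth.Statements.S7113
import Mathlib
import Groth.Agent.Lib.H6.SerreProp

set_option autoImplicit false
set_option backward.isDefEq.respectTransparency.types false
set_option maxHeartbeats 1000000
set_option linter.all false
universe u
open CAlg

namespace Groth.Agent.S7113
open Groth.Agent

/-- Let R be a ring whose set of maximal ideals, with the Zariski topology, is a Noetherian topological
space of Krull dimension at most d, and let M be an R-module of finite presentation whose
localization M_m at each maximal ideal m contains a free direct summand of rank d + 1. Then M is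
isomorphic to R ⊕ M' for some M': there are s in M and a linear form φ on M with φ(s) = 1. (The
published statement takes the dimension equal to d; a space of smaller dimension satisfies the
hypothesis for a smaller d, so the bound form is equivalent.) -/
theorem result (R : Type u) [CommRing R] (d : ℕ)
    [TopologicalSpace.NoetherianSpace (MaximalSpectrum R)]
    (hdim : topologicalKrullDim (MaximalSpectrum R) ≤ d)
    (M : Type u) [AddCommGroup M] [Module R M] [Module.FinitePresentation R M]
    (hM : ∀ (m : Ideal R) [m.IsMaximal],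
      ∃ (f : (Fin (d + 1) → Localization.AtPrime m) →ₗ[Localization.AtPrime m] LocalizedModule m.primeCompl M)
        (g : LocalizedModule m.primeCompl M →ₗ[Localization.AtPrime m] (Fin (d + 1) → Localization.AtPrime m)),
        g ∘ₗ f = LinearMap.id) :
    ∃ (s : M) (φ : M →ₗ[R] R), φ s = 1 := by
  classical
  have hdimV : ∀ x : MaximalSpectrum R, 0 + (d + 1) ≤ Module.finrank (R ⧸ x.asIdeal)
      ((M ⧸ (x.asIdeal • ⊤ : Submodule R M)) ⧸ H6SerreProp.Bq R M x) := by
    intro x
    letI := Ideal.Quotient.field x.asIdeal
    haveI := x.isMaximal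
    obtain ⟨f, g, hgf⟩ := hM x.asIdeal
    choose ms hms using fun b : Fin (d + 1) =>
      IsLocalizedModule.surj x.asIdeal.primeCompl (LocalizedModule.mkLinearMap x.asIdeal.primeCompl M) (f (Pi.single b 1))
    let gA : Fin (d + 1) → M →ₗ[R] Localization.AtPrime x.asIdeal := fun a =>
      ((LinearMap.proj a : (Fin (d + 1) → Localization.AtPrime x.asIdeal) →ₗ[Localization.AtPrime x.asIdeal] Localization.AtPrime x.asIdeal).comp g).restrictScalars R
        ∘ₗ LocalizedModule.mkLinearMap x.asIdeal.primeCompl M
    choose φ sφ hφ using fun a => Module.FinitePresentation.exists_lift_of_isLocalizedModule x.asIdeal.primeCompl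
      (Algebra.linearMap R (Localization.AtPrime x.asIdeal)) (gA a)
    have hval : ∀ a b, algebraMap R (Localization.AtPrime x.asIdeal) (φ a (ms b).1) =
        algebraMap R (Localization.AtPrime x.asIdeal) ((sφ a : R) * ((ms b).2 : R) * if a = b then 1 else 0) := by
      intro a b
      have h := LinearMap.congr_fun (hφ a) (ms b).1
      rw [LinearMap.comp_apply, Algebra.linearMap_apply, LinearMap.smul_apply, Submonoid.smul_def, Algebra.smul_def] at h
      rw [h, map_mul, map_mul, mul_assoc]
      congr 1
      show g (LocalizedModule.mkLinearMap x.asIdeal.primeCompl M (ms b).1) a = _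
      rw [← hms b, Submonoid.smul_def, LinearMap.map_smul_of_tower g, ← LinearMap.comp_apply, hgf, LinearMap.id_apply, Pi.smul_apply, Algebra.smul_def]
      congr 1
      rw [Pi.single_apply]
      split_ifs <;> simp
    have hli : LinearIndependent (R ⧸ x.asIdeal) (fun b => H6SerreProp.img R M x (ms b).1) := by
      rw [H6SerreProp.indep_iff]
      refine ⟨φ, fun hdet => ?_⟩
      have h1 : algebraMap R (Localization.AtPrime x.asIdeal) (Matrix.of fun a b => φ a (ms b).1).det =
          algebraMap R (Localization.AtPrime x.asIdeal) (∏ a, ((sφ a : R) * ((ms a).2 : R))) := by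
        have : (Matrix.of fun a b => φ a (ms b).1).map (algebraMap R (Localization.AtPrime x.asIdeal)) =
            (Matrix.diagonal fun a => (sφ a : R) * ((ms a).2 : R)).map (algebraMap R (Localization.AtPrime x.asIdeal)) := by
          ext a b
          rw [Matrix.map_apply, Matrix.map_apply, Matrix.of_apply, hval, Matrix.diagonal_apply]
          by_cases hab : a = b
          · subst hab; simp
          · simp [hab]
        rw [RingHom.map_det, RingHom.mapMatrix_apply, this, ← RingHom.mapMatrix_apply, ← RingHom.map_det, Matrix.det_diagonal]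
      obtain ⟨c, hc⟩ := (IsLocalization.eq_iff_exists x.asIdeal.primeCompl _).1 h1
      have hprod : (∏ a, ((sφ a : R) * ((ms a).2 : R))) ∈ x.asIdeal.primeCompl :=
        Submonoid.prod_mem _ fun a _ => mul_mem (sφ a).2 (ms a).2.2
      exact (mul_mem c.2 hprod) (hc ▸ Ideal.mul_mem_left _ _ hdet)
    rw [zero_add]
    simpa using hli.fintype_card_le_finrank
  obtain ⟨t, F', hF'c, -, hdep, hco⟩ := H6SerreProp.prop (M := M) (d + 1) 0 Fin.elim0 ∅ isClosed_empty 0 Fin.elim0
    (fun i => i.elim0) (fun i => i.elim0) Fin.elim0 hdimV
    (fun x hx => absurd (linearIndependent_empty_type) hx)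
  have hF' : F' = ∅ := by
    by_contra hne
    obtain ⟨S, hS, hS'⟩ := H6SerreProp.exists_components (R := R) F' hF'c
    obtain ⟨x, hx⟩ := Set.nonempty_iff_ne_empty.2 hne
    obtain ⟨W, hW, -⟩ := hS' x hx
    have h1 := hco W (hS W hW)
    have h2 := (Order.coheight_le_krullDim W).trans hdim
    have h3 : Order.coheight W ≤ (d : ℕ∞) := by exact_mod_cast h2
    have h4 : ((d + 1 : ℕ) : ℕ∞) ≤ (d : ℕ∞) := h1.trans h3
    have h5 : d + 1 ≤ d := by exact_mod_cast h4
    omega
  have hrange : LinearMap.range (Module.Dual.eval R M t) = ⊤ := by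
    by_contra hne
    obtain ⟨m, hm, hle⟩ := Ideal.exists_le_maximal _ hne
    let x : MaximalSpectrum R := ⟨m, hm⟩
    letI := Ideal.Quotient.field x.asIdeal
    have h0 : H6SerreProp.img R M x t = 0 := (H6SerreProp.img_eq_zero_iff x t).2 fun φ => hle ⟨φ, rfl⟩
    rcases hdep x (fun hli => hli.ne_zero (Fin.last 0) (by rw [Fin.snoc_last]; exact h0)) with hh | hh
    · exact hh
    · rw [hF'] at hh; exact hh
  obtain ⟨φ, hφ⟩ : (1 : R) ∈ LinearMap.range (Module.Dual.eval R M t) := hrange ▸ Submodule.mem_top
  exact ⟨t, φ, hφ⟩

end Groth.Agent.S7113
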