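import Groth.Statements.S7114
import Groth.Agent.Lib.H2LengthGrowth
import Mathlib

set_option autoImplicit false
universe u
open CAlg

namespace Groth.Agent.S7114

/-- Let R be a Noetherian local ring of Krull dimension one and x an element of the maximal ideal lying
in no minimal prime of R. Then for every n the length of R/xⁿR is at most n times the length of
R/xR, and equality holds when x is a nonzerodivisor. -/
theorem result (R : Type u) [CommRing R] [IsNoetherianRing R] [IsLocalRing R]
    (hdim : ringKrullDim R = 1) (x : R) (hx : x ∈ IsLocalRing.maximalIdeal R)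
    (hmin : ∀ p ∈ minimalPrimes R, x ∉ p) (n : ℕ) :
    Module.length R (R ⧸ Ideal.span {x ^ n}) ≤ (n : ℕ∞) * Module.length R (R ⧸ Ideal.span {x}) ∧
      (x ∈ nonZeroDivisors R →
        Module.length R (R ⧸ Ideal.span {x ^ n}) = (n : ℕ∞) * Module.length R (R ⧸ Ideal.span {x})) := by
  refine ⟨?_, fun hnz => ?_⟩
  · have h := Groth.Agent.H2LengthGrowth.length_pow_le (⊥ : Ideal R) x n
    simpa [Groth.Agent.H2LengthGrowth.qlen_eq] using h
  · induction n with
    | zero =>
      haveI : Subsingleton (R ⧸ Ideal.span ({x ^ 0} : Set R)) :=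
        Ideal.Quotient.subsingleton_iff.mpr (by rw [pow_zero, Ideal.span_singleton_one])
      rw [Nat.cast_zero, zero_mul, Module.length_eq_zero]
    | succ n ih =>
      have h1 := Groth.Agent.H2LengthGrowth.length_quot_eq_add (Ideal.span ({x ^ (n + 1)} : Set R)) x
      simp only [Groth.Agent.H2LengthGrowth.qlen_eq] at h1
      have e1 : Groth.Agent.H2LengthGrowth.colonElem (Ideal.span ({x ^ (n + 1)} : Set R)) x = Ideal.span {x ^ n} := by
        ext z
        rw [Groth.Agent.H2LengthGrowth.mem_colonElem, Ideal.mem_span_singleton, Ideal.mem_span_singleton, pow_succ']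
        exact ⟨fun ⟨w, hw⟩ => ⟨w, (mul_cancel_left_mem_nonZeroDivisors hnz).mp (by rw [hw, mul_assoc])⟩, mul_dvd_mul_left x⟩
      have e2 : Ideal.span ({x ^ (n + 1)} : Set R) ⊔ Ideal.span {x} = Ideal.span {x} :=
        sup_eq_right.mpr (Ideal.span_singleton_le_span_singleton.mpr (dvd_pow_self x n.succ_ne_zero))
      rw [h1, e1, e2, ih, Nat.cast_succ, add_mul, one_mul]

end Groth.Agent.S7114
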