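import Groth.Statements.S7120
import Mathlib
import Groth.Agent.Lib.TorsionFreeEmbed

set_option autoImplicit false
universe u
open TensorProduct
open Groth.Agent.TorsionFreeEmbed
open CAlg

namespace Groth.Agent.S7120

/-- Over a Bézout domain, a finitely generated submodule of a free module is itself free of finite rank. -/
theorem result (R : Type u) [CommRing R] [IsDomain R] [IsBezout R]
    (F : Type u) [AddCommGroup F] [Module R F] [Module.Free R F] (N : Submodule R F) (hN : N.FG) :
    Module.Free R N ∧ Module.Finite R N := by
  haveI : Module.Finite R N := Module.Finite.iff_fg.mpr hN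
  haveI : Module.IsTorsionFree R N := inferInstance
  obtain ⟨n, f, hf⟩ := torsionFree_embed (R := R) (M := N)
  obtain ⟨h, -⟩ := free_sub n (LinearMap.range f) (Module.Finite.iff_fg.mp (Module.Finite.range f))
  exact ⟨Module.Free.of_equiv (LinearEquiv.ofInjective f hf).symm, inferInstance⟩

end Groth.Agent.S7120
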