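import Groth.Statements.S7121
import Mathlib
import Groth.Agent.Lib.TorsionFreeEmbed
import Groth.Agent.Lib.BezoutTorsion

set_option autoImplicit false
universe u
open Groth.Agent.BezoutTorsion
open CAlg

namespace Groth.Agent.S7121

/-- Over a Bézout domain R, a finitely presented module M splits as R^r ⊕ M_tors for some r, and its
torsion part M_tors is a retract (direct summand) of R/f_1R ⊕ … ⊕ R/f_nR for some nonzero f_1, …,
f_n. -/
theorem result (R : Type u) [CommRing R] [IsDomain R] [IsBezout R]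
    (M : Type u) [AddCommGroup M] [Module R M] [Module.FinitePresentation R M] :
    (∃ r : ℕ, Nonempty (M ≃ₗ[R] ((Fin r → R) × Submodule.torsion R M))) ∧
      ∃ (n : ℕ) (f : Fin n → R), (∀ j, f j ≠ 0) ∧
        ∃ (i : Submodule.torsion R M →ₗ[R] ((j : Fin n) → R ⧸ Ideal.span {f j}))
          (p : ((j : Fin n) → R ⧸ Ideal.span {f j}) →ₗ[R] Submodule.torsion R M),
          p ∘ₗ i = LinearMap.id := by
  classical
  let T := Submodule.torsion R M
  haveI : Module.IsTorsionFree R (M ⧸ T) := Submodule.QuotientTorsion.instIsTorsionFree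
  obtain ⟨n, emb, hemb⟩ := Groth.Agent.TorsionFreeEmbed.torsionFree_embed (R := R) (M := M ⧸ T)
  obtain ⟨hfree, hfin⟩ := Groth.Agent.TorsionFreeEmbed.free_sub n (LinearMap.range emb)
    (Module.Finite.iff_fg.mp inferInstance)
  haveI : Module.Free R (M ⧸ T) := Module.Free.of_equiv (LinearEquiv.ofInjective emb hemb).symm
  obtain ⟨σ, hσ⟩ := Module.projective_lifting_property T.mkQ LinearMap.id T.mkQ_surjective
  have hexact : Function.Exact T.subtype T.mkQ := LinearMap.exact_subtype_mkQ T
  obtain ⟨e, -⟩ := hexact.splitSurjectiveEquiv T.subtype_injective ⟨σ, hσ⟩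
  haveI : Module.FinitePresentation R T := by
    let π : M →ₗ[R] T := LinearMap.fst R T (M ⧸ T) ∘ₗ e.toLinearMap
    refine Module.finitePresentation_of_surjective π (Prod.fst_surjective.comp e.surjective) ?_
    rw [show LinearMap.ker π = LinearMap.range (e.symm.toLinearMap ∘ₗ LinearMap.inr R T (M ⧸ T)) from ?_]
    · exact Module.Finite.iff_fg.mp inferInstance
    · ext x
      constructor
      · intro hx
        refine ⟨(e x).2, ?_⟩
        rw [LinearMap.comp_apply, LinearEquiv.coe_coe, LinearEquiv.symm_apply_eq]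
        exact Prod.ext (LinearMap.mem_ker.mp hx).symm rfl
      · rintro ⟨z, rfl⟩
        simp [π]
  constructor
  · exact ⟨_, ⟨e ≪≫ₗ LinearEquiv.prodComm R T (M ⧸ T) ≪≫ₗ
      LinearEquiv.prodCongr (Module.finBasis R (M ⧸ T)).equivFun (LinearEquiv.refl R T)⟩⟩
  · have htor : ∀ x : T, ∃ c : R, c ≠ 0 ∧ c • x = 0 := fun x => by
      obtain ⟨c, hc⟩ := x.2
      exact ⟨c, nonZeroDivisors.coe_ne_zero c, Subtype.ext hc⟩
    choose n c i p s hc hs hps using fun m : MaximalSpectrum R =>
      (haveI := m.isMaximal; local_retract T htor m.asIdeal)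
    have htop : Ideal.span (Set.range s) = ⊤ := by
      by_contra h
      obtain ⟨m, hm, hle⟩ := Ideal.exists_le_maximal _ h
      exact hs ⟨m, hm⟩ (hle (Ideal.subset_span ⟨⟨m, hm⟩, rfl⟩))
    obtain ⟨l, hl⟩ := (Finsupp.mem_span_range_iff_exists_finsupp).mp ((Ideal.eq_top_iff_one _).mp htop)
    let σ' := Σ m : l.support, Fin (n m.1)
    let eσ := Fintype.equivFin σ'
    let f : Fin (Fintype.card σ') → R := fun k => c (eσ.symm k).1.1 (eσ.symm k).2
    let W := ((j : Fin (Fintype.card σ')) → R ⧸ Ideal.span {f j})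
    let split : W ≃ₗ[R] ((m : l.support) → (j : Fin (n m.1)) → R ⧸ Ideal.span {c m.1 j}) :=
      (LinearEquiv.piCongrLeft' R (fun z : σ' => R ⧸ Ideal.span {c z.1.1 z.2}) eσ).symm ≪≫ₗ
        LinearEquiv.piCurry R (fun (m : l.support) (j : Fin (n m.1)) => R ⧸ Ideal.span {c m.1 j})
    refine ⟨_, f, fun k => hc _ _, split.symm.toLinearMap ∘ₗ LinearMap.pi (fun m : l.support => l m.1 • i m.1),
      (∑ m : l.support, p m.1 ∘ₗ LinearMap.proj m) ∘ₗ split.toLinearMap, ?_⟩
    ext t
    simp only [LinearMap.comp_apply, LinearEquiv.coe_coe, LinearEquiv.apply_symm_apply, LinearMap.sum_apply,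
      LinearMap.proj_apply, LinearMap.pi_apply, LinearMap.smul_apply, map_smul, LinearMap.id_apply]
    have h1 : ∀ m : l.support, p m.1 (i m.1 t) = s m.1 • t := fun m => LinearMap.congr_fun (hps m.1) t
    simp only [h1, smul_smul, ← Finset.sum_smul]
    rw [Finset.sum_coe_sort l.support (fun m => l m * s m)]
    rw [show (∑ m ∈ l.support, l m * s m) = 1 from hl, one_smul]

end Groth.Agent.S7121
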