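import Groth.Statements.S7122
import Mathlib
import Groth.Agent.Lib.TorsionFreeEmbed
import Groth.Agent.Lib.CAlgSmall1

set_option autoImplicit false
universe u
open TensorProduct Groth.Agent.TorsionFreeEmbed
open Groth.Agent.CAlgSmall1
open CAlg

namespace Groth.Agent.S7122

/-- Let R be a Bézout domain, n ≥ 1, and f_1, ..., f_n elements generating the unit ideal. Then some
invertible n × n matrix over R has (f_1, ..., f_n) as its first row. -/
theorem result (R : Type u) [CommRing R] [IsDomain R] [IsBezout R]
    (n : ℕ) (f : Fin (n + 1) → R) (hf : Ideal.span (Set.range f) = ⊤) :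
    ∃ A : Matrix (Fin (n + 1)) (Fin (n + 1)) R, IsUnit A.det ∧ A 0 = f := by
  classical
  obtain ⟨g, hg⟩ := (Submodule.mem_span_range_iff_exists_fun R).mp ((Ideal.eq_top_iff_one _).mp hf)
  let φ : (Fin (n + 1) → R) →ₗ[R] R := ∑ i, g i • LinearMap.proj i
  have hφ : φ f = 1 := by simpa [φ] using hg
  let q : (Fin (n + 1) → R) →ₗ[R] (Fin (n + 1) → R) := LinearMap.id - φ.smulRight f
  have hqker : LinearMap.range q = LinearMap.ker φ := by
    apply le_antisymm
    · rintro _ ⟨x, rfl⟩; simp [q, hφ]
    · intro x hx; exact ⟨x, by simp [q, LinearMap.mem_ker.mp hx]⟩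
  obtain ⟨hfree, hfin⟩ := free_sub (n + 1) (LinearMap.ker φ) (hqker ▸ Module.Finite.iff_fg.mp inferInstance)
  let k := Module.finBasis R (LinearMap.ker φ)
  let E : (R × LinearMap.ker φ) ≃ₗ[R] (Fin (n + 1) → R) :=
    { toFun := fun z => z.1 • f + z.2
      invFun := fun x => (φ x, ⟨q x, hqker ▸ ⟨x, rfl⟩⟩)
      map_add' := fun z w => by simp only [Prod.fst_add, Prod.snd_add, Submodule.coe_add, add_smul]; abel
      map_smul' := fun c z => by simp [smul_add, mul_smul]
      left_inv := fun z => by
        have h1 : φ (z.1 • f + z.2) = z.1 := by simp [hφ, LinearMap.mem_ker.mp z.2.2]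
        refine Prod.ext h1 (Subtype.ext ?_)
        simp [q, h1]
      right_inv := fun x => by simp [q] }
  have hrank : Module.finrank R (LinearMap.ker φ) = n := by
    have h1 := E.finrank_eq
    rw [Module.finrank_prod, Module.finrank_self, Module.finrank_fin_fun] at h1
    omega
  let bk := k.reindex (finCongr hrank)
  let B : Module.Basis (Fin (n + 1)) R (Fin (n + 1) → R) :=
    (((Module.Basis.singleton Unit R).prod bk).map E).reindex ((Equiv.sumComm _ _).trans
      ((Equiv.optionEquivSumPUnit (Fin n)).symm.trans (finSuccEquiv n).symm))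
  refine ⟨Matrix.of B, ?_, ?_⟩
  · have h2 := (Pi.basisFun R (Fin (n + 1))).isUnit_det B
    rw [Module.Basis.det_apply, ← Matrix.det_transpose] at h2
    convert h2 using 2
    ext i j
    simp [Module.Basis.toMatrix, Matrix.transpose_apply]
  · show B 0 = f
    simp [B, E, Module.Basis.prod_apply]

end Groth.Agent.S7122
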