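import Groth.Statements.S7124
import Mathlib

set_option autoImplicit false
set_option backward.isDefEq.respectTransparency.types false
set_option maxHeartbeats 1000000
set_option linter.all false
universe u
open CAlg

namespace Groth.Agent.S7124
open Groth.Agent

/-- Let A ⊆ B be an extension of valuation rings (both valuation domains, the inclusion injective and
local) with fraction fields K ⊆ L such that L/K is finite. Then the residue field of B is finite
over that of A, the value group of A has finite index in the value group of B, and (index of value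
groups) · (residue degree) ≤ [L : K]. Here the value group of B is written as Lˣ modulo the units of
B, and that of A as the image of Kˣ in it. -/
theorem result (A B K L : Type u) [CommRing A] [IsDomain A]
    [ValuationRing A] [CommRing B] [IsDomain B] [ValuationRing B] [Field K] [Field L]
    [Algebra A K] [IsFractionRing A K] [Algebra B L] [IsFractionRing B L] [Algebra A B] [Algebra K L]
    [Algebra A L] [IsScalarTower A K L] [IsScalarTower A B L] (hinj : Function.Injective (algebraMap A B))
    [IsLocalHom (algebraMap A B)] [FiniteDimensional K L] :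
    let UB : Subgroup Lˣ := (Units.map (algebraMap B L).toMonoidHom).range
    let ΓA : Subgroup (Lˣ ⧸ UB) := ((QuotientGroup.mk' UB).comp (Units.map (algebraMap K L).toMonoidHom)).range
    Module.Finite (IsLocalRing.ResidueField A) (IsLocalRing.ResidueField B) ∧ ΓA.index ≠ 0 ∧
      ΓA.index * Module.finrank (IsLocalRing.ResidueField A) (IsLocalRing.ResidueField B) ≤
        Module.finrank K L := by
    classical
    intro UB ΓA
    haveI hΓ : ΓA.Normal := ⟨fun n hn g => by
      rw [mul_comm g n, mul_inv_cancel_right]
      exact hn⟩
    let v : Valuation L (ValuationRing.ValueGroup B L) := ValuationRing.valuation B L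
    have hBinj : Function.Injective (algebraMap B L) := IsFractionRing.injective B L
    have hAinj : Function.Injective (algebraMap A K) := IsFractionRing.injective A K
    have hle : ∀ x, v x ≤ 1 ↔ ∃ b : B, algebraMap B L b = x := fun x => ValuationRing.mem_integer_iff B L x
    have hunit : ∀ b : B, IsUnit b → v (algebraMap B L b) = 1 := by
      rintro b ⟨u, rfl⟩
      refine le_antisymm ((hle _).2 ⟨u, rfl⟩) ?_
      have h1 : v (algebraMap B L u) * v (algebraMap B L ↑u⁻¹) = 1 := by
        rw [← map_mul, ← map_mul, u.mul_inv, map_one, map_one]
      calc (1 : ValuationRing.ValueGroup B L) = v (algebraMap B L u) * v (algebraMap B L ↑u⁻¹) := h1.symm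
        _ ≤ v (algebraMap B L u) * 1 := by
          gcongr; exact (hle _).2 ⟨_, rfl⟩
        _ = _ := mul_one _
    have hone : ∀ x : Lˣ, v (x : L) = 1 → x ∈ UB := by
      intro x hx
      obtain ⟨b, hb⟩ := (hle x).1 hx.le
      obtain ⟨c, hc⟩ := (hle ((x⁻¹ : Lˣ) : L)).1 (by rw [Units.val_inv_eq_inv_val, map_inv₀, hx, inv_one])
      have hbc : b * c = 1 := hBinj (by rw [map_mul, hb, hc, map_one]; exact x.mul_inv)
      exact ⟨Units.mkOfMulEqOne b c hbc, Units.ext hb⟩
    have inner : ∀ {f : ℕ} (b : Fin f → B),
        LinearIndependent (IsLocalRing.ResidueField A) (fun j => IsLocalRing.residue B (b j)) →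
        ∀ c : Fin f → K, (∃ j, c j ≠ 0) →
          ∃ k : K, k ≠ 0 ∧ v (∑ j, algebraMap K L (c j) * algebraMap B L (b j)) = v (algebraMap K L k) := by
      intro f b hb c hc
      obtain ⟨j₁, hj₁⟩ := hc
      haveI : Nonempty (Fin f) := ⟨j₁⟩
      obtain ⟨j₀, -, hj₀⟩ := Finset.exists_max_image Finset.univ (fun j => v (algebraMap K L (c j))) Finset.univ_nonempty
      have hc0 : c j₀ ≠ 0 := by
        intro h
        have h2 := hj₀ j₁ (Finset.mem_univ _)
        rw [h, map_zero, map_zero, le_zero_iff, map_eq_zero, map_eq_zero] at h2
        exact hj₁ h2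
      have hint : ∀ j, ∃ a : A, algebraMap A K a = c j / c j₀ := by
        intro j
        rcases ValuationRing.isInteger_or_isInteger A (c j / c j₀) with ⟨a, ha⟩ | ⟨a, ha⟩
        · exact ⟨a, ha⟩
        · rcases eq_or_ne (c j) 0 with hcj | hcj
          · exact ⟨0, by rw [hcj, map_zero, zero_div]⟩
          by_cases hu : IsUnit a
          · obtain ⟨u, rfl⟩ := hu
            refine ⟨↑u⁻¹, ?_⟩
            rw [map_units_inv, ha, inv_inv]
          · exfalso
            have hlt : v (algebraMap B L (algebraMap A B a)) < 1 := by
              refine lt_of_le_of_ne ((hle _).2 ⟨_, rfl⟩) fun h1 => ?_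
              have hne : algebraMap B L (algebraMap A B a) ≠ 0 := fun h0 => by simp [h0] at h1
              obtain ⟨u, hu'⟩ := hone (Units.mk0 _ hne) h1
              have : algebraMap A B a = (u : B) := hBinj (congrArg Units.val hu').symm
              exact hu (IsUnit.of_map (algebraMap A B) a (this ▸ u.isUnit))
            rw [← IsScalarTower.algebraMap_apply, IsScalarTower.algebraMap_apply A K L, ha, inv_div,
              map_div₀, map_div₀, div_lt_one₀ (zero_lt_iff.2 (by simp [hcj]))] at hlt
            exact absurd (hj₀ j (Finset.mem_univ _)) (not_le.2 hlt)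
      choose a ha using hint
      refine ⟨c j₀, hc0, ?_⟩
      have hsum : ∑ j, algebraMap K L (c j) * algebraMap B L (b j) =
          algebraMap K L (c j₀) * algebraMap B L (∑ j, algebraMap A B (a j) * b j) := by
        rw [map_sum, Finset.mul_sum]
        refine Finset.sum_congr rfl fun j _ => ?_
        rw [map_mul, ← IsScalarTower.algebraMap_apply A B L, IsScalarTower.algebraMap_apply A K L, ha,
          ← mul_assoc, ← map_mul, mul_div_cancel₀ _ hc0]
      have hu : IsUnit (∑ j, algebraMap A B (a j) * b j) := by
        rw [← IsLocalRing.residue_ne_zero_iff_isUnit]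
        intro h0
        have h1 := Fintype.linearIndependent_iff.1 hb (fun j => IsLocalRing.residue A (a j)) (by
          rw [← h0, map_sum]
          refine Finset.sum_congr rfl fun j _ => ?_
          rw [map_mul, Algebra.smul_def]
          rfl) j₀
        have : a j₀ = 1 := hAinj (by rw [ha, div_self hc0, map_one])
        rw [this, map_one] at h1
        exact one_ne_zero h1
      rw [hsum, map_mul, hunit _ hu, mul_one]
    have bound : ∀ {e f : ℕ} (x : Fin e → Lˣ),
        Function.Injective (fun i => QuotientGroup.mk' ΓA (QuotientGroup.mk' UB (x i))) → ∀ b : Fin f → B,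
        LinearIndependent (IsLocalRing.ResidueField A) (fun j => IsLocalRing.residue B (b j)) →
        e * f ≤ Module.finrank K L := by
      intro e f x hx b hb
      have hli : LinearIndependent K (fun p : Fin e × Fin f => (x p.1 : L) * algebraMap B L (b p.2)) := by
        rw [Fintype.linearIndependent_iff]
        intro g hg
        by_contra hne
        push Not at hne
        obtain ⟨⟨i₁, j₁⟩, hne⟩ := hne
        let S := Finset.univ.filter (fun i : Fin e => ∃ j, g (i, j) ≠ 0)
        let t : Fin e → L := fun i => (x i : L) * ∑ j, algebraMap K L (g (i, j)) * algebraMap B L (b j)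
        have hsum : ∑ i ∈ S, t i = 0 := by
          rw [← hg, Fintype.sum_prod_type, Finset.sum_subset (Finset.subset_univ S)]
          · refine Finset.sum_congr rfl fun i _ => ?_
            simp only [t, Finset.mul_sum, Algebra.smul_def]
            exact Finset.sum_congr rfl fun j _ => by ring
          · intro i _ hi
            simp only [S, Finset.mem_filter, Finset.mem_univ, true_and, not_exists, not_not] at hi
            simp [t, hi]
        have hSne : S.Nonempty := ⟨i₁, by simp only [S, Finset.mem_filter, Finset.mem_univ, true_and]; exact ⟨j₁, hne⟩⟩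
        have hk : ∀ i ∈ S, ∃ k : Kˣ, v (t i) = v (((x i * Units.map (algebraMap K L).toMonoidHom k : Lˣ) : L)) := by
          intro i hi
          obtain ⟨k, hk0, hk⟩ := inner b hb (fun j => g (i, j)) (by
            simp only [S, Finset.mem_filter, Finset.mem_univ, true_and] at hi; exact hi)
          refine ⟨Units.mk0 k hk0, ?_⟩
          simp only [t, map_mul, hk, Units.val_mul]
          rfl
        obtain ⟨m, hm, hmax⟩ := Finset.exists_max_image S (fun i => v (t i)) hSne
        have hlt : ∀ i ∈ S \ {m}, v (t i) < v (t m) := by
          intro i hi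
          rw [Finset.mem_sdiff, Finset.mem_singleton] at hi
          refine lt_of_le_of_ne (hmax i hi.1) fun heq => hi.2 (hx ?_)
          obtain ⟨k, hk1⟩ := hk i hi.1
          obtain ⟨k', hk2⟩ := hk m hm
          rw [hk1, hk2] at heq
          set y := x i * Units.map (algebraMap K L).toMonoidHom k with hy
          set y' := x m * Units.map (algebraMap K L).toMonoidHom k' with hy'
          have hmem : y⁻¹ * y' ∈ UB := hone _ (by
            rw [Units.val_mul, map_mul, Units.val_inv_eq_inv_val, map_inv₀, heq]
            exact inv_mul_cancel₀ (by simp))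
          have h1 : QuotientGroup.mk' UB y = QuotientGroup.mk' UB y' := QuotientGroup.eq.2 hmem
          have h2 : ∀ q : Kˣ, QuotientGroup.mk' ΓA (QuotientGroup.mk' UB (Units.map (algebraMap K L).toMonoidHom q)) = 1 :=
            fun q => (QuotientGroup.eq_one_iff _).2 ⟨q, rfl⟩
          have h3 := congrArg (QuotientGroup.mk' ΓA) h1
          simp only [hy, hy', map_mul, h2, mul_one] at h3
          exact h3
        have h4 := Valuation.map_sum_eq_of_lt v hm hlt
        rw [hsum, map_zero] at h4
        obtain ⟨k, hk1⟩ := hk m hm
        rw [hk1] at h4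
        exact (Valuation.ne_zero_iff v).2 (Units.ne_zero _) h4.symm
      simpa using hli.fintype_card_le_finrank
    have hrank : Module.rank (IsLocalRing.ResidueField A) (IsLocalRing.ResidueField B) ≤ Module.finrank K L := by
      refine rank_le fun s hs => ?_
      choose b hb using fun i => IsLocalRing.residue_surjective ((s.equivFin.symm i : s) : IsLocalRing.ResidueField B)
      have hli : LinearIndependent (IsLocalRing.ResidueField A) (fun j => IsLocalRing.residue B (b j)) := by
        simp only [hb]
        exact hs.comp _ s.equivFin.symm.injective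
      simpa using bound (fun _ : Fin 1 => 1) (fun i j _ => Subsingleton.elim i j) b hli
    haveI hfin : Module.Finite (IsLocalRing.ResidueField A) (IsLocalRing.ResidueField B) :=
      Module.rank_lt_aleph0_iff.1 (hrank.trans_lt (Cardinal.natCast_lt_aleph0))
    let bb := Module.finBasis (IsLocalRing.ResidueField A) (IsLocalRing.ResidueField B)
    choose b hb using fun i => IsLocalRing.residue_surjective (bb i)
    have hbl : LinearIndependent (IsLocalRing.ResidueField A) (fun j => IsLocalRing.residue B (b j)) := by
      simp only [hb]
      exact bb.linearIndependent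
    let π : Lˣ → (Lˣ ⧸ UB) ⧸ ΓA := fun y => QuotientGroup.mk' ΓA (QuotientGroup.mk' UB y)
    have hπ : Function.Surjective π :=
      (QuotientGroup.mk'_surjective ΓA).comp (QuotientGroup.mk'_surjective UB)
    obtain ⟨lift, hlift⟩ := hπ.hasRightInverse
    haveI : Finite ((Lˣ ⧸ UB) ⧸ ΓA) := by
      by_contra hinf
      rw [not_finite_iff_infinite] at hinf
      have hn := bound (e := Module.finrank K L + 1) (f := Module.finrank (IsLocalRing.ResidueField A) (IsLocalRing.ResidueField B))
        (fun i => lift (Infinite.natEmbedding _ i)) (fun i j h => by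
          have : Infinite.natEmbedding ((Lˣ ⧸ UB) ⧸ ΓA) i = Infinite.natEmbedding _ j := by
            rw [← hlift (Infinite.natEmbedding _ i), ← hlift (Infinite.natEmbedding _ j)]; exact h
          exact Fin.ext ((Infinite.natEmbedding _).injective this)) b hbl
      have hpos : 0 < Module.finrank (IsLocalRing.ResidueField A) (IsLocalRing.ResidueField B) := Module.finrank_pos
      have := Nat.le_mul_of_pos_right (Module.finrank K L + 1) hpos
      omega
    refine ⟨hfin, ?_, ?_⟩
    · exact Nat.card_ne_zero.2 ⟨inferInstance, inferInstance⟩
    · let e := Finite.equivFin ((Lˣ ⧸ UB) ⧸ ΓA)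
      exact bound (fun i => lift (e.symm i)) (fun i j h => e.symm.injective (by
        rw [← hlift (e.symm i), ← hlift (e.symm j)]; exact h)) b hbl

end Groth.Agent.S7124
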