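import Groth.Statements.S7130
import Mathlib


set_option autoImplicit false
universe u
open EtAlg

namespace Groth.Agent.S7130

theorem isField_of_vnr {A : Type u} [CommRing A] (h : ∀ a : A, ∃ b, a * a * b = a)
    (p : Ideal A) [p.IsPrime] : IsField (Localization.AtPrime p) := by
  rw [IsLocalRing.isField_iff_maximalIdeal_eq, eq_bot_iff]
  intro x hx
  obtain ⟨a, s, rfl⟩ := IsLocalization.exists_mk'_eq p.primeCompl x
  have ha : a ∈ p := (IsLocalization.AtPrime.mk'_mem_maximal_iff _ p a s).1 hx
  obtain ⟨b, hb⟩ := h a
  have hs : 1 - a * b ∈ p.primeCompl := fun hc => ‹p.IsPrime›.ne_top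
    ((Ideal.eq_top_iff_one _).2 (by simpa using p.add_mem hc (p.mul_mem_right b ha)))
  rw [Ideal.mem_bot, IsLocalization.mk'_eq_zero_iff]
  exact ⟨⟨_, hs⟩, by linear_combination -hb⟩

theorem flat_of_isField_localization {A : Type u} [CommRing A]
    (h : ∀ (p : Ideal A) [p.IsPrime], IsField (Localization.AtPrime p))
    (M : Type u) [AddCommGroup M] [Module A M] : Module.Flat A M := by
  refine Module.flat_of_localized_maximal _ fun P _ => ?_
  haveI : Module.Flat (Localization.AtPrime P) (LocalizedModule P.primeCompl M) := by
    letI := (h P).toField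
    exact Module.Flat.of_free
  exact Module.Flat.trans A (Localization.AtPrime P) _


/-- (2) ⇔ (3) ⇔ (4): for a ring A the following are equivalent: every A-module is flat; A is reduced of
Krull dimension zero, in the sense that every prime ideal of A is maximal; the local ring A_p is a
field for every prime p. (The further equivalent condition 'A has weak dimension at most zero'
coincides with the first condition by definition and is not listed separately.) -/
theorem result (A : Type u) [CommRing A] :
    List.TFAE [∀ (M : Type u) [AddCommGroup M] [Module A M], Module.Flat A M,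
      IsReduced A ∧ ∀ p : Ideal A, p.IsPrime → p.IsMaximal,
      ∀ (p : Ideal A) [p.IsPrime], IsField (Localization.AtPrime p)] := by
  tfae_have 1 → 2 := by
    intro hfl
    have hv : ∀ a : A, ∃ b, a * a * b = a := by
      intro a
      have h1 := Module.Flat.rTensor_preserves_injective_linearMap (M := A ⧸ Ideal.span {a})
        (Ideal.span {a} : Ideal A).subtype Subtype.val_injective
      let z : Ideal.span {a} := ⟨a, Ideal.mem_span_singleton_self a⟩
      have h2 : z ⊗ₜ[A] (1 : A ⧸ Ideal.span {a}) = 0 := by
        apply h1
        rw [LinearMap.rTensor_tmul, map_zero]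
        calc (a : A) ⊗ₜ[A] (1 : A ⧸ Ideal.span {a}) = (1 : A) ⊗ₜ[A] (a • (1 : A ⧸ Ideal.span {a})) := by
              rw [← TensorProduct.smul_tmul, smul_eq_mul, mul_one]
          _ = 0 := by
              rw [show a • (1 : A ⧸ Ideal.span {a}) = 0 from by
                rw [Algebra.smul_def, mul_one]; exact Ideal.Quotient.eq_zero_iff_mem.2 (Ideal.mem_span_singleton_self a), TensorProduct.tmul_zero]
      rw [← map_one (Ideal.Quotient.mk (Ideal.span {a}))] at h2
      have h3 := congrArg (TensorProduct.tensorQuotEquivQuotSMul (Ideal.span {a} : Ideal A) (Ideal.span {a})) h2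
      rw [map_zero, TensorProduct.tensorQuotEquivQuotSMul_tmul_mk, one_smul, Submodule.Quotient.mk_eq_zero] at h3
      obtain ⟨y, hy, hy2⟩ := Submodule.mem_smul_span_singleton.1 (show z ∈ Ideal.span {a} • Submodule.span A {z} from by
        convert h3
        refine eq_top_iff.2 fun x _ => ?_
        obtain ⟨c, hc⟩ := Ideal.mem_span_singleton'.1 x.2
        exact Submodule.mem_span_singleton.2 ⟨c, Subtype.ext hc⟩)
      obtain ⟨b, hb⟩ := Ideal.mem_span_singleton'.1 hy
      refine ⟨b, ?_⟩
      have := congrArg Subtype.val hy2
      simp [z, ← hb] at this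
      linear_combination this
    refine ⟨⟨fun a ha => ?_⟩, fun p hp => ?_⟩
    · obtain ⟨n, hn⟩ := ha
      obtain ⟨b, hb⟩ := hv a
      have : ∀ m, a = a ^ (m + 1) * b ^ m := fun m => by
        induction m with
        | zero => simp
        | succ m ih =>
          calc a = a * a * b := hb.symm
            _ = (a ^ (m + 1) * b ^ m) * a * b := by rw [← ih]
            _ = _ := by ring
      rw [this n, pow_succ, hn, zero_mul, zero_mul]
    · refine Ideal.Quotient.maximal_of_isField _ ⟨⟨0, 1, zero_ne_one⟩, mul_comm, fun {x} hx => ?_⟩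
      obtain ⟨a, rfl⟩ := Ideal.Quotient.mk_surjective x
      obtain ⟨b, hb⟩ := hv a
      refine ⟨Ideal.Quotient.mk p b, mul_left_cancel₀ hx ?_⟩
      rw [← mul_assoc, ← map_mul, ← map_mul, hb, mul_one]
  tfae_have 2 → 3 := by
    rintro ⟨_, h⟩ p hp
    haveI : Ring.KrullDimLE 0 A := Ring.KrullDimLE.mk₀ fun I hI => h I hI
    haveI : IsReduced (Localization.AtPrime p) := inferInstance
    haveI : Ring.KrullDimLE 0 (Localization.AtPrime p) := Ring.KrullDimLE.mk₀ fun I hI => by
      have hle : p.comap (RingHom.id A) = p := rfl
      have hI' : (I.comap (algebraMap A (Localization.AtPrime p))).IsMaximal := h _ (Ideal.IsPrime.comap _)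
      have hle2 : I.comap (algebraMap A (Localization.AtPrime p)) ≤ p := by
        intro x hx
        by_contra hxp
        exact hI.ne_top (Ideal.eq_top_of_isUnit_mem _ hx (IsLocalization.map_units _ (⟨x, hxp⟩ : p.primeCompl)))
      have e := hI'.eq_of_le hp.ne_top hle2
      have : I = IsLocalRing.maximalIdeal _ := by
        rw [← IsLocalization.map_comap p.primeCompl (Localization.AtPrime p) I, show Ideal.under A I = p from e, Localization.AtPrime.map_eq_maximalIdeal]
      rw [this]; infer_instance
    rw [IsLocalRing.isField_iff_maximalIdeal_eq, ← Ring.KrullDimLE.nilradical_eq_maximalIdeal, nilradical_eq_zero, Ideal.zero_eq_bot]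
  tfae_have 3 → 1 := fun h M _ _ => flat_of_isField_localization h M
  tfae_finish

end Groth.Agent.S7130
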