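import Groth.Statements.S7134
import Mathlib
import Groth.Prelude.Def_Found
import Groth.Prelude.Def_CAlgX
import Groth.Prelude.Def_EtRam
import Groth.Agent.Lib.H2GeomRegBase
import Groth.Agent.Lib.H2DerFinite
import Groth.Agent.Lib.RegularLocalBasic
import Groth.Agent.S2451

set_option autoImplicit false
universe u
open EtAlg

namespace Groth.Agent.S7134
open TensorProduct IsLocalRing
open Groth.Agent.H2GeomRegMore Groth.Agent.H2GeomRegBase
set_option backward.isDefEq.respectTransparency.types false
set_option synthInstance.maxHeartbeats 400000
set_option maxHeartbeats 1000000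

/-- For an injective local homomorphism A → B of discrete valuation rings, A → B is formally smooth for
the adic topology of the maximal ideal of B if and only if A → B is weakly unramified and the
residue field of B is a separable (possibly transcendental, i.e. geometrically reduced) extension of
the residue field of A. -/
theorem result (A B : Type u) [CommRing A]
    [IsDomain A] [IsDiscreteValuationRing A] [CommRing B] [IsDomain B] [IsDiscreteValuationRing B] [Algebra A B]
    (hinj : Function.Injective (algebraMap A B)) [IsLocalHom (algebraMap A B)] :
    CAlgX.IsAdicFormallySmooth A B (IsLocalRing.maximalIdeal B) ↔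
      EtRam.IsWeaklyUnramified A B ∧
        Algebra.IsGeometricallyReduced (IsLocalRing.ResidueField A) (IsLocalRing.ResidueField B) := by
  haveI : FaithfulSMul A B := (faithfulSMul_iff_algebraMap_injective A B).2 hinj
  haveI : Module.IsTorsionFree A B := inferInstance
  haveI : Module.Flat A B := inferInstance
  let k := ResidueField A
  let κ := ResidueField B
  have main : (maximalIdeal A).map (algebraMap A B) = maximalIdeal B →
      (CAlgX.IsAdicFormallySmooth A B (maximalIdeal B) ↔ Algebra.IsGeometricallyReduced k κ) := by
    intro hw
    letI : Algebra A κ := ((residue B).comp (algebraMap A B)).toAlgebra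
    haveI : IsScalarTower A k κ := IsScalarTower.of_algebraMap_eq fun a => rfl
    let π : B →ₐ[A] κ := { residue B with commutes' := fun a => rfl }
    have hker : RingHom.ker π.toRingHom = (maximalIdeal A).map (algebraMap A B) := by
      rw [hw]; exact ker_residue
    have hmax : (maximalIdeal B).map π.toRingHom = ⊥ := by
      rw [Ideal.map_eq_bot_iff_le_ker]; exact (ker_residue).ge
    rw [← Groth.Agent.S2451.result]
    constructor
    · intro h
      have h1 := Groth.Agent.H2AdicFSFibre.adicFS_fibre (k := k) π residue_surjective hker residue_surjective ker_residue h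
      rw [hmax] at h1
      exact Algebra.FormallySmooth.of_comp_surjective fun C _ _ J hJ ψ =>
        h1 C J hJ ψ ⟨1, fun x hx => by rw [pow_one] at hx; rw [(Submodule.mem_bot κ).1 hx, map_zero]⟩
    · intro h
      haveI := h
      exact Groth.Agent.H2AdicFSFibre.adicFS_of_flat (k := k) π residue_surjective hker residue_surjective ker_residue
        (adicFS_of_formallySmooth _)
  constructor
  · intro h
    suffices hw : (maximalIdeal A).map (algebraMap A B) = maximalIdeal B from ⟨hw, (main hw).1 h⟩
    let I := (maximalIdeal A).map (algebraMap A B)
    have hle : I ≤ maximalIdeal B := ((IsLocalRing.local_hom_TFAE (algebraMap A B)).out 0 2).1 ‹IsLocalHom (algebraMap A B)›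
    let T := B ⧸ I
    haveI : Nontrivial T := Ideal.Quotient.nontrivial_iff.2 (ne_top_of_le_ne_top (maximalIdeal.isMaximal B).ne_top hle)
    haveI : IsLocalRing T := IsLocalRing.of_surjective' (Ideal.Quotient.mk I) Ideal.Quotient.mk_surjective
    letI : Algebra k T := (Ideal.quotientMap I (algebraMap A B) Ideal.le_comap_map).toAlgebra
    haveI : IsScalarTower A k T := IsScalarTower.of_algebraMap_eq fun x => rfl
    have hF := Groth.Agent.H2AdicFSFibre.adicFS_fibre (k := k) (Ideal.Quotient.mkₐ A I) (Ideal.Quotient.mkₐ_surjective A I)
      Ideal.mk_ker residue_surjective ker_residue h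
    rw [show (maximalIdeal B).map (Ideal.Quotient.mkₐ A I).toRingHom = maximalIdeal T from
      IsLocalRing.map_maximalIdeal_of_surjective _ Ideal.Quotient.mk_surjective] at hF
    haveI := Groth.Agent.H2AdicFSField.isRegularLocalRing_of_adicFS hF
    haveI : IsDomain T := Groth.Agent.RegLocal.isDomain
    haveI : I.IsPrime := (Ideal.Quotient.isDomain_iff_prime I).1 inferInstance
    have hne : I ≠ ⊥ := fun hbot => IsDiscreteValuationRing.not_a_field A
      ((Ideal.map_eq_bot_iff_of_injective hinj).1 hbot)
    exact IsLocalRing.eq_maximalIdeal (Ideal.IsPrime.isMaximal inferInstance hne)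
  · rintro ⟨hw, hg⟩
    exact (main hw).2 hg

end Groth.Agent.S7134
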