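import Groth.Statements.S7135
import Mathlib
import Groth.Agent.Lib.CompletionQuotients

set_option autoImplicit false
universe u
open TensorProduct
open Groth.Agent.CompletionQuotients
open CAlg

namespace Groth.Agent.S7135

/-- Let A be a Noetherian ring, I an ideal and M, N finite A-modules. If M/IⁿM and N/IⁿN are isomorphic
for every n, then the I-adic completions of M and N are isomorphic as modules over the I-adic
completion of A. -/
theorem result (A : Type u) [CommRing A] [IsNoetherianRing A] (I : Ideal A)
    (M N : Type u) [AddCommGroup M] [Module A M] [Module.Finite A M] [AddCommGroup N] [Module A N]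
    [Module.Finite A N]
    (h : ∀ n : ℕ, Nonempty ((M ⧸ (I ^ n • ⊤ : Submodule A M)) ≃ₗ[A] (N ⧸ (I ^ n • ⊤ : Submodule A N)))) :
    Nonempty (AdicCompletion I M ≃ₗ[AdicCompletion I A] AdicCompletion I N) := by
  obtain ⟨φ, hφ⟩ := exists_surj I M N h
  obtain ⟨ψ, hψ⟩ := exists_surj I N M fun n => (h n).map LinearEquiv.symm
  haveI : Module.Finite (AdicCompletion I A) (AdicCompletion I M) :=
    Module.Finite.of_surjective (AdicCompletion.ofTensorProduct I M)
      (AdicCompletion.ofTensorProduct_surjective_of_finite I M)
  have hinj := OrzechProperty.injective_of_surjective_endomorphism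
    ((AdicCompletion.map I ψ).comp (AdicCompletion.map I φ)) (hψ.comp hφ)
  exact ⟨LinearEquiv.ofBijective (AdicCompletion.map I φ) ⟨fun x y hxy => hinj (by
    simp only [LinearMap.comp_apply, hxy]), hφ⟩⟩

end Groth.Agent.S7135
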