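import Groth.Statements.S7136
import Mathlib
import Groth.Agent.Lib.ArtinReesHom

set_option autoImplicit false
universe u
open Groth.Agent.ArtinReesHom
open Submodule
open CAlg

namespace Groth.Agent.S7136

/-- Let A be a Noetherian ring, I an ideal, and M, N finite A-modules; write N_n = N/IⁿN, so that
Hom_A(M/IⁿM, N_n) = Hom_A(M, N_n). Then (1) the inverse system (Hom_A(M, N_n))_n, with transition
maps induced by the projections N_k → N_n, is Mittag-Leffler; (2) there is c ≥ 0 such that for all n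
the kernel and the cokernel of Hom_A(M, N)/IⁿHom_A(M, N) → Hom_A(M, N_n) are annihilated by I^c. -/
theorem result (A : Type u) [CommRing A] [IsNoetherianRing A]
    (I : Ideal A) (M N : Type u) [AddCommGroup M] [Module A M] [Module.Finite A M] [AddCommGroup N] [Module A N]
    [Module.Finite A N] :
    let Nq : ℕ → Submodule A N := fun n => I ^ n • ⊤
    let pr : ∀ n k : ℕ, n ≤ k → (N ⧸ Nq k) →ₗ[A] (N ⧸ Nq n) :=
      fun n k hnk => Submodule.mapQ (Nq k) (Nq n) (LinearMap.id : N →ₗ[A] N) (Submodule.smul_mono_left (Ideal.pow_le_pow_right hnk))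
    let red : ∀ n : ℕ, (M →ₗ[A] N) → (M →ₗ[A] N ⧸ Nq n) := fun n φ => (Nq n).mkQ ∘ₗ φ
    (∀ n : ℕ, ∃ m : ℕ, n ≤ m ∧ ∀ (k : ℕ) (hmk : m ≤ k) (hnm : n ≤ m) (ψ : M →ₗ[A] N ⧸ Nq m),
        ∃ ψ' : M →ₗ[A] N ⧸ Nq k, pr n k (hnm.trans hmk) ∘ₗ ψ' = pr n m hnm ∘ₗ ψ) ∧
    ∃ c : ℕ, ∀ n : ℕ,
      (∀ φ : M →ₗ[A] N, red n φ = 0 → ∀ a ∈ I ^ c, a • φ ∈ (I ^ n • ⊤ : Submodule A (M →ₗ[A] N))) ∧
      (∀ (ψ : M →ₗ[A] N ⧸ Nq n), ∀ a ∈ I ^ c, ∃ φ : M →ₗ[A] N, red n φ = a • ψ) := by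
  classical
  intro Nq pr red
  obtain ⟨g, p, hp⟩ := Module.Finite.exists_fin' A M
  obtain ⟨r, R, hR⟩ := Submodule.fg_iff_exists_fin_generating_family.mp (IsNoetherian.noetherian (LinearMap.ker p))
  let e : Fin g → M := fun i => p (Pi.single i 1)
  let Φ : (Fin g → N) →ₗ[A] (Fin r → N) := LinearMap.pi fun j => ∑ i, R j i • LinearMap.proj i
  have hΦ : ∀ v j, Φ v j = ∑ i, R j i • v i := fun v j => by simp [Φ]
  let ev : (M →ₗ[A] N) →ₗ[A] (Fin g → N) := LinearMap.pi fun i => LinearMap.applyₗ (e i)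
  have hev : ∀ (Q : Type u) [AddCommGroup Q] [Module A Q] (φ φ' : M →ₗ[A] Q), (∀ i, φ (e i) = φ' (e i)) → φ = φ' := by
    intro Q _ _ φ φ' h
    rw [← LinearMap.cancel_right hp]
    exact (Pi.basisFun A (Fin g)).ext fun i => by simpa [e] using h i
  have hinj : Function.Injective ev := fun φ φ' h => hev N φ φ' fun i => congrFun h i
  have hrange : ∀ v, Φ v = 0 → ∃ φ, ev φ = v := by
    intro v hv
    let φ₀ : (Fin g → A) →ₗ[A] N := ∑ i, (LinearMap.proj i : (Fin g → A) →ₗ[A] A).smulRight (v i)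
    have hφ₀ : ∀ x, φ₀ x = ∑ i, x i • v i := fun x => by simp [φ₀]
    have hk : LinearMap.ker p ≤ LinearMap.ker φ₀ := by
      rw [← hR, Submodule.span_le]
      rintro _ ⟨j, rfl⟩
      simp [hφ₀, ← hΦ, hv]
    let φ : M →ₗ[A] N := (LinearMap.ker p).liftQ φ₀ hk ∘ₗ (p.quotKerEquivOfSurjective hp).symm.toLinearMap
    refine ⟨φ, funext fun i => ?_⟩
    have h1 : (p.quotKerEquivOfSurjective hp).symm (e i) = Submodule.Quotient.mk (Pi.single i 1) :=
      (p.quotKerEquivOfSurjective hp).symm_apply_eq.mpr rfl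
    show φ (e i) = v i
    simp only [φ, LinearMap.comp_apply, LinearEquiv.coe_coe, h1, Submodule.liftQ_apply, hφ₀]
    rw [Finset.sum_eq_single i (fun j _ hj => by simp [Pi.single_eq_of_ne hj]) (by simp)]
    simp
  have hpi : ∀ (s : ℕ) (t : ℕ) (v : Fin t → N), (∀ j, v j ∈ Nq s) → v ∈ (I ^ s • ⊤ : Submodule A (Fin t → N)) := by
    intro s t v hv
    rw [← Finset.univ_sum_single v]
    refine Submodule.sum_mem _ fun j _ => ?_
    exact Submodule.smul_mono le_rfl le_top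
      (smul_top_map_le (LinearMap.single A (fun _ : Fin t => N) j) _ (hv j))
  have hpi' : ∀ (s : ℕ) (t : ℕ) (v : Fin t → N), v ∈ (I ^ s • ⊤ : Submodule A (Fin t → N)) → ∀ j, v j ∈ Nq s :=
    fun s t v hv j => Submodule.smul_mono le_rfl le_top
      (smul_top_map_le (LinearMap.proj j : (Fin t → N) →ₗ[A] N) _ hv)
  obtain ⟨c1, h1⟩ := exists_AR I Φ
  obtain ⟨c2, h2⟩ := exists_AR_smul I (LinearMap.ker Φ)
  -- lifting
  have key : ∀ n (v : Fin g → N), Φ v ∈ (I ^ (n + c1) • ⊤ : Submodule A (Fin r → N)) →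
      ∃ φ : M →ₗ[A] N, ∀ i, φ (e i) - v i ∈ Nq n := by
    intro n v hv
    obtain ⟨w, hw, ew⟩ := h1 n ⟨LinearMap.mem_range_self Φ v, hv⟩
    obtain ⟨φ, hφ⟩ := hrange (v - w) (by rw [map_sub, ew, sub_self])
    refine ⟨φ, fun i => ?_⟩
    rw [show φ (e i) = (v - w) i from congrFun hφ i, Pi.sub_apply, sub_sub_cancel_left]
    exact neg_mem (hpi' n g w hw i)
  have lifts : ∀ m (ψ : M →ₗ[A] N ⧸ Nq m), ∃ v : Fin g → N, (∀ i, (Nq m).mkQ (v i) = ψ (e i)) ∧
      Φ v ∈ (I ^ m • ⊤ : Submodule A (Fin r → N)) := by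
    intro m ψ
    choose v hv using fun i => Submodule.mkQ_surjective (Nq m) (ψ (e i))
    refine ⟨v, hv, hpi m r _ fun j => ?_⟩
    rw [hΦ, ← Submodule.Quotient.mk_eq_zero, ← Submodule.mkQ_apply, map_sum]
    simp only [map_smul, hv, e]
    simp only [← map_smul, ← map_sum]
    have : ∑ i, R j i • (Pi.single i 1 : Fin g → A) = R j := (pi_eq_sum_univ' (R j)).symm
    rw [this, LinearMap.mem_ker.mp (hR ▸ Submodule.subset_span (Set.mem_range_self j) : R j ∈ LinearMap.ker p),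
      map_zero]
  refine ⟨fun n => ⟨n + c1, by omega, fun k hmk hnm ψ => ?_⟩, c1 + c2, fun n => ⟨fun φ hφ a ha => ?_, fun ψ a ha => ?_⟩⟩
  · obtain ⟨v, hv, hΦv⟩ := lifts _ ψ
    obtain ⟨φ, hφ⟩ := key n v hΦv
    refine ⟨red k φ, hev _ _ _ fun i => ?_⟩
    simp only [LinearMap.comp_apply, ← hv, red, pr, Submodule.mkQ_apply, Submodule.mapQ_apply, LinearMap.id_apply]
    exact (Submodule.Quotient.eq _).mpr (hφ i)
  · have hmem : ev φ ∈ (I ^ n • ⊤ : Submodule A (Fin g → N)) := hpi n g _ fun i =>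
      (Submodule.Quotient.mk_eq_zero _).mp (LinearMap.congr_fun hφ (e i))
    have hker : ev φ ∈ LinearMap.ker Φ := by
      refine LinearMap.mem_ker.mpr (funext fun j => ?_)
      rw [hΦ, Pi.zero_apply]
      show ∑ i, R j i • φ (e i) = 0
      simp only [e, ← map_smul, ← map_sum]
      have : ∑ i, R j i • (Pi.single i 1 : Fin g → A) = R j := (pi_eq_sum_univ' (R j)).symm
      rw [this, LinearMap.mem_ker.mp (hR ▸ Submodule.subset_span (Set.mem_range_self j) : R j ∈ LinearMap.ker p),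
        map_zero]
    have h3 := h2 n _ hker hmem a (Ideal.pow_le_pow_right (by omega) ha)
    have h4 : I ^ n • LinearMap.ker Φ ≤ (I ^ n • ⊤ : Submodule A (M →ₗ[A] N)).map ev := by
      rw [Submodule.map_smul'', Submodule.map_top]
      exact Submodule.smul_mono le_rfl fun v hv => hrange v hv
    obtain ⟨φ', hφ', e'⟩ := h4 h3
    rw [← map_smul] at e'
    exact hinj e' ▸ hφ'
  · obtain ⟨v, hv, hΦv⟩ := lifts _ ψ
    obtain ⟨φ, hφ⟩ := key n (a • v) (by
      rw [map_smul]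
      refine pow_mono I (show n + c1 ≤ (c1 + c2) + n by omega) ?_
      rw [pow_add, Submodule.mul_smul]
      exact Submodule.smul_mem_smul ha hΦv)
    refine ⟨φ, hev _ _ _ fun i => ?_⟩
    rw [LinearMap.smul_apply, ← hv, ← map_smul]
    exact (Submodule.Quotient.eq _).mpr (hφ i)

end Groth.Agent.S7136
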