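import Groth.Statements.S7143
import Mathlib.RingTheory.Valuation.LocalSubring
import Mathlib.RingTheory.Flat.EquationalCriterion
import Mathlib.Algebra.Category.Ring.Instances
import Mathlib.RingTheory.Flat.Localization
import Mathlib.Algebra.Group.Pi.Units
-- import your own Groth.Agent.* helpers here

set_option autoImplicit false
universe u
open CategoryTheory
open EtAlg

namespace Groth.Agent.S7143.Aux

variable {K : Type u} [Field K] {ι : Type u} (W : ι → ValuationSubring K)

open Classical in
theorem pair (a b : ∀ i, W i) : ∃ c d : ∀ i, W i, (c * a + d * b) ∣ a ∧ (c * a + d * b) ∣ b := by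
  have h : ∀ i, ∃ c d : W i, (c * a i + d * b i) ∣ a i ∧ (c * a i + d * b i) ∣ b i := by
    intro i
    rcases ValuationRing.dvd_total (a i) (b i) with hh | hh
    · exact ⟨1, 0, by simp, by simpa using hh⟩
    · exact ⟨0, 1, by simpa using hh, by simp⟩
  choose c d hc hd using h
  choose qa hqa using hc
  choose qb hqb using hd
  exact ⟨c, d, ⟨qa, funext hqa⟩, ⟨qb, funext hqb⟩⟩

theorem principal (I : Ideal (∀ i, W i)) (s : Finset (∀ i, W i)) (hs : ∀ x ∈ s, x ∈ I) :
    ∃ w ∈ I, ∀ x ∈ s, w ∣ x := by
  classical
  induction s using Finset.induction_on with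
  | empty => exact ⟨0, I.zero_mem, by simp⟩
  | @insert a s ha ih =>
    obtain ⟨w, hw, hdiv⟩ := ih fun x hx => hs x (Finset.mem_insert_of_mem hx)
    obtain ⟨c, d, h1, h2⟩ := pair W w a
    refine ⟨_, I.add_mem (I.mul_mem_left c hw) (I.mul_mem_left d (hs a (Finset.mem_insert_self a s))), ?_⟩
    intro x hx
    rcases Finset.mem_insert.1 hx with rfl | hx
    · exact h2
    · exact h1.trans (hdiv x hx)

theorem ideal_flat (I : Ideal (∀ i, W i)) : Module.Flat (∀ i, W i) I := by
  classical
  refine Module.Flat.of_forall_isTrivialRelation fun {l f x} h => ?_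
  obtain ⟨w, hw, hdiv⟩ := principal W I (Finset.univ.image fun j => (x j : ∀ i, W i))
    (fun y hy => by obtain ⟨j, -, rfl⟩ := Finset.mem_image.1 hy; exact (x j).2)
  choose c hc using fun j => hdiv (x j) (Finset.mem_image_of_mem _ (Finset.mem_univ j))
  let a : Fin l → ∀ i, W i := fun j i => if w i = 0 then 0 else c j i
  have ha : ∀ j, (x j : ∀ i, W i) = a j * w := by
    intro j
    funext i
    rw [hc j]
    show w i * c j i = a j i * w i
    by_cases hi : w i = 0
    · simp [hi]
    · simp [a, hi, mul_comm]
  have hz : ∑ j, f j * a j = 0 := by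
    funext i
    rw [Finset.sum_apply]
    by_cases hi : w i = 0
    · simp [a, hi]
    · have h0 : ∑ j, f j * (x j : ∀ i, W i) = 0 := by
        simpa [Submodule.coe_sum] using congrArg (fun z : I => (z : ∀ i, W i)) h
      have h1 := congrFun h0 i
      rw [Finset.sum_apply] at h1
      simp only [hc, Pi.mul_apply, Pi.zero_apply] at h1
      have h2 : (∑ j, f j i * c j i) * w i = 0 := by
        rw [Finset.sum_mul, ← h1]
        exact Finset.sum_congr rfl fun j _ => by ring
      have h3 := (mul_eq_zero.1 h2).resolve_right hi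
      simpa [a, hi] using h3
  refine ⟨1, fun j _ => a j, fun _ => ⟨w, hw⟩, fun j => ?_, fun _ => hz⟩
  apply Subtype.ext
  simp [ha j]

/-- inclusion of the product of valuation rings in the product of fields -/
def incl : (∀ i, W i) →+* (ι → K) := RingHom.pi fun i => (W i).subtype.comp (Pi.evalRingHom _ i)

theorem incl_injective : Function.Injective (incl W) := fun a b h =>
  funext fun i => Subtype.ext (congrFun h i)

/-- the everywhere nonzero tuples -/
def M : Submonoid (∀ i, W i) where
  carrier := {v | ∀ i, v i ≠ 0}
  one_mem' _ := one_ne_zero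
  mul_mem' ha hb i := mul_ne_zero (ha i) (hb i)

theorem isLocalization :
    @IsLocalization _ _ (M W) (ι → K) _ (incl W).toAlgebra := by
  letI := (incl W).toAlgebra
  have surj : ∀ z : ι → K, ∃ x : (∀ i, W i) × M W, z * algebraMap _ _ (x.2 : ∀ i, W i) = algebraMap _ _ x.1 := by
    intro z
    have h : ∀ i, ∃ a s : W i, s ≠ 0 ∧ z i * (s : K) = (a : K) := by
      intro i
      rcases (W i).mem_or_inv_mem (z i) with hz | hz
      · exact ⟨⟨z i, hz⟩, 1, one_ne_zero, by simp⟩
      · by_cases h0 : z i = 0
        · exact ⟨0, 1, one_ne_zero, by simp [h0]⟩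
        · refine ⟨1, ⟨(z i)⁻¹, hz⟩, ?_, by simp [h0]⟩
          intro h
          exact inv_ne_zero h0 (congrArg Subtype.val h)
    choose a s hs he using h
    exact ⟨(a, ⟨s, hs⟩), funext he⟩
  refine (isLocalization_iff_isLocalizationMap _ _).2 ⟨?_, surj, fun h => ⟨1, by rw [incl_injective W h]⟩⟩
  intro v
  exact Pi.isUnit_iff.mpr fun i => isUnit_iff_ne_zero.2 fun h => v.2 i (Subtype.ext h)

end Groth.Agent.S7143.Aux

namespace Groth.Agent.S7143

/-- Every normal domain A with fraction field K is the fibre product V ×_L K for suitable rings V and L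
with maps A → V, V → L, K → L (together with the given A → K), where every ideal of V is flat (weak
dimension at most one) and V → L is flat, injective and an epimorphism of rings. -/
theorem result (A K : Type u) [CommRing A] [IsDomain A] [Field K] [Algebra A K]
    [IsFractionRing A K] [IsIntegrallyClosed A] :
    ∃ (V L : Type u) (_ : CommRing V) (_ : CommRing L) (f : A →+* V) (g : V →+* L) (h : K →+* L),
      g.comp f = h.comp (algebraMap A K) ∧
      (∀ I : Ideal V, Module.Flat V I) ∧ g.Flat ∧ Function.Injective g ∧ Epi (CommRingCat.ofHom g) ∧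
      ∀ (v : V) (k : K), g v = h k → ∃! a : A, f a = v ∧ algebraMap A K a = k := by
  classical
  let ι : Type u := {V : ValuationSubring K // Set.range (algebraMap A K) ⊆ (V.toSubring : Set K)}
  let W : ι → ValuationSubring K := fun i => i.1
  let f : A →+* ∀ i, W i := RingHom.pi fun i =>
    (algebraMap A K).codRestrict (W i).toSubring fun a => i.2 ⟨a, rfl⟩
  let h : K →+* (ι → K) := RingHom.pi fun _ => RingHom.id K
  letI := (Aux.incl W).toAlgebra
  haveI := Aux.isLocalization W
  refine ⟨∀ i, W i, ι → K, inferInstance, inferInstance, f, Aux.incl W, h, rfl,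
    Aux.ideal_flat W, IsLocalization.flat (ι → K) (Aux.M W), Aux.incl_injective W,
    IsLocalization.epi (Aux.M W) (ι → K), fun v k hvk => ?_⟩
  have hk : ∀ i : ι, k ∈ (W i).toSubring := fun i => by
    have h1 : ((v i : W i) : K) = k := congrFun hvk i
    rw [← h1]
    exact (v i).2
  have hint : IsIntegral A k := by
    have h1 : k ∈ (integralClosure (Subring.closure (Set.range (algebraMap A K))) K).toSubring := by
      rw [← iInf_valuationSubring_superset]
      exact Subring.mem_iInf.2 hk
    have h2 : IsIntegral (Subring.closure (Set.range (algebraMap A K))) k := h1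
    obtain ⟨p, hp, hp0⟩ := h2
    have hle : Subring.closure (Set.range (algebraMap A K)) ≤ (algebraMap A K).range :=
      Subring.closure_le.2 fun y hy => hy
    obtain ⟨q', hq', -, hmon⟩ := Polynomial.lifts_and_degree_eq_and_monic
      (f := (algebraMap A K).rangeRestrict) (p := p.map (Subring.inclusion hle))
      (by rw [Polynomial.lifts_iff_coeff_lifts]; exact fun n => (algebraMap A K).rangeRestrict_surjective _)
      (hp.map _)
    refine ⟨q', hmon, ?_⟩
    have h3 : Polynomial.eval₂ (algebraMap A K).range.subtype k (p.map (Subring.inclusion hle)) = 0 := by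
      rw [Polynomial.eval₂_map]
      exact hp0
    rw [← hq', Polynomial.eval₂_map] at h3
    exact h3
  obtain ⟨a, ha⟩ := IsIntegrallyClosed.isIntegral_iff.1 hint
  refine ⟨a, ⟨?_, ha⟩, fun b hb => IsFractionRing.injective A K (hb.2.trans ha.symm)⟩
  funext i
  apply Subtype.ext
  show algebraMap A K a = _
  rw [ha]
  exact (congrFun hvk i).symm

end Groth.Agent.S7143
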