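import Groth.Statements.S7144
import Mathlib

set_option autoImplicit false
universe u
open CAlg

namespace Groth.Agent.S7144

/-- (1) ⇔ (2): let R be a nonzero ring. Then for all a, b in R one of a, b divides the other if and only
if R is local and every finitely generated ideal of R is principal. (The further equivalence with
the total ordering of the set of ideals by inclusion is standard and not restated here.) -/
theorem result (R : Type u) [CommRing R] [Nontrivial R] :
    PreValuationRing R ↔ IsLocalRing R ∧ IsBezout R := by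
  constructor
  · intro h
    have h' := PreValuationRing.cond (A := R)
    refine ⟨IsLocalRing.of_isUnit_or_isUnit_one_sub_self ?_, ?_⟩
    · intro a
      obtain ⟨c, hc | hc⟩ := h' a (1 - a)
      · left; exact IsUnit.of_mul_eq_one (c+1) (show a * (c+1) = 1 by linear_combination hc)
      · right; exact IsUnit.of_mul_eq_one (c+1) (show (1-a) * (c+1) = 1 by linear_combination hc)
    · rw [IsBezout.iff_span_pair_isPrincipal]
      intro x y
      obtain ⟨c, hc | hc⟩ := h' x y
      · refine ⟨⟨x, ?_⟩⟩
        refine le_antisymm ?_ (Submodule.span_mono (by simp))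
        rw [Ideal.span_le]; rintro z (rfl|rfl)
        · exact Ideal.mem_span_singleton_self _
        · exact Ideal.mem_span_singleton.mpr ⟨c, hc.symm⟩
      · refine ⟨⟨y, ?_⟩⟩
        refine le_antisymm ?_ (Submodule.span_mono (by simp))
        rw [Ideal.span_le]; rintro z (rfl|rfl)
        · exact Ideal.mem_span_singleton.mpr ⟨c, hc.symm⟩
        · exact Ideal.mem_span_singleton_self _
  · rintro ⟨hl, hb⟩
    refine ⟨fun a b => ?_⟩
    obtain ⟨g, hg⟩ := (IsBezout.span_pair_isPrincipal a b).principal
    have hga : g ∣ a := Ideal.mem_span_singleton.mp ((le_of_eq hg) (Ideal.subset_span (by simp)))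
    have hgb : g ∣ b := Ideal.mem_span_singleton.mp ((le_of_eq hg) (Ideal.subset_span (by simp)))
    obtain ⟨a', rfl⟩ := hga
    obtain ⟨b', rfl⟩ := hgb
    obtain ⟨x, y, hxy⟩ := Ideal.mem_span_pair.mp (show g ∈ Ideal.span {g*a', g*b'} by
      rw [hg]; exact Ideal.mem_span_singleton_self g)
    by_cases hg0 : g = 0
    · exact ⟨0, Or.inl (by simp [hg0])⟩
    have : ¬ IsUnit (1 - (x*a' + y*b')) := fun hu => hg0 (hu.mul_left_eq_zero.mp (by linear_combination -hxy) )
    have hu : IsUnit (x*a' + y*b') := (IsLocalRing.isUnit_or_isUnit_one_sub_self _).resolve_right this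
    rcases IsLocalRing.isUnit_or_isUnit_of_isUnit_add hu with h | h
    · obtain ⟨u, hu⟩ := isUnit_of_mul_isUnit_right h
      refine ⟨↑u⁻¹ * b', Or.inl ?_⟩
      rw [← hu]; rw [mul_assoc, ← mul_assoc (u:R)]; simp
    · obtain ⟨u, hu⟩ := isUnit_of_mul_isUnit_right h
      refine ⟨↑u⁻¹ * a', Or.inr ?_⟩
      rw [← hu]; rw [mul_assoc, ← mul_assoc (u:R)]; simp

end Groth.Agent.S7144
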