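import Groth.Statements.S7147
import Mathlib
import Groth.Agent.Lib.H6.SerreProp

set_option autoImplicit false
set_option backward.isDefEq.respectTransparency.types false
set_option maxHeartbeats 1000000
set_option linter.all false
universe u
open CAlg

namespace Groth.Agent.S7147
open Groth.Agent

/-- Let R be a ring, M a finitely presented R-module and x a maximal ideal of R with residue field κ(x);
write M(x) = M/xM and let B(x) ⊆ M(x) be the orthogonal of the image of Hom_R(M, R) in the dual of
M(x), i.e. the classes of those m in M with φ(m) in x for every linear form φ on M, and V(x) =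
M(x)/B(x). For s_1, ..., s_r in M the following are equivalent: (1) there is f in R, f not in x,
such that the map R_f^r → M_f given by the s_i is the inclusion of a direct summand; (2) the images
of s_1, ..., s_r in V(x) are linearly independent over κ(x). -/
theorem result (R : Type u) [CommRing R] (M : Type u)
    [AddCommGroup M] [Module R M] [Module.FinitePresentation R M] (x : Ideal R) [x.IsMaximal]
    (r : ℕ) (s : Fin r → M) :
    let Mx := M ⧸ (x • ⊤ : Submodule R M)
    let Bx : Submodule (R ⧸ x) Mx :=
      Submodule.span (R ⧸ x) ((x • ⊤ : Submodule R M).mkQ '' {m : M | ∀ φ : M →ₗ[R] R, φ m ∈ x})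
    (∃ f : R, f ∉ x ∧
      ∃ g : LocalizedModule (Submonoid.powers f) M →ₗ[Localization.Away f] (Fin r → Localization.Away f),
        g ∘ₗ Fintype.linearCombination (Localization.Away f)
            (fun i => LocalizedModule.mkLinearMap (Submonoid.powers f) M (s i)) = LinearMap.id) ↔
    LinearIndependent (R ⧸ x) (fun i => Bx.mkQ ((x • ⊤ : Submodule R M).mkQ (s i))) := by
    intro Mx Bx
    classical
    let X : MaximalSpectrum R := ⟨x, inferInstance⟩
    refine Iff.trans ?_ (H6SerreProp.indep_iff X s).symm
    constructor
    · rintro ⟨f, hf, g, hg⟩
      let L := LocalizedModule.mkLinearMap (Submonoid.powers f) M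
      have hgs : ∀ b, g (L (s b)) = Pi.single b 1 := by
        intro b
        have h1 := LinearMap.congr_fun hg (Pi.single b 1)
        rw [LinearMap.comp_apply, Fintype.linearCombination_apply_single, one_smul] at h1
        exact h1
      choose φ t hφ using fun a : Fin r =>
        Module.FinitePresentation.exists_lift_of_isLocalizedModule (Submonoid.powers f)
          (Algebra.linearMap R (Localization.Away f))
          ((((LinearMap.proj a).comp g).restrictScalars R).comp L)
      refine ⟨φ, fun hdet => ?_⟩
      have hev : ∀ a b, algebraMap R (Localization.Away f) (φ a (s b)) =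
          algebraMap R (Localization.Away f) ((Matrix.diagonal fun a => ((t a : R))) a b) := by
        intro a b
        have h1 : algebraMap R (Localization.Away f) (φ a (s b)) = t a • (g (L (s b)) a) :=
          LinearMap.congr_fun (hφ a) (s b)
        rw [h1, hgs b, Matrix.diagonal_apply, Pi.single_apply, Submonoid.smul_def, Algebra.smul_def]
        split_ifs with h2 <;> simp
      have hd : algebraMap R (Localization.Away f) (Matrix.of fun a b => φ a (s b)).det =
          algebraMap R (Localization.Away f) (∏ a, (t a : R)) := by
        rw [← Matrix.det_diagonal, RingHom.map_det, RingHom.map_det]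
        congr 1
        ext a b
        exact hev a b
      obtain ⟨c, hc⟩ := IsLocalization.exists_of_eq (M := Submonoid.powers f) hd
      have hnot : ∀ u : Submonoid.powers f, (u : R) ∉ x := by
        rintro ⟨u, n, rfl⟩ hu
        exact hf (Ideal.IsPrime.mem_of_pow_mem inferInstance n hu)
      have hmem : (c : R) * ∏ a, (t a : R) ∈ x := hc ▸ Ideal.mul_mem_left _ _ hdet
      rcases Ideal.IsPrime.mem_or_mem inferInstance hmem with h | h
      · exact hnot c h
      · obtain ⟨a, -, ha⟩ := (Ideal.IsPrime.prod_mem_iff).1 h
        exact hnot (t a) ha
    · rintro ⟨φ, hd⟩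
      let A := Matrix.of fun a b => φ a (s b)
      refine ⟨A.det, hd, ?_⟩
      let L := LocalizedModule.mkLinearMap (Submonoid.powers A.det) M
      let Rd := Localization.Away A.det
      let ψ : Fin r → (M →ₗ[R] R) := fun a => ∑ b, A.adjugate a b • φ b
      have hψ : ∀ a c, ψ a (s c) = A.det * (if a = c then 1 else 0) := by
        intro a c
        have h1 := congrFun (congrFun (Matrix.adjugate_mul A) a) c
        rw [Matrix.smul_apply, Matrix.one_apply, smul_eq_mul, Matrix.mul_apply] at h1
        rw [← h1]
        simp [ψ, A]
      let g : LocalizedModule (Submonoid.powers A.det) M →ₗ[Rd] (Fin r → Rd) := LinearMap.pi fun a =>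
        IsLocalization.Away.invSelf (S := Rd) A.det •
          IsLocalizedModule.mapExtendScalars (Submonoid.powers A.det) L (Algebra.linearMap R Rd) Rd (ψ a)
      refine ⟨g, LinearMap.pi_ext' fun c => LinearMap.ext_ring ?_⟩
      rw [LinearMap.comp_apply, LinearMap.comp_apply, LinearMap.single_apply,
        Fintype.linearCombination_apply_single, one_smul, LinearMap.comp_apply, LinearMap.id_apply]
      funext a
      simp only [g, LinearMap.pi_apply, LinearMap.smul_apply, smul_eq_mul]
      have h2 : IsLocalizedModule.mapExtendScalars (Submonoid.powers A.det) L (Algebra.linearMap R Rd) Rd (ψ a)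
          (L (s c)) = algebraMap R Rd (ψ a (s c)) := IsLocalizedModule.map_apply _ _ _ _ _
      erw [h2]
      rw [hψ, map_mul, ← mul_assoc, mul_comm (IsLocalization.Away.invSelf _),
        IsLocalization.Away.mul_invSelf, one_mul, LinearMap.single_apply, Pi.single_apply]
      split_ifs with h3 <;> simp

end Groth.Agent.S7147
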