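import Groth.Statements.S7153
import Mathlib
import Groth.Agent.Lib.ArtinReesHom

set_option autoImplicit false
universe u
open Groth.Agent.ArtinReesHom
open Submodule
open CAlg

namespace Groth.Agent.S7153

/-- Let A be a Noetherian ring, I an ideal and K → L → M a complex of finite A-modules with maps α, β
and homology H = Ker β / Im α; for n ≥ 0 let H_n be the homology of the induced complex K/IⁿK →
L/IⁿL → M/IⁿM, which is β⁻¹(IⁿM)/(Im α + IⁿL). Then there is c > 0 such that for every n: (i) the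
image of H_(n+c) → H_n is contained in, hence equal to, the image of H → H_n; (ii) the kernel and
the cokernel of H/IⁿH → H_n are annihilated by I^c. Everything is phrased with representatives in L. -/
theorem result (A : Type u) [CommRing A] [IsNoetherianRing A] (I : Ideal A)
    (K L M : Type u) [AddCommGroup K] [Module A K] [Module.Finite A K] [AddCommGroup L] [Module A L]
    [Module.Finite A L] [AddCommGroup M] [Module A M] [Module.Finite A M]
    (α : K →ₗ[A] L) (β : L →ₗ[A] M) (hαβ : β ∘ₗ α = 0) :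
    ∃ c : ℕ, 0 < c ∧ ∀ n : ℕ,
      (∀ y ∈ (I ^ (n + c) • ⊤ : Submodule A M).comap β,
        ∃ z ∈ LinearMap.ker β, y - z ∈ LinearMap.range α ⊔ (I ^ n • ⊤ : Submodule A L)) ∧
      (∀ z ∈ LinearMap.ker β, z ∈ LinearMap.range α ⊔ (I ^ n • ⊤ : Submodule A L) →
        ∀ a ∈ I ^ c, a • z ∈ LinearMap.range α ⊔ I ^ n • LinearMap.ker β) ∧
      (∀ y ∈ (I ^ n • ⊤ : Submodule A M).comap β, ∀ a ∈ I ^ c,
        ∃ z ∈ LinearMap.ker β, a • y - z ∈ LinearMap.range α ⊔ (I ^ n • ⊤ : Submodule A L)) := by
  obtain ⟨c1, h1⟩ := exists_AR I β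
  obtain ⟨c2, h2⟩ := exists_AR_smul I (LinearMap.ker β)
  refine ⟨c1 + c2 + 1, by omega, fun n => ?_⟩
  have key : ∀ y : L, β y ∈ (I ^ (n + c1) • ⊤ : Submodule A M) →
      ∃ z ∈ LinearMap.ker β, y - z ∈ LinearMap.range α ⊔ (I ^ n • ⊤ : Submodule A L) := by
    intro y hy
    obtain ⟨w, hw, e⟩ := h1 n ⟨LinearMap.mem_range_self β y, hy⟩
    exact ⟨y - w, by simp [e], by rw [sub_sub_cancel]; exact Submodule.mem_sup_right hw⟩
  refine ⟨fun y hy => key y (pow_mono I (by omega) hy), fun z hz hz' a ha => ?_, fun y hy a ha => ?_⟩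
  · obtain ⟨_, ⟨k, rfl⟩, w, hw, rfl⟩ := Submodule.mem_sup.mp hz'
    rw [smul_add]
    refine Submodule.add_mem_sup (Submodule.smul_mem _ _ (LinearMap.mem_range_self α k)) ?_
    have hαk : β (α k) = 0 := LinearMap.congr_fun hαβ k
    have hwk : w ∈ LinearMap.ker β := by
      have := LinearMap.mem_ker.mp hz
      rw [map_add, hαk, zero_add] at this
      exact this
    exact h2 n w hwk hw a (Ideal.pow_le_pow_right (by omega) ha)
  · refine key (a • y) ?_
    rw [map_smul]
    refine pow_mono I (show n + c1 ≤ (c1 + c2 + 1) + n by omega) ?_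
    rw [pow_add, Submodule.mul_smul]
    exact Submodule.smul_mem_smul ha hy

end Groth.Agent.S7153
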