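import Groth.Statements.S7160
import Mathlib
import Groth.Prelude.Def_Wider
-- import your own Groth.Agent.* helpers here

set_option autoImplicit false
universe u
open CategoryTheory CategoryTheory.Pretriangulated
attribute [local instance] HasDerivedCategory.standard
open CAlg

namespace Groth.Agent.S7160

theorem homology_smul (R : Type u) [CommRing R] (f : R) (M : Dual.D R) (i : ℤ) :
    (DerivedCategory.homologyFunctor (ModuleCat.{u} R) i).map (f • 𝟙 M) =
      f • 𝟙 ((DerivedCategory.homologyFunctor (ModuleCat.{u} R) i).obj M) := by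
  have e := DerivedCategory.Q.objObjPreimageIso M
  let K := DerivedCategory.Q.objPreimage M
  have h1 : f • 𝟙 M = e.inv ≫ DerivedCategory.Q.map (f • 𝟙 K) ≫ e.hom := by
    rw [Functor.map_smul, CategoryTheory.Functor.map_id]
    simp
  have h2 : (HomologicalComplex.homologyFunctor (ModuleCat.{u} R) (ComplexShape.up ℤ) i).map (f • 𝟙 K) =
      f • 𝟙 _ := by
    change ShortComplex.homologyMap ((HomologicalComplex.shortComplexFunctor (ModuleCat.{u} R) (ComplexShape.up ℤ) i).map (f • 𝟙 K)) = _
    rw [show (HomologicalComplex.shortComplexFunctor (ModuleCat.{u} R) (ComplexShape.up ℤ) i).map (f • 𝟙 K) =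
      f • 𝟙 ((HomologicalComplex.shortComplexFunctor (ModuleCat.{u} R) (ComplexShape.up ℤ) i).obj K) by
        ext <;> rfl, ShortComplex.homologyMap_smul, ShortComplex.homologyMap_id]
    rfl
  have h3 := (DerivedCategory.homologyFunctorFactors (ModuleCat.{u} R) i).hom.naturality (f • 𝟙 K)
  rw [h2, Linear.comp_smul, Category.comp_id] at h3
  have h4 : (DerivedCategory.homologyFunctor (ModuleCat.{u} R) i).map (DerivedCategory.Q.map (f • 𝟙 K)) =
      f • 𝟙 _ := by
    refine (((DerivedCategory.homologyFunctorFactors (ModuleCat.{u} R) i).app K).cancel_iso_hom_right _ _).mp ?_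
    rw [Iso.app_hom]
    refine h3.trans ?_
    rw [Linear.smul_comp, Category.id_comp]
  rw [h1, Functor.map_comp, Functor.map_comp, h4]
  rw [Linear.smul_comp, Category.id_comp, Linear.comp_smul, ← Functor.map_comp, e.inv_hom_id, CategoryTheory.Functor.map_id]

/-- Let R be a ring, f an element of R, M an object of D(R) and C the cone of f : M → M. Suppose that
H^i(M)_f = 0 whenever i < 0 (every element of H^i(M) is killed by a power of f) and that H^i(C) = 0
whenever i < -1. Then H^i(M) vanishes for every i < 0. -/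
theorem result (R : Type u) [CommRing R] (f : R) (M C : Dual.D R)
    (g : M ⟶ C) (h : C ⟶ M⟦(1 : ℤ)⟧) (hT : Triangle.mk (f • 𝟙 M) g h ∈ distinguishedTriangles)
    (hloc : ∀ i : ℤ, i < 0 → ∀ x : Dual.HD R M i, ∃ n : ℕ, f ^ n • x = 0)
    (hC : ∀ i : ℤ, i < -1 → Subsingleton (Dual.HD R C i)) :
    ∀ i : ℤ, i < 0 → Subsingleton (Dual.HD R M i) := by
  intro i hi
  have hsub := hC (i - 1) (by omega)
  have hex := DerivedCategory.HomologySequence.exact₁ (Triangle.mk (f • 𝟙 M) g h) hT (i - 1) i (by omega)
  have hz : ∀ y : Dual.HD R M i, f • y = 0 → y = 0 := by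
    intro y hy
    rw [ShortComplex.moduleCat_exact_iff] at hex
    obtain ⟨z, hz⟩ := hex y (by
      change ((DerivedCategory.homologyFunctor (ModuleCat.{u} R) i).map (f • 𝟙 M)) y = 0
      rw [homology_smul]
      exact hy)
    rw [← hz]
    erw [hsub.elim z 0]
    exact map_zero _
  refine subsingleton_of_forall_eq 0 fun x => ?_
  obtain ⟨n, hn⟩ := hloc i hi x
  induction n generalizing x with
  | zero => simpa using hn
  | succ n ih =>
    apply hz
    exact ih (f • x) (by rw [← mul_smul, ← pow_succ]; exact hn)

end Groth.Agent.S7160
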