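import Groth.Statements.S7161
import Groth.Agent.Lib.H1TorRes
import Mathlib

set_option autoImplicit false
universe u
open CategoryTheory
open CAlg

namespace Groth.Agent.S7161

open Groth.Agent.H1TorRes
open scoped TensorProduct Pointwise

section ZeroH

variable {A : Type u} [CommRing A] {F : ℕ → Type u} [∀ i, AddCommGroup (F i)] [∀ i, Module A (F i)]
variable (d : ∀ i, F (i + 1) →ₗ[A] F i)

/-- zero on the homology of the tensored complexes -/
def ZeroH {X Y : Type u} [AddCommGroup X] [Module A X] [AddCommGroup Y] [Module A Y] (g : X →ₗ[A] Y) : Prop :=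
  ∀ (i : ℕ) (x : X ⊗[A] F i), x ∈ Z d X i → g.rTensor (F i) x ∈ LinearMap.range ((d i).lTensor Y)

variable {X Y W V : Type u} [AddCommGroup X] [Module A X] [AddCommGroup Y] [Module A Y]
  [AddCommGroup W] [Module A W] [AddCommGroup V] [Module A V]

theorem zeroH_comp_right {g : X →ₗ[A] Y} (h : ZeroH d g) (f : W →ₗ[A] X) : ZeroH d (g.comp f) := fun i x hx => by
  rw [LinearMap.rTensor_comp_apply]
  exact h i _ (z_map d f i hx)

theorem zeroH_comp_left {g : X →ₗ[A] Y} (h : ZeroH d g) (f : Y →ₗ[A] W) : ZeroH d (f.comp g) := fun i x hx => by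
  obtain ⟨v, hv⟩ := h i x hx
  exact ⟨f.rTensor _ v, by rw [← natural, hv, ← LinearMap.rTensor_comp_apply]⟩

theorem zeroH_coprod {g : X →ₗ[A] W} {h : Y →ₗ[A] W} (hg : ZeroH d g) (hh : ZeroH d h) : ZeroH d (g.coprod h) :=
  fun i x hx => by
    show ((g.comp (LinearMap.fst A X Y) + h.comp (LinearMap.snd A X Y)).rTensor (F i)) x ∈ _
    rw [LinearMap.rTensor_add, LinearMap.add_apply]
    exact add_mem (zeroH_comp_right d hg _ i x hx) (zeroH_comp_right d hh _ i x hx)

theorem zeroH_step [∀ i, Module.Flat A (F i)] (hdd : ∀ i, (d i).comp (d (i + 1)) = 0)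
    {S W₁ Q₁ M : Type u} [AddCommGroup S] [Module A S] [AddCommGroup W₁] [Module A W₁] [AddCommGroup Q₁] [Module A Q₁]
    [AddCommGroup M] [Module A M]
    (ι : W →ₗ[A] V) (π : V →ₗ[A] S) (hι : Function.Injective ι) (hπ : Function.Surjective π) (he : Function.Exact ι π)
    (u : S →ₗ[A] M) (ω : W →ₗ[A] W₁) (ι₁ : W₁ →ₗ[A] Q₁) (φ : V →ₗ[A] Q₁) (h₁ : Q₁ →ₗ[A] M)
    (hc : φ.comp ι = ι₁.comp ω) (hz : h₁.comp ι₁ = 0) (hu : h₁.comp φ = u.comp π)
    (hω : ZeroH d ω) (hh : ZeroH d h₁) : ZeroH d u := by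
  intro i x hx
  obtain ⟨z, rfl⟩ := LinearMap.rTensor_surjective (F i) hπ x
  suffices ∃ v, φ.rTensor _ z - ι₁.rTensor (F i) v ∈ Z d Q₁ i by
    obtain ⟨v, hv⟩ := this
    have := hh i _ hv
    rwa [map_sub, ← LinearMap.rTensor_comp_apply, ← LinearMap.rTensor_comp_apply, hz, hu, LinearMap.rTensor_zero,
      LinearMap.zero_apply, sub_zero, LinearMap.rTensor_comp_apply] at this
  cases i with
  | zero => exact ⟨0, Submodule.mem_top⟩
  | succ i =>
    have h0 : π.rTensor (F i) ((d i).lTensor V z) = 0 := by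
      rw [natural]
      exact hx
    obtain ⟨w, hw⟩ := (rTensor_exact (F i) he hπ _).mp h0
    obtain ⟨v, hv⟩ := hω i w (z_reflect d ι hι i (by rw [hw]; exact range_le_z d hdd i z))
    refine ⟨v, ?_⟩
    show (d i).lTensor Q₁ (_ - _) = 0
    rw [map_sub, ← natural, ← natural, hv, ← hw, ← LinearMap.rTensor_comp_apply, ← LinearMap.rTensor_comp_apply, hc,
      sub_self]

theorem exists_zero [∀ i, Module.Flat A (F i)] (hdd : ∀ i, (d i).comp (d (i + 1)) = 0) [IsNoetherianRing A]
    (I J : Ideal A) (hJ : J.FG) (hJI : J ≤ I)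
    (hs : ∀ a ∈ I, ∀ {X : Type u} [AddCommGroup X] [Module A X], ZeroH d (LinearMap.lsmul A X a))
    (M : Type u) [AddCommGroup M] [Module A M] [Module.Finite A M] :
    ∃ n, ∀ k, n ≤ k → ZeroH d (J ^ k • ⊤ : Submodule A M).subtype := by
  induction J, hJ using Submodule.fg_induction generalizing M with
  | singleton a =>
    have haI : a ∈ I := hJI (Submodule.mem_span_singleton_self a)
    obtain ⟨c, hc⟩ := Ideal.exists_pow_inf_eq_pow_smul (Ideal.span {a}) (LinearMap.ker (LinearMap.lsmul A M a))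
    refine ⟨c + 2, fun k hk => ?_⟩
    let X : Submodule A M := Ideal.span {a} ^ (c + 1) • ⊤
    let μ : X →ₗ[A] M := (LinearMap.lsmul A M a).comp X.subtype
    have hμ : Function.Injective μ := by
      rw [injective_iff_map_eq_zero]
      intro y hy
      have : (y : M) ∈ Ideal.span {a} ^ (c + 1) • ⊤ ⊓ LinearMap.ker (LinearMap.lsmul A M a) := ⟨y.2, hy⟩
      rw [hc (c + 1) (by omega), show c + 1 - c = 1 by omega, pow_one, Submodule.ideal_span_singleton_smul] at this
      obtain ⟨z, hz, hzy⟩ := (Submodule.mem_smul_pointwise_iff_exists _ _ _).mp this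
      exact Subtype.ext (hzy.symm.trans hz.2)
    have hmem : ∀ x : (Ideal.span {a} ^ k • ⊤ : Submodule A M), (x : M) ∈ LinearMap.range μ := by
      intro x
      have : (x : M) ∈ Ideal.span {a} ^ (c + 1 + 1) • (⊤ : Submodule A M) :=
        Submodule.smul_mono (Ideal.pow_le_pow_right (by omega)) le_rfl x.2
      rw [pow_succ', mul_smul, Submodule.ideal_span_singleton_smul] at this
      obtain ⟨z, hz, hzx⟩ := (Submodule.mem_smul_pointwise_iff_exists _ _ _).mp this
      exact ⟨⟨z, hz⟩, hzx⟩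
    have e : (Ideal.span {a} ^ k • ⊤ : Submodule A M).subtype = (LinearMap.lsmul A M a).comp (X.subtype.comp
        ((LinearEquiv.ofInjective μ hμ).symm.toLinearMap.comp
          ((Ideal.span {a} ^ k • ⊤ : Submodule A M).subtype.codRestrict (LinearMap.range μ) hmem))) :=
      LinearMap.ext fun x => (congrArg Subtype.val
        ((LinearEquiv.ofInjective μ hμ).apply_symm_apply ⟨(x : M), hmem x⟩)).symm
    show ZeroH d (Ideal.span {a} ^ k • ⊤ : Submodule A M).subtype
    rw [e]
    exact zeroH_comp_right d (hs a haI) _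
  | sup J₁ J₂ h1 h2 ih1 ih2 =>
    obtain ⟨n1, hn1⟩ := ih1 (le_sup_left.trans hJI) M
    obtain ⟨n2, hn2⟩ := ih2 (le_sup_right.trans hJI) M
    let k1 := max n1 n2
    let W₁ : Submodule A M := J₁ ^ k1 • ⊤ ⊓ J₂ ^ k1 • ⊤
    obtain ⟨n', hn'⟩ := ih2 (le_sup_right.trans hJI) W₁
    obtain ⟨c, hc⟩ := Ideal.exists_pow_inf_eq_pow_smul J₂ W₁
    let k2 := max (n' + c) k1
    let A₂ : Submodule A M := J₁ ^ k2 • ⊤
    let B₂ : Submodule A M := J₂ ^ k2 • ⊤
    have hA : A₂ ≤ J₁ ^ k1 • ⊤ := Submodule.smul_mono (Ideal.pow_le_pow_right (le_max_right _ _)) le_rfl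
    have hB : B₂ ≤ J₂ ^ k1 • ⊤ := Submodule.smul_mono (Ideal.pow_le_pow_right (le_max_right _ _)) le_rfl
    let π : (A₂ × B₂) →ₗ[A] ↥(A₂ ⊔ B₂) :=
      (Submodule.inclusion (le_sup_left : A₂ ≤ A₂ ⊔ B₂)).coprod (Submodule.inclusion (le_sup_right : B₂ ≤ A₂ ⊔ B₂))
    have hπ : Function.Surjective π := fun s => by
      obtain ⟨y, hy, z, hz, h⟩ := Submodule.mem_sup.mp s.2
      exact ⟨(⟨y, hy⟩, ⟨z, hz⟩), Subtype.ext h⟩
    let ι : ↥(A₂ ⊓ B₂) →ₗ[A] A₂ × B₂ :=
      (Submodule.inclusion (inf_le_left : A₂ ⊓ B₂ ≤ A₂)).prod (-(Submodule.inclusion (inf_le_right : A₂ ⊓ B₂ ≤ B₂)))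
    have hι : Function.Injective ι := fun y z h => Submodule.inclusion_injective (inf_le_left : A₂ ⊓ B₂ ≤ A₂) (congrArg Prod.fst h)
    have he : Function.Exact ι π := fun y => by
      constructor
      · intro hy
        have h0 : (y.1 : M) + (y.2 : M) = 0 := congrArg Subtype.val hy
        have hb : (y.1 : M) ∈ B₂ := by rw [eq_neg_of_add_eq_zero_left h0]; exact B₂.neg_mem y.2.2
        refine ⟨⟨(y.1 : M), y.1.2, hb⟩, Prod.ext rfl (Subtype.ext ?_)⟩
        show -(y.1 : M) = y.2
        rw [eq_neg_of_add_eq_zero_left h0, neg_neg]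
      · rintro ⟨w, rfl⟩
        exact Subtype.ext (show (w : M) + -(w : M) = 0 from add_neg_cancel _)
    let ι₁ : W₁ →ₗ[A] (J₁ ^ k1 • ⊤ : Submodule A M) × (J₂ ^ k1 • ⊤ : Submodule A M) :=
      (Submodule.inclusion inf_le_left).prod (-(Submodule.inclusion inf_le_right))
    let ω : ↥(A₂ ⊓ B₂) →ₗ[A] W₁ := Submodule.inclusion (inf_le_inf hA hB)
    have hω : ZeroH d ω := by
      have hmem : ∀ x, ω x ∈ J₂ ^ (k2 - c) • (⊤ : Submodule A W₁) := fun x => by
        have : (x : M) ∈ J₂ ^ k2 • ⊤ ⊓ W₁ := ⟨x.2.2, inf_le_inf hA hB x.2⟩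
        rw [hc k2 (le_trans (Nat.le_add_left c n') (le_max_left _ _))] at this
        have h3 : (x : M) ∈ J₂ ^ (k2 - c) • W₁ := Submodule.smul_mono le_rfl inf_le_right this
        rw [← Submodule.range_subtype W₁, ← Submodule.map_top, ← Submodule.map_smul''] at h3
        obtain ⟨y, hy, hyx⟩ := Submodule.mem_map.mp h3
        rwa [show ω x = y from Subtype.ext hyx.symm]
      have e : ω = (J₂ ^ (k2 - c) • ⊤ : Submodule A W₁).subtype.comp (ω.codRestrict _ hmem) := rfl
      rw [e]
      exact zeroH_comp_right d (hn' _ (by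
        have : n' + c ≤ k2 := le_max_left _ _
        omega)) _
    let h₁ := (J₁ ^ k1 • ⊤ : Submodule A M).subtype.coprod (J₂ ^ k1 • ⊤ : Submodule A M).subtype
    have hu : ZeroH d (A₂ ⊔ B₂).subtype :=
      zeroH_step d hdd ι π hι hπ he _ ω ι₁ ((Submodule.inclusion hA).prodMap (Submodule.inclusion hB)) h₁
        (LinearMap.ext fun x => Prod.ext rfl rfl)
        (LinearMap.ext fun x => show (x : M) + -(x : M) = 0 from add_neg_cancel _)
        (LinearMap.ext fun x => rfl) hω
        (zeroH_coprod d (hn1 k1 (le_max_left _ _)) (hn2 k1 (le_max_right _ _)))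
    refine ⟨k2 + k2, fun k hk => ?_⟩
    have hle : (J₁ ⊔ J₂) ^ k • (⊤ : Submodule A M) ≤ A₂ ⊔ B₂ := by
      rw [← Submodule.sup_smul]
      exact Submodule.smul_mono ((Ideal.pow_le_pow_right hk).trans Ideal.sup_pow_add_le_pow_sup_pow) le_rfl
    have e : ((J₁ ⊔ J₂) ^ k • ⊤ : Submodule A M).subtype = (A₂ ⊔ B₂).subtype.comp (Submodule.inclusion hle) := rfl
    rw [e]
    exact zeroH_comp_right d hu _

end ZeroH

section Tor

variable {A : Type u} [CommRing A] {N : ModuleCat.{u} A} (P : ProjectiveResolution N)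

theorem tor_map_eq_zero {X Y : ModuleCat.{u} A} (g : X ⟶ Y) (p : ℕ)
    (h : ∀ x : X ⊗[A] cF P.complex p, x ∈ Z (cd P.complex) X p →
      g.hom.rTensor _ x ∈ LinearMap.range ((cd P.complex p).lTensor Y)) :
    ((Tor (ModuleCat.{u} A) p).map g).app N = 0 := by
  let α := (MonoidalCategory.tensoringLeft (ModuleCat.{u} A)).map g
  let φ := (NatTrans.mapHomologicalComplex α (ComplexShape.down ℕ)).app P.complex
  have h0 : HomologicalComplex.homologyMap φ p = 0 := by
    rw [← cancel_epi (HomologicalComplex.homologyπ _ p), Limits.comp_zero, HomologicalComplex.homologyπ_naturality]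
    refine ModuleCat.hom_ext (LinearMap.ext fun c => ?_)
    let K := ((((MonoidalCategory.tensoringLeft (ModuleCat.{u} A)).obj X).mapHomologicalComplex (ComplexShape.down ℕ)).obj P.complex)
    let L := ((((MonoidalCategory.tensoringLeft (ModuleCat.{u} A)).obj Y).mapHomologicalComplex (ComplexShape.down ℕ)).obj P.complex)
    have hc : (K.iCycles p).hom c ∈ Z (cd P.complex) X p := by
      cases p with
      | zero => exact (Submodule.mem_top (R := A) (M := X ⊗[A] cF P.complex 0))
      | succ p => exact congr($(K.iCycles_d (p + 1) p).hom c)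
    obtain ⟨v, hv⟩ := h _ hc
    have hcyc : (HomologicalComplex.cyclesMap φ p).hom c = (L.toCycles (p + 1) p).hom v := by
      apply (ModuleCat.mono_iff_injective (L.iCycles p)).1 inferInstance
      exact (congr($(HomologicalComplex.cyclesMap_i φ p).hom c)).trans
        (hv.symm.trans (congr($(L.toCycles_i (p + 1) p).hom v)).symm)
    show (L.homologyπ p).hom ((HomologicalComplex.cyclesMap φ p).hom c) = 0
    rw [hcyc]
    exact congr($(L.toCycles_comp_homologyπ (p + 1) p).hom v)
  refine (ProjectiveResolution.leftDerived_app_eq α P p).trans ?_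
  refine (congrArg (fun t => (P.isoLeftDerivedObj ((MonoidalCategory.tensoringLeft (ModuleCat.{u} A)).obj X) p).hom ≫
    t ≫ (P.isoLeftDerivedObj ((MonoidalCategory.tensoringLeft (ModuleCat.{u} A)).obj Y) p).inv) h0).trans ?_
  exact (congrArg (_ ≫ ·) Limits.zero_comp).trans Limits.comp_zero

theorem smul_zeroH {I : Ideal A} (hN : ∀ a ∈ I, ∀ y : N, a • y = 0) (a : A) (ha : a ∈ I) :
    ∀ {X : Type u} [AddCommGroup X] [Module A X], ZeroH (cd P.complex) (LinearMap.lsmul A X a) := by
  intro X _ _ i x hx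
  let f : P.complex ⟶ P.complex := a • 𝟙 P.complex
  have hf : f ≫ P.π = 0 := by
    refine HomologicalComplex.to_single_hom_ext ?_
    refine ModuleCat.hom_ext (LinearMap.ext fun y => ?_)
    exact (map_smul (P.π.f 0).hom a y).trans (hN a ha _)
  let H := ProjectiveResolution.liftHomotopyZero f hf
  let h : cF P.complex i →ₗ[A] cF P.complex (i + 1) := (H.hom i (i + 1)).hom
  refine ⟨h.lTensor X x, ?_⟩
  have e1 : (LinearMap.lsmul A X a).rTensor (cF P.complex i) x = (LinearMap.lsmul A (cF P.complex i) a).lTensor X x := by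
    refine LinearMap.congr_fun (TensorProduct.ext' fun m y => ?_) x
    show (a • m) ⊗ₜ[A] y = m ⊗ₜ[A] (a • y)
    exact TensorProduct.smul_tmul a m y
  rw [e1]
  cases i with
  | zero =>
    have e : LinearMap.lsmul A (cF P.complex 0) a = (cd P.complex 0).comp h := by
      refine LinearMap.ext fun y => ?_
      have h2 := H.comm 0
      rw [Homotopy.dNext_zero_chainComplex, Homotopy.prevD_chainComplex] at h2
      have := congr(($h2).hom y)
      simpa [h, cd, f] using this
    rw [e, LinearMap.lTensor_comp_apply]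
  | succ i =>
    have e : LinearMap.lsmul A (cF P.complex (i + 1)) a =
        (H.hom i (i + 1)).hom.comp (cd P.complex i) + (cd P.complex (i + 1)).comp h := by
      refine LinearMap.ext fun y => ?_
      have h2 := H.comm (i + 1)
      rw [Homotopy.dNext_succ_chainComplex, Homotopy.prevD_chainComplex] at h2
      have := congr(($h2).hom y)
      simpa [h, cd, f] using this
    rw [e, LinearMap.lTensor_add, LinearMap.add_apply, LinearMap.lTensor_comp_apply, LinearMap.lTensor_comp_apply,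
      show (cd P.complex i).lTensor X x = 0 from hx, map_zero, zero_add]

end Tor

/-- Let A be a Noetherian ring, I an ideal, M a finite A-module and N an A-module annihilated by I. Then
there is an integer n > 0 such that the maps Tor_p^A(IⁿM, N) → Tor_p^A(M, N) induced by IⁿM ⊆ M are
zero for all p ≥ 0. -/
theorem result (A : Type u) [CommRing A] [IsNoetherianRing A] (I : Ideal A)
    (M N : Type u) [AddCommGroup M] [Module A M] [Module.Finite A M] [AddCommGroup N] [Module A N]
    (hN : ∀ a ∈ I, ∀ y : N, a • y = 0) :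
    ∃ n : ℕ, 0 < n ∧ ∀ p : ℕ,
      ((CategoryTheory.Tor (ModuleCat.{u} A) p).map (ModuleCat.ofHom (I ^ n • ⊤ : Submodule A M).subtype)).app
        (ModuleCat.of A N) = 0 := by
  let P : ProjectiveResolution (ModuleCat.of A N) := Classical.choice HasProjectiveResolution.out
  haveI := flat_resolution P
  obtain ⟨n, hn⟩ := exists_zero (cd P.complex) (cd_comp P.complex) I I (IsNoetherian.noetherian I) le_rfl
    (fun a ha => smul_zeroH P hN a ha) M
  refine ⟨n + 1, n.succ_pos, fun p => ?_⟩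
  exact tor_map_eq_zero P (ModuleCat.ofHom (I ^ (n + 1) • ⊤ : Submodule A M).subtype) p (hn (n + 1) n.le_succ p)

end Groth.Agent.S7161
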