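import Groth.Statements.S7168
import Mathlib
import Groth.Prelude.Def_MoreMor
import Groth.Agent.S2066
import Groth.Agent.S6935
import Groth.Agent.S6942

set_option autoImplicit false
universe u
attribute [local instance] HasDerivedCategory.standard
open FlatMor

namespace Groth.Agent.S7168
open AlgebraicGeometry CategoryTheory
set_option backward.isDefEq.respectTransparency.types false

open AlgebraicGeometry CategoryTheory Limits in
/-- A pseudo-coherent morphism of schemes is locally of finite presentation. -/
theorem result {X S : Scheme.{u}} (f : X ⟶ S) (hf : MoreMor.IsPseudoCoherentMor f) :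
    LocallyOfFinitePresentation f := by
  rw [HasRingHomProperty.iff_appLE (P := @LocallyOfFinitePresentation)]
  intro U V e
  letI := (f.appLE U.1 V.1 e).hom.toAlgebra
  obtain ⟨n, φ, hφ, hpc⟩ := hf V.1 U.1 V.2 U.2 e
  letI := φ.toRingHom.toAlgebra
  haveI : Module.FinitePresentation (MvPolynomial (Fin n) Γ(S, U.1)) Γ(X, V.1) :=
    (Groth.Agent.S6935.result _ _).2.1 ((Groth.Agent.S2066.result _).1.2 hpc (-1))
  exact Algebra.FinitePresentation.of_surjective hφ (Module.FinitePresentation.fg_ker (Algebra.linearMap (MvPolynomial (Fin n) Γ(S, U.1)) Γ(X, V.1)) hφ)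

end Groth.Agent.S7168
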