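import Groth.Statements.S7178
import Mathlib
import Groth.Agent.Lib.H2WERed

set_option autoImplicit false
universe u
open FlatMor

namespace Groth.Agent.S7178
open AlgebraicGeometry CategoryTheory Limits TensorProduct
set_option backward.isDefEq.respectTransparency.types false

open AlgebraicGeometry CategoryTheory Limits in
/-- (1) ⇔ (2): f : X → S is weakly étale if and only if, whenever U ⊆ X and V ⊆ S are affine opens and f
maps U into V, the ring O_X(U) is a weakly étale O_S(V)-algebra (flat, with flat multiplication map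
O_X(U) ⊗ O_X(U) → O_X(U) over O_S(V)). -/
theorem result {X S : Scheme.{u}} (f : X ⟶ S) :
    WeaklyEtale f ↔ ∀ (U : X.Opens) (V : S.Opens) (_ : IsAffineOpen U) (_ : IsAffineOpen V) (hUV : U ≤ f ⁻¹ᵁ V),
      (letI := (f.appLE V U hUV).hom.toAlgebra
       Algebra.WeaklyEtale Γ(S, V) Γ(X, U)) := by
  refine ⟨fun _ U V hU hV e => Groth.Agent.H2WERed.appLE_weaklyEtale f hV hU e, fun h => ?_⟩
  have key : ∀ x : X, ∃ U : X.Opens, x ∈ U ∧ WeaklyEtale (U.ι ≫ f) := by
    intro x
    obtain ⟨_, ⟨V, hV, rfl⟩, hfV, -⟩ := S.isBasis_affineOpens.exists_subset_of_mem_open (Set.mem_univ (f x)) isOpen_univ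
    obtain ⟨_, ⟨U, hU, rfl⟩, hxU, hUV⟩ := X.isBasis_affineOpens.exists_subset_of_mem_open (show x ∈ f ⁻¹ᵁ V from hfV) (f ⁻¹ᵁ V).2
    refine ⟨U, hxU, ?_⟩
    have h1 := h U V hU hV hUV
    algebraize [(f.appLE V U hUV).hom]
    haveI : WeaklyEtale (Spec.map (f.appLE V U hUV)) := Groth.Agent.H2WERed.weaklyEtale_SpecMap.2 h1
    have : Scheme.Opens.ι U ≫ f = hU.isoSpec.hom ≫ Spec.map (f.appLE V U hUV) ≫ hV.fromSpec := by
      rw [IsAffineOpen.SpecMap_appLE_fromSpec f hV hU hUV, ← Category.assoc, IsAffineOpen.isoSpec_hom_fromSpec]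
    rw [this]; infer_instance
  choose U hxU hU using key
  exact IsZariskiLocalAtSource.of_iSup_eq_top (P := @WeaklyEtale) U (eq_top_iff.2 fun x _ => TopologicalSpace.Opens.mem_iSup.2 ⟨x, hxU x⟩) hU

end Groth.Agent.S7178
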