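import Groth.Statements.S7240
import Groth.Agent.Lib.H7AffineHom
import Mathlib

set_option autoImplicit false
universe u
open CategoryTheory CategoryTheory.Limits AlgebraicGeometry
attribute [local instance] HasDerivedCategory.standard
open Perf

namespace Groth.Agent.S7240

attribute [local instance] HasDerivedCategory.standard


/-- Let X be a scheme, m an integer and E an m-pseudo-coherent object of D(O_X). Then the cohomology
sheaf Hⁱ(E) is quasi-coherent for every i > m, and Hᵐ(E) is, locally on X, a quotient of a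
quasi-coherent module: every point of X has an open neighbourhood V and a quasi-coherent O_V-module
mapping onto Hᵐ(E)|_V. (The published statement says that Hᵐ(E) is a quotient of a quasi-coherent
O_X-module; its proof gives this only locally on X, which is what this row states, and the global
form fails: on the affine plane over ℚ, the direct image of an invertible module over the inverse
image of O_X on a triangle of three lines, twisted by the constant 2 around the cycle, is an
O_X-module of finite type with no nonzero global section, so it is not a quotient of any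
quasi-coherent module.) -/
theorem result {X : Scheme.{u}} (m : ℤ) (E : DCoh.D X)
    (hE : DCoh.IsPseudoCoherentD m E) :
    (∀ i : ℤ, m < i → Coh.IsQCoh (DCoh.HD E i)) ∧
      ∀ x : X, ∃ (V : X.Opens) (Q : (V : Scheme.{u}).Modules)
        (π : Q ⟶ (Scheme.Modules.restrictFunctor V.ι).obj (DCoh.HD E m)), x ∈ V ∧ Coh.IsQCoh Q ∧ Epi π := by
  let F := DerivedCategory.Q.objPreimage E
  let eF := DerivedCategory.Q.objObjPreimageIso E
  have hloc : ∀ x : X, ∃ (V : X.Opens) (P : CochainComplex (V : Scheme.{u}).Modules ℤ)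
      (β : ∀ i : ℤ, DCoh.HD (DerivedCategory.Q.obj P) i ⟶ (Scheme.Modules.restrictFunctor V.ι).obj (DCoh.HD E i)),
      x ∈ V ∧ DCoh.IsQCohD (DerivedCategory.Q.obj P) ∧ (∀ i, m < i → IsIso (β i)) ∧ Epi (β m) := by
    intro x
    obtain ⟨V, hx, hV⟩ := hE x
    obtain ⟨P, α, hP, hiso, hepi⟩ := hV F ⟨eF⟩
    haveI := hepi
    let u := (H7PerfTri.rQ V.ι F).symm ≪≫ (H7PerfTri.rD V.ι).mapIso eF
    refine ⟨V, P, fun i => (DerivedCategory.homologyFunctor _ i).map (α ≫ u.hom) ≫ (H7QCoh.hdRestrict V.ι E i).hom, hx,
      H7TensorQCD.isQCohD_Q P (fun n => H7PerfHom.qcoh_of_finLocFree (hP.2 n)), fun i hi => ?_, ?_⟩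
    · haveI := hiso i hi
      beta_reduce
      rw [Functor.map_comp]
      infer_instance
    · beta_reduce
      rw [Functor.map_comp]
      infer_instance
  refine ⟨fun i hi => H7QCoh.isQCoh_of_local _ fun x => ?_, fun x => ?_⟩
  · obtain ⟨V, P, β, hx, hq, hiso, -⟩ := hloc x
    obtain ⟨R, j, hj, hxj, hr⟩ := H7QCoh.exists_affine x V hx
    let j' := IsOpenImmersion.lift V.ι j (by rw [Scheme.Opens.range_ι]; exact hr)
    have hj' : j' ≫ V.ι = j := IsOpenImmersion.lift_fac _ _ _
    haveI : IsOpenImmersion (j' ≫ V.ι) := hj'.symm ▸ hj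
    haveI : IsOpenImmersion j' := IsOpenImmersion.of_comp j' V.ι
    haveI := hiso i hi
    refine ⟨R, j, hj, hxj, H7AffineD.qcoh_of_iso ?_ (H7QCoh.isQCoh_restrict j' (hq i))⟩
    exact (Scheme.Modules.restrictFunctor j').mapIso (asIso (β i)) ≪≫
      ((Scheme.Modules.restrictFunctorComp j' V.ι).symm ≪≫ Scheme.Modules.restrictFunctorCongr hj').app _
  · obtain ⟨V, P, β, hx, hq, -, hepi⟩ := hloc x
    exact ⟨V, _, β m, hx, hq m, hepi⟩

end Groth.Agent.S7240
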