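import Groth.Statements.S7245
import Groth.Agent.Lib.H7AffinePush
import Mathlib

set_option autoImplicit false
universe u
open CategoryTheory CategoryTheory.Limits AlgebraicGeometry
attribute [local instance] HasDerivedCategory.standard
open Perf

namespace Groth.Agent.S7245

/-- Let f : X ⟶ S be an affine morphism of schemes and F a cochain complex of quasi-coherent
O_X-modules. Assuming Rf_* exists on the unbounded derived category, the canonical map f_*F ⟶ Rf_*F
in D(O_S) (the unit of the total right derived functor at F) is an isomorphism. -/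
theorem result {X S : Scheme.{u}} (f : X ⟶ S) [IsAffineHom f] [DCoh.HasRpush f]
    (F : CochainComplex X.Modules ℤ) (hq : ∀ n : ℤ, Coh.IsQCoh (F.X n)) :
    IsIso (((DCoh.pushKh f).totalRightDerivedUnit DerivedCategory.Qh (HomotopyCategory.quasiIso X.Modules (ComplexShape.up ℤ))).app
      ((HomotopyCategory.quotient X.Modules (ComplexShape.up ℤ)).obj F)) := by
  obtain ⟨I, g, hI, hg⟩ := Groth.Agent.H5KApps.enoughKInj_of_grothendieck F
  let u := (DCoh.pushKh f).totalRightDerivedUnit DerivedCategory.Qh (HomotopyCategory.quasiIso X.Modules (ComplexShape.up ℤ))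
  have hI' : IsIso (u.app ((HomotopyCategory.quotient X.Modules (ComplexShape.up ℤ)).obj I)) :=
    ((Groth.Agent.H5KApps.resolving_Qh Groth.Agent.H5KApps.enoughKInj_of_grothendieck).isRightDerived_iff
      (Groth.Agent.H5KApps.compat_Qh (DCoh.pushKh f)) (HomotopyCategory.quasiIso X.Modules (ComplexShape.up ℤ)) _ u).1
        inferInstance _ ⟨I, hI, rfl⟩
  have h1 : IsIso (DerivedCategory.Q.map (((Scheme.Modules.pushforward f).mapHomologicalComplex (ComplexShape.up ℤ)).map g)) :=
    (DerivedCategory.isIso_Q_map_iff_quasiIso _ _).2 (Groth.Agent.H7AffinePush.quasiIso_push f hq g)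
  have h1' : IsIso ((DCoh.pushKh f).map ((HomotopyCategory.quotient X.Modules (ComplexShape.up ℤ)).map g)) :=
    (NatIso.isIso_map_iff (Functor.isoWhiskerRight ((Scheme.Modules.pushforward f).mapHomotopyCategoryFactors (ComplexShape.up ℤ)) DerivedCategory.Qh ≪≫
      Functor.associator _ _ _ ≪≫ Functor.isoWhiskerLeft _ (DerivedCategory.quotientCompQhIso S.Modules) :
      (HomotopyCategory.quotient X.Modules (ComplexShape.up ℤ)) ⋙ DCoh.pushKh f ≅
        (Scheme.Modules.pushforward f).mapHomologicalComplex (ComplexShape.up ℤ) ⋙ DerivedCategory.Q) g).2 h1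
  have h3 : IsIso (DerivedCategory.Qh.map ((HomotopyCategory.quotient X.Modules (ComplexShape.up ℤ)).map g)) :=
    (NatIso.isIso_map_iff (DerivedCategory.quotientCompQhIso X.Modules) g).2 ((DerivedCategory.isIso_Q_map_iff_quasiIso _ _).2 hg)
  have hn := u.naturality ((HomotopyCategory.quotient X.Modules (ComplexShape.up ℤ)).map g)
  have h4 : IsIso (u.app ((HomotopyCategory.quotient X.Modules (ComplexShape.up ℤ)).obj F) ≫
      (DerivedCategory.Qh ⋙ DCoh.Rpush f).map ((HomotopyCategory.quotient X.Modules (ComplexShape.up ℤ)).map g)) := by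
    rw [← hn]
    exact IsIso.comp_isIso' h1' hI'
  have : IsIso ((DerivedCategory.Qh ⋙ DCoh.Rpush f).map ((HomotopyCategory.quotient X.Modules (ComplexShape.up ℤ)).map g)) :=
    inferInstanceAs (IsIso ((DCoh.Rpush f).map (DerivedCategory.Qh.map ((HomotopyCategory.quotient X.Modules (ComplexShape.up ℤ)).map g))))
  exact @IsIso.of_isIso_comp_right _ _ _ _ _ _ _ this h4

end Groth.Agent.S7245
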