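import Groth.Statements.S7248
import Groth.Agent.Lib.H7PerfCrit
import Groth.Agent.Lib.H7PerfPull
import Mathlib

set_option autoImplicit false
universe u
open CategoryTheory CategoryTheory.Limits AlgebraicGeometry
attribute [local instance] HasDerivedCategory.standard
open Perf

namespace Groth.Agent.S7248

attribute [local instance] HasDerivedCategory.standard

theorem flatOver_of_isFlat {X S : Scheme.{u}} (f : X ⟶ S) [Flat f] {M : X.Modules} (hM : FlatMod.IsFlat M) :
    FlatMod.IsFlatOver f M := fun x => by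
  let φ := (f.stalkMap x).hom
  letI : Algebra (S.presheaf.stalk (f.base x)) (X.presheaf.stalk x) := φ.toAlgebra
  haveI : Module.Flat (S.presheaf.stalk (f.base x)) (X.presheaf.stalk x) := Flat.stalkMap f x
  letI := FlatMod.moduleStalkOver f M x
  haveI : IsScalarTower (S.presheaf.stalk (f.base x)) (X.presheaf.stalk x) (M.presheaf.stalk x) :=
    ⟨fun a b m => (mul_smul (φ a) b m)⟩
  haveI : Module.Flat (X.presheaf.stalk x) (M.presheaf.stalk x) := hM x
  exact Module.Flat.trans (S.presheaf.stalk (f.base x)) (X.presheaf.stalk x) (M.presheaf.stalk x)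


/-- Let f : X ⟶ S be flat and locally of finite presentation. Then a perfect object E of D(O_X) is
S-perfect, that is, E is pseudo-coherent (m-pseudo-coherent for every m) and, locally on X, the tor
dimension of E over the sheaf of rings f⁻¹O_S is finite (locally represented by a bounded complex of
O_X-modules flat over S). -/
theorem result {X S : Scheme.{u}} (f : X ⟶ S) [Flat f] [LocallyOfFinitePresentation f]
    (E : DCoh.D X) (hE : DCoh.IsPerfect E) :
    (∀ m : ℤ, DCoh.IsPseudoCoherentD m E) ∧ DCoh.LocHasFiniteRelTorDim f E := by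
  refine ⟨fun m => H7PerfCrit.isPseudo_of_isPerfect hE m, fun x => ?_⟩
  obtain ⟨V, hx, hV⟩ := hE x
  obtain ⟨P, ⟨⟨a, b, hab⟩, hP⟩, ⟨e⟩⟩ := hV _ ⟨DerivedCategory.Q.objObjPreimageIso E⟩
  refine ⟨V, a, b, hx, fun F ⟨eF⟩ => ⟨P, hab, fun i => flatOver_of_isFlat _ (H7PerfPull.flat_of_finLocFree (hP i)),
    ⟨e.symm ≪≫ (H7PerfTri.rQ V.ι _).symm ≪≫
      (H7PerfTri.rD V.ι).mapIso (DerivedCategory.Q.objObjPreimageIso E ≪≫ eF.symm) ≪≫ H7PerfTri.rQ V.ι F⟩⟩⟩

end Groth.Agent.S7248
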