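import Groth.Statements.S7251
import Groth.Agent.Lib.H7QCoh
import Mathlib

set_option autoImplicit false
universe u
open CategoryTheory CategoryTheory.Limits AlgebraicGeometry
attribute [local instance] HasDerivedCategory.standard
open Perf

namespace Groth.Agent.S7251

/-- Let f : X ⟶ Y be a quasi-compact and quasi-separated morphism of schemes. Assume Rf_* exists and
sends D_QCoh(O_X) into D_QCoh(O_Y), let an adjunction Lf^* ⊣ Rf_* be given as data, and assume the
inclusion functors D_QCoh ⥤ D have (chosen) right adjoints DQ_X and DQ_Y. Then Rf_* ∘ DQ_X = DQ_Y ∘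
Rf_*: for every K ∈ D(O_X) the comparison map Rf_*(DQ_X K) ⟶ DQ_Y(Rf_* K) in D_QCoh(O_Y),
corresponding under the adjunction to Rf_* applied to the counit DQ_X K ⟶ K, is an isomorphism. -/
theorem result {X Y : Scheme.{u}} (f : X ⟶ Y) [QuasiCompact f] [QuasiSeparated f]
    [DCoh.HasRpush f] (h : DCoh.RpushPreservesQCoh f) [DCoh.HasLpull f] (adj : DCoh.Lpull f ⊣ DCoh.Rpush f)
    [(ObjectProperty.ι (DCoh.IsQCohD (X := X))).IsLeftAdjoint] [(ObjectProperty.ι (DCoh.IsQCohD (X := Y))).IsLeftAdjoint]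
    (K : DCoh.D X) :
    IsIso ((Adjunction.ofIsLeftAdjoint (ObjectProperty.ι (DCoh.IsQCohD (X := Y)))).homEquiv
      (⟨(DCoh.Rpush f).obj (((ObjectProperty.ι (DCoh.IsQCohD (X := X))).rightAdjoint.obj K).obj),
        h _ (((ObjectProperty.ι (DCoh.IsQCohD (X := X))).rightAdjoint.obj K).property)⟩ : DCoh.DQCoh Y)
      ((DCoh.Rpush f).obj K)
      ((DCoh.Rpush f).map ((Adjunction.ofIsLeftAdjoint (ObjectProperty.ι (DCoh.IsQCohD (X := X)))).counit.app K))) := by
  let aX := Adjunction.ofIsLeftAdjoint (ObjectProperty.ι (DCoh.IsQCohD (X := X)))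
  let aY := Adjunction.ofIsLeftAdjoint (ObjectProperty.ι (DCoh.IsQCohD (X := Y)))
  let P : DCoh.DQCoh Y := ⟨(DCoh.Rpush f).obj (((ObjectProperty.ι (DCoh.IsQCohD (X := X))).rightAdjoint.obj K).obj),
    h _ (((ObjectProperty.ι (DCoh.IsQCohD (X := X))).rightAdjoint.obj K).property)⟩
  let c := aY.homEquiv P _ ((DCoh.Rpush f).map (aX.counit.app K))
  have key : ∀ A : DCoh.DQCoh Y, Function.Bijective (fun u : A ⟶ P => u ≫ c) := fun A => by
    let A' : DCoh.DQCoh X := ⟨(DCoh.Lpull f).obj A.obj, Groth.Agent.H7QCoh.isQCohD_lpull f A.property⟩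
    let e₁ : (A ⟶ P) ≃ (A.obj ⟶ P.obj) := ⟨fun u => u.hom, fun u => ObjectProperty.homMk u, fun _ => rfl, fun _ => rfl⟩
    let e₂ : (A'.obj ⟶ ((ObjectProperty.ι (DCoh.IsQCohD (X := X))).rightAdjoint.obj K).obj) ≃
        (A' ⟶ (ObjectProperty.ι (DCoh.IsQCohD (X := X))).rightAdjoint.obj K) :=
      ⟨fun u => ObjectProperty.homMk u, fun u => u.hom, fun _ => rfl, fun _ => rfl⟩
    let e : (A ⟶ P) ≃ (A ⟶ (ObjectProperty.ι (DCoh.IsQCohD (X := Y))).rightAdjoint.obj ((DCoh.Rpush f).obj K)) :=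
      e₁.trans <| (adj.homEquiv _ _).symm.trans <| e₂.trans <| (aX.homEquiv A' K).symm.trans <|
        (adj.homEquiv _ _).trans <| aY.homEquiv A _
    have he : (fun u : A ⟶ P => u ≫ c) = e := by
      funext u
      show u ≫ aY.homEquiv P _ _ = aY.homEquiv A _ (adj.homEquiv _ _ ((aX.homEquiv A' K).symm (e₂ ((adj.homEquiv _ _).symm u.hom))))
      rw [← Adjunction.homEquiv_naturality_left]
      congr 1
      rw [show (aX.homEquiv A' K).symm (e₂ ((adj.homEquiv _ _).symm u.hom)) = ((adj.homEquiv _ _).symm u.hom) ≫ aX.counit.app K from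
        aX.homEquiv_counit _ _ _]
      rw [adj.homEquiv_naturality_right]; erw [Equiv.apply_symm_apply]
      rfl
    rw [he]
    exact e.bijective
  change IsIso c
  obtain ⟨v, hv⟩ := (key _).2 (𝟙 _)
  refine ⟨v, (key _).1 ?_, hv⟩
  show (c ≫ v) ≫ c = 𝟙 _ ≫ c
  rw [Category.assoc, show v ≫ c = 𝟙 _ from hv, Category.comp_id, Category.id_comp]

end Groth.Agent.S7251
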