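import Groth.Statements.S7268
import Groth.Agent.Lib.H7AffinePush
import Groth.Agent.Lib.H7TildeBC
import Groth.Agent.Lib.LQcqs
import Mathlib

set_option autoImplicit false
universe u
open CategoryTheory CategoryTheory.Limits AlgebraicGeometry
attribute [local instance] HasDerivedCategory.standard
open Perf

namespace Groth.Agent.S7268

attribute [local instance] HasDerivedCategory.standard

universe v₁ v₂ v₃ u₁ u₂ u₃

variable {A B : Type u} [CommRing A] [CommRing B] (φ : A →+* B)

open CategoryTheory CategoryTheory.Limits AlgebraicGeometry in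
theorem nonempty_tildePush [PreservesFiniteLimits (tilde.functor (CommRingCat.of B))] :
    Nonempty (tilde.functor (CommRingCat.of B) ⋙ Scheme.Modules.pushforward (Spec.map (CommRingCat.ofHom φ)) ≅
      ModuleCat.restrictScalars.{u} φ ⋙ tilde.functor (CommRingCat.of A)) := by
  let f := Spec.map (CommRingCat.ofHom φ)
  let G := tilde.functor (CommRingCat.of B) ⋙ Scheme.Modules.pushforward f
  have : ∀ M, IsIso ((tilde.adjunction (R := CommRingCat.of A)).counit.app (G.obj M)) := fun M =>
    @Scheme.Modules.isIso_fromTildeΓ_of_isQuasicoherent _ (G.obj M)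
      (@Groth.Agent.LQcoh.isQuasicoherent_push _ _ f inferInstance inferInstance
        ((tilde.functor (CommRingCat.of B)).obj M) (Groth.Agent.H7TildeEquiv.qcoh_tilde M))
  have : IsIso (Functor.whiskerLeft G (tilde.adjunction (R := CommRingCat.of A)).counit) :=
    @NatIso.isIso_of_isIso_app _ _ _ _ _ _ (Functor.whiskerLeft G (tilde.adjunction (R := CommRingCat.of A)).counit) this
  exact ⟨(G.rightUnitor).symm ≪≫ (asIso (Functor.whiskerLeft G (tilde.adjunction (R := CommRingCat.of A)).counit)).symm ≪≫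
    (Functor.associator G _ _).symm ≪≫
    Functor.isoWhiskerRight (Functor.associator _ _ _ ≪≫ Functor.isoWhiskerLeft _ (Groth.Agent.H7TildeBC.pushΓIso φ) ≪≫
      (Functor.associator _ _ _).symm ≪≫
      Functor.isoWhiskerRight (@asIso _ _ _ _ (tilde.adjunction (R := CommRingCat.of B)).unit
        ((inferInstance : ∀ R : CommRingCat.{u}, IsIso (tilde.adjunction (R := R)).unit) (CommRingCat.of B))).symm _ ≪≫
      Functor.leftUnitor _) _⟩


/-- Let A → B be a ring map and f : X = Spec B ⟶ Y = Spec A the corresponding morphism of affine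
schemes. Assuming Rf_* exists on the unbounded derived category (and tilde is recorded as exact over
A and over B), the square formed by D(B) ⟶ D(A) (restriction of scalars), the tilde functors D(B) ⟶
D_QCoh(O_X), D(A) ⟶ D_QCoh(O_Y) and Rf_* commutes: the functors M ↦ Rf_*(M~) and M ↦ (M_A)~ from
D(B) to D(O_Y) are isomorphic (existence of a natural isomorphism only). -/
theorem result {A B : Type u} [CommRing A] [CommRing B] (φ : A →+* B)
    [PreservesFiniteLimits (tilde.functor (CommRingCat.of A))] [PreservesFiniteLimits (tilde.functor (CommRingCat.of B))]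
    [DCoh.HasRpush (Spec.map (CommRingCat.ofHom φ))] :
    Nonempty (DCoh.tildeD (CommRingCat.of B) ⋙ DCoh.Rpush (Spec.map (CommRingCat.ofHom φ)) ≅
      DRing.restrictD φ ⋙ DCoh.tildeD (CommRingCat.of A)) := by
  let f := Spec.map (CommRingCat.ofHom φ)
  let tB := tilde.functor (CommRingCat.of B)
  let tA := tilde.functor (CommRingCat.of A)
  let r := ModuleCat.restrictScalars.{u} φ
  let P := Scheme.Modules.pushforward f
  obtain ⟨e⟩ := nonempty_tildePush φ
  let TB := tB.mapHomologicalComplex (ComplexShape.up ℤ)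
  haveI : ∀ K, IsIso ((Functor.whiskerLeft TB (Groth.Agent.H7RpushCalc.beta f)).app K) := fun K =>
    Groth.Agent.H7AffinePush.isIso_beta f (F := TB.obj K) (fun n => Groth.Agent.H7TildeEquiv.qcoh_tilde _)
  haveI : IsIso (Functor.whiskerLeft TB (Groth.Agent.H7RpushCalc.beta f)) := NatIso.isIso_of_isIso_app _
  let i1 : DerivedCategory.Q ⋙ (DCoh.tildeD (CommRingCat.of B) ⋙ DCoh.Rpush f) ≅
      (tB ⋙ P).mapHomologicalComplex (ComplexShape.up ℤ) ⋙ DerivedCategory.Q :=
    (Functor.associator _ _ _).symm ≪≫ Functor.isoWhiskerRight tB.mapDerivedCategoryFactors (DCoh.Rpush f) ≪≫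
      Functor.associator _ _ _ ≪≫ (asIso (Functor.whiskerLeft TB (Groth.Agent.H7RpushCalc.beta f))).symm ≪≫
      (Functor.associator _ _ _).symm ≪≫
      Functor.isoWhiskerRight (Functor.mapHomologicalComplexCompIso (Iso.refl (tB ⋙ P)) _) _
  let i2 : DerivedCategory.Q ⋙ (DRing.restrictD φ ⋙ DCoh.tildeD (CommRingCat.of A)) ≅
      (r ⋙ tA).mapHomologicalComplex (ComplexShape.up ℤ) ⋙ DerivedCategory.Q :=
    (Functor.associator _ _ _).symm ≪≫ Functor.isoWhiskerRight r.mapDerivedCategoryFactors (DCoh.tildeD (CommRingCat.of A)) ≪≫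
      Functor.associator _ _ _ ≪≫ Functor.isoWhiskerLeft _ tA.mapDerivedCategoryFactors ≪≫
      (Functor.associator _ _ _).symm ≪≫
      Functor.isoWhiskerRight (Functor.mapHomologicalComplexCompIso (Iso.refl (r ⋙ tA)) _) _
  let i := i1 ≪≫ Functor.isoWhiskerRight (NatIso.mapHomologicalComplex e _) _ ≪≫ i2.symm
  letI : CategoryTheory.Localization.Lifting DerivedCategory.Q (HomologicalComplex.quasiIso (ModuleCat.{u} B) (ComplexShape.up ℤ))
      (DerivedCategory.Q ⋙ (DCoh.tildeD (CommRingCat.of B) ⋙ DCoh.Rpush f)) (DCoh.tildeD (CommRingCat.of B) ⋙ DCoh.Rpush f) := ⟨Iso.refl _⟩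
  letI : CategoryTheory.Localization.Lifting DerivedCategory.Q (HomologicalComplex.quasiIso (ModuleCat.{u} B) (ComplexShape.up ℤ))
      (DerivedCategory.Q ⋙ (DRing.restrictD φ ⋙ DCoh.tildeD (CommRingCat.of A))) (DRing.restrictD φ ⋙ DCoh.tildeD (CommRingCat.of A)) := ⟨Iso.refl _⟩
  exact ⟨CategoryTheory.Localization.liftNatIso DerivedCategory.Q (HomologicalComplex.quasiIso (ModuleCat.{u} B) (ComplexShape.up ℤ)) _ _ _ _ i⟩

end Groth.Agent.S7268
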