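import Groth.Statements.S7318
import Groth.Agent.Lib.NumTypeBasic
import Mathlib

set_option autoImplicit false
open Finset
open Models Models.NumericalType

namespace Groth.Agent.S7318

/-- For a numerical type T on n indices with e pairs i < j such that a_ij > 0, the topological genus 1 -
n + e is ≥ 0. -/
theorem result {n : ℕ} (T : Models.NumericalType n) : 0 ≤ T.topGenus := by

  classical
  let G : SimpleGraph (Fin n) :=
    { Adj := fun i j => i ≠ j ∧ 0 < T.a i j
      symm := ⟨fun i j h => ⟨h.1.symm, by rw [NumTypeLib.a_symm T j i]; exact h.2⟩⟩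
      loopless := ⟨fun i h => h.1 rfl⟩ }
  have hG : G.Connected := by
    have : Nonempty (Fin n) := ⟨⟨0, T.pos⟩⟩
    refine ⟨fun i j => ?_⟩
    by_contra hne
    let I := Finset.univ.filter fun x => G.Reachable i x
    obtain ⟨x, hx, y, hy, hxy⟩ := T.connected I ⟨i, by simp [I]⟩ (fun h => hne (by
      have hj : j ∈ I := h ▸ Finset.mem_univ j
      simpa [I] using hj))
    simp only [I, Finset.mem_filter, Finset.mem_univ, true_and] at hx hy
    have hxy' : x ≠ y := fun h => hy (h ▸ hx)
    exact hy (hx.trans (SimpleGraph.Adj.reachable ⟨hxy', NumTypeLib.offdiag_pos T hxy' hxy⟩))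
  have h1 := hG.card_vert_le_card_edgeSet_add_one
  rw [Nat.card_eq_fintype_card, Fintype.card_fin, Nat.card_eq_fintype_card, ← SimpleGraph.edgeFinset_card] at h1
  have h2 : G.edgeFinset ⊆ (Finset.univ.filter fun p : Fin n × Fin n => p.1 < p.2 ∧ 0 < T.a p.1 p.2).image
      (fun p => s(p.1, p.2)) := by
    intro z hz
    induction z using Sym2.ind with
    | h x y =>
      rw [SimpleGraph.mem_edgeFinset, SimpleGraph.mem_edgeSet] at hz
      obtain ⟨hne, hpos⟩ := hz
      rcases lt_or_gt_of_ne hne with h | h
      · exact Finset.mem_image.2 ⟨(x, y), by simp [h, hpos], rfl⟩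
      · exact Finset.mem_image.2 ⟨(y, x), by simp [h, NumTypeLib.a_symm T y x, hpos], Sym2.eq_swap⟩
  have h3 := (Finset.card_le_card h2).trans Finset.card_image_le
  simp only [Models.NumericalType.topGenus, Models.NumericalType.edgeCount]
  omega

end Groth.Agent.S7318
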