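import Groth.Statements.S7340
import Mathlib
import Groth.Agent.Lib.H6.TracePth

set_option autoImplicit false
set_option backward.isDefEq.respectTransparency.types false
set_option maxHeartbeats 1000000
set_option linter.all false
universe u
open Polynomial
open Resolve

namespace Groth.Agent.S7340
open Groth.Agent

/-- Let p be a prime number and R an F_p-algebra, a, b ∈ R, S_a = R[x]/(x^p - a) and S_b = R[y]/(y^p -
b). The trace Tr_x : Ω_{S_a/R} → Ω_R is the R-linear map with x^i dx ↦ 0 for 0 ≤ i ≤ p - 2 and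
x^{p-1} dx ↦ da (these determine it, Ω_{S_a/R} being free over R on the x^i dx), and similarly Tr_y.
Then for every R-algebra homomorphism φ : S_a → S_b one has Tr_x = Tr_y ∘ φ_*: for all s, t ∈ S_a,
Tr_x(s dt) = Tr_y(φ(s) dφ(t)). Here Ω_R is the module of absolute differentials Ω_{R/Z}. -/
theorem result (p : ℕ) [Fact p.Prime] (R : Type u) [CommRing R] [CharP R p] (a b : R)
    (φ : AdjoinRoot (X ^ p - C a : R[X]) →ₐ[R] AdjoinRoot (X ^ p - C b : R[X]))
    (Tx : Ω[AdjoinRoot (X ^ p - C a : R[X])⁄R] →ₗ[R] Ω[R⁄ℤ])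
    (Ty : Ω[AdjoinRoot (X ^ p - C b : R[X])⁄R] →ₗ[R] Ω[R⁄ℤ])
    (hTx : ∀ i : ℕ, i + 2 ≤ p →
      Tx (AdjoinRoot.root (X ^ p - C a) ^ i • KaehlerDifferential.D R _ (AdjoinRoot.root (X ^ p - C a))) = 0)
    (hTx' : Tx (AdjoinRoot.root (X ^ p - C a) ^ (p - 1) • KaehlerDifferential.D R _ (AdjoinRoot.root (X ^ p - C a))) =
      KaehlerDifferential.D ℤ R a)
    (hTy : ∀ i : ℕ, i + 2 ≤ p →
      Ty (AdjoinRoot.root (X ^ p - C b) ^ i • KaehlerDifferential.D R _ (AdjoinRoot.root (X ^ p - C b))) = 0)
    (hTy' : Ty (AdjoinRoot.root (X ^ p - C b) ^ (p - 1) • KaehlerDifferential.D R _ (AdjoinRoot.root (X ^ p - C b))) =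
      KaehlerDifferential.D ℤ R b)
    (s t : AdjoinRoot (X ^ p - C a : R[X])) :
    Tx (s • KaehlerDifferential.D R _ t) = Ty (φ s • KaehlerDifferential.D R _ (φ t)) := by
    classical
    let x := AdjoinRoot.root (X ^ p - C a : R[X])
    obtain ⟨a', ha', hF⟩ := H6TP.F_formula Ty (fun r => KaehlerDifferential.D ℤ R r) (fun u v => map_add _ u v)
      (fun u v => Derivation.leibniz _ u v)
      (fun c => by
        show KaehlerDifferential.D ℤ R (c ^ p) = 0
        rw [Derivation.leibniz_pow, ← Nat.cast_smul_eq_nsmul R, CharP.cast_eq_zero, zero_smul])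
      hTy hTy' (φ x)
    have haa : a' = a := by
      apply H6TP.algebraMap_injective (p := p) (b := b)
      rw [← ha', ← map_pow, H6TP.root_pow, AlgHom.commutes]
    have hlow : ∀ i : ℕ, i + 2 ≤ p → Ty (φ x ^ i • KaehlerDifferential.D R _ (φ x)) = 0 :=
      fun i hi => H6TP.low_zero Ty hTy (φ x) i hi
    have hall : ∀ w : AdjoinRoot (X ^ p - C a : R[X]),
        Tx (w • KaehlerDifferential.D R _ x) = Ty (φ w • KaehlerDifferential.D R _ (φ x)) := by
      intro w
      obtain ⟨Q, rfl⟩ := AdjoinRoot.mk_surjective w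
      induction Q using Polynomial.induction_on' with
      | add f g hf hg => simp [add_smul, map_add, hf, hg]
      | monomial n c =>
        rw [← C_mul_X_pow_eq_monomial, map_mul, map_pow, AdjoinRoot.mk_C, AdjoinRoot.mk_X,
          ← AdjoinRoot.algebraMap_eq, ← Algebra.smul_def, H6TP.root_pow_reduce, map_smul φ, map_smul φ, map_pow φ,
          smul_assoc, smul_assoc, smul_assoc, smul_assoc, LinearMap.map_smul, LinearMap.map_smul,
          LinearMap.map_smul, LinearMap.map_smul]
        congr 2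
        have hp := (Fact.out : p.Prime)
        have hlt := Nat.mod_lt n hp.pos
        by_cases hr : n % p + 2 ≤ p
        · rw [hTx _ hr, hlow _ hr]
        · rw [show n % p = p - 1 by omega, hTx']
          exact (haa ▸ hF).symm
    obtain ⟨P, rfl⟩ := AdjoinRoot.mk_surjective t
    rw [← AdjoinRoot.aeval_eq P, Derivation.map_aeval, ← Polynomial.aeval_algHom_apply,
      Derivation.map_aeval, smul_smul, smul_smul, hall, map_mul, Polynomial.aeval_algHom_apply]

end Groth.Agent.S7340
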