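import Groth.Statements.S7341
import Groth.Agent.Lib.NumTypeProper

set_option autoImplicit false
open Finset
open Models Models.NumericalType

namespace Groth.Agent.S7341

/-- Classification of proper subgraphs which are chains of three vertices: let T be a numerical type on
n > 3 indices and i, j, k distinct (-2)-indices with a_ij > 0 and a_jk > 0. Then a_ik = 0 and, up to
reversing the order of i, j, k, one of the following holds for some integer w: (A3) w_i = w_j = w_k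
= w, a_ij = a_jk = w, with 2 m_i ≥ m_j, 2 m_j ≥ m_i + m_k, 2 m_k ≥ m_j; (C3) w_i = w_j = w, w_k =
2w, a_ij = w, a_jk = 2w, with 2 m_i ≥ m_j, 2 m_j ≥ m_i + 2 m_k, 2 m_k ≥ m_j; (B3) w_i = w_j = 2w,
w_k = w, a_ij = a_jk = 2w, with 2 m_i ≥ m_j, 2 m_j ≥ m_i + m_k, m_k ≥ m_j. -/
theorem result {n : ℕ} (T : Models.NumericalType n) (hn : 3 < n) (i j k : Fin n)
    (hij : i ≠ j) (hjk : j ≠ k) (hik : i ≠ k) (hi : T.IsMinusTwo i) (hj : T.IsMinusTwo j) (hk : T.IsMinusTwo k)
    (h1 : 0 < T.a i j) (h2 : 0 < T.a j k) :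
    T.a i k = 0 ∧ ∃ (i' k' : Fin n) (w : ℤ), ((i' = i ∧ k' = k) ∨ (i' = k ∧ k' = i)) ∧
      ((T.w i' = w ∧ T.w j = w ∧ T.w k' = w ∧ T.a i' j = w ∧ T.a j k' = w ∧
          T.m j ≤ 2 * T.m i' ∧ T.m i' + T.m k' ≤ 2 * T.m j ∧ T.m j ≤ 2 * T.m k') ∨
        (T.w i' = w ∧ T.w j = w ∧ T.w k' = 2 * w ∧ T.a i' j = w ∧ T.a j k' = 2 * w ∧
          T.m j ≤ 2 * T.m i' ∧ T.m i' + 2 * T.m k' ≤ 2 * T.m j ∧ T.m j ≤ 2 * T.m k') ∨
        (T.w i' = 2 * w ∧ T.w j = 2 * w ∧ T.w k' = w ∧ T.a i' j = 2 * w ∧ T.a j k' = 2 * w ∧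
          T.m j ≤ 2 * T.m i' ∧ T.m i' + T.m k' ≤ 2 * T.m j ∧ T.m j ≤ T.m k')) := by
  let u : ℕ → Fin n := fun t => if t = 0 then i else if t = 1 then j else k
  have hc : NumTypeLib.Chain T 3 u := by
    refine ⟨fun a b ha hb e => ?_, fun a ha => ?_, fun a ha => ?_⟩
    · interval_cases a <;> interval_cases b <;> simp [u, hij, hjk, hik, hij.symm, hjk.symm, hik.symm] at e ⊢
    · have : a < 2 := by omega
      interval_cases a
      · exact h1
      · exact h2
    · interval_cases a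
      · exact hi
      · exact hj
      · exact hk
  refine ⟨NumTypeLib.no_chord hn hc (i := 0) (j := 2) (by omega) (by omega), ?_⟩
  obtain ⟨u', hu, hc', w, hcase⟩ := NumTypeLib.chain_cases hc le_rfl hn
  have hu1 : u' 1 = j := by rcases hu with h | h <;> rw [h] <;> rfl
  have n01 := hc'.ne (i := 0) (j := 1) (by omega) (by omega) (by omega)
  have n02 := hc'.ne (i := 0) (j := 2) (by omega) (by omega) (by omega)
  have n12 := hc'.ne (i := 1) (j := 2) (by omega) (by omega) (by omega)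
  have r0 := NumTypeLib.row_one (hc'.two 0 (by omega)) n01
  have r1 := NumTypeLib.row_pair (hc'.two 1 (by omega)) n01.symm n12 n02
  have r2 := NumTypeLib.row_one (hc'.two 2 (by omega)) n12.symm
  rw [NumTypeLib.a_symm T (u' 1) (u' 0)] at r1
  rw [NumTypeLib.a_symm T (u' 2) (u' 1)] at r2
  have p0 := T.w_pos (u' 0)
  refine ⟨u' 0, u' 2, w, ?_, ?_⟩
  · rcases hu with h | h
    · exact Or.inl ⟨h 0, h 2⟩
    · exact Or.inr ⟨h 0, h 2⟩
  rw [← hu1]
  rcases hcase with ⟨hw, ha⟩ | ⟨hw, hl, ha, hla⟩ | ⟨hw, hl, ha⟩ | ⟨h4, -⟩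
  · have a0 := ha 0 (by omega); have a1 := ha 1 (by omega); have w0 := hw 0 (by omega); have w1 := hw 1 (by omega)
    have w2 := hw 2 (by omega)
    norm_num at a0 a1
    rw [a0, w0] at r0; rw [a0, a1, w1] at r1; rw [a1, w2] at r2; rw [w0] at p0
    exact Or.inl ⟨w0, w1, w2, a0, a1, by nlinarith, by nlinarith, by nlinarith⟩
  · have a0 := ha 0 (by omega); have w0 := hw 0 (by omega); have w1 := hw 1 (by omega)
    norm_num at a0 hl hla
    rw [a0, w0] at r0; rw [a0, hla, w1] at r1; rw [hla, hl] at r2; rw [w0] at p0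
    exact Or.inr (Or.inl ⟨w0, w1, hl, a0, hla, by nlinarith, by nlinarith, by nlinarith⟩)
  · have a0 := ha 0 (by omega); have a1 := ha 1 (by omega); have w0 := hw 0 (by omega); have w1 := hw 1 (by omega)
    norm_num at a0 a1 hl
    rw [a0, w0] at r0; rw [a0, a1, w1] at r1; rw [a1, hl] at r2; rw [w0] at p0
    exact Or.inr (Or.inr ⟨w0, w1, hl, a0, a1, by nlinarith, by nlinarith, by nlinarith⟩)
  · omega

end Groth.Agent.S7341
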