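import Groth.Statements.S7342
import Groth.Agent.Lib.NumTypeBasic

set_option autoImplicit false
open Finset
open Models Models.NumericalType

namespace Groth.Agent.S7342

/-- Let T be a numerical type on n indices, t ≥ 4 and n > t + 2. Then no t + 2 (-2)-indices of T,
pairwise distinct and numbered i_0, …, i_{t+1}, satisfy: a_{i_j i_{j+1}} > 0 for 1 ≤ j ≤ t - 1,
a_{i_0 i_2} > 0 and a_{i_{t-1} i_{t+1}} > 0. -/
theorem result {n : ℕ} (T : Models.NumericalType n) (t : ℕ) (ht : 4 ≤ t) (hn : t + 2 < n)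
    (v : Fin (t + 2) ↪ Fin n) (hv : ∀ j, T.IsMinusTwo (v j))
    (hchain : ∀ j j' : Fin (t + 2), 1 ≤ j.val → j.val + 1 ≤ t → j'.val = j.val + 1 → 0 < T.a (v j) (v j'))
    (h02 : ∀ j j' : Fin (t + 2), j.val = 0 → j'.val = 2 → 0 < T.a (v j) (v j'))
    (hlast : ∀ j j' : Fin (t + 2), j.val = t - 1 → j'.val = t + 1 → 0 < T.a (v j) (v j')) : False := by
  classical
  let c : Fin (t + 2) → ℚ := fun j => if j.val = 0 ∨ j.val = 1 ∨ j.val = t ∨ j.val = t + 1 then 1 else 2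
  refine NumTypeLib.no_simple T hn (by omega) v c (fun p => by simp only [c]; split_ifs <;> norm_num) hv fun p => ?_
  have hs : ∀ x y : Fin (t + 2), 0 < T.a (v x) (v y) → T.a (v y) (v x) ≠ 0 := fun x y h => by
    rw [NumTypeLib.a_symm]; exact h.ne'
  obtain ⟨p, hp⟩ := p
  have hc : ∀ q (hq : q < t + 2), c ⟨q, hq⟩ = if q = 0 ∨ q = 1 ∨ q = t ∨ q = t + 1 then 1 else 2 := fun q hq => rfl
  rcases (show p = 0 ∨ p = 1 ∨ p = 2 ∨ (3 ≤ p ∧ p + 2 ≤ t) ∨ (p + 1 = t) ∨ p = t ∨ p = t + 1 by omega) with h | h | h | h | h | h | h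
  · refine ⟨{(⟨2, by omega⟩ : Fin (t + 2))}, by simp [Fin.ext_iff] <;> omega, by simp [(h02 ⟨p, hp⟩ (⟨2, by omega⟩ : Fin (t + 2)) h rfl).ne'], ?_⟩
    rw [sum_singleton, hc, hc, if_pos (by omega), if_neg (by omega)]; norm_num
  · refine ⟨{(⟨2, by omega⟩ : Fin (t + 2))}, by simp [Fin.ext_iff] <;> omega,
      by simp [(hchain ⟨p, hp⟩ (⟨2, by omega⟩ : Fin (t + 2)) (by simp only; omega) (by simp only; omega) (by simp only; omega)).ne'], ?_⟩
    rw [sum_singleton, hc, hc, if_pos (by omega), if_neg (by omega)]; norm_num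
  · subst h
    refine ⟨{(⟨0, by omega⟩ : Fin (t + 2)), (⟨1, by omega⟩ : Fin (t + 2)), (⟨3, by omega⟩ : Fin (t + 2))}, by simp [Fin.ext_iff], ?_, ?_⟩
    · intro q hq
      simp only [mem_insert, mem_singleton] at hq
      rcases hq with rfl | rfl | rfl
      all_goals first
        | exact hs _ _ (h02 (⟨0, by omega⟩ : Fin (t + 2)) ⟨2, hp⟩ rfl rfl)
        | exact hs _ _ (hchain (⟨1, by omega⟩ : Fin (t + 2)) ⟨2, hp⟩ (by simp) (by simp only; omega) rfl)
        | exact (hchain ⟨2, hp⟩ (⟨3, by omega⟩ : Fin (t + 2)) (by simp) (by simp only; omega) rfl).ne'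
    · rw [sum_insert (by simp [Fin.ext_iff]), sum_insert (by simp [Fin.ext_iff]), sum_singleton, hc, hc, hc, hc,
        if_neg (show ¬(2 = 0 ∨ 2 = 1 ∨ 2 = t ∨ 2 = t + 1) by omega), if_neg (show ¬(3 = 0 ∨ 3 = 1 ∨ 3 = t ∨ 3 = t + 1) by omega)]
      simp; norm_num
  · refine ⟨{(⟨p - 1, by omega⟩ : Fin (t + 2)), (⟨p + 1, by omega⟩ : Fin (t + 2))}, by simp [Fin.ext_iff] <;> omega, ?_, ?_⟩
    · simp [hs _ _ (hchain (⟨p - 1, by omega⟩ : Fin (t + 2)) ⟨p, hp⟩ (by simp only; omega) (by simp only; omega) (by simp only; omega)),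
        (hchain ⟨p, hp⟩ (⟨p + 1, by omega⟩ : Fin (t + 2)) (by simp only; omega) (by simp only; omega) rfl).ne']
    · rw [sum_insert (by simp [Fin.ext_iff] <;> omega), sum_singleton, hc, hc, hc, if_neg (by omega), if_neg (by omega), if_neg (by omega)]
      norm_num
  · refine ⟨{(⟨p - 1, by omega⟩ : Fin (t + 2)), (⟨p + 1, by omega⟩ : Fin (t + 2)), (⟨t + 1, by omega⟩ : Fin (t + 2))}, by simp [Fin.ext_iff] <;> omega, ?_, ?_⟩
    · simp [hs _ _ (hchain (⟨p - 1, by omega⟩ : Fin (t + 2)) ⟨p, hp⟩ (by simp only; omega) (by simp only; omega) (by simp only; omega)),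
        (hchain ⟨p, hp⟩ (⟨p + 1, by omega⟩ : Fin (t + 2)) (by simp only; omega) (by simp only; omega) rfl).ne',
        (hlast ⟨p, hp⟩ (⟨t + 1, by omega⟩ : Fin (t + 2)) (by simp only; omega) rfl).ne']
    · rw [sum_insert (by simp [Fin.ext_iff] <;> omega), sum_insert (by simp [Fin.ext_iff] <;> omega), sum_singleton, hc, hc, hc, hc, if_neg (by omega),
        if_neg (by omega), if_pos (by omega), if_pos (by omega)]
      norm_num
  · refine ⟨{(⟨t - 1, by omega⟩ : Fin (t + 2))}, by simp [Fin.ext_iff] <;> omega,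
      by simp [hs _ _ (hchain (⟨t - 1, by omega⟩ : Fin (t + 2)) ⟨p, hp⟩ (by simp only; omega) (by simp only; omega) (by simp only; omega))], ?_⟩
    rw [sum_singleton, hc, hc, if_pos (by omega), if_neg (by omega)]; norm_num
  · refine ⟨{(⟨t - 1, by omega⟩ : Fin (t + 2))}, by simp [Fin.ext_iff] <;> omega,
      by simp [hs _ _ (hlast (⟨t - 1, by omega⟩ : Fin (t + 2)) ⟨p, hp⟩ rfl h)], ?_⟩
    rw [sum_singleton, hc, hc, if_pos (by omega), if_neg (by omega)]; norm_num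

end Groth.Agent.S7342
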