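import Groth.Statements.S7343
import Groth.Agent.Lib.NumTypeBasic

set_option autoImplicit false
open Finset
open Models Models.NumericalType

namespace Groth.Agent.S7343

/-- Let T be a numerical type on n > 7 indices. Then no seven (-2)-indices of T, pairwise distinct and
named f, g, h, i, j, k, l, have a_fg, a_gh, a_ij, a_jh, a_kl and a_lh all nonzero (three chains of
length two attached to h). -/
theorem result {n : ℕ} (T : Models.NumericalType n) (hn : 7 < n)
    (v : Fin 7 ↪ Fin n) (hv : ∀ j, T.IsMinusTwo (v j))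
    (h01 : T.a (v 0) (v 1) ≠ 0) (h12 : T.a (v 1) (v 2) ≠ 0) (h34 : T.a (v 3) (v 4) ≠ 0)
    (h42 : T.a (v 4) (v 2) ≠ 0) (h56 : T.a (v 5) (v 6) ≠ 0) (h62 : T.a (v 6) (v 2) ≠ 0) : False := by
  refine NumTypeLib.no_simple T hn (by omega) v ![1, 2, 3, 1, 2, 1, 2] (fun p => by fin_cases p <;> norm_num) hv fun p => ?_
  have s := NumTypeLib.a_symm T
  fin_cases p
  · exact ⟨{1}, by decide, by simp [h01], by simp +decide [Finset.sum_insert] <;> norm_num⟩
  · exact ⟨{0, 2}, by decide, by simp [h12, s (v 1) (v 0), h01], by simp +decide [Finset.sum_insert] <;> norm_num⟩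
  · exact ⟨{1, 4, 6}, by decide, by simp [s (v 2) (v 1), h12, s (v 2) (v 4), h42, s (v 2) (v 6), h62], by simp +decide [Finset.sum_insert] <;> norm_num⟩
  · exact ⟨{4}, by decide, by simp [h34], by simp +decide [Finset.sum_insert] <;> norm_num⟩
  · exact ⟨{3, 2}, by decide, by simp [h42, s (v 4) (v 3), h34], by simp +decide [Finset.sum_insert] <;> norm_num⟩
  · exact ⟨{6}, by decide, by simp [h56], by simp +decide [Finset.sum_insert] <;> norm_num⟩
  · exact ⟨{5, 2}, by decide, by simp [h62, s (v 6) (v 5), h56], by simp +decide [Finset.sum_insert] <;> norm_num⟩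

end Groth.Agent.S7343
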