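import Groth.Statements.S7344
import Groth.Agent.Lib.NumTypeBasic

set_option autoImplicit false
open Finset
open Models Models.NumericalType

namespace Groth.Agent.S7344

/-- Let T be a numerical type on n > 8 indices. Then no eight (-2)-indices of T, pairwise distinct and
named e, f, g, h, i, j, k, l, have a_ef, a_fg, a_gh, a_hi, a_ij, a_jk and a_lh all nonzero (a chain
of seven, e to k, with l joined to its fourth vertex h). -/
theorem result {n : ℕ} (T : Models.NumericalType n) (hn : 8 < n)
    (v : Fin 8 ↪ Fin n) (hv : ∀ j, T.IsMinusTwo (v j))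
    (h01 : T.a (v 0) (v 1) ≠ 0) (h12 : T.a (v 1) (v 2) ≠ 0) (h23 : T.a (v 2) (v 3) ≠ 0)
    (h34 : T.a (v 3) (v 4) ≠ 0) (h45 : T.a (v 4) (v 5) ≠ 0) (h56 : T.a (v 5) (v 6) ≠ 0)
    (h73 : T.a (v 7) (v 3) ≠ 0) : False := by
  refine NumTypeLib.no_simple T hn (by omega) v ![1, 2, 3, 4, 3, 2, 1, 2] (fun p => by fin_cases p <;> norm_num) hv fun p => ?_
  have s := NumTypeLib.a_symm T
  fin_cases p
  · exact ⟨{1}, by decide, by simp [h01], by simp +decide [Finset.sum_insert] <;> norm_num⟩
  · exact ⟨{0, 2}, by decide, by simp [h12, s (v 1) (v 0), h01], by simp +decide [Finset.sum_insert] <;> norm_num⟩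
  · exact ⟨{1, 3}, by decide, by simp [h23, s (v 2) (v 1), h12], by simp +decide [Finset.sum_insert] <;> norm_num⟩
  · exact ⟨{2, 4, 7}, by decide, by simp [h34, s (v 3) (v 2), h23, s (v 3) (v 7), h73], by simp +decide [Finset.sum_insert] <;> norm_num⟩
  · exact ⟨{3, 5}, by decide, by simp [h45, s (v 4) (v 3), h34], by simp +decide [Finset.sum_insert] <;> norm_num⟩
  · exact ⟨{4, 6}, by decide, by simp [h56, s (v 5) (v 4), h45], by simp +decide [Finset.sum_insert] <;> norm_num⟩
  · exact ⟨{5}, by decide, by simp [s (v 6) (v 5), h56], by simp +decide [Finset.sum_insert] <;> norm_num⟩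
  · exact ⟨{3}, by decide, by simp [h73], by simp +decide [Finset.sum_insert] <;> norm_num⟩

end Groth.Agent.S7344
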