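import Groth.Statements.S7345
import Groth.Agent.Lib.NumTypeBasic

set_option autoImplicit false
open Finset
open Models Models.NumericalType

namespace Groth.Agent.S7345

/-- Let T be a numerical type on n > 9 indices. Then no nine (-2)-indices of T, pairwise distinct and
named d, e, f, g, h, i, j, k, l, have a_de, a_ef, a_fg, a_gh, a_hi, a_ij, a_jk and a_li all nonzero
(a chain of eight, d to k, with l joined to its sixth vertex i). (The published list of nonzero
entries ends with a_lh, joining l to the fifth vertex h; that configuration already contains the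
completed E7 configuration on eight of the indices and is impossible for that reason alone. The
pictured graph and the argument for it join l to the sixth vertex i, and this row states that case.) -/
theorem result {n : ℕ} (T : Models.NumericalType n) (hn : 9 < n)
    (v : Fin 9 ↪ Fin n) (hv : ∀ j, T.IsMinusTwo (v j))
    (h01 : T.a (v 0) (v 1) ≠ 0) (h12 : T.a (v 1) (v 2) ≠ 0) (h23 : T.a (v 2) (v 3) ≠ 0)
    (h34 : T.a (v 3) (v 4) ≠ 0) (h45 : T.a (v 4) (v 5) ≠ 0) (h56 : T.a (v 5) (v 6) ≠ 0)
    (h67 : T.a (v 6) (v 7) ≠ 0) (h85 : T.a (v 8) (v 5) ≠ 0) : False := by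
  refine NumTypeLib.no_simple T hn (by omega) v ![1, 2, 3, 4, 5, 6, 4, 2, 3] (fun p => by fin_cases p <;> norm_num) hv fun p => ?_
  have s := NumTypeLib.a_symm T
  fin_cases p
  · exact ⟨{1}, by decide, by simp [h01], by simp +decide [Finset.sum_insert] <;> norm_num⟩
  · exact ⟨{0, 2}, by decide, by simp [h12, s (v 1) (v 0), h01], by simp +decide [Finset.sum_insert] <;> norm_num⟩
  · exact ⟨{1, 3}, by decide, by simp [h23, s (v 2) (v 1), h12], by simp +decide [Finset.sum_insert] <;> norm_num⟩
  · exact ⟨{2, 4}, by decide, by simp [h34, s (v 3) (v 2), h23], by simp +decide [Finset.sum_insert] <;> norm_num⟩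
  · exact ⟨{3, 5}, by decide, by simp [h45, s (v 4) (v 3), h34], by simp +decide [Finset.sum_insert] <;> norm_num⟩
  · exact ⟨{4, 6, 8}, by decide, by simp [h56, s (v 5) (v 4), h45, s (v 5) (v 8), h85], by simp +decide [Finset.sum_insert] <;> norm_num⟩
  · exact ⟨{5, 7}, by decide, by simp [h67, s (v 6) (v 5), h56], by simp +decide [Finset.sum_insert] <;> norm_num⟩
  · exact ⟨{6}, by decide, by simp [s (v 7) (v 6), h67], by simp +decide [Finset.sum_insert] <;> norm_num⟩
  · exact ⟨{5}, by decide, by simp [h85], by simp +decide [Finset.sum_insert] <;> norm_num⟩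

end Groth.Agent.S7345
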