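import Groth.Statements.S7347
import Groth.Agent.Lib.NumTypeProper

set_option autoImplicit false
open Finset
open Models Models.NumericalType

namespace Groth.Agent.S7347

set_option maxHeartbeats 2000000 in
/-- Classification of proper subgraphs of type D5 (a chain i_1 i_2 i_3 with i_4 and i_5 both joined to
i_3): let T be a numerical type on n > 5 indices and i_1, …, i_5 distinct (-2)-indices with a_{12},
a_{23}, a_{34}, a_{35} nonzero. Then for some integer w all w_{i_j} equal w, these intersection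
numbers equal w, all other a_{i_j i_k} (j ≠ k) vanish, and 2 m_1 ≥ m_2, 2 m_2 ≥ m_1 + m_3, 2 m_3 ≥
m_2 + m_4 + m_5, 2 m_4 ≥ m_3, 2 m_5 ≥ m_3. -/
theorem result {n : ℕ} (T : Models.NumericalType n) (hn : 5 < n)
    (v : Fin 5 ↪ Fin n) (hv : ∀ j, T.IsMinusTwo (v j)) (h01 : T.a (v 0) (v 1) ≠ 0) (h12 : T.a (v 1) (v 2) ≠ 0) (h23 : T.a (v 2) (v 3) ≠ 0) (h24 : T.a (v 2) (v 4) ≠ 0) :
    ∃ w : ℤ, (∀ j : Fin 5, T.w (v j) = w) ∧
      T.a (v 0) (v 1) = w ∧
      T.a (v 1) (v 2) = w ∧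
      T.a (v 2) (v 3) = w ∧
      T.a (v 2) (v 4) = w ∧
      T.a (v 0) (v 2) = 0 ∧
      T.a (v 0) (v 3) = 0 ∧
      T.a (v 0) (v 4) = 0 ∧
      T.a (v 1) (v 3) = 0 ∧
      T.a (v 1) (v 4) = 0 ∧
      T.a (v 3) (v 4) = 0 ∧
      T.m (v 1) ≤ 2 * T.m (v 0) ∧
      T.m (v 0) + T.m (v 2) ≤ 2 * T.m (v 1) ∧
      T.m (v 1) + T.m (v 3) + T.m (v 4) ≤ 2 * T.m (v 2) ∧
      T.m (v 2) ≤ 2 * T.m (v 3) ∧
      T.m (v 2) ≤ 2 * T.m (v 4) := by
  let u : ℕ → Fin n := fun t => if h : t < 4 then ![v 0, v 1, v 2, v 3] ⟨t, h⟩ else v 0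
  have e0 : u 0 = v 0 := rfl
  have e1 : u 1 = v 1 := rfl
  have e2 : u 2 = v 2 := rfl
  have e3 : u 3 = v 3 := rfl
  have hc : NumTypeLib.Chain T 4 u := by
    refine ⟨fun a b ha hb e => ?_, fun a ha => ?_, fun a ha => ?_⟩
    · interval_cases a <;> interval_cases b <;> simp only [e0, e1, e2, e3, v.injective.eq_iff] at e <;> first | rfl | exact absurd e (by decide)
    · have ha' : a < 3 := by omega
      interval_cases a
      · exact (show 0 < T.a (v 0) (v 1) from NumTypeLib.offdiag_pos T (by simp [v.injective.eq_iff]) h01)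
      · exact (show 0 < T.a (v 1) (v 2) from NumTypeLib.offdiag_pos T (by simp [v.injective.eq_iff]) h12)
      · exact (show 0 < T.a (v 2) (v 3) from NumTypeLib.offdiag_pos T (by simp [v.injective.eq_iff]) h23)
    · interval_cases a <;> exact hv _
  obtain ⟨w, hw, hwx, ha, hax, hz, hzx⟩ := NumTypeLib.fork_proper hc (x := v 4) (hv _)
    (fun a ha => by interval_cases a <;> simp only [e0, e1, e2, e3, Ne, v.injective.eq_iff] <;> decide) (i := 2) (by omega) (by omega)
    (show 0 < T.a (v 4) (v 2) by rw [NumTypeLib.a_symm]; exact (show 0 < T.a (v 2) (v 4) from NumTypeLib.offdiag_pos T (by simp [v.injective.eq_iff]) h24)) (by omega)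
  have w0 : T.w (v 0) = w := hw 0 (by omega)
  have w1 : T.w (v 1) = w := hw 1 (by omega)
  have w2 : T.w (v 2) = w := hw 2 (by omega)
  have w3 : T.w (v 3) = w := hw 3 (by omega)
  have A01 : T.a (v 0) (v 1) = w := ha 0 (by omega)
  have A10 : T.a (v 1) (v 0) = w := (NumTypeLib.a_symm T _ _).trans A01
  have A12 : T.a (v 1) (v 2) = w := ha 1 (by omega)
  have A21 : T.a (v 2) (v 1) = w := (NumTypeLib.a_symm T _ _).trans A12
  have A23 : T.a (v 2) (v 3) = w := ha 2 (by omega)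
  have A32 : T.a (v 3) (v 2) = w := (NumTypeLib.a_symm T _ _).trans A23
  have A24 : T.a (v 2) (v 4) = w := hax
  have A42 : T.a (v 4) (v 2) = w := (NumTypeLib.a_symm T _ _).trans hax
  have Z02 : T.a (v 0) (v 2) = 0 := hz 0 2 (by omega) (by omega)
  have Z03 : T.a (v 0) (v 3) = 0 := hz 0 3 (by omega) (by omega)
  have Z04 : T.a (v 0) (v 4) = 0 := hzx 0 (by omega) (by omega)
  have Z13 : T.a (v 1) (v 3) = 0 := hz 1 3 (by omega) (by omega)
  have Z14 : T.a (v 1) (v 4) = 0 := hzx 1 (by omega) (by omega)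
  have Z34 : T.a (v 3) (v 4) = 0 := hzx 3 (by omega) (by omega)
  have hwpos : 0 < w := w0 ▸ T.w_pos (v 0)
  have r0 := NumTypeLib.row_one (i := v 0) (j := v 1) (hv _) (by simp [v.injective.eq_iff])
  rw [A01, w0] at r0
  have r1 := NumTypeLib.row_pair (i := v 1) (j := v 0) (l := v 2) (hv _) (by simp [v.injective.eq_iff]) (by simp [v.injective.eq_iff]) (by simp [v.injective.eq_iff])
  rw [A10, A12, w1] at r1
  have r2 := NumTypeLib.row_triple (i := v 2) (j := v 1) (l := v 3) (r := v 4) (hv _) (by simp [v.injective.eq_iff]) (by simp [v.injective.eq_iff]) (by simp [v.injective.eq_iff]) (by simp [v.injective.eq_iff]) (by simp [v.injective.eq_iff]) (by simp [v.injective.eq_iff])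
  rw [A21, A23, A24, w2] at r2
  have r3 := NumTypeLib.row_one (i := v 3) (j := v 2) (hv _) (by simp [v.injective.eq_iff])
  rw [A32, w3] at r3
  have r4 := NumTypeLib.row_one (i := v 4) (j := v 2) (hv _) (by simp [v.injective.eq_iff])
  rw [A42, hwx] at r4
  refine ⟨w, fun j => ?_, ?_, ?_, ?_, ?_, ?_, ?_, ?_, ?_, ?_, ?_, ?_, ?_, ?_, ?_, ?_⟩
  · fin_cases j <;> first | exact hwx | exact w0 | exact w1 | exact w2 | exact w3
  all_goals first | assumption | exact le_of_mul_le_mul_left (by linarith) hwpos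

end Groth.Agent.S7347
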