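import Groth.Statements.S7348
import Groth.Agent.Lib.NumTypeProper

set_option autoImplicit false
open Finset
open Models Models.NumericalType

namespace Groth.Agent.S7348

set_option maxHeartbeats 2000000 in
/-- Classification of proper subgraphs of type E6 (a chain i_1 … i_5 with i_6 joined to i_3): let T be a
numerical type on n > 6 indices and i_1, …, i_6 distinct (-2)-indices with a_{12}, a_{23}, a_{34},
a_{45}, a_{36} nonzero. Then for some integer w all w_{i_j} equal w, these intersection numbers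
equal w, all other a_{i_j i_k} (j ≠ k) vanish, and 2 m_1 ≥ m_2, 2 m_2 ≥ m_1 + m_3, 2 m_3 ≥ m_2 + m_4
+ m_6, 2 m_4 ≥ m_3 + m_5, 2 m_5 ≥ m_4, 2 m_6 ≥ m_3. (The published list of inequalities has 2 m_5 ≥
m_3 where the intersection matrix gives 2 m_5 ≥ m_4; the former fails for the extended E8
configuration of multiplicities 4, 5, 6, 4, 2 with 3 attached to the third vertex, so 2 m_5 ≥ m_4 is
stated.) -/
theorem result {n : ℕ} (T : Models.NumericalType n) (hn : 6 < n)
    (v : Fin 6 ↪ Fin n) (hv : ∀ j, T.IsMinusTwo (v j)) (h01 : T.a (v 0) (v 1) ≠ 0) (h12 : T.a (v 1) (v 2) ≠ 0) (h23 : T.a (v 2) (v 3) ≠ 0) (h34 : T.a (v 3) (v 4) ≠ 0) (h25 : T.a (v 2) (v 5) ≠ 0) :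
    ∃ w : ℤ, (∀ j : Fin 6, T.w (v j) = w) ∧
      T.a (v 0) (v 1) = w ∧
      T.a (v 1) (v 2) = w ∧
      T.a (v 2) (v 3) = w ∧
      T.a (v 3) (v 4) = w ∧
      T.a (v 2) (v 5) = w ∧
      T.a (v 0) (v 2) = 0 ∧
      T.a (v 0) (v 3) = 0 ∧
      T.a (v 0) (v 4) = 0 ∧
      T.a (v 0) (v 5) = 0 ∧
      T.a (v 1) (v 3) = 0 ∧
      T.a (v 1) (v 4) = 0 ∧
      T.a (v 1) (v 5) = 0 ∧
      T.a (v 2) (v 4) = 0 ∧
      T.a (v 3) (v 5) = 0 ∧
      T.a (v 4) (v 5) = 0 ∧
      T.m (v 1) ≤ 2 * T.m (v 0) ∧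
      T.m (v 0) + T.m (v 2) ≤ 2 * T.m (v 1) ∧
      T.m (v 1) + T.m (v 3) + T.m (v 5) ≤ 2 * T.m (v 2) ∧
      T.m (v 2) + T.m (v 4) ≤ 2 * T.m (v 3) ∧
      T.m (v 3) ≤ 2 * T.m (v 4) ∧
      T.m (v 2) ≤ 2 * T.m (v 5) := by
  let u : ℕ → Fin n := fun t => if h : t < 5 then ![v 0, v 1, v 2, v 3, v 4] ⟨t, h⟩ else v 0
  have e0 : u 0 = v 0 := rfl
  have e1 : u 1 = v 1 := rfl
  have e2 : u 2 = v 2 := rfl
  have e3 : u 3 = v 3 := rfl
  have e4 : u 4 = v 4 := rfl
  have hc : NumTypeLib.Chain T 5 u := by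
    refine ⟨fun a b ha hb e => ?_, fun a ha => ?_, fun a ha => ?_⟩
    · interval_cases a <;> interval_cases b <;> simp only [e0, e1, e2, e3, e4, v.injective.eq_iff] at e <;> first | rfl | exact absurd e (by decide)
    · have ha' : a < 4 := by omega
      interval_cases a
      · exact (show 0 < T.a (v 0) (v 1) from NumTypeLib.offdiag_pos T (by simp [v.injective.eq_iff]) h01)
      · exact (show 0 < T.a (v 1) (v 2) from NumTypeLib.offdiag_pos T (by simp [v.injective.eq_iff]) h12)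
      · exact (show 0 < T.a (v 2) (v 3) from NumTypeLib.offdiag_pos T (by simp [v.injective.eq_iff]) h23)
      · exact (show 0 < T.a (v 3) (v 4) from NumTypeLib.offdiag_pos T (by simp [v.injective.eq_iff]) h34)
    · interval_cases a <;> exact hv _
  obtain ⟨w, hw, hwx, ha, hax, hz, hzx⟩ := NumTypeLib.fork_proper hc (x := v 5) (hv _)
    (fun a ha => by interval_cases a <;> simp only [e0, e1, e2, e3, e4, Ne, v.injective.eq_iff] <;> decide) (i := 2) (by omega) (by omega)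
    (show 0 < T.a (v 5) (v 2) by rw [NumTypeLib.a_symm]; exact (show 0 < T.a (v 2) (v 5) from NumTypeLib.offdiag_pos T (by simp [v.injective.eq_iff]) h25)) (by omega)
  have w0 : T.w (v 0) = w := hw 0 (by omega)
  have w1 : T.w (v 1) = w := hw 1 (by omega)
  have w2 : T.w (v 2) = w := hw 2 (by omega)
  have w3 : T.w (v 3) = w := hw 3 (by omega)
  have w4 : T.w (v 4) = w := hw 4 (by omega)
  have A01 : T.a (v 0) (v 1) = w := ha 0 (by omega)
  have A10 : T.a (v 1) (v 0) = w := (NumTypeLib.a_symm T _ _).trans A01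
  have A12 : T.a (v 1) (v 2) = w := ha 1 (by omega)
  have A21 : T.a (v 2) (v 1) = w := (NumTypeLib.a_symm T _ _).trans A12
  have A23 : T.a (v 2) (v 3) = w := ha 2 (by omega)
  have A32 : T.a (v 3) (v 2) = w := (NumTypeLib.a_symm T _ _).trans A23
  have A34 : T.a (v 3) (v 4) = w := ha 3 (by omega)
  have A43 : T.a (v 4) (v 3) = w := (NumTypeLib.a_symm T _ _).trans A34
  have A25 : T.a (v 2) (v 5) = w := hax
  have A52 : T.a (v 5) (v 2) = w := (NumTypeLib.a_symm T _ _).trans hax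
  have Z02 : T.a (v 0) (v 2) = 0 := hz 0 2 (by omega) (by omega)
  have Z03 : T.a (v 0) (v 3) = 0 := hz 0 3 (by omega) (by omega)
  have Z04 : T.a (v 0) (v 4) = 0 := hz 0 4 (by omega) (by omega)
  have Z05 : T.a (v 0) (v 5) = 0 := hzx 0 (by omega) (by omega)
  have Z13 : T.a (v 1) (v 3) = 0 := hz 1 3 (by omega) (by omega)
  have Z14 : T.a (v 1) (v 4) = 0 := hz 1 4 (by omega) (by omega)
  have Z15 : T.a (v 1) (v 5) = 0 := hzx 1 (by omega) (by omega)
  have Z24 : T.a (v 2) (v 4) = 0 := hz 2 4 (by omega) (by omega)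
  have Z35 : T.a (v 3) (v 5) = 0 := hzx 3 (by omega) (by omega)
  have Z45 : T.a (v 4) (v 5) = 0 := hzx 4 (by omega) (by omega)
  have hwpos : 0 < w := w0 ▸ T.w_pos (v 0)
  have r0 := NumTypeLib.row_one (i := v 0) (j := v 1) (hv _) (by simp [v.injective.eq_iff])
  rw [A01, w0] at r0
  have r1 := NumTypeLib.row_pair (i := v 1) (j := v 0) (l := v 2) (hv _) (by simp [v.injective.eq_iff]) (by simp [v.injective.eq_iff]) (by simp [v.injective.eq_iff])
  rw [A10, A12, w1] at r1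
  have r2 := NumTypeLib.row_triple (i := v 2) (j := v 1) (l := v 3) (r := v 5) (hv _) (by simp [v.injective.eq_iff]) (by simp [v.injective.eq_iff]) (by simp [v.injective.eq_iff]) (by simp [v.injective.eq_iff]) (by simp [v.injective.eq_iff]) (by simp [v.injective.eq_iff])
  rw [A21, A23, A25, w2] at r2
  have r3 := NumTypeLib.row_pair (i := v 3) (j := v 2) (l := v 4) (hv _) (by simp [v.injective.eq_iff]) (by simp [v.injective.eq_iff]) (by simp [v.injective.eq_iff])
  rw [A32, A34, w3] at r3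
  have r4 := NumTypeLib.row_one (i := v 4) (j := v 3) (hv _) (by simp [v.injective.eq_iff])
  rw [A43, w4] at r4
  have r5 := NumTypeLib.row_one (i := v 5) (j := v 2) (hv _) (by simp [v.injective.eq_iff])
  rw [A52, hwx] at r5
  refine ⟨w, fun j => ?_, ?_, ?_, ?_, ?_, ?_, ?_, ?_, ?_, ?_, ?_, ?_, ?_, ?_, ?_, ?_, ?_, ?_, ?_, ?_, ?_, ?_⟩
  · fin_cases j <;> first | exact hwx | exact w0 | exact w1 | exact w2 | exact w3 | exact w4
  all_goals first | assumption | exact le_of_mul_le_mul_left (by linarith) hwpos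

end Groth.Agent.S7348
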