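import Groth.Statements.S7349
import Groth.Agent.Lib.NumTypeProper

set_option autoImplicit false
open Finset
open Models Models.NumericalType

namespace Groth.Agent.S7349

set_option maxHeartbeats 2000000 in
/-- Classification of proper subgraphs of type E7 (a chain i_1 … i_6 with i_7 joined to i_4): let T be a
numerical type on n > 7 indices and i_1, …, i_7 distinct (-2)-indices with a_{12}, a_{23}, a_{34},
a_{45}, a_{56}, a_{47} nonzero. Then for some integer w all w_{i_j} equal w, these intersection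
numbers equal w, all other a_{i_j i_k} (j ≠ k) vanish, and 2 m_1 ≥ m_2, 2 m_2 ≥ m_1 + m_3, 2 m_3 ≥
m_2 + m_4, 2 m_4 ≥ m_3 + m_5 + m_7, 2 m_5 ≥ m_4 + m_6, 2 m_6 ≥ m_5, 2 m_7 ≥ m_4. -/
theorem result {n : ℕ} (T : Models.NumericalType n) (hn : 7 < n)
    (v : Fin 7 ↪ Fin n) (hv : ∀ j, T.IsMinusTwo (v j)) (h01 : T.a (v 0) (v 1) ≠ 0) (h12 : T.a (v 1) (v 2) ≠ 0) (h23 : T.a (v 2) (v 3) ≠ 0) (h34 : T.a (v 3) (v 4) ≠ 0) (h45 : T.a (v 4) (v 5) ≠ 0) (h36 : T.a (v 3) (v 6) ≠ 0) :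
    ∃ w : ℤ, (∀ j : Fin 7, T.w (v j) = w) ∧
      T.a (v 0) (v 1) = w ∧
      T.a (v 1) (v 2) = w ∧
      T.a (v 2) (v 3) = w ∧
      T.a (v 3) (v 4) = w ∧
      T.a (v 4) (v 5) = w ∧
      T.a (v 3) (v 6) = w ∧
      T.a (v 0) (v 2) = 0 ∧
      T.a (v 0) (v 3) = 0 ∧
      T.a (v 0) (v 4) = 0 ∧
      T.a (v 0) (v 5) = 0 ∧
      T.a (v 0) (v 6) = 0 ∧
      T.a (v 1) (v 3) = 0 ∧
      T.a (v 1) (v 4) = 0 ∧
      T.a (v 1) (v 5) = 0 ∧
      T.a (v 1) (v 6) = 0 ∧
      T.a (v 2) (v 4) = 0 ∧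
      T.a (v 2) (v 5) = 0 ∧
      T.a (v 2) (v 6) = 0 ∧
      T.a (v 3) (v 5) = 0 ∧
      T.a (v 4) (v 6) = 0 ∧
      T.a (v 5) (v 6) = 0 ∧
      T.m (v 1) ≤ 2 * T.m (v 0) ∧
      T.m (v 0) + T.m (v 2) ≤ 2 * T.m (v 1) ∧
      T.m (v 1) + T.m (v 3) ≤ 2 * T.m (v 2) ∧
      T.m (v 2) + T.m (v 4) + T.m (v 6) ≤ 2 * T.m (v 3) ∧
      T.m (v 3) + T.m (v 5) ≤ 2 * T.m (v 4) ∧
      T.m (v 4) ≤ 2 * T.m (v 5) ∧
      T.m (v 3) ≤ 2 * T.m (v 6) := by
  let u : ℕ → Fin n := fun t => if h : t < 6 then ![v 0, v 1, v 2, v 3, v 4, v 5] ⟨t, h⟩ else v 0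
  have e0 : u 0 = v 0 := rfl
  have e1 : u 1 = v 1 := rfl
  have e2 : u 2 = v 2 := rfl
  have e3 : u 3 = v 3 := rfl
  have e4 : u 4 = v 4 := rfl
  have e5 : u 5 = v 5 := rfl
  have hc : NumTypeLib.Chain T 6 u := by
    refine ⟨fun a b ha hb e => ?_, fun a ha => ?_, fun a ha => ?_⟩
    · interval_cases a <;> interval_cases b <;> simp only [e0, e1, e2, e3, e4, e5, v.injective.eq_iff] at e <;> first | rfl | exact absurd e (by decide)
    · have ha' : a < 5 := by omega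
      interval_cases a
      · exact (show 0 < T.a (v 0) (v 1) from NumTypeLib.offdiag_pos T (by simp [v.injective.eq_iff]) h01)
      · exact (show 0 < T.a (v 1) (v 2) from NumTypeLib.offdiag_pos T (by simp [v.injective.eq_iff]) h12)
      · exact (show 0 < T.a (v 2) (v 3) from NumTypeLib.offdiag_pos T (by simp [v.injective.eq_iff]) h23)
      · exact (show 0 < T.a (v 3) (v 4) from NumTypeLib.offdiag_pos T (by simp [v.injective.eq_iff]) h34)
      · exact (show 0 < T.a (v 4) (v 5) from NumTypeLib.offdiag_pos T (by simp [v.injective.eq_iff]) h45)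
    · interval_cases a <;> exact hv _
  obtain ⟨w, hw, hwx, ha, hax, hz, hzx⟩ := NumTypeLib.fork_proper hc (x := v 6) (hv _)
    (fun a ha => by interval_cases a <;> simp only [e0, e1, e2, e3, e4, e5, Ne, v.injective.eq_iff] <;> decide) (i := 3) (by omega) (by omega)
    (show 0 < T.a (v 6) (v 3) by rw [NumTypeLib.a_symm]; exact (show 0 < T.a (v 3) (v 6) from NumTypeLib.offdiag_pos T (by simp [v.injective.eq_iff]) h36)) (by omega)
  have w0 : T.w (v 0) = w := hw 0 (by omega)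
  have w1 : T.w (v 1) = w := hw 1 (by omega)
  have w2 : T.w (v 2) = w := hw 2 (by omega)
  have w3 : T.w (v 3) = w := hw 3 (by omega)
  have w4 : T.w (v 4) = w := hw 4 (by omega)
  have w5 : T.w (v 5) = w := hw 5 (by omega)
  have A01 : T.a (v 0) (v 1) = w := ha 0 (by omega)
  have A10 : T.a (v 1) (v 0) = w := (NumTypeLib.a_symm T _ _).trans A01
  have A12 : T.a (v 1) (v 2) = w := ha 1 (by omega)
  have A21 : T.a (v 2) (v 1) = w := (NumTypeLib.a_symm T _ _).trans A12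
  have A23 : T.a (v 2) (v 3) = w := ha 2 (by omega)
  have A32 : T.a (v 3) (v 2) = w := (NumTypeLib.a_symm T _ _).trans A23
  have A34 : T.a (v 3) (v 4) = w := ha 3 (by omega)
  have A43 : T.a (v 4) (v 3) = w := (NumTypeLib.a_symm T _ _).trans A34
  have A45 : T.a (v 4) (v 5) = w := ha 4 (by omega)
  have A54 : T.a (v 5) (v 4) = w := (NumTypeLib.a_symm T _ _).trans A45
  have A36 : T.a (v 3) (v 6) = w := hax
  have A63 : T.a (v 6) (v 3) = w := (NumTypeLib.a_symm T _ _).trans hax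
  have Z02 : T.a (v 0) (v 2) = 0 := hz 0 2 (by omega) (by omega)
  have Z03 : T.a (v 0) (v 3) = 0 := hz 0 3 (by omega) (by omega)
  have Z04 : T.a (v 0) (v 4) = 0 := hz 0 4 (by omega) (by omega)
  have Z05 : T.a (v 0) (v 5) = 0 := hz 0 5 (by omega) (by omega)
  have Z06 : T.a (v 0) (v 6) = 0 := hzx 0 (by omega) (by omega)
  have Z13 : T.a (v 1) (v 3) = 0 := hz 1 3 (by omega) (by omega)
  have Z14 : T.a (v 1) (v 4) = 0 := hz 1 4 (by omega) (by omega)
  have Z15 : T.a (v 1) (v 5) = 0 := hz 1 5 (by omega) (by omega)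
  have Z16 : T.a (v 1) (v 6) = 0 := hzx 1 (by omega) (by omega)
  have Z24 : T.a (v 2) (v 4) = 0 := hz 2 4 (by omega) (by omega)
  have Z25 : T.a (v 2) (v 5) = 0 := hz 2 5 (by omega) (by omega)
  have Z26 : T.a (v 2) (v 6) = 0 := hzx 2 (by omega) (by omega)
  have Z35 : T.a (v 3) (v 5) = 0 := hz 3 5 (by omega) (by omega)
  have Z46 : T.a (v 4) (v 6) = 0 := hzx 4 (by omega) (by omega)
  have Z56 : T.a (v 5) (v 6) = 0 := hzx 5 (by omega) (by omega)
  have hwpos : 0 < w := w0 ▸ T.w_pos (v 0)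
  have r0 := NumTypeLib.row_one (i := v 0) (j := v 1) (hv _) (by simp [v.injective.eq_iff])
  rw [A01, w0] at r0
  have r1 := NumTypeLib.row_pair (i := v 1) (j := v 0) (l := v 2) (hv _) (by simp [v.injective.eq_iff]) (by simp [v.injective.eq_iff]) (by simp [v.injective.eq_iff])
  rw [A10, A12, w1] at r1
  have r2 := NumTypeLib.row_pair (i := v 2) (j := v 1) (l := v 3) (hv _) (by simp [v.injective.eq_iff]) (by simp [v.injective.eq_iff]) (by simp [v.injective.eq_iff])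
  rw [A21, A23, w2] at r2
  have r3 := NumTypeLib.row_triple (i := v 3) (j := v 2) (l := v 4) (r := v 6) (hv _) (by simp [v.injective.eq_iff]) (by simp [v.injective.eq_iff]) (by simp [v.injective.eq_iff]) (by simp [v.injective.eq_iff]) (by simp [v.injective.eq_iff]) (by simp [v.injective.eq_iff])
  rw [A32, A34, A36, w3] at r3
  have r4 := NumTypeLib.row_pair (i := v 4) (j := v 3) (l := v 5) (hv _) (by simp [v.injective.eq_iff]) (by simp [v.injective.eq_iff]) (by simp [v.injective.eq_iff])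
  rw [A43, A45, w4] at r4
  have r5 := NumTypeLib.row_one (i := v 5) (j := v 4) (hv _) (by simp [v.injective.eq_iff])
  rw [A54, w5] at r5
  have r6 := NumTypeLib.row_one (i := v 6) (j := v 3) (hv _) (by simp [v.injective.eq_iff])
  rw [A63, hwx] at r6
  refine ⟨w, fun j => ?_, ?_, ?_, ?_, ?_, ?_, ?_, ?_, ?_, ?_, ?_, ?_, ?_, ?_, ?_, ?_, ?_, ?_, ?_, ?_, ?_, ?_, ?_, ?_, ?_, ?_, ?_, ?_, ?_⟩
  · fin_cases j <;> first | exact hwx | exact w0 | exact w1 | exact w2 | exact w3 | exact w4 | exact w5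
  all_goals first | assumption | exact le_of_mul_le_mul_left (by linarith) hwpos

end Groth.Agent.S7349
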