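import Groth.Statements.S7351
import Groth.Agent.Lib.NumTypeBasic

set_option autoImplicit false
open Finset
open Models Models.NumericalType

namespace Groth.Agent.S7351

/-- Let T be a numerical type on n > 5 indices. There do not exist five distinct (-2)-indices h, i, j,
k, l with a_hi > 0, a_hj > 0, a_hk > 0 and a_hl > 0. -/
theorem result {n : ℕ} (T : Models.NumericalType n) (hn : 5 < n)
    (v : Fin 5 ↪ Fin n) (hv : ∀ j, T.IsMinusTwo (v j))
    (h01 : 0 < T.a (v 0) (v 1)) (h02 : 0 < T.a (v 0) (v 2)) (h03 : 0 < T.a (v 0) (v 3)) (h04 : 0 < T.a (v 0) (v 4)) : False := by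
  refine NumTypeLib.no_simple T hn (by omega) v ![2, 1, 1, 1, 1] (fun p => by fin_cases p <;> norm_num) hv fun p => ?_
  have hs : ∀ x y, 0 < T.a x y → T.a y x ≠ 0 := fun x y h => by rw [NumTypeLib.a_symm]; exact h.ne'
  fin_cases p
  · exact ⟨{1, 2, 3, 4}, by decide, by simp [h01.ne', h02.ne', h03.ne', h04.ne'], by simp +decide [Finset.sum_insert] <;> norm_num⟩
  all_goals exact ⟨{0}, by decide, by simp [hs _ _ h01, hs _ _ h02, hs _ _ h03, hs _ _ h04], by simp +decide [Finset.sum_insert] <;> norm_num⟩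

end Groth.Agent.S7351
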