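import Groth.Statements.S7352
import Groth.Agent.Lib.NumTypeProper

set_option autoImplicit false
open Finset
open Models Models.NumericalType

namespace Groth.Agent.S7352

/-- Classification of proper subgraphs which are chains of four vertices: let T be a numerical type on n
> 4 indices and i_1, …, i_4 distinct (-2)-indices with a_{i_j i_{j+1}} nonzero for j < 4. Then
a_{i_j i_l} = 0 for |j - l| ≥ 2 and, after possibly reversing the order of the indices, for some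
integer w one of the following holds: (A4) w = (w, w, w, w), consecutive a = (w, w, w), with 2m_1 ≥
m_2, 2m_2 ≥ m_1 + m_3, 2m_3 ≥ m_2 + m_4, 2m_4 ≥ m_3; (C4) w = (w, w, w, 2w), consecutive a = (w, w,
2w), with 2m_1 ≥ m_2, 2m_2 ≥ m_1 + m_3, 2m_3 ≥ m_2 + 2m_4, 2m_4 ≥ m_3; (B4) w = (2w, 2w, 2w, w),
consecutive a = (2w, 2w, 2w), with 2m_1 ≥ m_2, 2m_2 ≥ m_1 + m_3, 2m_3 ≥ m_2 + m_4, m_4 ≥ m_3; (F4) w
= (w, w, 2w, 2w), consecutive a = (w, 2w, 2w), with 2m_1 ≥ m_2, 2m_2 ≥ m_1 + 2m_3, 2m_3 ≥ m_2 + m_4,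
2m_4 ≥ m_3. -/
theorem result {n : ℕ} (T : Models.NumericalType n) (hn : 4 < n)
    (v : Fin 4 ↪ Fin n) (hv : ∀ j, T.IsMinusTwo (v j)) (h01 : T.a (v 0) (v 1) ≠ 0) (h12 : T.a (v 1) (v 2) ≠ 0) (h23 : T.a (v 2) (v 3) ≠ 0) :
    (T.a (v 0) (v 2) = 0 ∧ T.a (v 0) (v 3) = 0 ∧ T.a (v 1) (v 3) = 0) ∧
    ∃ (u : Fin 4 → Fin n) (w : ℤ), ((∀ j, u j = v j) ∨ (∀ j, u j = v (Fin.rev j))) ∧
      ((T.w (u 0) = w ∧ T.w (u 1) = w ∧ T.w (u 2) = w ∧ T.w (u 3) = w ∧ T.a (u 0) (u 1) = w ∧ T.a (u 1) (u 2) = w ∧ T.a (u 2) (u 3) = w ∧ T.m (u 1) ≤ 2 * T.m (u 0) ∧ T.m (u 0) + T.m (u 2) ≤ 2 * T.m (u 1) ∧ T.m (u 1) + T.m (u 3) ≤ 2 * T.m (u 2) ∧ T.m (u 2) ≤ 2 * T.m (u 3)) ∨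
      (T.w (u 0) = w ∧ T.w (u 1) = w ∧ T.w (u 2) = w ∧ T.w (u 3) = 2 * w ∧ T.a (u 0) (u 1) = w ∧ T.a (u 1) (u 2) = w ∧ T.a (u 2) (u 3) = 2 * w ∧ T.m (u 1) ≤ 2 * T.m (u 0) ∧ T.m (u 0) + T.m (u 2) ≤ 2 * T.m (u 1) ∧ T.m (u 1) + 2 * T.m (u 3) ≤ 2 * T.m (u 2) ∧ T.m (u 2) ≤ 2 * T.m (u 3)) ∨
      (T.w (u 0) = 2 * w ∧ T.w (u 1) = 2 * w ∧ T.w (u 2) = 2 * w ∧ T.w (u 3) = w ∧ T.a (u 0) (u 1) = 2 * w ∧ T.a (u 1) (u 2) = 2 * w ∧ T.a (u 2) (u 3) = 2 * w ∧ T.m (u 1) ≤ 2 * T.m (u 0) ∧ T.m (u 0) + T.m (u 2) ≤ 2 * T.m (u 1) ∧ T.m (u 1) + T.m (u 3) ≤ 2 * T.m (u 2) ∧ T.m (u 2) ≤ T.m (u 3)) ∨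
      (T.w (u 0) = w ∧ T.w (u 1) = w ∧ T.w (u 2) = 2 * w ∧ T.w (u 3) = 2 * w ∧ T.a (u 0) (u 1) = w ∧ T.a (u 1) (u 2) = 2 * w ∧ T.a (u 2) (u 3) = 2 * w ∧ T.m (u 1) ≤ 2 * T.m (u 0) ∧ T.m (u 0) + 2 * T.m (u 2) ≤ 2 * T.m (u 1) ∧ T.m (u 1) + T.m (u 3) ≤ 2 * T.m (u 2) ∧ T.m (u 2) ≤ 2 * T.m (u 3))) := by
  let u : ℕ → Fin n := fun t => if h : t < 4 then v ⟨t, h⟩ else v 0
  have hc : NumTypeLib.Chain T 4 u := by
    refine ⟨fun a b ha hb e => ?_, fun a ha => ?_, fun a ha => ?_⟩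
    · simp only [u, dif_pos ha, dif_pos hb, v.injective.eq_iff, Fin.mk.injEq] at e; exact e
    · have : a < 3 := by omega
      interval_cases a
      · exact (show 0 < T.a (v 0) (v 1) from NumTypeLib.offdiag_pos T (by simp [v.injective.eq_iff]) h01)
      · exact (show 0 < T.a (v 1) (v 2) from NumTypeLib.offdiag_pos T (by simp [v.injective.eq_iff]) h12)
      · exact (show 0 < T.a (v 2) (v 3) from NumTypeLib.offdiag_pos T (by simp [v.injective.eq_iff]) h23)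
    · simp only [u, dif_pos ha]; exact hv _
  have hz : ∀ p q, p + 1 < q → q < 4 → T.a (u p) (u q) = 0 := fun p q a b => NumTypeLib.no_chord hn hc a b
  refine ⟨⟨hz 0 2 (by omega) (by omega), hz 0 3 (by omega) (by omega), hz 1 3 (by omega) (by omega)⟩, ?_⟩
  obtain ⟨u', hu, hc', w, hcase⟩ := NumTypeLib.chain_cases hc (by omega) hn
  refine ⟨fun t : Fin 4 => u' t, w, ?_, ?_⟩
  · rcases hu with h | h
    · exact Or.inl fun t => by fin_cases t <;> exact h _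
    · exact Or.inr fun t => by fin_cases t <;> exact h _
  simp only [Fin.val_zero, Fin.val_one, show ((2 : Fin 4) : ℕ) = 2 from rfl, show ((3 : Fin 4) : ℕ) = 3 from rfl]
  have p0 := T.w_pos (u' 0)
  have r0 := NumTypeLib.row_one (hc'.two 0 (by omega)) (hc'.ne (i := 0) (j := 1) (by omega) (by omega) (by omega))
  have r1 := NumTypeLib.row_pair (hc'.two 1 (by omega)) (hc'.ne (i := 1) (j := 0) (by omega) (by omega) (by omega)) (hc'.ne (i := 1) (j := 2) (by omega) (by omega) (by omega)) (hc'.ne (i := 0) (j := 2) (by omega) (by omega) (by omega))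
  rw [NumTypeLib.a_symm T (u' 1) (u' 0)] at r1
  have r2 := NumTypeLib.row_pair (hc'.two 2 (by omega)) (hc'.ne (i := 2) (j := 1) (by omega) (by omega) (by omega)) (hc'.ne (i := 2) (j := 3) (by omega) (by omega) (by omega)) (hc'.ne (i := 1) (j := 3) (by omega) (by omega) (by omega))
  rw [NumTypeLib.a_symm T (u' 2) (u' 1)] at r2
  have r3 := NumTypeLib.row_one (hc'.two 3 (by omega)) (hc'.ne (i := 3) (j := 2) (by omega) (by omega) (by omega))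
  rw [NumTypeLib.a_symm T (u' 3) (u' 2)] at r3
  rcases hcase with ⟨hw, ha⟩ | ⟨hw, hl, ha, hla⟩ | ⟨hw, hl, ha⟩ | ⟨-, w0, w1, w2, w3, a0, a1, a2⟩
  · have w0 := hw 0 (by omega)
    have w1 := hw 1 (by omega)
    have w2 := hw 2 (by omega)
    have w3 := hw 3 (by omega)
    have a0 : T.a (u' 0) (u' 1) = _ := ha 0 (by omega)
    have a1 : T.a (u' 1) (u' 2) = _ := ha 1 (by omega)
    have a2 : T.a (u' 2) (u' 3) = _ := ha 2 (by omega)
    rw [w0] at p0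
    have hw0 : 0 < w := by linarith
    rw [a0, w0] at r0
    rw [a0, a1, w1] at r1
    rw [a1, a2, w2] at r2
    rw [a2, w3] at r3
    exact Or.inl ⟨w0, w1, w2, w3, a0, a1, a2, le_of_mul_le_mul_left (by linarith) hw0, le_of_mul_le_mul_left (by linarith) hw0, le_of_mul_le_mul_left (by linarith) hw0, le_of_mul_le_mul_left (by linarith) hw0⟩
  · have w0 := hw 0 (by omega)
    have w1 := hw 1 (by omega)
    have w2 := hw 2 (by omega)
    have w3 : T.w (u' 3) = _ := hl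
    have a0 : T.a (u' 0) (u' 1) = _ := ha 0 (by omega)
    have a1 : T.a (u' 1) (u' 2) = _ := ha 1 (by omega)
    have a2 : T.a (u' 2) (u' 3) = _ := hla
    rw [w0] at p0
    have hw0 : 0 < w := by linarith
    rw [a0, w0] at r0
    rw [a0, a1, w1] at r1
    rw [a1, a2, w2] at r2
    rw [a2, w3] at r3
    exact Or.inr (Or.inl ⟨w0, w1, w2, w3, a0, a1, a2, le_of_mul_le_mul_left (by linarith) hw0, le_of_mul_le_mul_left (by linarith) hw0, le_of_mul_le_mul_left (by linarith) hw0, le_of_mul_le_mul_left (by linarith) hw0⟩)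
  · have w0 := hw 0 (by omega)
    have w1 := hw 1 (by omega)
    have w2 := hw 2 (by omega)
    have w3 : T.w (u' 3) = _ := hl
    have a0 : T.a (u' 0) (u' 1) = _ := ha 0 (by omega)
    have a1 : T.a (u' 1) (u' 2) = _ := ha 1 (by omega)
    have a2 : T.a (u' 2) (u' 3) = _ := ha 2 (by omega)
    rw [w0] at p0
    have hw0 : 0 < w := by linarith
    rw [a0, w0] at r0
    rw [a0, a1, w1] at r1
    rw [a1, a2, w2] at r2
    rw [a2, w3] at r3
    exact Or.inr (Or.inr (Or.inl ⟨w0, w1, w2, w3, a0, a1, a2, le_of_mul_le_mul_left (by linarith) hw0, le_of_mul_le_mul_left (by linarith) hw0, le_of_mul_le_mul_left (by linarith) hw0, le_of_mul_le_mul_left (by linarith) hw0⟩))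
  · rw [w0] at p0
    have hw0 : 0 < w := by linarith
    rw [a0, w0] at r0
    rw [a0, a1, w1] at r1
    rw [a1, a2, w2] at r2
    rw [a2, w3] at r3
    exact Or.inr (Or.inr (Or.inr ⟨w0, w1, w2, w3, a0, a1, a2, le_of_mul_le_mul_left (by linarith) hw0, le_of_mul_le_mul_left (by linarith) hw0, le_of_mul_le_mul_left (by linarith) hw0, le_of_mul_le_mul_left (by linarith) hw0⟩))

end Groth.Agent.S7352
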