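import Groth.Statements.S7354
import Groth.Agent.Lib.NumTypeProper

set_option autoImplicit false
open Finset
open Models Models.NumericalType

namespace Groth.Agent.S7354

/-- Let T be a numerical type on n indices, t > 5 with n > t, and i_1, …, i_t distinct (-2)-indices with
a_{i_j i_{j+1}} nonzero for j = 1, …, t - 1. Then, after possibly reversing the order of the
indices, for some integer w either (A) w_{i_1} = … = w_{i_t} = w and a_{i_j i_{j+1}} = w for all j;
or (C) w_{i_1} = … = w_{i_{t-1}} = w, w_{i_t} = 2w, a_{i_j i_{j+1}} = w for j < t - 1 and a_{i_{t-1}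
i_t} = 2w; or (B) w_{i_1} = … = w_{i_{t-1}} = 2w, w_{i_t} = w and a_{i_j i_{j+1}} = 2w for all j;
and in every case a_{i_j i_k} = 0 whenever k > j + 1. -/
theorem result {n : ℕ} (T : Models.NumericalType n) (t : ℕ) (ht : 5 < t) (hn : t < n)
    (v : Fin t ↪ Fin n) (hv : ∀ j, T.IsMinusTwo (v j))
    (hchain : ∀ j j' : Fin t, j'.val = j.val + 1 → T.a (v j) (v j') ≠ 0) :
    ∃ (u : Fin t → Fin n) (w : ℤ), ((∀ j, u j = v j) ∨ (∀ j, u j = v (Fin.rev j))) ∧
      (∀ j k : Fin t, j.val + 1 < k.val → T.a (u j) (u k) = 0) ∧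
      ((∀ j : Fin t, T.w (u j) = w) ∧ (∀ j j' : Fin t, j'.val = j.val + 1 → T.a (u j) (u j') = w) ∨
        ((∀ j : Fin t, j.val + 1 < t → T.w (u j) = w) ∧ (∀ j : Fin t, j.val + 1 = t → T.w (u j) = 2 * w) ∧
          (∀ j j' : Fin t, j'.val = j.val + 1 → j'.val + 1 < t → T.a (u j) (u j') = w) ∧
          (∀ j j' : Fin t, j'.val = j.val + 1 → j'.val + 1 = t → T.a (u j) (u j') = 2 * w)) ∨
        ((∀ j : Fin t, j.val + 1 < t → T.w (u j) = 2 * w) ∧ (∀ j : Fin t, j.val + 1 = t → T.w (u j) = w) ∧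
          (∀ j j' : Fin t, j'.val = j.val + 1 → T.a (u j) (u j') = 2 * w))) := by
  let u : ℕ → Fin n := fun a => if h : a < t then v ⟨a, h⟩ else v ⟨0, by omega⟩
  have hu0 : ∀ j : Fin t, u j.val = v j := fun j => dif_pos j.2
  have hc : NumTypeLib.Chain T t u := by
    refine ⟨fun a b ha hb e => ?_, fun a ha => ?_, fun a ha => ?_⟩
    · simp only [u, dif_pos ha, dif_pos hb, v.injective.eq_iff, Fin.mk.injEq] at e; exact e
    · simp only [u, dif_pos ha, dif_pos (show a < t by omega)]
      exact NumTypeLib.offdiag_pos T (by simp [v.injective.eq_iff]) (hchain _ _ rfl)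
    · simp only [u, dif_pos ha]; exact hv _
  obtain ⟨u', hu, hc', w, hcase⟩ := NumTypeLib.chain_cases hc (by omega) hn
  have e : ∀ j j' : Fin t, j'.val = j.val + 1 → u' j' = u' (j.val + 1) := fun j j' h => by rw [h]
  refine ⟨fun j : Fin t => u' j, w, ?_, fun j k h => NumTypeLib.no_chord hn hc' h k.2, ?_⟩
  · rcases hu with h | h
    · exact Or.inl fun j => by dsimp only; rw [h, hu0]
    · exact Or.inr fun j => by
        dsimp only
        rw [h, ← hu0, Fin.val_rev]
        congr 1
        omega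
  rcases hcase with ⟨hw, ha⟩ | ⟨hw, hl, ha, hla⟩ | ⟨hw, hl, ha⟩ | ⟨h4, -⟩
  · exact Or.inl ⟨fun j => hw j j.2, fun j j' h => by dsimp only; rw [e j j' h]; exact ha j (by omega)⟩
  · refine Or.inr (Or.inl ⟨fun j h => hw j h, fun j h => ?_, fun j j' h h' => ?_, fun j j' h h' => ?_⟩) <;> dsimp only
    · rw [show j.val = t - 1 by omega]; exact hl
    · rw [e j j' h]; exact ha j (by omega)
    · rw [show j.val = t - 2 by omega, show j'.val = t - 1 by omega]; exact hla
  · refine Or.inr (Or.inr ⟨fun j h => hw j h, fun j h => ?_, fun j j' h => ?_⟩) <;> dsimp only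
    · rw [show j.val = t - 1 by omega]; exact hl
    · rw [e j j' h]; exact ha j (by omega)
  · omega

end Groth.Agent.S7354
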