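import Groth.Statements.S7355
import Groth.Agent.Lib.NumTypeProper

set_option autoImplicit false
open Finset
open Models Models.NumericalType

namespace Groth.Agent.S7355

/-- Classification of proper subgraphs of type D: let T be a numerical type on n indices, t > 4 with n >
t + 1, and i_1, …, i_{t+1} distinct (-2)-indices such that a_{i_j i_{j+1}} is nonzero for j = 1, …,
t - 1 and a_{i_{t-1} i_{t+1}} is nonzero. Then for some integer w one has w_{i_1} = … = w_{i_{t+1}}
= w, a_{i_j i_{j+1}} = w for j < t, a_{i_{t-1} i_{t+1}} = w, and a_{i_j i_k} = 0 for all other pairs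
j ≠ k. -/
theorem result {n : ℕ} (T : Models.NumericalType n) (t : ℕ) (ht : 4 < t) (hn : t + 1 < n)
    (v : Fin (t + 1) ↪ Fin n) (hv : ∀ j, T.IsMinusTwo (v j))
    (hchain : ∀ j j' : Fin (t + 1), j'.val = j.val + 1 → j'.val < t → T.a (v j) (v j') ≠ 0)
    (hbranch : ∀ j j' : Fin (t + 1), j.val + 2 = t → j'.val = t → T.a (v j) (v j') ≠ 0) :
    ∃ w : ℤ, (∀ j : Fin (t + 1), T.w (v j) = w) ∧
      (∀ j j' : Fin (t + 1), j'.val = j.val + 1 → j'.val < t → T.a (v j) (v j') = w) ∧
      (∀ j j' : Fin (t + 1), j.val + 2 = t → j'.val = t → T.a (v j) (v j') = w) ∧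
      (∀ j k : Fin (t + 1), j.val < k.val → ¬ (k.val = j.val + 1 ∧ k.val < t) → ¬ (j.val + 2 = t ∧ k.val = t) →
        T.a (v j) (v k) = 0) := by
  let u : ℕ → Fin n := fun a => if h : a < t then v ⟨a, by omega⟩ else v ⟨0, by omega⟩
  have hu : ∀ j : Fin (t + 1), j.val < t → u j.val = v j := fun j h => dif_pos h
  let x : Fin (t + 1) := ⟨t, by omega⟩
  have hc : NumTypeLib.Chain T t u := by
    refine ⟨fun a b ha hb e => ?_, fun a ha => ?_, fun a ha => ?_⟩
    · simp only [u, dif_pos ha, dif_pos hb, v.injective.eq_iff, Fin.mk.injEq] at e; exact e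
    · simp only [u, dif_pos ha, dif_pos (show a < t by omega)]
      exact NumTypeLib.offdiag_pos T (by simp [v.injective.eq_iff]) (hchain _ _ rfl ha)
    · simp only [u, dif_pos ha]; exact hv _
  obtain ⟨w, hw, hwx, ha, hax, hz, hzx⟩ := NumTypeLib.fork_proper hc (x := v x) (hv _)
    (fun a h => by simp only [u, dif_pos h, ne_eq, v.injective.eq_iff, Fin.ext_iff, x]; omega) (i := t - 2) (by omega) (by omega)
    (by
      simp only [u, dif_pos (show t - 2 < t by omega)]
      rw [NumTypeLib.a_symm]
      exact NumTypeLib.offdiag_pos T (by simp [v.injective.eq_iff, Fin.ext_iff, x]; omega) (hbranch _ _ (by simp only; omega) rfl))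
    (by omega)
  have hx : ∀ j : Fin (t + 1), j.val = t → v j = v x := fun j h => congrArg v (Fin.ext h)
  refine ⟨w, fun j => ?_, fun j j' h h' => ?_, fun j j' h h' => ?_, fun j k h h1 h2 => ?_⟩
  · rcases (show j.val < t ∨ j.val = t by omega) with a | a
    · rw [← hu j a]; exact hw _ a
    · rw [hx j a]; exact hwx
  · rw [← hu j (by omega), ← hu j' h', h]; exact ha _ (by omega)
  · rw [← hu j (by omega), hx j' h', show j.val = t - 2 by omega]; exact hax
  · rcases (show k.val < t ∨ k.val = t by omega) with a | a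
    · rw [← hu j (by omega), ← hu k a]; exact hz _ _ (by omega) a
    · rw [← hu j (by omega), hx k a]; exact hzx _ (by omega) (by omega)

end Groth.Agent.S7355
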