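import Groth.Statements.S7362
import Groth.Agent.Lib.NumTypeClass
import Groth.Agent.Lib.NumTypeGenus

set_option autoImplicit false
open Finset
open Models Models.NumericalType

namespace Groth.Agent.S7362

/-- Genus one classification: case n = 2: let T be a minimal numerical type of genus 1 on two indices.
Then for some ordering i, j of the indices and some integers m, w, either m_i = m_j = m, a_ii = a_jj
= -2w, a_ij = 2w, w_i = w_j = w, g_i = g_j = 0; or m_i = 2m, m_j = m, a_ii = -2w, a_ij = 4w, a_jj =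
-8w, w_i = w, w_j = 4w, g_i = g_j = 0. Only the classification direction is stated. -/
theorem result (T : Models.NumericalType 2) (hmin : T.IsMinimal) (hg : T.genus = 1) :
    ∃ (i j : Fin 2) (m w : ℤ), i ≠ j ∧ T.g i = 0 ∧ T.g j = 0 ∧
      ((T.m i = m ∧ T.m j = m ∧ T.a i i = -2 * w ∧ T.a i j = 2 * w ∧ T.a j j = -2 * w ∧ T.w i = w ∧ T.w j = w) ∨
        (T.m i = 2 * m ∧ T.m j = m ∧ T.a i i = -2 * w ∧ T.a i j = 4 * w ∧ T.a j j = -8 * w ∧ T.w i = w ∧ T.w j = 4 * w)) := by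
  have hall := NumTypeLib.all_minusTwo T (by omega) hmin hg
  have r0 := NumTypeLib.row_exact hall (i := (0 : Fin 2)) (s := {1}) (by decide)
    (fun j h1 h2 => absurd (Finset.mem_singleton.2 (by omega)) h2)
  have r1 := NumTypeLib.row_exact hall (i := (1 : Fin 2)) (s := {0}) (by decide)
    (fun j h1 h2 => absurd (Finset.mem_singleton.2 (by omega)) h2)
  rw [sum_singleton] at r0 r1
  rw [NumTypeLib.a_symm T 1 0] at r1
  have w0 := T.w_pos 0; have w1 := T.w_pos 1; have m0 := T.m_pos 0; have m1 := T.m_pos 1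
  have d0 := (hall 0).2; have d1 := (hall 1).2
  have hpos : 0 < T.a 0 1 := by
    by_contra hc
    nlinarith [mul_pos w0 m0, mul_nonpos_of_nonpos_of_nonneg (not_lt.1 hc) m1.le]
  obtain ⟨p, hp⟩ := T.w_dvd 0 1
  obtain ⟨q, hq⟩ := T.w_dvd 1 0
  rw [NumTypeLib.a_symm T 1 0] at hq
  have hp0 : 0 < p := pos_of_mul_pos_right (hp ▸ hpos) w0.le
  have hq0 : 0 < q := pos_of_mul_pos_right (hq ▸ hpos) w1.le
  have h4 : p * q = 4 := by
    have e1 : p * T.m 1 = 2 * T.m 0 := mul_left_cancel₀ w0.ne' (by rw [hp] at r0; linarith)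
    have e2 : q * T.m 0 = 2 * T.m 1 := mul_left_cancel₀ w1.ne' (by rw [hq] at r1; linarith)
    refine mul_right_cancel₀ (mul_pos m0 m1).ne' ?_
    linear_combination (q * T.m 0) * e1 + (2 * T.m 0) * e2
  have hp4 : p ≤ 4 := h4 ▸ le_mul_of_one_le_right hp0.le hq0
  have hq4 : q ≤ 4 := h4 ▸ le_mul_of_one_le_left hq0.le hp0
  interval_cases p <;> interval_cases q <;> norm_num at h4
  · refine ⟨1, 0, T.m 0, T.w 1, by decide, (hall 1).1, (hall 0).1, Or.inr ⟨?_, rfl, d1, ?_, ?_, rfl, ?_⟩⟩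
    · exact mul_left_cancel₀ w0.ne' (by rw [hp] at r0; linarith)
    · rw [NumTypeLib.a_symm T 1 0]; linarith
    · linarith
    · linarith
  · refine ⟨0, 1, T.m 0, T.w 0, by decide, (hall 0).1, (hall 1).1, Or.inl ⟨rfl, ?_, d0, ?_, ?_, rfl, ?_⟩⟩
    · exact mul_left_cancel₀ w0.ne' (by rw [hp] at r0; linarith)
    all_goals linarith
  · refine ⟨0, 1, T.m 1, T.w 0, by decide, (hall 0).1, (hall 1).1, Or.inr ⟨?_, rfl, d0, ?_, ?_, rfl, ?_⟩⟩
    · exact mul_left_cancel₀ w0.ne' (by rw [hp] at r0; linarith)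
    all_goals linarith

end Groth.Agent.S7362
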