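import Groth.Statements.S7363
import Groth.Agent.Lib.NumTypeClass
import Groth.Agent.Lib.NumTypeGenus

set_option autoImplicit false
open Finset
open Models Models.NumericalType

namespace Groth.Agent.S7363

/-- Genus one classification: case n = 3: let T be a minimal numerical type of genus 1 on three indices.
Then all g = 0 and, for some ordering i, j, k of the indices and some integers m, w, the data (m; a;
w) is one of: (m,m,m; a_ii = a_jj = a_kk = -2w, a_ij = a_ik = a_jk = w; w,w,w); (m,2m,m; a_ii = -2w,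
a_ij = w, a_ik = 0, a_jj = -2w, a_jk = 3w, a_kk = -6w; w,w,3w); (m,2m,3m; a_ii = -6w, a_ij = 3w,
a_ik = 0, a_jj = -6w, a_jk = 3w, a_kk = -2w; 3w,3w,w); (2m,2m,m; a_ii = -2w, a_ij = 2w, a_ik = 0,
a_jj = -4w, a_jk = 4w, a_kk = -8w; w,2w,4w); (m,m,m; a_ii = -2w, a_ij = 2w, a_ik = 0, a_jj = -4w,
a_jk = 2w, a_kk = -2w; w,2w,w); (m,2m,m; a_ii = -4w, a_ij = 2w, a_ik = 0, a_jj = -2w, a_jk = 2w,
a_kk = -4w; 2w,w,2w). Only the classification direction is stated. -/
theorem result (T : Models.NumericalType 3) (hmin : T.IsMinimal) (hg : T.genus = 1) :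
    ∃ (i j k : Fin 3) (m w : ℤ), i ≠ j ∧ j ≠ k ∧ i ≠ k ∧ T.g i = 0 ∧ T.g j = 0 ∧ T.g k = 0 ∧
      ((T.m i = m ∧ T.m j = m ∧ T.m k = m ∧ T.a i i = -2 * w ∧ T.a j j = -2 * w ∧ T.a k k = -2 * w ∧
          T.a i j = w ∧ T.a i k = w ∧ T.a j k = w ∧ T.w i = w ∧ T.w j = w ∧ T.w k = w) ∨
        (T.m i = m ∧ T.m j = 2 * m ∧ T.m k = m ∧ T.a i i = -2 * w ∧ T.a i j = w ∧ T.a i k = 0 ∧ T.a j j = -2 * w ∧
          T.a j k = 3 * w ∧ T.a k k = -6 * w ∧ T.w i = w ∧ T.w j = w ∧ T.w k = 3 * w) ∨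
        (T.m i = m ∧ T.m j = 2 * m ∧ T.m k = 3 * m ∧ T.a i i = -6 * w ∧ T.a i j = 3 * w ∧ T.a i k = 0 ∧ T.a j j = -6 * w ∧
          T.a j k = 3 * w ∧ T.a k k = -2 * w ∧ T.w i = 3 * w ∧ T.w j = 3 * w ∧ T.w k = w) ∨
        (T.m i = 2 * m ∧ T.m j = 2 * m ∧ T.m k = m ∧ T.a i i = -2 * w ∧ T.a i j = 2 * w ∧ T.a i k = 0 ∧ T.a j j = -4 * w ∧
          T.a j k = 4 * w ∧ T.a k k = -8 * w ∧ T.w i = w ∧ T.w j = 2 * w ∧ T.w k = 4 * w) ∨
        (T.m i = m ∧ T.m j = m ∧ T.m k = m ∧ T.a i i = -2 * w ∧ T.a i j = 2 * w ∧ T.a i k = 0 ∧ T.a j j = -4 * w ∧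
          T.a j k = 2 * w ∧ T.a k k = -2 * w ∧ T.w i = w ∧ T.w j = 2 * w ∧ T.w k = w) ∨
        (T.m i = m ∧ T.m j = 2 * m ∧ T.m k = m ∧ T.a i i = -4 * w ∧ T.a i j = 2 * w ∧ T.a i k = 0 ∧ T.a j j = -2 * w ∧
          T.a j k = 2 * w ∧ T.a k k = -4 * w ∧ T.w i = 2 * w ∧ T.w j = w ∧ T.w k = 2 * w)) := by
  have hall := NumTypeLib.all_minusTwo T (by omega) hmin hg
  have hs := NumTypeLib.a_symm T
  have hd : ∀ i, T.a i i = -2 * T.w i := fun i => (hall i).2
  by_cases hfull : T.a 0 1 ≠ 0 ∧ T.a 0 2 ≠ 0 ∧ T.a 1 2 ≠ 0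
  · obtain ⟨h01, h02, h12⟩ := hfull
    let v : ℕ → Fin 3 := fun t => if t = 0 then 0 else if t = 1 then 1 else 2
    have hc : NumTypeLib.Chain T 3 v := by
      refine ⟨fun a b ha hb e => ?_, fun a ha => ?_, fun a _ => hall _⟩
      · interval_cases a <;> interval_cases b <;> simp [v] at e ⊢
      · have : a < 2 := by omega
        interval_cases a
        · exact NumTypeLib.offdiag_pos T (by decide) h01
        · exact NumTypeLib.offdiag_pos T (by decide) h12
    obtain ⟨σ, m, w, hm, hw, ha⟩ := (NumTypeLib.fits_cycle hall le_rfl hc (NumTypeLib.offdiag_pos T (by decide) h02)).perm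
    refine ⟨σ 0, σ 1, σ 2, m, w, by simp, by simp, by simp, (hall _).1, (hall _).1, (hall _).1, Or.inl ?_⟩
    simp +decide [hm, hw, hd, ha, NumTypeLib.mCycle, NumTypeLib.eCycle]
  obtain ⟨i, j, k, hij, hjk, hik, hz⟩ : ∃ i j k : Fin 3, i ≠ j ∧ j ≠ k ∧ i ≠ k ∧ T.a i k = 0 := by
    simp only [not_and_or, not_not] at hfull
    rcases hfull with h | h | h
    · exact ⟨0, 2, 1, by decide, by decide, by decide, h⟩
    · exact ⟨0, 1, 2, by decide, by decide, by decide, h⟩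
    · exact ⟨1, 0, 2, by decide, by decide, by decide, h⟩
  have hcov := (show ∀ a b c : Fin 3, a ≠ b → b ≠ c → a ≠ c → ∀ l : Fin 3, l = a ∨ l = b ∨ l = c by decide) i j k hij hjk hik
  have ri := NumTypeLib.row_exact hall (i := i) (s := {j}) (by simp [hij]) (fun l h1 h2 => by
    rcases hcov l with rfl | rfl | rfl
    · exact absurd rfl h1
    · simp at h2
    · exact hz)
  have rk := NumTypeLib.row_exact hall (i := k) (s := {j}) (by simp [hjk.symm]) (fun l h1 h2 => by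
    rcases hcov l with rfl | rfl | rfl
    · rw [hs]; exact hz
    · simp at h2
    · exact absurd rfl h1)
  have rj := NumTypeLib.row_exact hall (i := j) (s := {i, k}) (by simp [hij.symm, hjk]) (fun l h1 h2 => by
    rcases hcov l with rfl | rfl | rfl
    · simp at h2
    · exact absurd rfl h1
    · simp at h2)
  rw [sum_singleton] at ri rk
  rw [sum_pair hik, hs j i] at rj
  rw [hs k j] at rk
  have hpi : 0 < T.a i j := by
    by_contra hc
    nlinarith [mul_pos (T.w_pos i) (T.m_pos i), mul_nonpos_of_nonpos_of_nonneg (not_lt.1 hc) (T.m_pos j).le]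
  have hpk : 0 < T.a j k := by
    by_contra hc
    nlinarith [mul_pos (T.w_pos k) (T.m_pos k), mul_nonpos_of_nonpos_of_nonneg (not_lt.1 hc) (T.m_pos j).le]
  have hsum : NumTypeLib.mu T i j + NumTypeLib.mu T j k = 4 := by
    refine mul_left_cancel₀ (mul_pos (mul_pos (mul_pos (T.w_pos i) (T.w_pos j)) (T.w_pos k)) (T.m_pos j)).ne' ?_
    linear_combination (T.w k * T.m j) * NumTypeLib.mu_mul T i j + (T.w i * T.m j) * NumTypeLib.mu_mul T j k +
      (2 * T.w i * T.w k) * rj + (T.a i j * T.w k) * ri + (T.a j k * T.w i) * rk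
  have q1 := NumTypeLib.mu_pos T hpi
  have q2 := NumTypeLib.mu_pos T hpk
  clear hfull hcov
  wlog hle : NumTypeLib.mu T i j ≤ NumTypeLib.mu T j k generalizing i k
  · have key := this k i hjk.symm hij.symm hik.symm (by rw [hs]; exact hz) (by rw [hs k j]; exact rk)
      (by rw [hs j i]; exact ri) (by rw [hs k j, hs j i]; linarith) (by rw [hs]; exact hpk) (by rw [hs]; exact hpi)
      (by rw [NumTypeLib.mu_symm T k j, NumTypeLib.mu_symm T j i]; linarith) (by rw [NumTypeLib.mu_symm]; exact q2)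
      (by rw [NumTypeLib.mu_symm]; exact q1) (by rw [NumTypeLib.mu_symm T k j, NumTypeLib.mu_symm T j i]; linarith)
    exact key
  obtain ⟨i1, i2, i3⟩ := NumTypeLib.mu_cases T hpi
  obtain ⟨k1, k2, k3⟩ := NumTypeLib.mu_cases T hpk
  have wi := T.w_pos i; have wj := T.w_pos j; have wk := T.w_pos k
  have di := hd i; have dj := hd j; have dk := hd k
  have g := fun l => (hall l).1
  rcases (show (NumTypeLib.mu T i j = 1 ∧ NumTypeLib.mu T j k = 3) ∨ (NumTypeLib.mu T i j = 2 ∧ NumTypeLib.mu T j k = 2) by omega)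
    with ⟨h1, h2⟩ | ⟨h1, h2⟩
  · obtain ⟨a1, a2⟩ := i1 h1
    have mj : T.m j = 2 * T.m i := mul_left_cancel₀ wi.ne' (by rw [a1] at ri; linarith)
    rcases k3 h2 with ⟨b1, b2⟩ | ⟨b1, b2⟩
    · have mk : T.m j = 2 * T.m k := mul_left_cancel₀ wk.ne' (by rw [b1] at rk; linarith)
      exact ⟨i, j, k, T.m i, T.w i, hij, hjk, hik, g i, g j, g k, Or.inr (Or.inl
        ⟨rfl, mj, by linarith, di, a1, hz, by linarith, by linarith, by linarith, rfl, by linarith, by linarith⟩)⟩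
    · have mk : T.m k = 3 * T.m i := mul_left_cancel₀ (show 2 * T.w k ≠ 0 by omega) (by rw [b1, b2, mj] at rk; linarith)
      exact ⟨i, j, k, T.m i, T.w k, hij, hjk, hik, g i, g j, g k, Or.inr (Or.inr (Or.inl
        ⟨rfl, mj, mk, by linarith, by linarith, hz, by linarith, by linarith, dk, by linarith, b2, rfl⟩))⟩
  · rcases i2 h1 with ⟨a1, a2⟩ | ⟨a1, a2⟩ <;> rcases k2 h2 with ⟨b1, b2⟩ | ⟨b1, b2⟩
    · have mi : T.m j = T.m i := mul_left_cancel₀ (show 2 * T.w i ≠ 0 by omega) (by rw [a1, a2] at ri; linarith)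
      have mk : T.m j = 2 * T.m k := mul_left_cancel₀ wk.ne' (by rw [b1] at rk; linarith)
      exact ⟨i, j, k, T.m k, T.w i, hij, hjk, hik, g i, g j, g k, Or.inr (Or.inr (Or.inr (Or.inl
        ⟨by linarith, mk, rfl, di, by linarith, hz, by linarith, by linarith, by linarith, rfl, a2, by linarith⟩)))⟩
    · have mi : T.m j = T.m i := mul_left_cancel₀ (show 2 * T.w i ≠ 0 by omega) (by rw [a1, a2] at ri; linarith)
      have mk : T.m j = T.m k := mul_left_cancel₀ (show 2 * T.w k ≠ 0 by omega) (by rw [b1, b2] at rk; linarith)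
      exact ⟨i, j, k, T.m j, T.w i, hij, hjk, hik, g i, g j, g k, Or.inr (Or.inr (Or.inr (Or.inr (Or.inl
        ⟨mi.symm, rfl, mk.symm, di, by linarith, hz, by linarith, by linarith, by linarith, rfl, a2, by linarith⟩))))⟩
    · have mi : T.m j = 2 * T.m i := mul_left_cancel₀ wi.ne' (by rw [a1] at ri; linarith)
      have mk : T.m j = 2 * T.m k := mul_left_cancel₀ wk.ne' (by rw [b1] at rk; linarith)
      exact ⟨i, j, k, T.m i, T.w j, hij, hjk, hik, g i, g j, g k, Or.inr (Or.inr (Or.inr (Or.inr (Or.inr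
        ⟨rfl, mi, by linarith, by linarith, by linarith, hz, dj, by linarith, by linarith, a2, rfl, b2⟩))))⟩
    · have mi : T.m j = 2 * T.m i := mul_left_cancel₀ wi.ne' (by rw [a1] at ri; linarith)
      have mk : T.m j = T.m k := mul_left_cancel₀ (show 2 * T.w k ≠ 0 by omega) (by rw [b1, b2] at rk; linarith)
      refine ⟨k, j, i, T.m i, T.w k, hjk.symm, hij.symm, hik.symm, g k, g j, g i, Or.inr (Or.inr (Or.inr (Or.inl ?_)))⟩
      rw [hs k j, hs k i, hs j i]
      exact ⟨by linarith, mi, rfl, dk, by linarith, hz, by linarith, by linarith, by linarith, rfl, b2, by linarith⟩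

end Groth.Agent.S7363
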