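import Groth.Statements.S7389
import Mathlib

set_option autoImplicit false
universe u
open CategoryTheory AlgebraicGeometry
open Mor

namespace Groth.Agent.S7389
open CategoryTheory CategoryTheory.Limits AlgebraicGeometry

/-- Let `X` be a scheme admitting an immersion into an affine scheme. Then any finite set of points of
`X` is contained in an affine open of `X`. -/
theorem result {X Y : Scheme.{u}} [IsAffine Y] (ι : X ⟶ Y)
    [IsImmersion ι] (E : Set X) (hE : E.Finite) :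
    ∃ U : X.Opens, IsAffineOpen U ∧ E ⊆ U := by
  let g := ι ≫ Y.isoSpec.hom
  obtain ⟨V, hV, hVdef⟩ : ∃ V : (Spec Γ(Y, ⊤)).Opens, g.coborderRange = V ∧ True := ⟨_, rfl, trivial⟩
  have hgV : ∀ x, g x ∈ g.coborderRange := fun x => subset_coborder ⟨x, rfl⟩
  obtain ⟨J, hJ⟩ := (PrimeSpectrum.isClosed_iff_zeroLocus_ideal _).1 g.coborderRange.2.isClosed_compl
  classical
  let s : Finset (PrimeSpectrum Γ(Y, ⊤)) := hE.toFinset.image fun x => (g x : PrimeSpectrum Γ(Y, ⊤))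
  have hs : ¬ ∃ p ∈ s, J ≤ p.asIdeal := by
    rintro ⟨p, hp, hJp⟩
    obtain ⟨x, -, rfl⟩ := Finset.mem_image.1 hp
    have hmem : (g x : PrimeSpectrum Γ(Y, ⊤)) ∈ PrimeSpectrum.zeroLocus (J : Set Γ(Y, ⊤)) := hJp
    rw [← hJ] at hmem
    exact hmem (hgV x)
  obtain ⟨r, hrJ, hr⟩ : ∃ r ∈ J, ∀ p ∈ s, r ∉ p.asIdeal := by
    by_contra hcon
    push Not at hcon
    by_cases hne : s.Nonempty
    · obtain ⟨a, ha⟩ := hne
      apply hs
      refine (Ideal.subset_union_prime (f := fun p : PrimeSpectrum Γ(Y, ⊤) => p.asIdeal) a a (fun i _ _ _ => i.isPrime)).1 fun r hr => ?_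
      obtain ⟨p, hp, hrp⟩ := hcon r hr
      exact Set.mem_biUnion (Finset.mem_coe.2 hp) hrp
    · obtain ⟨p, hp, -⟩ := hcon 0 J.zero_mem
      exact hne ⟨p, hp⟩
  let D : (Spec Γ(Y, ⊤)).Opens := PrimeSpectrum.basicOpen r
  have hD : IsAffineOpen D := IsAffineOpen.Spec_basicOpen r
  have hDV : D ≤ g.coborderRange := by
    intro p hp
    by_contra hpV
    have : (p : PrimeSpectrum Γ(Y, ⊤)) ∈ PrimeSpectrum.zeroLocus (J : Set Γ(Y, ⊤)) := hJ ▸ hpV
    exact hp (this hrJ)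
  refine ⟨g.liftCoborder ⁻¹ᵁ (g.coborderRange.ι ⁻¹ᵁ D), ?_, ?_⟩
  · exact (hD.preimage_of_isOpenImmersion g.coborderRange.ι (by rwa [Scheme.Opens.opensRange_ι])).preimage g.liftCoborder
  · intro x hx
    show g.coborderRange.ι (g.liftCoborder x) ∈ D
    rw [← Scheme.Hom.comp_apply, Scheme.Hom.liftCoborder_ι]
    exact hr _ (Finset.mem_image.2 ⟨x, hE.mem_toFinset.2 hx, rfl⟩)

end Groth.Agent.S7389
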