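import Groth.Statements.S7391
import Groth.Agent.Lib.H6.ProjQCoh

set_option autoImplicit false
set_option backward.isDefEq.respectTransparency.types false
set_option maxHeartbeats 1000000
set_option linter.all false
universe u
open CategoryTheory AlgebraicGeometry
open Opposite
open Mor

namespace Groth.Agent.S7391
open Groth.Agent

/-- Let `F` be a quasi-coherent `O_X`-module on a scheme `X`. Then `F(U)` is a projective
`O_X(U)`-module for every affine open `U` (that is, `F` is locally projective) if and only if `X`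
has a covering by affine opens `U_i` with `F(U_i)` projective over `O_X(U_i)`. -/
theorem result (X : Scheme.{u}) (F : X.Modules) [Coh.IsQCoh F] :
    (∀ U : X.Opens, IsAffineOpen U → Module.Projective (X.ringCatSheaf.obj.obj (op U)) (F.val.obj (op U))) ↔
      ∃ (I : Type u) (U : I → X.Opens), (⨆ i, U i) = ⊤ ∧ ∀ i, IsAffineOpen (U i) ∧
        Module.Projective (X.ringCatSheaf.obj.obj (op (U i))) (F.val.obj (op (U i))) := by
    haveI : F.IsQuasicoherent := inferInstanceAs (Coh.IsQCoh F)
    constructor
    · intro h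
      choose V hV hx using fun x : X => exists_isAffineOpen_mem_and_subset (X := X) (x := x) (U := ⊤) trivial
      exact ⟨X, V, eq_top_iff.2 fun x _ => TopologicalSpace.Opens.mem_iSup.2 ⟨x, (hx x).1⟩, fun x => ⟨hV x, h _ (hV x)⟩⟩
    · rintro ⟨I, V, hsup, hVp⟩ U hU
      refine (H6.ProjQCoh.projective_secMod_iff F hU).1 (H6.ProjQCoh.projective_of_cover F hU fun x hx => ?_)
      obtain ⟨i, hi⟩ := TopologicalSpace.Opens.mem_iSup.1 (show x ∈ iSup V from hsup ▸ (trivial : x ∈ (⊤ : X.Opens)))
      obtain ⟨W, hW, hxW, hWs⟩ := exists_isAffineOpen_mem_and_subset (X := X) (x := x) (U := U ⊓ V i) ⟨hx, hi⟩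
      refine ⟨W, hW, hxW, fun y hy => (hWs hy).1, ?_⟩
      exact H6.ProjQCoh.projective_transfer (𝟙 X) F F ((Scheme.Modules.pullbackId X).app F) (hVp i).1 hW
        (fun y hy => (hWs hy).2) ((H6.ProjQCoh.projective_secMod_iff F (hVp i).1).2 (hVp i).2)

end Groth.Agent.S7391
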