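import Groth.Statements.S7392
import Groth.Agent.Lib.H6.PullDesc

set_option autoImplicit false
set_option backward.isDefEq.respectTransparency.types false
set_option maxHeartbeats 1000000
set_option linter.all false
universe u
open CategoryTheory AlgebraicGeometry
open Opposite
open Mor

namespace Groth.Agent.S7392
open Groth.Agent

/-- For a ring `A` and an `A`-module `M`, the module `M~` on `Spec A` is locally projective (projective
sections over every affine open) if and only if `M` is a projective `A`-module. -/
theorem result (A : CommRingCat.{u}) (M : ModuleCat.{u} A) :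
    (∀ U : (Spec A).Opens, IsAffineOpen U →
      Module.Projective ((Spec A).ringCatSheaf.obj.obj (op U)) ((tilde M).val.obj (op U))) ↔
      Module.Projective A M := by
    constructor
    · intro h
      have h1 := h ⊤ (isAffineOpen_top _)
      haveI : Module.Projective Γ(Spec A, ⊤) Γ(tilde M, ⊤) := h1
      let ρ : Γ(Spec A, ⊤) ≃+* A := (Scheme.ΓSpecIso A).commRingCatIsoToRingEquiv
      letI := RingHomInvPair.of_ringEquiv ρ
      letI := RingHomInvPair.of_ringEquiv ρ.symm
      haveI : RingHomInvPair (ρ.symm : A →+* Γ(Spec A, ⊤)) (ρ : Γ(Spec A, ⊤) →+* A) :=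
        ⟨by ext; simp, by ext; simp⟩
      let τ := (asIso (tilde.toOpen M ⊤)).toLinearEquiv
      let e : Γ(tilde M, ⊤) ≃ₛₗ[(ρ : Γ(Spec A, ⊤) →+* A)] M :=
        { toFun := fun s => τ.symm s
          invFun := fun m => τ m
          map_add' := fun a b => map_add τ.symm a b
          map_smul' := fun r s => by
            refine Eq.trans (congrArg τ.symm ?_) (τ.symm.map_smul (ρ r) s)
            show r • s = (algebraMap A Γ(Spec A, ⊤) (ρ r)) • s
            rw [show algebraMap A Γ(Spec A, ⊤) (ρ r) = r from ρ.symm_apply_apply r]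
          left_inv := τ.apply_symm_apply
          right_inv := τ.symm_apply_apply }
      exact Module.Projective.of_equiv e
    · intro h U hU
      obtain ⟨φ, hφ⟩ := Spec.map_surjective hU.fromSpec
      haveI : (tilde M).IsQuasicoherent := inferInstance
      obtain ⟨e₁⟩ := H6.PullDesc.nonempty_tildeIso (tilde M) hU
      let e₂ : tilde (H6.PullDesc.secMod (tilde M) hU) ≅ tilde ((ModuleCat.extendScalars.{u, u, u} φ.hom).obj M) :=
        e₁.symm ≪≫ (Scheme.Modules.pullbackCongr hφ.symm).app _ ≪≫ (H6.TildePullback.leftIso φ).app M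
      let e₃ := ((tilde.fullyFaithfulFunctor (R := Γ(Spec A, U))).preimageIso e₂).toLinearEquiv
      letI := φ.hom.toAlgebra
      haveI : Module.Projective Γ(Spec A, U) ((ModuleCat.extendScalars.{u, u, u} φ.hom).obj M) :=
        inferInstanceAs (Module.Projective Γ(Spec A, U) (TensorProduct A Γ(Spec A, U) M))
      haveI : Module.Projective Γ(Spec A, U) (H6.PullDesc.secMod (tilde M) hU) := Module.Projective.of_equiv' e₃.symm
      have hT : hU.fromSpec ''ᵁ ⊤ = U := hU.fromSpec.image_top_eq_opensRange.trans hU.opensRange_fromSpec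
      let e : Γ((tilde M).restrict hU.fromSpec, ⊤) ≃ₗ[Γ(Spec A, U)] Γ(tilde M, U) :=
        { toFun := fun s => LQcoh.res (tilde M) hT.ge s
          invFun := fun s => LQcoh.res (tilde M) hT.le s
          map_add' := fun a b => map_add ((tilde M).presheaf.map (homOfLE hT.ge).op).hom a b
          map_smul' := fun r s => by
            have h1 : ∀ v : Γ(tilde M, U), LQcoh.res (tilde M) hT.le (r • v) = r • @id Γ((tilde M).restrict hU.fromSpec, ⊤) (LQcoh.res (tilde M) hT.le v) :=
              fun v => (LQcoh.res_smul (tilde M) hT.le r v).trans (LQcoh.smul_restrict hU (tilde M) ⊤ r _).symm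
            have hl : ∀ v, LQcoh.res (tilde M) hT.ge (LQcoh.res (tilde M) hT.le v) = v := fun v =>
              (LQcoh.res_res (tilde M) _ _ v).trans (LCech.rs_self (tilde M).presheaf le_rfl v)
            have hr : ∀ v, LQcoh.res (tilde M) hT.le (LQcoh.res (tilde M) hT.ge v) = v := fun v =>
              (LQcoh.res_res (tilde M) _ _ v).trans (LCech.rs_self (tilde M).presheaf le_rfl v)
            rw [RingHom.id_apply]
            exact (congrArg (fun t : Γ((tilde M).restrict hU.fromSpec, ⊤) => LQcoh.res (tilde M) hT.ge (r • t)) (hr s).symm).trans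
              ((congrArg (LQcoh.res (tilde M) hT.ge) (h1 (LQcoh.res (tilde M) hT.ge s)).symm).trans (hl _))
          left_inv := fun s => (LQcoh.res_res (tilde M) _ _ s).trans (LCech.rs_self (tilde M).presheaf le_rfl s)
          right_inv := fun s => (LQcoh.res_res (tilde M) _ _ s).trans (LCech.rs_self (tilde M).presheaf le_rfl s) }
      haveI : Module.Projective Γ(Spec A, U) Γ((tilde M).restrict hU.fromSpec, ⊤) := ‹Module.Projective Γ(Spec A, U) (H6.PullDesc.secMod (tilde M) hU)›
      exact (Module.Projective.of_equiv' e : Module.Projective Γ(Spec A, U) Γ(tilde M, U))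

end Groth.Agent.S7392
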