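import Groth.Statements.S7412
import Mathlib

set_option autoImplicit false
set_option backward.isDefEq.respectTransparency.types false
set_option maxHeartbeats 1000000
set_option linter.all false
universe u
open Desc

namespace Groth.Agent.S7412
open Groth.Agent

/-- Let `R` be a ring and `f : M → N` a map of `R`-modules. Then `f` is universally injective (`f ⊗ 1_P`
is injective for every `R`-module `P`; here `P` ranges over modules in the same universe, which
suffices) if and only if the map of character modules `C(N) → C(M)`, `C(-) = Hom_ℤ(-, ℚ/ℤ)`, is a
split surjection of `R`-modules. -/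
theorem result {R : Type u} [CommRing R] {M N : Type u}
    [AddCommGroup M] [Module R M] [AddCommGroup N] [Module R N] (f : M →ₗ[R] N) :
    (∀ (P : Type u) [AddCommGroup P] [Module R P], Function.Injective (f.lTensor P)) ↔
      ∃ g : CharacterModule M →ₗ[R] CharacterModule N, (CharacterModule.dual f).comp g = LinearMap.id := by
    refine ⟨fun h => ?_, fun ⟨g, hg⟩ P _ _ => ?_⟩
    · have h1 : Function.Injective (f.rTensor (CharacterModule M)) := (LinearMap.lTensor_inj_iff_rTensor_inj _ _).1 (h (CharacterModule M))
      obtain ⟨k, hk⟩ := (rTensor_injective_iff_lcomp_surjective.1 h1) (CharacterModule.curry (CharacterModule.dual (TensorProduct.comm R M (CharacterModule M)).toLinearMap (CharacterModule.uncurry (LinearMap.id : CharacterModule M →ₗ[R] CharacterModule M))))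
      refine ⟨CharacterModule.curry (CharacterModule.dual (TensorProduct.comm R (CharacterModule M) N).toLinearMap (CharacterModule.uncurry k)), LinearMap.ext fun c => DFunLike.ext _ _ fun m => ?_⟩
      exact congr($(congr($hk m)) c)
    · refine (LinearMap.lTensor_inj_iff_rTensor_inj _ _).2 (rTensor_injective_iff_lcomp_surjective.2 fun φ => ?_)
      let ψ : P →ₗ[R] CharacterModule M := CharacterModule.curry (CharacterModule.dual (TensorProduct.comm R P M).toLinearMap (CharacterModule.uncurry φ))
      refine ⟨CharacterModule.curry (CharacterModule.dual (TensorProduct.comm R N P).toLinearMap (CharacterModule.uncurry (g.comp ψ))), LinearMap.ext fun m => DFunLike.ext _ _ fun q => ?_⟩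
      exact congr($(congr($hg (ψ q))) m)

end Groth.Agent.S7412
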