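import Groth.Statements.S7413
import Groth.Agent.Lib.H6.ProjQCoh

set_option autoImplicit false
set_option backward.isDefEq.respectTransparency.types false
set_option maxHeartbeats 1000000
set_option linter.all false
universe u
open CategoryTheory AlgebraicGeometry
open Opposite
open Mor

namespace Groth.Agent.S7413
open Groth.Agent

/-- Let `f : X → Y` be a morphism of schemes and `G` a quasi-coherent, locally projective `O_Y`-module
(projective sections over every affine open). Then `f^* G` is locally projective on `X`. -/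
theorem result {X Y : Scheme.{u}} (f : X ⟶ Y) (G : Y.Modules) [Coh.IsQCoh G]
    (hG : ∀ V : Y.Opens, IsAffineOpen V → Module.Projective (Y.ringCatSheaf.obj.obj (op V)) (G.val.obj (op V)))
    (U : X.Opens) (hU : IsAffineOpen U) :
    Module.Projective (X.ringCatSheaf.obj.obj (op U)) (((Scheme.Modules.pullback f).obj G).val.obj (op U)) := by
    haveI : G.IsQuasicoherent := inferInstanceAs (Coh.IsQCoh G)
    haveI := H6.ProjQCoh.isQCoh_pullback f G
    refine (H6.ProjQCoh.projective_secMod_iff _ hU).1 (H6.ProjQCoh.projective_of_cover _ hU fun x hx => ?_)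
    obtain ⟨V, hV, hxV, -⟩ := exists_isAffineOpen_mem_and_subset (X := Y) (x := f x) (U := ⊤) trivial
    obtain ⟨W, hW, hxW, hWs⟩ := exists_isAffineOpen_mem_and_subset (X := X) (x := x) (U := U ⊓ f ⁻¹ᵁ V) ⟨hx, hxV⟩
    exact ⟨W, hW, hxW, fun y hy => (hWs hy).1, H6.ProjQCoh.projective_transfer f G _ (Iso.refl _) hV hW
      (fun y hy => (hWs hy).2) ((H6.ProjQCoh.projective_secMod_iff G hV).2 (hG V hV))⟩

end Groth.Agent.S7413
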