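import Groth.Statements.S7421
import Groth.Agent.Lib.H6.AWN2
import Mathlib.AlgebraicGeometry.Properties

set_option autoImplicit false
set_option linter.all false
universe u
open CategoryTheory AlgebraicGeometry
open HTop

namespace Groth.Agent.S7421

/-- A seminormal ring is reduced, and a seminormal scheme is reduced. -/
theorem result :
    (∀ (A : Type u) [CommRing A], HTop.IsSeminormalRing A → IsReduced A) ∧
    ∀ (X : Scheme.{u}), HTop.IsSeminormal X → AlgebraicGeometry.IsReduced X := by
  refine ⟨fun A _ h => Groth.Agent.H6.AWN.isReduced_of_seminormal h, fun X h => ?_⟩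
  haveI : ∀ x : X, _root_.IsReduced (X.presheaf.stalk x) := fun x => by
    obtain ⟨U, hxU, hU⟩ := h x
    have hr : _root_.IsReduced Γ(X, U) := Groth.Agent.H6.AWN.isReduced_of_seminormal hU
    haveI : _root_.IsReduced ((CommRingCat.of Γ(X, U))) := hr
    haveI hs : IsReduced (U : X.Opens).toScheme := isReduced_of_isOpenImmersion U.2.isoSpec.hom
    exact isReduced_of_injective
      ((U : X.Opens).stalkIso ⟨x, hxU⟩).inv.hom (ConcreteCategory.bijective_of_isIso _).1
  exact isReduced_of_isReduced_stalk X

end Groth.Agent.S7421
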