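import Groth.Statements.S7425
import Groth.Agent.Lib.H6.AWNScheme

set_option autoImplicit false
set_option linter.all false
universe u
open CategoryTheory AlgebraicGeometry
open HTop

namespace Groth.Agent.S7425

/-- Let `ν : X^awn → X` be an absolute weak normalization and `π : Y → X` a universal homeomorphism.
Then `Y` is absolutely weakly normal exactly when the induced morphism `h : X^awn → Y` over `X` is
an isomorphism. -/
theorem result {X X' Y : Scheme.{u}} (ν : X' ⟶ X)
    (hν : HTop.IsAWNormalization ν) (π : Y ⟶ X) (hπ : FlatMor.IsUnivHomeo π) (h : X' ⟶ Y) (hh : h ≫ π = ν) :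
    IsIso h ↔ HTop.IsAWN Y := by
  open Groth.Agent.H6.AWNSch in
  obtain ⟨X'', ν', hν', hX''⟩ := Groth.Agent.H6.AWNSch.exists_awnormalization X
  have hn' := Groth.Agent.H6.AWNSch.isAWNormalization_of hν' hX''
  obtain ⟨a, ha, -⟩ := hν.2 _ ν' hν'
  obtain ⟨b, hb, -⟩ := hn'.2 _ ν hν.1
  have e1 : a ≫ b = 𝟙 _ := (hν.2 _ ν hν.1).unique (by rw [Category.assoc, hb, ha]) (Category.id_comp _)
  have e2 : b ≫ a = 𝟙 _ := (hn'.2 _ ν' hν').unique (by rw [Category.assoc, ha, hb]) (Category.id_comp _)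
  have hX' : HTop.IsAWN X' := Groth.Agent.H6.AWNSch.awn_of_iso ⟨b, a, e2, e1⟩ hX''
  haveI := Groth.Agent.H6.AWNSch.reduced_of_seminormal (Groth.Agent.H6.AWNSch.seminormal_of_awn hX')
  constructor
  · intro _
    exact Groth.Agent.H6.AWNSch.awn_of_iso (asIso h) hX'
  · intro hY
    exact Groth.Agent.H6.AWNSch.iso_of_uhm hY (Groth.Agent.H6.AWNSch.uhm_cancel (hh.symm ▸ hν.1) hπ)

end Groth.Agent.S7425
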