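import Groth.Statements.S7426
import Groth.Agent.Lib.H6.AWNScheme

set_option autoImplicit false
set_option linter.all false
universe u
open CategoryTheory AlgebraicGeometry
open HTop

namespace Groth.Agent.S7426

/-- For a scheme `X` the following are equivalent: `X` is absolutely weakly normal; `X^awn → X` is an
isomorphism (equivalently, the identity of `X` is an absolute weak normalization); every universal
homeomorphism `Y → X` with `Y` reduced is an isomorphism. -/
theorem result (X : Scheme.{u}) :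
    (HTop.IsAWN X ↔ HTop.IsAWNormalization (𝟙 X)) ∧
    (HTop.IsAWN X ↔ ∀ (Y : Scheme.{u}) (π : Y ⟶ X), FlatMor.IsUnivHomeo π → AlgebraicGeometry.IsReduced Y → IsIso π) := by
  open Groth.Agent.H6.AWNSch in
  obtain ⟨X', ν, hν, hX'⟩ := Groth.Agent.H6.AWNSch.exists_awnormalization X
  have hn := Groth.Agent.H6.AWNSch.isAWNormalization_of hν hX'
  haveI := Groth.Agent.H6.AWNSch.reduced_of_seminormal (Groth.Agent.H6.AWNSch.seminormal_of_awn hX')
  refine ⟨⟨fun h => Groth.Agent.H6.AWNSch.isAWNormalization_of (Groth.Agent.H6.AWNSch.uhm_iso _) h,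
    fun h => ?_⟩, ⟨fun h Y π hπ hY => Groth.Agent.H6.AWNSch.iso_of_uhm h hπ, fun h => ?_⟩⟩
  · obtain ⟨s, hs : s ≫ ν = 𝟙 X, -⟩ := h.2 X' ν hν
    have e : ν ≫ s = 𝟙 _ := (hn.2 _ ν hν).unique (by rw [Category.assoc, hs, Category.comp_id]) (Category.id_comp _)
    exact Groth.Agent.H6.AWNSch.awn_of_iso ⟨ν, s, e, hs⟩ hX'
  · haveI := h X' ν hν inferInstance
    exact Groth.Agent.H6.AWNSch.awn_of_iso (asIso ν) hX'

end Groth.Agent.S7426
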