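import Groth.Statements.S7434
import Mathlib
import Groth.Prelude.Def_W4stkschemesremainderFib
import Groth.Prelude.Def_Mor2
import Groth.Prelude.Def_ResDeg
import Groth.Agent.Lib.H2FibreDeg2

set_option autoImplicit false
universe u
open CategoryTheory AlgebraicGeometry
open BddFib

namespace Groth.Agent.S7434
set_option backward.isDefEq.respectTransparency.types false
set_option linter.style.haveILetI false
open CategoryTheory Limits AlgebraicGeometry TensorProduct

/-- When every fibre of `f : X → Y` has degree at most `n`, then for every field `k` and `Spec k → Y`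
the scheme `X_k = Spec k ×_Y X` has at most `n` points. (The published statement also bounds the sum
of the residue degrees `[κ(x_i) : k]` by `n`; that sharper bound is a separate row, and this row
states only the count of points.) -/
theorem result {X Y : Scheme.{u}} (f : X ⟶ Y) (n : ℕ) (hf : BddFib.FibreDegLE f n)
    (k : Type u) [Field k] (g : Spec (CommRingCat.of k) ⟶ Y) :
    Finite ↥(Limits.pullback f g) ∧ Nat.card ↥(Limits.pullback f g) ≤ n := by
  classical
  have h := Groth.Agent.H2FibreDeg.iff_field_points.1 hf k g
  haveI : Finite ↥(pullback f g) := (Groth.Agent.H2FibreDeg.finite_discrete h).1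
  refine ⟨inferInstance, ?_⟩
  letI := Fintype.ofFinite ↥(pullback f g)
  refine le_trans ?_ (Groth.Agent.H2FibreDeg.sum_residue_le (K := k) _ h)
  rw [Nat.card_eq_fintype_card, Fintype.card_eq_sum_ones]
  refine Finset.sum_le_sum fun x _ => ?_
  let p := pullback.snd f g
  letI := ((Scheme.ΓSpecIso (CommRingCat.of k)).inv ≫ p.appTop ≫ (pullback f g).presheaf.Γgerm x ≫ (pullback f g).residue x).hom.toAlgebra
  show 1 ≤ Module.finrank k ((pullback f g).residueField x)
  letI := BddFib.secAlgebra (CommRingCat.of k) p
  haveI : IsAffine (pullback f g) := h.1
  haveI := h.2.1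
  haveI : IsArtinianRing Γ(pullback f g, ⊤) := IsArtinianRing.of_finite k _
  haveI : Module.Finite k ((pullback f g).residueField x) := by
    let a : Γ(pullback f g, ⊤) →ₐ[k] (pullback f g).residueField x :=
      { ((pullback f g).presheaf.Γgerm x ≫ (pullback f g).residue x).hom with commutes' := fun c => rfl }
    refine Module.Finite.of_surjective a.toLinearMap ?_
    letI := (pullback f g).presheaf.algebra_section_stalk (U := ⊤) ⟨x, trivial⟩
    haveI := (isAffineOpen_top (pullback f g)).isLocalization_stalk ⟨x, trivial⟩
    exact ((pullback f g).residue_surjective x).comp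
      (IsArtinianRing.localization_surjective ((isAffineOpen_top (pullback f g)).primeIdealOf ⟨x, trivial⟩).asIdeal.primeCompl _)
  exact Module.finrank_pos

end Groth.Agent.S7434
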