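import Groth.Statements.S7435
import Mathlib
import Groth.Prelude.Def_W4stkschemesremainderFib
import Groth.Prelude.Def_Mor2
import Groth.Prelude.Def_ResDeg
import Groth.Agent.Lib.H2FibreDeg2

set_option autoImplicit false
universe u
open CategoryTheory AlgebraicGeometry
open BddFib

namespace Groth.Agent.S7435
set_option backward.isDefEq.respectTransparency.types false
set_option linter.style.haveILetI false
open CategoryTheory Limits AlgebraicGeometry TensorProduct

/-- If `f` is finite locally free of degree `d`, then `d` bounds the degrees of the fibres of `f`. -/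
theorem result {X Y : Scheme.{u}} (f : X ⟶ Y) (d : ℕ) (hf : Mor2.IsFinLocFreeOfDeg d f) :
    BddFib.FibreDegLE f d := by
  obtain ⟨⟨h1, h2, -⟩, hd⟩ := hf
  rw [Groth.Agent.H2FibreDeg.iff_field_points]
  intro k _ g
  let p := pullback.snd f g
  haveI : IsFinite p := MorphismProperty.pullback_snd f g h1
  haveI : Flat p := MorphismProperty.pullback_snd f g h2
  haveI : IsAffine (pullback f g) := isAffine_of_isAffineHom p
  letI := BddFib.secAlgebra (CommRingCat.of k) p
  haveI : Module.Finite k Γ(pullback f g, ⊤) := by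
    have : ((Scheme.ΓSpecIso (CommRingCat.of k)).inv ≫ p.appTop).hom.Finite := by
      rw [CommRingCat.hom_comp]
      exact RingHom.Finite.comp p.finite_appTop (RingHom.Finite.of_surjective _ (ConcreteCategory.bijective_of_isIso _).2)
    exact this
  refine ⟨inferInstance, ‹_›, le_of_eq ?_⟩
  have h3 := Scheme.Hom.finrank_SpecMap_algebraMap k Γ(pullback f g, ⊤) (⟨⊥, Ideal.isPrime_bot⟩ : PrimeSpectrum k)
  rw [Module.rankAtStalk_eq_finrank_of_free] at h3
  have h4 := Scheme.Hom.finrank_pullback_snd f g
  show Module.finrank k Γ(pullback f g, ⊤) = d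
  haveI : IsFinite (Spec.map (CommRingCat.ofHom (algebraMap k Γ(pullback f g, ⊤)))) :=
    (IsFinite.SpecMap_iff _).2 (RingHom.finite_algebraMap.2 ‹_›)
  haveI : Flat (Spec.map (CommRingCat.ofHom (algebraMap k Γ(pullback f g, ⊤)))) :=
    Flat.SpecMap_iff.2 ((RingHom.flat_algebraMap_iff).2 inferInstance)
  have h5 := Scheme.Hom.finrank_comp_left_of_isIso (pullback f g).isoSpec.hom (Spec.map (CommRingCat.ofHom (algebraMap k Γ(pullback f g, ⊤))))
  rw [Groth.Agent.H2FibreDeg.iff_sections p] at h5
  exact h3.symm.trans ((congrFun h5 _).symm.trans ((h4 _).trans (hd _)))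

end Groth.Agent.S7435
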