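import Groth.Statements.S7436
import Mathlib
import Groth.Prelude.Def_W4stkschemesremainderFib
import Groth.Prelude.Def_Mor2
import Groth.Prelude.Def_ResDeg
import Groth.Agent.Lib.H2FibreDeg2

set_option autoImplicit false
universe u
open CategoryTheory AlgebraicGeometry
open BddFib

namespace Groth.Agent.S7436
set_option backward.isDefEq.respectTransparency.types false
set_option linter.style.haveILetI false
open CategoryTheory Limits AlgebraicGeometry TensorProduct

/-- When every fibre of `f : X → Y` has degree at most `n` and every fibre of `g : Y → Z` has degree at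
most `m`, every fibre of `g ∘ f` has degree at most `n m`. -/
theorem result {X Y Z : Scheme.{u}} (f : X ⟶ Y) (g : Y ⟶ Z) (n m : ℕ) (hf : BddFib.FibreDegLE f n)
    (hg : BddFib.FibreDegLE g m) : BddFib.FibreDegLE (f ≫ g) (n * m) := by
  rw [Groth.Agent.H2FibreDeg.iff_field_points] at hf hg ⊢
  intro k _ z
  let T := pullback g z
  let p := pullback.snd g z
  have hT := hg k z
  haveI : IsAffine T := hT.1
  haveI : Finite T := (Groth.Agent.H2FibreDeg.finite_discrete hT).1
  haveI : DiscreteTopology T := (Groth.Agent.H2FibreDeg.finite_discrete hT).2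
  let W := pullback f (pullback.fst g z)
  let e : W ≅ pullback (f ≫ g) z := pullbackRightPullbackFstIso g z f
  let q : W ⟶ T := pullback.snd f (pullback.fst g z)
  refine Groth.Agent.H2FibreDeg.of_iso e (p := q ≫ p) (pullbackRightPullbackFstIso_hom_snd g z f) ?_
  -- W is finite discrete
  have hfib : ∀ t : T, Finite (q ⁻¹' {t} : Set W) ∧ DiscreteTopology (q ⁻¹' {t} : Set W) := by
    intro t
    have h := hf (T.residueField t) (T.fromSpecResidueField t ≫ pullback.fst g z)
    let e' : pullback q (T.fromSpecResidueField t) ≅ pullback f (T.fromSpecResidueField t ≫ pullback.fst g z) :=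
      pullbackLeftPullbackSndIso f (pullback.fst g z) (T.fromSpecResidueField t)
    obtain ⟨h1, h2⟩ := Groth.Agent.H2FibreDeg.finite_discrete h
    haveI := h1; haveI := h2
    let η := e'.hom.homeomorph
    haveI : Finite (q.fiber t) := Finite.of_equiv _ η.symm.toEquiv
    haveI : DiscreteTopology (q.fiber t) := η.symm.discreteTopology
    exact ⟨Finite.of_equiv _ (q.fiberHomeo t).toEquiv, (q.fiberHomeo t).discreteTopology⟩
  haveI : Finite W := by
    haveI : ∀ t : T, Finite {w : W // q w = t} := fun t => (hfib t).1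
    exact Finite.of_equiv _ (Equiv.sigmaFiberEquiv (fun w : W => q w))
  haveI : DiscreteTopology W := discreteTopology_iff_isOpen_singleton.2 fun w => by
    have ho : IsOpen (q ⁻¹' {q w} : Set W) := (isOpen_discrete _).preimage q.continuous
    haveI := (hfib (q w)).2
    simpa using ho.isOpenMap_subtype_val {(⟨w, rfl⟩ : (q ⁻¹' {q w} : Set W))} (isOpen_discrete _)
  haveI : IsAffine W := Groth.Agent.H2FibreDeg.isAffine_of_finite_discrete W
  letI := BddFib.secAlgebra (CommRingCat.of k) p
  letI := BddFib.secAlgebra (CommRingCat.of k) (q ≫ p)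
  letI := q.appTop.hom.toAlgebra
  haveI : IsScalarTower k Γ(T, ⊤) Γ(W, ⊤) := IsScalarTower.of_algebraMap_eq fun c => rfl
  haveI : Module.Finite k Γ(T, ⊤) := hT.2.1
  obtain ⟨h1, h2⟩ := Groth.Agent.H2FibreDeg.finite_of_fibres (K := k) (A := Γ(T, ⊤)) (B := Γ(W, ⊤)) (n := n) fun M hM => by
    letI := Ideal.Quotient.field M
    let P := Γ(T, ⊤) ⧸ M
    let i : Spec (CommRingCat.of P) ⟶ T := Spec.map (CommRingCat.ofHom (Ideal.Quotient.mk M)) ≫ T.isoSpec.inv
    rw [← Groth.Agent.H2FibreDeg.spec_iff (K := P) (n := n) (P ⊗[Γ(T, ⊤)] Γ(W, ⊤))]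
    have hc : IsPullback (pullback.fst f (i ≫ pullback.fst g z)) (pullback.snd f (i ≫ pullback.fst g z)) f (i ≫ pullback.fst g z) :=
      IsPullback.of_hasPullback _ _
    let e₁ : pullback q i ≅ pullback f (i ≫ pullback.fst g z) := pullbackLeftPullbackSndIso f (pullback.fst g z) i
    have hc' : IsPullback (pullback.fst q i ≫ W.isoSpec.hom) (pullback.snd q i) (Spec.map (CommRingCat.ofHom (algebraMap Γ(T, ⊤) Γ(W, ⊤))))
        (Spec.map (CommRingCat.ofHom (algebraMap Γ(T, ⊤) P))) := by
      refine (IsPullback.of_hasPullback q i).of_iso (Iso.refl _) W.isoSpec (Iso.refl _) T.isoSpec (by simp) (by simp) ?_ (by simp [i, P])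
      exact Scheme.isoSpec_hom_naturality q |>.symm
    let e₂ : pullback q i ≅ Spec (CommRingCat.of (P ⊗[Γ(T, ⊤)] Γ(W, ⊤))) :=
      hc'.flip.isoPullback ≪≫ pullbackSpecIso Γ(T, ⊤) P Γ(W, ⊤)
    refine Groth.Agent.H2FibreDeg.of_iso (K := P) (e₁.symm ≪≫ e₂) ?_ (hf P (i ≫ pullback.fst g z))
    show (e₁.inv ≫ e₂.hom) ≫ _ = _
    refine (Category.assoc _ _ _).trans ((Iso.inv_comp_eq e₁).2 ?_)
    simp only [e₂, Iso.trans_hom, Category.assoc]
    erw [pullbackSpecIso_hom_fst]
    rw [hc'.flip.isoPullback_hom_fst]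
    exact (pullbackLeftPullbackSndIso_hom_snd f (pullback.fst g z) i).symm
  exact ⟨inferInstance, h1, h2.trans (Nat.mul_le_mul_left n hT.2.2)⟩

end Groth.Agent.S7436
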