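import Groth.Statements.S7438
import Mathlib
import Groth.Prelude.Def_W4stkschemesremainderFib
import Groth.Agent.Lib.H2FibreDeg

set_option autoImplicit false
universe u
open CategoryTheory AlgebraicGeometry
open BddFib

namespace Groth.Agent.S7438
open CategoryTheory Limits AlgebraicGeometry
set_option backward.isDefEq.respectTransparency.types false
set_option linter.style.haveILetI false

/-- Let `f' : X' → Y'` be the base change of `f : X → Y` along a surjective morphism `Y' → Y`. If `n`
bounds the degrees of the fibres of `f'`, then `n` bounds the degrees of the fibres of `f`. -/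
theorem result {X Y X' Y' : Scheme.{u}} (f : X ⟶ Y) (g : Y' ⟶ Y) [Surjective g]
    (f' : X' ⟶ Y') (g' : X' ⟶ X) (h : IsPullback g' f' f g) (n : ℕ) (hf' : BddFib.FibreDegLE f' n) :
    BddFib.FibreDegLE f n := by
  intro y
  obtain ⟨y', rfl⟩ := g.surjective y
  have hc := isPullback_fiberToSpecResidueField_of_isPullback h y'
  haveI : Surjective (Spec.map (g.residueFieldMap y')) :=
    ⟨fun x => ⟨IsLocalRing.closedPoint _, Subsingleton.elim (α := PrimeSpectrum (Y.residueField (g y'))) _ _⟩⟩
  haveI : Flat (Spec.map (g.residueFieldMap y')) := inferInstance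
  let q := pullback.map f' (Y'.fromSpecResidueField y') f (Y.fromSpecResidueField (g y')) g'
    (Spec.map (g.residueFieldMap y')) g h.w.symm (by simp)
  haveI : Flat q := MorphismProperty.of_isPullback (P := @Flat) hc.flip inferInstance
  haveI : Surjective q := MorphismProperty.of_isPullback (P := @Surjective) hc.flip inferInstance
  obtain ⟨h1, h2⟩ := Groth.Agent.H2FibreDeg.finite_discrete (hf' y')
  haveI : Finite ↥(pullback f' (Y'.fromSpecResidueField y')) := h1
  haveI : DiscreteTopology ↥(pullback f' (Y'.fromSpecResidueField y')) := h2
  exact (Groth.Agent.H2FibreDeg.of_isPullback (g.residueFieldMap y').hom hc).2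
    (Groth.Agent.H2FibreDeg.isAffine_of_flat_surjective q) (hf' y')

end Groth.Agent.S7438
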