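import Groth.Statements.S7439
import Mathlib
import Groth.Prelude.Def_W4stkschemesremainderFib
import Groth.Agent.Lib.H2FibreDeg

set_option autoImplicit false
universe u
open CategoryTheory AlgebraicGeometry
open BddFib

namespace Groth.Agent.S7439
open CategoryTheory Limits AlgebraicGeometry
set_option backward.isDefEq.respectTransparency.types false
set_option linter.style.haveILetI false

/-- Every immersion has universally bounded fibres, with `1` as a bound for the degrees of its fibres. -/
theorem result {X Y : Scheme.{u}} (f : X ⟶ Y) [IsImmersion f] :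
    BddFib.FibreDegLE f 1 := by
  intro y
  let K : Type u := Y.residueField y
  let p : pullback f (Y.fromSpecResidueField y) ⟶ Spec (CommRingCat.of K) := pullback.snd f (Y.fromSpecResidueField y)
  haveI : IsImmersion p := MorphismProperty.pullback_snd (P := @IsImmersion) _ _ ‹_›
  rcases isEmpty_or_nonempty ↥(pullback f (Y.fromSpecResidueField y)) with he | ⟨⟨x⟩⟩
  · letI := BddFib.secAlgebra (CommRingCat.of K) p
    haveI : Subsingleton Γ(pullback f (Y.fromSpecResidueField y), ⊤) := inferInstance
    refine (show BddFib.FiniteOfDegLE (CommRingCat.of K) p 1 from ⟨inferInstance, inferInstance, ?_⟩)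
    rw [Module.finrank_zero_of_subsingleton]; exact Nat.zero_le 1
  · haveI : Surjective p := ⟨fun q => ⟨x, Subsingleton.elim (α := PrimeSpectrum K) _ _⟩⟩
    haveI : IsClosedImmersion p := .of_isPreimmersion _ (by rw [p.surjective.range_eq]; exact isClosed_univ)
    haveI := isIso_of_isClosedImmersion_of_surjective p
    refine Groth.Agent.H2FibreDeg.of_iso (K := K) (asIso p).symm ?_
      ((Groth.Agent.H2FibreDeg.spec_iff (K := K) K).2 ⟨inferInstance, le_of_eq (Module.finrank_self K)⟩)
    show inv p ≫ p = Spec.map (CommRingCat.ofHom (RingHom.id K))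
    rw [IsIso.inv_hom_id]; exact (Spec.map_id _).symm

end Groth.Agent.S7439
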