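import Groth.Statements.S7440
import Mathlib
import Groth.Prelude.Def_W4stkschemesremainderFib
import Groth.Prelude.Def_Mor2
import Groth.Prelude.Def_ResDeg
import Groth.Agent.Lib.H2FibreDeg2

set_option autoImplicit false
universe u
open CategoryTheory AlgebraicGeometry
open BddFib

namespace Groth.Agent.S7440
set_option backward.isDefEq.respectTransparency.types false
set_option linter.style.haveILetI false
open CategoryTheory Limits AlgebraicGeometry TensorProduct

/-- Let `f : X → Y` be étale and `n ≥ 0`. If for every field `k` and every `Spec k → Y` the base change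
`X_k = Spec k ×_Y X` has finitely many, and at most `n`, points, then `n` bounds the degrees of the
fibres of `f`. (The converse implication holds for every morphism of schemes, étale or not, and is
not restated here.) -/
theorem result {X Y : Scheme.{u}} (f : X ⟶ Y) [Etale f] (n : ℕ)
    (h : ∀ (k : Type u) [Field k] (g : Spec (CommRingCat.of k) ⟶ Y),
      Finite ↥(Limits.pullback f g) ∧ Nat.card ↥(Limits.pullback f g) ≤ n) :
    BddFib.FibreDegLE f n := by
  classical
  intro y
  let K : Type u := Y.residueField y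
  let L : Type u := AlgebraicClosure K
  let φ : K →+* L := algebraMap K L
  let ψ : Spec (CommRingCat.of L) ⟶ Spec (CommRingCat.of K) := Spec.map (CommRingCat.ofHom φ)
  let T := pullback f (Y.fromSpecResidueField y)
  let p : T ⟶ Spec (CommRingCat.of K) := pullback.snd f (Y.fromSpecResidueField y)
  haveI : Etale p := MorphismProperty.pullback_snd f (Y.fromSpecResidueField y) ‹_›
  obtain ⟨hfin, -⟩ := h K (Y.fromSpecResidueField y)
  haveI : Finite T := hfin
  haveI : JacobsonSpace T := LocallyOfFiniteType.jacobsonSpace p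
  haveI : DiscreteTopology T := inferInstance
  haveI : IsAffine T := Groth.Agent.H2FibreDeg.isAffine_of_finite_discrete T
  let T' := pullback p ψ
  let p' : T' ⟶ Spec (CommRingCat.of L) := pullback.snd p ψ
  refine (Groth.Agent.H2FibreDeg.of_isPullback φ (IsPullback.of_hasPullback p ψ)).2 ‹_› ?_
  obtain ⟨hf', hn'⟩ := h L (ψ ≫ Y.fromSpecResidueField y)
  haveI : Finite T' := Finite.of_equiv _ (pullbackLeftPullbackSndIso f (Y.fromSpecResidueField y) ψ).inv.homeomorph.toEquiv
  have hcard : Nat.card T' ≤ n :=
    (Nat.card_congr (pullbackLeftPullbackSndIso f (Y.fromSpecResidueField y) ψ).hom.homeomorph.toEquiv).trans_le hn'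
  haveI : Etale p' := MorphismProperty.pullback_snd p ψ inferInstance
  haveI : IsAffine T' := inferInstance
  letI := BddFib.secAlgebra (CommRingCat.of L) p'
  haveI : Algebra.Etale L Γ(T', ⊤) := by
    have h1 : p'.appTop.hom.Etale := HasRingHomProperty.appTop @Etale p' inferInstance
    have h2 : ((Scheme.ΓSpecIso (CommRingCat.of L)).inv ≫ p'.appTop).hom.Etale := by
      rw [CommRingCat.hom_comp]
      exact RingHom.Etale.stableUnderComposition _ _ (RingHom.Etale.of_bijective (ConcreteCategory.bijective_of_isIso _)) h1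
    exact h2
  obtain ⟨I, hI, Ai, _, _, e, hsep⟩ := (Algebra.FormallyEtale.iff_exists_algEquiv_prod (K := L) (A := Γ(T', ⊤))).1 inferInstance
  haveI := fun i => hsep i
  haveI := Fintype.ofFinite I
  haveI : ∀ i, Algebra.IsIntegral L (Ai i) := fun i => ⟨fun x => Algebra.IsSeparable.isIntegral L x⟩
  have hone : ∀ i, Function.Bijective (algebraMap L (Ai i)) := fun i => IsAlgClosed.algebraMap_bijective_of_isIntegral
  let e' : Γ(T', ⊤) ≃ₐ[L] (I → L) := e.trans (AlgEquiv.piCongrRight fun i => (AlgEquiv.ofBijective (Algebra.ofId L (Ai i)) (hone i)).symm)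
  refine ⟨inferInstance, Module.Finite.equiv e'.toLinearEquiv.symm, ?_⟩
  rw [e'.toLinearEquiv.finrank_eq, Module.finrank_fintype_fun_eq_card, ← Nat.card_eq_fintype_card]
  refine le_trans ?_ hcard
  haveI : Finite (PrimeSpectrum Γ(T', ⊤)) := Finite.of_equiv _ T'.isoSpec.hom.homeomorph.toEquiv
  refine le_trans (Nat.card_le_card_of_injective (fun i : I => (PrimeSpectrum.comap (e' : Γ(T', ⊤) →+* (I → L))
    ⟨RingHom.ker (Pi.evalRingHom (fun _ : I => L) i), RingHom.ker_isPrime _⟩ : PrimeSpectrum Γ(T', ⊤))) ?_)
    (Nat.card_congr T'.isoSpec.hom.homeomorph.toEquiv).ge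
  intro i i' hii
  by_contra hne
  have h1 : e'.symm (Pi.single i 1) ∈ (PrimeSpectrum.comap (e' : Γ(T', ⊤) →+* (I → L))
    ⟨RingHom.ker (Pi.evalRingHom (fun _ : I => L) i'), RingHom.ker_isPrime _⟩).asIdeal := by
    show e' (e'.symm (Pi.single i 1)) i' = 0
    rw [AlgEquiv.apply_symm_apply]
    exact Pi.single_eq_of_ne (Ne.symm hne) _
  rw [← show _ = _ from congrArg PrimeSpectrum.asIdeal hii] at h1
  have h2 : e' (e'.symm (Pi.single i 1)) i = 0 := h1
  rw [AlgEquiv.apply_symm_apply, Pi.single_eq_same] at h2
  exact one_ne_zero h2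

end Groth.Agent.S7440
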