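import Groth.Statements.S7441
import Mathlib
import Groth.Prelude.Def_W4stkschemesremainderFib
import Groth.Prelude.Def_Mor2
import Groth.Prelude.Def_ResDeg
import Groth.Agent.Lib.H2FibreDeg2

set_option autoImplicit false
universe u
open CategoryTheory AlgebraicGeometry
open BddFib

namespace Groth.Agent.S7441
set_option backward.isDefEq.respectTransparency.types false
set_option linter.style.haveILetI false
open CategoryTheory Limits AlgebraicGeometry TensorProduct

/-- Let `f : X → Y` be locally quasi-finite (locally of finite type with discrete fibres) with `X`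
quasi-compact. Then the fibres of `f` are universally bounded. -/
theorem result {X Y : Scheme.{u}} (f : X ⟶ Y) [LocallyQuasiFinite f]
    [LocallyOfFiniteType f] [CompactSpace X] : BddFib.UnivBounded f := by
  classical
  have hc : ∀ x : X, ∃ (U : X.Opens) (V : Y.Opens) (_ : IsAffineOpen U) (_ : IsAffineOpen V) (_ : U ≤ f ⁻¹ᵁ V), x ∈ U := by
    intro x
    obtain ⟨_, ⟨V, hV, rfl⟩, hxV, -⟩ := (Scheme.isBasis_affineOpens Y).exists_subset_of_mem_open (Set.mem_univ (f x)) isOpen_univ
    obtain ⟨_, ⟨U, hU, rfl⟩, hxU, hUV⟩ := (Scheme.isBasis_affineOpens X).exists_subset_of_mem_open hxV ((f ⁻¹ᵁ V : X.Opens)).2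
    exact ⟨U, V, hU, hV, hUV, hxU⟩
  choose U V hU hV hUV hxU using hc
  obtain ⟨t, ht⟩ := isCompact_univ.elim_finite_subcover (fun x => (U x : Set X)) (fun x => (U x).2)
    (fun x _ => Set.mem_iUnion.2 ⟨x, hxU x⟩)
  have hb : ∀ x, ∃ d, ∀ (k : Type u) [Field k] (g : Spec (CommRingCat.of k) ⟶ Y),
      BddFib.FiniteOfDegLE (CommRingCat.of k) (pullback.snd ((U x).ι ≫ f) g) d := by
    intro x
    let a := f.appLE (V x) (U x) (hUV x)
    have hft : a.hom.FiniteType := f.finiteType_appLE (hV x) (hU x) (hUV x)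
    have hqf : a.hom.QuasiFinite := HasRingHomProperty.appLE @LocallyQuasiFinite f inferInstance ⟨V x, hV x⟩ ⟨U x, hU x⟩ (hUV x)
    algebraize [a.hom]
    obtain ⟨d, hd⟩ := Groth.Agent.H2FibreDeg.exists_bound_fibres Γ(Y, V x) Γ(X, U x)
    refine ⟨d, fun k _ g => ?_⟩
    rcases isEmpty_or_nonempty ↥(pullback ((U x).ι ≫ f) g) with he | ⟨⟨w⟩⟩
    · letI := BddFib.secAlgebra (CommRingCat.of k) (pullback.snd ((U x).ι ≫ f) g)
      haveI : Subsingleton Γ(pullback ((U x).ι ≫ f) g, ⊤) := inferInstance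
      refine ⟨inferInstance, inferInstance, ?_⟩
      rw [Module.finrank_zero_of_subsingleton]; exact Nat.zero_le _
    · have hgV : Set.range g ⊆ Set.range (hV x).fromSpec := by
        rw [(hV x).range_fromSpec]
        rintro _ ⟨c, rfl⟩
        rw [Subsingleton.elim c ((pullback.snd ((U x).ι ≫ f) g) w), ← Scheme.Hom.comp_apply, ← pullback.condition]
        exact hUV x ((pullback.fst ((U x).ι ≫ f) g) w).2
      obtain ⟨ψ, hψ⟩ : ∃ ψ, Spec.map ψ ≫ (hV x).fromSpec = g :=
        ⟨Spec.preimage (IsOpenImmersion.lift _ g hgV), by rw [Spec.map_preimage, IsOpenImmersion.lift_fac]⟩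
      letI : Algebra Γ(Y, V x) k := ψ.hom.toAlgebra
      have hw : (U x).ι ≫ f = (hU x).isoSpec.hom ≫ Spec.map a ≫ (hV x).fromSpec := by
        rw [← Iso.inv_comp_eq, IsAffineOpen.SpecMap_appLE_fromSpec f (hV x) (hU x) (hUV x), ← Category.assoc]
        rfl
      let P := pullback ((U x).ι ≫ f) g
      let s₁ : P ⟶ Spec Γ(X, U x) := pullback.fst ((U x).ι ≫ f) g ≫ (hU x).isoSpec.hom
      let s₂ : P ⟶ Spec (CommRingCat.of k) := pullback.snd ((U x).ι ≫ f) g
      have h1 : IsPullback s₁ s₂ (Spec.map a) (Spec.map ψ) := by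
        refine IsPullback.mk' ?_ (fun T φ φ' h h' => ?_) (fun T α β hαβ => ?_)
        · rw [← cancel_mono (hV x).fromSpec]
          simp only [s₁, s₂, Category.assoc, hψ, ← hw]
          exact pullback.condition
        · refine pullback.hom_ext ?_ h'
          rw [← cancel_mono (hU x).isoSpec.hom, Category.assoc, Category.assoc]
          exact h
        · refine ⟨pullback.lift (α ≫ (hU x).isoSpec.inv) β ?_, ?_, ?_⟩
          · rw [hw, Category.assoc, Iso.inv_hom_id_assoc, reassoc_of% hαβ, hψ]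
          · simp only [s₁, pullback.lift_fst_assoc, Category.assoc, Iso.inv_hom_id, Category.comp_id]
          · exact pullback.lift_snd _ _ _
      let e : P ≅ Spec (CommRingCat.of (k ⊗[Γ(Y, V x)] Γ(X, U x))) :=
        h1.flip.isoPullback ≪≫ pullbackSpecIso Γ(Y, V x) k Γ(X, U x)
      refine Groth.Agent.H2FibreDeg.of_iso (K := k) e.symm ?_ (hd k)
      show e.inv ≫ s₂ = _
      rw [Iso.inv_comp_eq]
      simp only [e, Iso.trans_hom, Category.assoc]
      erw [pullbackSpecIso_hom_fst]
      exact (h1.flip.isoPullback_hom_fst).symm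
  choose d hd using hb
  refine ⟨∑ x : t, d x.1, ?_⟩
  rw [Groth.Agent.H2FibreDeg.iff_field_points]
  intro k _ g
  let j : ∀ x : t, pullback ((U x.1).ι ≫ f) g ⟶ pullback f g := fun x =>
    pullback.map ((U x.1).ι ≫ f) g f g (U x.1).ι (𝟙 _) (𝟙 _) (Category.comp_id _) (by simp)
  have hj : ∀ x : t, IsPullback (pullback.fst ((U x.1).ι ≫ f) g) (j x) (U x.1).ι (pullback.fst f g) := by
    intro x
    refine IsPullback.of_bot ?_ ?_ (IsPullback.of_hasPullback f g)
    · rw [show j x ≫ pullback.snd f g = pullback.snd ((U x.1).ι ≫ f) g from (pullback.lift_snd _ _ _).trans (Category.comp_id _)]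
      exact IsPullback.of_hasPullback ((U x.1).ι ≫ f) g
    · exact (pullback.lift_fst _ _ _).symm
  haveI : ∀ x, IsOpenImmersion (j x) := fun x => MorphismProperty.of_isPullback (P := @IsOpenImmersion) (hj x) inferInstance
  refine Groth.Agent.H2FibreDeg.of_cover j (fun w => ?_) (fun x : t => d x.1) fun x => ?_
  · obtain ⟨x, hx, hmem⟩ := Set.mem_iUnion₂.1 (ht (Set.mem_univ (pullback.fst f g w)))
    refine ⟨⟨x, hx⟩, ?_⟩
    obtain ⟨z, -, hz⟩ := Scheme.exists_preimage_of_isPullback (hj ⟨x, hx⟩) ⟨_, hmem⟩ w rfl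
    exact ⟨z, hz⟩
  · rw [show j x ≫ pullback.snd f g = pullback.snd ((U x.1).ι ≫ f) g from (pullback.lift_snd _ _ _).trans (Category.comp_id _)]
    exact hd x.1 k g

end Groth.Agent.S7441
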