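import Groth.Statements.S7442
import Mathlib
import Groth.Prelude.Def_W4stkschemesremainderFib
import Groth.Agent.Lib.H2FibreDeg

set_option autoImplicit false
universe u
open CategoryTheory AlgebraicGeometry
open BddFib

namespace Groth.Agent.S7442
open CategoryTheory Limits AlgebraicGeometry
set_option backward.isDefEq.respectTransparency.types false
set_option linter.style.haveILetI false

/-- Let `f : X → Y` and `h : Y → Z` with `g = h ∘ f`. If `f` is flat and surjective and `n` bounds the
degrees of the fibres of `g`, then `n` bounds the degrees of the fibres of `h`. -/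
theorem result {X Y Z : Scheme.{u}} (f : X ⟶ Y) (h : Y ⟶ Z) [Flat f] [Surjective f]
    (n : ℕ) (hg : BddFib.FibreDegLE (f ≫ h) n) : BddFib.FibreDegLE h n := by
  intro z
  let e := pullbackRightPullbackFstIso h (Z.fromSpecResidueField z) f
  let q : pullback (f ≫ h) (Z.fromSpecResidueField z) ⟶ pullback h (Z.fromSpecResidueField z) :=
    e.inv ≫ pullback.snd f (pullback.fst h (Z.fromSpecResidueField z))
  haveI : Flat q := MorphismProperty.comp_mem @Flat e.inv _ inferInstance (MorphismProperty.pullback_snd (P := @Flat) _ _ ‹_›)
  haveI : Surjective q := MorphismProperty.comp_mem @Surjective e.inv _ inferInstance (MorphismProperty.pullback_snd (P := @Surjective) _ _ ‹_›)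
  have hq : q ≫ pullback.snd h (Z.fromSpecResidueField z) = pullback.snd (f ≫ h) (Z.fromSpecResidueField z) := by
    simp only [q, e, Category.assoc, Iso.inv_comp_eq]
    simp
  refine Groth.Agent.H2FibreDeg.descend_flat_surjective (K := Z.residueField z) q (pullback.snd h (Z.fromSpecResidueField z)) ?_
  rw [hq]; exact hg z

end Groth.Agent.S7442
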