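import Groth.Statements.S7443
import Groth.Agent.Lib.H6.UhLimit2

set_option autoImplicit false
set_option linter.all false
universe u
open CategoryTheory AlgebraicGeometry
open Mor

namespace Groth.Agent.S7443

/-- Let `φ : A → B` be a ring map with `Spec B → Spec A` a universal homeomorphism. Then `B`, as an
`A`-algebra, is the colimit of a filtered diagram of finitely presented `A`-algebras `B_i`, and
every `Spec B_i → Spec A` is again a universal homeomorphism. (The colimit is taken in the category
of rings under `A`, over a small filtered index category.) -/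
theorem result {A B : Type u} [CommRing A] [CommRing B] (φ : A →+* B)
    (hφ : FlatMor.IsUnivHomeo (Spec.map (CommRingCat.ofHom φ))) :
    ∃ (J : Type u) (_ : SmallCategory J) (_ : IsFiltered J) (F : J ⥤ Under (CommRingCat.of A))
      (c : Limits.Cocone F) (_ : Limits.IsColimit c),
      (∀ j, (F.obj j).hom.hom.FinitePresentation ∧ FlatMor.IsUnivHomeo (Spec.map (F.obj j).hom)) ∧
      Nonempty (c.pt ≅ Under.mk (CommRingCat.ofHom φ)) := by
  open Groth.Agent.H6 in
  letI := φ.toAlgebra
  have h := (AWN.uh_iff _).1 hφ
  have hcof := UhLimit.exists_towered (A := A) (B := B) (fun {C} _ => Tower.AnyStep (B := C))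
    (fun {C} _ => Tower.any_mono) UhLimit.lifts_any (Tower.cover_any h)
  obtain ⟨hF, ⟨hc⟩⟩ := UhLimit.exists_colimit _ hcof
  refine ⟨_, inferInstance, hF, _, _, hc, fun s => ⟨?_, ?_⟩, ⟨Iso.refl _⟩⟩
  · exact RingHom.finitePresentation_algebraMap.2 (UhLimit.fp s.1)
  · exact (AWN.uh_iff _).2 (Tower.uh_of_cover' (UhLimit.toB_surj s.1 h.surj) (fun _ _ h => h) s.2)

end Groth.Agent.S7443
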