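import Groth.Statements.S7444
import Groth.Agent.Lib.H6.UhLimit2

set_option autoImplicit false
set_option linter.all false
universe u
open CategoryTheory AlgebraicGeometry
open Mor

namespace Groth.Agent.S7444

/-- Let `φ : A → B` be a ring map such that `Spec B → Spec A` is a universal homeomorphism and all
residue field extensions are trivial (every residue field map is surjective). Then `B`, as an
`A`-algebra, is the colimit of a filtered diagram of finitely presented `A`-algebras `B_i`, each of
which has the same two properties over `A`. (The colimit is taken in the category of rings under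
`A`, over a small filtered index category.) -/
theorem result {A B : Type u} [CommRing A] [CommRing B]
    (φ : A →+* B) (hφ : FlatMor.IsUnivHomeo (Spec.map (CommRingCat.ofHom φ)))
    (hres : ∀ x : Spec (CommRingCat.of B), Function.Surjective ((Spec.map (CommRingCat.ofHom φ)).residueFieldMap x)) :
    ∃ (J : Type u) (_ : SmallCategory J) (_ : IsFiltered J) (F : J ⥤ Under (CommRingCat.of A))
      (c : Limits.Cocone F) (_ : Limits.IsColimit c),
      (∀ j, (F.obj j).hom.hom.FinitePresentation ∧ FlatMor.IsUnivHomeo (Spec.map (F.obj j).hom) ∧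
        ∀ x : Spec (F.obj j).right, Function.Surjective ((Spec.map (F.obj j).hom).residueFieldMap x)) ∧
      Nonempty (c.pt ≅ Under.mk (CommRingCat.ofHom φ)) := by
  open Groth.Agent.H6 in
  letI := φ.toAlgebra
  have h := (AWN.uh_iff _).1 hφ
  have hr : ∀ (Q : Ideal B) [Q.IsPrime],
      Function.Surjective (Ideal.ResidueField.map (Q.comap (algebraMap A B)) Q (algebraMap A B) rfl) :=
    fun Q hQ => (Groth.Agent.H6.Tower.residueFieldMap_surj_iff φ ⟨Q, hQ⟩).1 (hres _)
  have hcof := UhLimit.exists_towered (A := A) (B := B) (fun {C} _ => Tower.SqStep (B := C))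
    (fun {C} _ => Tower.sq_mono) UhLimit.lifts_sq (Tower.cover_sq h hr)
  obtain ⟨hF, ⟨hc⟩⟩ := UhLimit.exists_colimit _ hcof
  refine ⟨_, inferInstance, hF, _, _, hc, fun s => ⟨?_, ?_, fun x => ?_⟩, ⟨Iso.refl _⟩⟩
  · exact RingHom.finitePresentation_algebraMap.2 (UhLimit.fp s.1)
  · exact (AWN.uh_iff _).2 (Tower.uh_of_cover' (UhLimit.toB_surj s.1 h.surj) (fun _ _ h => Or.inl h) s.2)
  · let y : PrimeSpectrum (UhLimit.Q s.1) := x
    haveI : y.asIdeal.IsPrime := y.isPrime
    exact (Groth.Agent.H6.Tower.residueFieldMap_surj_iff (algebraMap A (UhLimit.Q s.1)) y).2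
      (Groth.Agent.H6.Tower.residue_surj_of_cover s.2 y.asIdeal)

end Groth.Agent.S7444
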