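import Groth.Statements.S7446
import Mathlib
import Groth.Prelude.Def_W4stkschemesremainderFib
import Groth.Prelude.Def_Mor2
import Groth.Prelude.Def_ResDeg
import Groth.Agent.Lib.H2FibreDeg2

set_option autoImplicit false
universe u
open CategoryTheory AlgebraicGeometry
open BddFib

namespace Groth.Agent.S7446
set_option backward.isDefEq.respectTransparency.types false
set_option linter.style.haveILetI false
open CategoryTheory Limits AlgebraicGeometry TensorProduct

/-- When every fibre of `f : X → Y` has degree at most `n`, then for every field `k` and every `Spec k →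
Y`, writing `X_k = {x_1, …, x_t}`, one has `Σ_i [κ(x_i) : k] ≤ n`. (Residue degrees are taken along
`X_k → Spec k`; `X_k` is finite, so the sum is a finite sum.) -/
theorem result {X Y : Scheme.{u}} (f : X ⟶ Y) (n : ℕ) (hf : BddFib.FibreDegLE f n)
    (k : Type u) [Field k] (g : Spec (CommRingCat.of k) ⟶ Y) :
    Finite ↥(Limits.pullback f g) ∧
      ∑ᶠ x : ↥(Limits.pullback f g), (Limits.pullback.snd f g).residueDegree x ≤ n := by
  classical
  have h := Groth.Agent.H2FibreDeg.iff_field_points.1 hf k g
  haveI : Finite ↥(pullback f g) := (Groth.Agent.H2FibreDeg.finite_discrete h).1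
  refine ⟨inferInstance, ?_⟩
  letI := Fintype.ofFinite ↥(pullback f g)
  rw [finsum_eq_sum_of_fintype]
  refine le_trans (le_of_eq ?_) (Groth.Agent.H2FibreDeg.sum_residue_le (K := k) _ h)
  refine Finset.sum_congr rfl fun x _ => ?_
  let p := pullback.snd f g
  letI := (p.residueFieldMap x).hom.toAlgebra
  letI := ((Scheme.ΓSpecIso (CommRingCat.of k)).inv ≫ p.appTop ≫ (pullback f g).presheaf.Γgerm x ≫ (pullback f g).residue x).hom.toAlgebra
  show Module.finrank ((Spec (CommRingCat.of k)).residueField (p x)) ((pullback f g).residueField x) = _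
  let e : CommRingCat.of k ⟶ (Spec (CommRingCat.of k)).residueField (p x) :=
    (Scheme.ΓSpecIso (CommRingCat.of k)).inv ≫ (Spec (CommRingCat.of k)).presheaf.Γgerm (p x) ≫ (Spec (CommRingCat.of k)).residue (p x)
  have he : e ≫ p.residueFieldMap x = (Scheme.ΓSpecIso (CommRingCat.of k)).inv ≫ p.appTop ≫ (pullback f g).presheaf.Γgerm x ≫ (pullback f g).residue x := by
    simp only [e, Category.assoc, Scheme.residue_residueFieldMap]
    simp [TopCat.Presheaf.Γgerm]
  have hb : Function.Bijective e.hom := by
    refine ⟨e.hom.injective, ?_⟩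
    refine ((Spec (CommRingCat.of k)).residue_surjective (p x)).comp ?_
    letI := (Spec (CommRingCat.of k)).presheaf.algebra_section_stalk (U := ⊤) ⟨p x, trivial⟩
    haveI := (isAffineOpen_top (Spec (CommRingCat.of k))).isLocalization_stalk ⟨p x, trivial⟩
    haveI : IsArtinianRing Γ(Spec (CommRingCat.of k), ⊤) :=
      (ConcreteCategory.bijective_of_isIso (Scheme.ΓSpecIso (CommRingCat.of k)).inv).2.isArtinianRing
    exact (IsArtinianRing.localization_surjective ((isAffineOpen_top (Spec (CommRingCat.of k))).primeIdealOf ⟨p x, trivial⟩).asIdeal.primeCompl _).comp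
      (ConcreteCategory.bijective_of_isIso (Scheme.ΓSpecIso (CommRingCat.of k)).inv).2
  symm
  refine Algebra.finrank_eq_of_equiv_equiv (RingEquiv.ofBijective e.hom hb) (RingEquiv.refl _) ?_
  exact RingHom.ext fun c => congrArg (fun m : CommRingCat.of k ⟶ (pullback f g).residueField x => m.hom c) he

end Groth.Agent.S7446
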