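import Groth.Statements.S7449
import Groth.Agent.Lib.H6.NagataVal2
import Groth.Agent.S9205

set_option autoImplicit false
set_option backward.isDefEq.respectTransparency.types false
set_option maxHeartbeats 1000000
open CategoryTheory.Limits TopologicalSpace Groth.Agent.H6
set_option linter.all false
universe u
open CategoryTheory AlgebraicGeometry
open Lim

namespace Groth.Agent.S7449

/-- Let `S` be a Nagata scheme, `X`, `Y` locally of finite type over `S` and `f : X → Y` a quasi-compact
morphism over `S`. Then `f` is universally closed if and only if for every commutative diagram `U →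
X`, `C → Y` over `S` where `C` is a normal integral scheme of finite type over `S`, `c ∈ C` is a
closed point whose local ring `A = O_{C,c}` has dimension `1` and `U = C ∖ {c}`, there is a morphism
`Spec A → X` making the square `Spec K → X`, `Spec A → Y` (with `K = Frac A`, `Spec K → X` through
`U`, `Spec A → Y` through `C`) commute. -/
theorem result (S : Scheme.{u}) (hS : ∀ W : S.affineOpens, CAlg.IsNagata Γ(S, W))
    {X Y : Scheme.{u}} (p : X ⟶ S) (q : Y ⟶ S) [LocallyOfFiniteType p] [LocallyOfFiniteType q] (f : X ⟶ Y)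
    (hf : f ≫ q = p) [QuasiCompact f] :
    UniversallyClosed f ↔
      ∀ (C : Scheme.{u}) (r : C ⟶ S) [IsIntegral C] [LocallyOfFiniteType r] [QuasiCompact r],
        (∀ x : C, IsIntegrallyClosed (C.presheaf.stalk x)) →
        ∀ (c : C), IsClosed ({c} : Set C) → ringKrullDim (C.presheaf.stalk c) = 1 →
        ∀ (U : C.Opens), (U : Set C) = {c}ᶜ →
        ∀ (u : (U : Scheme.{u}) ⟶ X) (g : C ⟶ Y), g ≫ q = r → u ≫ f = U.ι ≫ g →
        ∀ (k : Spec (CommRingCat.of (FractionRing (C.presheaf.stalk c))) ⟶ (U : Scheme.{u})),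
          k ≫ U.ι = Spec.map (CommRingCat.ofHom (algebraMap (C.presheaf.stalk c)
            (FractionRing (C.presheaf.stalk c)))) ≫ C.fromSpecStalk c →
        ∃ l : Spec (C.presheaf.stalk c) ⟶ X, l ≫ f = C.fromSpecStalk c ≫ g ∧
          Spec.map (CommRingCat.ofHom (algebraMap (C.presheaf.stalk c) (FractionRing (C.presheaf.stalk c)))) ≫ l =
            k ≫ u := by
  haveI : IsLocallyNoetherian S := NagataVal.isLocallyNoetherian hS
  haveI : IsLocallyNoetherian Y := LocallyOfFiniteType.isLocallyNoetherian q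
  haveI : LocallyOfFiniteType (f ≫ q) := hf ▸ ‹LocallyOfFiniteType p›
  haveI : LocallyOfFiniteType f := locallyOfFiniteType_of_comp f q
  constructor
  · intro huc C r _ _ _ hn c _ hdim U _ u g _ hug k hk
    haveI : IsLocallyNoetherian C := LocallyOfFiniteType.isLocallyNoetherian r
    haveI := hn c
    haveI : IsDomain (C.presheaf.stalk c) := inferInstance
    haveI : ValuationRing (C.presheaf.stalk c) := NagataVal.valuationRing_of_normal_dim_one _ hdim
    have hex : ValuativeCriterion.Existence f := by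
      have h1 : @UniversallyClosed X Y f := huc
      rw [UniversallyClosed.eq_valuativeCriterion] at h1
      exact h1.1
    have hsq : CommSq (k ≫ u) (Spec.map (CommRingCat.ofHom (algebraMap (C.presheaf.stalk c) (FractionRing (C.presheaf.stalk c))))) f
        (C.fromSpecStalk c ≫ g) := ⟨by rw [Category.assoc, hug, reassoc_of% hk]⟩
    obtain ⟨⟨l⟩⟩ := hex { R := C.presheaf.stalk c, commRing := inferInstance, domain := inferInstance, valuationRing := inferInstance, K := FractionRing (C.presheaf.stalk c), i₁ := k ≫ u, i₂ := C.fromSpecStalk c ≫ g, commSq := hsq }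
    exact ⟨l.l, l.fac_right, l.fac_left⟩
  intro H
  refine (Groth.Agent.S9205.result f).2.2 fun n => ?_
  let j : AffineSpace (ULift.{u} (Fin n)) Y ⟶ Y := AffineSpace (ULift.{u} (Fin n)) Y ↘ Y
  let π : pullback f j ⟶ AffineSpace (ULift.{u} (Fin n)) Y := pullback.snd f j
  haveI : LocallyOfFiniteType π := inferInstanceAs (LocallyOfFiniteType (pullback.snd f j))
  haveI : QuasiCompact π := inferInstanceAs (QuasiCompact (pullback.snd f j))
  haveI : IsLocallyNoetherian (AffineSpace (ULift.{u} (Fin n)) Y) := LocallyOfFiniteType.isLocallyNoetherian j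
  show IsClosedMap π
  rw [AlgebraicGeometry.isClosedMap_iff_specializingMap]
  intro x b hxb
  by_contra hcon
  have hb : b ∉ π '' closure {x} := by
    rintro ⟨x', hx', rfl⟩
    exact hcon ⟨x', specializes_iff_mem_closure.2 hx', rfl⟩
  have hcons : Topology.IsLocallyConstructible (π '' closure {x}) :=
    π.isLocallyConstructible_image (by
      haveI : IsLocallyNoetherian (pullback f j) := inferInstance
      have hcl : IsRetrocompact ((closure {x})ᶜ : Set ↥(pullback f j)) := by
        intro V hV hVo
        let W' : (pullback f j).Opens := ⟨(closure {x})ᶜ, isClosed_closure.isOpen_compl⟩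
        have := QuasiCompact.isCompact_preimage (f := W'.ι) V hVo hV
        have h2 := this.image W'.ι.continuous
        rw [Set.image_preimage_eq_inter_range, Scheme.Opens.range_ι, Set.inter_comm] at h2
        exact h2
      intro z
      obtain ⟨V, hV1, hV2, hV3⟩ := hcl.isLocallyConstructible isClosed_closure.isOpen_compl z
      exact ⟨V, hV1, hV2, by simpa using hV3.compl⟩)
  obtain ⟨Oη, hOη, hηO, hOη'⟩ := NagataVal.exists_open_of_constructible hcons (π x)
  obtain ⟨Ob, hOb, hbO, hOb'⟩ := NagataVal.exists_open_of_constructible hcons b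
  obtain ⟨B, _, _, γ, m, _, g0, hm0, hdim, hg0, hγft, hfin, hout, hin⟩ :=
    NagataVal.exists_base hS (j ≫ q) (π x) b hxb ⟨Oη, hOη⟩ ⟨Ob, hOb⟩ hηO hbO (π '' closure {x})
      (fun w hw hwO => (hOη' w hw hwO).1 ⟨x, subset_closure rfl, rfl⟩)
      (fun w hw hwO hwE => hb ((hOb' w hw hwO).2 hwE))
  let pt : Spec (CommRingCat.of (FractionRing B)) ⟶ AffineSpace (ULift.{u} (Fin n)) Y :=
    Spec.map (CommRingCat.ofHom (algebraMap B (FractionRing B))) ≫ γ
  obtain ⟨z0, hz0, hz0'⟩ : pt default ∈ π '' closure {x} := by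
    refine hin _ fun e => hm0 ?_
    rw [← e]
    show Ideal.comap (algebraMap B (FractionRing B)) _ = ⊥
    rw [(IsSimpleOrder.eq_bot_or_eq_top _).resolve_right (PrimeSpectrum.isPrime _).ne_top,
      Ideal.comap_bot_of_injective _ (IsFractionRing.injective B (FractionRing B))]
  obtain ⟨L, _, _, _, lam, hlam, hlamZ⟩ := NagataVal.exists_finite_point π _ isClosed_closure (FractionRing B) pt z0 hz0 default hz0'
  letI : Algebra B L := ((algebraMap (FractionRing B) L).comp (algebraMap B (FractionRing B))).toAlgebra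
  haveI : IsScalarTower B (FractionRing B) L := IsScalarTower.of_algebraMap_eq' rfl
  obtain ⟨N, _, _, ψ, M, hM, _, _, hNn, hψ, hψL, hMc, hMdim, hM0, hMmin, hover⟩ :=
    NagataCurve.stage2 m hm0 hdim g0 hg0 (FractionRing B) L (fun Bg => hfin Bg (FractionRing B) L)
  haveI := hNn
  haveI := hM
  haveI : IsNoetherianRing N := by
    letI := ψ.toAlgebra
    haveI : Algebra.FiniteType B N := hψ
    exact Algebra.FiniteType.isNoetherianRing B N
  obtain ⟨s, t, θ, hsM, htM, hs0, hMuniq, hθ, hθgen⟩ :=
    NagataVal.spread π L (Spec.map (CommRingCat.ofHom ψ) ≫ γ) lam (by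
      rw [hlam]
      show _ ≫ (_ ≫ γ) = _ ≫ (_ ≫ γ)
      rw [← Spec.map_comp_assoc, ← Spec.map_comp_assoc]
      congr 2
      exact CommRingCat.hom_ext hψL.symm) M hM0 hMmin
  let N2 := Localization.Away t
  have ht0 : t ≠ 0 := fun e => htM (e ▸ M.zero_mem)
  haveI : IsDomain N2 := IsLocalization.isDomain_localization (powers_le_nonZeroDivisors_of_noZeroDivisors ht0)
  haveI : IsIntegrallyClosed N2 := isIntegrallyClosed_of_isLocalization N2 (Submonoid.powers t) (powers_le_nonZeroDivisors_of_noZeroDivisors ht0)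
  haveI : IsNoetherianRing N2 := IsLocalization.isNoetherianRing (Submonoid.powers t) N2 inferInstance
  have hdisj : Disjoint (Submonoid.powers t : Set N) (M : Set N) := Set.disjoint_left.2 fun y hy hyM => by
    obtain ⟨i, rfl⟩ := hy
    exact htM (hM.isPrime.mem_of_pow_mem i hyM)
  let M2 : Ideal N2 := M.map (algebraMap N N2)
  haveI hM2p : M2.IsPrime := IsLocalization.isPrime_of_isPrime_disjoint (Submonoid.powers t) N2 M hM.isPrime hdisj
  have hM2c : M2.comap (algebraMap N N2) = M := IsLocalization.under_map_of_isPrime_disjoint (Submonoid.powers t) N2 hM.isPrime hdisj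
  have hM2eq : ∀ Q : Ideal N2, Q.IsPrime → s ∈ Q.comap (algebraMap N N2) → Q = M2 := fun Q hQ hsQ => by
    rw [← IsLocalization.map_under (Submonoid.powers t) N2 Q, Ideal.under_def,
      hMuniq _ (Ideal.IsPrime.comap _) hsQ fun htQ => hQ.ne_top (Ideal.eq_top_of_isUnit_mem _ htQ (IsLocalization.Away.algebraMap_isUnit t))]
  haveI hM2 : M2.IsMaximal := by
    obtain ⟨J, hJ, hle⟩ := Ideal.exists_le_maximal M2 hM2p.ne_top
    haveI := hJ
    rwa [← hM2eq J hJ.isPrime (hle (Ideal.mem_map_of_mem _ hsM))]
  have hM2dim : ringKrullDim (Localization.AtPrime M2) = 1 := by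
    rw [IsLocalization.AtPrime.ringKrullDim_eq_height M2, IsLocalization.height_map_of_disjoint (Submonoid.powers t) M hdisj,
      ← IsLocalization.AtPrime.ringKrullDim_eq_height M (Localization.AtPrime M)]
    exact hMdim
  let G2 : Spec (CommRingCat.of N2) ⟶ AffineSpace (ULift.{u} (Fin n)) Y :=
    Spec.map (CommRingCat.ofHom (algebraMap N N2)) ≫ Spec.map (CommRingCat.ofHom ψ) ≫ γ
  let c : Spec (CommRingCat.of N2) := (⟨M2, hM2p⟩ : PrimeSpectrum N2)
  have hccl : IsClosed ({c} : Set (Spec (CommRingCat.of N2))) :=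
    (PrimeSpectrum.isClosed_singleton_iff_isMaximal (⟨M2, hM2p⟩ : PrimeSpectrum N2)).2 hM2
  let U : (Spec (CommRingCat.of N2)).Opens := ⟨{c}ᶜ, hccl.isOpen_compl⟩
  haveI : IsOpenImmersion (Spec.map (CommRingCat.ofHom (algebraMap N (Localization.Away s)))) := inferInstance
  let υ : (U : Scheme.{u}) ⟶ Spec (CommRingCat.of (Localization.Away s)) :=
    IsOpenImmersion.lift (Spec.map (CommRingCat.ofHom (algebraMap N (Localization.Away s))))
      (U.ι ≫ Spec.map (CommRingCat.ofHom (algebraMap N N2))) (by
        rintro _ ⟨y, rfl⟩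
        show _ ∈ Set.range (PrimeSpectrum.comap (algebraMap N (Localization.Away s)))
        rw [PrimeSpectrum.localization_away_comap_range (Localization.Away s) s, SetLike.mem_coe, PrimeSpectrum.mem_basicOpen]
        intro hsy
        have h1 : U.ι y ∈ U := y.2
        exact h1 (PrimeSpectrum.ext (hM2eq _ (PrimeSpectrum.isPrime (U.ι y : PrimeSpectrum N2)) hsy)))
  have hυ : υ ≫ Spec.map (CommRingCat.ofHom (algebraMap N (Localization.Away s))) = U.ι ≫ Spec.map (CommRingCat.ofHom (algebraMap N N2)) :=
    IsOpenImmersion.lift_fac _ _ _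
  have huπ : (υ ≫ θ) ≫ π = U.ι ≫ G2 := by rw [Category.assoc, hθ, reassoc_of% hυ]
  have hc : c ≠ genericPoint (Spec (CommRingCat.of N2)) := fun e => hM0 (by
    have h1 : M2 = ⊥ := (congrArg (fun z : PrimeSpectrum N2 => z.asIdeal) e).trans NagataVal.genericPoint_Spec
    rw [← hM2c, h1, Ideal.comap_bot_of_injective _ (IsLocalization.injective N2 (powers_le_nonZeroDivisors_of_noZeroDivisors ht0))])
  obtain ⟨k, hk⟩ := NagataVal.exists_k c U rfl hc
  haveI : NoetherianSpace (Spec (CommRingCat.of N2)) := inferInstanceAs (NoetherianSpace (PrimeSpectrum N2))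
  haveI : LocallyOfFiniteType (Spec.map (CommRingCat.ofHom ψ)) := (HasRingHomProperty.Spec_iff (P := @LocallyOfFiniteType)).2 hψ
  haveI : LocallyOfFiniteType ((G2 ≫ j) ≫ q) := by
    haveI : LocallyOfFiniteType (Spec.map (CommRingCat.ofHom (algebraMap N N2))) :=
      (HasRingHomProperty.Spec_iff (P := @LocallyOfFiniteType)).2
        (RingHom.finiteType_algebraMap.2 (IsLocalization.finiteType_of_monoid_fg (Submonoid.powers t) N2))
    simp only [G2, Category.assoc]
    infer_instance
  haveI : QuasiCompact ((G2 ≫ j) ≫ q) := ⟨fun s _ _ => NoetherianSpace.isCompact _⟩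
  obtain ⟨l, hl, hlk⟩ := H (Spec (CommRingCat.of N2)) ((G2 ≫ j) ≫ q) (fun y => NagataVal.stalk_normal y) c hccl
    ((NagataVal.stalk_dim c M2 rfl).trans hM2dim) U rfl ((υ ≫ θ) ≫ pullback.fst f j) (G2 ≫ j) rfl
    (by rw [Category.assoc, pullback.condition, ← Category.assoc, huπ, Category.assoc]) k hk
  let l2 : Spec ((Spec (CommRingCat.of N2)).presheaf.stalk c) ⟶ pullback f j :=
    pullback.lift l ((Spec (CommRingCat.of N2)).fromSpecStalk c ≫ G2) (by rw [hl]; simp only [G2, Category.assoc])
  let ιK := Spec.map (CommRingCat.ofHom (algebraMap ((Spec (CommRingCat.of N2)).presheaf.stalk c)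
    (FractionRing ((Spec (CommRingCat.of N2)).presheaf.stalk c))))
  have hl2 : ιK ≫ l2 = k ≫ υ ≫ θ := by
    apply pullback.hom_ext
    · simp only [l2, ιK, Category.assoc, pullback.lift_fst]
      exact hlk
    · simp only [l2, ιK, Category.assoc, pullback.lift_snd]
      rw [← reassoc_of% hk, ← huπ]
      simp only [Category.assoc]
      rfl
  let p : Spec (CommRingCat.of (FractionRing ((Spec (CommRingCat.of N2)).presheaf.stalk c))) := default
  have hq : (υ (k p) : PrimeSpectrum (Localization.Away s)).asIdeal.comap (algebraMap N (Localization.Away s)) = ⊥ := by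
    have h1 := congrArg (fun h : (U : Scheme.{u}) ⟶ Spec (CommRingCat.of N) => h (k p)) hυ
    have h2 := congrArg (fun h : Spec (CommRingCat.of (FractionRing ((Spec (CommRingCat.of N2)).presheaf.stalk c))) ⟶ Spec (CommRingCat.of N2) => h p) hk
    simp only [Scheme.Hom.comp_apply] at h1 h2
    rw [NagataVal.k_generic] at h2
    refine (congrArg (fun z : PrimeSpectrum N => z.asIdeal) h1).trans ?_
    show Ideal.comap (algebraMap N N2) (U.ι (k p) : PrimeSpectrum N2).asIdeal = ⊥
    rw [h2, NagataVal.genericPoint_Spec,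
      Ideal.comap_bot_of_injective _ (IsLocalization.injective N2 (powers_le_nonZeroDivisors_of_noZeroDivisors ht0))]
  obtain ⟨l0, hl0⟩ := hθgen _ hq
  have hgenZ : l2 (ιK p) ∈ closure {x} := by
    have h3 := congrArg (fun h : Spec (CommRingCat.of (FractionRing ((Spec (CommRingCat.of N2)).presheaf.stalk c))) ⟶ pullback f j => h p) hl2
    simp only [Scheme.Hom.comp_apply] at h3
    rw [h3, hl0]
    exact hlamZ l0
  have hclZ : l2 (IsLocalRing.closedPoint _) ∈ closure {x} :=
    ((IsLocalRing.specializes_closedPoint (ιK p : PrimeSpectrum ((Spec (CommRingCat.of N2)).presheaf.stalk c))).map l2.continuous).mem_closed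
      isClosed_closure hgenZ
  apply hout ((Spec.map (CommRingCat.ofHom ψ)) ((Spec.map (CommRingCat.ofHom (algebraMap N N2))) c))
    ((congrArg (Ideal.comap ψ) hM2c).trans hMc)
  refine ⟨_, hclZ, ?_⟩
  rw [← Scheme.Hom.comp_apply, pullback.lift_snd, Scheme.Hom.comp_apply]
  exact congrArg G2 Scheme.fromSpecStalk_closedPoint

end Groth.Agent.S7449
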