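import Groth.Statements.S7450
import Groth.Agent.Lib.H6.NagataVal

set_option autoImplicit false
set_option backward.isDefEq.respectTransparency.types false
set_option maxHeartbeats 1000000
open CategoryTheory.Limits TopologicalSpace Groth.Agent.H6
set_option linter.all false
universe u
open CategoryTheory AlgebraicGeometry
open Lim

namespace Groth.Agent.S7450

/-- Assume `S` is a Nagata scheme and `f : X → Y` is a morphism over `S` between schemes `X`, `Y` that
are locally of finite type over `S`. Then `f` is separated exactly when the following holds. Take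
any normal integral scheme `C` of finite type over `S` and a closed point `c ∈ C` such that the
local ring `A = O_{C,c}` is one-dimensional, put `U = C ∖ {c}`, and consider any commutative diagram
of `S`-schemes formed by `U → X` and `C → Y`. Then at most one morphism `Spec A → X` makes the
square with `Spec K → X` and `Spec A → Y` commute. -/
theorem result (S : Scheme.{u}) (hS : ∀ W : S.affineOpens, CAlg.IsNagata Γ(S, W))
    {X Y : Scheme.{u}} (p : X ⟶ S) (q : Y ⟶ S) [LocallyOfFiniteType p] [LocallyOfFiniteType q] (f : X ⟶ Y)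
    (hf : f ≫ q = p) :
    IsSeparated f ↔
      ∀ (C : Scheme.{u}) (r : C ⟶ S) [IsIntegral C] [LocallyOfFiniteType r] [QuasiCompact r],
        (∀ x : C, IsIntegrallyClosed (C.presheaf.stalk x)) →
        ∀ (c : C), IsClosed ({c} : Set C) → ringKrullDim (C.presheaf.stalk c) = 1 →
        ∀ (U : C.Opens), (U : Set C) = {c}ᶜ →
        ∀ (u : (U : Scheme.{u}) ⟶ X) (g : C ⟶ Y), g ≫ q = r → u ≫ f = U.ι ≫ g →
        ∀ (k : Spec (CommRingCat.of (FractionRing (C.presheaf.stalk c))) ⟶ (U : Scheme.{u})),
          k ≫ U.ι = Spec.map (CommRingCat.ofHom (algebraMap (C.presheaf.stalk c)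
            (FractionRing (C.presheaf.stalk c)))) ≫ C.fromSpecStalk c →
        ∀ l l' : Spec (C.presheaf.stalk c) ⟶ X,
          l ≫ f = C.fromSpecStalk c ≫ g →
          Spec.map (CommRingCat.ofHom (algebraMap (C.presheaf.stalk c) (FractionRing (C.presheaf.stalk c)))) ≫ l =
            k ≫ u →
          l' ≫ f = C.fromSpecStalk c ≫ g →
          Spec.map (CommRingCat.ofHom (algebraMap (C.presheaf.stalk c) (FractionRing (C.presheaf.stalk c)))) ≫ l' =
            k ≫ u → l = l' := by
  haveI : IsLocallyNoetherian S := NagataVal.isLocallyNoetherian hS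
  haveI : IsLocallyNoetherian X := LocallyOfFiniteType.isLocallyNoetherian p
  haveI : LocallyOfFiniteType (f ≫ q) := hf ▸ ‹LocallyOfFiniteType p›
  haveI : LocallyOfFiniteType f := locallyOfFiniteType_of_comp f q
  constructor
  · intro hsep C r _ _ _ _ c _ _ U _ u g _ _ k _ l l' hl hlk hl' hlk'
    haveI : IsDomain (C.presheaf.stalk c) := inferInstance
    haveI : IsDominant (Spec.map (CommRingCat.ofHom (algebraMap (C.presheaf.stalk c) (FractionRing (C.presheaf.stalk c))))) :=
      ⟨(PrimeSpectrum.denseRange_comap_iff_ker_le_nilRadical _).2 (by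
        rw [CommRingCat.hom_ofHom, (RingHom.injective_iff_ker_eq_bot _).1 (IsFractionRing.injective (C.presheaf.stalk c) (FractionRing (C.presheaf.stalk c)))]
        exact bot_le)⟩
    exact ext_of_isDominant_of_isSeparated f (hl.trans hl'.symm) _ (hlk.trans hlk'.symm)
  intro H
  haveI : IsLocallyNoetherian (pullback f f) := inferInstance
  rw [isSeparated_iff]
  refine IsClosedImmersion.of_isPreimmersion _ ?_
  haveI : QuasiCompact (pullback.diagonal f) := inferInstance
  suffices hsp : SpecializingMap (pullback.diagonal f) from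
    ((AlgebraicGeometry.isClosedMap_iff_specializingMap _).2 hsp).isClosed_range
  by_contra hns
  obtain ⟨x, b, hηb, hb⟩ : ∃ (x : X) (b : ↥(pullback f f)), pullback.diagonal f x ⤳ b ∧ b ∉ Set.range (pullback.diagonal f) := by
    by_contra hcon
    apply hns
    intro x y hxy
    obtain ⟨x', hx'⟩ : y ∈ Set.range (pullback.diagonal f) := by_contra fun hy => hcon ⟨x, y, hxy, hy⟩
    exact ⟨x', (pullback.diagonal f).isEmbedding.isInducing.specializes_iff.1 (by rw [hx']; exact hxy), hx'⟩
  obtain ⟨O, F, hO, hF, hOF⟩ := IsImmersion.isLocallyClosed_range (f := pullback.diagonal f)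
  have hxE : pullback.diagonal f x ∈ O ∩ F := hOF ▸ Set.mem_range_self x
  haveI : LocallyOfFiniteType (pullback.fst f f ≫ p) := inferInstance
  obtain ⟨B, _, _, γ, m, _, g0, hm0, hdim, hg0, hγft, hfin, hout, hin⟩ :=
    NagataVal.exists_base hS (pullback.fst f f ≫ p) (pullback.diagonal f x) b hηb ⟨O, hO⟩ ⊤ hxE.1 trivial
      (Set.range (pullback.diagonal f))
      (fun w hw hwO => hOF.symm ▸ ⟨hwO, hw.mem_closed hF hxE.2⟩)
      (fun w hw _ hwE => hb (hOF.symm ▸ ⟨hw.mem_open hO (hOF ▸ hwE).1, hηb.mem_closed hF hxE.2⟩))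
  obtain ⟨N, _, _, ψ, M, hM, _, _, hNn, hψ, -, hMc, hMdim, hM0, -, hover⟩ :=
    NagataCurve.stage2 m hm0 hdim g0 hg0 (FractionRing B) (FractionRing B)
      (fun Bg => hfin Bg (FractionRing B) (FractionRing B))
  haveI := hNn
  haveI : IsNoetherianRing N := by
    letI := ψ.toAlgebra
    haveI : Algebra.FiniteType B N := hψ
    exact Algebra.FiniteType.isNoetherianRing B N
  let ψS : Spec (CommRingCat.of N) ⟶ Spec B := Spec.map (CommRingCat.ofHom ψ)
  haveI : LocallyOfFiniteType ψS := (HasRingHomProperty.Spec_iff (P := @LocallyOfFiniteType)).2 hψ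
  let c : Spec (CommRingCat.of N) := (⟨M, hM.isPrime⟩ : PrimeSpectrum N)
  have hccl : IsClosed ({c} : Set (Spec (CommRingCat.of N))) :=
    (PrimeSpectrum.isClosed_singleton_iff_isMaximal (⟨M, hM.isPrime⟩ : PrimeSpectrum N)).2 hM
  let U : (Spec (CommRingCat.of N)).Opens := ⟨{c}ᶜ, hccl.isOpen_compl⟩
  haveI : IsIntegral (Spec (CommRingCat.of N)) := inferInstance
  haveI : IsReduced (U : Scheme.{u}) := inferInstance
  obtain ⟨u, hu⟩ := NagataVal.exists_factor (pullback.diagonal f) (U.ι ≫ ψS ≫ γ) (fun z => by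
    rw [Scheme.Hom.comp_apply, Scheme.Hom.comp_apply]
    refine hin (ψS (U.ι z)) fun e => ?_
    have h1 : U.ι z ∈ U := z.2
    exact h1 (PrimeSpectrum.ext (hover _ (PrimeSpectrum.isPrime (U.ι z : PrimeSpectrum N)) e)))
  have hc : c ≠ genericPoint (Spec (CommRingCat.of N)) := fun e => hM0 (le_bot_iff.1 (by
    have h1 : c ⤳ (⟨⊥, Ideal.isPrime_bot⟩ : PrimeSpectrum N) := e ▸ genericPoint_specializes _
    exact (PrimeSpectrum.le_iff_specializes (⟨M, hM.isPrime⟩ : PrimeSpectrum N) ⟨⊥, Ideal.isPrime_bot⟩).2 h1))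
  obtain ⟨k, hk⟩ := NagataVal.exists_k c U rfl hc
  haveI : NoetherianSpace (Spec (CommRingCat.of N)) := inferInstanceAs (NoetherianSpace (PrimeSpectrum N))
  haveI : LocallyOfFiniteType (((ψS ≫ γ) ≫ pullback.fst f f ≫ f) ≫ q) := by
    simp only [Category.assoc, hf]
    infer_instance
  haveI : QuasiCompact (((ψS ≫ γ) ≫ pullback.fst f f ≫ f) ≫ q) := ⟨fun s _ _ => NoetherianSpace.isCompact _⟩
  have heq := H (Spec (CommRingCat.of N)) (((ψS ≫ γ) ≫ pullback.fst f f ≫ f) ≫ q) (fun y => NagataVal.stalk_normal y) c hccl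
    ((NagataVal.stalk_dim c M rfl).trans hMdim) U rfl u ((ψS ≫ γ) ≫ pullback.fst f f ≫ f) rfl
    (by have h1 := congrArg (fun t => t ≫ pullback.fst f f ≫ f) hu; simpa only [Category.assoc, pullback.diagonal_fst_assoc] using h1) k hk
    ((Spec (CommRingCat.of N)).fromSpecStalk c ≫ (ψS ≫ γ) ≫ pullback.fst f f)
    ((Spec (CommRingCat.of N)).fromSpecStalk c ≫ (ψS ≫ γ) ≫ pullback.snd f f)
    (by simp only [Category.assoc])
    (by have h1 := congrArg (fun t => k ≫ t ≫ pullback.fst f f) hu; simpa only [Category.assoc, pullback.diagonal_fst, Category.comp_id, reassoc_of% hk] using h1.symm)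
    (by simp only [Category.assoc, pullback.condition])
    (by have h1 := congrArg (fun t => k ≫ t ≫ pullback.snd f f) hu; simpa only [Category.assoc, pullback.diagonal_snd, Category.comp_id, reassoc_of% hk] using h1.symm)
  have hfac : ((Spec (CommRingCat.of N)).fromSpecStalk c ≫ (ψS ≫ γ) ≫ pullback.fst f f) ≫ pullback.diagonal f =
      (Spec (CommRingCat.of N)).fromSpecStalk c ≫ ψS ≫ γ := by
    apply pullback.hom_ext
    · simp only [Category.assoc, pullback.diagonal_fst, Category.comp_id]
    · simp only [Category.assoc, pullback.diagonal_snd, Category.comp_id]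
      simpa only [Category.assoc] using heq
  apply hout (ψS c) hMc
  refine ⟨((Spec (CommRingCat.of N)).fromSpecStalk c ≫ (ψS ≫ γ) ≫ pullback.fst f f) (IsLocalRing.closedPoint _), ?_⟩
  rw [← Scheme.Hom.comp_apply, hfac, Scheme.Hom.comp_apply, Scheme.Hom.comp_apply]
  exact congrArg (fun z => γ (ψS z)) Scheme.fromSpecStalk_closedPoint

end Groth.Agent.S7450
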