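import Groth.Statements.S7459
import Mathlib
import Groth.Agent.Lib.H8Shear

set_option autoImplicit false
universe u
open CategoryTheory MonoidalCategory CartesianMonoidalCategory MonObj GrpObj AlgebraicGeometry
open GrpSch

namespace Groth.Agent.S7459

open CategoryTheory MonoidalCategory CartesianMonoidalCategory AlgebraicGeometry MonObj Limits in
theorem isOpen_range_translate {K : Type u} [Field K] {G T W : Over (Spec (CommRingCat.of K))}
    [GrpObj G] (f : T ⟶ G) (w : W ⟶ G) (hw : IsOpen (Set.range w.left)) :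
    IsOpen (Set.range ((f ⊗ₘ w) ≫ μ[G]).left) := by
  let σ := Groth.Agent.H8Shear.shearL f
  have : IsIso σ.hom.left := ((Over.forget _).mapIso σ).isIso_hom
  have e : (f ⊗ₘ w) ≫ μ[G] = (T ◁ w) ≫ σ.hom ≫ snd T G := by
    rw [tensorHom_def', Category.assoc, Groth.Agent.H8Shear.whiskerRight_mul]
  have hr : IsOpen (Set.range (T ◁ w).left) := by
    have e2 : (T ◁ w) = (β_ T W).hom ≫ (w ▷ T) ≫ (β_ G T).hom := by
      ext <;> simp
    have : IsIso (β_ T W).hom.left := ((Over.forget _).mapIso (β_ T W)).isIso_hom
    have : IsIso (β_ G T).hom.left := ((Over.forget _).mapIso (β_ G T)).isIso_hom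
    rw [e2, Over.comp_left, Over.comp_left]
    simp only [Scheme.Hom.comp_base, TopCat.coe_comp, Set.range_comp]
    rw [show Set.range (β_ T W).hom.left = Set.univ from
      Set.range_eq_univ.mpr (β_ T W).hom.left.homeomorph.surjective, Set.image_univ]
    rw [Set.range_comp]
    refine (β_ G T).hom.left.homeomorph.isOpenMap _ ?_
    rw [Groth.Agent.H8Shear.range_whiskerRight]
    exact hw.preimage (fst G T).left.continuous
  rw [e, Over.comp_left, Over.comp_left]
  simp only [Scheme.Hom.comp_base, TopCat.coe_comp, Set.range_comp]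
  rw [Set.image_comp]
  exact Groth.Agent.H8Shear.isOpenMap_snd T G _ (σ.hom.left.homeomorph.isOpenMap _ hr)

/-- Let G be a group scheme over a field k, W an open subscheme of G and f : T -> G a morphism of
schemes (T becomes a k-scheme through f). Then the image of the composition T x_k W -> G x_k G -> G,
the second map being the multiplication, is open. -/
theorem result (K : Type u) [Field K] (G : Over (Spec (CommRingCat.of K))) [GrpObj G] (W : G.left.Opens) (T : Scheme.{u}) (f : T ⟶ G.left) : IsOpen (Set.range ⇑(((Over.homMk f rfl : Over.mk (f ≫ G.hom) ⟶ G) ⊗ₘ (Over.homMk W.ι rfl : Over.mk (W.ι ≫ G.hom) ⟶ G)) ≫ μ[G]).left) := by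
  exact isOpen_range_translate (Over.homMk f rfl : Over.mk (f ≫ G.hom) ⟶ G)
    (Over.homMk W.ι rfl : Over.mk (W.ι ≫ G.hom) ⟶ G)
    (by show IsOpen (Set.range W.ι); rw [Scheme.Opens.range_ι]; exact W.isOpen)

end Groth.Agent.S7459
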