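import Groth.Statements.S7461
import Groth.Agent.Lib.H9GrpdMaxOpen
import Mathlib

set_option autoImplicit false
set_option backward.isDefEq.respectTransparency.types false
universe u
open CategoryTheory CategoryTheory.Limits AlgebraicGeometry
open Grpd

namespace Groth.Agent.S7461

/-- Let (U, R, s, t, c) be a groupoid scheme over S with s and t finite locally free. Then U is a
disjoint union of R-invariant open subschemes U_r, r = 1, 2, 3, ..., such that s and t restricted
over U_r are finite locally free of rank r. Here the decomposition is indexed by all natural numbers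
with U_0 empty, R-invariance of U_r means s^{-1}(U_r) = t^{-1}(U_r), and 'finite locally free of
rank r' means finite, flat, locally of finite presentation with rank function constant equal to r.
(A groupoid scheme carries U, R, s, t, c, e, i over S with the groupoid axioms on T-points; c is
defined on the fibre product of s and t and sends a pair (a, b) with s(a) = t(b) to a composed with
b.) -/
theorem result (S : Scheme.{u}) (G : Grpd.GroupoidScheme S) [IsFinite G.s] [Flat G.s] [LocallyOfFinitePresentation G.s] [IsFinite G.t] [Flat G.t] [LocallyOfFinitePresentation G.t] : ∃ V : ℕ → G.U.Opens, V 0 = ⊥ ∧ (∀ r r', r ≠ r' → Disjoint (V r) (V r')) ∧ (⨆ r, V r) = ⊤ ∧ ∀ r, G.s ⁻¹ᵁ V r = G.t ⁻¹ᵁ V r ∧ Mor2.IsFinLocFreeOfDeg r (G.s ∣_ V r) ∧ Mor2.IsFinLocFreeOfDeg r (G.t ∣_ V r) := by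
  obtain ⟨Z, a', b', q, Ha, Hb⟩ := Groth.Agent.H9GrpdMaxOpen.s_twoPullbacks G
  have hinv : ∀ r : G.R, G.s.finrank (G.s r) = G.s.finrank (G.t r) := fun r =>
    (Scheme.Hom.finrank_of_isPullback a' q G.s G.s Ha r).symm.trans (Scheme.Hom.finrank_of_isPullback b' q G.s G.t Hb r)
  have hii : G.i ≫ G.i = 𝟙 _ := by
    have hid : ∀ h, Groth.Agent.H9Grpd.mul G G.i (𝟙 G.R) h = G.s ≫ G.e := fun h => by
      have := G.i_comp (𝟙 G.R)
      simp only [Category.id_comp] at this
      exact this
    have e1 : (G.i ≫ G.i) ≫ G.s = G.i ≫ G.t := by rw [Category.assoc, G.i_s]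
    have e2 : G.i ≫ G.s = 𝟙 G.R ≫ G.t := by rw [G.i_s, Category.id_comp]
    have a1 : G.i ≫ G.i = Groth.Agent.H9Grpd.mul G (G.i ≫ G.i) (G.s ≫ G.e) (by simp [G.i_s, G.i_t, G.e_t]) := by
      refine (G.comp_e (G.i ≫ G.i)).symm.trans (Groth.Agent.H9Grpd.mul_congr G rfl ?_ _ _)
      rw [Category.assoc, reassoc_of% G.i_s, reassoc_of% G.i_t]
    refine a1.trans ((Groth.Agent.H9Grpd.mul_congr G rfl (hid e2).symm _ (by rw [Groth.Agent.H9GrpdCalc.mul_t]; exact e1)).trans ?_)
    refine (G.assoc (G.i ≫ G.i) G.i (𝟙 G.R) e1 e2).symm.trans ?_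
    refine (Groth.Agent.H9Grpd.mul_congr G (G.i_comp G.i) rfl _ ?_).trans ((Groth.Agent.H9Grpd.mul_congr G ?_ rfl _ ?_).trans (G.e_comp (𝟙 G.R)))
    · simp [G.i_s, G.e_s]
    · rw [Category.id_comp, reassoc_of% G.i_s]
    · simp [G.e_s]
  haveI : IsIso G.i := ⟨G.i, hii, hii⟩
  have hts : G.t.finrank = G.s.finrank := by rw [← G.i_s]; exact Scheme.Hom.finrank_comp_left_of_isIso _ _
  have hpos : ∀ x : G.U, 1 ≤ G.s.finrank x := by
    haveI : Surjective G.s := ⟨fun x => ⟨G.e x, by rw [← Scheme.Hom.comp_apply, G.e_s]; rfl⟩⟩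
    exact fun x => (Scheme.Hom.one_le_finrank_iff_surjective G.s).2 inferInstance x
  let V : ℕ → G.U.Opens := fun n => ⟨{x | G.s.finrank x = n}, (Scheme.Hom.isLocallyConstant_finrank G.s).isOpen_fiber n⟩
  have hdeg : ∀ (f : G.R ⟶ G.U) [IsFinite f] [Flat f] [LocallyOfFinitePresentation f], f.finrank = G.s.finrank → ∀ n,
      Mor2.IsFinLocFreeOfDeg n (f ∣_ V n) := fun f _ _ _ hf n => by
    have h := (isPullback_morphismRestrict f (V n)).flip
    refine ⟨⟨MorphismProperty.of_isPullback h ‹IsFinite f›, MorphismProperty.of_isPullback h ‹Flat f›,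
      MorphismProperty.of_isPullback h ‹LocallyOfFinitePresentation f›⟩, fun y => ?_⟩
    rw [Scheme.Hom.finrank_of_isPullback _ _ _ _ h y, hf]
    exact y.2
  refine ⟨V, ?_, ?_, ?_, fun n => ⟨?_, hdeg G.s rfl n, hdeg G.t hts n⟩⟩
  · ext x
    simp only [V, TopologicalSpace.Opens.coe_bot, Set.mem_empty_iff_false, iff_false]
    exact fun (h : G.s.finrank x = 0) => absurd (hpos x) (by omega)
  · intro m n hmn
    rw [disjoint_iff]
    ext x
    simp only [TopologicalSpace.Opens.coe_inf, TopologicalSpace.Opens.coe_bot, Set.mem_inter_iff, Set.mem_empty_iff_false, iff_false]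
    exact fun h => hmn (h.1.symm.trans h.2)
  · exact top_le_iff.1 fun x _ => TopologicalSpace.Opens.mem_iSup.2 ⟨G.s.finrank x, rfl⟩
  · ext r
    show G.s.finrank (G.s r) = n ↔ G.s.finrank (G.t r) = n
    rw [hinv r]

end Groth.Agent.S7461
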