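import Groth.Statements.S7464
import Groth.Agent.Lib.H9Grpd
import Mathlib.AlgebraicGeometry.Morphisms.QuasiFinite
import Mathlib.AlgebraicGeometry.Morphisms.Finite

set_option autoImplicit false
set_option backward.isDefEq.respectTransparency.types false
universe u
open CategoryTheory CategoryTheory.Limits AlgebraicGeometry
open Grpd

namespace Groth.Agent.S7464

/-- Let (U, R, s, t, c) be a groupoid scheme over S with s and t finite, and let u, u' be distinct
points of U in the same orbit, say u = s(r) and u' = t(r). Then u' does not lie in the closure of u.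
(The published statement calls u, u' points of R; this row takes them to be points of U, as the
orbit condition and the proof require.) (A groupoid scheme carries U, R, s, t, c, e, i over S with
the groupoid axioms on T-points; c is defined on the fibre product of s and t and sends a pair (a,
b) with s(a) = t(b) to a composed with b.) -/
theorem result (S : Scheme.{u}) (G : Grpd.GroupoidScheme S) [IsFinite G.s] [IsFinite G.t] (r : G.R) (hne : G.s r ≠ G.t r) : ¬ (G.s r ⤳ G.t r) := by
  intro hsp
  have hfin : (G.t '' (⇑G.s ⁻¹' {G.s r})).Finite := (Scheme.Hom.finite_preimage_singleton G.s (G.s r)).image _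
  -- equal images of a specialization under a finite morphism
  have hinc : ∀ (f : G.R ⟶ G.U) [IsFinite f] (a b : G.R), a ⤳ b → f a = f b → a = b := by
    intro f _ a b hab hf
    have := (Scheme.Hom.isDiscrete_preimage_singleton f (f a)).to_subtype
    have h1 : (⟨a, rfl⟩ : ⇑f ⁻¹' {f a}) ⤳ ⟨b, hf.symm⟩ := (subtype_specializes_iff _ _).2 hab
    exact congrArg Subtype.val h1.eq
  -- every point of the orbit has a strict specialization in the orbit
  have step : ∀ u ∈ G.t '' (⇑G.s ⁻¹' {G.s r}), ∃ v ∈ G.t '' (⇑G.s ⁻¹' {G.s r}), u ⤳ v ∧ u ≠ v := by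
    rintro _ ⟨a, ha, rfl⟩
    have ha' : G.s a = G.s r := ha
    obtain ⟨a', haa', hsa'⟩ := G.s.isClosedMap.specializingMap (a := a) (show G.s a ⤳ G.t r by rw [ha']; exact hsp)
    obtain ⟨p, hp1, hp2⟩ := H9Grpd.exists_comp G a' r hsa'
    refine ⟨G.t a', ⟨p, hp2, hp1⟩, haa'.map G.t.continuous, fun h => hne ?_⟩
    rw [← ha', hinc G.t a a' haa' h, hsa']
  obtain ⟨m, hm⟩ := (hfin.image (closure ∘ singleton)).exists_minimal ⟨_, _, ⟨r, rfl, rfl⟩, rfl⟩
  obtain ⟨u, hu, rfl⟩ := hm.prop
  obtain ⟨v, hv, huv, hne'⟩ := step u hu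
  have h1 : (closure ∘ singleton) v ≤ (closure ∘ singleton) u := specializes_iff_closure_subset.1 huv
  have h2 : closure {u} ⊆ closure {v} := hm.le_of_le ⟨v, hv, rfl⟩ h1
  exact hne' ((huv.antisymm (specializes_iff_closure_subset.2 h2)).eq)

end Groth.Agent.S7464
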