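import Groth.Statements.S7478
import Mathlib

set_option autoImplicit false
universe w u
open HTop

namespace Groth.Agent.S7478
open CategoryTheory CategoryTheory.Limits AlgebraicGeometry

open CategoryTheory CategoryTheory.Limits AlgebraicGeometry in
/-- The base change of a standard ph covering along a morphism of affine schemes T' -> T is a standard
ph covering of T'. -/
theorem result {T T' : Scheme.{u}} [IsAffine T'] (g : T' ⟶ T) (E : PreZeroHypercover.{w} T) (hE : HTop.IsStandardPh E) : HTop.IsStandardPh (E.pullback₁ g) := by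
  obtain ⟨hT, hfin, haff, U, f, ι, hf, hs, hι, hcomp, hcov⟩ := hE
  haveI := hι; haveI := haff
  refine ⟨‹_›, hfin, fun j => by have := haff j; exact (AlgebraicGeometry.isAffine_of_isAffineHom (pullback.fst g (E.f j)) : IsAffine (pullback g (E.f j))), pullback g f, pullback.fst g f,
    fun j => pullback.map g (E.f j) g f (𝟙 _) (ι j) (𝟙 _) (by simp) (by simp; exact (hcomp j).symm), inferInstance, inferInstance,
    fun j => by have := hι j; exact MorphismProperty.pullback_map (P := @IsOpenImmersion) (inferInstance : IsOpenImmersion (𝟙 T')) this (by simp) (hcomp j).symm, fun j => (pullback.lift_fst _ _ _).trans (Category.comp_id _), fun x => ?_⟩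
  obtain ⟨j, y, hy⟩ := hcov (pullback.snd g f x)
  refine ⟨j, ?_⟩
  show x ∈ Set.range (pullback.map g (E.f j) g f (𝟙 _) (ι j) (𝟙 _) _ _)
  rw [Scheme.Pullback.range_map]
  exact ⟨by simp, ⟨y, hy⟩⟩

end Groth.Agent.S7478
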