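import Groth.Statements.S7494
import Mathlib

set_option autoImplicit false
universe u
open CategoryTheory MonoidalCategory CartesianMonoidalCategory MonObj GrpObj AlgebraicGeometry
open AlgGrp

namespace Groth.Agent.S7494

/-- Let G be a group scheme over S acting on a scheme X over S by a. The action is free, meaning that
for every scheme T over S and all T-points g of G and x of X with g · x = x one has g = 1, if and
only if the morphism G x_S X -> X x_S X, (g, x) ↦ (a(g, x), x), is a monomorphism of schemes. -/
theorem result {S : Scheme.{u}} (G X : Over S) [GrpObj G] (a : AlgGrp.Action G X) : (∀ (T : Over S) (g : T ⟶ G) (x : T ⟶ X), lift g x ≫ a.act = x → g = toUnit T ≫ η[G]) ↔ Mono (lift a.act (snd G X)).left := by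
  have act_act : ∀ {T : Over S} (g h : T ⟶ G) (x : T ⟶ X), lift (g * h) x ≫ a.act = lift g (lift h x ≫ a.act) ≫ a.act := by
    intro T g h x
    have := congrArg (fun q => lift (lift g h) x ≫ q) a.mul_act
    simpa [Hom.mul_def] using this
  have act_one : ∀ {T : Over S} (x : T ⟶ X), lift (1 : T ⟶ G) x ≫ a.act = x := by
    intro T x
    have := congrArg (fun q => lift (toUnit T) x ≫ q) a.one_act
    simpa [Hom.one_def] using this
  constructor
  · intro h
    have : Mono (lift a.act (snd G X)) := ⟨fun {T} p q hpq => by
      have h1 : p ≫ a.act = q ≫ a.act := by simpa using congrArg (· ≫ fst X X) hpq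
      have h2 : p ≫ snd G X = q ≫ snd G X := by simpa using congrArg (· ≫ snd X X) hpq
      have e : ∀ r : T ⟶ G ⊗ X, r = lift (r ≫ fst G X) (r ≫ snd G X) := fun r => by ext <;> simp
      rw [e p, e q, ← h2] at h1
      rw [e p, e q, ← h2]
      set g := p ≫ fst G X
      set g' := q ≫ fst G X
      set x := p ≫ snd G X
      have : g'⁻¹ * g = 1 := by
        have := h T (g'⁻¹ * g) x (by rw [act_act, h1, ← act_act, inv_mul_cancel, act_one])
        rw [this, Hom.one_def]
      rw [inv_mul_eq_one.mp this]⟩
    infer_instance
  · intro hm T g x hgx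
    haveI := Over.mono_of_mono_left (lift a.act (snd G X))
    have h1 : lift g x = lift (1 : T ⟶ G) x := by
      rw [← cancel_mono (lift a.act (snd G X))]
      apply CartesianMonoidalCategory.hom_ext <;> simp [act_one, hgx]
    simpa [Hom.one_def] using congrArg (· ≫ fst G X) h1

end Groth.Agent.S7494
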