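import Groth.Statements.S7505
import Groth.Agent.Lib.H9GrpdMaxOpen

set_option autoImplicit false
set_option backward.isDefEq.respectTransparency.types false
universe u
open CategoryTheory CategoryTheory.Limits AlgebraicGeometry
open Grpd

namespace Groth.Agent.S7505

/-- Let (U, R, s, t, c) be a groupoid scheme over S with stabilizer group scheme G -> U, let τ be the
étale, smooth or fppf topology (given as the corresponding precoverage K), and let P be a property
of scheme morphisms that is τ-local on the target. (The published statement also allows the syntomic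
topology; this row omits it.) Assume {s : R -> U} and {t : R -> U} are τ-coverings. If W is the
largest open subscheme of U such that the restriction G_W -> W of the stabilizer has P, then W is
R-invariant: s^{-1}(W) = t^{-1}(W). (A groupoid scheme carries U, R, s, t, c, e, i over S with the
groupoid axioms on T-points; c is defined on the fibre product of s and t and sends a pair (a, b)
with s(a) = t(b) to a composed with b.) -/
theorem result (S : Scheme.{u}) (G : Grpd.GroupoidScheme S) (K : Precoverage Scheme.{u}) (hK : K = Scheme.etalePrecoverage ∨ K = Scheme.precoverage @Smooth ∨ K = Scheme.fppfPrecoverage) (P : MorphismProperty Scheme.{u}) [P.IsLocalAtTarget K] (hs : Presieve.singleton G.s ∈ K G.U) (ht : Presieve.singleton G.t ∈ K G.U) (W : G.U.Opens) (hW : P (G.stabilizerToU ∣_ W)) (hmax : ∀ W' : G.U.Opens, P (G.stabilizerToU ∣_ W') → W' ≤ W) : G.s ⁻¹ᵁ W = G.t ⁻¹ᵁ W := by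
  obtain ⟨Z, a', b', q, Ha, Hb⟩ := Groth.Agent.H9GrpdMaxOpen.stab_twoPullbacks G
  rcases hK with rfl | rfl | rfl
  · haveI : P.IsLocalAtTarget (Scheme.precoverage (@Etale)) := ‹_›
    have h1 := Scheme.singleton_mem_precoverage_iff (P := @Etale) G.s |>.1 hs
    have h2 := Scheme.singleton_mem_precoverage_iff (P := @Etale) G.t |>.1 ht
    have ho : ∀ {X Y : Scheme.{u}} (g : X ⟶ Y), Etale g → IsOpenMap g.base := fun g h => g.isOpenMap
    exact le_antisymm (Groth.Agent.H9GrpdMaxOpen.le_max (Q := @Etale) (fun g _ => inferInstance) ho P G.stabilizerToU G.s G.t hs h2.2 a' b' q Ha Hb W hW hmax)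
      (Groth.Agent.H9GrpdMaxOpen.le_max (Q := @Etale) (fun g _ => inferInstance) ho P G.stabilizerToU G.t G.s ht h1.2 b' a' q Hb Ha W hW hmax)
  · haveI : P.IsLocalAtTarget (Scheme.precoverage (@Smooth)) := ‹_›
    have h1 := Scheme.singleton_mem_precoverage_iff (P := @Smooth) G.s |>.1 hs
    haveI : MorphismProperty.IsMultiplicative (@Smooth : MorphismProperty Scheme.{u}) := { id_mem := fun X => inferInstance, comp_mem := fun f g (hf : Smooth f) (hg : Smooth g) => inferInstance }
    have h2 := Scheme.singleton_mem_precoverage_iff (P := @Smooth) G.t |>.1 ht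
    have ho : ∀ {X Y : Scheme.{u}} (g : X ⟶ Y), Smooth g → IsOpenMap g.base := fun g h => g.isOpenMap
    exact le_antisymm (Groth.Agent.H9GrpdMaxOpen.le_max (Q := @Smooth) (fun g _ => inferInstance) ho P G.stabilizerToU G.s G.t hs h2.2 a' b' q Ha Hb W hW hmax)
      (Groth.Agent.H9GrpdMaxOpen.le_max (Q := @Smooth) (fun g _ => inferInstance) ho P G.stabilizerToU G.t G.s ht h1.2 b' a' q Hb Ha W hW hmax)
  · haveI : P.IsLocalAtTarget (Scheme.precoverage (@Flat ⊓ @LocallyOfFinitePresentation)) := ‹_›
    haveI : MorphismProperty.IsMultiplicative (@Flat ⊓ @LocallyOfFinitePresentation : MorphismProperty Scheme.{u}) := { id_mem := fun X => ⟨inferInstance, inferInstance⟩, comp_mem := fun f g hf hg => by haveI := hf.1; haveI := hf.2; haveI := hg.1; haveI := hg.2; exact ⟨inferInstance, inferInstance⟩ }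
    have h1 := Scheme.singleton_mem_precoverage_iff (P := @Flat ⊓ @LocallyOfFinitePresentation) G.s |>.1 hs
    have h2 := Scheme.singleton_mem_precoverage_iff (P := @Flat ⊓ @LocallyOfFinitePresentation) G.t |>.1 ht
    have ho : ∀ {X Y : Scheme.{u}} (g : X ⟶ Y), (@Flat ⊓ @LocallyOfFinitePresentation : MorphismProperty Scheme.{u}) g → IsOpenMap g.base := fun g h => by
      haveI := h.1; haveI := h.2; exact g.isOpenMap
    exact le_antisymm (Groth.Agent.H9GrpdMaxOpen.le_max (Q := @Flat ⊓ @LocallyOfFinitePresentation) (fun g _ => ⟨inferInstance, inferInstance⟩) ho P G.stabilizerToU G.s G.t hs h2.2 a' b' q Ha Hb W hW hmax)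
      (Groth.Agent.H9GrpdMaxOpen.le_max (Q := @Flat ⊓ @LocallyOfFinitePresentation) (fun g _ => ⟨inferInstance, inferInstance⟩) ho P G.stabilizerToU G.t G.s ht h1.2 b' a' q Hb Ha W hW hmax)

end Groth.Agent.S7505
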