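import Groth.Statements.S7519
import Mathlib
import Groth.Agent.S0346
import Groth.Agent.Lib.H8Center

set_option autoImplicit false
universe u
open CategoryTheory MonoidalCategory CartesianMonoidalCategory MonObj GrpObj AlgebraicGeometry
open GrpSch

namespace Groth.Agent.S7519

/-- Let G be a group scheme locally of finite type over a field k. Then the centre of G is
(representable by) a closed subgroup scheme of G: there are a scheme Z over k and a closed immersion
Z -> G over k such that for every scheme T over k, a T-valued point g of G factors through Z if and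
only if g is central, i.e. for every T' -> T over k and every T'-valued point g' of G, the
restriction of g to T' commutes with g' in the group G(T'). -/
theorem result (K : Type u) [Field K] (G : Over (Spec (CommRingCat.of K))) [GrpObj G] [LocallyOfFiniteType G.hom] : ∃ (Z : Over (Spec (CommRingCat.of K))) (incl : Z ⟶ G), IsClosedImmersion incl.left ∧ ∀ (T : Over (Spec (CommRingCat.of K))) (g : T ⟶ G), (∃ z : T ⟶ Z, z ≫ incl = g) ↔ ∀ (T' : Over (Spec (CommRingCat.of K))) (h : T' ⟶ T) (g' : T' ⟶ G), (h ≫ g) * g' = g' * (h ≫ g) := by
  have := Groth.Agent.S0346.grp_isSeparated G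
  let I := Groth.Agent.H8Center.centerIdealSheaf G
  let incl : Over.mk (I.subschemeι ≫ G.hom) ⟶ G := Over.homMk I.subschemeι rfl
  have hincl : IsClosedImmersion incl.left := inferInstanceAs (IsClosedImmersion I.subschemeι)
  have hc := (Groth.Agent.H8Center.central_iff incl).mp
    (Groth.Agent.H8Center.central_subschemeι G)
  refine ⟨_, incl, hincl, fun T g => ⟨?_, fun h => ?_⟩⟩
  · rintro ⟨z, rfl⟩ T' h g'
    rw [← Category.assoc]
    exact hc T' (h ≫ z) g'
  · have hk := Groth.Agent.H8Center.ideal_le_ker g.left
      ((Groth.Agent.H8Center.central_iff g).mpr h)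
    have hk' : incl.left.ker ≤ g.left.ker := le_of_eq_of_le I.ker_subschemeι hk
    refine ⟨Over.homMk (IsClosedImmersion.lift incl.left g.left hk') ?_, ?_⟩
    · show _ ≫ incl.left ≫ G.hom = _
      rw [IsClosedImmersion.lift_fac_assoc, Over.w g]
    · exact Over.OverMorphism.ext (IsClosedImmersion.lift_fac _ _ _)

end Groth.Agent.S7519
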