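import Groth.Statements.S7520
import Mathlib
import Groth.Agent.Lib.H8IdComp

set_option autoImplicit false
universe u
open CategoryTheory MonoidalCategory CartesianMonoidalCategory MonObj GrpObj AlgebraicGeometry
open GrpSch

namespace Groth.Agent.S7520

/-- Let G be a group scheme over a field k. Then there is a closed subgroup scheme G^0 of G, that is a
group scheme G^0 over k with a homomorphism G^0 -> G which is a closed immersion, such that (1) G^0
-> G is moreover flat, (2) its image is the connected component of the identity point, (3) G^0 is
geometrically irreducible over k, and (4) G^0 is quasi-compact. -/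
theorem result (K : Type u) [Field K] (G : Over (Spec (CommRingCat.of K))) [GrpObj G] : ∃ (G₀ : Over (Spec (CommRingCat.of K))) (_ : GrpObj G₀) (incl : G₀ ⟶ G) (_ : IsMonHom incl), IsClosedImmersion incl.left ∧ Flat incl.left ∧ Set.range ⇑incl.left = connectedComponent (η[G].left (IsLocalRing.closedPoint K)) ∧ GeometricallyIrreducible G₀.hom ∧ CompactSpace ↥G₀.left := by
  obtain ⟨inst, hinst⟩ := Groth.Agent.H8IdComp.exists_grpObj G
  refine ⟨Groth.Agent.H8IdComp.comp G, inst, Groth.Agent.H8IdComp.incl G, hinst,
    Groth.Agent.H8IdComp.isClosedImmersion_incl G, Groth.Agent.H8IdComp.flat_incl G, ?_,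
    Groth.Agent.H8IdComp.geometricallyIrreducible_comp G,
    Groth.Agent.H8IdComp.compactSpace_comp G⟩
  exact (Groth.Agent.H8IdComp.range_incl G).trans
    (Groth.Agent.H8IdComp.connectedComponent_eq G (Groth.Agent.H8Component.org G)).symm

end Groth.Agent.S7520
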