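import Groth.Statements.S7522
import Mathlib.AlgebraicGeometry.PullbackCarrier
import Mathlib.AlgebraicGeometry.ResidueField

set_option autoImplicit false
set_option backward.isDefEq.respectTransparency.types false
universe u
open CategoryTheory CategoryTheory.Limits AlgebraicGeometry
open Grpd

namespace Groth.Agent.S7522

/-- Let S be a scheme, U a scheme over S and j : R -> U x_S U a pre-equivalence relation, that is a
morphism such that for every scheme T the image of the T-points of R in pairs of T-points of U is an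
equivalence relation; write t = pr_0 ∘ j and s = pr_1 ∘ j. Then the relation on the points of U in
which x ∼ y when some point r of R has t(r) = x and s(r) = y is an equivalence relation. -/
theorem result {S U R : Scheme.{u}} (pU : U ⟶ S) (j : R ⟶ pullback pU pU) (hj : ∀ T : Scheme.{u}, Equivalence (fun a b : T ⟶ U => ∃ r : T ⟶ R, r ≫ j ≫ pullback.fst pU pU = a ∧ r ≫ j ≫ pullback.snd pU pU = b)) : Equivalence (fun x y : ↥U => ∃ r : R, (j ≫ pullback.fst pU pU) r = x ∧ (j ≫ pullback.snd pU pU) r = y) := by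
  refine ⟨fun x => ?_, fun {x y} h => ?_, fun {x y z} h h' => ?_⟩
  · obtain ⟨r, h1, h2⟩ := (hj U).refl (𝟙 U)
    exact ⟨r x, ((Scheme.Hom.comp_apply r _ x).symm.trans (congrArg (fun f : U ⟶ U => f x) h1)),
      ((Scheme.Hom.comp_apply r _ x).symm.trans (congrArg (fun f : U ⟶ U => f x) h2))⟩
  · obtain ⟨r, rfl, rfl⟩ := h
    obtain ⟨q, h1, h2⟩ := (hj R).symm ⟨𝟙 R, Category.id_comp _, Category.id_comp _⟩
    exact ⟨q r, (Scheme.Hom.comp_apply q _ r).symm.trans (congrArg (fun f : R ⟶ U => f r) h1),
      (Scheme.Hom.comp_apply q _ r).symm.trans (congrArg (fun f : R ⟶ U => f r) h2)⟩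
  · obtain ⟨r, rfl, hy⟩ := h
    obtain ⟨r', hy', rfl⟩ := h'
    obtain ⟨w, hw1, hw2⟩ := Scheme.Pullback.exists_preimage_pullback (f := j ≫ Limits.pullback.snd pU pU)
      (g := j ≫ Limits.pullback.fst pU pU) r r' (hy.trans hy'.symm)
    let a := Limits.pullback.fst (j ≫ Limits.pullback.snd pU pU) (j ≫ Limits.pullback.fst pU pU)
    let b := Limits.pullback.snd (j ≫ Limits.pullback.snd pU pU) (j ≫ Limits.pullback.fst pU pU)
    have hab : a ≫ j ≫ Limits.pullback.snd pU pU = b ≫ j ≫ Limits.pullback.fst pU pU := Limits.pullback.condition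
    obtain ⟨q, h1, h2⟩ := (hj _).trans (x := a ≫ j ≫ Limits.pullback.fst pU pU) ⟨a, rfl, hab⟩ ⟨b, rfl, rfl⟩
    refine ⟨q w, ?_, ?_⟩
    · rw [← hw1]
      exact (Scheme.Hom.comp_apply q _ w).symm.trans ((congrArg (fun f => f w) h1).trans (Scheme.Hom.comp_apply a _ w))
    · rw [← hw2]
      exact (Scheme.Hom.comp_apply q _ w).symm.trans ((congrArg (fun f => f w) h2).trans (Scheme.Hom.comp_apply b _ w))

end Groth.Agent.S7522
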