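import Groth.Statements.S7528
import Mathlib
import Groth.Agent.Lib.H6.SpectralCofiltered

set_option autoImplicit false
set_option backward.isDefEq.respectTransparency.types false
set_option maxHeartbeats 1000000
set_option linter.all false
universe u
open SpecSp

namespace Groth.Agent.S7528
open Groth.Agent

/-- For a spectral space X the following are equivalent: (1) X is profinite, i.e. quasi-compact,
Hausdorff and totally disconnected (quasi-compactness being automatic); (2) X is Hausdorff; (3) X is
totally disconnected; (4) every quasi-compact open subset is closed; (5) there are no nontrivial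
specializations between points; (6) every point is closed; (7) every point is the generic point of
an irreducible component; (8) the constructible topology coincides with the topology of X. -/
theorem result (X : Type u) [tX : TopologicalSpace X] [SpectralSpace X] :
    List.TFAE [
      T2Space X ∧ TotallyDisconnectedSpace X,
      T2Space X,
      TotallyDisconnectedSpace X,
      ∀ U : Set X, IsOpen U → IsCompact U → IsClosed U,
      ∀ x y : X, x ⤳ y → x = y,
      ∀ x : X, IsClosed ({x} : Set X),
      ∀ x : X, closure ({x} : Set X) ∈ irreducibleComponents X,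
      constructibleTopology X = tX] := by
    classical
    have hbasis := PrespectralSpace.isTopologicalBasis (X := X)
    have h65 : (∀ x : X, IsClosed ({x} : Set X)) ↔ ∀ x y : X, x ⤳ y → x = y := by
      constructor
      · intro h x y hxy
        exact (Set.mem_singleton_iff.1 ((h x).closure_eq ▸ specializes_iff_mem_closure.1 hxy)).symm
      · intro h x
        rw [← closure_eq_iff_isClosed]
        exact subset_antisymm (fun y hy => (h x y (specializes_iff_mem_closure.2 hy)).symm) subset_closure
    tfae_have 1 → 2 := And.left
    tfae_have 1 → 3 := And.right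
    tfae_have 2 → 6 := fun h x => isClosed_singleton
    tfae_have 3 → 6 := fun h x => by
      have := connectedComponent_eq_singleton x
      rw [← this]; exact isClosed_connectedComponent
    tfae_have 6 ↔ 5 := h65
    tfae_have 5 ↔ 7 := by
      constructor
      · intro h x
        refine ⟨isIrreducible_singleton.closure, fun T hT hxT y hy => ?_⟩
        obtain ⟨η, hη⟩ := QuasiSober.sober hT.closure isClosed_closure
        have h1 : η ⤳ x := hη.specializes (subset_closure (hxT (subset_closure rfl)))
        have h2 : y ∈ closure ({η} : Set X) := specializes_iff_mem_closure.1 (hη.specializes (subset_closure hy))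
        rwa [h η x h1] at h2
      · intro h x y hxy
        have h1 : closure ({y} : Set X) ⊆ closure {x} :=
          closure_minimal (Set.singleton_subset_iff.2 (specializes_iff_mem_closure.1 hxy)) isClosed_closure
        have h2 : y ⤳ x := specializes_iff_mem_closure.2 ((h y).2 isIrreducible_singleton.closure h1 (subset_closure rfl))
        exact (hxy.antisymm h2).eq
    tfae_have 5 → 4 := by
      intro h U hU hUc
      rw [← closure_eq_iff_isClosed]
      refine subset_antisymm (fun y hy => ?_) subset_closure
      let K : {V : Set X // IsOpen V ∧ IsCompact V ∧ y ∈ V} → Set X := fun V => U ∩ V.1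
      have hKc : ∀ V, @IsClosed X (constructibleTopology X) (K V) := fun V =>
        @IsClosed.inter _ _ _ (constructibleTopology X)
          (@IsClosed.mk _ (constructibleTopology X) _ (TopologicalSpace.isOpen_generateFrom_of_mem
            (Or.inr ⟨hU.isClosed_compl, by rwa [compl_compl]⟩)))
          (@IsClosed.mk _ (constructibleTopology X) _ (TopologicalSpace.isOpen_generateFrom_of_mem
            (Or.inr ⟨V.2.1.isClosed_compl, by rw [compl_compl]; exact V.2.2.1⟩)))
      haveI : Nonempty {V : Set X // IsOpen V ∧ IsCompact V ∧ y ∈ V} := by
        obtain ⟨V, ⟨h1, h2⟩, h3, -⟩ := hbasis.exists_subset_of_mem_open (Set.mem_univ y) isOpen_univ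
        exact ⟨⟨V, h1, h2, h3⟩⟩
      have hdir : Directed (fun s t => t ⊆ s) K := by
        rintro ⟨A, hA⟩ ⟨B, hB⟩
        exact ⟨⟨A ∩ B, hA.1.inter hB.1, QuasiSeparatedSpace.inter_isCompact _ _ hA.1 hA.2.1 hB.1 hB.2.1, hA.2.2, hB.2.2⟩,
          Set.inter_subset_inter_right U Set.inter_subset_left, Set.inter_subset_inter_right U Set.inter_subset_right⟩
      obtain ⟨z, hz⟩ := @IsCompact.nonempty_iInter_of_directed_nonempty_isCompact_isClosed X (constructibleTopology X) _ _ K hdir
        (fun V => by show (U ∩ V.1).Nonempty; rw [Set.inter_comm]; exact mem_closure_iff.1 hy V.1 V.2.1 V.2.2.2)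
        (fun V => @IsClosed.isCompact _ (constructibleTopology X) _ (H6.SpecCof.compact_t2 X).1 (hKc V)) hKc
      rw [Set.mem_iInter] at hz
      have hzy : z ⤳ y := by
        rw [specializes_iff_forall_open]
        intro s hs hys
        obtain ⟨V, ⟨h1, h2⟩, h3, h4⟩ := hbasis.exists_subset_of_mem_open hys hs
        exact h4 (hz ⟨V, h1, h2, h3⟩).2
      obtain ⟨V, ⟨h1, h2⟩, h3, -⟩ := hbasis.exists_subset_of_mem_open (Set.mem_univ y) isOpen_univ
      exact h z y hzy ▸ (hz ⟨V, h1, h2, h3⟩).1
    tfae_have 4 → 8 := by
      intro h
      apply le_antisymm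
      · refine le_of_le_of_eq ?_ hbasis.eq_generateFrom.symm
        refine le_generateFrom ?_
        rintro s hs
        exact TopologicalSpace.isOpen_generateFrom_of_mem (Or.inl hs)
      · refine le_generateFrom ?_
        rintro s (⟨ho, -⟩ | ⟨hs, hc⟩)
        · exact ho
        · exact compl_compl s ▸ (h sᶜ hs.isOpen_compl hc).isOpen_compl
    tfae_have 8 → 1 := by
      intro h
      obtain ⟨-, hT2⟩ := H6.SpecCof.compact_t2 X
      rw [h] at hT2
      haveI : T2Space X := hT2
      have hcl : ∀ U : Set X, IsOpen U → IsCompact U → IsClosed U := fun U _ hc => hc.isClosed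
      refine ⟨this, ⟨fun S _ hS x hx y hy => ?_⟩⟩
      by_contra hne
      obtain ⟨V, ⟨h1, h2⟩, h3, h4⟩ := hbasis.exists_subset_of_mem_open
        (show x ∈ ({y} : Set X)ᶜ from hne) isClosed_singleton.isOpen_compl
      exact h4 (hS.subset_isClopen ⟨hcl V h1 h2, h1⟩ ⟨x, hx, h3⟩ hy) rfl
    tfae_finish

end Groth.Agent.S7528
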