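import Groth.Statements.S7531
import Mathlib
import Groth.Agent.Lib.H6.SpectralCofiltered

set_option autoImplicit false
set_option backward.isDefEq.respectTransparency.types false
set_option maxHeartbeats 1000000
set_option linter.all false
universe u
open CategoryTheory CategoryTheory.Limits
open SpecSp

namespace Groth.Agent.S7531
open Groth.Agent

/-- Let J be a nonempty directed preordered set and let (X_j) be an inverse system of finite sober
topological spaces indexed by J (a functor from the opposite of J to topological spaces). Then any
limit of this system in the category of topological spaces is a spectral space. -/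
theorem result {J : Type u} [Preorder J] [Nonempty J] [IsDirected J (· ≤ ·)]
    (F : Jᵒᵖ ⥤ TopCat.{u})
    (hF : ∀ j : Jᵒᵖ, Finite (F.obj j) ∧ T0Space (F.obj j) ∧ QuasiSober (F.obj j))
    (c : Cone F) (hc : IsLimit c) :
    SpectralSpace c.pt := by
    haveI : ∀ j : Jᵒᵖ, Finite (F.obj j) := fun j => (hF j).1
    have hsp : ∀ j : Jᵒᵖ, SpectralSpace (F.obj j) := fun j =>
      haveI := (hF j).2.1
      haveI := (hF j).2.2
      haveI : QuasiSeparatedSpace (F.obj j) := ⟨fun U V _ _ _ _ => (Set.toFinite _).isCompact⟩
      haveI : PrespectralSpace (F.obj j) :=
        .of_isTopologicalBasis TopologicalSpace.isTopologicalBasis_opens fun _ _ => (Set.toFinite _).isCompact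
      {}
    exact (H6.SpecLim.limit_spectral hsp (fun {i j} a => ⟨(F.map a).hom.continuous, fun s _ _ => (Set.toFinite _).isCompact⟩) hc).1

end Groth.Agent.S7531
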