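import Groth.Statements.S7536
import Mathlib
import Groth.Agent.Lib.H6.SpectralLimit

set_option autoImplicit false
set_option backward.isDefEq.respectTransparency.types false
set_option maxHeartbeats 1000000
set_option linter.all false
universe u
open CategoryTheory CategoryTheory.Limits
open SpecSp

namespace Groth.Agent.S7536
open Groth.Agent

/-- Let j ↦ X_j be a cofiltered diagram of spectral spaces with spectral transition maps and X its limit
with projections p_j. For every constructible E ⊆ X there are an object i and a constructible E_i ⊆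
X_i with p_i⁻¹(E_i) = E; if E is open, resp. closed, then E_i may be chosen open, resp. closed. -/
theorem result {J : Type u} [SmallCategory J] [IsCofiltered J] (F : J ⥤ TopCat.{u})
    (hF : ∀ j, SpectralSpace (F.obj j))
    (hFm : ∀ {i j : J} (a : i ⟶ j), IsSpectralMap (F.map a : F.obj i → F.obj j))
    (c : Cone F) (hc : IsLimit c)
    (E : Set c.pt) (hE : Topology.IsConstructible E) :
    (∃ (i : J) (Ei : Set (F.obj i)), Topology.IsConstructible Ei ∧ c.π.app i ⁻¹' Ei = E) ∧
    (IsOpen E → ∃ (i : J) (Ei : Set (F.obj i)), Topology.IsConstructible Ei ∧ IsOpen Ei ∧ c.π.app i ⁻¹' Ei = E) ∧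
    (IsClosed E → ∃ (i : J) (Ei : Set (F.obj i)), Topology.IsConstructible Ei ∧ IsClosed Ei ∧ c.π.app i ⁻¹' Ei = E) := by
    classical
    obtain ⟨hpt, hπ⟩ := H6.SpecLim.limit_spectral hF hFm hc
    haveI := hpt
    obtain ⟨I, f, hf, hg, hgcl⟩ := H6.SpecLim.exists_embedding hF hFm hc
    have hopen : ∀ E : Set c.pt, Topology.IsConstructible E → IsOpen E →
        ∃ (i : J) (W : Set (F.obj i)), IsOpen W ∧ IsCompact W ∧ c.π.app i ⁻¹' W = E := by
      intro E hE ho
      obtain ⟨W, hW, rfl⟩ := H6.SpecLim.constructible_clop hg hE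
      exact H6.SpecLim.compactOpen_descends hF hFm hc ho (H6.SpecLim.compact_preimage hg hgcl hW.1)
    have hcons : ∀ (i : J) (W : Set (F.obj i)), IsOpen W → IsCompact W → Topology.IsConstructible W := by
      intro i W ho hc'
      haveI := hF i
      exact hc'.isConstructible ho
    have hpre : ∀ {i j : J} (a : i ⟶ j) (W : Set (F.obj j)), Topology.IsConstructible W →
        Topology.IsConstructible (F.map a ⁻¹' W) := by
      intro i j a W hW
      haveI := hF i
      haveI := hF j
      exact hW.preimage (hFm a).continuous fun s hs hsc =>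
        ((hFm a).isCompact_preimage_of_isOpen hs hsc.isCompact).isRetrocompact (hs.preimage (hFm a).continuous)
    have hpush : ∀ {i j : J} (a : i ⟶ j) (W : Set (F.obj j)),
        c.π.app i ⁻¹' (F.map a ⁻¹' W) = c.π.app j ⁻¹' W := by
      intro i j a W
      rw [← Cone.w c a]
      rfl
    refine ⟨?_, fun ho => ?_, fun hcl => ?_⟩
    · induction hE using Topology.IsConstructible.empty_union_induction with
      | open_retrocompact V hV hVc =>
        obtain ⟨i, W, hW, hWc, h⟩ := H6.SpecLim.compactOpen_descends hF hFm hc hV hVc.isCompact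
        exact ⟨i, W, hcons i W hW hWc, h⟩
      | union s hs t ht hs' ht' =>
        obtain ⟨i, A, hA, rfl⟩ := hs'
        obtain ⟨j, B, hB, rfl⟩ := ht'
        refine ⟨IsCofiltered.min i j, _, (hpre (IsCofiltered.minToLeft i j) A hA).union (hpre (IsCofiltered.minToRight i j) B hB), ?_⟩
        rw [Set.preimage_union, hpush, hpush]
      | compl s hs hs' =>
        obtain ⟨i, A, hA, rfl⟩ := hs'
        exact ⟨i, Aᶜ, hA.compl, rfl⟩
    · obtain ⟨i, W, hW, hWc, h⟩ := hopen E hE ho
      exact ⟨i, W, hcons i W hW hWc, hW, h⟩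
    · obtain ⟨i, W, hW, hWc, h⟩ := hopen Eᶜ hE.compl hcl.isOpen_compl
      exact ⟨i, Wᶜ, (hcons i W hW hWc).compl, hW.isClosed_compl, by rw [Set.preimage_compl, h, compl_compl]⟩

end Groth.Agent.S7536
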