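import Groth.Statements.S7538
import Mathlib
import Groth.Agent.Lib.H6.SpectralCofiltered

set_option autoImplicit false
set_option backward.isDefEq.respectTransparency.types false
set_option maxHeartbeats 1000000
set_option linter.all false
universe u
open CategoryTheory CategoryTheory.Limits
open SpecSp

namespace Groth.Agent.S7538
open Groth.Agent

/-- Let j ↦ X_j be a cofiltered diagram of spectral spaces with spectral transition maps f_a and X its
limit with projections p_j. (1) Any quasi-compact open U ⊆ X is p_i⁻¹(U_i) for some i and some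
quasi-compact open U_i ⊆ X_i. (2) If U_i ⊆ X_i and U_j ⊆ X_j are quasi-compact opens with p_i⁻¹(U_i)
⊆ p_j⁻¹(U_j), there are k and a : k → i, b : k → j with f_a⁻¹(U_i) ⊆ f_b⁻¹(U_j). (3) If U_i and
finitely many U_{l,i} are quasi-compact opens of X_i with p_i⁻¹(U_i) = ⋃_l p_i⁻¹(U_{l,i}), then
f_a⁻¹(U_i) = ⋃_l f_a⁻¹(U_{l,i}) for some a : j → i. (4) The same with intersections. -/
theorem result {J : Type u} [SmallCategory J] [IsCofiltered J] (F : J ⥤ TopCat.{u})
    (hF : ∀ j, SpectralSpace (F.obj j))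
    (hFm : ∀ {i j : J} (a : i ⟶ j), IsSpectralMap (F.map a : F.obj i → F.obj j))
    (c : Cone F) (hc : IsLimit c) :
    (∀ U : Set c.pt, IsOpen U → IsCompact U →
      ∃ (i : J) (Ui : Set (F.obj i)), IsOpen Ui ∧ IsCompact Ui ∧ c.π.app i ⁻¹' Ui = U) ∧
    (∀ (i j : J) (Ui : Set (F.obj i)) (Uj : Set (F.obj j)),
      IsOpen Ui → IsCompact Ui → IsOpen Uj → IsCompact Uj →
      c.π.app i ⁻¹' Ui ⊆ c.π.app j ⁻¹' Uj →
      ∃ (k : J) (a : k ⟶ i) (b : k ⟶ j), F.map a ⁻¹' Ui ⊆ F.map b ⁻¹' Uj) ∧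
    (∀ (i : J) (n : ℕ) (Ui : Set (F.obj i)) (V : Fin n → Set (F.obj i)),
      IsOpen Ui → IsCompact Ui → (∀ l, IsOpen (V l) ∧ IsCompact (V l)) →
      (c.π.app i ⁻¹' Ui = ⋃ l, c.π.app i ⁻¹' V l →
        ∃ (j : J) (a : j ⟶ i), F.map a ⁻¹' Ui = ⋃ l, F.map a ⁻¹' V l) ∧
      (c.π.app i ⁻¹' Ui = ⋂ l, c.π.app i ⁻¹' V l →
        ∃ (j : J) (a : j ⟶ i), F.map a ⁻¹' Ui = ⋂ l, F.map a ⁻¹' V l)) := by
    classical
    have hco : ∀ (i : J) (U : Set (F.obj i)), IsOpen U → IsCompact U →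
        @IsClosed (F.obj i) (constructibleTopology (F.obj i)) U ∧ @IsOpen (F.obj i) (constructibleTopology (F.obj i)) U :=
      fun i U ho hc' => ⟨@IsClosed.mk _ (constructibleTopology (F.obj i)) _
          (TopologicalSpace.isOpen_generateFrom_of_mem (Or.inr ⟨ho.isClosed_compl, by rwa [compl_compl]⟩)),
        TopologicalSpace.isOpen_generateFrom_of_mem (Or.inl ⟨ho, hc'⟩)⟩
    have hw : ∀ {k i : J} (a : k ⟶ i) (U : Set (F.obj i)), c.π.app k ⁻¹' (F.map a ⁻¹' U) = c.π.app i ⁻¹' U := by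
      intro k i a U
      rw [← Cone.w c a]
      rfl
    have hcomp : ∀ {l k i : J} (b : l ⟶ k) (a : k ⟶ i) (U : Set (F.obj i)),
        F.map b ⁻¹' (F.map a ⁻¹' U) = F.map (b ≫ a) ⁻¹' U := by
      intro l k i b a U
      rw [F.map_comp]
      rfl
    have heq : ∀ (i : J) (A B : Set (F.obj i)),
        (@IsClosed (F.obj i) (constructibleTopology (F.obj i)) A ∧ @IsOpen (F.obj i) (constructibleTopology (F.obj i)) A) →
        (@IsClosed (F.obj i) (constructibleTopology (F.obj i)) B ∧ @IsOpen (F.obj i) (constructibleTopology (F.obj i)) B) →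
        c.π.app i ⁻¹' A = c.π.app i ⁻¹' B → ∃ (j : J) (a : j ⟶ i), F.map a ⁻¹' A = F.map a ⁻¹' B := by
      intro i A B hA hB h
      obtain ⟨j, a, ha⟩ := (H6.SpecCof.exists_hom_of_subset hF hFm hc i A B hA.1 hB.2).1 h.le
      obtain ⟨j', a', ha'⟩ := (H6.SpecCof.exists_hom_of_subset hF hFm hc i B A hB.1 hA.2).1 h.ge
      obtain ⟨k, b, b', e⟩ := IsCofiltered.cospan a a'
      refine ⟨k, b ≫ a, subset_antisymm ?_ ?_⟩
      · rw [← hcomp, ← hcomp]; exact Set.preimage_mono ha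
      · rw [e, ← hcomp, ← hcomp]; exact Set.preimage_mono ha'
    refine ⟨fun U hU hUc => H6.SpecLim.compactOpen_descends hF hFm hc hU hUc, ?_, ?_⟩
    · intro i j Ui Uj hi hic hj hjc hsub
      have h1 := hco _ _ (hi.preimage (hFm (IsCofiltered.minToLeft i j)).continuous)
        ((hFm _).isCompact_preimage_of_isOpen hi hic)
      have h2 := hco _ _ (hj.preimage (hFm (IsCofiltered.minToRight i j)).continuous)
        ((hFm _).isCompact_preimage_of_isOpen hj hjc)
      obtain ⟨k, e, he⟩ := (H6.SpecCof.exists_hom_of_subset hF hFm hc (IsCofiltered.min i j) _ _ h1.1 h2.2).1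
        (by rw [hw, hw]; exact hsub)
      exact ⟨k, e ≫ IsCofiltered.minToLeft i j, e ≫ IsCofiltered.minToRight i j, by rw [← hcomp, ← hcomp]; exact he⟩
    · intro i n Ui V hUi hUic hV
      refine ⟨fun h => ?_, fun h => ?_⟩
      · obtain ⟨j, a, ha⟩ := heq i Ui (⋃ l, V l) (hco i Ui hUi hUic)
          (hco i _ (isOpen_iUnion fun l => (hV l).1) (isCompact_iUnion fun l => (hV l).2)) (by rw [h, Set.preimage_iUnion])
        exact ⟨j, a, by rw [ha, Set.preimage_iUnion]⟩
      · obtain ⟨j, a, ha⟩ := heq i Ui (⋂ l, V l) (hco i Ui hUi hUic)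
          ⟨@isClosed_iInter _ _ (constructibleTopology (F.obj i)) _ fun l => (hco i _ (hV l).1 (hV l).2).1,
            @isOpen_iInter_of_finite _ _ (constructibleTopology (F.obj i)) _ _ fun l => (hco i _ (hV l).1 (hV l).2).2⟩
          (by rw [h, Set.preimage_iInter])
        exact ⟨j, a, by rw [ha, Set.preimage_iInter]⟩

end Groth.Agent.S7538
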