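import Groth.Statements.S7539
import Mathlib
import Groth.Agent.Lib.H6.SpectralCofiltered

set_option autoImplicit false
set_option backward.isDefEq.respectTransparency.types false
set_option maxHeartbeats 1000000
set_option linter.all false
universe u
open SpecSp

namespace Groth.Agent.S7539
open Groth.Agent

/-- For a subset W of a spectral space X, these five conditions coincide: (1) W can be written as an
intersection of constructible subsets and is stable under generalization; (2) W is quasi-compact and
stable under generalization; (3) for some quasi-compact E ⊆ X, W consists exactly of the points that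
specialize to a point of E; (4) W is the intersection of some family of quasi-compact opens; (5)
there are a nonempty index set I and quasi-compact opens U_i with W = ⋂ U_i such that for all i, j
some U_k is contained in U_i ∩ U_j. -/
theorem result {X : Type u} [TopologicalSpace X] [SpectralSpace X] (W : Set X) :
    List.TFAE [
      (∃ S : Set (Set X), (∀ s ∈ S, Topology.IsConstructible s) ∧ W = ⋂₀ S) ∧ StableUnderGeneralization W,
      IsCompact W ∧ StableUnderGeneralization W,
      ∃ E : Set X, IsCompact E ∧ W = {x | ∃ e ∈ E, x ⤳ e},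
      ∃ S : Set (Set X), (∀ s ∈ S, IsOpen s ∧ IsCompact s) ∧ W = ⋂₀ S,
      ∃ (I : Type u) (_ : Nonempty I) (U : I → Set X), (∀ i, IsOpen (U i) ∧ IsCompact (U i)) ∧
        W = ⋂ i, U i ∧ ∀ i j, ∃ k, U k ⊆ U i ∩ U j] := by
    classical
    have hbasis := PrespectralSpace.isTopologicalBasis (X := X)
    have hle : constructibleTopology X ≤ ‹TopologicalSpace X› := by
      refine le_of_le_of_eq ?_ hbasis.eq_generateFrom.symm
      exact le_generateFrom fun s hs => TopologicalSpace.isOpen_generateFrom_of_mem (Or.inl hs)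
    tfae_have 1 → 2 := by
      rintro ⟨⟨S, hS, rfl⟩, hW⟩
      refine ⟨?_, hW⟩
      obtain ⟨I, f, hf, hcl0⟩ := (Groth.Agent.S7532.result X).1 inferInstance
      rw [H6.Sierp.discrete_eq] at hcl0
      have hT : @IsClosed X (constructibleTopology X) (⋂₀ S) := by
        refine @isClosed_sInter X (constructibleTopology X) S fun s hs => ?_
        obtain ⟨W, hW, rfl⟩ := H6.SpecLim.constructible_clop hf (hS s hs)
        rw [H6.SpecCof.constructible_eq_induced hf hcl0]
        exact (@isClosed_induced_iff _ _ (H6.Sierp.discrete I) _ f).2 ⟨W, hW.1, rfl⟩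
      have h1 : @IsCompact X (constructibleTopology X) (⋂₀ S) :=
        @IsClosed.isCompact _ (constructibleTopology X) _ (H6.SpecCof.compact_t2 X).1 hT
      have := @IsCompact.image X X (constructibleTopology X) ‹TopologicalSpace X› _ id h1 (continuous_id_of_le hle)
      simpa using this
    tfae_have 2 → 3 := by
      rintro ⟨hc, hg⟩
      refine ⟨W, hc, Set.ext fun x => ⟨fun hx => ⟨x, hx, specializes_rfl⟩, ?_⟩⟩
      rintro ⟨e, he, hxe⟩
      exact hg hxe he
    tfae_have 3 → 4 := by
      rintro ⟨E, hE, rfl⟩
      refine ⟨{V | IsOpen V ∧ IsCompact V ∧ E ⊆ V}, fun s hs => ⟨hs.1, hs.2.1⟩, ?_⟩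
      ext x
      constructor
      · rintro ⟨e, he, hxe⟩ V ⟨hV, -, hEV⟩
        exact hxe.mem_open hV (hEV he)
      · intro hx
        by_contra hno
        have hne : ∀ e : E, ∃ V, IsOpen V ∧ IsCompact V ∧ e.1 ∈ V ∧ x ∉ V := by
          intro e
          have : ¬ x ⤳ e.1 := fun h => hno ⟨e.1, e.2, h⟩
          rw [specializes_iff_forall_open] at this
          push_neg at this
          obtain ⟨s, hs, hes, hxs⟩ := this
          obtain ⟨V, ⟨h1, h2⟩, h3, h4⟩ := hbasis.exists_subset_of_mem_open hes hs
          exact ⟨V, h1, h2, h3, fun h => hxs (h4 h)⟩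
        choose V hVo hVc heV hxV using hne
        obtain ⟨t, ht⟩ := hE.elim_finite_subcover V hVo fun e he => Set.mem_iUnion.2 ⟨⟨e, he⟩, heV _⟩
        obtain ⟨e, -, hxe⟩ := Set.mem_iUnion₂.1 (hx (⋃ e ∈ t, V e)
          ⟨isOpen_biUnion fun e _ => hVo e, t.isCompact_biUnion fun e _ => hVc e, ht⟩)
        exact hxV e hxe
    tfae_have 4 → 5 := by
      rintro ⟨S, hS, rfl⟩
      have hU : ∀ T : Finset (Set X), (T : Set (Set X)) ⊆ S → IsOpen (⋂₀ (T : Set (Set X))) ∧ IsCompact (⋂₀ (T : Set (Set X))) := by
        intro T hT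
        induction T using Finset.induction_on with
        | empty => simp [CompactSpace.isCompact_univ]
        | @insert a T ha ih =>
          rw [Finset.coe_insert, Set.sInter_insert]
          rw [Finset.coe_insert, Set.insert_subset_iff] at hT
          exact ⟨(hS a hT.1).1.inter (ih hT.2).1,
            QuasiSeparatedSpace.inter_isCompact _ _ (hS a hT.1).1 (hS a hT.1).2 (ih hT.2).1 (ih hT.2).2⟩
      refine ⟨{T : Finset (Set X) // (T : Set (Set X)) ⊆ S}, ⟨⟨∅, by simp⟩⟩, fun T => ⋂₀ (T.1 : Set (Set X)),
        fun T => hU T.1 T.2, ?_, fun A B => ?_⟩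
      · refine subset_antisymm (Set.subset_iInter fun T => Set.sInter_subset_sInter T.2) fun x hx s hs => ?_
        have := Set.mem_iInter.1 hx ⟨{s}, by simpa using hs⟩
        simpa using this
      · refine ⟨⟨A.1 ∪ B.1, by rw [Finset.coe_union]; exact Set.union_subset A.2 B.2⟩, ?_⟩
        show ⋂₀ ((A.1 ∪ B.1 : Finset (Set X)) : Set (Set X)) ⊆ _
        rw [Finset.coe_union, Set.sInter_union]
    tfae_have 5 → 1 := by
      rintro ⟨I, -, U, hU, rfl, -⟩
      refine ⟨⟨Set.range U, ?_, (Set.sInter_range U).symm⟩, fun x y hyx hx => Set.mem_iInter.2 fun i => ?_⟩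
      · rintro _ ⟨i, rfl⟩
        exact (hU i).2.isConstructible (hU i).1
      · exact hyx.mem_open (hU i).1 (Set.mem_iInter.1 hx i)
    tfae_finish

end Groth.Agent.S7539
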