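import Groth.Statements.S7552
import Mathlib

set_option autoImplicit false
set_option backward.isDefEq.respectTransparency.types false
set_option maxHeartbeats 1000000
set_option linter.all false
universe u
open PtTop

namespace Groth.Agent.S7552
open Groth.Agent

/-- Let f : X → Y be a continuous surjective map of topological spaces with Y sober, and assume that
specializations lift along f or that generalizations lift along f. Then dim X ≥ dim Y (Krull
dimensions as suprema of lengths of chains of irreducible closed subsets). -/
theorem result {X Y : Type u}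
    [TopologicalSpace X] [TopologicalSpace Y] [QuasiSober Y] [T0Space Y]
    (f : X → Y) (hf : Continuous f) (hsurj : Function.Surjective f)
    (hlift : SpecializingMap f ∨ GeneralizingMap f) :
    topologicalKrullDim Y ≤ topologicalKrullDim X := by
  classical
  rw [topologicalKrullDim, topologicalKrullDim, Order.krullDim]
  refine iSup_le fun p => ?_
  let q : Fin (p.length + 1) → Y := fun i => (p i).isIrreducible.genericPoint
  have hq : ∀ i, closure {q i} = (p i : Set Y) := fun i => by
    rw [show closure ({q i} : Set Y) = closure (p i : Set Y) from (p i).isIrreducible.isGenericPoint_genericPoint_closure, (p i).isClosed.closure_eq]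
  have hsp : ∀ i : Fin p.length, q i.succ ⤳ q i.castSucc := fun i => by
    rw [specializes_iff_closure_subset, hq, hq]
    exact (p.step i).le
  have hlift' : ∃ g : Fin (p.length + 1) → X, (∀ i, f (g i) = q i) ∧ ∀ i : Fin p.length, g i.succ ⤳ g i.castSucc := by
    rcases hlift with h | h
    · have hs : ∀ i : Fin p.length, ∀ x : {x : X // f x = q i.succ}, ∃ z : {z : X // f z = q i.castSucc}, x.1 ⤳ z.1 := fun i x => by
        obtain ⟨z, hz, hfz⟩ := h (show f x.1 ⤳ q i.castSucc by rw [x.2]; exact hsp i)
        exact ⟨⟨z, hfz⟩, hz⟩
      choose s hs' using hs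
      let g : ∀ i : Fin (p.length + 1), {x : X // f x = q i} := fun i =>
        Fin.reverseInduction (motive := fun i => {x : X // f x = q i}) ⟨_, (hsurj (q (Fin.last _))).choose_spec⟩ (fun i x => s i x) i
      refine ⟨fun i => (g i).1, fun i => (g i).2, fun i => ?_⟩
      simp only [g]
      rw [Fin.reverseInduction_castSucc]
      exact hs' i _
    · have hs : ∀ i : Fin p.length, ∀ x : {x : X // f x = q i.castSucc}, ∃ z : {z : X // f z = q i.succ}, z.1 ⤳ x.1 := fun i x => by
        obtain ⟨z, hz, hfz⟩ := h (show q i.succ ⤳ f x.1 by rw [x.2]; exact hsp i)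
        exact ⟨⟨z, hfz⟩, hz⟩
      choose s hs' using hs
      let g : ∀ i : Fin (p.length + 1), {x : X // f x = q i} := fun i =>
        Fin.induction (motive := fun i => {x : X // f x = q i}) ⟨_, (hsurj (q 0)).choose_spec⟩ (fun i x => s i x) i
      refine ⟨fun i => (g i).1, fun i => (g i).2, fun i => ?_⟩
      simp only [g]
      rw [Fin.induction_succ]
      exact hs' i _
  obtain ⟨g, hg, hgs⟩ := hlift'
  let c : Fin (p.length + 1) → TopologicalSpace.IrreducibleCloseds X := fun i => ⟨closure {g i}, isIrreducible_singleton.closure, isClosed_closure⟩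
  have hc : ∀ i : Fin p.length, c i.castSucc < c i.succ := fun i => by
    refine lt_of_le_of_ne (specializes_iff_closure_subset.1 (hgs i)) fun h => ?_
    have h1 : g i.castSucc ⤳ g i.succ := specializes_iff_closure_subset.2 (congrArg SetLike.coe h).ge
    have h2 : f (g i.castSucc) = f (g i.succ) := ((h1.map hf).antisymm ((hgs i).map hf)).eq
    rw [hg, hg] at h2
    exact (p.step i).ne (SetLike.coe_injective ((hq _).symm.trans ((congrArg (fun y => closure ({y} : Set Y)) h2).trans (hq _))))
  exact le_iSup_of_le ⟨p.length, c, hc⟩ le_rfl

end Groth.Agent.S7552
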