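import Groth.Statements.S7558
import Mathlib

set_option autoImplicit false
universe u
open CategoryTheory CategoryTheory.Limits
open PtTop

namespace Groth.Agent.S7558

section
variable {J : Type u} [SmallCategory J] (F : J ⥤ TopCommRingCat.{u})

/-- the finest ring topology on the colimit making the coprojections continuous -/
noncomputable def topo : RingTopology (colimit (F ⋙ forget₂ TopCommRingCat CommRingCat) : CommRingCat.{u}) :=
  sInf {b | ∀ j, @Continuous (F.obj j) _ _ b.toTopologicalSpace (colimit.ι (F ⋙ forget₂ TopCommRingCat CommRingCat) j).hom}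

noncomputable def pt : TopCommRingCat.{u} :=
  @TopCommRingCat.of (colimit (F ⋙ forget₂ TopCommRingCat CommRingCat) : CommRingCat.{u}) _ (topo F).toTopologicalSpace (topo F).toIsTopologicalRing

theorem cont (j : J) : @Continuous (F.obj j) _ _ (topo F).toTopologicalSpace (colimit.ι (F ⋙ forget₂ TopCommRingCat CommRingCat) j).hom :=
  continuous_sInf_rng.2 <| Set.forall_mem_image.2 fun _ hb => hb j

noncomputable def cocone : Cocone F where
  pt := pt F
  ι := { app := fun j => ⟨(colimit.ι (F ⋙ forget₂ TopCommRingCat CommRingCat) j).hom, cont F j⟩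
         naturality := fun i j f => Subtype.ext (RingHom.ext fun x =>
           ConcreteCategory.congr_hom (colimit.w (F ⋙ forget₂ TopCommRingCat CommRingCat) f) x) }

noncomputable def desc (s : Cocone F) : pt F ⟶ s.pt :=
  let D : (colimit (F ⋙ forget₂ TopCommRingCat CommRingCat) : CommRingCat.{u}) →+* s.pt :=
    (colimit.desc (F ⋙ forget₂ TopCommRingCat CommRingCat) ((forget₂ TopCommRingCat CommRingCat).mapCocone s)).hom
  ⟨D, by
    have hb : @IsTopologicalRing (colimit (F ⋙ forget₂ TopCommRingCat CommRingCat) : CommRingCat.{u}) (s.pt.isTopologicalSpace.induced D) _ := by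
      letI := s.pt.isTopologicalSpace.induced D
      haveI : ContinuousAdd (colimit (F ⋙ forget₂ TopCommRingCat CommRingCat) : CommRingCat.{u}) := continuousAdd_induced D
      haveI : ContinuousMul (colimit (F ⋙ forget₂ TopCommRingCat CommRingCat) : CommRingCat.{u}) := continuousMul_induced D
      haveI : IsTopologicalSemiring (colimit (F ⋙ forget₂ TopCommRingCat CommRingCat) : CommRingCat.{u}) := ⟨⟩
      exact { toContinuousNeg := ⟨continuous_induced_rng.2 (by
        simp only [Function.comp_def, map_neg]
        exact continuous_neg.comp continuous_induced_dom)⟩ }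
    let b : RingTopology (colimit (F ⋙ forget₂ TopCommRingCat CommRingCat) : CommRingCat.{u}) := @RingTopology.mk _ _ (s.pt.isTopologicalSpace.induced D) hb
    have hle : topo F ≤ b := sInf_le fun j => by
      refine continuous_induced_rng.2 ?_
      have e : ∀ x : F.obj j, D ((colimit.ι (F ⋙ forget₂ TopCommRingCat CommRingCat) j).hom x) = (s.ι.app j).val x :=
        fun x => ConcreteCategory.congr_hom (colimit.ι_desc ((forget₂ TopCommRingCat CommRingCat).mapCocone s) j) x
      exact (s.ι.app j).2.congr fun x => (e x).symm
    exact continuous_iff_le_induced.2 hle⟩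

noncomputable def isColimit : IsColimit (cocone F) where
  desc s := desc F s
  fac s j := Subtype.ext (RingHom.ext fun x => ConcreteCategory.congr_hom (colimit.ι_desc ((forget₂ TopCommRingCat CommRingCat).mapCocone s) j) x)
  uniq s m hm := Subtype.ext (congrArg (fun q => q.hom) (show CommRingCat.ofHom m.val = CommRingCat.ofHom (desc F s).val from
    colimit.hom_ext fun j => CommRingCat.hom_ext ((congrArg Subtype.val (hm j)).trans
      (congrArg CommRingCat.Hom.hom (colimit.ι_desc ((forget₂ TopCommRingCat CommRingCat).mapCocone s) j)).symm)))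

end

/-- The category of topological rings (commutative, with continuous ring homomorphisms) has colimits,
and colimits commute with the forgetful functor to rings. -/
theorem result :
    HasColimits TopCommRingCat.{u} ∧
    PreservesColimits (forget₂ TopCommRingCat.{u} CommRingCat.{u}) := by
  refine ⟨⟨fun J _ => ⟨fun F => ⟨⟨_, isColimit F⟩⟩⟩⟩, ⟨fun {J} _ => ⟨fun {F} => ?_⟩⟩⟩
  exact preservesColimit_of_preserves_colimit_cocone (isColimit F)
    (IsColimit.ofIsoColimit (colimit.isColimit _) (Cocone.ext (Iso.refl _) fun j => by rfl))

end Groth.Agent.S7558
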