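import Groth.Statements.S7622
import Groth.Prelude.Def_Coh
import Groth.Prelude.Def_Pic
import Groth.Prelude.Def_CohB1
import Groth.Prelude.Def_Curv2
import Mathlib.AlgebraicGeometry.Morphisms.Proper
import Mathlib.Topology.KrullDimension
import Mathlib.LinearAlgebra.Dimension.Finrank
import Mathlib.RingTheory.AdicCompletion.Algebra
import Mathlib.RingTheory.MvPowerSeries.Basic
import Mathlib.RingTheory.LocalRing.ResidueField.Basic
import Mathlib.FieldTheory.Separable
import Mathlib.RingTheory.Noetherian.Basic
import Mathlib.RingTheory.Nilpotent.GeometricallyReduced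
import Groth.Prelude.Def_EGA41
import Mathlib
import Groth.Agent.Lib.H2CohenField

set_option autoImplicit false
universe u
open CategoryTheory CategoryTheory.Limits AlgebraicGeometry
open Variety

namespace Groth.Agent.S7622
open CategoryTheory CategoryTheory.Limits AlgebraicGeometry
open IsLocalRing Groth.Agent.H2PowerSeries
set_option backward.isDefEq.respectTransparency.types false

/-- Let A be a Noetherian local algebra over a field k (such as the local ring of a locally Noetherian
k-scheme at a point) whose residue field κ is a separable extension of k, meaning geometrically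
reduced over k; κ need not be algebraic over k. Then there are n ≥ 0, an ideal I of κ[[x_1, …, x_n]]
and a k-algebra isomorphism e from κ[[x_1, …, x_n]]/I onto the completion A^∧ of A at its maximal
ideal which induces the identity on residue fields: for every a in A, the value of e on the constant
power series whose value is the residue class of a is congruent to the image of a modulo the
extended maximal ideal of A^∧. -/
theorem result (k A : Type u) [Field k] [CommRing A] [Algebra k A]
    [IsNoetherianRing A] [IsLocalRing A] [Algebra.IsGeometricallyReduced k (IsLocalRing.ResidueField A)] :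
    ∃ (n : ℕ) (I : Ideal (MvPowerSeries (Fin n) (IsLocalRing.ResidueField A)))
      (e : (MvPowerSeries (Fin n) (IsLocalRing.ResidueField A) ⧸ I) ≃ₐ[k]
        AdicCompletion (IsLocalRing.maximalIdeal A) A),
      ∀ a : A, e (Ideal.Quotient.mk I (MvPowerSeries.C (IsLocalRing.residue A a))) -
          algebraMap A (AdicCompletion (IsLocalRing.maximalIdeal A) A) a ∈
        (IsLocalRing.maximalIdeal A).map (algebraMap A (AdicCompletion (IsLocalRing.maximalIdeal A) A)) := by
  have fg := (IsLocalRing.maximalIdeal A).fg_of_isNoetherianRing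
  haveI := AdicCompletion.isAdicComplete_self (IsLocalRing.maximalIdeal A) fg
  let Â := AdicCompletion (IsLocalRing.maximalIdeal A) A
  let M : Ideal Â := (IsLocalRing.maximalIdeal A).map (algebraMap A Â)
  haveI := Groth.Agent.H2CohenField.formallySmooth_of_geometricallyReduced k (IsLocalRing.ResidueField A)
  let j : A →ₐ[k] Â ⧸ M := (Ideal.Quotient.mkₐ k M).comp (IsScalarTower.toAlgHom k A Â)
  let f : IsLocalRing.ResidueField A →ₐ[k] Â ⧸ M := Ideal.Quotient.liftₐ (IsLocalRing.maximalIdeal A) j
    fun a ha => Ideal.Quotient.eq_zero_iff_mem.2 (Ideal.mem_map_of_mem _ ha)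
  obtain ⟨g, hg⟩ := Algebra.FormallySmooth.exists_mkₐ_comp_eq_of_isAdicComplete (R := k) (A := IsLocalRing.ResidueField A)
    (S := Â) (I := M) f
  have hga : ∀ a : A, g (IsLocalRing.residue A a) - algebraMap A Â a ∈ M := fun a =>
    Ideal.Quotient.eq.1 (AlgHom.congr_fun hg (IsLocalRing.residue A a))
  letI : Algebra (IsLocalRing.ResidueField A) Â := g.toRingHom.toAlgebra
  haveI : IsScalarTower k (IsLocalRing.ResidueField A) Â := IsScalarTower.of_algebraMap_eq fun r => (g.commutes r).symm
  obtain ⟨s, hs⟩ := fg
  let t : Fin s.card → Â := fun i => algebraMap A Â (s.equivFin.symm i)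
  have ht : ∀ i, t i ∈ M := fun i => Ideal.mem_map_of_mem _ (hs ▸ Submodule.subset_span (s.equivFin.symm i).2)
  obtain ⟨φ, hφ, -⟩ := exists_aeval (R := IsLocalRing.ResidueField A) M t ht
  have hgen : Ideal.span (Set.range fun i => φ (MvPowerSeries.X i)) = M := by
    simp only [hφ, t]
    show _ = Ideal.map (algebraMap A Â) (IsLocalRing.maximalIdeal A)
    refine Eq.trans ?_ (congrArg (Ideal.map (algebraMap A Â)) hs)
    erw [Ideal.map_span]
    congr 1
    ext y
    exact ⟨by rintro ⟨i, rfl⟩; exact ⟨_, (s.equivFin.symm i).2, rfl⟩,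
      by rintro ⟨a, ha, rfl⟩; exact ⟨s.equivFin ⟨a, ha⟩, by simp⟩⟩
  have hsurj : Function.Surjective φ := surjective_of M φ hgen fun y => by
    obtain ⟨z, rfl⟩ := Ideal.Quotient.mk_surjective y
    obtain ⟨a, ha⟩ := Ideal.Quotient.mk_surjective (AdicCompletion.evalOneₐ (IsLocalRing.maximalIdeal A) z)
    refine ⟨IsLocalRing.residue A a, Ideal.Quotient.eq.2 ?_⟩
    have h1 : algebraMap A Â a - z ∈ M := by
      have hk : algebraMap A Â a - z ∈ RingHom.ker (AdicCompletion.evalOneₐ (IsLocalRing.maximalIdeal A)).toRingHom := by
        rw [RingHom.mem_ker, map_sub, sub_eq_zero]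
        refine Eq.trans ?_ ha
        exact RingHom.congr_fun (AdicCompletion.evalOneₐ_comp_algebraMap_eq_mk (IsLocalRing.maximalIdeal A)) a
      rw [AdicCompletion.ker_evalOneₐ_eq_map _ (IsLocalRing.maximalIdeal A).fg_of_isNoetherianRing] at hk
      exact hk
    have := add_mem (hga a) h1
    rwa [sub_add_sub_cancel] at this
  refine ⟨s.card, RingHom.ker φ, (Ideal.quotientKerAlgEquivOfSurjective hsurj).restrictScalars k, fun a => ?_⟩
  have e1 : (Ideal.quotientKerAlgEquivOfSurjective hsurj) (Ideal.Quotient.mk _ (MvPowerSeries.C (IsLocalRing.residue A a))) = g (IsLocalRing.residue A a) :=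
    φ.commutes _
  exact e1 ▸ hga a

end Groth.Agent.S7622
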