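import Groth.Statements.S7664
import Mathlib

set_option autoImplicit false
universe u
open CategoryTheory CategoryTheory.Limits AlgebraicGeometry
open Variety

namespace Groth.Agent.S7664

theorem exists_mul_pow_mem {K : Type u} [Field K] (B : ValuationSubring K) [IsDiscreteValuationRing B]
    (s : B) (hs : s ∈ IsLocalRing.maximalIdeal B) (hs0 : s ≠ 0) (x : K) :
    ∃ N, ∀ n, N ≤ n → x * (s : K) ^ n ∈ B := by
  obtain ⟨a, b, hb, rfl⟩ := IsFractionRing.div_surjective (A := B) x
  have hb0 : b ≠ 0 := nonZeroDivisors.ne_zero hb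
  obtain ⟨π, hπ⟩ := IsDiscreteValuationRing.exists_irreducible B
  obtain ⟨N, hN⟩ := IsDiscreteValuationRing.associated_pow_irreducible hb0 hπ
  refine ⟨N, fun n hn => ?_⟩
  have hd : π ∣ s := Ideal.mem_span_singleton.1 (hπ.maximalIdeal_eq ▸ hs)
  obtain ⟨c, hc⟩ : b ∣ s ^ n := hN.dvd.trans ((pow_dvd_pow_of_dvd hd N).trans (pow_dvd_pow s hn))
  have hc' : (s : K) ^ n = (b : K) * (c : K) := congrArg Subtype.val hc
  have hbK : (b : K) ≠ 0 := fun h => hb0 (Subtype.ext h)
  rw [hc', show (algebraMap B K a / algebraMap B K b) * ((b : K) * (c : K)) = (a : K) * (c : K) by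
    show ((a : K) / (b : K)) * _ = _
    field_simp]
  exact (a * c).2

theorem isLocalization_away_incl {K : Type u} [Field K] (R' S' : Subring K) (h : R' ≤ S') (w : R')
    (hw : IsUnit (Subring.inclusion h w)) (hs : ∀ x : S', ∃ N : ℕ, (x : K) * (w : K) ^ N ∈ R') :
    letI := (Subring.inclusion h).toAlgebra
    IsLocalization.Away w S' := by
  letI := (Subring.inclusion h).toAlgebra
  refine (isLocalization_iff (Submonoid.powers w) S').2 ⟨?_, ?_, ?_⟩
  · rintro ⟨y, n, rfl⟩
    show IsUnit (Subring.inclusion h (w ^ n))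
    rw [map_pow]
    exact hw.pow n
  · intro z
    obtain ⟨N, hN⟩ := hs z
    exact ⟨(⟨_, hN⟩, ⟨w ^ N, N, rfl⟩), Subtype.ext (by simp [RingHom.algebraMap_toAlgebra])⟩
  · intro x y hxy
    exact ⟨1, by rw [Subring.inclusion_injective h hxy]⟩


/-- Let K be a field, A ⊆ K a Noetherian semi-local domain of dimension one and B ⊆ K a discrete
valuation ring, both with fraction field K, and R = A ∩ B. (a) If some unit of A does not lie in R,
then Spec A and Spec B each map to Spec R by an open immersion, Spec R is the union of the two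
images, and the natural map A ⊗_R B → K is an isomorphism. (b) If every unit of A lies in R, then B
dominates the local ring of A at one of its maximal ideals (A ⊆ B and the maximal ideal of B
contracts to a maximal ideal of A) and A ⊗ B → K is not surjective. -/
theorem result (K : Type u) [Field K]
    (A : Subring K) [IsFractionRing A K] [IsNoetherianRing A] (hdim : ringKrullDim A = 1) (hsl : Finite (MaximalSpectrum A))
    (B : ValuationSubring K) [IsDiscreteValuationRing B] :
    ((∃ u : A, IsUnit u ∧ (u : K) ∉ B) →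
      IsOpenImmersion (Spec.map (CommRingCat.ofHom (Subring.inclusion (inf_le_left : A ⊓ B.toSubring ≤ A)))) ∧
      IsOpenImmersion (Spec.map (CommRingCat.ofHom (Subring.inclusion (inf_le_right : A ⊓ B.toSubring ≤ B.toSubring)))) ∧
      Set.range (Spec.map (CommRingCat.ofHom (Subring.inclusion (inf_le_left : A ⊓ B.toSubring ≤ A)))).base ∪
        Set.range (Spec.map (CommRingCat.ofHom (Subring.inclusion (inf_le_right : A ⊓ B.toSubring ≤ B.toSubring)))).base = Set.univ ∧
      IsPushout (CommRingCat.ofHom (Subring.inclusion (inf_le_left : A ⊓ B.toSubring ≤ A)))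
        (CommRingCat.ofHom (Subring.inclusion (inf_le_right : A ⊓ B.toSubring ≤ B.toSubring)))
        (CommRingCat.ofHom A.subtype) (CommRingCat.ofHom B.toSubring.subtype)) ∧
    ((∀ u : A, IsUnit u → (u : K) ∈ B) →
      (∃ h : A ≤ B.toSubring,
        (Ideal.comap (Subring.inclusion h) (IsLocalRing.maximalIdeal B)).IsMaximal) ∧ A ⊔ B.toSubring ≠ ⊤) := by
  set R := A ⊓ B.toSubring with hR
  have hAnf : ¬ IsField A := fun h => by
    have := ringKrullDim_eq_zero_of_isField h
    simp [hdim] at this
  haveI : Finite (MaximalSpectrum A) := hsl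
  obtain ⟨j, hj, hj0⟩ : ∃ j : A, j ∈ Ideal.jacobson (⊥ : Ideal A) ∧ j ≠ 0 := by
    haveI := Fintype.ofFinite (MaximalSpectrum A)
    by_contra hcon
    push Not at hcon
    have hprod : (∏ M : MaximalSpectrum A, M.asIdeal) ≠ ⊥ := Finset.prod_ne_zero_iff.2 fun M _ h =>
      hAnf (Ring.isField_iff_maximal_bot.2 ((show M.asIdeal = ⊥ from h) ▸ M.isMaximal))
    refine hprod (eq_bot_iff.2 fun x hx => hcon x ?_)
    refine Submodule.mem_sInf.2 fun M hM => ?_
    exact Ideal.le_of_dvd (Finset.dvd_prod_of_mem _ (Finset.mem_univ (⟨M, hM.2⟩ : MaximalSpectrum A))) hx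
  have hunit : ∀ x : A, x ∈ Ideal.jacobson (⊥ : Ideal A) → IsUnit (1 + x) := fun x hx => by
    have := Ideal.mem_jacobson_bot.1 hx 1
    rwa [mul_one, add_comm] at this
  constructor
  · rintro ⟨u, hu, huB⟩
    obtain ⟨v, hv⟩ := hu.exists_right_inv
    have hv' : (u : K) * (v : K) = 1 := congrArg Subtype.val hv
    have hvB : (v : K) ∈ B := by
      rcases B.mem_or_inv_mem (v : K) with h | h
      · exact h
      · exact absurd (by rwa [← eq_inv_of_mul_eq_one_left hv'] at h) huB
    let sB : B := ⟨v, hvB⟩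
    have hsm : sB ∈ IsLocalRing.maximalIdeal B := (IsLocalRing.mem_maximalIdeal _).2 fun h => by
      obtain ⟨c, hc⟩ := h.exists_right_inv
      have hc' : (v : K) * (c : K) = 1 := congrArg Subtype.val hc
      exact huB (by
        rw [show (u : K) = (c : K) by
          calc (u : K) = u * (v * c) := by rw [hc', mul_one]
          _ = c := by rw [← mul_assoc, hv', one_mul]]
        exact c.2)
    have hs0 : sB ≠ 0 := fun h => by
      have : (v : K) = 0 := congrArg Subtype.val h
      simp [this] at hv'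
    have hv0 : (v : K) ≠ 0 := fun h => by simp [h] at hv'
    obtain ⟨π, hπ⟩ := IsDiscreteValuationRing.exists_irreducible B
    obtain ⟨m, hm⟩ := IsDiscreteValuationRing.associated_pow_irreducible hs0 hπ
    have hm0 : m ≠ 0 := fun h => by
      rw [h, pow_zero] at hm
      exact (IsLocalRing.mem_maximalIdeal _).1 hsm (hm.symm.isUnit isUnit_one)
    -- an element of the Jacobson radical of `A`, in `B`
    obtain ⟨N, hN⟩ := exists_mul_pow_mem B sB hsm hs0 (j : K)
    let aB : B := ⟨(j : K) * (v : K) ^ N, hN N le_rfl⟩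
    have haB : aB ≠ 0 := fun h => hj0 (Subtype.ext (by
      have : (j : K) * (v : K) ^ N = 0 := congrArg Subtype.val h
      exact (mul_eq_zero.1 this).resolve_right (pow_ne_zero N hv0)))
    obtain ⟨i, hi⟩ := IsDiscreteValuationRing.associated_pow_irreducible haB hπ
    obtain ⟨t, htJ, htB, htu⟩ : ∃ t : A, t ∈ Ideal.jacobson (⊥ : Ideal A) ∧ ∃ h : (t : K) ∈ B, IsUnit (⟨_, h⟩ : B) := by
      obtain ⟨w, hw⟩ := ((hi.pow_pow (n := m)).trans ((pow_mul π i m).symm ▸ mul_comm i m ▸ (pow_mul π m i) ▸ (hm.pow_pow (n := i)).symm)).symm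
      refine ⟨(j * v ^ N) ^ m * u ^ i, Ideal.mul_mem_right _ _ ?_, ?_⟩
      · exact Ideal.pow_mem_of_mem _ (Ideal.mul_mem_right _ _ hj) _ (Nat.pos_of_ne_zero hm0)
      · have hw' : (v : K) ^ i * ((w : B) : K) = ((j : K) * (v : K) ^ N) ^ m := congrArg Subtype.val hw
        have he : (((j * v ^ N) ^ m * u ^ i : A) : K) = ((w : B) : K) := by
          push_cast
          rw [← hw', mul_right_comm, ← mul_pow, mul_comm (v : K), hv', one_pow, one_mul]
        have h : (((j * v ^ N) ^ m * u ^ i : A) : K) ∈ B := he ▸ (w : B).2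
        refine ⟨h, ?_⟩
        rw [show (⟨_, h⟩ : B) = (w : B) from Subtype.ext he]
        exact w.isUnit
    let s : R := ⟨v, v.2, hvB⟩
    let tR : R := ⟨t, t.2, htB⟩
    have hsA : IsUnit (Subring.inclusion (inf_le_left : R ≤ A) s) := IsUnit.of_mul_eq_one u (Subtype.ext (by rw [mul_comm] at hv'; exact hv'))
    have htB' : IsUnit (Subring.inclusion (inf_le_right : R ≤ B.toSubring) tR) := htu
    letI algA : Algebra R A := (Subring.inclusion (inf_le_left : R ≤ A)).toAlgebra
    letI algB : Algebra R B.toSubring := (Subring.inclusion (inf_le_right : R ≤ B.toSubring)).toAlgebra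
    haveI hA : IsLocalization.Away s A := isLocalization_away_incl R A inf_le_left s hsA fun x => by
      obtain ⟨N, hN⟩ := exists_mul_pow_mem B sB hsm hs0 (x : K)
      exact ⟨N, (x * v ^ N).2, hN N le_rfl⟩
    have htpow : ∀ x : K, ∃ N : ℕ, x * (t : K) ^ N ∈ A := fun x => by
      obtain ⟨a, b, hb, rfl⟩ := IsFractionRing.div_surjective (A := A) x
      have hb0 : b ≠ 0 := nonZeroDivisors.ne_zero hb
      haveI : Ring.KrullDimLE 1 A := Ring.krullDimLE_iff.2 hdim.le
      have ht : t ∈ (Ideal.span {b}).radical := by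
        rw [Ideal.radical_eq_sInf]
        refine Submodule.mem_sInf.2 fun P hP => ?_
        have hP0 : P ≠ ⊥ := fun h => hb0 (Ideal.mem_bot.1 (h ▸ hP.1 (Ideal.mem_span_singleton_self b)))
        haveI := hP.2
        exact Submodule.mem_sInf.1 htJ P ⟨bot_le, Ring.krullDimLE_one_iff_of_noZeroDivisors.mp inferInstance _ hP0 hP.2⟩
      obtain ⟨N, hN⟩ := ht
      obtain ⟨c, hc⟩ := Ideal.mem_span_singleton.1 hN
      have hc' : (t : K) ^ N = (b : K) * (c : K) := congrArg Subtype.val hc
      have hbK : (b : K) ≠ 0 := fun h => hb0 (Subtype.ext h)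
      refine ⟨N, ?_⟩
      rw [hc', show (algebraMap A K a / algebraMap A K b) * ((b : K) * (c : K)) = (a : K) * (c : K) by
        show ((a : K) / (b : K)) * _ = _
        field_simp]
      exact (a * c).2
    haveI hB : IsLocalization.Away tR B.toSubring := isLocalization_away_incl R B.toSubring inf_le_right tR htB' fun x => by
      obtain ⟨N, hN⟩ := htpow (x : K)
      exact ⟨N, hN, mul_mem x.2 (pow_mem htB N)⟩
    have hopA : IsOpenImmersion (Spec.map (CommRingCat.ofHom (algebraMap R A))) := IsOpenImmersion.of_isLocalization s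
    have hopB : IsOpenImmersion (Spec.map (CommRingCat.ofHom (algebraMap R B.toSubring))) := IsOpenImmersion.of_isLocalization tR
    refine ⟨hopA, hopB, ?_, ?_⟩
    · rw [Set.eq_univ_iff_forall]
      intro q
      have e1 := PrimeSpectrum.localization_away_comap_range (S := A) s
      have e2 := PrimeSpectrum.localization_away_comap_range (S := B.toSubring) tR
      have hA1 : IsUnit (1 + t * u) := hunit _ (Ideal.mul_mem_right _ _ htJ)
      obtain ⟨c, hc⟩ := (hA1.mul (IsUnit.of_mul_eq_one u (by rw [mul_comm]; exact hv) : IsUnit v)).exists_right_inv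
      have hB1 : IsUnit ((⟨_, htB⟩ : B) + sB) := by
        by_contra h
        have := Ideal.sub_mem _ ((IsLocalRing.mem_maximalIdeal _).2 h) hsm
        rw [add_sub_cancel_right] at this
        exact (IsLocalRing.mem_maximalIdeal _).1 this htu
      obtain ⟨d, hd⟩ := hB1.exists_right_inv
      have hc' : ((t : K) + v) * (c : K) = 1 := by
        have h1 : ((1 + t * u) * v * c : A) = 1 := hc
        have h2 := congrArg Subtype.val h1
        push_cast at h2
        rwa [add_mul (1 : K), one_mul, mul_assoc (t : K), hv', mul_one, add_comm] at h2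
      have hd' : ((t : K) + v) * (d : K) = 1 := congrArg Subtype.val hd
      have hcd : (c : K) = d := eq_of_sub_eq_zero ((mul_eq_zero.1 (show ((t : K) + v) * ((c : K) - d) = 0 by
        rw [mul_sub, hc', hd', sub_self])).resolve_left (left_ne_zero_of_mul_eq_one hc'))
      by_cases hsq : s ∈ q.asIdeal
      · refine Or.inr (e2.symm ▸ (PrimeSpectrum.mem_basicOpen tR q).2 fun htq => q.isPrime.ne_top ?_)
        refine (Ideal.eq_top_iff_one _).2 ?_
        have : (tR + s) * (⟨c, c.2, hcd ▸ d.2⟩ : R) = 1 := Subtype.ext hc'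
        rw [← this]
        exact Ideal.mul_mem_right _ _ (Ideal.add_mem _ htq hsq)
      · exact Or.inl (e1.symm ▸ (PrimeSpectrum.mem_basicOpen s q).2 hsq)
    · haveI : IsScalarTower R A K := IsScalarTower.of_algebraMap_eq fun _ => rfl
      haveI : IsScalarTower R B.toSubring K := IsScalarTower.of_algebraMap_eq fun _ => rfl
      haveI : IsLocalization (Algebra.algebraMapSubmonoid B.toSubring (Submonoid.powers s)) K := by
        refine (isLocalization_iff _ K).2 ⟨?_, fun z => ?_, fun {x y} h => ⟨1, by rw [Subtype.ext h]⟩⟩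
        · rintro ⟨_, ⟨_, ⟨n, rfl⟩, rfl⟩⟩
          exact IsUnit.mk0 _ (pow_ne_zero n hv0)
        · obtain ⟨N, hN⟩ := exists_mul_pow_mem B sB hsm hs0 z
          refine ⟨(⟨_, hN N le_rfl⟩, ⟨_, s ^ N, ⟨N, rfl⟩, rfl⟩), ?_⟩
          exact congrArg (z * ·) (by simp [RingHom.algebraMap_toAlgebra]; rfl)
      haveI : Algebra.IsPushout R B.toSubring A K := Algebra.isPushout_of_isLocalization (Submonoid.powers s) A B.toSubring K
      exact (CommRingCat.isPushout_of_isPushout R B.toSubring A K).flip
  · intro hall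
    have hjB : ∀ x : A, x ∈ Ideal.jacobson (⊥ : Ideal A) → (x : K) ∈ B := fun x hx => by
      have := sub_mem (hall _ (hunit x hx)) (one_mem B)
      simpa using this
    have hle : A ≤ B.toSubring := by
      intro a ha
      by_contra haB
      have hinv : a⁻¹ ∈ B := (B.mem_or_inv_mem a).resolve_left haB
      let sB : B := ⟨a⁻¹, hinv⟩
      have ha0 : a ≠ 0 := fun h => haB (h ▸ B.zero_mem)
      have hsm : sB ∈ IsLocalRing.maximalIdeal B := (IsLocalRing.mem_maximalIdeal _).2 fun h => by
        obtain ⟨c, hc⟩ := h.exists_right_inv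
        have hc' : a⁻¹ * (c : K) = 1 := congrArg Subtype.val hc
        exact haB (by rw [show a = (c : K) by rw [← mul_one a, ← hc', mul_inv_cancel_left₀ ha0]]; exact c.2)
      have hs0 : sB ≠ 0 := fun h => inv_ne_zero ha0 (congrArg Subtype.val h)
      obtain ⟨N, hN⟩ := exists_mul_pow_mem B sB hsm hs0 ((j : K)⁻¹)
      -- `j * a ^ n ∈ B` for all `n`, so `a⁻¹` is a unit
      have h2 : ((j * ⟨a, ha⟩ ^ (N + 1) : A) : K) ∈ B := hjB _ (Ideal.mul_mem_right _ _ hj)
      have h1 := mul_mem h2 (hN N le_rfl)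
      have hjK : (j : K) ≠ 0 := fun h => hj0 (Subtype.ext h)
      refine haB ?_
      have e : a = ((j * ⟨a, ha⟩ ^ (N + 1) : A) : K) * ((j : K)⁻¹ * (sB : K) ^ N) := by
        push_cast
        show a = (j : K) * a ^ (N + 1) * ((j : K)⁻¹ * a⁻¹ ^ N)
        rw [mul_comm (j : K), mul_assoc, mul_inv_cancel_left₀ hjK, pow_succ, mul_comm (a ^ N), mul_assoc, ← mul_pow, mul_inv_cancel₀ ha0, one_pow, mul_one]
      rw [e]
      exact h1
    refine ⟨⟨hle, ?_⟩, fun htop => ?_⟩
    · haveI : Ring.KrullDimLE 1 A := Ring.krullDimLE_iff.2 hdim.le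
      refine Ring.krullDimLE_one_iff_of_noZeroDivisors.mp inferInstance _ (fun h0 => ?_) (Ideal.IsPrime.comap _)
      apply IsDiscreteValuationRing.not_isField B
      obtain ⟨π, hπ⟩ := IsDiscreteValuationRing.exists_irreducible B
      exfalso
      obtain ⟨a, b, hb, hab⟩ := IsFractionRing.div_surjective (A := A) (π : K)
      have hu : ∀ y : A, y ≠ 0 → IsUnit (Subring.inclusion hle y) := fun y hy => by
        by_contra h
        exact hy (Ideal.mem_bot.1 (h0 ▸ ((IsLocalRing.mem_maximalIdeal _).2 h : y ∈ Ideal.comap (Subring.inclusion hle) (IsLocalRing.maximalIdeal B))))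
      have ha0 : a ≠ 0 := fun h => hπ.ne_zero (Subtype.ext (by rw [← hab, h, map_zero, zero_div]; rfl))
      refine hπ.not_isUnit (isUnit_of_mul_isUnit_left (y := Subring.inclusion hle b) ?_)
      have : π * Subring.inclusion hle b = Subring.inclusion hle a := Subtype.ext (by
        show (π : K) * (b : K) = (a : K)
        rw [← hab]
        show (a : K) / (b : K) * (b : K) = a
        rw [div_mul_cancel₀]
        exact fun h => nonZeroDivisors.ne_zero hb (Subtype.ext h))
      rw [this]
      exact hu a ha0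
    · rw [sup_eq_right.2 hle] at htop
      obtain ⟨π, hπ⟩ := IsDiscreteValuationRing.exists_irreducible B
      refine hπ.not_isUnit (IsUnit.of_mul_eq_one ⟨(π : K)⁻¹, show (π : K)⁻¹ ∈ B.toSubring from htop ▸ Subring.mem_top _⟩ (Subtype.ext ?_))
      exact mul_inv_cancel₀ fun h => hπ.ne_zero (Subtype.ext h)

end Groth.Agent.S7664
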