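import Groth.Statements.S8259
import Mathlib

set_option autoImplicit false
universe u
open CategoryTheory CategoryTheory.Limits AlgebraicGeometry Opposite TopologicalSpace
open scoped HomogeneousIdeal
open EGA2

namespace Groth.Agent.S8259

/-- The relative homogeneous spectrum Proj(𝒮) of a quasi-coherent positively graded O_Y-algebra 𝒮 is
separated over Y. -/
theorem result {Y P : Scheme.{u}} (𝒮 : RelProj.QCGrAlg Y) (p : P ⟶ Y)
    (chart : ∀ (U : Y.Opens) (hU : IsAffineOpen U), (((p ⁻¹ᵁ U : P.Opens) : Scheme.{u}) ≅ Proj (𝒮.deg U hU)))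
    (hP : RelProj.IsRelProj 𝒮 p chart) : IsSeparated p := by
  refine IsZariskiLocalAtTarget.of_iSup_eq_top (P := @IsSeparated) (fun U : Y.affineOpens => U.1)
    (iSup_affineOpens_eq_top Y) fun U => ?_
  have h : IsSeparated ((p ∣_ U.1) ≫ U.1.ι) := by
    rw [morphismRestrict_ι, ← hP.chart_over U.1 U.2]
    infer_instance
  exact IsSeparated.of_comp (p ∣_ U.1) U.1.ι

end Groth.Agent.S8259
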