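import Groth.Statements.S8260
import Mathlib

set_option autoImplicit false
universe u
open CategoryTheory CategoryTheory.Limits AlgebraicGeometry Opposite TopologicalSpace
open scoped HomogeneousIdeal
open EGA2

namespace Groth.Agent.S8260

/-- If the quasi-coherent positively graded O_Y-algebra 𝒮 is of finite type (over every affine open U of
Y the ring 𝒮(U) is a finitely generated O_Y(U)-algebra), then its relative homogeneous spectrum
Proj(𝒮) is of finite type over Y. -/
theorem result {Y P : Scheme.{u}} (𝒮 : RelProj.QCGrAlg Y)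
    (hft : ∀ (U : Y.Opens) (hU : IsAffineOpen U), (𝒮.str.app (op U)).hom.FiniteType)
    (p : P ⟶ Y)
    (chart : ∀ (U : Y.Opens) (hU : IsAffineOpen U), (((p ⁻¹ᵁ U : P.Opens) : Scheme.{u}) ≅ Proj (𝒮.deg U hU)))
    (hP : RelProj.IsRelProj 𝒮 p chart) : LocallyOfFiniteType p ∧ QuasiCompact p := by
  have key : ∀ U : Y.affineOpens, LocallyOfFiniteType (p ∣_ U.1) ∧ QuasiCompact (p ∣_ U.1) := by
    intro U
    haveI : Algebra.FiniteType (𝒮.deg U.1 U.2 0) (𝒮.presheaf.obj (op U.1)) := by
      have h := hft U.1 U.2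
      have e : (𝒮.str.app (op U.1)).hom =
          (algebraMap (𝒮.deg U.1 U.2 0) (𝒮.presheaf.obj (op U.1))).comp (𝒮.strZero U.1 U.2).hom := rfl
      rw [e] at h
      exact RingHom.finiteType_algebraMap.1 (RingHom.FiniteType.of_comp_finiteType h)
    have h2 : (𝒮.strZero U.1 U.2).hom.FiniteType := by
      let π : 𝒮.presheaf.obj (op U.1) →+* 𝒮.deg U.1 U.2 0 := GradedRing.projZeroRingHom' (𝒮.deg U.1 U.2)
      have e : (𝒮.strZero U.1 U.2).hom = π.comp (𝒮.str.app (op U.1)).hom :=
        RingHom.ext fun r => (GradedRing.projZeroRingHom'_apply_coe (𝒮.deg U.1 U.2) ((𝒮.strZero U.1 U.2).hom r)).symm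
      rw [e]
      exact RingHom.FiniteType.comp (RingHom.FiniteType.of_surjective _ (GradedRing.projZeroRingHom'_surjective _)) (hft U.1 U.2)
    haveI : LocallyOfFiniteType (Spec.map (𝒮.strZero U.1 U.2)) :=
      (HasRingHomProperty.Spec_iff (P := @LocallyOfFiniteType)).2 h2
    have hl : LocallyOfFiniteType ((p ∣_ U.1) ≫ U.1.ι) := by
      rw [morphismRestrict_ι, ← hP.chart_over U.1 U.2]
      infer_instance
    have hq : QuasiCompact ((p ∣_ U.1) ≫ U.2.isoSpec.hom) := by
      have : (p ∣_ U.1) ≫ U.2.isoSpec.hom = (chart U.1 U.2).hom ≫ Proj.toSpecZero (𝒮.deg U.1 U.2) ≫ Spec.map (𝒮.strZero U.1 U.2) := by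
        rw [← cancel_mono U.2.fromSpec]
        simp only [Category.assoc, IsAffineOpen.isoSpec_hom_fromSpec, morphismRestrict_ι]
        exact (hP.chart_over U.1 U.2).symm
      rw [this]
      infer_instance
    exact ⟨locallyOfFiniteType_of_comp (p ∣_ U.1) U.1.ι,
      (MorphismProperty.cancel_right_of_respectsIso (P := @QuasiCompact) _ U.2.isoSpec.hom).1 hq⟩
  exact ⟨IsZariskiLocalAtTarget.of_iSup_eq_top (P := @LocallyOfFiniteType) (fun U : Y.affineOpens => U.1)
      (iSup_affineOpens_eq_top Y) fun U => (key U).1,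
    IsZariskiLocalAtTarget.of_iSup_eq_top (P := @QuasiCompact) (fun U : Y.affineOpens => U.1)
      (iSup_affineOpens_eq_top Y) fun U => (key U).2⟩

end Groth.Agent.S8260
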