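import Groth.Statements.S8261
import Mathlib

set_option autoImplicit false
universe u
open CategoryTheory CategoryTheory.Limits AlgebraicGeometry Opposite TopologicalSpace
open scoped HomogeneousIdeal
open EGA2

namespace Groth.Agent.S8261

theorem away_finiteType {Γ B : Type u} [CommRing Γ] [CommRing B] {σ : Type u} [SetLike σ B] [AddSubgroupClass σ B]
    (𝒜 : ℕ → σ) [GradedRing 𝒜] (str : Γ →+* 𝒜 0) (T : Finset B) (hT : ∀ t ∈ T, t ∈ 𝒜 1)
    (hspan : ∀ x ∈ 𝒜 1, ∃ c : B → Γ, x = ∑ t ∈ T, (str (c t) : B) * t)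
    (hgen : Subring.closure ((𝒜 0 : Set B) ∪ (𝒜 1 : Set B)) = ⊤) {t : B} (ht : t ∈ T) :
    ((HomogeneousLocalization.fromZeroRingHom 𝒜 (Submonoid.powers t)).comp str).FiniteType := by
  classical
  let τ : Γ →+* HomogeneousLocalization.Away 𝒜 t := (HomogeneousLocalization.fromZeroRingHom 𝒜 (Submonoid.powers t)).comp str
  letI := τ.toAlgebra
  let frac : T → HomogeneousLocalization.Away 𝒜 t := fun s =>
    HomogeneousLocalization.Away.mk 𝒜 (hT t ht) 1 s.1 (by rw [one_smul]; exact hT _ s.2)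
  let Q := Algebra.adjoin Γ (Set.range frac)
  let L := Localization.Away t
  let g : ∀ n, 𝒜 n →+ L := fun n =>
    { toFun := fun x => Localization.mk (x : B) ⟨t ^ n, pow_mem (Submonoid.mem_powers t) n⟩
      map_zero' := by rw [ZeroMemClass.coe_zero, Localization.mk_zero]
      map_add' := fun x y => by rw [AddMemClass.coe_add, Localization.add_mk_self] }
  let G : (DirectSum ℕ fun n => 𝒜 n) →+* L := DirectSum.toSemiring g
    (by show Localization.mk (1 : B) _ = 1; rw [← Localization.mk_one]; congr; simp)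
    (fun {i j} x y => by
      show Localization.mk ((x : B) * y) _ = Localization.mk (x : B) _ * Localization.mk (y : B) _
      rw [Localization.mk_mul]
      congr 1
      exact Subtype.ext (pow_add _ _ _))
  let Φ : B →+* L := G.comp (DirectSum.decomposeRingEquiv 𝒜).toRingHom
  have hΦ : ∀ {n : ℕ} {x : B}, x ∈ 𝒜 n → Φ x = Localization.mk x ⟨t ^ n, pow_mem (Submonoid.mem_powers t) n⟩ :=
    fun {n x} hx => by
      show G (DirectSum.decompose 𝒜 x) = _
      rw [DirectSum.decompose_of_mem 𝒜 hx, DirectSum.toSemiring_of]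
      rfl
  let ι : HomogeneousLocalization.Away 𝒜 t →+* L := algebraMap _ _
  have h1 : ∀ x ∈ 𝒜 1, Φ x ∈ Q.toSubring.map ι := by
    intro x hx
    obtain ⟨c, hc⟩ := hspan x hx
    rw [hc, map_sum]
    refine sum_mem fun s hs => ?_
    rw [map_mul]
    refine mul_mem ?_ ?_
    · refine ⟨τ (c s), Q.algebraMap_mem (c s), ?_⟩
      rw [hΦ (str (c s)).2]
      show (τ (c s)).val = _
      simp only [τ, RingHom.comp_apply, pow_zero]
      rfl
    · refine ⟨frac ⟨s, hs⟩, Algebra.subset_adjoin ⟨_, rfl⟩, ?_⟩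
      rw [hΦ (hT s hs)]
      rfl
  have h0 : ∀ x ∈ 𝒜 0, Φ x ∈ Q.toSubring.map ι := by
    intro x hx
    have hxt : x * t ∈ 𝒜 1 := by simpa using SetLike.mul_mem_graded hx (hT t ht)
    have he : Φ x = Φ (x * t) := by
      rw [hΦ hx, hΦ hxt, Localization.mk_eq_mk_iff, Localization.r_iff_exists]
      exact ⟨1, by simp [mul_comm]⟩
    exact he ▸ h1 _ hxt
  have hall : ∀ b, Φ b ∈ Q.toSubring.map ι := fun b => by
    have hb : b ∈ Subring.closure ((𝒜 0 : Set B) ∪ (𝒜 1 : Set B)) := by rw [hgen]; trivial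
    exact (Subring.closure_le (t := (Q.toSubring.map ι).comap Φ)).2 (Set.union_subset h0 h1) hb
  refine ⟨⟨(Finset.univ.image frac), eq_top_iff.2 fun z _ => ?_⟩⟩
  rw [Finset.coe_image, Finset.coe_univ, Set.image_univ]
  obtain ⟨n, a, ha, rfl⟩ := HomogeneousLocalization.Away.mk_surjective 𝒜 (hT t ht) z
  have ha' : a ∈ 𝒜 n := by simpa using ha
  obtain ⟨q, hq, e⟩ := hall a
  rw [hΦ ha'] at e
  have e' : q = HomogeneousLocalization.Away.mk 𝒜 (hT t ht) n a ha :=
    HomogeneousLocalization.val_injective _ (e.trans (HomogeneousLocalization.Away.val_mk _ _ _ _ _).symm)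
  exact e' ▸ hq


/-- Let 𝒮 be a quasi-coherent positively graded O_Y-algebra generated by 𝒮_1 with 𝒮_1 of finite type
over O_Y. Then Proj(𝒮) is of finite type over Y. -/
theorem result {Y P : Scheme.{u}} (𝒮 : RelProj.QCGrAlg Y)
    (hgen : 𝒮.IsGenDegOne) (hft : 𝒮.IsFTDeg 1) (p : P ⟶ Y)
    (chart : ∀ (U : Y.Opens) (hU : IsAffineOpen U), (((p ⁻¹ᵁ U : P.Opens) : Scheme.{u}) ≅ Proj (𝒮.deg U hU)))
    (hP : RelProj.IsRelProj 𝒮 p chart) : LocallyOfFiniteType p ∧ QuasiCompact p := by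
  classical
  have key : ∀ U : Y.affineOpens, LocallyOfFiniteType (p ∣_ U.1) ∧ QuasiCompact (p ∣_ U.1) := by
    intro U
    obtain ⟨T, hT, hspan⟩ := hft U.1 U.2
    let 𝒜 := 𝒮.deg U.1 U.2
    let g : Proj 𝒜 ⟶ Spec Γ(Y, U.1) := Proj.toSpecZero 𝒜 ≫ Spec.map (𝒮.strZero U.1 U.2)
    have hcov : ⨆ t : T, Proj.basicOpen 𝒜 (t : 𝒮.presheaf.obj (op U.1)) = ⊤ :=
      Proj.iSup_basicOpen_eq_top' 𝒜 _ (fun t => ⟨1, hT t.2⟩) (by
        refine eq_top_iff.2 fun b _ => ?_
        have hb : b ∈ Subring.closure ((𝒜 0 : Set (𝒮.presheaf.obj (op U.1))) ∪ (𝒜 1 : Set _)) := by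
          rw [hgen U.1 U.2]; trivial
        refine (Subring.closure_le (t := (Algebra.adjoin (𝒜 0) (Set.range ((↑) : T → 𝒮.presheaf.obj (op U.1)))).toSubring)).2
          (Set.union_subset (fun x hx => Subalgebra.algebraMap_mem (Algebra.adjoin (𝒜 0) (Set.range ((↑) : T → 𝒮.presheaf.obj (op U.1)))) (⟨x, hx⟩ : 𝒜 0)) fun x hx => ?_) hb
        obtain ⟨c, hc⟩ := hspan x hx
        rw [hc]
        exact sum_mem fun s hs => mul_mem (Subalgebra.algebraMap_mem _ ((𝒮.strZero U.1 U.2).hom (c s)))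
          (Algebra.subset_adjoin ⟨⟨s, hs⟩, rfl⟩))
    haveI hlft : LocallyOfFiniteType g := by
      rw [IsZariskiLocalAtSource.iff_of_iSup_eq_top (P := @LocallyOfFiniteType) _ hcov]
      intro t
      rw [← MorphismProperty.cancel_left_of_respectsIso (P := @LocallyOfFiniteType)
        (Proj.basicOpenIsoSpec 𝒜 (t : 𝒮.presheaf.obj (op U.1)) (hT t.2) Nat.one_pos).inv, ← Category.assoc,
        ← Proj.awayι, Proj.awayι_toSpecZero_assoc, ← Spec.map_comp, HasRingHomProperty.Spec_iff (P := @LocallyOfFiniteType)]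
      exact away_finiteType 𝒜 (𝒮.strZero U.1 U.2).hom T (fun s hs => hT hs) hspan (hgen U.1 U.2) t.2
    haveI hqc : QuasiCompact g := by
      rw [HasAffineProperty.iff_of_isAffine (P := @QuasiCompact)]
      refine isCompact_univ_iff.1 ?_
      have h := congrArg (fun W : (Proj 𝒜).Opens => (W : Set (Proj 𝒜))) hcov
      simp only [TopologicalSpace.Opens.coe_iSup, TopologicalSpace.Opens.coe_top] at h
      rw [← h]
      exact isCompact_iUnion fun t => (Proj.isAffineOpen_basicOpen 𝒜 _ (hT t.2) Nat.one_pos).isCompact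
    have heq : (p ∣_ U.1) ≫ U.2.isoSpec.hom = (chart U.1 U.2).hom ≫ g := by
      rw [← cancel_mono U.2.fromSpec]
      simp only [g, Category.assoc, IsAffineOpen.isoSpec_hom_fromSpec, morphismRestrict_ι]
      exact (hP.chart_over U.1 U.2).symm
    exact ⟨(MorphismProperty.cancel_right_of_respectsIso (P := @LocallyOfFiniteType) _ U.2.isoSpec.hom).1
        (by rw [heq]; infer_instance),
      (MorphismProperty.cancel_right_of_respectsIso (P := @QuasiCompact) _ U.2.isoSpec.hom).1 (by rw [heq]; infer_instance)⟩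
  exact ⟨IsZariskiLocalAtTarget.of_iSup_eq_top (P := @LocallyOfFiniteType) (fun U : Y.affineOpens => U.1)
      (iSup_affineOpens_eq_top Y) fun U => (key U).1,
    IsZariskiLocalAtTarget.of_iSup_eq_top (P := @QuasiCompact) (fun U : Y.affineOpens => U.1)
      (iSup_affineOpens_eq_top Y) fun U => (key U).2⟩

end Groth.Agent.S8261
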