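import Groth.Statements.S8264
import Mathlib

set_option autoImplicit false
universe u
open CategoryTheory CategoryTheory.Limits AlgebraicGeometry Opposite TopologicalSpace
open scoped HomogeneousIdeal
open EGA2

namespace Groth.Agent.S8264

theorem proj_isReduced {σ A : Type u} [CommRing A] [SetLike σ A] [AddSubgroupClass σ A] (𝒜 : ℕ → σ) [GradedRing 𝒜]
    (hred : ∀ f ∈ (HomogeneousIdeal.irrelevant 𝒜).toIdeal, IsNilpotent f → f = 0) :
    AlgebraicGeometry.IsReduced (Proj 𝒜) := by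
  rw [IsReduced.iff_of_openCover _ (Proj.affineOpenCover 𝒜).openCover]
  rintro ⟨d, f⟩
  show AlgebraicGeometry.IsReduced (Spec (CommRingCat.of (HomogeneousLocalization.Away 𝒜 (f : A))))
  haveI : _root_.IsReduced (HomogeneousLocalization.Away 𝒜 (f : A)) := ⟨fun x ⟨k, hk⟩ => by
    obtain ⟨n, a, ha, rfl⟩ := HomogeneousLocalization.Away.mk_surjective 𝒜 f.2 x
    apply HomogeneousLocalization.val_injective
    have hk' := congrArg HomogeneousLocalization.val hk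
    rw [HomogeneousLocalization.val_pow, HomogeneousLocalization.Away.val_mk, HomogeneousLocalization.val_zero,
      Localization.mk_pow, Localization.mk_eq_mk', IsLocalization.mk'_eq_zero_iff] at hk'
    obtain ⟨⟨_, j, rfl⟩, hj⟩ := hk'
    have hfa : (f : A) * a = 0 := by
      refine hred _ (Ideal.mul_mem_right _ _ (HomogeneousIdeal.mem_irrelevant_of_mem _ d.2 f.2)) ⟨j + k, ?_⟩
      calc ((f : A) * a) ^ (j + k) = ((f : A) ^ j * a ^ k) * ((f : A) ^ k * a ^ j) := by ring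
        _ = 0 := by rw [hj, zero_mul]
    rw [HomogeneousLocalization.Away.val_mk, HomogeneousLocalization.val_zero, Localization.mk_eq_mk',
      IsLocalization.mk'_eq_zero_iff]
    exact ⟨⟨f, 1, pow_one _⟩, hfa⟩⟩
  infer_instance

theorem proj_generic {σ A : Type u} [CommRing A] [IsDomain A] [SetLike σ A] [AddSubgroupClass σ A] (𝒜 : ℕ → σ) [GradedRing 𝒜]
    (hne : (HomogeneousIdeal.irrelevant 𝒜).toIdeal ≠ ⊥) : ∃ η : Proj 𝒜, ∀ x : Proj 𝒜, η ⤳ x := by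
  let η : ProjectiveSpectrum 𝒜 := ⟨⊥, Ideal.isPrime_bot, fun h => hne (le_bot_iff.1 h)⟩
  refine ⟨η, fun x => ?_⟩
  exact specializes_iff_mem_closure.2 ((ProjectiveSpectrum.le_iff_mem_closure 𝒜 η x).1 (bot_le : (⊥ : Ideal A) ≤ _))


/-- Let Y be an integral scheme and 𝒮 a quasi-coherent positively graded O_Y-algebra with 𝒮_0 = O_Y
which is integral, stated here affine-locally: over every nonempty affine open U the ring 𝒮(U) is an
integral domain whose irrelevant ideal is nonzero (for Y integral this is equivalent to the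
stalkwise condition of the published text: every stalk 𝒮_y an integral domain with (𝒮_y)_+ ≠ 0).
Then Proj(𝒮) is integral and its structure morphism to Y is dominant. -/
theorem result {Y P : Scheme.{u}} [IsIntegral Y] (𝒮 : RelProj.QCGrAlg Y)
    (h0 : ∀ (U : Y.Opens) (hU : IsAffineOpen U), Function.Bijective (𝒮.strZero U hU).hom)
    (hint : ∀ (U : Y.Opens) (hU : IsAffineOpen U), (U : Set Y).Nonempty →
      IsDomain (𝒮.presheaf.obj (op U)) ∧ ((𝒮.deg U hU)₊).toIdeal ≠ ⊥)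
    (p : P ⟶ Y)
    (chart : ∀ (U : Y.Opens) (hU : IsAffineOpen U), (((p ⁻¹ᵁ U : P.Opens) : Scheme.{u}) ≅ Proj (𝒮.deg U hU)))
    (hP : RelProj.IsRelProj 𝒮 p chart) : IsIntegral P ∧ DenseRange p.base := by
  have hgen : ∀ (U : Y.Opens) (hU : IsAffineOpen U), (U : Set Y).Nonempty →
      ∃ η : P, η ∈ p ⁻¹ᵁ U ∧ ∀ x ∈ p ⁻¹ᵁ U, η ⤳ x := by
    intro U hU hne
    haveI := (hint U hU hne).1
    obtain ⟨η, hη⟩ := proj_generic (𝒮.deg U hU) (hint U hU hne).2
    refine ⟨((chart U hU).inv ≫ (p ⁻¹ᵁ U).ι).base η, ((chart U hU).inv.base η).2, fun x hx => ?_⟩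
    have : x = ((chart U hU).inv ≫ (p ⁻¹ᵁ U).ι).base ((chart U hU).hom.base ⟨x, hx⟩) := by
      rw [← Scheme.Hom.comp_apply, ← Category.assoc, Iso.hom_inv_id, Category.id_comp]
      rfl
    rw [this]
    exact (hη _).map ((chart U hU).inv ≫ (p ⁻¹ᵁ U).ι).continuous
  obtain ⟨W₀, hW₀, hyW, -⟩ := exists_isAffineOpen_mem_and_subset (X := Y) (x := genericPoint Y) (U := ⊤) trivial
  obtain ⟨η, hη, -⟩ := hgen W₀ hW₀ ⟨_, hyW⟩
  haveI : Nonempty P := ⟨η⟩
  haveI : AlgebraicGeometry.IsReduced P := by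
    haveI : ∀ U : Y.affineOpens, AlgebraicGeometry.IsReduced ((p ⁻¹ᵁ U.1 : P.Opens) : Scheme.{u}) := fun U => by
      by_cases hne : (U.1 : Set Y).Nonempty
      · haveI := (hint U.1 U.2 hne).1
        haveI := proj_isReduced (𝒮.deg U.1 U.2) fun f _ hf => hf.eq_zero
        exact isReduced_of_isOpenImmersion (chart U.1 U.2).hom
      · haveI hE : IsEmpty ((p ⁻¹ᵁ U.1 : P.Opens) : Scheme.{u}) := ⟨fun x => hne ⟨_, x.2⟩⟩
        haveI : ∀ z : ((p ⁻¹ᵁ U.1 : P.Opens) : Scheme.{u}), _root_.IsReduced (((p ⁻¹ᵁ U.1 : P.Opens) : Scheme.{u}).presheaf.stalk z) := fun z => (hE.false z).elim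
        exact isReduced_of_isReduced_stalk _
    have hc : ⨆ U : Y.affineOpens, p ⁻¹ᵁ U.1 = ⊤ := by
      rw [← Scheme.Hom.preimage_iSup, iSup_affineOpens_eq_top, Scheme.Hom.preimage_top]
    rw [IsReduced.iff_of_openCover _ (P.openCoverOfIsOpenCover _ hc)]
    exact fun U => this U
  haveI : PreirreducibleSpace P := ⟨fun o₁ o₂ ho₁ ho₂ ⟨a, _, ha⟩ ⟨b, _, hb⟩ => by
    obtain ⟨U, hU, haU, -⟩ := exists_isAffineOpen_mem_and_subset (X := Y) (x := p.base a) (U := ⊤) trivial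
    obtain ⟨V, hV, hbV, -⟩ := exists_isAffineOpen_mem_and_subset (X := Y) (x := p.base b) (U := ⊤) trivial
    obtain ⟨y, hy⟩ := nonempty_preirreducible_inter U.2 V.2 ⟨_, haU⟩ ⟨_, hbV⟩
    obtain ⟨W, hW, hyW', hWUV⟩ := exists_isAffineOpen_mem_and_subset (X := Y) (x := y) (U := U ⊓ V) hy
    obtain ⟨ηU, -, hU'⟩ := hgen U hU ⟨_, haU⟩
    obtain ⟨ηV, -, hV'⟩ := hgen V hV ⟨_, hbV⟩
    obtain ⟨ηW, hηW, hW'⟩ := hgen W hW ⟨_, hyW'⟩
    have h1 : ηU ∈ p ⁻¹ᵁ W := (hU' ηW (hWUV hηW).1).mem_open (p ⁻¹ᵁ W).2 hηW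
    have h2 : ηV ∈ p ⁻¹ᵁ W := (hV' ηW (hWUV hηW).2).mem_open (p ⁻¹ᵁ W).2 hηW
    refine ⟨ηW, trivial, ?_, ?_⟩
    · exact (hW' ηU h1).mem_open ho₁ ((hU' a haU).mem_open ho₁ ha)
    · exact (hW' ηV h2).mem_open ho₂ ((hV' b hbV).mem_open ho₂ hb)⟩
  haveI : IrreducibleSpace P := ⟨‹_›⟩
  refine ⟨isIntegral_of_irreducibleSpace_of_isReduced P, fun y => mem_closure_iff.2 fun o ho hy => ?_⟩
  obtain ⟨W, hW, hyW, hWo⟩ := exists_isAffineOpen_mem_and_subset (X := Y) (x := y) (U := ⟨o, ho⟩) hy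
  obtain ⟨x, hx, -⟩ := hgen W hW ⟨_, hyW⟩
  exact ⟨p.base x, hWo hx, ⟨x, rfl⟩⟩

end Groth.Agent.S8264
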