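import Groth.Statements.S8266
import Mathlib

set_option autoImplicit false
universe u
open CategoryTheory CategoryTheory.Limits AlgebraicGeometry Opposite TopologicalSpace
open scoped HomogeneousIdeal
open EGA2

namespace Groth.Agent.S8266

theorem proj_isReduced {σ A : Type u} [CommRing A] [SetLike σ A] [AddSubgroupClass σ A] (𝒜 : ℕ → σ) [GradedRing 𝒜]
    (hred : ∀ f ∈ (HomogeneousIdeal.irrelevant 𝒜).toIdeal, IsNilpotent f → f = 0) :
    AlgebraicGeometry.IsReduced (Proj 𝒜) := by
  rw [IsReduced.iff_of_openCover _ (Proj.affineOpenCover 𝒜).openCover]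
  rintro ⟨d, f⟩
  show AlgebraicGeometry.IsReduced (Spec (CommRingCat.of (HomogeneousLocalization.Away 𝒜 (f : A))))
  haveI : _root_.IsReduced (HomogeneousLocalization.Away 𝒜 (f : A)) := ⟨fun x ⟨k, hk⟩ => by
    obtain ⟨n, a, ha, rfl⟩ := HomogeneousLocalization.Away.mk_surjective 𝒜 f.2 x
    apply HomogeneousLocalization.val_injective
    have hk' := congrArg HomogeneousLocalization.val hk
    rw [HomogeneousLocalization.val_pow, HomogeneousLocalization.Away.val_mk, HomogeneousLocalization.val_zero,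
      Localization.mk_pow, Localization.mk_eq_mk', IsLocalization.mk'_eq_zero_iff] at hk'
    obtain ⟨⟨_, j, rfl⟩, hj⟩ := hk'
    have hfa : (f : A) * a = 0 := by
      refine hred _ (Ideal.mul_mem_right _ _ (HomogeneousIdeal.mem_irrelevant_of_mem _ d.2 f.2)) ⟨j + k, ?_⟩
      calc ((f : A) * a) ^ (j + k) = ((f : A) ^ j * a ^ k) * ((f : A) ^ k * a ^ j) := by ring
        _ = 0 := by rw [hj, zero_mul]
    rw [HomogeneousLocalization.Away.val_mk, HomogeneousLocalization.val_zero, Localization.mk_eq_mk',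
      IsLocalization.mk'_eq_zero_iff]
    exact ⟨⟨f, 1, pow_one _⟩, hfa⟩⟩
  infer_instance


/-- If the quasi-coherent positively graded O_Y-algebra 𝒮 is essentially reduced (affine-locally, no
nonzero nilpotent element in the irrelevant ideal), then Proj(𝒮) is reduced. -/
theorem result {Y P : Scheme.{u}} (𝒮 : RelProj.QCGrAlg Y)
    (hred : ∀ (U : Y.Opens) (hU : IsAffineOpen U) (x : 𝒮.presheaf.obj (op U)),
      x ∈ (𝒮.deg U hU)₊ → IsNilpotent x → x = 0)
    (p : P ⟶ Y)
    (chart : ∀ (U : Y.Opens) (hU : IsAffineOpen U), (((p ⁻¹ᵁ U : P.Opens) : Scheme.{u}) ≅ Proj (𝒮.deg U hU)))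
    (hP : RelProj.IsRelProj 𝒮 p chart) : IsReduced P := by
  haveI : ∀ U : Y.affineOpens, IsReduced ((p ⁻¹ᵁ U.1 : P.Opens) : Scheme.{u}) := fun U => by
    haveI := proj_isReduced (𝒮.deg U.1 U.2) (hred U.1 U.2)
    exact isReduced_of_isOpenImmersion (chart U.1 U.2).hom
  have hc : ⨆ U : Y.affineOpens, p ⁻¹ᵁ U.1 = ⊤ := by
    rw [← Scheme.Hom.preimage_iSup, iSup_affineOpens_eq_top, Scheme.Hom.preimage_top]
  rw [IsReduced.iff_of_openCover _ (P.openCoverOfIsOpenCover _ hc)]
  exact fun U => this U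

end Groth.Agent.S8266
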