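import Groth.Statements.S8272
import Mathlib

set_option autoImplicit false
universe u
open CategoryTheory CategoryTheory.Limits AlgebraicGeometry Opposite TopologicalSpace
open EGA2

namespace Groth.Agent.S8272

/-- Let T be a positively graded ring, Z = Proj T and g ∈ T_d (d > 0) a homogeneous element that is not
a zero divisor in T. Then Z is the smallest closed subscheme of Z containing the open D_+(g);
equivalently the kernel (ideal sheaf) of the open immersion D_+(g) → Z vanishes. -/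
theorem result {R A : Type u} [CommRing R] [CommRing A] [Algebra R A]
    (𝒜 : ℕ → Submodule R A) [GradedAlgebra 𝒜] {d : ℕ} (hd : 0 < d) (g : A) (hg : g ∈ 𝒜 d)
    (hnz : g ∈ nonZeroDivisors A) :
    (Proj.basicOpen 𝒜 g).ι.ker = ⊥ := by
  classical
  let U : (Σ i : PNat, 𝒜 i) → (Proj 𝒜).affineOpens := fun s =>
    ⟨Proj.basicOpen 𝒜 (s.2 : A), Proj.isAffineOpen_basicOpen 𝒜 _ s.2.2 s.1.2⟩
  have hU : ⨆ s, (U s).1 = ⊤ := Proj.iSup_basicOpen_eq_top 𝒜 (fun s : Σ i : PNat, 𝒜 i => (s.2 : A)) (by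
    intro z hz
    rw [← DirectSum.sum_support_decompose 𝒜 z]
    refine Ideal.sum_mem _ fun c _ => ?_
    rcases c.eq_zero_or_pos with rfl | hc
    · rw [show (DirectSum.decompose 𝒜 z 0 : A) = 0 from (HomogeneousIdeal.mem_irrelevant_iff 𝒜 z).1 hz]
      exact zero_mem _
    · exact Ideal.subset_span ⟨⟨⟨c, hc⟩, _⟩, rfl⟩)
  refine Scheme.IdealSheafData.ext_of_iSup_eq_top U hU fun s => ?_
  rw [Scheme.IdealSheafData.ideal_bot, Pi.bot_apply, eq_bot_iff]
  refine (Scheme.Hom.ideal_ker_le _ _).trans ?_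
  intro t ht
  rw [RingHom.mem_ker, Scheme.Opens.ι_app] at ht
  obtain ⟨a, rfl⟩ := ((ConcreteCategory.isIso_iff_bijective _).1
    (Proj.basicOpenIsoAway 𝒜 (s.2 : A) s.2.2 s.1.2).isIso_hom).2 t
  rw [Proj.basicOpenIsoAway_hom] at ht ⊢
  have hle : Proj.basicOpen 𝒜 ((s.2 : A) * g) ≤
      (Proj.basicOpen 𝒜 g).ι ''ᵁ (Proj.basicOpen 𝒜 g).ι ⁻¹ᵁ (U s).1 := by
    rw [Scheme.Hom.image_preimage_eq_opensRange_inf, Scheme.Opens.opensRange_ι, Proj.basicOpen_mul]
    exact le_of_eq (inf_comm _ _)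
  have hx : ((s.2 : A) * g) = (s.2 : A) * g := rfl
  have h2 := congrArg (fun m => (CommRingCat.Hom.hom m) a) (Proj.awayMap_awayToSection 𝒜 (f := (s.2 : A)) hg hx)
  simp only [CommRingCat.hom_comp, RingHom.comp_apply, CommRingCat.hom_ofHom] at h2
  have h3 : (Proj.awayToSection 𝒜 ((s.2 : A) * g)).hom (HomogeneousLocalization.awayMap 𝒜 hg hx a) = 0 := by
    rw [h2]
    have h4 := congrArg ((Proj 𝒜).presheaf.map (homOfLE hle).op).hom ht
    erw [map_zero, ← RingHom.comp_apply, ← CommRingCat.hom_comp, ← Functor.map_comp] at h4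
    exact h4
  have h5 : HomogeneousLocalization.awayMap 𝒜 hg hx a = 0 := by
    have hb := ((ConcreteCategory.isIso_iff_bijective _).1
      (Proj.basicOpenIsoAway 𝒜 ((s.2 : A) * g) (SetLike.mul_mem_graded s.2.2 hg) (Nat.add_pos_left s.1.2 d)).isIso_hom).1
    rw [Proj.basicOpenIsoAway_hom] at hb
    exact hb (by rw [map_zero]; exact h3)
  suffices a = 0 by rw [Submodule.mem_bot, this, map_zero]
  obtain ⟨n, b, hb, rfl⟩ := HomogeneousLocalization.Away.mk_surjective 𝒜 s.2.2 a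
  apply HomogeneousLocalization.val_injective
  have h6 := congrArg HomogeneousLocalization.val h5
  erw [HomogeneousLocalization.val_awayMap_mk] at h6
  rw [HomogeneousLocalization.val_zero, Localization.mk_eq_mk', IsLocalization.mk'_eq_zero_iff] at h6
  obtain ⟨⟨_, k, rfl⟩, hk⟩ := h6
  rw [HomogeneousLocalization.Away.val_mk, HomogeneousLocalization.val_zero, Localization.mk_eq_mk',
    IsLocalization.mk'_eq_zero_iff]
  refine ⟨⟨_, k, rfl⟩, ?_⟩
  have h7 : ((s.2 : A) ^ k * b) * g ^ (k + n) = 0 := by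
    calc ((s.2 : A) ^ k * b) * g ^ (k + n) = ((s.2 : A) * g) ^ k * (b * g ^ n) := by ring
      _ = 0 := hk
  exact (mul_right_mem_nonZeroDivisors_eq_zero_iff (pow_mem hnz (k + n))).1 h7

end Groth.Agent.S8272
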