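import Groth.Statements.S8274
import Mathlib

set_option autoImplicit false
universe u
open CategoryTheory CategoryTheory.Limits AlgebraicGeometry Opposite TopologicalSpace
open scoped HomogeneousIdeal
open EGA2

namespace Groth.Agent.S8274

/-- Let 𝒮 be a quasi-coherent positively graded O_Y-algebra, P = Proj(𝒮) with structure morphism p and
charts, and f a global section of 𝒮 homogeneous of degree d > 0. There is an open subset X_f of P
such that for every affine open U of Y, X_f ∩ p⁻¹(U) is the open D_+(f|U) of Proj 𝒮(U) transported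
by the chart; moreover X_f is affine over Y. (The identification of X_f with the spectrum of a
quotient of the d-th Veronese algebra is not stated here.) -/
theorem result {Y P : Scheme.{u}} (𝒮 : RelProj.QCGrAlg Y) (p : P ⟶ Y)
    (chart : ∀ (U : Y.Opens) (hU : IsAffineOpen U), (((p ⁻¹ᵁ U : P.Opens) : Scheme.{u}) ≅ Proj (𝒮.deg U hU)))
    (hP : RelProj.IsRelProj 𝒮 p chart) {d : ℕ} (hd : 0 < d) (f : 𝒮.presheaf.obj (op ⊤))
    (hf : ∀ (U : Y.Opens) (hU : IsAffineOpen U), (𝒮.presheaf.map (homOfLE le_top).op).hom f ∈ 𝒮.deg U hU d) :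
    ∃ Xf : P.Opens,
      (∀ (U : Y.Opens) (hU : IsAffineOpen U),
        Xf ⊓ p ⁻¹ᵁ U =
          (p ⁻¹ᵁ U).ι ''ᵁ ((chart U hU).hom ⁻¹ᵁ
            Proj.basicOpen (𝒮.deg U hU) ((𝒮.presheaf.map (homOfLE le_top).op).hom f))) ∧
      IsAffineHom (Xf.ι ≫ p) := by
  let fU : ∀ (U : Y.Opens), 𝒮.presheaf.obj (op U) := fun U => (𝒮.presheaf.map (homOfLE le_top).op).hom f
  let Q : ∀ (U : Y.Opens) (hU : IsAffineOpen U), P.Opens := fun U hU =>
    (p ⁻¹ᵁ U).ι ''ᵁ ((chart U hU).hom ⁻¹ᵁ Proj.basicOpen (𝒮.deg U hU) (fU U))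
  have hQle : ∀ U hU, Q U hU ≤ p ⁻¹ᵁ U := fun U hU => by
    rintro _ ⟨z, -, rfl⟩
    exact z.2
  have hres : ∀ (U : Y.Opens) (hU : IsAffineOpen U) (r : Γ(Y, U)) (x : P), x ∈ p ⁻¹ᵁ Y.basicOpen r →
      (x ∈ Q U hU ↔ x ∈ Q (Y.basicOpen r) (hU.basicOpen r)) := by
    intro U hU r x hx
    have hxU : x ∈ p ⁻¹ᵁ U := p.preimage_mono (Y.basicOpen_le r) hx
    have e1 : x ∈ Q U hU ↔ (chart U hU).hom.base ⟨x, hxU⟩ ∈ Proj.basicOpen (𝒮.deg U hU) (fU U) := by
      constructor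
      · rintro ⟨z, hz, he⟩
        obtain rfl : z = ⟨x, hxU⟩ := Subtype.ext he
        exact hz
      · exact fun h => ⟨_, h, rfl⟩
    have e2 : x ∈ Q (Y.basicOpen r) (hU.basicOpen r) ↔
        (chart (Y.basicOpen r) (hU.basicOpen r)).hom.base ⟨x, hx⟩ ∈
          Proj.basicOpen (𝒮.deg (Y.basicOpen r) (hU.basicOpen r)) (fU (Y.basicOpen r)) := by
      constructor
      · rintro ⟨z, hz, he⟩
        obtain rfl : z = ⟨x, hx⟩ := Subtype.ext he
        exact hz
      · exact fun h => ⟨_, h, rfl⟩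
    have h3 := congrArg (fun m : ((p ⁻¹ᵁ Y.basicOpen r : P.Opens) : Scheme.{u}) ⟶ Proj (𝒮.deg U hU) => m.base ⟨x, hx⟩)
      (hP.chart_res U hU r)
    simp only [Scheme.Hom.comp_apply] at h3
    have h4 : 𝒮.res hU (hU.basicOpen r) (Y.basicOpen_le r) (fU U) = fU (Y.basicOpen r) := by
      rw [RelProj.QCGrAlg.res_apply]
      simp only [fU]
      rw [← RingHom.comp_apply, ← CommRingCat.hom_comp, ← Functor.map_comp]
      rfl
    rw [e1, e2, ← h4, ← Proj.map_preimage_basicOpen _ (𝒮.irrelevant_le_map U hU r), Scheme.Hom.mem_preimage, ← h3]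
    rw [show (P.homOfLE (p.preimage_mono (Y.basicOpen_le r))).base ⟨x, hx⟩ = ⟨x, hxU⟩ from Subtype.ext (by simp)]
  refine ⟨⨆ U : Y.affineOpens, Q U.1 U.2, fun U hU => le_antisymm ?_ ?_, ?_⟩
  · intro x hx
    obtain ⟨V, hxV⟩ := TopologicalSpace.Opens.mem_iSup.1 hx.1
    show x ∈ Q U hU
    obtain ⟨r, s, e, hr⟩ := exists_basicOpen_le_affine_inter hU V.2 (p.base x) ⟨hx.2, hQle _ _ hxV⟩
    have key : ∀ (W : Y.Opens) (hW : IsAffineOpen W) (W' : Y.Opens) (hW' : IsAffineOpen W'), W = W' → (x ∈ Q W hW ↔ x ∈ Q W' hW') := by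
      rintro W hW W' hW' rfl
      rfl
    rw [hres U hU r x hr, key _ (hU.basicOpen r) _ (V.2.basicOpen s) e, ← hres V.1 V.2 s x (show p.base x ∈ Y.basicOpen s from e ▸ hr)]
    exact hxV
  · intro x hx
    exact ⟨TopologicalSpace.Opens.mem_iSup.2 ⟨⟨U, hU⟩, hx⟩, hQle U hU hx⟩
  · refine isAffineHom_of_forall_exists_isAffineOpen _ fun y => ?_
    obtain ⟨U, hU, hyU, -⟩ := exists_isAffineOpen_mem_and_subset (X := Y) (x := y) (U := ⊤) trivial
    refine ⟨U, hyU, hU, ?_⟩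
    rw [Scheme.Hom.comp_preimage]
    refine (Scheme.Opens.ι _).isAffineOpen_iff_of_isOpenImmersion.1 ?_
    rw [Scheme.Hom.image_preimage_eq_opensRange_inf, Scheme.Opens.opensRange_ι,
      show (⨆ U : Y.affineOpens, Q U.1 U.2) ⊓ p ⁻¹ᵁ U = Q U hU from le_antisymm (by
        intro x hx
        obtain ⟨V, hxV⟩ := TopologicalSpace.Opens.mem_iSup.1 hx.1
        show x ∈ Q U hU
        obtain ⟨r, s, e, hr⟩ := exists_basicOpen_le_affine_inter hU V.2 (p.base x) ⟨hx.2, hQle _ _ hxV⟩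
        have key : ∀ (W : Y.Opens) (hW : IsAffineOpen W) (W' : Y.Opens) (hW' : IsAffineOpen W'), W = W' → (x ∈ Q W hW ↔ x ∈ Q W' hW') := by
          rintro W hW W' hW' rfl
          rfl
        rw [hres U hU r x hr, key _ (hU.basicOpen r) _ (V.2.basicOpen s) e, ← hres V.1 V.2 s x (show p.base x ∈ Y.basicOpen s from e ▸ hr)]
        exact hxV) fun x hx => ⟨TopologicalSpace.Opens.mem_iSup.2 ⟨⟨U, hU⟩, hx⟩, hQle U hU hx⟩]
    refine (p ⁻¹ᵁ U).ι.isAffineOpen_iff_of_isOpenImmersion.2 ?_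
    have hmem : fU U ∈ 𝒮.deg U hU d := hf U hU
    exact (Proj.isAffineOpen_basicOpen (𝒮.deg U hU) _ hmem hd).preimage (chart U hU).hom

end Groth.Agent.S8274
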