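import Groth.Statements.S8275
import Mathlib
import Groth.Agent.Lib.LGrGen

set_option autoImplicit false
universe u
open EGA2

namespace Groth.Agent.S8275

/-- For a positively graded ring S and the graded ring S♮ with S♮_n = S_{≥ n} = ⊕_{m ≥ n} S_m (presented
here as a graded ring S' with an injective algebra homomorphism φ : S' → S[X] carrying S'_n onto
S_{≥ n}·X^n for every n, so that S'_0 is identified with S): S♮ is of finite type over S♮_0 = S if
and only if S is of finite type over S_0. -/
theorem result {R A B : Type u} [CommRing R] [CommRing A] [Algebra R A]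
    (𝒜 : ℕ → Submodule R A) [GradedAlgebra 𝒜] [CommRing B] [Algebra R B] (ℬ : ℕ → Submodule R B) [GradedAlgebra ℬ]
    (φ : B →ₐ[R] Polynomial A) (hφ : Function.Injective φ)
    (hdeg : ∀ n : ℕ, Submodule.map φ.toLinearMap (ℬ n) =
      Submodule.map ((Polynomial.monomial n : A →ₗ[A] Polynomial A).restrictScalars R) (⨆ (m : ℕ) (_ : n ≤ m), 𝒜 m)) :
    Algebra.FiniteType (ℬ 0) B ↔ Algebra.FiniteType (𝒜 0) A := by
  classical
  let ev : Polynomial A →+* A := Polynomial.constantCoeff
  let I : ℕ → Submodule R A := fun n => ⨆ (m : ℕ) (_ : n ≤ m), 𝒜 m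
  have hI : ∀ n a, (a ∈ I n) → ∃ b ∈ ℬ n, φ b = Polynomial.monomial n a := fun n a ha => by
    have : Polynomial.monomial n a ∈ Submodule.map φ.toLinearMap (ℬ n) := by
      rw [hdeg n]
      exact ⟨a, ha, rfl⟩
    exact this
  have htop : ∀ a : A, a ∈ I 0 := fun a => by
    rw [← DirectSum.sum_support_decompose 𝒜 a]
    exact sum_mem fun m _ => Submodule.mem_iSup_of_mem m (Submodule.mem_iSup_of_mem (Nat.zero_le m) (Subtype.mem _))
  constructor
  · intro hB
    refine LGrGen.finiteType_of_fg 𝒜 ?_
    obtain ⟨s, hs, hspan⟩ := LGrGen.exists_homogeneous ℬ (LGrGen.fg_of_finiteType ℬ)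
    let E : B →+* A := (Polynomial.evalRingHom (1 : A)).comp φ.toRingHom
    refine ⟨s.image E, le_antisymm ?_ ?_⟩
    · refine Submodule.span_le.2 ?_
      rw [Finset.coe_image]
      rintro _ ⟨b, hb, rfl⟩
      obtain ⟨n, hn, hbn⟩ := hs b hb
      have h : φ b ∈ Submodule.map φ.toLinearMap (ℬ n) := ⟨b, hbn, rfl⟩
      rw [hdeg n] at h
      obtain ⟨a, ha, e⟩ := h
      have hE : E b = a := by
        show Polynomial.eval 1 (φ b) = a
        rw [← e]
        simp
      rw [hE]
      let K : Submodule R A := ((HomogeneousIdeal.irrelevant 𝒜).toIdeal).restrictScalars R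
      exact (iSup₂_le fun m hm => fun x hx => HomogeneousIdeal.mem_irrelevant_of_mem _ (lt_of_lt_of_le hn hm) hx : I n ≤ K) ha
    · intro a ha
      rw [Finset.coe_image, ← Ideal.map_span]
      rw [← DirectSum.sum_support_decompose 𝒜 a]
      refine sum_mem fun m _ => ?_
      rcases m.eq_zero_or_pos with rfl | hm
      · rw [show (DirectSum.decompose 𝒜 a 0 : A) = 0 from (HomogeneousIdeal.mem_irrelevant_iff 𝒜 a).1 ha]
        exact zero_mem _
      obtain ⟨b, hb, e⟩ := hI 1 _ (Submodule.mem_iSup_of_mem m (Submodule.mem_iSup_of_mem hm (Subtype.mem (DirectSum.decompose 𝒜 a m))))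
      have hE : E b = (DirectSum.decompose 𝒜 a m : A) := by
        show Polynomial.eval 1 (φ b) = _
        rw [e]
        simp
      rw [← hE]
      exact Ideal.mem_map_of_mem E (hspan.le (HomogeneousIdeal.mem_irrelevant_of_mem _ one_pos hb))
  · intro hA
    obtain ⟨s, hs, hspan⟩ := LGrGen.exists_homogeneous 𝒜 (LGrGen.fg_of_finiteType 𝒜)
    choose! d hd hed using hs
    let T : Set (Polynomial A) := ⋃ e ∈ (s : Set A), (fun k => Polynomial.monomial k e) '' (Set.Iic (d e))
    have hT : T.Finite := Set.Finite.biUnion s.finite_toSet fun e _ => (Set.finite_Iic _).image _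
    have hmem : ∀ n, ∀ m, n ≤ m → ∀ a ∈ 𝒜 m, Polynomial.monomial n a ∈ Algebra.adjoin A T := by
      intro n
      induction n using Nat.strong_induction_on with
      | _ n ih =>
        intro m hnm a ha
        rcases n.eq_zero_or_pos with rfl | hn
        · exact Subalgebra.algebraMap_mem _ a
        have hirr : a ∈ Ideal.span (s : Set A) := by
          rw [← hspan]
          exact HomogeneousIdeal.mem_irrelevant_of_mem _ (lt_of_lt_of_le hn hnm) ha
        suffices ∀ x ∈ Ideal.span (s : Set A), Polynomial.monomial n (DirectSum.decompose 𝒜 x m : A) ∈ Algebra.adjoin A T by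
          simpa [DirectSum.decompose_of_mem_same 𝒜 ha] using this a hirr
        intro x hx
        obtain ⟨l, hl⟩ := (Finsupp.mem_span_iff_linearCombination A (s : Set A) x).1 hx
        rw [← hl, Finsupp.linearCombination_apply, Finsupp.sum, DirectSum.decompose_sum, DFinsupp.finsetSum_apply,
          AddSubmonoidClass.coe_finsetSum, map_sum]
        refine sum_mem fun e _ => ?_
        rw [smul_eq_mul, DirectSum.coe_decompose_mul_of_right_mem 𝒜 m (hed e.1 e.2)]
        split_ifs with hdm
        swap
        · rw [map_zero]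
          exact zero_mem _
        by_cases hnd : n ≤ d e.1
        · rw [← Polynomial.C_mul_monomial]
          exact mul_mem (Subalgebra.algebraMap_mem _ _)
            (Algebra.subset_adjoin (Set.mem_biUnion e.2 ⟨n, hnd, rfl⟩))
        · rw [show n = (n - d e.1) + d e.1 by omega, ← Polynomial.monomial_mul_monomial]
          exact mul_mem (ih (n - d e.1) (by have := hd e.1 e.2; omega) (m - d e.1) (by omega) _ (Subtype.mem _))
            (Algebra.subset_adjoin (Set.mem_biUnion e.2 ⟨d e.1, show d e.1 ≤ d e.1 from le_rfl, rfl⟩))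
    have hsub : ∀ b : B, φ b ∈ Algebra.adjoin A T := by
      intro b
      rw [← DirectSum.sum_support_decompose ℬ b, map_sum]
      refine sum_mem fun n _ => ?_
      have : φ (DirectSum.decompose ℬ b n : B) ∈ Submodule.map φ.toLinearMap (ℬ n) := ⟨_, Subtype.mem _, rfl⟩
      rw [hdeg n] at this
      obtain ⟨a, ha, e⟩ := this
      rw [← e]
      let K : Submodule R A := (((Algebra.adjoin A T).toSubmodule).comap
        (Polynomial.monomial n : A →ₗ[A] Polynomial A)).restrictScalars R
      exact (iSup₂_le fun m hm => fun x hx => hmem n m hm x hx : I n ≤ K) ha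
    have hT' : ∀ u ∈ T, ∃ b, φ b = u := by
      intro u hu
      simp only [T, Set.mem_iUnion, Set.mem_image, Set.mem_Iic] at hu
      obtain ⟨e, he, k, hk, rfl⟩ := hu
      obtain ⟨b, -, hb⟩ := hI k e (Submodule.mem_iSup_of_mem (d e) (Submodule.mem_iSup_of_mem hk (hed e he)))
      exact ⟨b, hb⟩
    choose! g hg using hT'
    refine ⟨hT.toFinset.image g, eq_top_iff.2 fun b _ => ?_⟩
    let P : Subalgebra (ℬ 0) B := Algebra.adjoin (ℬ 0) (↑(hT.toFinset.image g) : Set B)
    have key : ∀ x ∈ Algebra.adjoin A T, ∃ c ∈ P, φ c = x := by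
      intro x hx
      induction hx using Algebra.adjoin_induction with
      | mem u hu => exact ⟨g u, Algebra.subset_adjoin (Finset.mem_image_of_mem g (hT.mem_toFinset.2 hu)), hg u hu⟩
      | algebraMap a =>
        obtain ⟨c, hc, e⟩ := hI 0 a (htop a)
        exact ⟨c, Subalgebra.algebraMap_mem P ⟨c, hc⟩, e⟩
      | add u v _ _ hu hv =>
        obtain ⟨cu, hcu, rfl⟩ := hu
        obtain ⟨cv, hcv, rfl⟩ := hv
        exact ⟨cu + cv, add_mem hcu hcv, map_add φ _ _⟩
      | mul u v _ _ hu hv =>
        obtain ⟨cu, hcu, rfl⟩ := hu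
        obtain ⟨cv, hcv, rfl⟩ := hv
        exact ⟨cu * cv, mul_mem hcu hcv, map_mul φ _ _⟩
    obtain ⟨c, hc, e⟩ := key _ (hsub b)
    exact hφ e ▸ hc

end Groth.Agent.S8275
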