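import Groth.Statements.S8276
import Mathlib
import Groth.Agent.Lib.LGrGen

set_option autoImplicit false
universe u
open EGA2

namespace Groth.Agent.S8276

/-- For a positively graded ring S and the graded ring S♮ with S♮_n = S_{≥ n} = ⊕_{m ≥ n} S_m (presented
here as a graded ring S' with an injective algebra homomorphism φ : S' → S[X] carrying S'_n onto
S_{≥ n}·X^n for every n, so that S'_0 is identified with S): S♮ is Noetherian if and only if S is. -/
theorem result {R A B : Type u} [CommRing R] [CommRing A] [Algebra R A]
    (𝒜 : ℕ → Submodule R A) [GradedAlgebra 𝒜] [CommRing B] [Algebra R B] (ℬ : ℕ → Submodule R B) [GradedAlgebra ℬ]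
    (φ : B →ₐ[R] Polynomial A) (hφ : Function.Injective φ)
    (hdeg : ∀ n : ℕ, Submodule.map φ.toLinearMap (ℬ n) =
      Submodule.map ((Polynomial.monomial n : A →ₗ[A] Polynomial A).restrictScalars R) (⨆ (m : ℕ) (_ : n ≤ m), 𝒜 m)) :
    IsNoetherianRing B ↔ IsNoetherianRing A := by
  classical
  let ev : Polynomial A →+* A := Polynomial.constantCoeff
  let I : ℕ → Submodule R A := fun n => ⨆ (m : ℕ) (_ : n ≤ m), 𝒜 m
  have hI : ∀ n a, (a ∈ I n) → ∃ b ∈ ℬ n, φ b = Polynomial.monomial n a := fun n a ha => by
    have : Polynomial.monomial n a ∈ Submodule.map φ.toLinearMap (ℬ n) := by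
      rw [hdeg n]
      exact ⟨a, ha, rfl⟩
    exact this
  have htop : ∀ a : A, a ∈ I 0 := fun a => by
    rw [← DirectSum.sum_support_decompose 𝒜 a]
    exact sum_mem fun m _ => Submodule.mem_iSup_of_mem m (Submodule.mem_iSup_of_mem (Nat.zero_le m) (Subtype.mem _))
  constructor
  · intro hB
    refine isNoetherianRing_of_surjective B A (ev.comp φ.toRingHom) fun a => ?_
    obtain ⟨b, -, hb⟩ := hI 0 a (htop a)
    exact ⟨b, by show ev (φ b) = a; rw [hb]; exact Polynomial.coeff_monomial_same 0 a⟩
  · intro hA
    haveI := LGrGen.finiteType 𝒜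
    obtain ⟨s, hs, hspan⟩ := LGrGen.exists_homogeneous 𝒜 (LGrGen.fg_of_finiteType 𝒜)
    choose! d hd hed using hs
    let T : Set (Polynomial A) := ⋃ e ∈ (s : Set A), (fun k => Polynomial.monomial k e) '' (Set.Iic (d e))
    have hT : T.Finite := Set.Finite.biUnion s.finite_toSet fun e _ => (Set.finite_Iic _).image _
    have hmem : ∀ n, ∀ m, n ≤ m → ∀ a ∈ 𝒜 m, Polynomial.monomial n a ∈ Algebra.adjoin A T := by
      intro n
      induction n using Nat.strong_induction_on with
      | _ n ih =>
        intro m hnm a ha
        rcases n.eq_zero_or_pos with rfl | hn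
        · exact Subalgebra.algebraMap_mem _ a
        have hirr : a ∈ Ideal.span (s : Set A) := by
          rw [← hspan]
          exact HomogeneousIdeal.mem_irrelevant_of_mem _ (lt_of_lt_of_le hn hnm) ha
        suffices ∀ x ∈ Ideal.span (s : Set A), Polynomial.monomial n (DirectSum.decompose 𝒜 x m : A) ∈ Algebra.adjoin A T by
          simpa [DirectSum.decompose_of_mem_same 𝒜 ha] using this a hirr
        intro x hx
        obtain ⟨l, hl⟩ := (Finsupp.mem_span_iff_linearCombination A (s : Set A) x).1 hx
        rw [← hl, Finsupp.linearCombination_apply, Finsupp.sum, DirectSum.decompose_sum, DFinsupp.finsetSum_apply,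
          AddSubmonoidClass.coe_finsetSum, map_sum]
        refine sum_mem fun e _ => ?_
        rw [smul_eq_mul, DirectSum.coe_decompose_mul_of_right_mem 𝒜 m (hed e.1 e.2)]
        split_ifs with hdm
        swap
        · rw [map_zero]
          exact zero_mem _
        by_cases hnd : n ≤ d e.1
        · rw [← Polynomial.C_mul_monomial]
          exact mul_mem (Subalgebra.algebraMap_mem _ _)
            (Algebra.subset_adjoin (Set.mem_biUnion e.2 ⟨n, hnd, rfl⟩))
        · rw [show n = (n - d e.1) + d e.1 by omega, ← Polynomial.monomial_mul_monomial]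
          exact mul_mem (ih (n - d e.1) (by have := hd e.1 e.2; omega) (m - d e.1) (by omega) _ (Subtype.mem _))
            (Algebra.subset_adjoin (Set.mem_biUnion e.2 ⟨d e.1, show d e.1 ≤ d e.1 from le_rfl, rfl⟩))
    have hrange : φ.toRingHom.range = (Algebra.adjoin A T).toSubring := by
      refine le_antisymm ?_ ?_
      · rintro _ ⟨b, rfl⟩
        show φ b ∈ Algebra.adjoin A T
        rw [← DirectSum.sum_support_decompose ℬ b, map_sum]
        refine sum_mem fun n _ => ?_
        have : φ (DirectSum.decompose ℬ b n : B) ∈ Submodule.map φ.toLinearMap (ℬ n) := ⟨_, Subtype.mem _, rfl⟩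
        rw [hdeg n] at this
        obtain ⟨a, ha, e⟩ := this
        rw [← e]
        let K : Submodule R A := (((Algebra.adjoin A T).toSubmodule).comap
          (Polynomial.monomial n : A →ₗ[A] Polynomial A)).restrictScalars R
        exact (iSup₂_le fun m hm => fun x hx => hmem n m hm x hx : I n ≤ K) ha
      · intro x hx
        have hC : ∀ a, algebraMap A (Polynomial A) a ∈ φ.toRingHom.range := fun a => by
          obtain ⟨b, -, hb⟩ := hI 0 a (htop a)
          exact ⟨b, hb⟩
        induction (show x ∈ Algebra.adjoin A T from hx) using Algebra.adjoin_induction with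
        | algebraMap a => exact hC a
        | add u v _ _ hu hv => exact add_mem (hu (by assumption)) (hv (by assumption))
        | mul u v _ _ hu hv => exact mul_mem (hu (by assumption)) (hv (by assumption))
        | mem u hu =>
          simp only [T, Set.mem_iUnion, Set.mem_image, Set.mem_Iic] at hu
          obtain ⟨e, he, k, hk, rfl⟩ := hu
          obtain ⟨b, -, hb⟩ := hI k e (Submodule.mem_iSup_of_mem (d e) (Submodule.mem_iSup_of_mem hk (hed e he)))
          exact ⟨b, hb⟩
    haveI : Algebra.FiniteType A (Algebra.adjoin A T) := by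
      rw [← hT.coe_toFinset]
      exact (Subalgebra.fg_iff_finiteType _).1 (Subalgebra.fg_adjoin_finset _)
    haveI : IsNoetherianRing (Algebra.adjoin A T) := Algebra.FiniteType.isNoetherianRing A _
    haveI : IsNoetherianRing φ.toRingHom.range := by
      rw [hrange]
      exact ‹IsNoetherianRing (Algebra.adjoin A T)›
    exact isNoetherianRing_of_ringEquiv _ (RingEquiv.ofBijective φ.toRingHom.rangeRestrict
      ⟨fun a b h => hφ (congrArg Subtype.val h), φ.toRingHom.rangeRestrict_surjective⟩).symm

end Groth.Agent.S8276
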