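import Groth.Statements.S8352
import Mathlib

set_option autoImplicit false
set_option backward.isDefEq.respectTransparency.types false
set_option maxHeartbeats 1000000
set_option linter.all false
universe u
open CategoryTheory CategoryTheory.Limits Opposite
open HomAlg3

namespace Groth.Agent.S8352
open Groth.Agent

/-- Category of abelian groups, system indexed by the natural numbers: Let (A_k) be an inverse system of
abelian groups satisfying the Mittag-Leffler condition, A = lim A_k with projections π_p : A ⟶ A_p.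
Filter A and each A_k by the kernels of the maps to A_{p-1} (with A_{-1} = 0); the graded piece
gr^p(A) is identified with Im(π_p) ∩ Ker(A_p ⟶ A_{p-1}) and gr^p(A_k), k ≥ p, with Im(A_k ⟶ A_p) ∩
Ker(A_p ⟶ A_{p-1}), a decreasing family of subgroups of A_p. The statement gr^p(A) ≅ lim_k gr^p(A_k)
then reads: Im(π_0) = ⋂_k Im(A_k ⟶ A_0), and for every p, Im(π_{p+1}) ∩ Ker(A_{p+1} ⟶ A_p) = ⋂_{k ≥
p+1} (Im(A_k ⟶ A_{p+1}) ∩ Ker(A_{p+1} ⟶ A_p)). -/
theorem result (F : ℕᵒᵖ ⥤ AddCommGrpCat.{u})
    (hF : (F ⋙ forget AddCommGrpCat).IsMittagLeffler) :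
    (limit.π F (op 0)).hom.range = ⨅ k : ℕ, (F.map (homOfLE (Nat.zero_le k)).op).hom.range ∧
      ∀ p : ℕ, (limit.π F (op (p + 1))).hom.range ⊓ (F.map (homOfLE (Nat.le_succ p)).op).hom.ker =
        ⨅ (k : ℕ) (hk : p + 1 ≤ k),
          (F.map (homOfLE hk).op).hom.range ⊓ (F.map (homOfLE (Nat.le_succ p)).op).hom.ker := by
  classical
  have key : ∀ (n : ℕ) (y : F.obj (op n)), (∀ k (h : n ≤ k), y ∈ Set.range (F.map (homOfLE h).op)) → ∃ w, (limit.π F (op n)) w = y := by
    intro n y hy
    have hy0 : y ∈ (F ⋙ forget AddCommGrpCat).eventualRange (op n) := by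
      rw [Functor.mem_eventualRange_iff]
      intro i f
      obtain ⟨x, hx⟩ := hy i.unop (leOfHom f.unop)
      exact ⟨x, hx⟩
    have step : ∀ (j : ℕ) (x : {x : F.obj (op (n + j)) // x ∈ (F ⋙ forget AddCommGrpCat).eventualRange (op (n + j))}), ∃ x' : {x : F.obj (op (n + (j + 1))) // x ∈ (F ⋙ forget AddCommGrpCat).eventualRange (op (n + (j + 1)))}, F.map (homOfLE (by omega : n + j ≤ n + (j + 1))).op x'.1 = x.1 := fun j x => by
      obtain ⟨x', hx', he⟩ := hF.subset_image_eventualRange (F ⋙ forget AddCommGrpCat) (homOfLE (by omega : n + j ≤ n + (j + 1))).op x.2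
      exact ⟨⟨x', hx'⟩, he⟩
    choose nx hnx using step
    let z : ∀ j, {x : F.obj (op (n + j)) // x ∈ (F ⋙ forget AddCommGrpCat).eventualRange (op (n + j))} := fun j => Nat.rec ⟨y, hy0⟩ (fun j x => nx j x) j
    have hcomp : ∀ {a b c : ℕ} (h1 : a ≤ b) (h2 : b ≤ c) (x : F.obj (op c)), F.map (homOfLE h1).op (F.map (homOfLE h2).op x) = F.map (homOfLE (h1.trans h2)).op x := by
      intro a b c h1 h2 x
      rw [← ConcreteCategory.comp_apply, ← F.map_comp]
      rfl
    have hz : ∀ i j (h : i ≤ j), F.map (homOfLE (Nat.add_le_add_left h n)).op (z j).1 = (z i).1 := by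
      intro i j h
      induction j, h using Nat.le_induction with
      | base => simp
      | succ j hij ih =>
        rw [← ih, ← hnx j (z j), hcomp]
    let sec : (F ⋙ forget AddCommGrpCat).sections := ⟨fun m => F.map (homOfLE (Nat.le_add_left m.unop n)).op (z m.unop).1, fun {a b} g => by
      show F.map g (F.map _ (z a.unop).1) = _
      dsimp only
      rw [show g = (homOfLE (leOfHom g.unop)).op from Subsingleton.elim _ _, hcomp, ← hz b.unop a.unop (leOfHom g.unop), hcomp]⟩
    refine ⟨(Types.isLimitEquivSections (isLimitOfPreserves (forget AddCommGrpCat) (limit.isLimit F))).symm sec, ?_⟩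
    refine (Types.isLimitEquivSections_symm_apply (isLimitOfPreserves (forget AddCommGrpCat) (limit.isLimit F)) sec (op n)).trans ?_
    show F.map (homOfLE (Nat.le_add_left n n)).op (z n).1 = y
    exact hz 0 n (Nat.zero_le n)
  have hπ : ∀ {a b : ℕ} (h : a ≤ b) (w : (limit F : AddCommGrpCat)), F.map (homOfLE h).op (limit.π F (op b) w) = limit.π F (op a) w := by
    intro a b h w
    rw [← ConcreteCategory.comp_apply, limit.w]
  refine ⟨le_antisymm (le_iInf fun k => ?_) fun y hy => key 0 y fun k h => AddSubgroup.mem_iInf.1 hy k, fun p => le_antisymm ?_ ?_⟩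
  · rintro _ ⟨w, rfl⟩
    exact ⟨limit.π F (op k) w, hπ _ w⟩
  · rintro _ ⟨⟨w, rfl⟩, hk⟩
    simp only [AddSubgroup.mem_iInf]
    exact fun k h => ⟨⟨limit.π F (op k) w, hπ h w⟩, hk⟩
  · intro y hy
    simp only [AddSubgroup.mem_iInf] at hy
    exact ⟨key (p + 1) y fun k h => (hy k h).1, (hy (p + 1) le_rfl).2⟩

end Groth.Agent.S8352
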