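import Groth.Statements.S8353
import Mathlib

set_option autoImplicit false
set_option backward.isDefEq.respectTransparency.types false
set_option maxHeartbeats 1000000
set_option linter.all false
universe u
open HomAlg3

namespace Groth.Agent.S8353
open Groth.Agent

/-- Let S be a Noetherian ring which is separated and complete for the adic topology of an ideal J, and
let M be an S-module with a decreasing filtration (F^p M)_{p ∈ ℤ} by submodules such that F^p M = M
for some p, J·F^p M ⊆ F^{p+1} M for all p, and ⋂_p F^p M = 0. Then the following are equivalent: (a)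
M is a finitely generated S-module and J·F^p M = F^{p+1} M for all large p; (c) every F^p M /
F^{p+1} M is a finitely generated S-module and, for all large p, the map J ⊗ (F^p M/F^{p+1} M) ⟶
F^{p+1} M/F^{p+2} M is surjective, that is F^{p+1} M = J·F^p M + F^{p+2} M. (The published statement
also lists a third equivalent condition, finite generation of the associated graded module over the
associated graded ring; this row states the equivalence of the other two.) -/
theorem result {S : Type u} [CommRing S] [IsNoetherianRing S]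
    (J : Ideal S) [IsAdicComplete J S] {M : Type u} [AddCommGroup M] [Module S M]
    (F : ℤ → Submodule S M) (hF : Antitone F) (hcod : ∃ p₀ : ℤ, F p₀ = ⊤)
    (hJ : ∀ p : ℤ, J • F p ≤ F (p + 1)) (hsep : ⨅ p : ℤ, F p = ⊥) :
    (Module.Finite S M ∧ ∃ p₁ : ℤ, ∀ p : ℤ, p₁ ≤ p → J • F p = F (p + 1)) ↔
      ((∀ p : ℤ, (Submodule.map (F (p + 1)).mkQ (F p)).FG) ∧
        ∃ p₁ : ℤ, ∀ p : ℤ, p₁ ≤ p → F (p + 1) = J • F p ⊔ F (p + 2)) := by
    classical
    obtain ⟨p₀, hp₀⟩ := hcod
    have hpow : ∀ (n : ℕ) (p : ℤ), J ^ n • F p ≤ F (p + n) := by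
      intro n
      induction n with
      | zero => intro p; simp
      | succ n ih =>
        intro p
        rw [pow_succ', Submodule.mul_smul]
        refine (Submodule.smul_mono le_rfl (ih p)).trans ((hJ _).trans (le_of_eq ?_))
        congr 1; push_cast; ring
    constructor
    · rintro ⟨hfin, p₁, hp₁⟩
      refine ⟨fun p => Submodule.FG.map _ (IsNoetherian.noetherian _), p₁, fun p hp => ?_⟩
      rw [hp₁ p hp, sup_eq_left.2 (hF (by omega))]
    · rintro ⟨hfg, p₁', hp₁'⟩
      let p₁ := max p₁' p₀
      have hp₁ : ∀ p, p₁ ≤ p → F (p + 1) = J • F p ⊔ F (p + 2) := fun p hp => hp₁' p ((le_max_left _ _).trans hp)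
      obtain ⟨s, hs⟩ := hfg p₁
      choose g hg hgs using fun y : s => (show (y : M ⧸ F (p₁ + 1)) ∈ Submodule.map (F (p₁ + 1)).mkQ (F p₁) from
        hs ▸ Submodule.subset_span y.2)
      have step0 : ∀ x ∈ F p₁, ∃ a : s → S, x - ∑ i, a i • g i ∈ F (p₁ + 1) := by
        intro x hx
        have h : (F (p₁ + 1)).mkQ x ∈ Submodule.span S (Set.range fun y : s => (F (p₁ + 1)).mkQ (g y)) := by
          have : (Set.range fun y : s => (F (p₁ + 1)).mkQ (g y)) = (s : Set (M ⧸ F (p₁ + 1))) := by
            simp only [hgs]; exact Subtype.range_coe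
          rw [this, hs]
          exact ⟨x, hx, rfl⟩
        rw [Submodule.mem_span_range_iff_exists_fun] at h
        obtain ⟨a, ha⟩ := h
        refine ⟨a, (Submodule.Quotient.eq _).1 ?_⟩
        simp only [← map_smul, ← map_sum] at ha
        exact ha.symm
      have step : ∀ (n : ℕ), ∀ x ∈ F (p₁ + n), ∃ a : s → S, (∀ i, a i ∈ J ^ n) ∧
          x - ∑ i, a i • g i ∈ F (p₁ + n + 1) := by
        intro n
        induction n with
        | zero =>
          intro x hx
          obtain ⟨a, ha⟩ := step0 x (by simpa using hx)
          exact ⟨a, fun i => by simp, by simpa using ha⟩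
        | succ n ih =>
          intro x hx
          have e1 : p₁ + ((n + 1 : ℕ) : ℤ) = p₁ + n + 1 := by push_cast; ring
          rw [e1] at hx ⊢
          rw [hp₁ (p₁ + n) (by omega)] at hx
          obtain ⟨y, hy, z, hz, rfl⟩ := Submodule.mem_sup.1 hx
          have key : ∃ a : s → S, (∀ i, a i ∈ J ^ (n + 1)) ∧ y - ∑ i, a i • g i ∈ F (p₁ + n + 1 + 1) := by
            refine Submodule.smul_induction_on hy (fun r hr w hw => ?_) ?_
            · obtain ⟨a, ha, haw⟩ := ih w hw
              refine ⟨fun i => r * a i, fun i => by rw [pow_succ']; exact Ideal.mul_mem_mul hr (ha i), ?_⟩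
              simp only [mul_smul, ← Finset.smul_sum, ← smul_sub]
              exact hJ _ (Submodule.smul_mem_smul hr haw)
            · rintro u v ⟨a, ha, hau⟩ ⟨b, hb, hbv⟩
              refine ⟨a + b, fun i => add_mem (ha i) (hb i), ?_⟩
              have : u + v - ∑ i, (a + b) i • g i = (u - ∑ i, a i • g i) + (v - ∑ i, b i • g i) := by
                simp only [Pi.add_apply, add_smul, Finset.sum_add_distrib]; abel
              rw [this]
              exact add_mem hau hbv
          obtain ⟨a, ha, hay⟩ := key
          refine ⟨a, ha, ?_⟩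
          rw [show y + z - ∑ i, a i • g i = (y - ∑ i, a i • g i) + z by abel]
          exact add_mem hay (hF (by omega) hz)
      have main : ∀ (n : ℕ), ∀ x ∈ F (p₁ + n), ∃ b : s → S, (∀ i, b i ∈ J ^ n) ∧ x = ∑ i, b i • g i := by
        intro n x hx
        have hrec : ∀ k : ℕ, ∀ w : {w : M // w ∈ F (p₁ + (n + k : ℕ))}, ∃ (a : s → S) (w' : {w : M // w ∈ F (p₁ + (n + (k + 1) : ℕ))}),
            (∀ i, a i ∈ J ^ (n + k)) ∧ (w : M) = w' + ∑ i, a i • g i := by
          intro k w
          obtain ⟨a, ha, haw⟩ := step (n + k) w.1 w.2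
          refine ⟨a, ⟨w.1 - ∑ i, a i • g i, ?_⟩, ha, by simp⟩
          convert haw using 2
          push_cast; ring
        choose A W hA hW using hrec
        let w : ∀ k : ℕ, {w : M // w ∈ F (p₁ + (n + k : ℕ))} := fun k => Nat.rec ⟨x, by simpa using hx⟩ (fun k w => W k w) k
        let t : ℕ → s → S := fun k i => ∑ j ∈ Finset.range k, A j (w j) i
        have ht : ∀ k, x = (w k).1 + ∑ i, t k i • g i := by
          intro k
          induction k with
          | zero => simp [t, w]
          | succ k ih =>
            have h1 : ∑ i, t (k + 1) i • g i = ∑ i, t k i • g i + ∑ i, A k (w k) i • g i := by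
              simp only [t, Finset.sum_range_succ, add_smul, Finset.sum_add_distrib]
            rw [h1, ih, hW k (w k)]
            show _ = (W k (w k)).1 + _
            abel
        have hL : ∀ i, ∃ L : S, ∀ k, t k i ≡ L [SMOD (J ^ k • ⊤ : Submodule S S)] := fun i =>
          IsPrecomplete.prec inferInstance fun {a b} hab => by
            rw [SModEq.sub_mem, smul_eq_mul, Ideal.mul_top]
            obtain ⟨c, rfl⟩ := Nat.exists_eq_add_of_le hab
            simp only [t, Finset.sum_range_add, sub_add_cancel_left]
            refine neg_mem (Submodule.sum_mem _ fun j _ => ?_)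
            exact Ideal.pow_le_pow_right (by omega) (hA (a + j) (w (a + j)) i)
        choose L hL using hL
        simp only [SModEq.sub_mem, smul_eq_mul, Ideal.mul_top] at hL
        refine ⟨L, fun i => ?_, ?_⟩
        · have h1 : t n i ∈ J ^ n :=
            Submodule.sum_mem _ fun j _ => Ideal.pow_le_pow_right (Nat.le_add_right n j) (hA j (w j) i)
          simpa using sub_mem h1 (hL i n)
        · rw [← sub_eq_zero, ← Submodule.mem_bot S, ← hsep, Submodule.mem_iInf]
          intro p
          obtain ⟨k, hk⟩ : ∃ k : ℕ, p ≤ p₁ + k := ⟨(p - p₁).toNat, by omega⟩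
          rw [ht k, show (w k).1 + ∑ i, t k i • g i - ∑ i, L i • g i = (w k).1 + ∑ i, (t k i - L i) • g i by
            simp only [sub_smul, Finset.sum_sub_distrib]; abel]
          refine hF hk (add_mem (hF (by omega) (w k).2) (Submodule.sum_mem _ fun i _ => ?_))
          exact hpow k p₁ (Submodule.smul_mem_smul (hL i k) (hg i))
      have hFe : ∀ n : ℕ, F (p₁ + n) = J ^ n • F p₁ := by
        refine fun n => le_antisymm (fun x hx => ?_) (hpow n p₁)
        obtain ⟨b, hb, rfl⟩ := main n x hx
        exact Submodule.sum_mem _ fun i _ => Submodule.smul_mem_smul (hb i) (hg i)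
      refine ⟨⟨?_⟩, p₁, fun p hp => ?_⟩
      · have hfg1 : (F p₁).FG := by
          refine ⟨Finset.univ.image g, le_antisymm ?_ fun x hx => ?_⟩
          · rw [Submodule.span_le]; intro y hy
            simp at hy
            obtain ⟨a, b, rfl⟩ := hy
            exact hg _
          · obtain ⟨b, -, rfl⟩ := main 0 x (by simpa using hx)
            exact Submodule.sum_mem _ fun i _ => Submodule.smul_mem _ _ (Submodule.subset_span (by simp))
        have down : ∀ k : ℕ, (F (p₁ - k)).FG := by
          intro k
          induction k with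
          | zero => simpa using hfg1
          | succ k ih =>
            have e : p₁ - ((k + 1 : ℕ) : ℤ) + 1 = p₁ - k := by push_cast; ring
            refine Submodule.fg_of_fg_map_of_fg_inf_ker (F (p₁ - k)).mkQ ?_ ?_
            · exact e ▸ hfg (p₁ - ((k + 1 : ℕ) : ℤ))
            · rw [Submodule.ker_mkQ, inf_eq_right.2 (hF (by omega))]
              exact ih
        have : F (p₁ - ((p₁ - p₀).toNat : ℤ)) = ⊤ := top_unique (hp₀.ge.trans (hF (by omega)))
        exact this ▸ down _
      · obtain ⟨n, rfl⟩ : ∃ n : ℕ, p = p₁ + n := ⟨(p - p₁).toNat, by omega⟩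
        rw [show p₁ + (n : ℤ) + 1 = p₁ + ((n + 1 : ℕ) : ℤ) by push_cast; ring, hFe, hFe, pow_succ', Submodule.mul_smul]

end Groth.Agent.S8353
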