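import Groth.Statements.S8362
import Mathlib
import Mathlib

set_option autoImplicit false
universe u
open CategoryTheory AlgebraicGeometry
open SGA3

namespace Groth.Agent.S8362

open AlgebraicGeometry CategoryTheory Limits in
theorem bijective_of_sub_mem {A : Type u} [CommRing A] (φ : A →+* A) (K : Ideal A)
    (h : ∀ a, φ a - a ∈ K) (hK : ∀ z ∈ K, φ z = z) : Function.Bijective φ := by
  refine ⟨(injective_iff_map_eq_zero φ).mpr fun a ha => ?_, fun a => ⟨a - (φ a - a), ?_⟩⟩
  · have : a ∈ K := by
      have h' := K.neg_mem (h a)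
      simpa [ha] using h'
    rw [← hK a this, ha]
  · rw [map_sub, hK _ (h a)]
    ring

/-- Over an affine base S = Spec R with S₀ = Spec (R/J) for an ideal J of square zero: for an arbitrary
S-scheme X, every S-endomorphism of X inducing the identity on X ×_S S₀ is an automorphism. (The
published statement is over an arbitrary base scheme with a quasi-coherent ideal of square zero;
this row is its case of an affine base, to which it reduces since being an isomorphism is local on
the base.) -/
theorem result (R : Type u) [CommRing R] (J : Ideal R) (hJ : J * J = ⊥)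
    (X : Over (Spec (CommRingCat.of R))) (u : X ⟶ X)
    (h : (Over.pullback (Spec.map (CommRingCat.ofHom (Ideal.Quotient.mk J)))).map u = 𝟙 _) :
    IsIso u := by
  let q₀ : CommRingCat.of R ⟶ CommRingCat.of (R ⧸ J) := CommRingCat.ofHom (Ideal.Quotient.mk J)
  have hu : Limits.pullback.fst X.hom (Spec.map q₀) ≫ u.left = Limits.pullback.fst X.hom (Spec.map q₀) := by
    have := congrArg (fun r => r.left ≫ Limits.pullback.fst X.hom (Spec.map q₀)) h
    simp [q₀, -Limits.pullback.lift_fst] at this
    exact (Limits.pullback.lift_fst _ _ _).symm.trans this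
  have hsurj : Surjective (Spec.map q₀) := by
    refine ⟨fun p => ?_⟩
    have hp : J ≤ p.asIdeal := fun j hj => (p.isPrime.mul_mem_iff_mem_or_mem.mp (by
      have : j * j ∈ J * J := Ideal.mul_mem_mul hj hj
      rw [hJ, Ideal.mem_bot] at this
      rw [this]
      exact zero_mem _)).elim id id
    have : p ∈ Set.range (PrimeSpectrum.comap (Ideal.Quotient.mk J)) := by
      rw [range_comap_of_surjective _ _ Ideal.Quotient.mk_surjective, Ideal.mk_ker]
      exact hp
    exact this
  have hpt : ∀ x : X.left, u.left x = x := fun x => by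
    obtain ⟨y, rfl⟩ := (Limits.pullback.fst X.hom (Spec.map q₀)).surjective x
    rw [← Scheme.Hom.comp_apply, hu]
  suffices IsIso u.left from by
    have : IsIso ((Over.forget _).map u) := this
    exact isIso_of_reflects_iso u (Over.forget _)
  refine (IsZariskiLocalAtTarget.iff_of_iSup_eq_top
    (P := MorphismProperty.isomorphisms Scheme.{u}) _ (iSup_affineOpens_eq_top X.left)).mpr ?_
  intro U
  have hU : IsAffineOpen U.1 := U.2
  have : IsOpenImmersion hU.fromSpec := hU.isOpenImmersion_fromSpec
  have hpre : u.left ⁻¹ᵁ U.1 = U.1 := TopologicalSpace.Opens.ext (Set.ext fun x => by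
    show u.left x ∈ (U.1 : Set X.left) ↔ _
    rw [hpt x])
  let φ : Γ(X.left, U.1) ⟶ Γ(X.left, U.1) := u.left.appLE U.1 U.1 hpre.ge
  have hφ : Spec.map φ ≫ hU.fromSpec = hU.fromSpec ≫ u.left :=
    IsAffineOpen.SpecMap_appLE_fromSpec u.left hU hU hpre.ge
  let ψ : CommRingCat.of R ⟶ Γ(X.left, U.1) := Spec.preimage (hU.fromSpec ≫ X.hom)
  have hψ : ψ ≫ φ = ψ := Spec.map_injective (by
    rw [Spec.map_comp, Spec.map_preimage, reassoc_of% hφ, Over.w u])
  let K := Ideal.map ψ.hom J
  let q : Γ(X.left, U.1) ⟶ CommRingCat.of (Γ(X.left, U.1) ⧸ K) := CommRingCat.ofHom (Ideal.Quotient.mk K)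
  let r : CommRingCat.of (R ⧸ J) ⟶ CommRingCat.of (Γ(X.left, U.1) ⧸ K) :=
    CommRingCat.ofHom (Ideal.quotientMap K ψ.hom Ideal.le_comap_map)
  have hqr : q₀ ≫ r = ψ ≫ q := by ext a; rfl
  let w := Limits.pullback.lift (f := X.hom) (g := Spec.map q₀) (Spec.map q ≫ hU.fromSpec) (Spec.map r) (by
    rw [← Spec.map_comp, hqr, Spec.map_comp, Category.assoc, Spec.map_preimage])
  have hφq : φ ≫ q = q := by
    refine Spec.map_injective ((cancel_mono hU.fromSpec).mp ?_)
    rw [Spec.map_comp, Category.assoc, hφ, ← Category.assoc,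
      show Spec.map q ≫ hU.fromSpec = w ≫ Limits.pullback.fst X.hom (Spec.map q₀) from
        (Limits.pullback.lift_fst _ _ _).symm, Category.assoc, hu]
  have h1 : ∀ a, φ.hom a - a ∈ K := fun a =>
    Ideal.Quotient.eq.mp (congrArg (fun m => m.hom a) hφq)
  have hKK : K * K = ⊥ := by rw [← Ideal.map_mul, hJ, Ideal.map_bot]
  have h2 : ∀ z ∈ K, φ.hom z = z := by
    intro z hz
    induction hz using Submodule.span_induction with
    | mem x hx =>
      obtain ⟨j, _, rfl⟩ := hx
      exact congrArg (fun m => m.hom j) hψ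
    | zero => exact map_zero _
    | add x y _ _ hx hy => rw [map_add, hx, hy]
    | smul a x hxK hx =>
      rw [smul_eq_mul, map_mul, hx]
      have : (φ.hom a - a) * x ∈ K * K := Ideal.mul_mem_mul (h1 a) hxK
      rw [hKK, Ideal.mem_bot, sub_mul, sub_eq_zero] at this
      exact this
  have : IsIso φ := (ConcreteCategory.isIso_iff_bijective _).mpr (bijective_of_sub_mem φ.hom K h1 h2)
  have e : u.left ∣_ U.1 =
      (X.left.isoOfEq hpre).hom ≫ hU.isoSpec.hom ≫ Spec.map φ ≫ hU.isoSpec.inv := by
    rw [← cancel_mono U.1.ι, morphismRestrict_ι]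
    simp only [Category.assoc, IsAffineOpen.isoSpec_inv_ι, hφ]
    rw [← hU.isoSpec_inv_ι, Category.assoc, Iso.hom_inv_id_assoc, Scheme.isoOfEq_hom_ι_assoc]
  show IsIso (u.left ∣_ U.1)
  rw [e]
  infer_instance

end Groth.Agent.S8362
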