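import Groth.Statements.S8369
import Mathlib

set_option autoImplicit false
universe u v
open SGA3

namespace Groth.Agent.S8369

/-- Let A be a commutative ring, J a nilpotent ideal, N ⊆ M A-modules with M/N flat over A. If elements
of N have images generating the image of N in M/JM, then they generate N. (The published statement
takes finitely many elements; this row allows an arbitrary set, which the same argument permits.) -/
theorem result (A : Type u) [CommRing A] (J : Ideal A) (hJ : IsNilpotent J)
    (M : Type v) [AddCommGroup M] [Module A M] (N : Submodule A M) [Module.Flat A (M ⧸ N)] (s : Set M)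
    (hs : s ⊆ N)
    (hgen : (Submodule.span A s).map (J • (⊤ : Submodule A M)).mkQ = N.map (J • (⊤ : Submodule A M)).mkQ) :
    Submodule.span A s = N := by
  have hle : Submodule.span A s ≤ N := Submodule.span_le.mpr hs
  refine le_antisymm hle ?_
  have h1 : N ≤ Submodule.span A s ⊔ J • (⊤ : Submodule A M) := by
    intro x hx
    have h2 : (J • (⊤ : Submodule A M)).mkQ x ∈ N.map (J • (⊤ : Submodule A M)).mkQ :=
      Submodule.mem_map_of_mem hx
    rw [← hgen] at h2
    obtain ⟨y, hy, hxy⟩ := h2
    have h4 : x - y ∈ J • (⊤ : Submodule A M) := (Submodule.Quotient.eq _).mp hxy.symm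
    exact Submodule.mem_sup.mpr ⟨y, hy, x - y, h4, by abel⟩
  have hNJ : N ⊓ J • (⊤ : Submodule A M) ≤ J • N := by
    rintro x ⟨hxN, hxJ⟩
    let t : TensorProduct A J M →ₗ[A] M :=
      (TensorProduct.lid A M).toLinearMap ∘ₗ LinearMap.rTensor M J.subtype
    let tq : TensorProduct A J (M ⧸ N) →ₗ[A] (M ⧸ N) :=
      (TensorProduct.lid A (M ⧸ N)).toLinearMap ∘ₗ LinearMap.rTensor (M ⧸ N) J.subtype
    have hcomm : ∀ z, tq (LinearMap.lTensor J N.mkQ z) = N.mkQ (t z) := by
      intro z
      induction z using TensorProduct.induction_on with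
      | zero => simp
      | tmul a m => simp [t, tq]
      | add a b ha hb => simp only [map_add, ha, hb]
    obtain ⟨z, rfl⟩ : ∃ z, t z = x := by
      refine Submodule.smul_induction_on hxJ (fun a ha m _ => ⟨⟨a, ha⟩ ⊗ₜ m, by simp [t]⟩) ?_
      rintro a b ⟨za, rfl⟩ ⟨zb, rfl⟩
      exact ⟨za + zb, map_add _ _ _⟩
    have hinj : Function.Injective tq :=
      (TensorProduct.lid A (M ⧸ N)).injective.comp
        ((Module.Flat.iff_rTensor_injective'.mp inferInstance) J)
    have hz : LinearMap.lTensor J N.mkQ z = 0 := hinj <| by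
      rw [hcomm, map_zero]; exact (Submodule.Quotient.mk_eq_zero N).mpr hxN
    obtain ⟨w, rfl⟩ := ((lTensor_exact J (LinearMap.exact_subtype_mkQ N) N.mkQ_surjective) z).mp hz
    clear hz hxN hxJ
    induction w using TensorProduct.induction_on with
    | zero => simp
    | tmul a m => simp [t]; exact Submodule.smul_mem_smul a.2 m.2
    | add a b ha hb => simp only [map_add]; exact add_mem ha hb
  have h5 : N ≤ Submodule.span A s ⊔ J • N := by
    intro x hx
    obtain ⟨y, hy, z, hz, rfl⟩ := Submodule.mem_sup.mp (h1 hx)
    refine Submodule.add_mem_sup hy (hNJ ⟨?_, hz⟩)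
    simpa using sub_mem hx (hle hy)
  have hk : ∀ k : ℕ, N ≤ Submodule.span A s ⊔ J ^ k • N := by
    intro k
    induction k with
    | zero => simp
    | succ k ih =>
      refine ih.trans (sup_le le_sup_left ?_)
      refine (Submodule.smul_mono le_rfl h5).trans ?_
      rw [Submodule.smul_sup, pow_succ, Submodule.mul_smul]
      exact sup_le_sup Submodule.smul_le_right le_rfl
  obtain ⟨k, hk0⟩ := hJ
  have := hk k
  rw [hk0] at this
  simpa using this

end Groth.Agent.S8369
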