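import Groth.Statements.S8383


set_option autoImplicit false
universe u
open scoped TensorProduct
open SGA3t2b

namespace Groth.Agent.S8383

/-- Let k be a finite field with algebraic closure K, V a finite-dimensional vector space over k, and
θ₁, …, θₙ a basis of the dual of the K-vector space K ⊗ V. Then there is x ∈ V with θᵢ(1 ⊗ x) ≠ 0
for every i. -/
theorem result (k : Type u) [Field k] [Finite k]
    (V : Type u) [AddCommGroup V] [Module k V] [Module.Finite k V] {ι : Type} [Fintype ι]
    (θ : Module.Basis ι (AlgebraicClosure k) (Module.Dual (AlgebraicClosure k) (AlgebraicClosure k ⊗[k] V))) :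
    ∃ x : V, ∀ i : ι, θ i ((1 : AlgebraicClosure k) ⊗ₜ[k] x) ≠ 0 := by
  classical
  have := Fintype.ofFinite k
  set v := Module.finBasis k V
  have hcard : Fintype.card ι = Module.finrank k V := by
    rw [← Module.finrank_eq_card_basis θ, Subspace.dual_finrank_eq, Module.finrank_baseChange]
  let σ : ι ≃ Fin (Module.finrank k V) := Fintype.equivFinOfCardEq hcard
  let A : Matrix ι ι (AlgebraicClosure k) := fun i j => θ i ((1 : AlgebraicClosure k) ⊗ₜ[k] v (σ j))
  have hA : A.det ≠ 0 := by
    intro h
    obtain ⟨c, hc0, hc⟩ := Matrix.exists_mulVec_eq_zero_iff.2 h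
    set z := ∑ j, c j • ((1 : AlgebraicClosure k) ⊗ₜ[k] v (σ j)) with hz
    have hθ : ∀ i, θ i z = 0 := fun i => by
      have := congrFun hc i
      simp only [Matrix.mulVec, dotProduct, Pi.zero_apply, A] at this
      rw [hz, map_sum]
      simpa [mul_comm] using this
    have hz0 : z = 0 := by
      refine (Module.forall_dual_apply_eq_zero_iff (AlgebraicClosure k) z).1 fun φ => ?_
      rw [← θ.sum_repr φ, LinearMap.sum_apply]
      simp [hθ]
    have hli := ((v.baseChange (AlgebraicClosure k)).reindex σ.symm).linearIndependent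
    refine hc0 (funext fun j => Fintype.linearIndependent_iff.1 hli c ?_ j)
    rw [← hz0, hz]
    simp
  let bK := Module.Basis.ofVectorSpace k (AlgebraicClosure k)
  let S : Finset _ := Finset.univ.biUnion fun ij : ι × ι => (bK.repr (A ij.1 ij.2)).support
  have hrow : ∀ i, A i = ∑ r ∈ S, bK r • (fun j => algebraMap k (AlgebraicClosure k) (bK.repr (A i j) r)) := by
    intro i
    funext j
    conv_lhs => rw [← bK.linearCombination_repr (A i j), Finsupp.linearCombination_apply]
    rw [Finsupp.sum_of_support_subset _ (Finset.subset_biUnion_of_mem (fun ij : ι × ι => (bK.repr (A ij.1 ij.2)).support) (Finset.mem_univ (i, j))) _ (by simp),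
      Finset.sum_apply]
    exact Finset.sum_congr rfl fun r _ => by rw [Pi.smul_apply, smul_eq_mul, mul_comm, ← Algebra.smul_def]
  obtain ⟨f, hf⟩ : ∃ f : ι → _, (Matrix.of fun i j => algebraMap k (AlgebraicClosure k) (bK.repr (A i j) (f i))).det ≠ 0 := by
    by_contra! H
    refine hA ?_
    have hexp := (Matrix.detRowAlternating : (ι → AlgebraicClosure k) [⋀^ι]→ₗ[AlgebraicClosure k] AlgebraicClosure k).toMultilinearMap.map_sum_finset
      (fun i r => bK r • (fun j => algebraMap k (AlgebraicClosure k) (bK.repr (A i j) r))) (fun _ => S)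
    simp only [← hrow] at hexp
    refine hexp.trans (Finset.sum_eq_zero fun f _ => ?_)
    rw [MultilinearMap.map_smul_univ]
    exact smul_eq_zero_of_right _ (H f)
  let B : Matrix ι ι k := Matrix.of fun i j => bK.repr (A i j) (f i)
  have hB : B.det ≠ 0 := fun h => hf (by
    have := (algebraMap k (AlgebraicClosure k)).map_det B
    rw [h, map_zero] at this
    exact this.symm)
  obtain ⟨c, hc⟩ := (Matrix.mulVec_surjective_iff_isUnit.2 (B.isUnit_iff_isUnit_det.2 (Ne.isUnit hB))) (fun _ => (1 : k))
  refine ⟨∑ j, c j • v (σ j), fun i h => ?_⟩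
  have h1 : ∑ j, c j • A i j = 0 := by
    rw [← h, TensorProduct.tmul_sum, map_sum]
    exact Finset.sum_congr rfl fun j _ => by
      rw [TensorProduct.tmul_smul, LinearMap.map_smul_of_tower]
  have h2 := congrArg (fun z => bK.repr z (f i)) h1
  simp only [map_sum, map_smul, Finsupp.coe_finsetSum, Finset.sum_apply, Finsupp.smul_apply, smul_eq_mul, map_zero, Finsupp.zero_apply] at h2
  have h3 := congrFun hc i
  simp only [Matrix.mulVec, dotProduct, B, Matrix.of_apply] at h3
  refine one_ne_zero (α := k) (h3.symm.trans (Eq.trans ?_ h2))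
  exact Finset.sum_congr rfl fun j _ => mul_comm _ _

end Groth.Agent.S8383
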