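import Groth.Statements.S8441


set_option autoImplicit false
universe u v w
open SGA3t2b

namespace Groth.Agent.S8441

/-- Let R be a root system with a system of simple roots a₁, …, aₙ and simple reflections rᵢ, and put θᵢ
= rₙ ⋯ rᵢ₊₁(aᵢ). Then the θᵢ form a basis of the group generated by the roots. Stated for a root
pairing over ℤ (Mathlib) with a base whose support is enumerated by Fin n: the θᵢ are ℤ-linearly
independent and their ℤ-span is the ℤ-span of all roots. -/
theorem result {ι : Type u} {M : Type v} {N : Type w} [AddCommGroup M] [Module ℤ M]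
    [AddCommGroup N] [Module ℤ N] (P : RootPairing ι ℤ M N) (b : P.Base) (n : ℕ) (e : Fin n ≃ ↥b.support) :
    LinearIndependent ℤ (fun i : Fin n =>
      ((List.finRange n).filter (fun j => i < j)).foldl (fun x j => P.reflection (e j : ι) x) (P.root (e i : ι))) ∧
    Submodule.span ℤ (Set.range (fun i : Fin n =>
      ((List.finRange n).filter (fun j => i < j)).foldl (fun x j => P.reflection (e j : ι) x) (P.root (e i : ι)))) =
      Submodule.span ℤ (Set.range P.root) := by
  obtain rfl : (inferInstanceAs (Module ℤ M)) = AddCommGroup.toIntModule M := Subsingleton.elim _ _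
  have hset : P.root '' (b.support : Set ι) = Set.range (fun i : Fin n => P.root (e i : ι)) := by
    ext x
    constructor
    · rintro ⟨i, hi, rfl⟩
      obtain ⟨j, hj⟩ := e.surjective ⟨i, hi⟩
      exact ⟨j, by simp [hj]⟩
    · rintro ⟨j, rfl⟩
      exact ⟨_, (e j).2, rfl⟩
  have hspan : Submodule.span ℤ (Set.range (fun i : Fin n => P.root (e i : ι))) = Submodule.span ℤ (Set.range P.root) := by
    rw [← hset]
    exact b.span_root_support
  have hli : LinearIndependent ℤ (fun i : Fin n => P.root (e i : ι)) :=
    b.linearIndepOn_root.linearIndependent.comp e e.injective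
  have hfold : ∀ (S : Submodule ℤ M) (L : List (Fin n)) (x : M), (∀ j ∈ L, P.root (e j : ι) ∈ S) →
      L.foldl (fun x j => P.reflection (e j : ι) x) x - x ∈ S := by
    intro S L
    induction L with
    | nil => intro x _; simp
    | cons j L ih =>
      intro x hL
      rw [List.foldl_cons]
      have h1 := ih (P.reflection (e j : ι) x) (fun k hk => hL k (List.mem_cons_of_mem _ hk))
      have h2 : P.reflection (e j : ι) x - x ∈ S := by
        rw [P.reflection_apply, sub_sub_cancel_left]
        exact S.neg_mem (S.smul_mem _ (hL j List.mem_cons_self))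
      have := S.add_mem h1 h2
      rwa [sub_add_sub_cancel] at this
  set a := fun i : Fin n => P.root (e i : ι) with ha
  set t := fun i : Fin n => ((List.finRange n).filter (fun j => i < j)).foldl (fun x j => P.reflection (e j : ι) x) (P.root (e i : ι)) with ht
  have htri : ∀ i, t i - a i ∈ Submodule.span ℤ (a '' {j | i < j}) := fun i =>
    hfold _ _ _ fun j hj => Submodule.subset_span ⟨j, by simpa using hj, rfl⟩
  have hle : ∀ i, a i ∈ Submodule.span ℤ (Set.range t) := by
    intro i
    induction i using WellFoundedGT.induction with
    | ind i ih =>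
      have h1 : Submodule.span ℤ (a '' {j | i < j}) ≤ Submodule.span ℤ (Set.range t) :=
        Submodule.span_le.2 (by rintro _ ⟨j, hj, rfl⟩; exact ih j hj)
      have := (Submodule.span ℤ (Set.range t)).sub_mem (Submodule.subset_span ⟨i, rfl⟩) (h1 (htri i))
      rwa [sub_sub_cancel] at this
  have hts : ∀ i, t i ∈ Submodule.span ℤ (Set.range a) := fun i => by
    have := (Submodule.span ℤ (Set.range a)).add_mem (Submodule.span_mono (Set.image_subset_range _ _) (htri i))
      (Submodule.subset_span ⟨i, rfl⟩)
    rwa [sub_add_cancel] at this
  have hEq : Submodule.span ℤ (Set.range t) = Submodule.span ℤ (Set.range a) :=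
    le_antisymm (Submodule.span_le.2 (Set.range_subset_iff.2 hts)) (Submodule.span_le.2 (Set.range_subset_iff.2 hle))
  refine ⟨?_, hEq.trans hspan⟩
  rw [Fintype.linearIndependent_iff]
  intro c hc i
  induction i using WellFoundedLT.induction with
  | ind i ih =>
    refine hli.eq_zero_of_smul_mem_span i (c i) ?_
    have h1 : ∀ j, c j • t j - (if j = i then c i • a i else 0) ∈ Submodule.span ℤ (a '' {j | i < j}) := by
      intro j
      rcases lt_trichotomy j i with h | rfl | h
      · simp [ih j h, h.ne]
      · rw [if_pos rfl]
        convert Submodule.smul_mem _ (c j) (htri j) using 1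
        exact (smul_sub (c j) (t j) (a j)).symm
      · rw [if_neg h.ne', sub_zero]
        refine Submodule.smul_mem _ _ ?_
        have := Submodule.add_mem _ (Submodule.span_mono (Set.image_mono fun k hk => lt_trans h hk) (htri j))
          (Submodule.subset_span (R := ℤ) (⟨j, h, rfl⟩ : a j ∈ a '' {j | i < j}))
        rwa [sub_add_cancel] at this
    have h2 := Submodule.sum_mem _ (t := Finset.univ) fun j _ => h1 j
    rw [Finset.sum_sub_distrib, hc, Finset.sum_ite_eq', if_pos (Finset.mem_univ _), zero_sub, neg_mem_iff] at h2
    refine Submodule.span_mono (Set.image_mono fun j hj => ?_) h2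
    simp only [Set.mem_sdiff, Set.mem_univ, Set.mem_singleton_iff, true_and]
    exact ne_of_gt hj

end Groth.Agent.S8441
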