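import Groth.Statements.S8471
import Mathlib

set_option autoImplicit false
set_option backward.isDefEq.respectTransparency.types false
set_option maxHeartbeats 1000000
set_option linter.all false
open Red

namespace Groth.Agent.S8471
open Groth.Agent

/-- Let k be a field and F ∈ k(X) a rational function whose denominator does not vanish at 0 and with
F(0) = 1. Suppose that in the field of fractions L of k[X₀, X₁] one has F(X₀ + X₁ · F(X₀)) = F(X₀) ·
F(X₁) (the functional equation F(x + y F(x)) = F(x) F(y)). Then there is a ∈ k with F = 1 + a X.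
(The published statement takes the identity on an open neighbourhood of the origin of 𝔾_a × 𝔾_a on
which all terms are defined; this row takes it as an identity of rational functions in two
variables.) -/
theorem result (k : Type) [Field k] (F : RatFunc k)
    (h0 : F.denom.eval 0 ≠ 0) (h1 : F.num.eval 0 = F.denom.eval 0)
    (hFE : RatFunc.eval (algebraMap k (FractionRing (MvPolynomial (Fin 2) k)))
        (algebraMap (MvPolynomial (Fin 2) k) (FractionRing (MvPolynomial (Fin 2) k)) (MvPolynomial.X 0) +
          algebraMap (MvPolynomial (Fin 2) k) (FractionRing (MvPolynomial (Fin 2) k)) (MvPolynomial.X 1) *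
            RatFunc.eval (algebraMap k (FractionRing (MvPolynomial (Fin 2) k)))
              (algebraMap (MvPolynomial (Fin 2) k) (FractionRing (MvPolynomial (Fin 2) k)) (MvPolynomial.X 0)) F) F =
      RatFunc.eval (algebraMap k (FractionRing (MvPolynomial (Fin 2) k)))
          (algebraMap (MvPolynomial (Fin 2) k) (FractionRing (MvPolynomial (Fin 2) k)) (MvPolynomial.X 0)) F *
        RatFunc.eval (algebraMap k (FractionRing (MvPolynomial (Fin 2) k)))
          (algebraMap (MvPolynomial (Fin 2) k) (FractionRing (MvPolynomial (Fin 2) k)) (MvPolynomial.X 1)) F) :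
    ∃ a : k, F = 1 + RatFunc.C a * RatFunc.X := by
    classical
    let Ω := AlgebraicClosure k
    let R2 := MvPolynomial (Fin 1) Ω
    let K := FractionRing R2
    let x0 : K := algebraMap R2 K (MvPolynomial.X 0)
    let A : k →+* K := (algebraMap Ω K).comp (algebraMap k Ω)
    have hRK : Function.Injective (algebraMap R2 K) := IsFractionRing.injective R2 K
    -- `x0` is transcendental over Ω
    have htr : Function.Injective (Polynomial.aeval (R := Ω) x0) := by
      have e : (Polynomial.aeval (R := Ω) x0) = (IsScalarTower.toAlgHom Ω R2 K).comp (Polynomial.aeval (MvPolynomial.X 0 : R2)) :=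
        Polynomial.algHom_ext (by simp [x0])
      rw [e]
      refine hRK.comp ?_
      refine Function.LeftInverse.injective (g := MvPolynomial.aeval (fun _ : Fin 1 => (Polynomial.X : Polynomial Ω))) fun P => ?_
      have := Polynomial.algHom_ext (f := (MvPolynomial.aeval (fun _ : Fin 1 => (Polynomial.X : Polynomial Ω))).comp
        (Polynomial.aeval (MvPolynomial.X 0 : R2))) (g := AlgHom.id Ω _) (by simp)
      exact AlgHom.congr_fun this P
    -- move to `K[Y]`
    let g : MvPolynomial (Fin 2) k →+* Polynomial K :=
      MvPolynomial.eval₂Hom ((Polynomial.C : K →+* Polynomial K).comp A) ![Polynomial.C x0, Polynomial.X]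
    have hg : Function.Injective g := by
      let q : MvPolynomial (Fin 2) k →+* Polynomial K :=
        (Polynomial.mapRingHom (algebraMap R2 K)).comp
          (((MvPolynomial.finSuccEquiv Ω 1).toRingEquiv.toRingHom).comp
            (((MvPolynomial.renameEquiv Ω (Equiv.swap (0 : Fin 2) 1)).toRingEquiv.toRingHom).comp
              (MvPolynomial.map (algebraMap k Ω))))
      have hgq : g = q := by
        refine MvPolynomial.ringHom_ext (fun r => ?_) (fun i => ?_)
        · simp [g, q, A, MvPolynomial.finSuccEquiv_apply, IsScalarTower.algebraMap_apply Ω R2 K]; rfl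
        · fin_cases i
          · have h2 : (1 : Fin 2) = Fin.succ 0 := rfl
            simp [g, q, x0]
            rw [h2, MvPolynomial.finSuccEquiv_X_succ, Polynomial.map_C]
          · simp [g, q, MvPolynomial.finSuccEquiv_X_zero]
      rw [hgq]
      exact (Polynomial.map_injective _ hRK).comp ((MvPolynomial.finSuccEquiv Ω 1).injective.comp
        ((MvPolynomial.renameEquiv Ω (Equiv.swap (0 : Fin 2) 1)).injective.comp
          (MvPolynomial.map_injective _ (algebraMap k Ω).injective)))
    let M := FractionRing (Polynomial K)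
    have hgM : Function.Injective ((algebraMap (Polynomial K) M).comp g) := (IsFractionRing.injective (Polynomial K) M).comp hg
    let ψ : FractionRing (MvPolynomial (Fin 2) k) →+* M := IsFractionRing.lift hgM
    have hψ : ∀ r, ψ (algebraMap _ _ r) = algebraMap (Polynomial K) M (g r) := fun r => IsFractionRing.lift_algebraMap hgM r
    have hψk : ψ.comp (algebraMap k (FractionRing (MvPolynomial (Fin 2) k))) =
        (algebraMap (Polynomial K) M).comp ((Polynomial.C : K →+* Polynomial K).comp A) := by
      ext r
      rw [RingHom.comp_apply, IsScalarTower.algebraMap_apply k (MvPolynomial (Fin 2) k) (FractionRing (MvPolynomial (Fin 2) k)), hψ]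
      simp [g]
    set n := F.num with hn
    set d := F.denom with hd
    have hdne : d ≠ 0 := F.denom_ne_zero
    have hn0 : n.eval 0 ≠ 0 := h1 ▸ h0
    have hev : ∀ (P : Polynomial k) (a : FractionRing (MvPolynomial (Fin 2) k)) (b : Polynomial K),
        ψ a = algebraMap _ M b → ψ (P.eval₂ (algebraMap k _) a) =
          algebraMap (Polynomial K) M (P.eval₂ ((Polynomial.C : K →+* Polynomial K).comp A) b) := by
      intro P a b h
      rw [Polynomial.hom_eval₂, hψk, h, ← Polynomial.hom_eval₂]
    have hnA : ∀ P : Polynomial k, P.eval₂ A x0 = Polynomial.aeval x0 (P.map (algebraMap k Ω)) := by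
      intro P
      rw [Polynomial.aeval_def, Polynomial.eval₂_map]
    have hAne : ∀ P : Polynomial k, P ≠ 0 → P.eval₂ A x0 ≠ 0 := by
      intro P hP h
      rw [hnA, ← map_zero (Polynomial.aeval (R := Ω) x0)] at h
      exact hP ((Polynomial.map_eq_zero_iff (algebraMap k Ω).injective).1 (htr h))
    have hnne : n ≠ 0 := fun h => hn0 (by rw [h, Polynomial.eval_zero])
    set c : K := n.eval₂ A x0 / d.eval₂ A x0 with hc
    have hc0 : c ≠ 0 := div_ne_zero (hAne n hnne) (hAne d hdne)
    have hC : ∀ P : Polynomial k, P.eval₂ ((Polynomial.C : K →+* Polynomial K).comp A) (Polynomial.C x0) = Polynomial.C (P.eval₂ A x0) :=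
      fun P => (Polynomial.hom_eval₂ P A Polynomial.C x0).symm
    have hCX : ∀ P : Polynomial k, P.eval₂ ((Polynomial.C : K →+* Polynomial K).comp A) Polynomial.X = P.map A := fun P => rfl
    set xY : Polynomial K := Polynomial.C x0 + Polynomial.X * Polynomial.C c with hxY
    have hψx : ψ (algebraMap (MvPolynomial (Fin 2) k) (FractionRing (MvPolynomial (Fin 2) k)) (MvPolynomial.X 0)) = algebraMap (Polynomial K) M (Polynomial.C x0) := by rw [hψ]; simp [g]
    have hψy : ψ (algebraMap (MvPolynomial (Fin 2) k) (FractionRing (MvPolynomial (Fin 2) k)) (MvPolynomial.X 1)) = algebraMap (Polynomial K) M Polynomial.X := by rw [hψ]; simp [g]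
    have hFx : ψ (RatFunc.eval (algebraMap k _) (algebraMap (MvPolynomial (Fin 2) k) (FractionRing (MvPolynomial (Fin 2) k)) (MvPolynomial.X 0)) F) =
        algebraMap (Polynomial K) M (Polynomial.C c) := by
      have hne : algebraMap (Polynomial K) M (Polynomial.C (d.eval₂ A x0)) ≠ 0 := by
        rw [Ne, map_eq_zero_iff _ (IsFractionRing.injective (Polynomial K) M), Polynomial.C_eq_zero]
        exact hAne d hdne
      rw [RatFunc.eval, map_div₀, hev _ _ _ hψx, hev _ _ _ hψx, hC, hC, div_eq_iff hne, ← map_mul, ← Polynomial.C_mul,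
        hc, div_mul_cancel₀ _ (hAne d hdne)]
    have key := congrArg ψ hFE
    have hrat : ∀ (a : FractionRing (MvPolynomial (Fin 2) k)) (b : Polynomial K), ψ a = algebraMap (Polynomial K) M b →
        ψ (RatFunc.eval (algebraMap k _) a F) = algebraMap (Polynomial K) M (n.eval₂ ((Polynomial.C : K →+* Polynomial K).comp A) b) /
          algebraMap (Polynomial K) M (d.eval₂ ((Polynomial.C : K →+* Polynomial K).comp A) b) := by
      intro a b h
      rw [RatFunc.eval, map_div₀, hev n a b h, hev d a b h]
    have hxarg : ψ (algebraMap (MvPolynomial (Fin 2) k) (FractionRing (MvPolynomial (Fin 2) k)) (MvPolynomial.X 0) +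
        algebraMap (MvPolynomial (Fin 2) k) (FractionRing (MvPolynomial (Fin 2) k)) (MvPolynomial.X 1) *
          RatFunc.eval (algebraMap k (FractionRing (MvPolynomial (Fin 2) k)))
            (algebraMap (MvPolynomial (Fin 2) k) (FractionRing (MvPolynomial (Fin 2) k)) (MvPolynomial.X 0)) F) =
        algebraMap (Polynomial K) M xY := by
      rw [map_add, map_mul, hψx, hψy, hFx, hxY, map_add, map_mul]
    rw [map_mul, hFx, hrat _ xY hxarg, hrat _ _ hψy, hCX, hCX, ← mul_div_assoc] at key
    have hxYdeg : xY.natDegree = 1 := by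
      rw [hxY, Polynomial.natDegree_C_add, Polynomial.natDegree_mul_C hc0, Polynomial.natDegree_X]
    have hdxY : d.eval₂ ((Polynomial.C : K →+* Polynomial K).comp A) xY ≠ 0 := by
      rw [← Polynomial.eval₂_map]
      intro h
      rcases Polynomial.comp_eq_zero_iff.1 h with h' | ⟨-, h'⟩
      · exact hdne ((Polynomial.map_eq_zero_iff A.injective).1 h')
      · rw [h', Polynomial.natDegree_C] at hxYdeg
        exact zero_ne_one hxYdeg
    have hdY : d.map A ≠ 0 := (Polynomial.map_ne_zero_iff A.injective).2 hdne
    have hinj := IsFractionRing.injective (Polynomial K) M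
    rw [div_eq_div_iff ((map_ne_zero_iff _ hinj).2 hdxY) ((map_ne_zero_iff _ hinj).2 hdY), ← map_mul, ← map_mul, ← map_mul] at key
    have keyP := hinj key
    have keyE : ∀ β : Ω, n.eval₂ A (x0 + algebraMap Ω K β * c) * algebraMap Ω K ((d.map (algebraMap k Ω)).eval β) =
        c * algebraMap Ω K ((n.map (algebraMap k Ω)).eval β) * d.eval₂ A (x0 + algebraMap Ω K β * c) := by
      intro β
      have e2 : ∀ P : Polynomial k, (P.map A).eval (algebraMap Ω K β) = algebraMap Ω K ((P.map (algebraMap k Ω)).eval β) := by
        intro P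
        rw [Polynomial.eval_map, Polynomial.eval_map, Polynomial.hom_eval₂]
      have e1 : ∀ P : Polynomial k, (P.eval₂ ((Polynomial.C : K →+* Polynomial K).comp A) xY).eval (algebraMap Ω K β) =
          P.eval₂ A (x0 + algebraMap Ω K β * c) := by
        intro P
        rw [← Polynomial.coe_evalRingHom, Polynomial.hom_eval₂]
        congr 1
        · ext r; simp
        · simp [hxY]; ring
      have h := congrArg (Polynomial.eval (algebraMap Ω K β)) keyP
      simp only [Polynomial.eval_mul, Polynomial.eval_C, e1, e2] at h
      exact h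
    have hcop : IsCoprime (n.map (algebraMap k Ω)) (d.map (algebraMap k Ω)) :=
      (RatFunc.isCoprime_num_denom F).map (Polynomial.mapRingHom (algebraMap k Ω))
    have hroot : ∀ (P : Polynomial k) (z : K), P ≠ 0 → P.eval₂ A z = 0 → ∃ α : Ω, z = algebraMap Ω K α := by
      intro P z hP hz
      set Q := P.map (algebraMap k Ω) with hQ
      have hQ0 : Q ≠ 0 := (Polynomial.map_ne_zero_iff (algebraMap k Ω).injective).2 hP
      have h := Polynomial.Splits.eq_prod_roots (IsAlgClosed.splits Q)
      have h2 : Polynomial.aeval z Q = 0 := by rw [Polynomial.aeval_def, hQ, Polynomial.eval₂_map]; exact hz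
      rw [h, map_mul, Polynomial.aeval_C, mul_eq_zero, map_multiset_prod, Multiset.prod_eq_zero_iff] at h2
      rcases h2 with h2 | h2
      · exact absurd ((map_eq_zero _).1 h2) (Polynomial.leadingCoeff_ne_zero.2 hQ0)
      · rw [Multiset.map_map, Multiset.mem_map] at h2
        obtain ⟨α, -, hα⟩ := h2
        refine ⟨α, ?_⟩
        simpa [sub_eq_zero] using hα
    by_cases hconst : n.natDegree = 0 ∧ d.natDegree = 0
    · refine ⟨0, ?_⟩
      rw [map_zero, zero_mul, add_zero, ← RatFunc.num_div_denom F, ← hn, ← hd, Polynomial.eq_C_of_natDegree_eq_zero hconst.1,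
        Polynomial.eq_C_of_natDegree_eq_zero hconst.2, Polynomial.coeff_zero_eq_eval_zero, Polynomial.coeff_zero_eq_eval_zero, h1, div_self]
      exact RatFunc.algebraMap_ne_zero (by simpa using h0)
    -- some root of numerator or denominator
    obtain ⟨β, hβ⟩ : ∃ β : Ω, (n.map (algebraMap k Ω)).eval β = 0 ∨ (d.map (algebraMap k Ω)).eval β = 0 := by
      rcases not_and_or.1 hconst with h | h
      · obtain ⟨β, hβ⟩ := IsAlgClosed.exists_root (n.map (algebraMap k Ω))
          (by rw [Polynomial.degree_map]; intro hd0; exact h (Polynomial.natDegree_eq_of_degree_eq_some hd0))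
        exact ⟨β, Or.inl hβ⟩
      · obtain ⟨β, hβ⟩ := IsAlgClosed.exists_root (d.map (algebraMap k Ω))
          (by rw [Polynomial.degree_map]; intro hd0; exact h (Polynomial.natDegree_eq_of_degree_eq_some hd0))
        exact ⟨β, Or.inr hβ⟩
    have hne2 : ∀ β, (n.map (algebraMap k Ω)).eval β = 0 → (d.map (algebraMap k Ω)).eval β ≠ 0 := by
      intro β h h'
      obtain ⟨a, b, hab⟩ := hcop
      have := congrArg (Polynomial.eval β) hab
      simp [h, h'] at this
    obtain ⟨α, hα⟩ : ∃ α : Ω, x0 + algebraMap Ω K β * c = algebraMap Ω K α := by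
      rcases hβ with h | h
      · refine hroot n _ hnne ?_
        have := keyE β
        rw [h, map_zero, mul_zero, zero_mul, mul_eq_zero, map_eq_zero] at this
        exact this.resolve_right (hne2 β h)
      · refine hroot d _ hdne ?_
        have := keyE β
        rw [h, map_zero, mul_zero, eq_comm, mul_eq_zero, mul_eq_zero, map_eq_zero] at this
        rcases this with (h' | h') | h'
        · exact absurd h' hc0
        · exact absurd h (hne2 β h')
        · exact h'
    have hβ0 : β ≠ 0 := by
      rintro rfl
      rcases hβ with h | h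
      · rw [Polynomial.eval_map, Polynomial.eval₂_at_zero, map_eq_zero, Polynomial.coeff_zero_eq_eval_zero] at h; exact hn0 h
      · rw [Polynomial.eval_map, Polynomial.eval₂_at_zero, map_eq_zero, Polynomial.coeff_zero_eq_eval_zero] at h; exact h0 h
    have hlin : Polynomial.C β * n.map (algebraMap k Ω) = (Polynomial.C α - Polynomial.X) * d.map (algebraMap k Ω) := by
      apply htr
      rw [map_mul, map_mul, map_sub, Polynomial.aeval_C, Polynomial.aeval_C, Polynomial.aeval_X, ← hnA, ← hnA, ← hα,
        add_sub_cancel_left, hc, mul_assoc, div_mul_cancel₀ _ (hAne d hdne)]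
    have hd1 : d = 1 := by
      have hdvd : d.map (algebraMap k Ω) ∣ Polynomial.C β * n.map (algebraMap k Ω) := ⟨Polynomial.C α - Polynomial.X, by rw [hlin, mul_comm]⟩
      have hu : IsUnit (d.map (algebraMap k Ω)) :=
        hcop.symm.isUnit_of_dvd' dvd_rfl ((IsUnit.dvd_mul_left (Polynomial.isUnit_C.2 (isUnit_iff_ne_zero.2 hβ0))).1 hdvd)
      have hm : (d.map (algebraMap k Ω)).Monic := (RatFunc.monic_denom F).map _
      have h1' := hm.eq_one_of_isUnit hu
      exact Polynomial.map_injective _ (algebraMap k Ω).injective (by rw [h1', Polynomial.map_one])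
    have hn1 : n.natDegree ≤ 1 := by
      rw [hd1, Polynomial.map_one, mul_one] at hlin
      rw [← Polynomial.natDegree_map (algebraMap k Ω), ← Polynomial.natDegree_C_mul hβ0, hlin]
      exact (Polynomial.natDegree_sub_le _ _).trans (by simp)
    have hc1 : n.coeff 0 = 1 := by
      rw [Polynomial.coeff_zero_eq_eval_zero, h1, hd1, Polynomial.eval_one]
    refine ⟨n.coeff 1, ?_⟩
    conv_lhs => rw [← RatFunc.num_div_denom F, ← hn, ← hd, hd1, map_one, div_one, Polynomial.eq_X_add_C_of_natDegree_le_one hn1]
    rw [hc1, map_one, map_add, map_mul, map_one, RatFunc.algebraMap_C, RatFunc.algebraMap_X, add_comm]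

end Groth.Agent.S8471
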