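import Groth.Statements.S8524
import Mathlib

set_option autoImplicit false
set_option backward.isDefEq.respectTransparency.types false
universe u
open CategoryTheory CategoryTheory.Limits AlgebraicGeometry Opposite
open EtAcyc

namespace Groth.Agent.S8524

/-- For the small etale site of a scheme and abelian sheaves: let L be a set of primes, F an abelian
L-torsion sheaf on the small etale site of a scheme X, and U an etale X-scheme with quasi-compact
underlying space. Then every section of F over U is killed by some positive integer all of whose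
prime factors lie in L. -/
theorem result {X : Scheme.{u}} (L : Set ℕ) (F : EtCoh.Ab X)
    (hF : EtAcyc.IsLTorsion L F) (U : X.Etale) [CompactSpace U.left] (s : EtCoh.sect F U) :
    ∃ m : ℕ, EtAcyc.PrimesIn L m ∧ m • s = 0 := by
  classical
  choose V g m hv hm h0 using fun x : U.left => hF U s x
  have ho : ∀ x, IsOpen (Set.range (g x).left) := fun x => by
    haveI : Etale (g x).left := inferInstance
    exact (g x).left.isOpenMap.isOpen_range
  obtain ⟨t, ht⟩ := isCompact_univ.elim_finite_subcover _ ho (fun x _ => Set.mem_iUnion.2 ⟨x, by obtain ⟨v, hv⟩ := hv x; exact ⟨v, hv⟩⟩)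
  refine ⟨∏ x ∈ t, m x, ⟨Finset.prod_pos fun x _ => (hm x).1, fun p hp hd => ?_⟩, ?_⟩
  · obtain ⟨x, hx, hd'⟩ := (Prime.dvd_finsetProd_iff hp.prime _).1 hd
    exact (hm x).2 p hp hd'
  · have hc : Sieve.ofArrows _ (fun x : {x // x ∈ t} => g x.1) ∈ X.smallEtaleTopology U := by
      rw [Scheme.ofArrows_mem_smallEtaleTopology_iff, Set.eq_univ_iff_forall]
      intro y
      obtain ⟨x, hx, hy⟩ := Set.mem_iUnion₂.1 (ht (Set.mem_univ y))
      exact Set.mem_iUnion.2 ⟨⟨x, hx⟩, hy⟩
    have hsep := (((isSheaf_iff_isSheaf_of_type _ _).1 ((sheafCompose X.smallEtaleTopology (forget AddCommGrpCat.{u + 1})).obj F).property) _ hc).isSeparatedFor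
    refine hsep.ext fun W f hf => ?_
    rw [Sieve.ofArrows, Sieve.generate_apply] at hf
    obtain ⟨_, b, _, ⟨⟨x, hx⟩⟩, rfl⟩ := hf
    obtain ⟨c, hc'⟩ := Finset.dvd_prod_of_mem m hx
    show F.obj.map (b ≫ g x).op ((∏ x ∈ t, m x) • s) = F.obj.map (b ≫ g x).op 0
    rw [map_zero, map_nsmul, op_comp, Functor.map_comp, ConcreteCategory.comp_apply, ← map_nsmul, hc', mul_comm, mul_nsmul', h0, smul_zero, map_zero]

end Groth.Agent.S8524
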