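import Groth.Statements.S8525
import Mathlib
import Groth.Agent.Lib.LEtGerm

set_option autoImplicit false
universe u
open CategoryTheory CategoryTheory.Limits AlgebraicGeometry Opposite
open EtAcyc

namespace Groth.Agent.S8525

/-- Let L be a set of primes and F an abelian sheaf on the small etale site of a scheme X. Then F is an
L-torsion sheaf if and only if for every geometric point ξ of X every element of the stalk F_ξ is
killed by a positive integer all of whose prime factors lie in L. -/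
theorem result {X : Scheme.{u}} (L : Set ℕ) (F : EtCoh.Ab X) :
    EtAcyc.IsLTorsion L F ↔
      ∀ (Ω : Type u) [Field Ω] [IsSepClosed Ω] (ξ : Spec (CommRingCat.of Ω) ⟶ X)
        (t : (EtCoh.stalk ξ).obj F), ∃ m : ℕ, EtAcyc.PrimesIn L m ∧ m • t = 0 := by
  constructor
  · intro h Ω _ _ ξ t
    let Φ := Scheme.pointSmallEtale ξ
    obtain ⟨V, v, z, rfl⟩ := Φ.toPresheafFiber_jointly_surjective (P := F.obj) t
    obtain ⟨W, g, m, ⟨w, hw⟩, hm, h0⟩ := h V z (v.left (default : Spec (CommRingCat.of Ω)))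
    refine ⟨m, hm, ?_⟩
    refine (map_nsmul (Φ.toPresheafFiber V v F.obj).hom m z).symm.trans ?_
    exact (Groth.Agent.LEtGerm.germ_eq_zero_iff F ξ V v (m • z)).2
      ⟨W, g, ⟨w, hw⟩, (map_nsmul (F.obj.map g.op).hom m z).trans h0⟩
  · intro h U s x
    obtain ⟨Ω, _, _, ξ, v, hv⟩ := Groth.Agent.LEtGerm.exists_point U x
    obtain ⟨m, hm, hm0⟩ := h Ω ξ ((Scheme.pointSmallEtale ξ).toPresheafFiber U v F.obj s)
    obtain ⟨W, g, ⟨w, hw⟩, hg⟩ := (Groth.Agent.LEtGerm.germ_eq_zero_iff F ξ U v (m • s)).1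
      ((map_nsmul ((Scheme.pointSmallEtale ξ).toPresheafFiber U v F.obj).hom m s).trans hm0)
    exact ⟨W, g, m, ⟨w, hw.trans hv⟩, hm, (map_nsmul (F.obj.map g.op).hom m s).symm.trans hg⟩

end Groth.Agent.S8525
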