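import Groth.Statements.S8569
import Mathlib

set_option autoImplicit false
open CategoryTheory
universe v u
open SGA4

namespace Groth.Agent.S8569

section

open CategoryTheory Opposite

variable {C : Type u} [SmallCategory C] (J : GrothendieckTopology C) (D : Type u) [SmallCategory D]
set_option linter.unusedSectionVars false

/-- A morphism in the product. -/
abbrev pr {a a' : C} {b b' : Dᵒᵖ} (f : a ⟶ a') (k : b ⟶ b') : ((a, b) : C × Dᵒᵖ) ⟶ (a', b') := (f, k)

/-- The sieve of the first factor cut out by a sieve of the product. -/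
def restr {X : C × Dᵒᵖ} (S : Sieve X) : Sieve X.1 where
  arrows Y f := S.arrows (pr D f (𝟙 X.2) : ((Y, X.2) : C × Dᵒᵖ) ⟶ X)
  downward_closed {Y Z} f hf g := by
    have := S.downward_closed hf (pr D (g) (𝟙 X.2) : ((Z, X.2) : C × Dᵒᵖ) ⟶ (Y, X.2))
    simpa [prod_comp] using this

/-- The topology on the product with a category of parameters. -/
def prodTop : GrothendieckTopology (C × Dᵒᵖ) where
  sieves X := {S | restr D S ∈ J X.1}
  top_mem' X := J.superset_covering (fun _ _ _ => (trivial : True)) (J.top_mem X.1)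
  pullback_stable' X Y S f hS := by
    refine J.superset_covering ?_ (J.pullback_stable f.1 hS)
    intro Z g hg
    have hg' : S.arrows (pr D (g ≫ f.1) (𝟙 X.2) : ((Z, X.2) : C × Dᵒᵖ) ⟶ X) := hg
    have := S.downward_closed hg' (pr D (𝟙 Z) (f.2) : ((Z, Y.2) : C × Dᵒᵖ) ⟶ (Z, X.2))
    show S ((pr D (g) (𝟙 Y.2) : ((Z, Y.2) : C × Dᵒᵖ) ⟶ Y) ≫ f)
    simpa [prod_comp] using this
  transitive' X S hS R hR := by
    refine J.transitive hS (restr D R) fun Z f hf => ?_
    have hf' : S.arrows (pr D (f) (𝟙 X.2) : ((Z, X.2) : C × Dᵒᵖ) ⟶ X) := hf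
    refine J.superset_covering ?_ (hR hf')
    intro W g hg
    have : R ((pr D (g) (𝟙 X.2) : ((W, X.2) : C × Dᵒᵖ) ⟶ (Z, X.2)) ≫ (pr D (f) (𝟙 X.2) : ((Z, X.2) : C × Dᵒᵖ) ⟶ X)) := hg
    show R.arrows (pr D (g ≫ f) (𝟙 X.2) : ((W, X.2) : C × Dᵒᵖ) ⟶ X)
    simpa [prod_comp] using this

/-- Functors into presheaves are presheaves on the product. -/
def toPre : (D ⥤ Cᵒᵖ ⥤ Type u) ⥤ ((C × Dᵒᵖ)ᵒᵖ ⥤ Type u) where
  obj F :=
    { obj := fun X => (F.obj X.unop.2.unop).obj (op X.unop.1)
      map := fun {X Y} f => (F.map f.unop.2.unop).app _ ≫ (F.obj Y.unop.2.unop).map f.unop.1.op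
      map_id := fun X => by simp
      map_comp := fun f g => by simp [← NatTrans.naturality_assoc] }
  map {F G} η :=
    { app := fun X => (η.app X.unop.2.unop).app (op X.unop.1)
      naturality := fun X Y f => by
        simp only [Category.assoc]
        rw [(η.app Y.unop.2.unop).naturality, ← Category.assoc, ← Category.assoc]
        exact congrArg (· ≫ _) (NatTrans.congr_app (η.naturality f.unop.2.unop) _) }

instance : (toPre (C := C) D).Faithful where
  map_injective {F G} η η' h := by
    ext d c x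
    exact congrArg (fun t : (toPre D).obj F ⟶ (toPre D).obj G => t.app (op (c.unop, op d)) x) h

instance : (toPre (C := C) D).Full where
  map_surjective {F G} θ := by
    refine ⟨{ app := fun d => { app := fun c => θ.app (op (c.unop, op d)), naturality := fun c c' f => ?_ }, naturality := fun d d' h => ?_ }, ?_⟩
    · have := θ.naturality (X := op (c.unop, op d)) (Y := op (c'.unop, op d))
        (pr D (f.unop) (𝟙 (op d)) : ((c'.unop, op d) : C × Dᵒᵖ) ⟶ (c.unop, op d)).op
      simpa [toPre] using this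
    · ext1; ext1 c
      have := θ.naturality (X := op (c.unop, op d)) (Y := op (c.unop, op d'))
        (pr D (𝟙 c.unop) (h.op) : ((c.unop, op d') : C × Dᵒᵖ) ⟶ (c.unop, op d)).op
      simpa [toPre] using this
    · ext X x; rfl

theorem isSheaf_toPre {F : D ⥤ Cᵒᵖ ⥤ Type u} (h : ∀ d, Presieve.IsSheaf J (F.obj d)) :
    Presieve.IsSheaf (prodTop J D) ((toPre D).obj F) := by
  rintro ⟨c, d⟩ S hS x hx
  have hc : Presieve.FamilyOfElements.Compatible (P := F.obj d.unop) (R := (restr D S).arrows)
      (fun Y f hf => x (pr D (f) (𝟙 d) : ((Y, d) : C × Dᵒᵖ) ⟶ (c, d)) hf) := by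
    intro Y₁ Y₂ Z g₁ g₂ f₁ f₂ h₁ h₂ e
    have := hx (pr D (g₁) (𝟙 d) : ((Z, d) : C × Dᵒᵖ) ⟶ (Y₁, d)) (pr D (g₂) (𝟙 d) : ((Z, d) : C × Dᵒᵖ) ⟶ (Y₂, d)) h₁ h₂
      (by simp [prod_comp, e])
    simp [toPre] at this
    exact this
  obtain ⟨t, ht, huniq⟩ := (h d.unop) _ hS _ hc
  refine ⟨t, ?_, fun t' ht' => huniq _ fun Y f hf => ?_⟩
  · rintro ⟨Y, d'⟩ ⟨f, k⟩ hfk
    change Y ⟶ c at f
    change d' ⟶ d at k
    apply ((h d'.unop) _ (J.pullback_stable f hS)).isSeparatedFor.ext
    intro W g hg
    have hg' : S (pr D (g ≫ f) (𝟙 d) : ((W, d) : C × Dᵒᵖ) ⟶ (c, d)) := hg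
    have e1 : (F.obj d.unop).map (g ≫ f).op t = x _ hg' := ht (g ≫ f) hg'
    have e2 := hx (pr D (g) (𝟙 d') : ((W, d') : C × Dᵒᵖ) ⟶ (Y, d')) (pr D (𝟙 W) (k) : ((W, d') : C × Dᵒᵖ) ⟶ (W, d)) hfk hg'
      (by simp [prod_comp])
    simp [toPre] at e2
    show (F.obj d'.unop).map g.op ((F.obj d'.unop).map f.op ((F.map k.unop).app _ t)) = (F.obj d'.unop).map g.op (x _ hfk)
    refine Eq.trans ?_ e2.symm
    rw [← e1]
    refine Eq.trans ?_ ((F.map k.unop).naturality_apply (g ≫ f).op t).symm
    rw [op_comp, Functor.map_comp_apply]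
  · have := ht' (pr D (f) (𝟙 d) : ((Y, d) : C × Dᵒᵖ) ⟶ (c, d)) hf
    simp [toPre] at this
    exact this

theorem hext {a b : C × Dᵒᵖ} {p q : a ⟶ b} (h1 : p.1 = q.1) (h2 : p.2 = q.2) : p = q := Prod.ext h1 h2

theorem mapmap (P : (C × Dᵒᵖ)ᵒᵖ ⥤ Type u) {a b e : C × Dᵒᵖ} (p : b ⟶ a) (q : e ⟶ b) (z : P.obj (op a)) :
    P.map q.op (P.map p.op z) = P.map (q ≫ p).op z := by
  rw [op_comp, Functor.map_comp_apply]

theorem sheaf_restrict {P : (C × Dᵒᵖ)ᵒᵖ ⥤ Type u} (hP : Presieve.IsSheaf (prodTop J D) P) (d : Dᵒᵖ) :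
    Presieve.IsSheaf J ((Prod.sectL C d).op ⋙ P) := by
  intro c T hT x hx
  let S : Sieve ((c, d) : C × Dᵒᵖ) :=
    { arrows := fun Y g => T g.1
      downward_closed := fun {Y Z} g hg h => T.downward_closed hg h.1 }
  let y : Presieve.FamilyOfElements P S.arrows := fun Y g hg => P.map (pr D (𝟙 Y.1) g.2 : Y ⟶ (Y.1, d)).op (x g.1 hg)
  have hy : y.Compatible := by
    rw [Presieve.compatible_iff_sieveCompatible]
    intro Y Z g h hg
    show P.map (pr D (𝟙 Z.1) (h ≫ g).2 : Z ⟶ (Z.1, d)).op (x (h.1 ≫ g.1) _) = P.map h.op (P.map (pr D (𝟙 Y.1) g.2 : Y ⟶ (Y.1, d)).op (x g.1 hg))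
    rw [(Presieve.compatible_iff_sieveCompatible x).1 hx g.1 h.1 hg]
    refine (mapmap D P (pr D h.1 (𝟙 d)) (pr D (𝟙 Z.1) (h ≫ g).2 : Z ⟶ (Z.1, d)) (x g.1 hg)).trans
      (Eq.trans ?_ (mapmap D P (pr D (𝟙 Y.1) g.2 : Y ⟶ (Y.1, d)) h (x g.1 hg)).symm)
    exact DFunLike.congr_fun (congrArg (fun z => ConcreteCategory.hom (P.map z)) (congrArg Quiver.Hom.op (hext D (by simp [prod_comp]) (by simp [prod_comp])))) _
  have hS : S ∈ prodTop J D (c, d) := J.superset_covering (fun _ _ hf => hf) hT
  obtain ⟨t, ht, huniq⟩ := hP S hS y hy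
  refine ⟨t, fun Y f hf => ?_, fun t' ht' => huniq _ fun Y g hg => ?_⟩
  · refine (ht (pr D f (𝟙 d) : ((Y, d) : C × Dᵒᵖ) ⟶ (c, d)) hf).trans ?_
    show P.map (𝟙 (op ((Y, d) : C × Dᵒᵖ))) _ = _
    exact DFunLike.congr_fun (congrArg (fun z => ConcreteCategory.hom z) (P.map_id (op ((Y, d) : C × Dᵒᵖ)))) _
  · show P.map g.op t' = P.map (pr D (𝟙 Y.1) g.2 : Y ⟶ (Y.1, d)).op (x g.1 hg)
    rw [← ht' g.1 hg]
    refine Eq.trans ?_ (mapmap D P (pr D g.1 (𝟙 d)) (pr D (𝟙 Y.1) g.2 : Y ⟶ (Y.1, d)) t').symm
    exact DFunLike.congr_fun (congrArg (fun z => ConcreteCategory.hom (P.map z)) (congrArg Quiver.Hom.op (hext D (by simp [prod_comp]) (by simp [prod_comp])))) _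

/-- Functors into sheaves are sheaves on the product site. -/
def toSh : (D ⥤ Sheaf J (Type u)) ⥤ Sheaf (prodTop J D) (Type u) :=
  ObjectProperty.lift _ ((Functor.whiskeringRight D _ _).obj (sheafToPresheaf J (Type u)) ⋙ toPre D) fun F =>
    (isSheaf_iff_isSheaf_of_type _ _).2 (isSheaf_toPre J D fun d => (isSheaf_iff_isSheaf_of_type _ _).1 (F.obj d).property)

instance : (toSh J D).IsEquivalence := by
  haveI : ((Functor.whiskeringRight D _ _).obj (sheafToPresheaf J (Type u)) ⋙ toPre D).Faithful := inferInstance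
  haveI : ((Functor.whiskeringRight D _ _).obj (sheafToPresheaf J (Type u)) ⋙ toPre D).Full := by
    haveI := ((fullyFaithfulSheafToPresheaf J (Type u)).whiskeringRight D).full
    infer_instance
  haveI : (toSh J D).Faithful := Functor.Faithful.of_comp_iso (ObjectProperty.liftCompιIso _ _ _)
  haveI : (toSh J D).Full := Functor.Full.of_comp_faithful_iso (ObjectProperty.liftCompιIso _ _ _)
  haveI : (toSh J D).EssSurj := ⟨fun P => by
    have hs := fun d : D => sheaf_restrict J D ((isSheaf_iff_isSheaf_of_type _ _).1 P.property) (op d)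
    let F : D ⥤ Sheaf J (Type u) :=
      { obj := fun d => ⟨(Prod.sectL C (op d)).op ⋙ P.obj, (isSheaf_iff_isSheaf_of_type _ _).2 (hs d)⟩
        map := fun {d d'} h => ⟨{ app := fun c => P.obj.map (pr D (𝟙 c.unop) (h.op) : ((c.unop, op d') : C × Dᵒᵖ) ⟶ (c.unop, op d)).op
                                  naturality := fun c c' f => by
                                    simp only [Functor.comp_map]
                                    exact (P.obj.map_comp _ _).symm.trans ((congrArg P.obj.map (Quiver.Hom.unop_inj (hext D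
                                      (show f.unop ≫ 𝟙 c.unop = 𝟙 c'.unop ≫ f.unop by simp)
                                      (show 𝟙 (op d') ≫ h.op = h.op ≫ 𝟙 (op d) by simp)).symm)).trans (P.obj.map_comp _ _)) }⟩
        map_id := fun d => by
          apply ObjectProperty.hom_ext
          ext1; ext1 c
          exact P.obj.map_id _
        map_comp := fun f g => by
          apply ObjectProperty.hom_ext
          ext1; ext1 c
          exact (congrArg P.obj.map (congrArg Quiver.Hom.op (hext D (by first | exact (Category.id_comp _).trans (Category.comp_id _).symm | exact (Category.comp_id _).trans (Category.id_comp _).symm | exact (Category.id_comp _).symm | exact (Category.comp_id _).symm | exact Category.id_comp _ | exact Category.comp_id _ | rfl) (by first | exact (Category.id_comp _).trans (Category.comp_id _).symm | exact (Category.comp_id _).trans (Category.id_comp _).symm | exact (Category.id_comp _).symm | exact (Category.comp_id _).symm | exact Category.id_comp _ | exact Category.comp_id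 _ | rfl)))).trans (P.obj.map_comp _ _) }
    refine ⟨F, ⟨ObjectProperty.isoMk _ (NatIso.ofComponents (fun X => Iso.refl _) fun {X Y} f => ?_)⟩⟩
    simp only [Iso.refl_hom, Category.comp_id, Category.id_comp]
    show P.obj.map _ ≫ P.obj.map _ = P.obj.map f
    exact (P.obj.map_comp _ _).symm.trans (congrArg P.obj.map (Quiver.Hom.unop_inj (hext D (by first | exact (Category.id_comp _).trans (Category.comp_id _).symm | exact (Category.comp_id _).trans (Category.id_comp _).symm | exact (Category.id_comp _).symm | exact (Category.comp_id _).symm | exact Category.id_comp _ | exact Category.comp_id _ | rfl) (by first | exact (Category.id_comp _).trans (Category.comp_id _).symm | exact (Category.comp_id _).trans (Category.id_comp _).symm | exact (Category.id_comp _).symm | exact (Category.comp_id _).symm | exact Category.id_comp _ | exact Category.comp_id _ | rfl))))⟩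
  exact {}

end

/-- Let E be a topos (a category equivalent to the category of sheaves of sets on a small site, for the
universe u) and D a u-small category. Then the category of functors D ⥤ E, which is the category of
sections of the constant D-topos with value E, is a topos. (The published statement is for an
arbitrary D-topos, i.e. a category bifibred in topoi over D; this row is the case of a constant
one.) -/
theorem result {E : Type v} [Category.{u} E] (hE : SGA4.IsTopos E)
    (D : Type u) [SmallCategory D] : SGA4.IsTopos (D ⥤ E) := by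
  obtain ⟨C, _, J, ⟨e⟩⟩ := hE
  exact ⟨C × Dᵒᵖ, inferInstance, prodTop J D, ⟨(e.congrRight (E := D)).trans (toSh J D).asEquivalence⟩⟩

end Groth.Agent.S8569
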