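import Groth.Statements.S8591
import Mathlib
import Groth.Agent.Lib.DetAeval

set_option autoImplicit false
universe u
open Polynomial
open Groth.Agent.DetAeval
open CAlg

namespace Groth.Agent.S8591

/-- Let k be a commutative ring, M a finite free k-module, u an endomorphism of M with characteristic
polynomial χ, and P a polynomial over k. Then the norm, from the k-algebra k[T]/(χ) (free of rank
the rank of M) down to k, of the class of P(T) equals det(P(u)). (The published statement writes the
quotient by det(u - T), which generates the same ideal as χ(T) = det(T - u).) -/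
theorem result (k : Type u) [CommRing k] (M : Type u) [AddCommGroup M] [Module k M]
    [Module.Free k M] [Module.Finite k M] (u : M →ₗ[k] M) (P : Polynomial k) :
    Algebra.norm k (AdjoinRoot.mk u.charpoly P) = LinearMap.det (Polynomial.aeval u P) := by
  classical
  rcases subsingleton_or_nontrivial k with hk | hk
  · exact Subsingleton.elim _ _
  let b := Module.finBasis k M
  let pb := AdjoinRoot.powerBasis' (LinearMap.charpoly_monic u)
  let L := Algebra.leftMulMatrix pb.basis (AdjoinRoot.root u.charpoly)
  have hdim : pb.dim = Module.finrank k M := by
    simp [pb, LinearMap.charpoly_natDegree]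
  have hL : L.charpoly = u.charpoly := by
    have h0 : aeval (AdjoinRoot.root u.charpoly) L.charpoly = 0 := by
      apply Algebra.leftMulMatrix_injective pb.basis
      rw [← aeval_algHom_apply, map_zero]
      exact Matrix.aeval_self_charpoly L
    rw [AdjoinRoot.aeval_eq, AdjoinRoot.mk_eq_zero] at h0
    refine eq_of_monic_of_dvd_of_natDegree_le (LinearMap.charpoly_monic u) (Matrix.charpoly_monic L) h0 ?_
    rw [Matrix.charpoly_natDegree_eq_dim, Fintype.card_fin, hdim, LinearMap.charpoly_natDegree]
  have h1 : Algebra.norm k (AdjoinRoot.mk u.charpoly P) = (aeval L P).det := by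
    rw [Algebra.norm_eq_matrix_det pb.basis, ← AdjoinRoot.aeval_eq, ← aeval_algHom_apply]
  have h2 : LinearMap.det (aeval u P) = (aeval (LinearMap.toMatrixAlgEquiv b u) P).det := by
    rw [aeval_algEquiv]; simp only [AlgHom.comp_apply, AlgEquiv.coe_algHom]
    exact (LinearMap.det_toMatrix b _).symm
  rw [h1, h2, det_aeval L P P.natDegree le_rfl, det_aeval _ P P.natDegree le_rfl, hL,
    Fintype.card_fin, Fintype.card_fin, hdim]
  congr 1
  exact (LinearMap.charpoly_toMatrix u b).symm

end Groth.Agent.S8591
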