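import Groth.Statements.S8596
import Groth.Agent.Lib.H1TorRes
import Mathlib

set_option autoImplicit false
universe u
open CategoryTheory CategoryTheory.Limits
open CAlg

namespace Groth.Agent.S8596

/-- Case of a complex reduced to a single module in degree 0: let A be a commutative Noetherian ring, M
an A-module (not necessarily finitely generated) and n ≥ 0. Then M has tor-dimension at most n —
Tor_i^A(N, M) = 0 for every A-module N and every i > n, the Tor being the left derived functors of N
⊗ - evaluated at M — if and only if Tor_i^A(k(x), M) = 0 for every prime ideal x of A, with residue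
field k(x), and every i > n. (The published statement gives the equivalence for bounded-above
complexes K and the derived tensor product K ⊗^L k(x); this is the case K = M[0].) -/
theorem result (A : Type u) [CommRing A] [IsNoetherianRing A]
    (M : ModuleCat.{u} A) (n : ℕ) :
    (∀ (N : ModuleCat.{u} A) (i : ℕ), n < i → IsZero (((Tor (ModuleCat.{u} A) i).obj N).obj M)) ↔
    (∀ (x : Ideal A) [x.IsPrime] (i : ℕ), n < i →
      IsZero (((Tor (ModuleCat.{u} A) i).obj (ModuleCat.of A x.ResidueField)).obj M)) := by
  refine ⟨fun h x _ i hi => h (ModuleCat.of A x.ResidueField) i hi, fun h N i hi => ?_⟩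
  obtain ⟨P⟩ : Nonempty (ProjectiveResolution M) := ⟨projectiveResolution M⟩
  haveI := fun i => Groth.Agent.H1TorRes.flat_resolution P i
  rw [Groth.Agent.H1TorRes.isZero_tor_iff N M P i]
  exact Groth.Agent.H1TorRes.ex_all (Groth.Agent.H1TorRes.cd P.complex) (Groth.Agent.H1TorRes.cd_comp P.complex) (n + 1)
    (fun p hp j hj => (Groth.Agent.H1TorRes.isZero_tor_iff _ M P j).mp (@h p hp j (by omega))) N i (by omega)

end Groth.Agent.S8596
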