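import Groth.Statements.S8597
import Groth.Agent.Lib.H1TorRes
import Mathlib

set_option autoImplicit false
universe u
open CategoryTheory CategoryTheory.Limits
open CAlg

namespace Groth.Agent.S8597

section aux0
open TensorProduct
variable {A : Type u} [CommRing A] {X L2 L1 L0 K1 K0 : Type u} [AddCommGroup X] [Module A X]
  [AddCommGroup L2] [Module A L2] [AddCommGroup L1] [Module A L1] [AddCommGroup L0] [Module A L0]
  [AddCommGroup K1] [Module A K1] [AddCommGroup K0] [Module A K0]

theorem split_prod (w : X ⊗[A] (L1 × K0)) : (LinearMap.inl A L1 K0).lTensor X ((LinearMap.fst A L1 K0).lTensor X w) +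
    (LinearMap.inr A L1 K0).lTensor X ((LinearMap.snd A L1 K0).lTensor X w) = w := by
  induction w using TensorProduct.induction_on with
  | zero => simp
  | tmul a b => simp [← TensorProduct.tmul_add]
  | add a b ha hb => simp only [map_add]; rw [add_add_add_comm, ha, hb]

theorem fst_inl_inr (a : X ⊗[A] L1) (b : X ⊗[A] K0) :
    (LinearMap.fst A L1 K0).lTensor X ((LinearMap.inl A L1 K0).lTensor X a + (LinearMap.inr A L1 K0).lTensor X b) = a := by
  rw [map_add, ← LinearMap.lTensor_comp_apply, ← LinearMap.lTensor_comp_apply, LinearMap.fst_comp_inl, LinearMap.fst_comp_inr]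
  simp

theorem snd_inl_inr (a : X ⊗[A] L1) (b : X ⊗[A] K0) :
    (LinearMap.snd A L1 K0).lTensor X ((LinearMap.inl A L1 K0).lTensor X a + (LinearMap.inr A L1 K0).lTensor X b) = b := by
  rw [map_add, ← LinearMap.lTensor_comp_apply, ← LinearMap.lTensor_comp_apply, LinearMap.snd_comp_inl, LinearMap.snd_comp_inr]
  simp

theorem coprod_lT (c : L1 →ₗ[A] L0) (f : K0 →ₗ[A] L0) (w : X ⊗[A] (L1 × K0)) :
    (c.coprod f).lTensor X w = c.lTensor X ((LinearMap.fst A L1 K0).lTensor X w) + f.lTensor X ((LinearMap.snd A L1 K0).lTensor X w) := by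
  induction w using TensorProduct.induction_on with
  | zero => simp
  | tmul a b => simp [← TensorProduct.tmul_add]
  | add a b ha hb => simp only [map_add, ha, hb]; abel

theorem cone_apply (c : L2 →ₗ[A] L1) (f : K1 →ₗ[A] L1) (g : K1 →ₗ[A] K0) (w : X ⊗[A] (L2 × K1)) :
    ((c.coprod f).prod (-(g.comp (LinearMap.snd A L2 K1)))).lTensor X w =
      (LinearMap.inl A L1 K0).lTensor X (c.lTensor X ((LinearMap.fst A L2 K1).lTensor X w) + f.lTensor X ((LinearMap.snd A L2 K1).lTensor X w)) +
        (LinearMap.inr A L1 K0).lTensor X (-(g.lTensor X ((LinearMap.snd A L2 K1).lTensor X w))) := by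
  induction w using TensorProduct.induction_on with
  | zero => simp
  | tmul a b => simp [← TensorProduct.tmul_add, ← TensorProduct.tmul_neg]
  | add a b ha hb => simp only [map_add, map_neg, ha, hb]; abel

theorem cone_zero (c : L2 →ₗ[A] L1) (f : K1 →ₗ[A] L1) (g : K1 →ₗ[A] K0) (w : X ⊗[A] (L2 × K1))
    (h : ((c.coprod f).prod (-(g.comp (LinearMap.snd A L2 K1)))).lTensor X w = 0) :
    c.lTensor X ((LinearMap.fst A L2 K1).lTensor X w) + f.lTensor X ((LinearMap.snd A L2 K1).lTensor X w) = 0 ∧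
      g.lTensor X ((LinearMap.snd A L2 K1).lTensor X w) = 0 := by
  rw [cone_apply] at h
  refine ⟨?_, neg_eq_zero.mp ?_⟩
  · rw [← fst_inl_inr (c.lTensor X _ + f.lTensor X _) (-(g.lTensor X ((LinearMap.snd A L2 K1).lTensor X w))), h, map_zero]
  · rw [← snd_inl_inr (c.lTensor X ((LinearMap.fst A L2 K1).lTensor X w) + f.lTensor X ((LinearMap.snd A L2 K1).lTensor X w)) (-(g.lTensor X _)), h, map_zero]

end aux0

section aux
open Groth.Agent.H1TorRes
open scoped TensorProduct

variable {A : Type u} [CommRing A] {K L : ChainComplex (ModuleCat.{u} A) ℕ} (φ : K ⟶ L)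

/-- the cone of a map of complexes, as modules -/
def Co (K L : ChainComplex (ModuleCat.{u} A) ℕ) : ℕ → Type u
  | 0 => cF L 0
  | i + 1 => cF L (i + 1) × cF K i

instance instACG (i : ℕ) : AddCommGroup (Co K L i) :=
  match i with
  | 0 => inferInstanceAs (AddCommGroup (cF L 0))
  | i + 1 => inferInstanceAs (AddCommGroup (cF L (i + 1) × cF K i))

instance instMod (i : ℕ) : Module A (Co K L i) :=
  match i with
  | 0 => inferInstanceAs (Module A (cF L 0))
  | i + 1 => inferInstanceAs (Module A (cF L (i + 1) × cF K i))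

noncomputable def dCo : ∀ i, Co K L (i + 1) →ₗ[A] Co K L i
  | 0 => ((cd L 0).coprod (φ.f 0).hom : cF L 1 × cF K 0 →ₗ[A] cF L 0)
  | i + 1 => ((cd L (i + 1)).coprod (φ.f (i + 1)).hom).prod (-((cd K i).comp (LinearMap.snd A _ _)))

theorem comm (i : ℕ) (p : cF K (i + 1)) : (φ.f i).hom (cd K i p) = cd L i ((φ.f (i + 1)).hom p) :=
  (congr($(φ.comm (i + 1) i) p)).symm

theorem dd (K : ChainComplex (ModuleCat.{u} A) ℕ) (i : ℕ) (x : cF K (i + 2)) : cd K i (cd K (i + 1) x) = 0 :=
  LinearMap.congr_fun (cd_comp K i) x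

theorem dCo_comp : ∀ i, (dCo φ i).comp (dCo φ (i + 1)) = 0
  | 0 => LinearMap.ext fun v => by
    obtain ⟨q, p⟩ : cF L 2 × cF K 1 := v
    show cd L 0 (cd L 1 q + (φ.f 1).hom p) + (φ.f 0).hom (-(cd K 0 p)) = 0
    rw [map_add, dd, map_neg, comm, zero_add, add_neg_cancel]
  | i + 1 => LinearMap.ext fun v => by
    obtain ⟨q, p⟩ : cF L (i + 3) × cF K (i + 2) := v
    show (cd L (i + 1) (cd L (i + 2) q + (φ.f (i + 2)).hom p) + (φ.f (i + 1)).hom (-(cd K (i + 1) p)),
      -(cd K i (-(cd K (i + 1) p)))) = (0 : cF L (i + 1) × cF K i)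
    rw [map_add, dd, map_neg, comm, zero_add, add_neg_cancel, map_neg, neg_neg, dd]
    rfl

theorem flat_co (hK : ∀ i, Module.Projective A (cF K i)) (hL : ∀ i, Module.Projective A (cF L i)) : ∀ i, Module.Flat A (Co K L i)
  | 0 => haveI := hL 0; (inferInstance : Module.Flat A (cF L 0))
  | i + 1 => by
    haveI := hL (i + 1)
    haveI := hK i
    haveI hp : Module.Projective A (cF L (i + 1) × cF K i) := inferInstance
    show Module.Flat A (cF L (i + 1) × cF K i)
    exact @Module.Flat.of_projective A (cF L (i + 1) × cF K i) _ _ _ hp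

/-- a quasi-isomorphism after tensoring makes the tensored cone exact -/
theorem ex_cone (X : ModuleCat.{u} A) (hi : ∀ i, IsIso (HomologicalComplex.homologyMap
      ((((MonoidalCategory.tensoringLeft (ModuleCat.{u} A)).obj X).mapHomologicalComplex _).map φ) i)) (i : ℕ) :
    Ex (dCo φ) X i := by
  let ψ := (((MonoidalCategory.tensoringLeft (ModuleCat.{u} A)).obj X).mapHomologicalComplex _).map φ
  cases i with
  | zero =>
    intro (y : (X : Type u) ⊗[A] cF L 0) _
    haveI : IsIso (HomologicalComplex.homologyMap ψ 0) := hi 0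
    haveI h0 : QuasiIsoAt ψ 0 := (quasiIsoAt_iff_isIso_homologyMap ψ 0).mpr inferInstance
    haveI := (quasiIsoAt_iff' ψ 1 0 0 (by simp) (by simp)).mp h0
    obtain ⟨x, -, v, hv⟩ := (bij_of_quasiIso ((HomologicalComplex.shortComplexFunctor' (ModuleCat.{u} A) _ 1 0 0).map ψ)).2 y (by
      show (((((MonoidalCategory.tensoringLeft (ModuleCat.{u} A)).obj X).mapHomologicalComplex _).obj L).d 0 0).hom y = 0
      rw [HomologicalComplex.shape _ 0 0 (by simp)]
      rfl)
    change (cd L 0).lTensor X v = y - (φ.f 0).hom.lTensor X x at hv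
    refine ⟨(LinearMap.inl A (cF L 1) (cF K 0)).lTensor X v + (LinearMap.inr A (cF L 1) (cF K 0)).lTensor X x, ?_⟩
    refine (coprod_lT (cd L 0) (φ.f 0).hom _).trans ?_
    refine (congrArg₂ (fun a b => (cd L 0).lTensor X a + (φ.f 0).hom.lTensor X b) (fst_inl_inr v x) (snd_inl_inr v x)).trans ?_
    show (cd L 0).lTensor X v + _ = y
    exact (congrArg (· + _) hv).trans (sub_add_cancel y _)
  | succ i =>
    intro v hv
    -- components
    let fstM : (X : Type u) ⊗[A] (cF L (i + 1) × cF K i) →ₗ[A] (X : Type u) ⊗[A] cF L (i + 1) := (LinearMap.fst A _ _).lTensor X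
    let sndM : (X : Type u) ⊗[A] (cF L (i + 1) × cF K i) →ₗ[A] (X : Type u) ⊗[A] cF K i := (LinearMap.snd A _ _).lTensor X
    let q := fstM v
    let p := sndM v
    have hz : (cd L i).lTensor X q + (φ.f i).hom.lTensor X p = 0 ∧
        (∀ j, i = j + 1 → p ∈ Z (cd K) X i) := by
      have hv' : (dCo φ i).lTensor X v = 0 := hv
      cases i with
      | zero => exact ⟨(coprod_lT (cd L 0) (φ.f 0).hom v).symm.trans hv', fun j hj => absurd hj (by omega)⟩
      | succ i =>
        exact ⟨(cone_zero (cd L (i + 1)) (φ.f (i + 1)).hom (cd K i) v hv').1,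
          fun _ _ => (cone_zero (cd L (i + 1)) (φ.f (i + 1)).hom (cd K i) v hv').2⟩
    obtain ⟨hz1, hz2⟩ := hz
    have hpZ : p ∈ Z (cd K) X i := by
      cases i with
      | zero => exact Submodule.mem_top
      | succ j => exact hz2 j rfl
    have hcom : ∀ (j : ℕ) (z : (X : Type u) ⊗[A] cF K (j + 1)),
        (φ.f j).hom.lTensor X ((cd K j).lTensor X z) = (cd L j).lTensor X ((φ.f (j + 1)).hom.lTensor X z) := by
      intro j z
      rw [← LinearMap.lTensor_comp_apply, ← LinearMap.lTensor_comp_apply]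
      rw [show ((φ.f j).hom : cF K j →ₗ[A] cF L j).comp (cd K j) = (cd L j).comp ((φ.f (j + 1)).hom : cF K (j + 1) →ₗ[A] cF L (j + 1)) from
        LinearMap.ext (comm φ j)]
    -- injectivity in degree i
    obtain ⟨p1, hp1⟩ : ∃ p1, (cd K i).lTensor X p1 = p := by
      have hrange : (φ.f i).hom.lTensor X p ∈ LinearMap.range ((cd L i).lTensor X) :=
        ⟨-q, by rw [map_neg, eq_neg_of_add_eq_zero_left hz1, neg_neg]⟩
      haveI : IsIso (HomologicalComplex.homologyMap ψ i) := hi i
      haveI h0 : QuasiIsoAt ψ i := (quasiIsoAt_iff_isIso_homologyMap ψ i).mpr inferInstance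
      cases i with
      | zero =>
        haveI := (quasiIsoAt_iff' ψ 1 0 0 (by simp) (by simp)).mp h0
        refine (bij_of_quasiIso ((HomologicalComplex.shortComplexFunctor' (ModuleCat.{u} A) _ 1 0 0).map ψ)).1 p ?_ hrange
        show (((((MonoidalCategory.tensoringLeft (ModuleCat.{u} A)).obj X).mapHomologicalComplex _).obj K).d 0 0).hom p = 0
        rw [HomologicalComplex.shape _ 0 0 (by simp)]
        rfl
      | succ j =>
        haveI := (quasiIsoAt_iff' ψ (j + 2) (j + 1) j (by simp) (by simp)).mp h0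
        exact (bij_of_quasiIso ((HomologicalComplex.shortComplexFunctor' (ModuleCat.{u} A) _ (j + 2) (j + 1) j).map ψ)).1 p hpZ hrange
    -- surjectivity in degree i+1
    haveI : IsIso (HomologicalComplex.homologyMap ψ (i + 1)) := hi (i + 1)
    haveI h0 : QuasiIsoAt ψ (i + 1) := (quasiIsoAt_iff_isIso_homologyMap ψ (i + 1)).mpr inferInstance
    haveI := (quasiIsoAt_iff' ψ (i + 2) (i + 1) i (by simp) (by simp)).mp h0
    have hcyc : (cd L i).lTensor X (q + (φ.f (i + 1)).hom.lTensor X p1) = 0 := by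
      rw [map_add, ← hcom, hp1, hz1]
    obtain ⟨p2, hp2, q2, hq2⟩ : ∃ p2 : (X : Type u) ⊗[A] cF K (i + 1), (cd K i).lTensor X p2 = 0 ∧
        ∃ q2 : (X : Type u) ⊗[A] cF L (i + 2), (cd L (i + 1)).lTensor X q2 =
          q + (φ.f (i + 1)).hom.lTensor X p1 - (φ.f (i + 1)).hom.lTensor X p2 := by
      obtain ⟨p2, hp2, q2, hq2⟩ := (bij_of_quasiIso ((HomologicalComplex.shortComplexFunctor' (ModuleCat.{u} A) _ (i + 2) (i + 1) i).map ψ)).2
        (q + (φ.f (i + 1)).hom.lTensor X p1) hcyc
      exact ⟨p2, hp2, q2, hq2⟩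
    refine ⟨(LinearMap.inl A (cF L (i + 2)) (cF K (i + 1))).lTensor X q2 + (LinearMap.inr A (cF L (i + 2)) (cF K (i + 1))).lTensor X (p2 - p1), ?_⟩
    refine (cone_apply (cd L (i + 1)) (φ.f (i + 1)).hom (cd K i) _).trans ?_
    rw [fst_inl_inr, snd_inl_inr, hq2, map_sub, map_sub, hp2, hp1, zero_sub, neg_neg]
    refine Eq.trans ?_ (split_prod v)
    congr 2
    show _ = q
    abel

end aux

/-- Case of modules placed in degree 0: let A be a commutative Noetherian ring and u : M -> N a
homomorphism of A-modules such that for every prime ideal x of A, with residue field k(x), and every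
i ≥ 0, the induced map Tor_i^A(k(x), M) -> Tor_i^A(k(x), N) (left derived functors of k(x) ⊗ -) is
an isomorphism. Then u is an isomorphism. (The published statement is for a morphism of
bounded-above complexes and the derived tensor products with k(x); this is the case of two modules.) -/
theorem result (A : Type u) [CommRing A] [IsNoetherianRing A]
    {M N : ModuleCat.{u} A} (u : M ⟶ N)
    (h : ∀ (x : Ideal A) [x.IsPrime] (i : ℕ),
      IsIso (((Tor (ModuleCat.{u} A) i).obj (ModuleCat.of A x.ResidueField)).map u)) :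
    IsIso u := by
  classical
  obtain ⟨P⟩ : Nonempty (ProjectiveResolution M) := ⟨projectiveResolution M⟩
  obtain ⟨Q⟩ : Nonempty (ProjectiveResolution N) := ⟨projectiveResolution N⟩
  let φ := ProjectiveResolution.lift u P Q
  have hφ : φ ≫ Q.π = P.π ≫ (ChainComplex.single₀ (ModuleCat.{u} A)).map u := ProjectiveResolution.lift_commutes u P Q
  haveI := fun i => Groth.Agent.H1TorRes.flat_resolution P i
  haveI := fun i => Groth.Agent.H1TorRes.flat_resolution Q i
  haveI := fun i => flat_co (K := P.complex) (L := Q.complex)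
    (fun j => (IsProjective.iff_projective (R := A) (P.complex.X j)).mpr (P.projective j))
    (fun j => (IsProjective.iff_projective (R := A) (Q.complex.X j)).mpr (Q.projective j)) i
  have hres : ∀ (p : Ideal A) [p.IsPrime] (i : ℕ), 0 ≤ i → Groth.Agent.H1TorRes.Ex (dCo φ) p.ResidueField i := by
    intro p _ i _
    refine ex_cone φ (ModuleCat.of A p.ResidueField) (fun j => ?_) i
    haveI := h p j
    have e := Functor.leftDerived_map_eq ((MonoidalCategory.tensoringLeft (ModuleCat.{u} A)).obj (ModuleCat.of A p.ResidueField))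
      j u φ hφ
    have h' : IsIso ((Functor.leftDerived ((MonoidalCategory.tensoringLeft (ModuleCat.{u} A)).obj (ModuleCat.of A p.ResidueField)) j).map u) := h p j
    rw [e] at h'
    haveI hA : IsIso (P.isoLeftDerivedObj ((MonoidalCategory.tensoringLeft (ModuleCat.{u} A)).obj (ModuleCat.of A p.ResidueField)) j).hom := Iso.isIso_hom _
    haveI hB : IsIso (Q.isoLeftDerivedObj ((MonoidalCategory.tensoringLeft (ModuleCat.{u} A)).obj (ModuleCat.of A p.ResidueField)) j).inv := Iso.isIso_inv _
    haveI := @IsIso.of_isIso_comp_left _ _ _ _ _ _ _ hA h'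
    exact @IsIso.of_isIso_comp_right _ _ _ _ _ _ _ hB this
  have hall : ∀ i x, x ∈ Groth.Agent.H1TorRes.Z (dCo φ) A i → x ∈ LinearMap.range ((dCo φ i).lTensor A) := fun i =>
    Groth.Agent.H1TorRes.ex_all (dCo φ) (dCo_comp φ) 0 hres A i (Nat.zero_le i)
  -- the cone itself is exact
  have hex0 : ∀ y, ∃ x, dCo φ 0 x = y := fun y => by
    obtain ⟨z, hz⟩ := hall 0 (1 ⊗ₜ[A] y) Submodule.mem_top
    refine ⟨TensorProduct.lid A _ z, ?_⟩
    have := congrArg (TensorProduct.lid A _) hz
    rw [TensorProduct.lid_tmul, one_smul] at this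
    rw [← this]
    clear hz this
    induction z using TensorProduct.induction_on with
    | zero => simp
    | tmul a b => simp
    | add a b ha hb => simp [map_add, ha, hb]
  have hex1 : ∀ y, dCo φ 0 y = 0 → ∃ x, dCo φ 1 x = y := fun y hy => by
    obtain ⟨z, hz⟩ := hall 1 (1 ⊗ₜ[A] y) (by
      show (dCo φ 0).lTensor A (1 ⊗ₜ y) = 0
      rw [LinearMap.lTensor_tmul, hy, TensorProduct.tmul_zero])
    refine ⟨TensorProduct.lid A _ z, ?_⟩
    have := congrArg (TensorProduct.lid A _) hz
    rw [TensorProduct.lid_tmul, one_smul] at this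
    rw [← this]
    clear hz this
    induction z using TensorProduct.induction_on with
    | zero => simp
    | tmul a b => simp
    | add a b ha hb => simp [map_add, ha, hb]
  have hsq : ∀ p, (Q.π.f 0).hom ((φ.f 0).hom p) = u.hom ((P.π.f 0).hom p) := fun p => by
    have e := congr(($hφ).f 0)
    rw [HomologicalComplex.comp_f, HomologicalComplex.comp_f, ChainComplex.single₀_map_f_zero] at e
    exact congr($e p)
  have hPs : Function.Surjective (P.π.f 0).hom := (ModuleCat.epi_iff_surjective (P.π.f 0)).mp inferInstance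
  have hQs : Function.Surjective (Q.π.f 0).hom := (ModuleCat.epi_iff_surjective (Q.π.f 0)).mp inferInstance
  have hQd : ∀ q, (Q.π.f 0).hom (Groth.Agent.H1TorRes.cd Q.complex 0 q) = 0 := fun q =>
    congr($(Q.complex_d_comp_π_f_zero) q)
  have hPd : ∀ q, (P.π.f 0).hom (Groth.Agent.H1TorRes.cd P.complex 0 q) = 0 := fun q =>
    congr($(P.complex_d_comp_π_f_zero) q)
  haveI : Mono u := (ModuleCat.mono_iff_injective u).mpr ((injective_iff_map_eq_zero u.hom).mpr fun m hm => by
    obtain ⟨p, rfl⟩ := hPs m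
    have h0 : (Q.π.f 0).hom ((φ.f 0).hom p) = 0 := (hsq p).trans hm
    obtain ⟨q1, hq1⟩ := ((ShortComplex.ShortExact.moduleCat_exact_iff_function_exact _).mp Q.exact₀ _).mp h0
    change Groth.Agent.H1TorRes.cd Q.complex 0 q1 = (φ.f 0).hom p at hq1
    obtain ⟨x, hx⟩ := hex1 ((-q1, p) : Groth.Agent.H1TorRes.cF Q.complex 1 × Groth.Agent.H1TorRes.cF P.complex 0) (by
      show Groth.Agent.H1TorRes.cd Q.complex 0 (-q1) + (φ.f 0).hom p = 0
      rw [map_neg, hq1, neg_add_cancel])
    have h2 : -(Groth.Agent.H1TorRes.cd P.complex 0 x.2) = p := congrArg Prod.snd hx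
    rw [← h2, map_neg, hPd, neg_zero]
    rfl)
  haveI : Epi u := (ModuleCat.epi_iff_surjective u).mpr fun n => by
    obtain ⟨q, rfl⟩ := hQs n
    obtain ⟨x, rfl⟩ := hex0 q
    obtain ⟨q1, p⟩ : Groth.Agent.H1TorRes.cF Q.complex 1 × Groth.Agent.H1TorRes.cF P.complex 0 := x
    refine ⟨(P.π.f 0).hom p, ?_⟩
    show u.hom _ = (Q.π.f 0).hom (Groth.Agent.H1TorRes.cd Q.complex 0 q1 + (φ.f 0).hom p)
    rw [map_add, hQd, zero_add, hsq]
  exact isIso_of_mono_of_epi u

end Groth.Agent.S8597
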