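import Groth.Statements.S8604
import Mathlib
import Groth.Agent.Lib.SemilinearFrobenius

set_option autoImplicit false
universe u
open Polynomial
open Groth.Agent.SemilinearFrobenius
open CAlg

namespace Groth.Agent.S8604

/-- Over an algebraically closed field: let k be an algebraically closed field of characteristic p > 0,
V a finite-dimensional k-vector space and F : V -> V a p-linear endomorphism (additive with F(a·v) =
a^p·F(v)). Let V^F be the set of vectors fixed by F (an F_p-subspace), V_0 the k-span of V^F and V_n
the k-span of the vectors killed by some iterate of F (these already form an F-stable subspace on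
which F is nilpotent). Then V = V_0 ⊕ V_n, and V^F ⊗ k -> V_0 is bijective in the sense that any
finitely many F-fixed vectors linearly independent over Z/p (every vanishing integer combination has
all coefficients divisible by p) are linearly independent over k. (The published statement asserts
this decomposition, with V^F ⊗ k ≅ V_0, for every PERFECT field k; that is false when k is not
separably closed — for k = Z/3, V = k and F = multiplication by 2 there are no nonzero fixed vectors
although F is bijective — and the decomposition is stated here over an algebraically closed field,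
the case in which it holds.) -/
theorem result (p : ℕ) [Fact p.Prime] (k : Type u) [Field k]
    [IsAlgClosed k] [CharP k p] (V : Type u) [AddCommGroup V] [Module k V] [FiniteDimensional k V]
    (F : V →+ V) (hF : ∀ (a : k) (v : V), F (a • v) = a ^ p • F v) :
    IsCompl (Submodule.span k {v : V | F v = v})
        (Submodule.span k {v : V | ∃ m : ℕ, (⇑F)^[m] v = 0}) ∧
      ∀ (s : Finset V), (∀ v ∈ s, F v = v) →
        (∀ c : s → ℤ, (∑ v : s, c v • (v : V)) = 0 → ∀ v : s, (p : ℤ) ∣ c v) →
          LinearIndependent k (fun v : s => (v : V)) := by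
  classical
  refine ⟨?_, fun s hs hind => indep F hF s hs hind⟩
  haveI : PerfectRing k p := PerfectField.toPerfectRing p
  let G : V →ₛₗ[frobenius k p] V := { toFun := F, map_add' := map_add F, map_smul' := hF }
  have hiter : ∀ m (a : k) (v : V), F^[m] (a • v) = a ^ (p ^ m) • F^[m] v := by
    intro m a v
    induction m with
    | zero => simp
    | succ m ih => rw [Function.iterate_succ_apply', ih, hF, Function.iterate_succ_apply', ← pow_mul, ← pow_succ]
  have hiadd : ∀ m (v w : V), F^[m] (v + w) = F^[m] v + F^[m] w := fun m v w => iterate_map_add F m v w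
  have hi0 : ∀ m, F^[m] (0 : V) = 0 := fun m => iterate_map_zero F m
  let R : ℕ → Submodule k V := fun m =>
    { carrier := Set.range F^[m]
      add_mem' := by rintro _ _ ⟨a, rfl⟩ ⟨b, rfl⟩; exact ⟨a + b, hiadd m a b⟩
      zero_mem' := ⟨0, hi0 m⟩
      smul_mem' := by
        rintro c _ ⟨a, rfl⟩
        obtain ⟨d, hd⟩ := (bijective_iterateFrobenius (R := k) (p := p) m).2 c
        exact ⟨d • a, by rw [hiter, ← hd, iterateFrobenius_def]⟩ }
  have hR : Antitone R := fun a b hab x ⟨y, hy⟩ => ⟨F^[b - a] y, by
    rw [← Function.iterate_add_apply, Nat.add_sub_cancel' hab, hy]⟩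
  obtain ⟨N, hN⟩ := monotone_stabilizes_iff_artinian.mpr (inferInstance : IsArtinian k V)
    ⟨fun m => OrderDual.toDual (R m), fun a b h => hR h⟩
  replace hN : ∀ m, N ≤ m → R N = R m := fun m h => hN m h
  have hFR : ∀ x ∈ R N, F x ∈ R N := by
    rintro _ ⟨y, rfl⟩
    exact ⟨F y, by rw [← Function.iterate_succ_apply, Function.iterate_succ_apply']⟩
  have hsurjR : ∀ x ∈ R N, ∃ y ∈ R N, F y = x := fun x hx => by
    rw [hN (N + 1) (Nat.le_succ N)] at hx
    obtain ⟨y, hy⟩ := hx
    exact ⟨F^[N] y, ⟨y, rfl⟩, by rw [← hy, Function.iterate_succ_apply']⟩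
  have hinjR : ∀ x ∈ R N, F x = 0 → x = 0 := by
    let b := Module.finBasis k (R N)
    have key : ∀ x hx, ∑ i, b.repr ⟨x, hx⟩ i • (b i : V) = x := fun x hx => by
      have h := congrArg Subtype.val (b.sum_repr ⟨x, hx⟩)
      simp only [Submodule.coe_sum, Submodule.coe_smul] at h
      exact h
    let f : R N → R N := fun x => ⟨F x, hFR x x.2⟩
    have hspan : ⊤ ≤ Submodule.span k (Set.range fun i => f (b i)) := by
      intro y _
      obtain ⟨x, hx, hxy⟩ := hsurjR y y.2
      have : y = ∑ i, (b.repr ⟨x, hx⟩ i) ^ p • f (b i) := by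
        apply Subtype.ext
        rw [Submodule.coe_sum]
        simp only [Submodule.coe_smul, f, ← frob_sum F hF]
        rw [← hxy, key x hx]
      rw [this]
      exact Submodule.sum_mem _ fun i _ => Submodule.smul_mem _ _ (Submodule.subset_span (Set.mem_range_self i))
    have hli := linearIndependent_of_top_le_span_of_card_eq_finrank hspan (by simp)
    intro x hx h0
    have h1 : ∑ i, (b.repr ⟨x, hx⟩ i) ^ p • f (b i) = 0 := by
      apply Subtype.ext
      rw [Submodule.coe_sum]
      simp only [Submodule.coe_smul, f, ← frob_sum F hF, Submodule.coe_zero]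
      rw [key x hx, h0]
    have h2 := Fintype.linearIndependent_iff.mp hli _ h1
    have : (⟨x, hx⟩ : R N) = 0 := by
      rw [← b.sum_repr ⟨x, hx⟩]
      exact Finset.sum_eq_zero fun i _ => by
        rw [(pow_eq_zero_iff (Fact.out : p.Prime).ne_zero).mp (h2 i), zero_smul]
    simpa using congrArg Subtype.val this
  have hinjRi : ∀ m, ∀ x ∈ R N, F^[m] x = 0 → x = 0 := by
    intro m
    induction m with
    | zero => intro x _ h; simpa using h
    | succ m ih =>
      intro x hx h
      exact hinjR x hx (ih _ (hFR x hx) (by rwa [← Function.iterate_succ_apply]))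
  set U := Submodule.span k {v : V | F v = v} with hUdef
  set Z := Submodule.span k {v : V | ∃ m : ℕ, F^[m] v = 0} with hZdef
  have hU : U ≤ R N := Submodule.span_le.mpr fun v hv => ⟨v, Function.iterate_fixed hv N⟩
  have hZ : ∀ z ∈ Z, ∃ m, F^[m] z = 0 := by
    intro z hz
    induction hz using Submodule.span_induction with
    | mem x h => exact h
    | zero => exact ⟨0, rfl⟩
    | add x y _ _ hx hy =>
      obtain ⟨a, ha⟩ := hx
      obtain ⟨b, hb⟩ := hy
      refine ⟨a + b, ?_⟩
      rw [hiadd]
      conv_lhs => arg 1; rw [add_comm a b, Function.iterate_add_apply, ha, hi0]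
      rw [Function.iterate_add_apply, hb, hi0, add_zero]
    | smul c x _ hx =>
      obtain ⟨a, ha⟩ := hx
      exact ⟨a, by rw [hiter, ha, smul_zero]⟩
  have hURN : U = R N := by
    by_contra hne
    have hFU : ∀ w ∈ U, F w ∈ U := by
      intro w hw
      induction hw using Submodule.span_induction with
      | mem x h => exact (show F x = x from h).symm ▸ Submodule.subset_span h
      | zero => rw [map_zero]; exact zero_mem _
      | add x y _ _ hx hy => rw [map_add]; exact add_mem hx hy
      | smul c x _ hx => rw [hF]; exact U.smul_mem _ hx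
    have hUsurj : ∀ w ∈ U, ∃ y ∈ U, F y = w := by
      intro w hw
      induction hw using Submodule.span_induction with
      | mem x h => exact ⟨x, Submodule.subset_span h, h⟩
      | zero => exact ⟨0, zero_mem _, map_zero F⟩
      | add x y _ _ hx hy =>
        obtain ⟨a, ha, rfl⟩ := hx
        obtain ⟨b, hb, rfl⟩ := hy
        exact ⟨a + b, add_mem ha hb, map_add F a b⟩
      | smul c x _ hx =>
        obtain ⟨a, ha, rfl⟩ := hx
        obtain ⟨d, hd⟩ := IsAlgClosed.exists_pow_nat_eq c (Fact.out : p.Prime).pos
        exact ⟨d • a, U.smul_mem _ ha, by rw [hF, hd]⟩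
    have hinjU : ∀ w ∈ R N, F w ∈ U → w ∈ U := by
      intro w hw h
      obtain ⟨y, hy, hyw⟩ := hUsurj _ h
      have := hinjR (w - y) (sub_mem hw (hU hy)) (by rw [map_sub, hyw, sub_self])
      rwa [sub_eq_zero.mp this]
    obtain ⟨x, hxW, hxU, hx⟩ := exists_fixed_mod F hF (R N) U hU hFR hFU hinjU hne
    have hex : ∀ w ∈ U, ∃ z ∈ U, F z - z = w := by
      intro w hw
      rw [hUdef, Submodule.mem_span_set'] at hw
      obtain ⟨n, c, f, rfl⟩ := hw
      have hsol : ∀ i, ∃ d : k, d ^ p - d = c i := fun i => by
        obtain ⟨d, hd⟩ := IsAlgClosed.exists_root (Polynomial.X ^ p - Polynomial.X - Polynomial.C (c i)) (by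
          have h1 : (Polynomial.X ^ p - Polynomial.X - Polynomial.C (c i)).degree = (p : WithBot ℕ) := by
            rw [sub_sub, degree_sub_eq_left_of_degree_lt] <;> rw [degree_X_pow]
            exact (degree_add_C (by simp)).trans_lt (by
              rw [degree_X]; exact_mod_cast (Fact.out : p.Prime).one_lt)
          rw [h1]; exact_mod_cast (Fact.out : p.Prime).ne_zero)
        exact ⟨d, by simpa [sub_eq_zero] using hd⟩
      choose d hd using hsol
      refine ⟨∑ i, d i • (f i : V), U.sum_mem fun i _ => U.smul_mem _ (Submodule.subset_span (f i).2), ?_⟩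
      rw [frob_sum F hF, ← Finset.sum_sub_distrib]
      exact Finset.sum_congr rfl fun i _ => by
        rw [show F (f i : V) = f i from (f i).2, ← sub_smul, hd]
    obtain ⟨z, hz, hzw⟩ := hex _ hx
    have : x - z ∈ U := Submodule.subset_span (show F (x - z) = x - z by
      rw [map_sub, sub_eq_sub_iff_sub_eq_sub, hzw])
    exact hxU (by simpa using add_mem this hz)
  rw [hURN]
  constructor
  · rw [Submodule.disjoint_def]
    intro x hx hz
    obtain ⟨m, hm⟩ := hZ x hz
    exact hinjRi m x hx hm
  · rw [codisjoint_iff, eq_top_iff]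
    intro v _
    obtain ⟨w, hw⟩ : F^[N] v ∈ R (N + N) := hN (N + N) (Nat.le_add_right N N) ▸ ⟨v, rfl⟩
    rw [show v = F^[N] w + (v - F^[N] w) by abel]
    refine Submodule.add_mem_sup ⟨w, rfl⟩ (Submodule.subset_span ⟨N, ?_⟩)
    rw [iterate_map_sub F N, ← Function.iterate_add_apply, hw, sub_self]

end Groth.Agent.S8604
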