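import Groth.Statements.S8625
import Mathlib.Tactic.Group
-- import your own Groth.Agent.* helpers here

set_option autoImplicit false
set_option backward.isDefEq.respectTransparency.types false
universe u
open SGA4h

namespace Groth.Agent.S8625

/-- Let G be a group with an endomorphism F, and assume the Lang map g ↦ F(g)g⁻¹ is surjective (for
instance the geometric points of a connected algebraic group over F_q with its Frobenius, where the
surjectivity is the classical result of Lang; the other Lang map g ↦ g⁻¹F(g) is then surjective too,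
by g ↦ g⁻¹). Let G^F be the subgroup of fixed points of F. (i) If F(g)g⁻¹ is fixed by F then so is
g⁻¹F(g). (ii), (iii) There is a bijection of the set of conjugacy classes of G^F with itself
sending, for every g with F(g)g⁻¹ ∈ G^F, the class of F(g)g⁻¹ to the class of g⁻¹F(g) (in particular
the latter class depends only on the former). -/
theorem result {G : Type u} [Group G] (F : G →* G)
    (hL : Function.Surjective fun g : G => F g * g⁻¹) :
    (∀ g : G, F (F g * g⁻¹) = F g * g⁻¹ → F (g⁻¹ * F g) = g⁻¹ * F g) ∧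
    ∃ φ : ConjClasses ↥(F.eqLocus (MonoidHom.id G)) → ConjClasses ↥(F.eqLocus (MonoidHom.id G)),
      Function.Bijective φ ∧
      ∀ (g : G) (h : F (F g * g⁻¹) = F g * g⁻¹) (h' : F (g⁻¹ * F g) = g⁻¹ * F g),
        φ (ConjClasses.mk (⟨F g * g⁻¹, h⟩ : ↥(F.eqLocus (MonoidHom.id G)))) =
          ConjClasses.mk (⟨g⁻¹ * F g, h'⟩ : ↥(F.eqLocus (MonoidHom.id G))) := by
  classical
  set K := F.eqLocus (MonoidHom.id G)
  have hK : ∀ x : G, x ∈ K ↔ F x = x := fun x => Iff.rfl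
  have hfix : ∀ g : G, F (F g * g⁻¹) = F g * g⁻¹ ↔ F (g⁻¹ * F g) = g⁻¹ * F g := by
    intro g
    rw [map_mul, map_mul, map_inv]
    constructor <;> intro h
    · rw [mul_inv_eq_iff_eq_mul.1 h]
      group
    · rw [inv_mul_eq_iff_eq_mul.1 h]
      group
  refine ⟨fun g h => (hfix g).1 h, ?_⟩
  choose c hc using hL
  have hc' : ∀ a : K, F (c a) * (c a)⁻¹ = a := fun a => hc a
  have hcm : ∀ a : K, (c a)⁻¹ * F (c a) ∈ K := fun a => (hfix _).1 (by rw [hc']; exact a.2)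
  let v : K → ConjClasses K := fun a => ConjClasses.mk ⟨(c a)⁻¹ * F (c a), hcm a⟩
  have hv : ∀ (a : K) (g : G) (h' : g⁻¹ * F g ∈ K), F g * g⁻¹ = a → v a = ConjClasses.mk ⟨g⁻¹ * F g, h'⟩ := by
    intro a g h' hg
    -- `g⁻¹ (c a)` is fixed
    have hm : F (g⁻¹ * c a) = g⁻¹ * c a := by
      have h1 : F g * g⁻¹ = F (c a) * (c a)⁻¹ := hg.trans (hc' a).symm
      rw [map_mul, map_inv, show F (c a) = F g * g⁻¹ * c a by rw [h1]; group]
      group
    rw [ConjClasses.mk_eq_mk_iff_isConj]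
    refine isConj_iff.2 ⟨⟨g⁻¹ * c a, hm⟩, Subtype.ext ?_⟩
    change g⁻¹ * c a * ((c a)⁻¹ * F (c a)) * (g⁻¹ * c a)⁻¹ = g⁻¹ * F g
    nth_rewrite 2 [← hm]
    rw [map_mul, map_inv]
    group
  have hwd : ∀ a b : K, IsConj a b → v a = v b := by
    intro a b hab
    obtain ⟨k, hk⟩ := isConj_iff.1 hab
    have hb : F ((k : G) * c a) * ((k : G) * c a)⁻¹ = b := by
      rw [map_mul, k.2, MonoidHom.id_apply, show (k : G) * F (c a) * ((k : G) * c a)⁻¹ = (k : G) * (F (c a) * (c a)⁻¹) * (k : G)⁻¹ by group, hc', ← hk]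
      rfl
    rw [hv b _ ((hfix _).1 (by rw [hb]; exact b.2)) hb]
    refine congrArg ConjClasses.mk ?_
    apply Subtype.ext
    change (c a)⁻¹ * F (c a) = ((k : G) * c a)⁻¹ * F ((k : G) * c a)
    rw [map_mul, k.2, MonoidHom.id_apply, mul_inv_rev]
    group
  let φ : ConjClasses K → ConjClasses K := Quotient.lift v hwd
  have hφ : ∀ (g : G) (h : F (F g * g⁻¹) = F g * g⁻¹) (h' : F (g⁻¹ * F g) = g⁻¹ * F g),
      φ (ConjClasses.mk ⟨F g * g⁻¹, h⟩) = ConjClasses.mk ⟨g⁻¹ * F g, h'⟩ := fun g h h' => hv _ g h' rfl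
  refine ⟨φ, ⟨?_, ?_⟩, hφ⟩
  · intro x y
    obtain ⟨a, rfl⟩ := ConjClasses.exists_rep x
    obtain ⟨b, rfl⟩ := ConjClasses.exists_rep y
    intro hxy
    obtain ⟨k, hk⟩ := isConj_iff.1 (ConjClasses.mk_eq_mk_iff_isConj.1 (hxy : v a = v b))
    have hk' : (k : G) * ((c a)⁻¹ * F (c a)) * (k : G)⁻¹ = (c b)⁻¹ * F (c b) := congrArg Subtype.val hk
    -- `c b * k * (c a)⁻¹` is fixed
    have hm : F (c b * k * (c a)⁻¹) = c b * k * (c a)⁻¹ := by
      rw [map_mul, map_mul, k.2, map_inv, MonoidHom.id_apply,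
        show F (c b) = c b * ((k : G) * ((c a)⁻¹ * F (c a)) * (k : G)⁻¹) by rw [hk']; group]
      group
    rw [ConjClasses.mk_eq_mk_iff_isConj]
    refine isConj_iff.2 ⟨⟨c b * k * (c a)⁻¹, hm⟩, Subtype.ext ?_⟩
    change c b * k * (c a)⁻¹ * (a : G) * (c b * k * (c a)⁻¹)⁻¹ = b
    nth_rewrite 1 [← hm]
    rw [map_mul, map_mul, k.2, map_inv, MonoidHom.id_apply]
    have ea : (F (c a))⁻¹ * (a : G) * c a = 1 :=
      (congrArg (fun z => (F (c a))⁻¹ * z * c a) (hc' a)).symm.trans (by group)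
    rw [show F (c b) * (k : G) * (F (c a))⁻¹ * (a : G) * (c b * (k : G) * (c a)⁻¹)⁻¹ =
      F (c b) * (k : G) * ((F (c a))⁻¹ * (a : G) * c a) * (k : G)⁻¹ * (c b)⁻¹ by group, ea, mul_one, mul_inv_cancel_right]
    exact hc' b
  · intro y
    obtain ⟨b, rfl⟩ := ConjClasses.exists_rep y
    have hg : ((c b⁻¹)⁻¹)⁻¹ * F (c b⁻¹)⁻¹ = (b : G) := by
      have e : F (c b⁻¹) * (c b⁻¹)⁻¹ = (b : G)⁻¹ := hc' b⁻¹
      rw [map_inv, inv_inv, show c b⁻¹ * (F (c b⁻¹))⁻¹ = (F (c b⁻¹) * (c b⁻¹)⁻¹)⁻¹ by group]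
      exact (congrArg (·⁻¹) e).trans (inv_inv _)
    have hfb : F ((((c b⁻¹)⁻¹)⁻¹ * F (c b⁻¹)⁻¹)) = ((c b⁻¹)⁻¹)⁻¹ * F (c b⁻¹)⁻¹ := by rw [hg]; exact b.2
    refine ⟨ConjClasses.mk ⟨F (c b⁻¹)⁻¹ * ((c b⁻¹)⁻¹)⁻¹, (hfix _).2 hfb⟩, ?_⟩
    rw [hφ _ ((hfix _).2 hfb) hfb]
    exact congrArg ConjClasses.mk (Subtype.ext hg)

end Groth.Agent.S8625
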