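import Groth.Statements.S8651
import Groth.Agent.Lib.H1LambdaBasic
import Mathlib

set_option autoImplicit false
universe u
open Finset
open LambdaRing

namespace Groth.Agent.S8651

/-- Let A be a pre-λ-ring (λ^0 = 1, λ^1 = id, additive formula) in which λ^k(1) = 0 for all k ≥ 2, and
let y_1, …, y_n ∈ A satisfy λ^j(y_i) = 0 for every j ≥ 2; put x = Σ_i y_i. Then for every k the
element γ^k(x − n) (γ-operations: the coefficients of λ_{t/(1−t)}) equals the k-th elementary
symmetric function of y_1 − 1, …, y_n − 1, namely the sum over the k-element subsets s of the index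
set of Π_{i ∈ s} (y_i − 1); in particular γ^k(x − n) = 0 for k > n. (The published statement is for
a λ-ring; its proof uses only additivity and λ_t(1) = 1 + t, the hypotheses taken here.) -/
theorem result (A : Type u) [CommRing A] [LambdaRing.LambdaOps A]
    (h1 : ∀ k : ℕ, 2 ≤ k → LambdaRing.LambdaOps.lam k (1 : A) = 0) (n : ℕ) (y : Fin n → A)
    (hy : ∀ (i : Fin n) (j : ℕ), 2 ≤ j → LambdaRing.LambdaOps.lam j (y i) = 0) (k : ℕ) :
    LambdaRing.gamma k (∑ i : Fin n, y i - (n : A)) =
      ∑ s ∈ (univ : Finset (Fin n)).powersetCard k, ∏ i ∈ s, (y i - 1) := by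

  classical
  have hser : ∀ s : Finset (Fin n), Groth.Agent.GammaN.gammaSeries (∑ i ∈ s, (y i - 1)) =
      ∏ i ∈ s, (1 + PowerSeries.C (y i - 1) * PowerSeries.X) := by
    intro s
    induction s using Finset.induction with
    | empty => simp [Groth.Agent.H1Lam.gammaSeries_zero]
    | insert a s ha ih =>
      rw [Finset.sum_insert ha, Finset.prod_insert ha, Groth.Agent.H1Lam.gammaSeries_add, ih,
        Groth.Agent.H1Lam.gammaSeries_line_sub_one h1 (y a) (hy a)]
  rw [show ∑ i : Fin n, y i - (n : A) = ∑ i : Fin n, (y i - 1) by simp [Finset.sum_sub_distrib],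
    ← Groth.Agent.GammaN.coeff_gammaSeries, hser, Finset.prod_one_add, map_sum, Finset.powersetCard_eq_filter,
    Finset.sum_filter]
  refine Finset.sum_congr rfl fun s _ => ?_
  rw [Finset.prod_mul_distrib, ← map_prod, Finset.prod_const, PowerSeries.coeff_C_mul, PowerSeries.coeff_X_pow]
  simp [eq_comm]

end Groth.Agent.S8651
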