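import Groth.Statements.S8678
import Groth.Agent.Lib.H1LambdaBasic
import Mathlib

set_option autoImplicit false
universe u
open Finset
open LambdaRing

namespace Groth.Agent.S8678

/-- As the identity it proves in the pre-λ-ring K(Y') of the exceptional divisor: let K be a pre-λ-ring
(λ^0 = 1, λ^1 = id, additive formula) with λ^k(1) = 0 for all k ≥ 2, let d ≥ 2, and let F, L, N' ∈ K
satisfy λ^j(L) = 0 for j ≥ 2 (L is the class of an invertible module), λ^i(N') = 0 for i ≥ d − 1 (N'
is the class of a bundle of rank d − 2) and F + L = N' + 2 (for the blowing up of a regular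
immersion of codimension d: on the exceptional divisor the pulled-back conormal class is F + L, and
N = N' + 2). Then 1 − L divides λ_{−1}(F) = Σ_{i<d} (−1)^i λ^i(F). (The published proof uses only
additivity of λ_t and λ_t(1) = 1 + t, the hypotheses taken here.) -/
theorem result (K : Type u) [CommRing K] [LambdaRing.LambdaOps K]
    (h1 : ∀ k : ℕ, 2 ≤ k → LambdaRing.LambdaOps.lam k (1 : K) = 0) (d : ℕ) (hd : 2 ≤ d) (F L N' : K)
    (hL : ∀ j : ℕ, 2 ≤ j → LambdaRing.LambdaOps.lam j L = 0) (hN' : ∀ i : ℕ, d - 1 ≤ i → LambdaRing.LambdaOps.lam i N' = 0)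
    (hrel : F + L = N' + 2) :
    (1 - L) ∣ ∑ i ∈ range d, (-1 : K) ^ i * LambdaRing.LambdaOps.lam i F := by

  let q := Ideal.Quotient.mk (Ideal.span {1 - L})
  rw [← Ideal.mem_span_singleton, ← Ideal.Quotient.eq_zero_iff_mem, map_sum]
  have hqL : q L = 1 := by
    rw [← map_one q, Ideal.Quotient.eq, Ideal.mem_span_singleton]
    exact ⟨-1, by ring⟩
  have hs : LambdaRing.lamSeries (F + L) = LambdaRing.lamSeries (N' + ((2 : ℕ) : K)) := by
    rw [hrel]; norm_cast
  rw [Groth.Agent.H1Lam.lamSeries_add, Groth.Agent.H1Lam.lamSeries_add, Groth.Agent.H1Lam.lamSeries_line L hL, Groth.Agent.H1Lam.lamSeries_natCast h1] at hs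
  have hq := congrArg (PowerSeries.map q) hs
  simp only [map_mul, map_add, map_one, map_pow, PowerSeries.map_C, PowerSeries.map_X, hqL, one_mul] at hq
  rw [pow_two, ← mul_assoc] at hq
  have hu : IsUnit (1 + PowerSeries.X : PowerSeries (K ⧸ Ideal.span {1 - L})) :=
    PowerSeries.isUnit_iff_constantCoeff.2 (by simp)
  have hq' := hu.mul_right_cancel hq
  have hc : ∀ i, q (LambdaRing.LambdaOps.lam (i + 1) F) =
      q (LambdaRing.LambdaOps.lam (i + 1) N') + q (LambdaRing.LambdaOps.lam i N') := by
    intro i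
    have := congrArg (PowerSeries.coeff (i + 1)) hq'
    rw [mul_add, mul_one, map_add, PowerSeries.coeff_succ_mul_X] at this
    simpa [LambdaRing.lamSeries] using this
  have htel : ∀ m, ∑ i ∈ Finset.range (m + 1), q ((-1 : K) ^ i * LambdaRing.LambdaOps.lam i F) =
      q ((-1 : K) ^ m * LambdaRing.LambdaOps.lam m N') := by
    intro m
    induction m with
    | zero => simp [LambdaRing.LambdaOps.lam_zero]
    | succ m ih =>
      rw [Finset.sum_range_succ, ih, map_mul, map_mul, hc, map_mul, map_pow, map_pow, map_neg, map_one, pow_succ]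
      ring
  obtain ⟨m, rfl⟩ : ∃ m, d = m + 1 := ⟨d - 1, by omega⟩
  show ∑ i ∈ Finset.range (m + 1), q ((-1 : K) ^ i * LambdaRing.LambdaOps.lam i F) = 0
  rw [htel, hN' m (by omega), mul_zero, map_zero]

end Groth.Agent.S8678
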