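import Groth.Statements.S8691
import Groth.Agent.Lib.GammaDvd
import Mathlib

set_option autoImplicit false
universe u
open Finset
open LambdaRing

namespace Groth.Agent.S8691

/-- Let K be a λ-ring in the strict sense, d a natural number and N ∈ K with λ^i(N) = 0 for every i > d;
put λ_{−1}(N) = Σ_{i=0}^{d} (−1)^i λ^i(N). Then for every p ≥ 1 and every x ∈ K the element λ^p(x ·
λ_{−1}(N)) is divisible by λ_{−1}(N). (The published statement is for the λ-ring generated over the
integers by N and x subject to λ^i(N) = 0 for i > d, a polynomial ring; the divisibility passes to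
any λ-ring along the λ-homomorphism sending the generators to N and x, which is the substituted form
stated here.) The hypotheses hP and hQ, existence of the universal polynomials, are true statements
carried so that the identities of K can be used at every index. -/
theorem result (K : Type u) [CommRing K] [LambdaRing.LambdaOps K]
    (hK : LambdaRing.IsSpecial K)
    (hP : ∀ n : ℕ, ∃ P : MvPolynomial (Fin n ⊕ Fin n) ℤ, LambdaRing.IsMulPoly n P)
    (hQ : ∀ i j : ℕ, ∃ Q : MvPolynomial (Fin (i * j)) ℤ, LambdaRing.IsCompPoly i j Q)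
    (d : ℕ) (N : K) (hN : ∀ i : ℕ, d < i → LambdaRing.LambdaOps.lam i N = 0)
    (p : ℕ) (hp : 1 ≤ p) (x : K) :
    (∑ i ∈ range (d + 1), (-1 : K) ^ i * LambdaRing.LambdaOps.lam i N) ∣
      LambdaRing.LambdaOps.lam p (x * ∑ i ∈ range (d + 1), (-1 : K) ^ i * LambdaRing.LambdaOps.lam i N) := by

  classical
  obtain ⟨hn', hnd⟩ := Groth.Agent.GammaD.gamma_rank hK N d hN
  set L := ∑ i ∈ Finset.range (d + 1), (-1 : K) ^ i * LambdaRing.LambdaOps.lam i N with hL
  rcases Nat.eq_zero_or_pos d with rfl | hd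
  · simp [hL, LambdaRing.LambdaOps.lam_zero]
  set e := LambdaRing.gamma d (N - (d : K)) with he
  have hsq : (-1 : K) ^ d * (-1) ^ d = 1 := by rw [← mul_pow, neg_mul_neg, one_mul, one_pow]
  have heL : L ∣ e := ⟨(-1) ^ d, by rw [hnd]; ring⟩
  have hxe : x * L = ((-1 : K) ^ d * x) * e := by
    rw [hnd, show (-1 : K) ^ d * x * ((-1) ^ d * L) = ((-1) ^ d * (-1) ^ d) * (x * L) by ring, hsq, one_mul]
  rw [hxe]
  refine heL.trans (Ideal.mem_span_singleton.1 ?_)
  let ev : (MvPolynomial (ℕ ⊕ ℕ) ℤ) →+* K := MvPolynomial.eval₂Hom (Int.castRingHom K)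
    (Sum.elim (fun m => LambdaRing.LambdaOps.lam (m + 1) ((-1 : K) ^ d * x))
      (fun j => LambdaRing.gamma (j + 1) (N - (d : K))))
  let a : ℕ → (MvPolynomial (ℕ ⊕ ℕ) ℤ) := fun m => if m = 0 then 1 else MvPolynomial.X (Sum.inl (m - 1))
  let v : ℕ → (MvPolynomial (ℕ ⊕ ℕ) ℤ) := Groth.Agent.GammaV.gammaV (Groth.Agent.GammaV.ofGamma fun j => MvPolynomial.X (Sum.inr j)) (d - 1)
  have ha : Groth.Agent.GammaV.Is ev a ((-1 : K) ^ d * x) := fun m => by
    rcases m with _ | m
    · simp [a, LambdaRing.LambdaOps.lam_zero]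
    · simp [a, ev]
  have hu : Groth.Agent.GammaV.Is ev (Groth.Agent.GammaV.ofGamma fun j => MvPolynomial.X (Sum.inr j) : ℕ → (MvPolynomial (ℕ ⊕ ℕ) ℤ))
      (N - (d : K)) := Groth.Agent.GammaV.is_ofGamma fun j => by simp [ev]
  have hv : Groth.Agent.GammaV.Is ev v e := by
    have := Groth.Agent.GammaV.is_gammaV hK hu (d - 1)
    rwa [show d - 1 + 1 = d by omega] at this
  let σ : (MvPolynomial (ℕ ⊕ ℕ) ℤ) →+* (MvPolynomial (ℕ ⊕ ℕ) ℤ) := MvPolynomial.eval₂Hom (Int.castRingHom (MvPolynomial (ℕ ⊕ ℕ) ℤ))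
    (Sum.elim (fun m => MvPolynomial.X (Sum.inl m))
      (fun j => if d - 1 ≤ j then 0 else MvPolynomial.X (Sum.inr j)))
  let q := (Ideal.Quotient.mk (Ideal.span {e})).comp ev
  have hq : q.comp σ = q := by
    refine MvPolynomial.ringHom_ext (fun r => by simp [q, σ, ev]) ?_
    rintro (m | j)
    · simp [q, σ, ev]
    · simp only [q, σ, RingHom.comp_apply, MvPolynomial.eval₂Hom_X', Sum.elim_inr]
      split_ifs with hj
      · rw [map_zero, map_zero]
        symm
        rw [Ideal.Quotient.eq_zero_iff_mem]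
        rcases Nat.lt_or_ge j d with hjd | hjd
        · rw [show j = d - 1 by omega]
          simp only [ev, MvPolynomial.eval₂Hom_X', Sum.elim_inr, show d - 1 + 1 = d by omega]
          exact Ideal.mem_span_singleton_self _
        · simp only [ev, MvPolynomial.eval₂Hom_X', Sum.elim_inr, hn' (j + 1) (by omega)]
          exact zero_mem _
      · rfl
  have h0 : σ (Groth.Agent.GammaV.mulV a v p) = 0 := by
    change (σ ∘ Groth.Agent.GammaV.mulV a v) p = 0
    rw [Groth.Agent.GammaD.map_mulV]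
    refine Groth.Agent.GammaD.mulV_eq_zero _ _ (Or.inr fun k hk => ?_) p hp
    rw [Groth.Agent.GammaD.map_gammaV, Groth.Agent.GammaD.map_ofGamma]
    refine Groth.Agent.GammaD.gammaV_eq_zero _ (d - 1) (fun j hj => ?_) _ le_rfl k hk
    simp [σ]; omega
  rw [← Groth.Agent.GammaV.is_mulV hK ha hv p, ← Ideal.Quotient.eq_zero_iff_mem]
  show q (Groth.Agent.GammaV.mulV a v p) = 0
  rw [← hq, RingHom.comp_apply, h0, map_zero]

end Groth.Agent.S8691
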