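import Groth.Statements.S8696
import Groth.Agent.Lib.GammaDvd
import Mathlib

set_option autoImplicit false
universe u v
open Finset nonZeroDivisors
open LambdaRing

namespace Groth.Agent.S8696

/-- In the case where λ_{−1}(N) is a non-zero-divisor: let K be a binomial ring with its binomial
λ-structure, R a λ-ring in the strict sense which is an augmented K-λ-algebra with augmentation ε
and γ-filtration Fil^n R, d ≥ 1, N ∈ R of rank d (λ^k(N) = 0 for all k > d and ε(N) = d), λ_{−1}(N)
= Σ_{i ≤ d} (−1)^i λ^i(N) a non-zero-divisor, i a natural number and x ∈ Fil^i R. If y ∈ R satisfies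
y · λ_{−1}(N) = γ^{d+i}(x · λ_{−1}(N)), then y − (−1)^{d+i−1} (d+i−1)! · x ∈ Fil^{i+1} R. (The
published statement is about the element γ^{d+i}(N, x) defined by substitution from the universal
λ-ring, characterised there by γ^{q}(N, x) · λ_{−1}(N) = γ^{q}(x · λ_{−1}(N)); this row covers the
case in which that identity determines the element. The published statement also omits ε(N) = d,
which its proof uses when it maps the universal generator to N − d compatibly with the
augmentations; it is assumed here, together with the standing assumption d ≥ 1.) The hypotheses hP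
and hQ, existence of the universal polynomials, are true statements carried so that the identities
of R can be used at every index. -/
theorem result
    (K : Type u) [CommRing K] [LambdaRing.LambdaOps K] [BinomialRing K] (hKb : LambdaRing.IsBinomial K)
    (hK : LambdaRing.IsSpecial K)
    (A : Type v) [CommRing A] [LambdaRing.LambdaOps A] [Algebra K A] (hA : LambdaRing.IsSpecial A)
    (hP : ∀ n : ℕ, ∃ P : MvPolynomial (Fin n ⊕ Fin n) ℤ, LambdaRing.IsMulPoly n P)
    (hQ : ∀ i j : ℕ, ∃ Q : MvPolynomial (Fin (i * j)) ℤ, LambdaRing.IsCompPoly i j Q)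
    (ε : A →ₐ[K] K) (hε : LambdaRing.IsAugLambdaAlg K A ε)
    (d : ℕ) (hd : 1 ≤ d) (N : A) (hN : ∀ k : ℕ, d < k → LambdaRing.LambdaOps.lam k N = 0) (hNε : ε N = (d : K))
    (hnzd : (∑ j ∈ range (d + 1), (-1 : A) ^ j * LambdaRing.LambdaOps.lam j N) ∈ A⁰)
    (i : ℕ) (x : A) (hx : x ∈ LambdaRing.gammaFil (ε : A →+* K) i) (y : A)
    (hy : y * (∑ j ∈ range (d + 1), (-1 : A) ^ j * LambdaRing.LambdaOps.lam j N) = LambdaRing.gamma (d + i) (x * (∑ j ∈ range (d + 1), (-1 : A) ^ j * LambdaRing.LambdaOps.lam j N))) :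
    y - (-1 : A) ^ (d + i - 1) * ((d + i - 1).factorial : A) * x ∈ LambdaRing.gammaFil (ε : A →+* K) (i + 1) := by

  obtain ⟨hn', hnd⟩ := Groth.Agent.GammaD.gamma_rank hA N d hN
  set L := ∑ j ∈ Finset.range (d + 1), (-1 : A) ^ j * LambdaRing.LambdaOps.lam j N with hL
  have hn : ε (N - (d : A)) = 0 := by rw [map_sub, map_natCast, hNε, sub_self]
  have hunit : IsUnit ((-1 : A) ^ d) := isUnit_one.neg.pow d
  have he : LambdaRing.gamma d (N - (d : A)) ∈ nonZeroDivisors A := by
    rw [hnd]; exact mul_mem hunit.mem_nonZeroDivisors hnzd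
  have hsq : (-1 : A) ^ d * (-1) ^ d = 1 := by rw [← mul_pow, neg_mul_neg, one_mul, one_pow]
  have hxe : x * L = ((-1 : A) ^ d * x) * LambdaRing.gamma d (N - (d : A)) := by
    rw [hnd, show (-1 : A) ^ d * x * ((-1) ^ d * L) = ((-1) ^ d * (-1) ^ d) * (x * L) by ring, hsq, one_mul]
  have hye : y * L = LambdaRing.gamma d (N - (d : A)) * ((-1 : A) ^ d * y) := by
    rw [hnd, show (-1 : A) ^ d * L * ((-1) ^ d * y) = ((-1) ^ d * (-1) ^ d) * (y * L) by ring, hsq, one_mul]
  rw [hxe, hye] at hy

  have h := (Groth.Agent.GammaD.gamma_mul_fil ε hKb hA hε d hd _ hn hn' i ((-1 : A) ^ d * x)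
    (Ideal.mul_mem_left _ _ hx)).2
  rw [← hy, show ∀ c : A, c * ((-1 : A) ^ d * x * LambdaRing.gamma d (N - (d : A))) =
      LambdaRing.gamma d (N - (d : A)) * (c * ((-1 : A) ^ d * x)) from fun c => by ring, ← mul_sub] at h
  have h2 := Ideal.mul_mem_left _ ((-1 : A) ^ d) (Groth.Agent.GammaD.cofactor he h)
  rwa [mul_sub, ← mul_assoc ((-1 : A) ^ d), hsq, one_mul,
    show ∀ c : A, (-1 : A) ^ d * (c * ((-1) ^ d * x)) = ((-1) ^ d * (-1) ^ d) * (c * x) from fun c => by ring,
    hsq, one_mul] at h2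

end Groth.Agent.S8696
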