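import Groth.Statements.S8697
import Groth.Agent.Lib.GammaFilBound

set_option autoImplicit false
universe u v
open Finset
open LambdaRing

namespace Groth.Agent.S8697

/-- Let K be a binomial ring with its binomial λ-structure and B a λ-ring in the strict sense which is
an augmented K-λ-algebra with augmentation ε. Let x ∈ B satisfy ε(x) = 0 and γ^k(x) = 0 for every k
> n, and assume that γ^1(x), …, γ^n(x) are algebraically independent over K and generate B as a
K-algebra — so B is the K-λ-algebra generated by one element subject to the relations γ^k = 0 for k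
> n, a polynomial ring K[γ^1 x, …, γ^n x]. Then for every k, the k-th ideal Fil^k B of the
γ-filtration (generated by the products of γ^{i}(z), ε(z) = 0, of total weight ≥ k) is the ideal
generated by the monomials ∏_j (γ^j x)^{e_j} with Σ_j j·e_j ≥ k: the λ-ring filtration is the
filtration by the weight in the γ^j x. (With λ in place of γ — relations λ^k x = 0 for k > n and
weights in the λ^j x — the assertion fails already for n = 1, where γ^i(x) = x for all i ≥ 1 puts x
in every Fil^k while x is not in the ideal (x²); the form with γ stated here is the one the proof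
establishes.) The hypotheses hP and hQ, existence of the universal polynomials, are true statements
carried so that the identities of B can be used at every index. -/
theorem result
    (K : Type u) [CommRing K] [LambdaRing.LambdaOps K] [BinomialRing K] (hKb : LambdaRing.IsBinomial K)
    (hK : LambdaRing.IsSpecial K)
    (B : Type v) [CommRing B] [LambdaRing.LambdaOps B] [Algebra K B] (hB : LambdaRing.IsSpecial B)
    (hP : ∀ n : ℕ, ∃ P : MvPolynomial (Fin n ⊕ Fin n) ℤ, LambdaRing.IsMulPoly n P)
    (hQ : ∀ i j : ℕ, ∃ Q : MvPolynomial (Fin (i * j)) ℤ, LambdaRing.IsCompPoly i j Q)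
    (ε : B →ₐ[K] K) (hε : LambdaRing.IsAugLambdaAlg K B ε)
    (n : ℕ) (x : B) (hx : ε x = 0) (hγ : ∀ k : ℕ, n < k → LambdaRing.gamma k x = 0)
    (hind : AlgebraicIndependent K (fun j : Fin n => LambdaRing.gamma ((j : ℕ) + 1) x))
    (hgen : Algebra.adjoin K (Set.range fun j : Fin n => LambdaRing.gamma ((j : ℕ) + 1) x) = ⊤)
    (k : ℕ) :
    LambdaRing.gammaFil (ε : B →+* K) k =
      Ideal.span {m : B | ∃ e : Fin n → ℕ, k ≤ ∑ j : Fin n, ((j : ℕ) + 1) * e j ∧
        m = ∏ j : Fin n, LambdaRing.gamma ((j : ℕ) + 1) x ^ e j} := by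
  classical
  open Groth.Agent.GammaF Groth.Agent.GammaN in
  set g : Fin n → B := fun j => gamma ((j : ℕ) + 1) x with hg
  let S : ℕ → Set B := fun k =>
    {m : B | ∃ e : Fin n → ℕ, k ≤ ∑ j : Fin n, ((j : ℕ) + 1) * e j ∧ m = ∏ j : Fin n, g j ^ e j}
  let W : ℕ → Ideal B := fun k => Ideal.span (S k)
  change gammaFil (ε : B →+* K) k = W k
  have hanti : ∀ a b, a ≤ b → W b ≤ W a := fun a b h =>
    Ideal.span_mono fun _ ⟨e, he, hm⟩ => ⟨e, h.trans he, hm⟩
  refine le_antisymm (Groth.Agent.GammaF.gammaFil_le hKb hB ε hε W ?_ hanti ?_ {x} (fun t ht => ?_)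
    (fun t ht j => ?_) ?_ k) (Ideal.span_le.2 ?_)
  · exact (Ideal.eq_top_iff_one _).2 (Ideal.subset_span ⟨0, by simp, by simp⟩)
  · intro a b u v hu hv
    refine (show W a * W b ≤ W (a + b) from ?_) (Ideal.mul_mem_mul hu hv)
    simp only [W, Ideal.span_mul_span']
    refine Ideal.span_mono ?_
    rintro _ ⟨_, ⟨e, he, rfl⟩, _, ⟨e', he', rfl⟩, rfl⟩
    refine ⟨e + e', ?_, by simp [pow_add, Finset.prod_mul_distrib]⟩
    simp only [Pi.add_apply, mul_add, Finset.sum_add_distrib]
    omega
  · rw [Set.mem_singleton_iff.1 ht]; exact hx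
  · rw [Set.mem_singleton_iff.1 ht]
    rcases Nat.lt_or_ge j n with hj | hj
    · refine Ideal.subset_span ⟨Pi.single ⟨j, hj⟩ 1, ?_, ?_⟩
      · rw [Finset.sum_eq_single ⟨j, hj⟩ (fun b _ hb => by simp [hb]) (by simp)]
        simp
      · rw [Finset.prod_eq_single ⟨j, hj⟩ (fun b _ hb => by simp [hb]) (by simp)]
        simp [g]
    · rw [hγ (j + 1) (by omega)]
      exact zero_mem _
  · refine top_unique (hgen ▸ Algebra.adjoin_mono ?_)
    rintro _ ⟨j, rfl⟩
    exact ⟨x, rfl, j, rfl⟩
  · rintro _ ⟨e, he, rfl⟩
    refine Groth.Agent.GammaF.fil_anti _ he ?_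
    induction (Finset.univ : Finset (Fin n)) using Finset.induction with
    | empty => simp [Groth.Agent.GammaF.fil_zero]
    | insert a s ha ih =>
      rw [Finset.prod_insert ha, Finset.sum_insert ha]
      refine Groth.Agent.GammaF.fil_mul _ ?_ ih
      clear ih he
      generalize e a = c
      induction c with
      | zero => simp [Groth.Agent.GammaF.fil_zero]
      | succ c ihc =>
        rw [pow_succ, Nat.mul_succ]
        exact Groth.Agent.GammaF.fil_mul _ ihc (Groth.Agent.GammaF.gamma_mem_fil _ hx _)

end Groth.Agent.S8697
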