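import Groth.Statements.S8698
import Groth.Agent.Lib.GammaFilBound

set_option autoImplicit false
universe u v w
open Finset
open LambdaRing

namespace Groth.Agent.S8698

/-- Let K be a binomial ring with its binomial λ-structure, A a λ-ring in the strict sense which is an
augmented K-λ-algebra with augmentation ε_A, and B a λ-ring in the strict sense which is at once an
augmented K-λ-algebra with augmentation ε_B and an A-algebra compatibly with the K-structures, the
structure map A → B commuting with the λ^n and ε_B restricting to ε_A on A. Let x ∈ B with ε_B(x) =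
0, and assume that the family (γ^{j+1} x)_{j ∈ ℕ} is algebraically independent over A and generates
B as an A-algebra: B is the free λ-ring A[X, γ^2 X, γ^3 X, …] on one generator over A, augmented by
X ↦ 0. Then for every k the k-th ideal Fil^k B of the γ-filtration of B is the ideal generated by
the products a · m where m = ∏_j (γ^{j+1} x)^{e_j} is a monomial of weight i = Σ_j (j+1) e_j and a
lies in (the image of) Fil^{k−i} A, with Fil^s A = A for s ≤ 0; that is, Fil^k B = Fil^k A +
Fil^{k−1} A·M_1 + ⋯ + Fil^0 A·M_k + (monomials of weight > k), M_i denoting the monomials of weight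
i. The hypotheses hP and hQ, existence of the universal polynomials, are true statements carried so
that the identities of A and B can be used at every index. -/
theorem result
    (K : Type u) [CommRing K] [LambdaRing.LambdaOps K] [BinomialRing K] (hKb : LambdaRing.IsBinomial K)
    (hK : LambdaRing.IsSpecial K)
    (A : Type v) [CommRing A] [LambdaRing.LambdaOps A] [Algebra K A] (hA : LambdaRing.IsSpecial A)
    (εA : A →ₐ[K] K) (hεA : LambdaRing.IsAugLambdaAlg K A εA)
    (B : Type w) [CommRing B] [LambdaRing.LambdaOps B] [Algebra K B] [Algebra A B] [IsScalarTower K A B]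
    (hB : LambdaRing.IsSpecial B) (hAB : LambdaRing.IsLambdaAlg A B)
    (εB : B →ₐ[K] K) (hεB : LambdaRing.IsAugLambdaAlg K B εB) (hεAB : ∀ a : A, εB (algebraMap A B a) = εA a)
    (hP : ∀ n : ℕ, ∃ P : MvPolynomial (Fin n ⊕ Fin n) ℤ, LambdaRing.IsMulPoly n P)
    (hQ : ∀ i j : ℕ, ∃ Q : MvPolynomial (Fin (i * j)) ℤ, LambdaRing.IsCompPoly i j Q)
    (x : B) (hx : εB x = 0)
    (hind : AlgebraicIndependent A (fun j : ℕ => LambdaRing.gamma (j + 1) x))
    (hgen : Algebra.adjoin A (Set.range fun j : ℕ => LambdaRing.gamma (j + 1) x) = ⊤)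
    (k : ℕ) :
    LambdaRing.gammaFil (εB : B →+* K) k =
      Ideal.span {b : B | ∃ (e : ℕ →₀ ℕ) (a : A),
        a ∈ LambdaRing.gammaFil (εA : A →+* K) (k - e.sum fun j n => (j + 1) * n) ∧
        b = algebraMap A B a * e.prod fun j n => LambdaRing.gamma (j + 1) x ^ n} := by
  classical
  let g : ℕ → B := fun j => gamma (j + 1) x
  let w : (ℕ →₀ ℕ) → ℕ := fun e => e.sum fun j n => (j + 1) * n
  let M : (ℕ →₀ ℕ) → B := fun e => e.prod fun j n => g j ^ n
  let S : ℕ → Set B := fun k =>
    {b : B | ∃ (e : ℕ →₀ ℕ) (a : A), a ∈ gammaFil (εA : A →+* K) (k - w e) ∧ b = algebraMap A B a * M e}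
  let W : ℕ → Ideal B := fun k => Ideal.span (S k)
  change gammaFil (εB : B →+* K) k = W k
  have hwadd : ∀ e e', w (e + e') = w e + w e' := fun e e' =>
    Finsupp.sum_add_index' (by simp) (fun _ _ _ => mul_add _ _ _)
  have hMadd : ∀ e e', M (e + e') = M e * M e' := fun e e' =>
    Finsupp.prod_add_index' (by simp) (fun _ _ _ => pow_add _ _ _)
  have h0 : ∀ (s : ℕ) (a : A), s = 0 → a ∈ gammaFil (εA : A →+* K) s := fun s a hs => by
    subst hs
    rw [Groth.Agent.GammaF.fil_zero]
    trivial
  have hanti : ∀ a b, a ≤ b → W b ≤ W a := fun a b h => Ideal.span_mono fun _ ⟨e, c, hc, hm⟩ =>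
    ⟨e, c, Groth.Agent.GammaF.fil_anti _ (by omega) hc, hm⟩
  refine le_antisymm (Groth.Agent.GammaF.gammaFil_le hKb hB εB hεB W ?_ hanti ?_
    ({x} ∪ algebraMap A B '' {a | εA a = 0}) (fun t ht => ?_) (fun t ht j => ?_) ?_ k) (Ideal.span_le.2 ?_)
  · exact (Ideal.eq_top_iff_one _).2 (Ideal.subset_span ⟨0, 1, h0 _ _ (by simp), by simp [M]⟩)
  · intro a b u v hu hv
    refine (show W a * W b ≤ W (a + b) from ?_) (Ideal.mul_mem_mul hu hv)
    simp only [W, Ideal.span_mul_span']
    refine Ideal.span_mono ?_
    rintro _ ⟨_, ⟨e, c, hc, rfl⟩, _, ⟨e', c', hc', rfl⟩, rfl⟩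
    refine ⟨e + e', c * c', Groth.Agent.GammaF.fil_anti _ ?_ (Groth.Agent.GammaF.fil_mul _ hc hc'), ?_⟩
    · rw [hwadd]; omega
    · rw [hMadd]; simp only [map_mul]; ring
  · rcases ht with ht | ⟨a, ha, rfl⟩
    · rw [Set.mem_singleton_iff.1 ht]; exact hx
    · rw [hεAB]; exact ha
  · rcases ht with ht | ⟨a, ha, rfl⟩
    · rw [Set.mem_singleton_iff.1 ht]
      exact Ideal.subset_span ⟨Finsupp.single j 1, 1, h0 _ _ (by simp [w]), by simp [M, g]⟩
    · refine Ideal.subset_span ⟨0, gamma (j + 1) a, ?_, ?_⟩
      · simpa [w] using Groth.Agent.GammaF.gamma_mem_fil (εA : A →+* K) ha (j + 1)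
      · rw [Groth.Agent.GammaN.map_gamma (algebraMap A B) a _ (fun n => hAB n a)]
        simp [M]
  · refine top_unique fun b _ => ?_
    set T := Algebra.adjoin K {y | ∃ t ∈ ({x} ∪ algebraMap A B '' {a | εA a = 0} : Set B),
      ∃ j, y = gamma (j + 1) t}
    have hb : b ∈ Algebra.adjoin A (Set.range fun j : ℕ => gamma (j + 1) x) := hgen ▸ Algebra.mem_top
    induction hb using Algebra.adjoin_induction with
    | mem y hy =>
      obtain ⟨j, rfl⟩ := hy
      exact Algebra.subset_adjoin ⟨x, Or.inl rfl, j, rfl⟩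
    | algebraMap a =>
      rw [show algebraMap A B a = algebraMap K B (εA a) + algebraMap A B (a - algebraMap K A (εA a)) by
        rw [map_sub, ← IsScalarTower.algebraMap_apply K A B, add_sub_cancel]]
      refine add_mem (Subalgebra.algebraMap_mem _ _) (Algebra.subset_adjoin
        ⟨_, Or.inr ⟨a - algebraMap K A (εA a), by simp, rfl⟩, 0, ?_⟩)
      rw [Groth.Agent.GammaN.gamma_one]
    | add u v _ _ hu hv => exact add_mem (hu trivial) (hv trivial)
    | mul u v _ _ hu hv => exact mul_mem (hu trivial) (hv trivial)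
  · rintro _ ⟨e, a, ha, rfl⟩
    have h1 : ∀ s, ∀ c ∈ gammaFil (εA : A →+* K) s, algebraMap A B c ∈ gammaFil (εB : B →+* K) s := by
      intro s c hc
      refine (show Ideal.map (algebraMap A B) (gammaFil (εA : A →+* K) s) ≤ gammaFil (εB : B →+* K) s from ?_)
        (Ideal.mem_map_of_mem _ hc)
      rw [gammaFil, Ideal.map_span, Ideal.span_le]
      rintro _ ⟨_, ⟨l, hl, hs, rfl⟩, rfl⟩
      refine Ideal.subset_span ⟨l.map fun p => (p.1, algebraMap A B p.2), ?_, ?_, ?_⟩
      · intro p hp
        obtain ⟨q, hq, rfl⟩ := List.mem_map.1 hp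
        exact (hεAB _).trans (hl q hq)
      · rw [List.map_map]; exact hs
      · rw [map_list_prod, List.map_map, List.map_map]
        exact congrArg List.prod (List.map_congr_left fun p _ =>
          Groth.Agent.GammaN.map_gamma (algebraMap A B) p.2 _ (fun n => hAB n p.2) p.1)
    have h2 : ∀ e, M e ∈ gammaFil (εB : B →+* K) (w e) := by
      intro e'
      induction e' using Finsupp.induction with
      | zero => simp [M, w, Groth.Agent.GammaF.fil_zero]
      | single_add j c e' _ hc0 ih =>
        rw [hwadd, hMadd]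
        refine Groth.Agent.GammaF.fil_mul _ ?_ ih
        simp only [M, w, Finsupp.sum_single_index, Finsupp.prod_single_index, mul_zero, pow_zero]
        clear ih hc0
        induction c with
        | zero => simp [Groth.Agent.GammaF.fil_zero]
        | succ c ihc =>
          rw [pow_succ, Nat.mul_succ]
          exact Groth.Agent.GammaF.fil_mul _ ihc (Groth.Agent.GammaF.gamma_mem_fil _ hx _)
    exact Groth.Agent.GammaF.fil_anti _ (by omega) (Groth.Agent.GammaF.fil_mul _ (h1 _ _ ha) (h2 e))

end Groth.Agent.S8698
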