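import Groth.Statements.S8704
import Groth.Agent.Lib.GammaFilCongr

set_option autoImplicit false
universe u v
open LambdaRing

namespace Groth.Agent.S8704

/-- Let K and A be λ-rings in the strict sense, A an augmented K-λ-algebra with augmentation ε : A → K,
and Fil^n A its γ-filtration, the ideal generated by the products γ^{i_1}(x_1) ⋯ γ^{i_k}(x_k) with
i_1 + ⋯ + i_k ≥ n and all ε(x_r) = 0. If a subset S generates A as an abelian group, then Fil^n A,
as a K-submodule of A, is generated over K by the products γ^{i_1}(s_1 − ε(s_1)) ⋯ γ^{i_k}(s_k −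
ε(s_k)) with s_r ∈ S and i_1 + ⋯ + i_k ≥ n. -/
theorem result
    (K : Type u) [CommRing K] [LambdaRing.LambdaOps K] (hK : LambdaRing.IsSpecial K)
    (A : Type v) [CommRing A] [LambdaRing.LambdaOps A] [Algebra K A] (hA : LambdaRing.IsSpecial A)
    (ε : A →ₐ[K] K) (hε : LambdaRing.IsAugLambdaAlg K A ε)
    (S : Set A) (hS : AddSubgroup.closure S = ⊤) (n : ℕ) :
    (LambdaRing.gammaFil (ε : A →+* K) n).restrictScalars K =
      Submodule.span K {y : A | ∃ l : List (ℕ × A), (∀ p ∈ l, p.2 ∈ S) ∧ n ≤ (l.map Prod.fst).sum ∧
        y = (l.map fun p => LambdaRing.gamma p.1 (p.2 - algebraMap K A (ε p.2))).prod} := by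
  classical
  open Groth.Agent.GammaN in
  set G : ℕ → Set A := fun n => {y : A | ∃ l : List (ℕ × A), (∀ p ∈ l, p.2 ∈ S) ∧ n ≤ (l.map Prod.fst).sum ∧
    y = (l.map fun p => gamma p.1 (p.2 - algebraMap K A (ε p.2))).prod} with hG
  let V : ℕ → Submodule K A := fun n => Submodule.span K (G n)
  change (gammaFil (ε : A →+* K) n).restrictScalars K = V n
  have hanti : ∀ a b, a ≤ b → V b ≤ V a := fun a b h =>
    Submodule.span_mono fun _ ⟨l, h1, h2, h3⟩ => ⟨l, h1, h.trans h2, h3⟩
  have hmul : ∀ a b u v, u ∈ V a → v ∈ V b → u * v ∈ V (a + b) := by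
    intro a b u v hu hv
    refine (show V a * V b ≤ V (a + b) from ?_) (Submodule.mul_mem_mul hu hv)
    simp only [V, Submodule.span_mul_span]
    refine Submodule.span_mono ?_
    rintro _ ⟨_, ⟨l, h1, h2, rfl⟩, _, ⟨l', h1', h2', rfl⟩, rfl⟩
    refine ⟨l ++ l', fun p hp => ?_, ?_, by simp⟩
    · rcases List.mem_append.1 hp with hp | hp
      exacts [h1 p hp, h1' p hp]
    · rw [List.map_append, List.sum_append]
      omega
  have h0 : (1 : A) ∈ V 0 := Submodule.subset_span ⟨[], by simp, by simp, by simp⟩
  have hx : ∀ x : A, ∀ r, gamma r (x - algebraMap K A (ε x)) ∈ V r := by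
    intro x
    have hx : x ∈ AddSubgroup.closure S := hS ▸ AddSubgroup.mem_top x
    induction hx using AddSubgroup.closure_induction with
    | mem s hs => exact fun r => Submodule.subset_span ⟨[(r, s)], by simpa using hs, by simp, by simp⟩
    | zero =>
      intro r
      rcases Nat.eq_zero_or_pos r with rfl | hr
      · rwa [Groth.Agent.GammaN.gamma_zero]
      · rw [map_zero, map_zero, sub_zero, Groth.Agent.GammaF.gamma_zero_elt r hr]
        exact zero_mem _
    | add a b _ _ ha hb =>
      intro r
      rw [map_add, map_add, add_sub_add_comm, Groth.Agent.GammaN.gamma_add]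
      refine sum_mem fun j hj => ?_
      have := hmul _ _ _ _ (ha j) (hb (r - j))
      rwa [Nat.add_sub_cancel' (Nat.lt_succ_iff.1 (Finset.mem_range.1 hj))] at this
    | neg a _ ha =>
      intro r
      induction r using Nat.strong_induction_on with
      | _ r ih =>
        rcases Nat.eq_zero_or_pos r with rfl | hr
        · rwa [Groth.Agent.GammaN.gamma_zero]
        · rw [map_neg, map_neg, ← neg_sub', ]
          set u := a - algebraMap K A (ε a) with hu
          have h := Groth.Agent.GammaN.gamma_add r u (-u)
          rw [add_neg_cancel, Groth.Agent.GammaF.gamma_zero_elt r hr, Finset.sum_range_succ',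
            Groth.Agent.GammaN.gamma_zero, one_mul, Nat.sub_zero] at h
          rw [eq_neg_of_add_eq_zero_right h.symm]
          refine neg_mem (sum_mem fun j hj => ?_)
          have hj' := Finset.mem_range.1 hj
          have h2 := ih (r - (j + 1)) (by omega)
          rw [map_neg, map_neg, ← neg_sub'] at h2
          have := hmul _ _ _ _ (ha (j + 1)) h2
          rwa [Nat.add_sub_cancel' hj'] at this
  refine le_antisymm ?_ (Submodule.span_le.2 ?_)
  · have hA1 : ∀ a : A, a ∈ V 0 := fun a => by
      rw [show a = ε a • (1 : A) + (a - algebraMap K A (ε a)) by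
        rw [← Algebra.algebraMap_eq_smul_one, add_sub_cancel]]
      refine add_mem (Submodule.smul_mem _ _ h0) ?_
      have := hanti 0 1 (Nat.zero_le _) (hx a 1)
      rwa [Groth.Agent.GammaN.gamma_one] at this
    intro z hz
    rw [Submodule.restrictScalars_mem] at hz
    simp only [gammaFil, Ideal.span] at hz
    induction hz using Submodule.span_induction with
    | mem z hz =>
      obtain ⟨l, hl, hw, rfl⟩ := hz
      refine hanti _ _ hw ?_
      clear hw
      induction l with
      | nil => simpa using h0
      | cons p l ih =>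
        rw [List.map_cons, List.map_cons, List.sum_cons, List.prod_cons]
        refine hmul _ _ _ _ ?_ (ih fun q hq => hl q (List.mem_cons_of_mem _ hq))
        have h1 := hx p.2 p.1
        rwa [show ε p.2 = 0 from hl p List.mem_cons_self, map_zero, sub_zero] at h1
    | zero => exact zero_mem _
    | add u v _ _ hu hv => exact add_mem hu hv
    | smul a u _ hu =>
      have := hmul 0 n a u (hA1 a) hu
      rwa [Nat.zero_add] at this
  · rintro _ ⟨l, hl, hw, rfl⟩
    refine Ideal.subset_span ⟨l.map fun p => (p.1, p.2 - algebraMap K A (ε p.2)), ?_, ?_, ?_⟩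
    · intro p hp
      obtain ⟨q, -, rfl⟩ := List.mem_map.1 hp
      simp
    · rw [List.map_map]; exact hw
    · rw [List.map_map]; rfl

end Groth.Agent.S8704
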