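import Groth.Statements.S8705
import Mathlib
import Groth.Agent.Lib.H6.SymmCocycle

set_option autoImplicit false
set_option backward.isDefEq.respectTransparency.types false
set_option maxHeartbeats 1000000
set_option linter.all false
universe u
open SGA7

namespace Groth.Agent.S8705
open Groth.Agent

/-- In the case of the punctual topos (ordinary abelian groups): let P be an abelian group and consider
the complex of free abelian groups Z[P × P × P] ⊕ Z[P × P] → Z[P × P] → Z[P], augmented to P by [p]
↦ p, with d₀[p, q] = [p + q] − [p] − [q], with d₁ on the first summand given by [p, q, r] ↦ [p + q,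
r] − [p, q + r] + [p, q] − [q, r] and on the second summand by [p, q] ↦ [p, q] − [q, p]. Then the
augmentation is surjective with kernel the image of d₀ (so H₀ is P), and the kernel of d₀ is the sum
of the images of the two components of d₁ (so H₁ vanishes). (The published statement is for abelian
sheaves on an arbitrary topos; this row is its case of a one-point space.) -/
theorem result (P : Type u) [AddCommGroup P] :
    letI ε : (P →₀ ℤ) →ₗ[ℤ] P := Finsupp.linearCombination ℤ (fun p : P => p)
    letI d₀ : (P × P →₀ ℤ) →ₗ[ℤ] (P →₀ ℤ) := Finsupp.linearCombination ℤ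
      (fun pq : P × P => Finsupp.single (pq.1 + pq.2) 1 - Finsupp.single pq.1 1 - Finsupp.single pq.2 1)
    letI d₁ : (P × P × P →₀ ℤ) →ₗ[ℤ] (P × P →₀ ℤ) := Finsupp.linearCombination ℤ
      (fun t : P × P × P => Finsupp.single (t.1 + t.2.1, t.2.2) 1 - Finsupp.single (t.1, t.2.1 + t.2.2) 1
        + Finsupp.single (t.1, t.2.1) 1 - Finsupp.single (t.2.1, t.2.2) 1)
    letI d₁' : (P × P →₀ ℤ) →ₗ[ℤ] (P × P →₀ ℤ) := Finsupp.linearCombination ℤ
      (fun pq : P × P => Finsupp.single pq 1 - Finsupp.single (pq.2, pq.1) 1)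
    Function.Surjective ε ∧ LinearMap.ker ε = LinearMap.range d₀ ∧
      LinearMap.ker d₀ = LinearMap.range d₁ ⊔ LinearMap.range d₁' := by
    set ε : (P →₀ ℤ) →ₗ[ℤ] P := Finsupp.linearCombination ℤ (fun p : P => p) with hε
    set d₀ : (P × P →₀ ℤ) →ₗ[ℤ] (P →₀ ℤ) := Finsupp.linearCombination ℤ
      (fun pq : P × P => Finsupp.single (pq.1 + pq.2) 1 - Finsupp.single pq.1 1 - Finsupp.single pq.2 1) with hd₀
    set d₁ : (P × P × P →₀ ℤ) →ₗ[ℤ] (P × P →₀ ℤ) := Finsupp.linearCombination ℤ
      (fun t : P × P × P => Finsupp.single (t.1 + t.2.1, t.2.2) 1 - Finsupp.single (t.1, t.2.1 + t.2.2) 1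
        + Finsupp.single (t.1, t.2.1) 1 - Finsupp.single (t.2.1, t.2.2) 1) with hd₁
    set d₁' : (P × P →₀ ℤ) →ₗ[ℤ] (P × P →₀ ℤ) := Finsupp.linearCombination ℤ
      (fun pq : P × P => Finsupp.single pq 1 - Finsupp.single (pq.2, pq.1) 1) with hd₁'
    refine ⟨fun p => ⟨Finsupp.single p 1, by simp [ε]⟩, ?_, ?_⟩
    · have h1 : LinearMap.range d₀ ≤ LinearMap.ker ε := by
        rw [Finsupp.range_linearCombination, Submodule.span_le]
        rintro _ ⟨⟨p, q⟩, rfl⟩
        show ε _ = 0
        simp [ε]
      refine le_antisymm (fun x hx => ?_) h1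
      let π := (LinearMap.range d₀).mkQ
      have hadd : ∀ p q : P, π (Finsupp.single (p + q) 1) = π (Finsupp.single p 1) + π (Finsupp.single q 1) := by
        intro p q
        rw [← map_add]
        refine (Submodule.Quotient.eq _).2 ⟨Finsupp.single (p, q) 1, ?_⟩
        simp [d₀]; abel
      let s : P →+ (P →₀ ℤ) ⧸ LinearMap.range d₀ := AddMonoidHom.mk' (fun p => π (Finsupp.single p 1)) hadd
      have : π = s.toIntLinearMap.comp ε := by
        ext p
        simp [ε, s, π]
      have h2 : π x = 0 := by rw [this, LinearMap.comp_apply, LinearMap.mem_ker.1 hx, map_zero]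
      exact (Submodule.Quotient.mk_eq_zero _).1 h2
    · have h1 : LinearMap.range d₁ ⊔ LinearMap.range d₁' ≤ LinearMap.ker d₀ := by
        refine sup_le ?_ ?_ <;> rw [Finsupp.range_linearCombination, Submodule.span_le]
        · rintro _ ⟨⟨p, q, r⟩, rfl⟩
          show d₀ _ = 0
          simp [d₀, add_assoc]; abel
        · rintro _ ⟨⟨p, q⟩, rfl⟩
          show d₀ _ = 0
          simp [d₀, add_comm p q]; abel
      refine le_antisymm (fun x hx => ?_) h1
      let I := LinearMap.range d₁ ⊔ LinearMap.range d₁'
      let z : H6.SymmCocycle P ((P × P →₀ ℤ) ⧸ I) :=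
        { c := fun p q => I.mkQ (Finsupp.single (p, q) 1)
          assoc := fun p q r => by
            rw [← map_add, ← map_add]
            refine (Submodule.Quotient.eq _).2 (Submodule.mem_sup_left ⟨Finsupp.single (p, q, r) 1, ?_⟩)
            simp [d₁]; abel
          symm := fun p q => (Submodule.Quotient.eq _).2
            (Submodule.mem_sup_right ⟨Finsupp.single (p, q) 1, by simp [d₁']⟩) }
      let θ : (P →₀ ℤ) →ₗ[ℤ] z.Ext := Finsupp.linearCombination ℤ (fun p => (⟨p, 0⟩ : z.Ext))
      have hθ : θ.comp d₀ = - (z.incl.toIntLinearMap.comp I.mkQ) := by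
        refine Finsupp.lhom_ext' fun pq => LinearMap.ext_ring ?_
        obtain ⟨p, q⟩ := pq
        show θ (d₀ (Finsupp.single (p, q) 1)) = - z.incl (I.mkQ (Finsupp.single (p, q) 1))
        rw [show d₀ (Finsupp.single (p, q) 1) = Finsupp.single (p + q) 1 - Finsupp.single p 1 - Finsupp.single q 1 by simp [d₀],
          map_sub, map_sub]
        simp only [θ, Finsupp.linearCombination_single, one_smul]
        exact z.splitting_identity p q
      have h2 := LinearMap.congr_fun hθ x
      rw [LinearMap.comp_apply, LinearMap.mem_ker.1 hx, map_zero, LinearMap.neg_apply, eq_comm, neg_eq_zero,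
        LinearMap.comp_apply] at h2
      exact (Submodule.Quotient.mk_eq_zero _).1 (z.incl_injective (h2.trans z.incl.map_zero.symm))

end Groth.Agent.S8705
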