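import Groth.Statements.S8710
import Groth.Agent.Lib.H1TorBal
import Mathlib

set_option autoImplicit false
universe u
open CategoryTheory CategoryTheory.Limits
open SGA7

namespace Groth.Agent.S8710

open Groth.Agent.H1TorRes Groth.Agent.H1TorBal
open scoped TensorProduct

/-- Let f : B' → B be a surjective map of R-algebras with B' flat over R, g : C → B a map of R-algebras,
P = B' ×_B C their fibre product (the equalizer of f ∘ pr₁ and g ∘ pr₂ in B' × C), S an R-algebra
and n a natural number. If Tor_i^R(C, S) = 0 for 0 < i < n and Tor_i^R(B, S) = 0 for 0 < i ≤ n, then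
Tor_i^R(P, S) = 0 for 0 < i < n. Here Tor_i^R(M, S) is the i-th left derived functor of M ⊗_R − on
R-modules, evaluated at S. (The published statement asks the vanishing for B only in degrees 0 < i <
n; the published proof and the corollary following it use it in degrees 0 < i ≤ n, which this row
assumes.) -/
theorem result (R B' B C S : Type u) [CommRing R] [CommRing B'] [CommRing B]
    [CommRing C] [CommRing S] [Algebra R B'] [Algebra R B] [Algebra R C] [Algebra R S]
    (f : B' →ₐ[R] B) (hf : Function.Surjective f) (g : C →ₐ[R] B) [Module.Flat R B'] (n : ℕ)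
    (hC : ∀ i : ℕ, 0 < i → i < n →
      IsZero (((Tor (ModuleCat.{u} R) i).obj (ModuleCat.of R C)).obj (ModuleCat.of R S)))
    (hB : ∀ i : ℕ, 0 < i → i ≤ n →
      IsZero (((Tor (ModuleCat.{u} R) i).obj (ModuleCat.of R B)).obj (ModuleCat.of R S))) :
    letI P := AlgHom.equalizer (f.comp (AlgHom.fst R B' C)) (g.comp (AlgHom.snd R B' C))
    ∀ i : ℕ, 0 < i → i < n →
      IsZero (((Tor (ModuleCat.{u} R) i).obj (ModuleCat.of R ↥P)).obj (ModuleCat.of R S)) := by
  intro i hi hin
  let Q : ProjectiveResolution (ModuleCat.of R S) := Classical.choice HasProjectiveResolution.out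
  haveI := flat_resolution Q
  rw [isZero_tor_iff _ _ Q]
  obtain ⟨j, rfl⟩ := Nat.exists_eq_add_of_le' hi
  let P := AlgHom.equalizer (f.comp (AlgHom.fst R B' C)) (g.comp (AlgHom.snd R B' C))
  let d' : (B' × C) →ₗ[R] B := f.toLinearMap.comp (LinearMap.fst R B' C) - g.toLinearMap.comp (LinearMap.snd R B' C)
  have hd : Function.Surjective d' := fun b => by
    obtain ⟨x, hx⟩ := hf b
    exact ⟨(x, 0), by simp [d', hx]⟩
  have hex : Function.Exact P.val.toLinearMap d' := fun x => by
    refine sub_eq_zero.trans ⟨fun hx => ⟨⟨x, hx⟩, rfl⟩, ?_⟩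
    rintro ⟨y, rfl⟩
    exact y.2
  have hBC : Ex (cd Q.complex) (B' × C) (j + 1) :=
    ex_middle (cd Q.complex) (cd_comp Q.complex) (LinearMap.inl R B' C) (LinearMap.snd R B' C) LinearMap.inl_injective
      LinearMap.snd_surjective (Function.Exact.inl_snd) (j + 1) (ex_flat Q B' j)
      ((isZero_tor_iff (ModuleCat.of R C) _ Q _).1 (hC _ hi hin))
  exact ex_left (cd Q.complex) P.val.toLinearMap d' Subtype.val_injective hd hex (j + 1) hBC
    ((isZero_tor_iff (ModuleCat.of R B) _ Q _).1 (hB _ (by omega) (by omega))) (cd_comp Q.complex)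

end Groth.Agent.S8710
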