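import Groth.Statements.S8772
import Groth.Prelude.Def_MeroSh
import Groth.Prelude.Def_CAlgX
import Groth.Prelude.Def_W4stkadequatePure
import Mathlib

set_option autoImplicit false
universe u
open PureExt

namespace Groth.Agent.S8772
open CategoryTheory CategoryTheory.Limits AlgebraicGeometry TopologicalSpace

/-- For every `R`-module `M` the evaluation map `M → (M^∨)^∨` into the double character module is
universally injective; with the pure injectivity of character modules this gives a universally exact
embedding of `M` into a pure injective module. (The published statement asserts only the existence
of such an embedding; this row names the map.) -/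
theorem result (R : Type u) [CommRing R] (M : Type u) [AddCommGroup M]
    [Module R M] : CAlgX.UniversallyInjective R (PureExt.charEval R M) := by
  intro Q _ _
  rw [injective_iff_map_eq_zero]
  intro t ht
  refine CharacterModule.eq_zero_of_character_apply fun χ => ?_
  let χq : Q → CharacterModule M := fun q =>
    (χ : TensorProduct R M Q →+ _).comp ((TensorProduct.mk R M Q).flip q).toAddMonoidHom
  let ψ : TensorProduct R (CharacterModule (CharacterModule M)) Q →+ AddCircle (1 : ℚ) :=
    TensorProduct.liftAddHom
      { toFun := fun α =>
          { toFun := fun q => α (χq q)
            map_zero' := by
              have : χq 0 = 0 := by ext m; exact (congrArg χ (TensorProduct.tmul_zero Q m)).trans (map_zero χ) |>.trans rfl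
              rw [this, map_zero]
            map_add' := fun a b => by
              have : χq (a + b) = χq a + χq b := by
                ext m; exact (congrArg χ (TensorProduct.tmul_add m a b)).trans (map_add χ _ _)
              rw [this, map_add] }
        map_zero' := rfl
        map_add' := fun _ _ => rfl }
      (fun r α q => by
        show α (r • χq q) = α (χq (r • q))
        congr 1
        ext m
        exact congrArg χ (TensorProduct.smul_tmul r m q))
  have key : ∀ t, ψ ((PureExt.charEval R M).rTensor Q t) = χ t := by
    intro t
    induction t using TensorProduct.induction_on with
    | zero => simp
    | tmul m q => rfl
    | add a b ha hb => simp [map_add, ha, hb]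
  rw [← key t, ht, map_zero]

end Groth.Agent.S8772
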