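import Groth.Statements.S8834
import Mathlib


set_option autoImplicit false
universe u
open AdicRing

namespace Groth.Agent.S8834

/-- Let A be a Noetherian ring complete for the adic topology of an ideal I and B a Noetherian ring
complete for the adic topology of an ideal J, with an algebra map A → B sending I into the radical
of J (a continuous homomorphism of adic Noetherian topological rings; the radicals of I and J are
the ideals of topologically nilpotent elements). Assume B/√J is of finite type over A, equivalently
over A/√I. Then B is topologically of finite type over A: there are b_1, …, b_s ∈ B such that the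
A-algebra map A[x_1, …, x_s] → B with x_i ↦ b_i has dense image for the J-adic topology, that is,
for every y ∈ B and every n there is a polynomial whose value at b differs from y by an element of
J^n. -/
theorem result (A : Type u) [CommRing A] [IsNoetherianRing A] (I : Ideal A) [IsAdicComplete I A] (B : Type u) [CommRing B] [Algebra A B] [IsNoetherianRing B] (J : Ideal B) [IsAdicComplete J B] (hIJ : I.map (algebraMap A B) ≤ J.radical) (hft : Algebra.FiniteType A (B ⧸ J.radical)) : ∃ s : ℕ, ∃ b : Fin s → B, ∀ (y : B) (n : ℕ), ∃ p : MvPolynomial (Fin s) A, y - MvPolynomial.aeval b p ∈ J ^ n := by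
  obtain ⟨⟨t, ht⟩⟩ := hft
  obtain ⟨c, hc⟩ := J.exists_radical_pow_le_of_fg (IsNoetherian.noetherian _)
  obtain ⟨tN, htN⟩ := IsNoetherian.noetherian (R := B) J.radical
  classical
  choose l hl using fun z => Ideal.Quotient.mk_surjective (I := J.radical) z
  let S : Finset B := t.image l ∪ tN
  let P := Algebra.adjoin A (S : Set B)
  have hN0 : ∀ y : B, ∃ p ∈ P, y - p ∈ J.radical := fun y => by
    have hy : Ideal.Quotient.mk J.radical y ∈ P.map (Ideal.Quotient.mkₐ A J.radical) := by
      rw [AlgHom.map_adjoin]
      refine Algebra.adjoin_mono ?_ (ht ▸ trivial : Ideal.Quotient.mk J.radical y ∈ Algebra.adjoin A (t : Set _))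
      intro z hz
      exact ⟨l z, Finset.mem_union_left _ (Finset.mem_image_of_mem _ hz), hl z⟩
    obtain ⟨p, hp, hpy⟩ := hy
    exact ⟨p, hp, by rw [← Ideal.Quotient.eq]; exact hpy.symm⟩
  have hNn : ∀ (n : ℕ) (y : B), ∃ p ∈ P, y - p ∈ J.radical ^ n := by
    intro n
    induction n with
    | zero => exact fun y => ⟨0, P.zero_mem, by simp⟩
    | succ n ih =>
      intro y
      obtain ⟨p, hp, hpy⟩ := hN0 y
      rw [← htN] at hpy
      obtain ⟨cf, hcf⟩ := (Submodule.mem_span_range_iff_exists_fun B).1
        (by rwa [show Set.range (fun z : tN => (z : B)) = (tN : Set B) from Subtype.range_coe] :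
          y - p ∈ Submodule.span B (Set.range fun z : tN => (z : B)))
      choose q hq hqc using fun i => ih (cf i)
      refine ⟨p + ∑ i, q i * (i : B), P.add_mem hp (P.sum_mem fun i _ => P.mul_mem (hq i)
        (Algebra.subset_adjoin (Finset.mem_union_right _ i.2))), ?_⟩
      rw [← sub_sub, ← hcf, ← Finset.sum_sub_distrib]
      refine Ideal.sum_mem _ fun i _ => ?_
      rw [smul_eq_mul, ← sub_mul, pow_succ]
      exact Ideal.mul_mem_mul (hqc i) (htN ▸ Ideal.subset_span i.2)
  refine ⟨S.card, fun i => (S.equivFin.symm i : B), fun y n => ?_⟩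
  obtain ⟨p, hp, hpy⟩ := hNn (c * n) y
  have hp' : p ∈ (MvPolynomial.aeval (R := A) fun i => (S.equivFin.symm i : B)).range := by
    rw [← Algebra.adjoin_range_eq_range_aeval]
    refine Algebra.adjoin_mono ?_ hp
    exact fun z hz => ⟨S.equivFin ⟨z, hz⟩, by simp⟩
  obtain ⟨q, hq⟩ := hp'
  refine ⟨q, ?_⟩
  rw [show MvPolynomial.aeval (fun i => (S.equivFin.symm i : B)) q = p from hq]
  rw [pow_mul] at hpy
  exact Ideal.pow_right_mono hc n hpy

end Groth.Agent.S8834
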