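import Groth.Statements.S8849
import Groth.Agent.Lib.H7RelCartier

set_option autoImplicit false
universe u
open CategoryTheory CategoryTheory.Limits AlgebraicGeometry TopologicalSpace
open SDiv

namespace Groth.Agent.S8849

/-- Let f : X ⟶ S be a morphism of schemes and 𝓘 the ideal sheaf of an effective Cartier divisor D ⊆ X
with D flat over S (a relative effective Cartier divisor). If f is flat at every point of X not in
D, then f is flat. -/
theorem result {X S : Scheme.{u}} (f : X ⟶ S) (𝓘 : X.IdealSheafData)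
    (hD : BlowUp.IsEffCartierIdeal 𝓘 ∧ Flat (𝓘.subschemeι ≫ f))
    (hflat : ∀ x : ↥X, x ∉ 𝓘.support → (f.stalkMap x).hom.Flat) : Flat f := by
  obtain ⟨hI, hfl⟩ := hD
  refine Groth.Agent.H7RelCartier.flat_of_exists_appLE fun x => ?_
  obtain ⟨U₀, V, hx, e₀⟩ := Groth.Agent.H7RelCartier.exists_affine_pair f x
  obtain ⟨U, hxU, hle, g, hg, hIg⟩ := Groth.Agent.H7Cartier.exists_principal_le hI x U₀.1 hx
  have e : U.1 ≤ f ⁻¹ᵁ V.1 := hle.trans e₀
  refine ⟨U, V, e, hxU, ?_⟩
  let D : X.affineOpens := ⟨X.basicOpen g, U.2.basicOpen g⟩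
  have hW : Flat (D.1.ι ≫ f) := Groth.Agent.H7RelCartier.flat_ι_comp_of_stalkMap D.1 fun y hy =>
    hflat y (Groth.Agent.H7Cartier.basicOpen_disjoint_support U (hIg ▸ Ideal.mem_span_singleton_self g) hy)
  have hflD := Groth.Agent.H7Cartier.flat_appLE_of_flat_ι_comp f D V ((X.basicOpen_le g).trans e) hW
  have hflQ := Groth.Agent.H7RelCartier.flat_subscheme_appLE hfl U V e
  rw [hIg] at hflQ
  algebraize [(f.appLE V.1 U.1 e).hom]
  let _ : Algebra Γ(S, V.1) Γ(X, X.basicOpen g) := (f.appLE V.1 (X.basicOpen g) ((X.basicOpen_le g).trans e)).hom.toAlgebra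
  have : IsScalarTower Γ(S, V.1) Γ(X, U.1) Γ(X, X.basicOpen g) := IsScalarTower.of_algebraMap_eq' (by
    show _ = (X.presheaf.map (homOfLE (X.basicOpen_le g)).op).hom.comp (f.appLE V.1 U.1 e).hom
    rw [← CommRingCat.hom_comp, Scheme.Hom.appLE_map]
    rfl)
  have := U.2.isLocalization_basicOpen g
  have : Module.Flat Γ(S, V.1) Γ(X, X.basicOpen g) := hflD
  have : Module.Flat Γ(S, V.1) (Γ(X, U.1) ⧸ Ideal.span {g}) :=
    (RingHom.flat_algebraMap_iff (R := Γ(S, V.1))).mp hflQ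
  exact Groth.Agent.H7RelCartier.flat_of_flat_quotient_away hg Γ(X, X.basicOpen g)

end Groth.Agent.S8849
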