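import Groth.Statements.S8851
import Groth.Agent.Lib.H7Cartier

set_option autoImplicit false
universe u
open CategoryTheory CategoryTheory.Limits AlgebraicGeometry TopologicalSpace
open SDiv

namespace Groth.Agent.S8851

private lemma isReduced_of_flat_off {X X' : Scheme.{u}} [IsReduced X] (b : X' ⟶ X) (E : X'.IdealSheafData)
    (hE : BlowUp.IsEffCartierIdeal E) (W : X.Opens) [IsIso (b ∣_ W)]
    (hW : ∀ x, x ∉ E.support → x ∈ b ⁻¹ᵁ W) : IsReduced X' := by
  have hWred : IsReduced (b ⁻¹ᵁ W : Scheme.{u}) := isReduced_of_isOpenImmersion (b ∣_ W ≫ W.ι)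
  have : ∀ x : X', _root_.IsReduced (X'.presheaf.stalk x) := by
    intro x
    obtain ⟨U, hxU, a, ha, hEa⟩ := hE x
    have hsub : X'.basicOpen a ≤ b ⁻¹ᵁ W := fun y hy =>
      hW y (Groth.Agent.H7Cartier.basicOpen_disjoint_support U (hEa ▸ Ideal.mem_span_singleton_self a) hy)
    have : IsReduced (X'.basicOpen a : Scheme.{u}) := isReduced_of_isOpenImmersion (X'.homOfLE hsub)
    have hDred : _root_.IsReduced Γ(X', X'.basicOpen a) :=
      isReduced_of_injective (X'.basicOpen a).topIso.inv.hom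
        (ConcreteCategory.bijective_of_isIso (X'.basicOpen a).topIso.inv).1
    have hUred : _root_.IsReduced Γ(X', U.1) := ⟨fun t ht =>
      Groth.Agent.H7Cartier.eq_zero_of_restrict_eq_zero ha (ht.map _).eq_zero⟩
    let _ : Algebra Γ(X', U.1) (X'.presheaf.stalk x) := TopCat.Presheaf.algebra_section_stalk X'.presheaf ⟨x, hxU⟩
    have := U.2.isLocalization_stalk ⟨x, hxU⟩
    exact isReduced_localizationPreserves (U.2.primeIdealOf ⟨x, hxU⟩).asIdeal.primeCompl
      (X'.presheaf.stalk x) hUred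
  exact isReduced_of_isReduced_stalk X'



/-- Let X be a reduced scheme, 𝓘 a quasi-coherent ideal sheaf on X and b : X' ⟶ X a blowing up of X in
𝓘. Then X' is reduced. -/
theorem result {X X' : Scheme.{u}} [IsReduced X] (𝓘 : X.IdealSheafData) (b : X' ⟶ X)
    (hb : BlowUp.IsBlowUp b 𝓘) : IsReduced X' := by
  have := Groth.Agent.H7Cartier.IsBlowUp.isIso_restrict hb 𝓘.support.compl fun x hx => hx
  exact isReduced_of_flat_off b (𝓘.comap b) hb.1 𝓘.support.compl fun x hx => by
    rw [Scheme.IdealSheafData.support_comap] at hx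
    exact hx

end Groth.Agent.S8851
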