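import Groth.Statements.S8854
import Mathlib

set_option autoImplicit false
set_option backward.isDefEq.respectTransparency.types false
set_option maxHeartbeats 1000000
set_option linter.all false
universe u
open SDiv

namespace Groth.Agent.S8854
open Groth.Agent

/-- Let R be a Noetherian unique factorisation domain and I ⊆ R an ideal such that every associated
prime of R/I is minimal over I (R/I has no embedded primes) and every prime minimal over I has
height 1. Then I is principal: it is generated by one element. -/
theorem result (R : Type u) [CommRing R] [IsDomain R] [IsNoetherianRing R]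
    [UniqueFactorizationMonoid R] (I : Ideal R)
    (h1 : ∀ p : Ideal R, p ∈ associatedPrimes R (R ⧸ I) → p ∈ I.minimalPrimes)
    (h2 : ∀ p : Ideal R, p ∈ I.minimalPrimes → p.height = 1) :
    ∃ f : R, I = Ideal.span {f} := by
    classical
    by_cases hI : I = ⊥
    · exact ⟨0, by rw [hI, Ideal.span_singleton_eq_bot.2 rfl]⟩
    obtain ⟨s, hs⟩ := (IsNoetherian.noetherian I : I.FG)
    letI := Classical.choice (inferInstance : Nonempty (NormalizedGCDMonoid R))
    set f := s.gcd id with hf
    have hf0 : f ≠ 0 := fun h => hI (by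
      rw [← hs, eq_bot_iff]
      exact Ideal.span_le.2 fun x hx => (Submodule.mem_bot R).2 (Finset.gcd_eq_zero_iff.1 h x hx))
    let μ : R →ₗ[R] R := LinearMap.mulLeft R f
    let J : Ideal R := Submodule.comap μ I
    refine ⟨f, le_antisymm ?_ ?_⟩
    · rw [← hs, Ideal.span_le]
      exact fun x hx => Ideal.mem_span_singleton.2 (Finset.gcd_dvd hx)
    rw [Ideal.span_singleton_le_iff_mem]
    by_contra hfI
    let ι : (R ⧸ J) →ₗ[R] (R ⧸ I) := Submodule.mapQ J I μ le_rfl
    have hι : Function.Injective ι := by
      rw [← LinearMap.ker_eq_bot]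
      apply Submodule.ker_liftQ_eq_bot'
      ext x
      simp [J, Submodule.Quotient.mk_eq_zero, Ideal.Quotient.eq_zero_iff_mem]
    haveI : Nontrivial (R ⧸ J) := Ideal.Quotient.nontrivial_iff.2 fun h => hfI (by
      have h1 : (1 : R) ∈ J := h ▸ Submodule.mem_top
      simpa [J, μ] using h1)
    obtain ⟨p, hp⟩ := associatedPrimes.nonempty R (R ⧸ J)
    have hpI := associatedPrimes.subset_of_injective hι hp
    haveI hpp : p.IsPrime := hp.isPrime
    have hJp : J ≤ p := by
      have := IsAssociatedPrime.annihilator_le hp
      rwa [Submodule.annihilator_top, Ideal.annihilator_quotient] at this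
    obtain ⟨q, hq⟩ := (UniqueFactorizationMonoid.isPrincipal_of_height_eq_one (h2 p (h1 p hpI))).principal
    have hdvd : ∀ x ∈ s, f * q ∣ x := by
      intro x hx
      obtain ⟨y, hy⟩ : f ∣ x := Finset.gcd_dvd hx
      have hyJ : y ∈ J := by
        show f * y ∈ I
        rw [← hy, ← hs]; exact Ideal.subset_span hx
      have := hJp hyJ
      rw [hq] at this
      obtain ⟨z, hz⟩ := Ideal.mem_span_singleton.1 this
      exact ⟨z, by rw [hy, hz, mul_assoc]⟩
    have h3 : f * q ∣ f * 1 := by rw [mul_one]; exact Finset.dvd_gcd hdvd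
    have h4 : IsUnit q := isUnit_of_dvd_one ((mul_dvd_mul_iff_left hf0).1 h3)
    exact hpp.ne_top (by rw [hq]; exact Ideal.span_singleton_eq_top.2 h4)

end Groth.Agent.S8854
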