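import Groth.Statements.S8862
import Groth.Agent.Lib.H7Cartier

set_option autoImplicit false
universe u
open CategoryTheory CategoryTheory.Limits AlgebraicGeometry TopologicalSpace
open SDiv

namespace Groth.Agent.S8862

/-- Let f : X ⟶ Y be a morphism of schemes with X reduced and 𝓘 the ideal sheaf of an effective Cartier
divisor D ⊆ Y. If f ξ ∉ D for every generic point ξ of an irreducible component of X (every point of
X with no proper generization), then the inverse image ideal sheaf of 𝓘 on X is the ideal of an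
effective Cartier divisor. -/
theorem result {X Y : Scheme.{u}} [IsReduced X] (f : X ⟶ Y) (𝓘 : Y.IdealSheafData)
    (hD : BlowUp.IsEffCartierIdeal 𝓘)
    (h : ∀ ξ : ↥X, (∀ y : ↥X, y ⤳ ξ → y = ξ) → f ξ ∉ 𝓘.support) :
    BlowUp.IsEffCartierIdeal (𝓘.comap f) := by
  intro x
  obtain ⟨V, hV, g, hg, hDg⟩ := hD (f.base x)
  obtain ⟨U, hxU, e⟩ := Groth.Agent.H7Cartier.exists_affine_mem_le x (f ⁻¹ᵁ V.1) hV
  have hideal : (𝓘.comap f).ideal U = Ideal.span {f.appLE V.1 U.1 e g} := by
    rw [Groth.Agent.H7Cartier.ideal_comap 𝓘 f U V e, hDg, Ideal.map_span, Set.image_singleton]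
  refine ⟨U, hxU, _, ?_, hideal⟩
  rw [mem_nonZeroDivisors_iff_right]
  intro t ht
  have hnil : t ∈ nilradical Γ(X, U.1) := by
    rw [nilradical_eq_sInf, Ideal.mem_sInf]
    intro P hP
    have hPp : P.IsPrime := hP
    obtain ⟨p, hp, hle⟩ := Ideal.exists_minimalPrimes_le (I := (⊥ : Ideal Γ(X, U.1))) (J := P) bot_le
    have hpp : p.IsPrime := hp.1.1
    let q : PrimeSpectrum Γ(X, U.1) := ⟨p, hpp⟩
    have hξU : U.2.fromSpec q ∈ U.1 := by
      have : U.2.fromSpec q ∈ Set.range U.2.fromSpec := ⟨q, rfl⟩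
      rwa [U.2.range_fromSpec] at this
    have hmax : ∀ y : ↥X, y ⤳ U.2.fromSpec q → y = U.2.fromSpec q := by
      intro y hy
      have hyU : y ∈ U.1 := hy.mem_open U.1.2 hξU
      have hy' : y ∈ Set.range U.2.fromSpec := by rw [U.2.range_fromSpec]; exact hyU
      obtain ⟨r, rfl⟩ := hy'
      have hrq : r ⤳ q := (U.2.isOpenImmersion_fromSpec).base_open.isInducing.specializes_iff.mp hy
      have hle' : r.asIdeal ≤ p := (PrimeSpectrum.le_iff_specializes r q).mpr hrq
      have : r = q := PrimeSpectrum.ext (le_antisymm hle' (hp.2 ⟨r.2, bot_le⟩ hle'))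
      rw [this]
    have hgp : (f.appLE V.1 U.1 e g) ∉ p := by
      intro hc
      have h1 : U.2.fromSpec q ∈ U.2.fromSpec '' PrimeSpectrum.zeroLocus ((𝓘.comap f).ideal U) :=
        ⟨q, fun z hz => (Ideal.span_singleton_le_iff_mem (I := p)).mpr hc (hideal ▸ hz), rfl⟩
      rw [U.2.fromSpec_image_zeroLocus, ← Scheme.IdealSheafData.coe_support_inter,
        Scheme.IdealSheafData.support_comap] at h1
      exact h _ hmax h1.1
    exact hle ((hpp.mem_or_mem (ht ▸ p.zero_mem)).resolve_right hgp)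
  exact (mem_nilradical.mp hnil).eq_zero

end Groth.Agent.S8862
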