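import Groth.Statements.S8870
import Groth.Agent.Lib.H7AssPts

set_option autoImplicit false
universe u
open CategoryTheory CategoryTheory.Limits AlgebraicGeometry TopologicalSpace
open SDiv

namespace Groth.Agent.S8870

open Groth.Agent CategoryTheory.Limits AlgebraicGeometry


/-- Let X be a scheme and 0 → F₁ → F₂ → F₃ → 0 a short exact sequence of quasi-coherent O_X-modules.
Then WeakAss(F₂) ⊆ WeakAss(F₁) ∪ WeakAss(F₃) and WeakAss(F₁) ⊆ WeakAss(F₂). -/
theorem result (X : Scheme.{u}) (S : ShortComplex X.Modules) (hS : S.ShortExact)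
    (h₁ : Coh.IsQCoh S.X₁) (h₂ : Coh.IsQCoh S.X₂) (h₃ : Coh.IsQCoh S.X₃) :
    (∀ x : ↥X, Curv2.IsWeakAssPoint S.X₂ x → Curv2.IsWeakAssPoint S.X₁ x ∨ Curv2.IsWeakAssPoint S.X₃ x) ∧
      (∀ x : ↥X, Curv2.IsWeakAssPoint S.X₁ x → Curv2.IsWeakAssPoint S.X₂ x) := by
  have hinj : ∀ x : X, Function.Injective ((DerSch.stalkFunctor X x).map S.f).hom := fun x => by
    haveI := hS.mono_f
    exact H7StalkDetect.stalk_map_injective x S.f
  refine ⟨fun x hx => ?_, fun x hx => ?_⟩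
  · obtain ⟨ξ, hne, h⟩ := (H7AssPts.weak_iff_stalk S.X₂ x).1 hx
    by_cases hg : ((DerSch.stalkFunctor X x).map S.g).hom ξ = 0
    · obtain ⟨η, hη⟩ := (CategoryTheory.ShortComplex.moduleCat_exact_iff _).1 (hS.exact.map (DerSch.stalkFunctor X x)) ξ hg
      refine Or.inl ((H7AssPts.weak_iff_stalk S.X₁ x).2 ⟨η, fun h0 => hne ?_, fun r hr => ?_⟩)
      · exact hη.symm.trans ((congrArg _ h0).trans (map_zero _))
      · obtain ⟨n, hn⟩ := h r hr
        refine ⟨n, hinj x ((map_smul _ _ _).trans ?_)⟩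
        exact ((congrArg _ hη).trans hn).trans (map_zero _).symm
    · refine Or.inr ((H7AssPts.weak_iff_stalk S.X₃ x).2 ⟨_, hg, fun r hr => ?_⟩)
      obtain ⟨n, hn⟩ := h r hr
      exact ⟨n, (map_smul ((DerSch.stalkFunctor X x).map S.g).hom _ _).symm.trans ((congrArg _ hn).trans (map_zero _))⟩
  · obtain ⟨η, hne, h⟩ := (H7AssPts.weak_iff_stalk S.X₁ x).1 hx
    refine (H7AssPts.weak_iff_stalk S.X₂ x).2 ⟨((DerSch.stalkFunctor X x).map S.f).hom η,
      fun h0 => hne (hinj x (h0.trans (map_zero _).symm)), fun r hr => ?_⟩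
    obtain ⟨n, hn⟩ := h r hr
    exact ⟨n, (map_smul ((DerSch.stalkFunctor X x).map S.f).hom _ _).symm.trans ((congrArg _ hn).trans (map_zero _))⟩

end Groth.Agent.S8870
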