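import Groth.Statements.S8886
import Mathlib

set_option autoImplicit false
universe u
open CategoryTheory CategoryTheory.Limits AlgebraicGeometry TopologicalSpace
open SDiv

namespace Groth.Agent.S8886

/-- Let f : X ⟶ Y be a flat morphism of schemes with Y integral. If the scheme-theoretic fibre of f over
the generic point of Y is integral, then X is integral. -/
theorem result {X Y : Scheme.{u}} (f : X ⟶ Y) [Flat f] [IsIntegral Y]
    (h : IsIntegral (f.fiber (genericPoint ↥Y))) : IsIntegral X := by
  set η := genericPoint Y with hη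
  haveI := h
  -- the inclusion of the generic fibre is flat
  haveI hflatres : Flat (Y.fromSpecResidueField η) := by
    obtain ⟨_, ⟨V, hV, rfl⟩, hηV, -⟩ :=
      Y.isBasis_affineOpens.exists_subset_of_mem_open (Set.mem_univ η) isOpen_univ
    have h1 : Flat (Spec.map (Y.presheaf.germ V η hηV)) := by
      rw [HasRingHomProperty.Spec_iff (P := @Flat)]
      letI : Algebra Γ(Y, V) (Y.presheaf.stalk η) := (Y.presheaf.germ V η hηV).hom.toAlgebra
      haveI := hV.isLocalization_stalk ⟨η, hηV⟩
      show Module.Flat Γ(Y, V) (Y.presheaf.stalk η)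
      exact IsLocalization.flat (Y.presheaf.stalk η) (hV.primeIdealOf ⟨η, hηV⟩).asIdeal.primeCompl
    haveI h2 : Flat (Y.fromSpecStalk η) := by
      rw [← hV.fromSpecStalk_eq_fromSpecStalk hηV, IsAffineOpen.fromSpecStalk]
      infer_instance
    haveI h3 : IsIso (Y.residue η) := by
      rw [ConcreteCategory.isIso_iff_bijective]
      refine ⟨?_, IsLocalRing.residue_surjective⟩
      have hF : IsField (Y.presheaf.stalk η) := Field.toIsField Y.functionField
      letI := hF.toField
      exact RingHom.injective (Y.residue η).hom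
    rw [Scheme.fromSpecResidueField]
    infer_instance
  haveI : Flat (f.fiberι η) := by
    rw [Scheme.Hom.fiberι]
    exact MorphismProperty.pullback_fst (P := @Flat) _ _ hflatres
  -- irreducibility
  have hdense : closure (Set.range (f.fiberι η)) = Set.univ := by
    refine Set.eq_univ_of_forall fun x => ?_
    obtain ⟨x', hx', hx''⟩ := Flat.generalizingMap (f := f) (genericPoint_specializes (f x))
    refine hx'.mem_closed isClosed_closure (subset_closure ?_)
    rw [Scheme.Hom.range_fiberι]
    exact hx''
  haveI : IrreducibleSpace X := by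
    have h1 : IsIrreducible (Set.range (f.fiberι η)) := by
      rw [← Set.image_univ]
      exact (IrreducibleSpace.isIrreducible_univ _).image _ (f.fiberι η).continuous.continuousOn
    have h2 := h1.closure
    rw [hdense] at h2
    exact { isPreirreducible_univ := h2.isPreirreducible, toNonempty := ⟨h2.nonempty.choose⟩ }
  -- reducedness over the generic point
  have hred : ∀ x : X, f x = η → _root_.IsReduced (X.presheaf.stalk x) := by
    intro x hx
    obtain ⟨p, rfl⟩ : x ∈ Set.range (f.fiberι η) := by
      rw [Scheme.Hom.range_fiberι]; exact hx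
    have hfl : ((f.fiberι η).stalkMap p).hom.Flat := Flat.stalkMap _ _
    have hinj : Function.Injective ((f.fiberι η).stalkMap p).hom := by
      algebraize [((f.fiberι η).stalkMap p).hom]
      haveI : IsLocalHom (algebraMap (X.presheaf.stalk (f.fiberι η p)) ((f.fiber η).presheaf.stalk p)) :=
        (f.fiberι η).toLRSHom.prop p
      haveI := Module.FaithfullyFlat.of_flat_of_isLocalHom
        (A := X.presheaf.stalk (f.fiberι η p)) (B := (f.fiber η).presheaf.stalk p)
      exact FaithfulSMul.algebraMap_injective (X.presheaf.stalk (f.fiberι η p)) ((f.fiber η).presheaf.stalk p)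
    exact isReduced_of_injective _ hinj
  haveI : IsReduced X := by
    haveI : ∀ x : X, _root_.IsReduced (X.presheaf.stalk x) := by
      intro x
      obtain ⟨_, ⟨V, hV, rfl⟩, hxV, -⟩ :=
        Y.isBasis_affineOpens.exists_subset_of_mem_open (Set.mem_univ (f x)) isOpen_univ
      obtain ⟨_, ⟨U, hU, rfl⟩, hxU, hUV⟩ :=
        X.isBasis_affineOpens.exists_subset_of_mem_open hxV (f ⁻¹ᵁ V).2
      haveI : Nonempty (V : Scheme.{u}) := ⟨⟨f x, hxV⟩⟩
      haveI : IsDomain Γ(Y, V) := inferInstance
      have hfl : (f.appLE V U hUV).hom.Flat := HasRingHomProperty.appLE @Flat f inferInstance ⟨V, hV⟩ ⟨U, hU⟩ hUV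
      algebraize [(f.appLE V U hUV).hom]
      haveI : _root_.IsReduced Γ(X, U) := by
        refine ⟨fun t ht => ?_⟩
        let J : Ideal Γ(X, U) := LinearMap.ker (LinearMap.toSpanSingleton Γ(X, U) Γ(X, U) t)
        have hJ : ∀ c, c ∈ J ↔ c * t = 0 := fun c => by simp [J]
        let S : Submonoid Γ(X, U) := (nonZeroDivisors Γ(Y, V)).map (algebraMap Γ(Y, V) Γ(X, U))
        by_cases hd : Disjoint (J : Set Γ(X, U)) (S : Set Γ(X, U))
        · exfalso
          obtain ⟨q, hq, hJq, hqS⟩ := Ideal.exists_le_prime_disjoint J S hd
          let q' : PrimeSpectrum Γ(X, U) := ⟨q, hq⟩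
          have hxq : hU.fromSpec q' ∈ U := by
            rw [← SetLike.mem_coe, ← hU.range_fromSpec]; exact ⟨q', rfl⟩
          have hfq : f (hU.fromSpec q') = η := by
            rw [← Scheme.Hom.comp_apply, ← IsAffineOpen.SpecMap_appLE_fromSpec f hV hU hUV, Scheme.Hom.comp_apply]
            set p := (Spec.map (f.appLE V U hUV)) q'
            obtain ⟨p0, hp0⟩ : η ∈ Set.range hV.fromSpec := by
              rw [hV.range_fromSpec]
              exact ((genericPoint_specializes (f x)).mem_open V.2 hxV)
            have hp : p.asIdeal = ⊥ := by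
              refine (Submodule.eq_bot_iff _).mpr fun a ha => ?_
              by_contra ha0
              exact Set.disjoint_left.mp hqS ha ⟨a, mem_nonZeroDivisors_of_ne_zero ha0, rfl⟩
            have hle : (show PrimeSpectrum Γ(Y, V) from p) ≤ p0 :=
              (hp.le.trans bot_le : p.asIdeal ≤ p0.asIdeal)
            have hs := ((PrimeSpectrum.le_iff_specializes p p0).mp hle).map hV.fromSpec.continuous
            rw [hp0] at hs
            exact (hs.antisymm (genericPoint_specializes _)).eq
          haveI := hred _ hfq
          letI : Algebra Γ(X, U) (X.presheaf.stalk (hU.fromSpec q')) := (X.presheaf.germ U _ hxq).hom.toAlgebra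
          haveI : IsLocalization q'.asIdeal.primeCompl (X.presheaf.stalk (hU.fromSpec q')) := hU.isLocalization_stalk' q' hxq
          have hz : algebraMap Γ(X, U) (X.presheaf.stalk (hU.fromSpec q')) t = 0 := (ht.map _).eq_zero
          obtain ⟨⟨c, hc⟩, hct⟩ := (IsLocalization.map_eq_zero_iff q'.asIdeal.primeCompl _ t).mp hz
          exact hc (hJq ((hJ c).mpr hct))
        · obtain ⟨c, hcJ, a, ha, rfl⟩ := Set.not_disjoint_iff.mp hd
          have h0 : a • t = 0 := by rw [Algebra.smul_def]; exact (hJ _).mp hcJ
          exact (smul_eq_zero.mp h0).resolve_left (nonZeroDivisors.ne_zero ha)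
      letI : Algebra Γ(X, U) (X.presheaf.stalk x) := (X.presheaf.germ U x hxU).hom.toAlgebra
      haveI := hU.isLocalization_stalk ⟨x, hxU⟩
      exact isReduced_localizationPreserves (R := Γ(X, U)) (hU.primeIdealOf ⟨x, hxU⟩).asIdeal.primeCompl (X.presheaf.stalk x) ‹_›
    exact isReduced_of_isReduced_stalk X
  exact isIntegral_of_irreducibleSpace_of_isReduced X

end Groth.Agent.S8886
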