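import Groth.Statements.S8888
import Groth.Agent.Lib.H7AssMore
import Groth.Agent.Lib.H7PerfHom

set_option autoImplicit false
universe u
open CategoryTheory CategoryTheory.Limits AlgebraicGeometry TopologicalSpace
open SDiv

namespace Groth.Agent.S8888

open Groth.Agent CategoryTheory.Limits AlgebraicGeometry


/-- Let f : X ⟶ Y be a dominant morphism of integral schemes and G a quasi-coherent O_Y-module. Then the
rank of f^*G on X, the dimension of its stalk at the generic point of X over the function field of
X, equals the rank of G on Y. -/
theorem result {X Y : Scheme.{u}} [IsIntegral X] [IsIntegral Y] (f : X ⟶ Y) [IsDominant f]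
    (G : Y.Modules) (hG : Coh.IsQCoh G) :
    Module.rank ↑(X.presheaf.stalk (genericPoint ↥X)) ↑(((Scheme.Modules.pullback f).obj G).presheaf.stalk (genericPoint ↥X)) =
      Module.rank ↑(Y.presheaf.stalk (genericPoint ↥Y)) ↑(G.presheaf.stalk (genericPoint ↥Y)) := by
  exact H7AssPts.rank_pullback f G (genericPoint X) (genericPoint Y)
    ((IsGenericPoint.image (genericPoint_spec X) f.continuous).eq (by
      rw [Set.image_univ, f.denseRange.closure_range]; exact genericPoint_spec Y))
    (Field.toIsField X.functionField) (Field.toIsField Y.functionField)

end Groth.Agent.S8888
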