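import Groth.Statements.S8889
import Groth.Agent.Lib.H7AssPts

set_option autoImplicit false
universe u
open CategoryTheory CategoryTheory.Limits AlgebraicGeometry TopologicalSpace
open SDiv

namespace Groth.Agent.S8889

open Groth.Agent CategoryTheory.Limits AlgebraicGeometry


/-- Let X be a scheme and φ : F ⟶ G a morphism of quasi-coherent O_X-modules. Assume that for every
point x of X either the stalk map F_x → G_x is injective or x is not a weakly associated point of F.
Then φ is injective. -/
theorem result (X : Scheme.{u}) {F G : X.Modules} (φ : F ⟶ G) (hF : Coh.IsQCoh F)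
    (hG : Coh.IsQCoh G)
    (h : ∀ x : ↥X, Function.Injective ((TopCat.Presheaf.stalkFunctor AddCommGrpCat.{u} x).map (Scheme.Modules.Hom.mapPresheaf φ)) ∨ ¬ Curv2.IsWeakAssPoint F x) :
    Mono φ := by
  haveI : F.IsQuasicoherent := hF
  have hi := H7AssPts.injective_stalk φ (fun y hy => (h y).resolve_right (not_not_intro hy))
  refine CategoryTheory.Preadditive.mono_of_cancel_zero φ fun {Z} g hg => ?_
  apply (Scheme.Modules.toPresheaf X).map_injective
  refine CategoryTheory.NatTrans.ext (funext fun U => AddCommGrpCat.hom_ext (AddMonoidHom.ext fun s => ?_))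
  refine TopCat.Presheaf.section_ext (C := Ab.{u}) ((LQcoh.toShf X).obj F) U.unop _ _ fun x hx => hi x ?_
  refine (DerSch.stalkFunctor_map_germ x φ U.unop hx _).trans (Eq.trans ?_ (DerSch.stalkFunctor_map_germ x φ U.unop hx _).symm)
  refine congrArg (G.presheaf.germ U.unop x hx) ?_
  exact (congrArg (fun t : Z ⟶ G => t.app U.unop s) hg).trans (map_zero _).symm

end Groth.Agent.S8889
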