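import Groth.Statements.S8902
import Groth.Prelude.Def_MeroSh
import Groth.Prelude.Def_CAlgX
import Groth.Prelude.Def_W4stkadequatePure
import Mathlib

set_option autoImplicit false
universe u
open CategoryTheory CategoryTheory.Limits AlgebraicGeometry TopologicalSpace
open SDiv

namespace Groth.Agent.S8902
open CategoryTheory CategoryTheory.Limits AlgebraicGeometry TopologicalSpace

/-- Let f : X ⟶ Y be a flat morphism of schemes. Then pullbacks of meromorphic functions are defined for
f: for every open U ⊆ Y and every regular section s of O_Y over U, the pulled-back section of O_X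
over f⁻¹U is regular. -/
theorem result {X Y : Scheme.{u}} (f : X ⟶ Y) [Flat f] (U : Y.Opens) (s : Γ(Y, U))
    (hs : s ∈ Mero.regSub Y U) : f.app U s ∈ Mero.regSub X (f ⁻¹ᵁ U) := by
  intro x
  have h := hs ⟨f x.1, x.2⟩
  show (X.presheaf.germ (f ⁻¹ᵁ U) x.1 x.2) (f.app U s) ∈ _
  erw [← Scheme.Hom.germ_stalkMap_apply f U x.1 x.2 s]
  letI := (f.stalkMap x.1).hom.toAlgebra
  haveI : Module.Flat (Y.presheaf.stalk (f x.1)) (X.presheaf.stalk x.1) := Flat.stalkMap f x.1
  rw [← isRegular_iff_mem_nonZeroDivisors] at h ⊢
  have := IsSMulRegular.of_flat (S := X.presheaf.stalk x.1) h.left.isSMulRegular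
  exact Commute.isRegular_iff (Commute.all _) |>.2 this.isLeftRegular

end Groth.Agent.S8902
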