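import Groth.Statements.S8926
import Mathlib
import Groth.Agent.S6376

set_option autoImplicit false
universe u
open TensorProduct
open InjHull

namespace Groth.Agent.S8926

/-- Suppose R → S is an epimorphism of rings and E is an S-module whose underlying R-module (via
restriction of scalars) is injective; then E is injective as an S-module as well. -/
theorem result (R S : Type u) [CommRing R] [CommRing S] [Algebra R S] [Algebra.IsEpi R S] (E : Type u) [AddCommGroup E] [Module S E] [Module R E] [IsScalarTower R S E] [Module.Injective R E] : Module.Injective S E := by
  refine ⟨fun X Y _ _ _ _ f hf g => ?_⟩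
  letI : Module R X := Module.compHom X (algebraMap R S)
  letI : Module R Y := Module.compHom Y (algebraMap R S)
  haveI : IsScalarTower R S X := IsScalarTower.of_compHom R S X
  haveI : IsScalarTower R S Y := IsScalarTower.of_compHom R S Y
  obtain ⟨h, hh⟩ := Module.Injective.out (f.restrictScalars R) hf (g.restrictScalars R)
  exact ⟨{ toFun := h, map_add' := map_add h, map_smul' := (Groth.Agent.S6376.result R S).mp ‹_› Y E h }, hh⟩

end Groth.Agent.S8926
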