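import Groth.Statements.S8933
import Mathlib
import Groth.Prelude.Def_DRing3
import Groth.Agent.Lib.H2RGammaInv

set_option autoImplicit false
universe u
open CategoryTheory CategoryTheory.Limits
attribute [local instance] HasDerivedCategory.standard
open LocCoh

namespace Groth.Agent.S8933
open CategoryTheory Limits
set_option backward.isDefEq.respectTransparency.types false
set_option maxHeartbeats 800000

/-- For a ring A, a finitely generated ideal I and a complex K of A-modules such that multiplication by
some f ∈ I is bijective on every term of K, the object RΓ_I(K) of D(A) is zero; here RΓ_I is the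
right derived functor of the I-power torsion functor, assumed to exist. -/
theorem result (A : Type u) [CommRing A] (I : Ideal A) (hI : I.FG) [DRing.HasRgammaI I] (K : CochainComplex (ModuleCat.{u} A) ℤ) (f : A) (hf : f ∈ I) (hK : ∀ n : ℤ, Function.Bijective (fun x : K.X n => f • x)) : IsZero ((DRing.RgammaI I).obj (DerivedCategory.Q.obj K)) := by
  exact Groth.Agent.H2RGammaInv.isZero_RgammaI A I hI K f hf hK

end Groth.Agent.S8933
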