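import Groth.Statements.S8936
import Groth.Prelude.Def_Wider
import Groth.Agent.Lib.InjHullBasic
import Mathlib

set_option autoImplicit false
universe u v
open InjHull

namespace Groth.Agent.S8936

/-- For a directed system (E_i) of R-modules over a nonempty directed preorder and a compatible family
of essential injections M → E_i, the induced map from M to the direct limit of the E_i is an
essential injection. -/
theorem result (R : Type u) [CommRing R] (ι : Type v) [Preorder ι] [IsDirectedOrder ι] [DecidableEq ι] (i₀ : ι) (E : ι → Type v) [∀ i, AddCommGroup (E i)] [∀ i, Module R (E i)] (f : ∀ i j, i ≤ j → E i →ₗ[R] E j) [DirectedSystem E fun i j h => f i j h] (M : Type v) [AddCommGroup M] [Module R M] (g : ∀ i, M →ₗ[R] E i) (hg : ∀ i j (h : i ≤ j), f i j h ∘ₗ g i = g j) (he : ∀ i, InjHull.IsEssentialInj (g i)) : InjHull.IsEssentialInj (Module.DirectLimit.of R ι E f i₀ ∘ₗ g i₀) := by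
  haveI : Nonempty ι := ⟨i₀⟩
  have hcomm : ∀ i (x : M), Module.DirectLimit.of R ι E f i (g i x) = Module.DirectLimit.of R ι E f i₀ (g i₀ x) := by
    intro i x
    obtain ⟨j, hij, h0j⟩ := directed_of (· ≤ ·) i i₀
    rw [← Module.DirectLimit.of_f (hij := hij), ← Module.DirectLimit.of_f (hij := h0j)]
    rw [← LinearMap.comp_apply (f i j hij), hg, ← LinearMap.comp_apply (f i₀ j h0j), hg]
  have hinj : Function.Injective (Module.DirectLimit.of R ι E f i₀ ∘ₗ g i₀) := by
    intro a b h
    rw [← sub_eq_zero]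
    have h0 : Module.DirectLimit.of R ι E f i₀ (g i₀ (a - b)) = 0 := by
      rw [map_sub, map_sub]
      exact sub_eq_zero.mpr h
    obtain ⟨j, hj, hj0⟩ := Module.DirectLimit.of.zero_exact h0
    refine (he j).injective ?_
    rw [map_zero, ← hg i₀ j hj]
    exact hj0
  refine ⟨hinj, (Groth.Agent.IH.ess_iff _).mp (fun z hz => ?_)⟩
  obtain ⟨i, y, rfl⟩ := Module.DirectLimit.exists_of z
  obtain ⟨r, ⟨m, hm⟩, hr0⟩ := (Groth.Agent.IH.ess_iff _).mpr (he i).essential y (fun h => hz (by rw [h, map_zero]))
  refine ⟨r, ⟨m, ?_⟩, ?_⟩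
  · rw [← map_smul, ← hm, hcomm]
    rfl
  · rw [← map_smul, ← hm, hcomm]
    intro h0
    have : m = 0 := hinj (by rw [map_zero]; exact h0)
    exact hr0 (by rw [← hm, this, map_zero])

end Groth.Agent.S8936
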