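import Groth.Statements.S8949
import Mathlib
import Groth.Prelude.Def_CAlg
import Groth.Prelude.Def_Found
import Groth.Agent.Lib.GorensteinQuotient
import Groth.Agent.Lib.GorensteinFlat
import Groth.Agent.Lib.GorensteinRings
import Groth.Agent.S0344
import Groth.Agent.S8948
import Groth.Agent.Lib.GorensteinFibres

set_option autoImplicit false
universe u
open Groth.Agent.GorensteinQuotient
open Groth.Agent.GorensteinFlat
open Groth.Agent.GorensteinRings
open TensorProduct
open Groth.Agent.GorensteinFibres
open scoped TensorProduct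
open Goren

namespace Groth.Agent.S8949

/-- Gorenstein fibres are preserved by composing with a regular map. For flat maps A → B → C of
Noetherian rings, if the fibres of A → B are Gorenstein rings and B → C is regular, then the fibres
of A → C are Gorenstein rings. -/
theorem result (A B C : Type u) [CommRing A] [CommRing B] [CommRing C] [IsNoetherianRing A] [IsNoetherianRing B] [IsNoetherianRing C] [Algebra A B] [Algebra B C] [Algebra A C] [IsScalarTower A B C] [Module.Flat A B] [Module.Flat B C] (hAB : ∀ (q : Ideal A) [q.IsPrime], LocCoh.IsGorensteinRing (q.Fiber B)) (hBC : CAlg.IsRegularHom B C) : ∀ (q : Ideal A) [q.IsPrime], LocCoh.IsGorensteinRing (q.Fiber C) := by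
  intro q _
  haveI hR := hAB q
  letI : Algebra B (q.Fiber B) := Algebra.TensorProduct.rightAlgebra
  let R := q.Fiber B
  -- the fibre of `C` as an algebra over the fibre of `B`
  let D := R ⊗[B] C
  haveI : Algebra.EssFiniteType C (C ⊗[A] q.ResidueField) := inferInstance
  haveI : IsNoetherianRing (C ⊗[A] q.ResidueField) := Algebra.EssFiniteType.isNoetherianRing C _
  let eB : R ≃ₐ[B] B ⊗[A] q.ResidueField :=
    (Algebra.TensorProduct.commRight A B q.ResidueField).symm
  let eD : D ≃+* (C ⊗[A] q.ResidueField) :=
    ((Algebra.TensorProduct.comm B R C).toRingEquiv.trans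
      (Algebra.TensorProduct.congr (AlgEquiv.refl : C ≃ₐ[B] C) eB).toRingEquiv).trans
        (Algebra.TensorProduct.cancelBaseChange A B B C q.ResidueField).toRingEquiv
  haveI : IsNoetherianRing D := isNoetherianRing_of_ringEquiv (C ⊗[A] q.ResidueField) eD.symm
  refine gorRing_of_ringEquiv (R' := D) ?_ ?_
  · exact (Algebra.TensorProduct.comm A q.ResidueField C).toRingEquiv.trans eD.symm
  refine gorRing_of_local fun r hr => ?_
  obtain ⟨P, hP, hPr⟩ := exists_fiber_prime (B := R) (D := D) ⟨r, hr⟩
  let p0 := r.comap (algebraMap R D)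
  refine gor_atPrime_congr hPr ((gor_atPrime_iff_fiber p0 P).mpr ⟨hR.isGorensteinLocalRing_localization p0, ?_⟩)
  let b := p0.comap (algebraMap B R)
  haveI : p0.LiesOver b := ⟨rfl⟩
  let φ : B →+* p0.ResidueField := (algebraMap R p0.ResidueField).comp (algebraMap B R)
  let ψ : b.ResidueField →+* p0.ResidueField := Ideal.ResidueField.map b p0 (algebraMap B R) rfl
  have hψ : ∀ x, ψ (algebraMap B b.ResidueField x) = φ x := fun x => by
    simp [ψ, φ, IsScalarTower.algebraMap_apply R R p0.ResidueField]
  letI : Algebra b.ResidueField p0.ResidueField := ψ.toAlgebra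
  haveI : IsScalarTower B b.ResidueField p0.ResidueField := IsScalarTower.of_algebraMap_eq fun x => by
    rw [RingHom.algebraMap_toAlgebra, hψ]
    exact (IsScalarTower.algebraMap_apply B R p0.ResidueField x)
  have hR0 : ∀ z : R, algebraMap R p0.ResidueField z ∈ ψ.fieldRange := by
    intro z
    obtain ⟨a, haq, s, e⟩ := Ideal.Fiber.exists_smul_eq_one_tmul q z
    have hu : IsUnit (algebraMap A R a) := by
      have : IsUnit (algebraMap A q.ResidueField a) :=
        isUnit_iff_ne_zero.mpr fun h0 => haq (Ideal.algebraMap_residueField_eq_zero.mp h0)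
      exact this.map (algebraMap q.ResidueField R)
    have h1 : algebraMap R p0.ResidueField (algebraMap A R a) = φ (algebraMap A B a) := by
      simp only [φ, RingHom.coe_comp, Function.comp_apply]
      congr 1
      change algebraMap A q.ResidueField a ⊗ₜ[A] (1 : B) = (1 : q.ResidueField) ⊗ₜ[A] algebraMap A B a
      rw [Algebra.algebraMap_eq_smul_one, Algebra.algebraMap_eq_smul_one, TensorProduct.smul_tmul]
    have hne : φ (algebraMap A B a) ≠ 0 := h1 ▸ (hu.map _).ne_zero
    have h2 : φ (algebraMap A B a) * algebraMap R p0.ResidueField z = φ s := by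
      rw [← h1, ← map_mul, ← Algebra.smul_def, e]
      rfl
    have : algebraMap R p0.ResidueField z = φ s / φ (algebraMap A B a) := by
      rw [eq_div_iff hne, mul_comm, h2]
    rw [this]
    exact div_mem ⟨_, hψ s⟩ ⟨_, hψ _⟩
  have hsurj : Function.Surjective ψ := by
    intro x
    obtain ⟨a, c, -, rfl⟩ := IsFractionRing.div_surjective (A := R ⧸ p0) x
    obtain ⟨u, rfl⟩ := Ideal.Quotient.mk_surjective a
    obtain ⟨v, rfl⟩ := Ideal.Quotient.mk_surjective c
    rw [Ideal.algebraMap_quotient_residueField_mk, Ideal.algebraMap_quotient_residueField_mk]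
    exact RingHom.mem_fieldRange.mp (div_mem (hR0 u) (hR0 v))
  haveI : Module.Finite b.ResidueField p0.ResidueField :=
    Module.Finite.of_surjective (Algebra.linearMap b.ResidueField p0.ResidueField) hsurj
  haveI : IsRegularRing (p0.ResidueField ⊗[b.ResidueField] (b.Fiber C)) :=
    (hBC.2 b).2 p0.ResidueField inferInstance
  haveI := gorRing_of_regular (p0.ResidueField ⊗[b.ResidueField] (b.Fiber C))
  exact (gorRing_fiber_baseChange (B := B) (C := C) p0 b.ResidueField inferInstance).isGorensteinLocalRing_localization P

end Groth.Agent.S8949
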