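import Groth.Statements.S8979
import Groth.Agent.Lib.H6.HTopV

set_option autoImplicit false
set_option linter.all false
universe u
open HTop

namespace Groth.Agent.S8979

open CategoryTheory CategoryTheory.Limits AlgebraicGeometry in
/-- A surjective proper morphism of finite presentation, as a one-member family, is an h covering of its
target. -/
theorem result {X Y : Scheme.{u}} (f : Y ⟶ X) [IsProper f] [Surjective f] [LocallyOfFinitePresentation f] : HTop.IsHCover (PreZeroHypercover.singleton.{0} f) := by
  refine ⟨fun _ => ‹LocallyOfFinitePresentation f›, Groth.Agent.H6.HTopV.vCover_of_qc f ?_⟩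
  let ι : ∀ j : (PreZeroHypercover.singleton.{0} f).I₀, (PreZeroHypercover.singleton.{0} f).X j ⟶ Y := fun _ => 𝟙 Y
  haveI : ∀ j, IsOpenImmersion (ι j) := fun _ => inferInstanceAs (IsOpenImmersion (𝟙 Y))
  exact Groth.Agent.H6.HTopV.valLift_proper (PreZeroHypercover.singleton.{0} f) f ι
    (fun _ => Category.id_comp f) (fun x => ⟨⟨⟩, x, rfl⟩)

end Groth.Agent.S8979
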