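import Groth.Statements.S8980
import Groth.Agent.Lib.H6.HTopV2

set_option autoImplicit false
set_option linter.all false
universe u
open HTop

namespace Groth.Agent.S8980

open CategoryTheory CategoryTheory.Limits AlgebraicGeometry in
/-- A family of morphisms T_i → T, indexed by a type in the universe of T and all locally of finite
presentation, is an h covering if and only if the one-member family given by the induced morphism
from the coproduct of the T_i to T is an h covering. (The published statement also lists, as a
further equivalent condition, that some h covering refines the family; that equivalence is immediate
from the definitions and is not restated here.) -/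
theorem result {T : Scheme.{u}} (E : PreZeroHypercover.{u} T) (hE : ∀ i, LocallyOfFinitePresentation (E.f i)) : HTop.IsHCover E ↔ HTop.IsHCover (PreZeroHypercover.singleton.{0} (Sigma.desc E.f)) := by
  constructor
  · intro h
    exact ⟨fun _ => IsZariskiLocalAtSource.sigmaDesc (P := @LocallyOfFinitePresentation) hE,
      (Groth.Agent.H6.HTopV.vCover_sigma_iff E).1 h.2⟩
  · intro h
    exact ⟨hE, (Groth.Agent.H6.HTopV.vCover_sigma_iff E).2 h.2⟩

end Groth.Agent.S8980
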