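import Groth.Statements.S8992
import Groth.Agent.Lib.H6.AWNSn2

set_option autoImplicit false
set_option linter.all false
universe u
open HTop

namespace Groth.Agent.S8992

/-- An algebra over the prime field with p elements is absolutely weakly normal if and only if its p-th
power map is bijective (the algebra is perfect). -/
theorem result (p : ℕ) [Fact p.Prime] (A : Type u) [CommRing A] [Algebra (ZMod p) A] : HTop.IsAWNRing A ↔ PerfectRing A p := by
  have hp : p.Prime := Fact.out
  have hpA : (p : A) = 0 := by
    rw [← map_natCast (algebraMap (ZMod p) A), ZMod.natCast_self, map_zero]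
  constructor
  · intro h
    refine ⟨Function.bijective_iff_existsUnique _ |>.2 fun x => ?_⟩
    obtain ⟨a, ⟨ha, -⟩, hu⟩ := h.2 p hp x 0 (by rw [hpA, zero_pow hp.ne_zero, zero_mul])
    exact ⟨a, ha.symm, fun b hb => hu b ⟨hb.symm, by rw [hpA, zero_mul]⟩⟩
  · intro h
    rcases subsingleton_or_nontrivial A with hs | hn
    · exact ⟨fun x y _ => ⟨0, ⟨Subsingleton.elim _ _, Subsingleton.elim _ _⟩, fun b _ => Subsingleton.elim _ _⟩,
        fun q hq x y _ => ⟨0, ⟨Subsingleton.elim _ _, Subsingleton.elim _ _⟩, fun b _ => Subsingleton.elim _ _⟩⟩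
    · haveI : CharP A p := (CharP.charP_iff_prime_eq_zero hp).2 hpA
      exact Groth.Agent.H6.AWNSch.awn_of_perfect p h.bijective_frobenius

end Groth.Agent.S8992
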