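import Groth.Statements.S8993
import Groth.Agent.Lib.H6.AWN2
import Mathlib.FieldTheory.PerfectClosure

set_option autoImplicit false
set_option linter.all false
universe u
open HTop

namespace Groth.Agent.S8993

/-- For a ring A of prime characteristic p, the map from A to the direct limit of A along Frobenius (the
perfect closure) is an absolute weak normalization of A. (The published statement also identifies,
over a base of characteristic p, the h sheafification of the structure sheaf on quasi-compact
quasi-separated objects with this colimit; that part is not stated here.) -/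
theorem result (p : ℕ) [Fact p.Prime] (A : Type u) [CommRing A] [CharP A p] : HTop.IsRingAWN (PerfectClosure.of A p) := by
  open Groth.Agent.H6.AWN in
  have hp : p.Prime := Fact.out
  haveI : ExpChar A p := expChar_prime A p
  refine Groth.Agent.H6.AWN.isRingAWN_of ?_ ?_
  · refine ⟨fun z => ?_, fun P => ?_, fun K _ u v huv => RingHom.ext fun z => ?_⟩
    · induction z using PerfectClosure.induction_on with
      | h z =>
        obtain ⟨n, a⟩ := z
        refine ⟨Polynomial.X ^ (p ^ n) - Polynomial.C a,
          Polynomial.monic_X_pow_sub_C a (pow_ne_zero n hp.ne_zero), ?_⟩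
        have := PerfectClosure.iterate_frobenius_mk A p n a
        rw [Polynomial.eval₂_sub, Polynomial.eval₂_pow, Polynomial.eval₂_X, Polynomial.eval₂_C, sub_eq_zero,
          ← this, ← coe_iterateFrobenius, iterateFrobenius_def]
    · let L := AlgebraicClosure P.asIdeal.ResidueField
      let φ : A →+* L := (algebraMap P.asIdeal.ResidueField L).comp (algebraMap A _)
      haveI : CharP L p := (CharP.charP_iff_prime_eq_zero hp).2 (by
        rw [← map_natCast φ, CharP.cast_eq_zero A p, map_zero])
      haveI : ExpChar L p := expChar_prime L p
      haveI : PerfectRing L p := PerfectField.toPerfectRing p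
      refine ⟨⟨RingHom.ker (PerfectClosure.lift A p L φ), RingHom.ker_isPrime _⟩, PrimeSpectrum.ext ?_⟩
      change (RingHom.ker _).comap (PerfectClosure.of A p) = P.asIdeal
      rw [RingHom.comap_ker]
      have e : (PerfectClosure.lift A p L φ).comp (PerfectClosure.of A p) = φ :=
        (PerfectClosure.lift A p L).symm_apply_apply φ
      rw [e]
      ext a
      rw [RingHom.mem_ker]
      exact ((map_eq_zero_iff _ (algebraMap P.asIdeal.ResidueField L).injective).trans
        Ideal.algebraMap_residueField_eq_zero)
    · induction z using PerfectClosure.induction_on with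
      | h z =>
        obtain ⟨n, a⟩ := z
        haveI : CharP K p := (CharP.charP_iff_prime_eq_zero hp).2 (by
          rw [← map_natCast (u.comp (PerfectClosure.of A p)), CharP.cast_eq_zero A p, map_zero])
        haveI : ExpChar K p := expChar_prime K p
        apply (frobenius_inj K p).iterate n
        rw [← u.map_iterate_frobenius, ← v.map_iterate_frobenius, PerfectClosure.iterate_frobenius_mk]
        exact RingHom.congr_fun huv a
  · set R := PerfectClosure A p
    haveI : ExpChar R p := expChar_prime R p
    have hroot : ∀ x : R, ∃ a : R, a ^ p = x := fun x =>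
      ⟨(frobeniusEquiv R p).symm x, frobenius_apply_frobeniusEquiv_symm R p x⟩
    have hinj : ∀ {a b : R}, a ^ p = b ^ p → a = b := fun {a b} h => frobenius_inj R p h
    refine Groth.Agent.H6.AWN.awn_of (fun x y h => ?_) fun q hq x y h => ?_
    · rcases hp.eq_two_or_odd with hp2 | hodd
      · obtain ⟨a, ha⟩ := hroot x
        subst hp2
        refine ⟨a, ha.symm, hinj ?_⟩
        rw [← h, ← ha]; ring
      · obtain ⟨k, hk⟩ : ∃ k, p = 2 * k + 3 := ⟨(p - 3) / 2, by have := hp.two_le; omega⟩
        obtain ⟨a, ha⟩ := hroot (x ^ k * y)
        refine ⟨a, hinj ?_, hinj ?_⟩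
        · have : (a ^ 2) ^ p = (a ^ p) ^ 2 := by ring
          rw [this, ha, mul_pow, ← h, show x ^ p = x ^ (2 * k + 3) from congrArg (x ^ ·) hk]; ring
        · have : (a ^ 3) ^ p = (a ^ p) ^ 3 := by ring
          rw [this, ha, show y ^ p = y ^ (2 * k + 3) from congrArg (y ^ ·) hk]
          calc y ^ (2 * k + 3) = (y ^ 2) ^ k * y ^ 3 := by ring
            _ = (x ^ k * y) ^ 3 := by rw [← h]; ring
    · by_cases hqp : q = p
      · subst hqp
        obtain ⟨a, ha⟩ := hroot x
        rw [CharP.cast_eq_zero R q, zero_pow hp.ne_zero, zero_mul] at h
        exact ⟨a, ha.symm, by rw [CharP.cast_eq_zero R q, zero_mul, IsReduced.pow_eq_zero h.symm]⟩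
      · have hu : IsUnit (q : R) := by
          have := (ZMod.unitOfCoprime q ((Nat.coprime_primes hq hp).2 hqp)).isUnit.map
            (ZMod.castHom (dvd_refl p) R)
          simpa using this
        obtain ⟨w, hw⟩ := hu.exists_right_inv
        refine ⟨y * w, ?_, ?_⟩
        · rw [mul_pow, ← h, mul_comm ((q : R) ^ q) x, mul_assoc, ← mul_pow, hw, one_pow, mul_one]
        · linear_combination (-y) * hw

end Groth.Agent.S8993
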