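import Groth.Statements.S9127
import Mathlib
import Groth.Prelude.Def_Found
import Groth.Agent.Lib.Catenary

set_option autoImplicit false
universe u
open Groth.Agent.Catenary
open CAlg

namespace Groth.Agent.S9127

/-- A Noetherian ring is catenary if and only if its quotient by every minimal prime is catenary. -/
theorem result (R : Type u) [CommRing R] [IsNoetherianRing R] :
    CAlg.IsCatenary R ↔ ∀ p ∈ minimalPrimes R, CAlg.IsCatenary (R ⧸ p) := by
  constructor
  · intro h P _
    refine catenary_of_embedding (comapQuot P) (fun a b y h1 _ => ?_) h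
    rw [mem_range_comapQuot]
    exact ((mem_range_comapQuot P _).mp ⟨a, rfl⟩).trans h1
  · intro h
    refine catenary_of_cover fun p q _ => ?_
    obtain ⟨P, hP, hle⟩ := Ideal.exists_minimalPrimes_le (I := ⊥) (J := p.asIdeal) bot_le
    exact ⟨R ⧸ P, inferInstance, comapQuot P, h P hP, fun y hy _ => (mem_range_comapQuot P y).mpr (hle.trans hy)⟩

end Groth.Agent.S9127
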