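import Groth.Statements.S9137
import Mathlib
import Groth.Agent.Lib.H6.FiniteNilp

set_option autoImplicit false
set_option backward.isDefEq.respectTransparency.types false
set_option maxHeartbeats 1000000
set_option linter.all false
universe u
open CAlg

namespace Groth.Agent.S9137
open Groth.Agent

/-- Let R → S be a local ring homomorphism between local rings, essentially of finite type, such that
the residue field of S is finite over that of R and S/m_R S has dimension zero. Then S is, as an
R-algebra, the localization of a finite R-algebra at a prime. -/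
theorem result (R S : Type u) [CommRing R] [CommRing S]
    [IsLocalRing R] [IsLocalRing S] [Algebra R S] [IsLocalHom (algebraMap R S)]
    [Algebra.EssFiniteType R S]
    (hres : Module.Finite (IsLocalRing.ResidueField R) (IsLocalRing.ResidueField S))
    (hdim : ringKrullDim (S ⧸ (IsLocalRing.maximalIdeal R).map (algebraMap R S)) = 0) :
    ∃ (S' : Type u) (_ : CommRing S') (_ : Algebra R S') (_ : Algebra S' S) (_ : IsScalarTower R S' S)
      (q : Ideal S') (_ : q.IsPrime), Module.Finite R S' ∧ IsLocalization.AtPrime S q := by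
    classical
    let T := Algebra.EssFiniteType.subalgebra R S
    let qT : Ideal T := (IsLocalRing.maximalIdeal S).comap (algebraMap T S)
    haveI : qT.IsPrime := Ideal.IsPrime.comap _
    have hM : Algebra.EssFiniteType.submonoid R S = qT.primeCompl := by
      ext t
      show IsUnit (algebraMap T S t) ↔ t ∈ qT.primeCompl
      exact (not_not (a := IsUnit (algebraMap T S t))).symm
    haveI : IsLocalization.AtPrime S qT := by
      have := Algebra.EssFiniteType.isLocalization (R := R) (S := S)
      rw [hM] at this
      exact this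
    let mR := IsLocalRing.maximalIdeal R
    have hle : mR.map (algebraMap R S) ≤ IsLocalRing.maximalIdeal S :=
      ((IsLocalRing.local_hom_TFAE (algebraMap R S)).out 0 2).1 (show IsLocalHom (algebraMap R S) from inferInstance)
    haveI : Nontrivial (S ⧸ mR.map (algebraMap R S)) :=
      Ideal.Quotient.nontrivial_iff.2 (ne_top_of_le_ne_top (IsLocalRing.maximalIdeal.isMaximal S).ne_top hle)
    haveI : IsLocalRing (S ⧸ mR.map (algebraMap R S)) :=
      IsLocalRing.of_surjective' (Ideal.Quotient.mk _) Ideal.Quotient.mk_surjective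
    have hnoeth : IsNoetherianRing (S ⧸ mR.map (algebraMap R S)) := by
      letI : Field (R ⧸ mR) := Ideal.Quotient.field mR
      haveI : Algebra.EssFiniteType R (S ⧸ mR.map (algebraMap R S)) :=
        Algebra.EssFiniteType.of_surjective (Ideal.Quotient.mkₐ R _) Ideal.Quotient.mk_surjective
      haveI : Algebra.EssFiniteType (R ⧸ mR) (S ⧸ mR.map (algebraMap R S)) :=
        Algebra.EssFiniteType.of_comp R (R ⧸ mR) _
      exact Algebra.EssFiniteType.isNoetherianRing (R ⧸ mR) _
    have hart : IsArtinianRing (S ⧸ mR.map (algebraMap R S)) := by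
      rw [isArtinianRing_iff_krullDimLE_zero, Ring.krullDimLE_iff]
      simp [hdim, mR]
    let n := IsLocalRing.maximalIdeal (S ⧸ mR.map (algebraMap R S))
    have hn : IsNilpotent n := (isArtinianRing_iff_isNilpotent_maximalIdeal _).1 hart
    haveI : Module.Finite R (IsLocalRing.ResidueField R) :=
      Module.Finite.of_surjective (Algebra.linearMap R (IsLocalRing.ResidueField R)) IsLocalRing.residue_surjective
    haveI := hres
    haveI : Module.Finite R (IsLocalRing.ResidueField S) := Module.Finite.trans (IsLocalRing.ResidueField R) _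
    haveI : Module.Finite R ((S ⧸ mR.map (algebraMap R S)) ⧸ n) := by
      let φ : S →ₐ[R] ((S ⧸ mR.map (algebraMap R S)) ⧸ n) :=
        (Ideal.Quotient.mkₐ R n).comp (Ideal.Quotient.mkₐ R _)
      have hφ : Function.Surjective φ :=
        (Ideal.Quotient.mk_surjective (I := n)).comp Ideal.Quotient.mk_surjective
      have hker : IsLocalRing.maximalIdeal S ≤ RingHom.ker φ := by
        haveI : IsLocalHom (Ideal.Quotient.mk (mR.map (algebraMap R S))) :=
          IsLocalHom.of_surjective _ Ideal.Quotient.mk_surjective
        intro x hx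
        show Ideal.Quotient.mk n (Ideal.Quotient.mk _ x) = 0
        rw [Ideal.Quotient.eq_zero_iff_mem]
        exact fun hu => hx (IsUnit.of_map (Ideal.Quotient.mk _) x hu)
      haveI : Module.Finite R (S ⧸ IsLocalRing.maximalIdeal S) :=
        inferInstanceAs (Module.Finite R (IsLocalRing.ResidueField S))
      exact Module.Finite.of_surjective
        (Ideal.Quotient.liftₐ (IsLocalRing.maximalIdeal S) φ hker).toLinearMap
        (fun y => by obtain ⟨x, rfl⟩ := hφ y; exact ⟨Ideal.Quotient.mk _ x, rfl⟩)
    haveI : Module.Finite R (S ⧸ mR.map (algebraMap R S)) :=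
      H6FN.finite_of_nilpotent n (IsNoetherian.noetherian n) hn
    have hunder : qT.under R = mR := by
      ext x
      show algebraMap T S (algebraMap R T x) ∈ IsLocalRing.maximalIdeal S ↔ x ∈ mR
      rw [← IsScalarTower.algebraMap_apply]
      show ¬ IsUnit (algebraMap R S x) ↔ ¬ IsUnit x
      exact not_congr ⟨IsUnit.of_map (algebraMap R S) x, fun h => h.map _⟩
    haveI : Algebra.WeaklyQuasiFiniteAt R qT := by
      rw [Algebra.weaklyQuasiFiniteAt_iff, hunder]
      let e : Localization.AtPrime qT ≃ₐ[R] S :=
        (IsLocalization.algEquiv qT.primeCompl (Localization.AtPrime qT) S).restrictScalars R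
      have he : mR.map (algebraMap R S) =
          (mR.map (algebraMap R (Localization.AtPrime qT))).map (e : Localization.AtPrime qT →+* S) := by
        rw [Ideal.map_map]
        congr 1
        exact RingHom.ext fun x => (e.commutes x).symm
      exact (Algebra.QuasiFinite.iff_of_algEquiv (Ideal.quotientEquivAlg _ _ e he)).2 inferInstance
    obtain ⟨S', hfg, r, hr, hbij⟩ := Algebra.QuasiFiniteAt.exists_fg_and_exists_notMem_and_awayMap_bijective (R := R) qT
    have hsurj : ∀ a : T, ∃ (b : S') (m : ℕ), (b : T) = (r : T) ^ m * a := fun a =>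
      (Localization.awayMap_surjective_iff.1 hbij.2) a
    let _alg : Algebra S' S := ((algebraMap T S).comp S'.val.toRingHom).toAlgebra
    let q : Ideal S' := qT.comap S'.val.toRingHom
    refine ⟨S', inferInstance, inferInstance, _alg, IsScalarTower.of_algebraMap_eq fun x => ?_,
      q, Ideal.IsPrime.comap _, ⟨(Submodule.fg_top _).2 hfg⟩, ?_⟩
    · exact IsScalarTower.algebraMap_apply R T S x
    haveI : q.IsPrime := Ideal.IsPrime.comap _
    refine { map_units := ?_, surj := ?_, exists_of_eq := ?_ }
    · rintro ⟨y, hy⟩
      exact IsLocalization.map_units S (⟨(y : T), hy⟩ : qT.primeCompl)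
    · intro z
      obtain ⟨⟨t, ⟨w, hw⟩⟩, hz⟩ := IsLocalization.surj qT.primeCompl z
      obtain ⟨t', a, ht⟩ := hsurj t
      obtain ⟨w', b, hw'⟩ := hsurj w
      refine ⟨⟨t' * r ^ b, ⟨w' * r ^ a, ?_⟩⟩, ?_⟩
      · show ((w' * r ^ a : S') : T) ∉ qT
        simp only [Subalgebra.coe_mul, Subalgebra.coe_pow, hw']
        exact fun h => ((Ideal.IsPrime.mem_or_mem ‹_› h).elim
          (fun h1 => (Ideal.IsPrime.mem_or_mem ‹_› h1).elim (fun h2 => hr (Ideal.IsPrime.mem_of_pow_mem ‹_› b h2)) hw)
          (fun h2 => hr (Ideal.IsPrime.mem_of_pow_mem ‹_› a h2)))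
      · show z * algebraMap T S ((w' * r ^ a : S') : T) = algebraMap T S ((t' * r ^ b : S') : T)
        simp only [Subalgebra.coe_mul, Subalgebra.coe_pow, hw', ht, map_mul, map_pow] at hz ⊢
        rw [← hz]
        ring
    · intro x y hxy
      obtain ⟨⟨w, hw⟩, hxy'⟩ := IsLocalization.exists_of_eq (M := qT.primeCompl) (show algebraMap T S (x : T) = algebraMap T S (y : T) from hxy)
      obtain ⟨w', b, hw'⟩ := hsurj w
      refine ⟨⟨w', ?_⟩, Subtype.ext ?_⟩
      · show (w' : T) ∉ qT
        rw [hw']
        exact fun h => (Ideal.IsPrime.mem_or_mem ‹_› h).elim (fun h2 => hr (Ideal.IsPrime.mem_of_pow_mem ‹_› b h2)) hw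
      · simp only [Subalgebra.coe_mul, hw']
        rw [mul_assoc, mul_assoc, hxy']

end Groth.Agent.S9137
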