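import Groth.Statements.S9139
import Mathlib

set_option autoImplicit false
universe u
open CAlg

namespace Groth.Agent.S9139

/-- Let I be a locally nilpotent ideal of a ring R (every element of I is nilpotent) and S → S' a map of
R-algebras with S' of finite type over R. If S → S'/IS' is surjective then so is S → S'. -/
theorem result (R S S' : Type u) [CommRing R] [CommRing S]
    [CommRing S'] [Algebra R S] [Algebra R S'] [Algebra.FiniteType R S'] (I : Ideal R)
    (hI : ∀ x ∈ I, IsNilpotent x) (f : S →ₐ[R] S')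
    (hf : Function.Surjective ((Ideal.Quotient.mk (I.map (algebraMap R S'))).comp f.toRingHom)) :
    Function.Surjective f := by
  classical
  obtain ⟨t, ht⟩ := ‹Algebra.FiniteType R S'›.out
  have hmod : ∀ y : S', ∃ (T : Finset R) (s : S), (T : Set R) ⊆ I ∧
      y - f s ∈ (Ideal.span (T : Set R)).map (algebraMap R S') := by
    intro y
    obtain ⟨s, hs⟩ := hf (Ideal.Quotient.mk _ y)
    have hy : y - f s ∈ I.map (algebraMap R S') := Ideal.Quotient.eq.mp hs.symm
    have hy' : y - f s ∈ Submodule.span S' (algebraMap R S' '' (I : Set R)) := hy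
    obtain ⟨T, hT, hyT⟩ := Submodule.mem_span_finite_of_mem_span hy'
    obtain ⟨U, hU, rfl⟩ := Finset.subset_set_image_iff.mp hT
    exact ⟨U, s, hU, by rw [Ideal.map_span, ← Finset.coe_image]; exact hyT⟩
  choose T σ hTI hσ using hmod
  let U : Finset R := t.biUnion T
  let J : Ideal R := Ideal.span (U : Set R)
  have hJ : IsNilpotent J := by
    refine (Ideal.FG.isNilpotent_iff_le_nilradical ⟨U, rfl⟩).mpr (Ideal.span_le.mpr fun x hx => ?_)
    obtain ⟨y, -, hy⟩ := Finset.mem_biUnion.mp hx
    exact hI x (hTI y hy)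
  let A : Submodule R S' := Subalgebra.toSubmodule f.range
  have hgen : ∀ y : S', y ∈ A ⊔ J • (⊤ : Submodule R S') := by
    intro y
    have hy : y ∈ Algebra.adjoin R (t : Set S') := ht ▸ Algebra.mem_top
    rw [Ideal.smul_top_eq_map]
    induction hy using Algebra.adjoin_induction with
    | mem z hz =>
      rw [← add_sub_cancel (f (σ z)) z]
      refine Submodule.add_mem_sup ⟨σ z, rfl⟩ ?_
      exact Ideal.map_mono (Ideal.span_mono (Finset.coe_subset.mpr (Finset.subset_biUnion_of_mem T hz))) (hσ z)
    | algebraMap r => exact Submodule.mem_sup_left (Subalgebra.algebraMap_mem _ r)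
    | add a b _ _ ha hb => exact add_mem ha hb
    | mul a b _ _ ha hb =>
      obtain ⟨a1, ha1, a2, ha2, rfl⟩ := Submodule.mem_sup.mp ha
      obtain ⟨b1, hb1, b2, hb2, rfl⟩ := Submodule.mem_sup.mp hb
      rw [show (a1 + a2) * (b1 + b2) = a1 * b1 + (a2 * b1 + (a1 + a2) * b2) by ring]
      exact Submodule.add_mem_sup (f.range.mul_mem (show a1 ∈ f.range from ha1) hb1)
        ((J.map (algebraMap R S')).add_mem (Ideal.mul_mem_right _ _ ha2) (Ideal.mul_mem_left _ _ hb2))
  have key : ∀ m : ℕ, (⊤ : Submodule R S') ≤ A ⊔ J ^ m • (⊤ : Submodule R S') := by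
    intro m
    induction m with
    | zero => rw [pow_zero, Ideal.one_eq_top, Submodule.top_smul]; exact le_sup_right
    | succ m ih =>
      refine ih.trans (sup_le le_sup_left ?_)
      calc J ^ m • (⊤ : Submodule R S') ≤ J ^ m • (A ⊔ J • (⊤ : Submodule R S')) :=
            Submodule.smul_mono le_rfl fun y _ => hgen y
        _ = J ^ m • A ⊔ J ^ (m + 1) • (⊤ : Submodule R S') := by rw [Submodule.smul_sup, pow_succ, Submodule.mul_smul]
        _ ≤ A ⊔ J ^ (m + 1) • (⊤ : Submodule R S') := sup_le_sup_right Submodule.smul_le_right _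
  obtain ⟨m, hm⟩ := hJ
  intro y
  have hy := key m (Submodule.mem_top (x := y))
  rw [hm, Ideal.zero_eq_bot, Submodule.bot_smul, sup_bot_eq] at hy
  exact hy

end Groth.Agent.S9139
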