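import Groth.Statements.S9157
import Mathlib

set_option autoImplicit false
universe u
open CAlg

namespace Groth.Agent.S9157

/-- If the localization S⁻¹M of an R-module M is finitely presented over S⁻¹R, then some finitely
presented R-module M' maps to M inducing an isomorphism S⁻¹M' → S⁻¹M. -/
theorem result (R : Type u) [CommRing R] (S : Submonoid R)
    (M : Type u) [AddCommGroup M] [Module R M]
    [Module.FinitePresentation (Localization S) (LocalizedModule S M)] :
    ∃ (M' : Type u) (_ : AddCommGroup M') (_ : Module R M') (φ : M' →ₗ[R] M),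
      Module.FinitePresentation R M' ∧ Function.Bijective (LocalizedModule.map S φ) := by
  classical
  obtain ⟨n, g, hg⟩ := Module.Finite.exists_fin (R := Localization S) (M := LocalizedModule S M)
  have hrep : ∀ i, ∃ (m : M) (s : S), g i = LocalizedModule.mk m s := fun i => by
    induction g i using LocalizedModule.induction_on with
    | h m s => exact ⟨m, s, rfl⟩
  choose m s hms using hrep
  let ψ : (Fin n → R) →ₗ[R] M := Fintype.linearCombination R m
  have hψ : Function.Surjective (LocalizedModule.map S ψ) := by
    rw [← LinearMap.range_eq_top, eq_top_iff, ← hg, Submodule.span_le]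
    rintro _ ⟨i, rfl⟩
    refine ⟨LocalizedModule.mk (Pi.single i 1) (s i), ?_⟩
    rw [LocalizedModule.map_mk, hms]
    simp [ψ, Fintype.linearCombination_apply_single]
  haveI : Module.Finite (Localization S) (LocalizedModule S (Fin n → R)) :=
    Module.Finite.of_isLocalizedModule S (LocalizedModule.mkLinearMap S (Fin n → R))
  obtain ⟨G, hG⟩ := Module.FinitePresentation.fg_ker (LocalizedModule.map S ψ) hψ
  have hlift : ∀ x ∈ G, ∃ k ∈ LinearMap.ker ψ, ∃ (a : S) (l : Fin n → R), x = LocalizedModule.mk l a ∧ ∃ c : S, c • l = k := by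
    intro x hx
    have hx0 : LocalizedModule.map S ψ x = 0 := LinearMap.mem_ker.mp (hG ▸ Submodule.subset_span hx)
    induction x using LocalizedModule.induction_on with
    | h l a =>
      rw [LocalizedModule.map_mk, ← LocalizedModule.zero_mk a, LocalizedModule.mk_eq] at hx0
      obtain ⟨c, hc⟩ := hx0
      simp only [smul_zero, smul_smul] at hc
      refine ⟨(c * a) • l, ?_, a, l, rfl, c * a, rfl⟩
      rw [LinearMap.mem_ker, LinearMap.map_smul_of_tower, hc]
  choose kk hk a l hxl c hc using hlift
  let N : Submodule R (Fin n → R) := Submodule.span R (Set.range fun x : G => kk x.1 x.2)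
  have hN : N ≤ LinearMap.ker ψ := Submodule.span_le.mpr (by rintro _ ⟨x, rfl⟩; exact hk x.1 x.2)
  let φ : ((Fin n → R) ⧸ N) →ₗ[R] M := N.liftQ ψ hN
  have hcomp : ∀ y, LocalizedModule.map S φ (LocalizedModule.map S N.mkQ y) = LocalizedModule.map S ψ y := fun y => by
    induction y using LocalizedModule.induction_on with
    | h b t => simp only [LocalizedModule.map_mk]; rfl
  have hle : LinearMap.ker (LocalizedModule.map S ψ) ≤ LinearMap.ker (LocalizedModule.map S N.mkQ) := by
    rw [← hG, Submodule.span_le]
    intro x hx
    rw [SetLike.mem_coe, LinearMap.mem_ker, hxl x hx, LocalizedModule.map_mk, ← LocalizedModule.zero_mk (a x hx),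
      LocalizedModule.mk_eq]
    refine ⟨c x hx, ?_⟩
    rw [smul_zero, smul_zero, smul_comm, ← LinearMap.map_smul_of_tower, hc x hx, Submodule.mkQ_apply,
      (Submodule.Quotient.mk_eq_zero N).mpr (Submodule.subset_span ⟨⟨x, hx⟩, rfl⟩), smul_zero]
  refine ⟨(Fin n → R) ⧸ N, inferInstance, inferInstance, φ,
    Module.finitePresentation_of_surjective N.mkQ (Submodule.mkQ_surjective N)
      (by rw [Submodule.ker_mkQ]; exact Submodule.fg_span (Set.finite_range _)), ?_, ?_⟩
  · refine (injective_iff_map_eq_zero _).mpr fun z hz => ?_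
    induction z using LocalizedModule.induction_on with
    | h b t =>
      obtain ⟨b, rfl⟩ := Submodule.mkQ_surjective N b
      have h1 : LocalizedModule.mk b t ∈ LinearMap.ker (LocalizedModule.map S ψ) := by
        rw [LinearMap.mem_ker, ← hcomp, LocalizedModule.map_mk]; exact hz
      have h2 := LinearMap.mem_ker.mp (hle h1)
      rwa [LocalizedModule.map_mk] at h2
  · intro y
    obtain ⟨x, rfl⟩ := hψ y
    exact ⟨_, hcomp x⟩

end Groth.Agent.S9157
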