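import Groth.Statements.S9160
import Groth.Agent.Lib.H2LengthGrowth
import Mathlib

set_option autoImplicit false
universe u
open CAlg

namespace Groth.Agent.S9160

/-- In a semi-local Noetherian ring of dimension one, for nonzerodivisors a and b the length of R/(ab)
is the sum of the lengths of R/(a) and R/(b), and these lengths are finite. -/
theorem result (R : Type u) [CommRing R] [IsNoetherianRing R]
    (hsemi : Finite (MaximalSpectrum R)) (hdim : ringKrullDim R = 1) (a b : R) (ha : IsRegular a)
    (hb : IsRegular b) :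
    Module.length R (R ⧸ Ideal.span ({a * b} : Set R)) =
        Module.length R (R ⧸ Ideal.span ({a} : Set R)) + Module.length R (R ⧸ Ideal.span ({b} : Set R)) ∧
      Module.length R (R ⧸ Ideal.span ({a} : Set R)) ≠ ⊤ ∧
      Module.length R (R ⧸ Ideal.span ({b} : Set R)) ≠ ⊤ := by
  have hfin : ∀ c : R, IsRegular c → Module.length R (R ⧸ Ideal.span ({c} : Set R)) ≠ ⊤ := by
    intro c hc
    rw [Module.length_ne_top_iff, isFiniteLength_iff_isNoetherian_isArtinian]
    refine ⟨inferInstance, ?_⟩
    haveI : Ring.KrullDimLE 0 (R ⧸ Ideal.span ({c} : Set R)) := by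
      rw [Ring.krullDimLE_iff]
      have hc' : c ∈ nonZeroDivisors R := mem_nonZeroDivisors_iff_right.mpr fun z hz => hc.right.eq_iff.mp (by simpa using hz)
      have h := ringKrullDim_quotient_succ_le_of_nonZeroDivisor hc'
      rw [hdim] at h
      revert h
      generalize ringKrullDim (R ⧸ Ideal.span {c}) = v
      intro h
      induction v using WithBot.recBotCoe with
      | bot => exact bot_le
      | coe w =>
        rw [← WithBot.coe_one, ← WithBot.coe_add, WithBot.coe_le_coe] at h
        refine WithBot.coe_le_coe.mpr ?_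
        exact (ENat.add_le_add_iff_right (by simp : (1 : ℕ∞) ≠ ⊤)).mp (by simpa using h)
    haveI : IsArtinianRing (R ⧸ Ideal.span ({c} : Set R)) := IsNoetherianRing.isArtinianRing_of_krullDimLE_zero
    exact isArtinian_of_surjective_algebraMap (R := R ⧸ Ideal.span ({c} : Set R)) Ideal.Quotient.mk_surjective
  refine ⟨?_, hfin a ha, hfin b hb⟩
  have h1 := Groth.Agent.H2LengthGrowth.length_quot_eq_add (Ideal.span ({a * b} : Set R)) a
  simp only [Groth.Agent.H2LengthGrowth.qlen_eq] at h1
  have e1 : Groth.Agent.H2LengthGrowth.colonElem (Ideal.span ({a * b} : Set R)) a = Ideal.span {b} := by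
    ext z
    rw [Groth.Agent.H2LengthGrowth.mem_colonElem, Ideal.mem_span_singleton, Ideal.mem_span_singleton]
    exact ⟨fun ⟨w, hw⟩ => ⟨w, ha.left (by show a * z = a * (b * w); rw [hw, mul_assoc])⟩, mul_dvd_mul_left a⟩
  have e2 : Ideal.span ({a * b} : Set R) ⊔ Ideal.span {a} = Ideal.span {a} :=
    sup_eq_right.mpr (Ideal.span_singleton_le_span_singleton.mpr (dvd_mul_right a b))
  rw [h1, e1, e2, add_comm]

end Groth.Agent.S9160
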