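import Groth.Statements.S9161
import Mathlib

set_option autoImplicit false
universe u
open TensorProduct
open CAlg

namespace Groth.Agent.S9161

/-- If two two-term complexes of R-modules A₁ → A₀ and B₁ → B₀ are homotopy equivalent (maps of
complexes both ways whose composites are homotopic to the identity maps), then A₁ ⊕ B₀ and B₁ ⊕ A₀
are isomorphic R-modules. -/
theorem result (R : Type u) [CommRing R]
    (A₁ A₀ B₁ B₀ : Type u) [AddCommGroup A₁] [Module R A₁] [AddCommGroup A₀] [Module R A₀]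
    [AddCommGroup B₁] [Module R B₁] [AddCommGroup B₀] [Module R B₀]
    (dA : A₁ →ₗ[R] A₀) (dB : B₁ →ₗ[R] B₀) (φ₁ : A₁ →ₗ[R] B₁) (φ₀ : A₀ →ₗ[R] B₀)
    (ψ₁ : B₁ →ₗ[R] A₁) (ψ₀ : B₀ →ₗ[R] A₀) (hφ : dB ∘ₗ φ₁ = φ₀ ∘ₗ dA) (hψ : dA ∘ₗ ψ₁ = ψ₀ ∘ₗ dB)
    (h : A₀ →ₗ[R] A₁) (hh₁ : LinearMap.id - ψ₁ ∘ₗ φ₁ = h ∘ₗ dA) (hh₀ : LinearMap.id - ψ₀ ∘ₗ φ₀ = dA ∘ₗ h)
    (h' : B₀ →ₗ[R] B₁) (hh'₁ : LinearMap.id - φ₁ ∘ₗ ψ₁ = h' ∘ₗ dB)
    (hh'₀ : LinearMap.id - φ₀ ∘ₗ ψ₀ = dB ∘ₗ h') :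
    Nonempty ((A₁ × B₀) ≃ₗ[R] (B₁ × A₀)) := by
  let F : (A₁ × B₀) →ₗ[R] (B₁ × A₀) := LinearMap.prod (φ₁.coprod h') (dA.coprod (-ψ₀))
  let G : (B₁ × A₀) →ₗ[R] (A₁ × B₀) := LinearMap.prod (ψ₁.coprod h) (dB.coprod (-φ₀))
  have eGF : ∀ x, (G ∘ₗ F) x = (x.1 + (ψ₁ (h' x.2) - h (ψ₀ x.2)), x.2) := by
    intro ⟨a, b⟩
    have e1 := DFunLike.congr_fun hh₁ a
    have e2 := DFunLike.congr_fun hh'₀ b
    have e3 := DFunLike.congr_fun hφ a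
    simp at e1 e2 e3
    ext <;> simp [F, G, ← e1, ← e2, e3] <;> abel
  have eFG : ∀ x, (F ∘ₗ G) x = (x.1 + (φ₁ (h x.2) - h' (φ₀ x.2)), x.2) := by
    intro ⟨a, b⟩
    have e1 := DFunLike.congr_fun hh'₁ a
    have e2 := DFunLike.congr_fun hh₀ b
    have e3 := DFunLike.congr_fun hψ a
    simp at e1 e2 e3
    ext <;> simp [F, G, ← e1, ← e2, e3] <;> abel
  have inj : Function.Injective F := by
    intro x y hxy
    have e : (G ∘ₗ F) x = (G ∘ₗ F) y := by simp [hxy]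
    rw [eGF, eGF] at e
    have := congrArg Prod.snd e; simp at this
    ext
    · have := congrArg Prod.fst e; simp_all
    · exact this
  have surj : Function.Surjective F := by
    intro ⟨a, b⟩
    exact ⟨G (a - (φ₁ (h b) - h' (φ₀ b)), b), (eFG _).trans (by simp)⟩
  exact ⟨LinearEquiv.ofBijective F ⟨inj, surj⟩⟩

end Groth.Agent.S9161
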