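import Groth.Statements.S9163
import Mathlib

set_option autoImplicit false
universe u
open CAlg

namespace Groth.Agent.S9163

/-- If S is integral over R, then any finitely many elements of R and of S lie in a pair R₀ ⊆ R, S₀ ⊆ S
with R₀ a finite type ℤ-subalgebra, S₀ an R₀-subalgebra of S, and S₀ finite as an R₀-module; so R →
S is the directed colimit of finite maps between finite type ℤ-algebras. -/
theorem result (R S : Type u) [CommRing R] [CommRing S] [Algebra R S]
    [Algebra.IsIntegral R S] (E : Finset R) (F : Finset S) :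
    ∃ (R₀ : Subalgebra ℤ R) (S₀ : Subalgebra R₀ S), Algebra.FiniteType ℤ R₀ ∧ (E : Set R) ⊆ R₀ ∧
      (F : Set S) ⊆ S₀ ∧ Module.Finite R₀ S₀ := by
  classical
  have hint : ∀ s : S, IsIntegral R s := fun s => Algebra.IsIntegral.isIntegral s
  choose P hP hPs using hint
  let T : Finset R := E ∪ F.biUnion fun s => (P s).coeffs
  let R₀ : Subalgebra ℤ R := Algebra.adjoin ℤ (T : Set R)
  have hT : (T : Set R) ⊆ R₀ := Algebra.subset_adjoin
  have hint' : ∀ s ∈ F, IsIntegral R₀ s := by
    intro s hs
    have hl : P s ∈ Polynomial.lifts (algebraMap R₀ R) := by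
      rw [Polynomial.lifts_iff_coeff_lifts]
      intro i
      by_cases hi : (P s).coeff i = 0
      · exact ⟨0, by rw [map_zero, hi]⟩
      · exact ⟨⟨(P s).coeff i, hT (Finset.mem_coe.mpr (Finset.mem_union_right _
          (Finset.mem_biUnion.mpr ⟨s, hs, Polynomial.coeff_mem_coeffs hi⟩)))⟩, rfl⟩
    obtain ⟨q, hq, -, hqm⟩ := Polynomial.lifts_and_natDegree_eq_and_monic hl (hP s)
    refine ⟨q, hqm, ?_⟩
    rw [← Polynomial.aeval_def, ← Polynomial.aeval_map_algebraMap R, hq, Polynomial.aeval_def]
    exact hPs s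
  refine ⟨R₀, Algebra.adjoin R₀ (F : Set S), (Subalgebra.fg_iff_finiteType _).mp ⟨T, rfl⟩, ?_, Algebra.subset_adjoin,
    Module.Finite.iff_fg.mpr (fg_adjoin_of_finite F.finite_toSet hint')⟩
  exact fun x hx => hT (Finset.mem_coe.mpr (Finset.mem_union_left _ hx))

end Groth.Agent.S9163
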