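import Groth.Statements.S9211
import Groth.Agent.Lib.H6.DVRVal2

set_option autoImplicit false
set_option linter.all false
universe u
open CategoryTheory CategoryTheory.Limits AlgebraicGeometry
open Lim

namespace Groth.Agent.S9211

/-- Let S be a locally Noetherian scheme and f : X → S a morphism locally of finite type. Then f is
separated if and only if the following uniqueness holds: for every generic point η of an irreducible
component of X, every discrete valuation ring A contained in the residue field κ(η) with fraction
field κ(η) (a valuation subring of κ(η) which is a discrete valuation ring), and every pair of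
morphisms Spec A → X with the same composite to S and both restricting on Spec κ(η) to the canonical
morphism Spec κ(η) → X, the two morphisms coincide. -/
theorem result {X S : Scheme.{u}} [IsLocallyNoetherian S] (f : X ⟶ S)
    [LocallyOfFiniteType f] :
    IsSeparated f ↔ ∀ (η : X), closure {η} ∈ irreducibleComponents (X : Type u) →
      ∀ (A : ValuationSubring (X.residueField η)), IsDiscreteValuationRing A →
        ∀ l₁ l₂ : Spec (CommRingCat.of A) ⟶ X, l₁ ≫ f = l₂ ≫ f →
          Spec.map (CommRingCat.ofHom A.subtype) ≫ l₁ = X.fromSpecResidueField η →
          Spec.map (CommRingCat.ofHom A.subtype) ≫ l₂ = X.fromSpecResidueField η → l₁ = l₂ := by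
    constructor
    · intro hs η hη A hA l₁ l₂ hl h1 h2
      have hU := IsSeparated.valuativeCriterion f
      let sq : ValuativeCommSq f :=
        { R := A, K := X.residueField η, i₁ := X.fromSpecResidueField η, i₂ := l₁ ≫ f,
          commSq := ⟨by rw [← Category.assoc, ← h1]; rfl⟩ }
      haveI := hU sq
      exact congrArg CommSq.LiftStruct.l (Subsingleton.elim (⟨l₁, h1, rfl⟩ : sq.commSq.LiftStruct) ⟨l₂, h2, hl.symm⟩)
    · intro H
      refine Groth.Agent.H6.DVRVal.isSeparated_of_dvr_at f {η | closure {η} ∈ irreducibleComponents (X : Type u)}
        (fun x => ?_) fun η hη => H η hη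
      obtain ⟨η, h1, h2⟩ := Groth.Agent.H6.DVRVal.exists_maximal_mem x
      exact ⟨η, h1, h2⟩

end Groth.Agent.S9211
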