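import Groth.Statements.S9212
import Groth.Agent.Lib.H6.ValDense2

set_option autoImplicit false
set_option linter.all false
universe u
open CategoryTheory CategoryTheory.Limits AlgebraicGeometry
open Lim

namespace Groth.Agent.S9212

/-- Let S be a locally Noetherian scheme and f : X → S a morphism of finite type. Then f is proper if
and only if: for every generic point η of an irreducible component of X, every discrete valuation
ring A contained in the residue field κ(η) with fraction field κ(η) (a valuation subring of κ(η)
which is a discrete valuation ring), and every morphism Spec A → S whose restriction to Spec κ(η) is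
the canonical morphism Spec κ(η) → X followed by f, there is exactly one morphism Spec A → X over S
restricting to the canonical morphism on Spec κ(η). -/
theorem result {X S : Scheme.{u}} [IsLocallyNoetherian S] (f : X ⟶ S)
    [LocallyOfFiniteType f] [QuasiCompact f] :
    IsProper f ↔ ∀ (η : X), closure {η} ∈ irreducibleComponents (X : Type u) →
      ∀ (A : ValuationSubring (X.residueField η)), IsDiscreteValuationRing A →
        ∀ y : Spec (CommRingCat.of A) ⟶ S,
          Spec.map (CommRingCat.ofHom A.subtype) ≫ y = X.fromSpecResidueField η ≫ f →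
          ∃! l : Spec (CommRingCat.of A) ⟶ X,
            l ≫ f = y ∧ Spec.map (CommRingCat.ofHom A.subtype) ≫ l = X.fromSpecResidueField η := by
  constructor
  · intro hp η hη A hA y hy
    let sq : ValuativeCommSq f := ⟨A, X.residueField η, X.fromSpecResidueField η, y, ⟨hy.symm⟩⟩
    have hv : (ValuativeCriterion.Existence ⊓ @QuasiCompact) f := by
      rw [← UniversallyClosed.eq_valuativeCriterion]
      infer_instance
    have hex : sq.commSq.HasLift := hv.1 sq
    have hun : Subsingleton sq.commSq.LiftStruct := IsSeparated.valuativeCriterion f sq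
    obtain ⟨⟨l, hl₁, hl₂⟩⟩ := hex.exists_lift
    refine ⟨l, ⟨hl₂, hl₁⟩, fun l' hl' => ?_⟩
    exact congrArg CommSq.LiftStruct.l (hun.elim ⟨l', hl'.2, hl'.1⟩ ⟨l, hl₁, hl₂⟩)
  · intro H
    have hD : ∀ x : X, ∃ d ∈ {η : X | closure {η} ∈ irreducibleComponents (X : Type u)}, d ⤳ x := fun x => by
      obtain ⟨η, h1, h2⟩ := H6.DVRVal.exists_maximal_mem x
      exact ⟨η, h1, h2⟩
    haveI hsep : IsSeparated f := H6.DVRVal.isSeparated_of_dvr_at f _ hD fun η hη A hA l₁ l₂ hl h1 h2 =>
      (H η hη A hA (l₁ ≫ f) (by rw [← Category.assoc, h1])).unique ⟨rfl, h1⟩ ⟨hl.symm, h2⟩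
    haveI : UniversallyClosed f := UniversallyClosed.of_valuativeCriterion f
      (H6.ValDense.existence_of_points f _ hD (fun η hη A y hy => ?_) fun η _ => H6.ValDense.uniqAt_of_isSeparated f η)
    · exact ⟨⟩
    · refine H6.ValDense.exists_lift_of_dvr_field f (X.fromSpecResidueField η) ∅ Set.finite_empty (fun L _ i hi => ?_)
        (fun V hV y' hy' => (H η hη V hV y' hy').exists) A y hy
      refine eq_top_iff.2 fun z _ => ?_
      exact H6.ValDense.image_subset_of_point η (𝟙 (X.residueField η)) L i
        (hi.trans (by erw [Spec.map_id, Category.id_comp])) z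

end Groth.Agent.S9212
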