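import Groth.Statements.S9225
import Mathlib
import Groth.Agent.Lib.RegularQuotient

set_option autoImplicit false
universe u
open IsLocalRing Groth.Agent
open CAlg

namespace Groth.Agent.S9225

/-- Let R be a regular ring, f an element of R and D a derivation of R such that the image of D(f) in
R/(f) is a unit. Then R/(f) is a regular ring. -/
theorem result (R : Type u) [CommRing R] [IsRegularRing R]
    (f : R) (D : Derivation ℤ R R)
    (hD : IsUnit (Ideal.Quotient.mk (Ideal.span {f}) (D f))) :
    IsRegularRing (R ⧸ Ideal.span ({f} : Set R)) := by
  exact RegLocal.isRegularRing_quotient_of_derivation f D hD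

end Groth.Agent.S9225
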