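import Groth.Statements.S9226
import Mathlib
import Groth.Agent.Lib.RegularQuotient

set_option autoImplicit false
universe u
open IsLocalRing Groth.Agent
open CAlg

namespace Groth.Agent.S9226

/-- Let R be a regular local ring, m ≥ 1, f_1, ..., f_m elements of the maximal ideal, and D_1, ..., D_m
derivations of R such that the determinant of the matrix (D_i(f_j)) is a unit of R. Then R/(f_1,
..., f_m) is a regular local ring and f_1, ..., f_m is a regular sequence on R. -/
theorem result (R : Type u) [CommRing R]
    [IsRegularLocalRing R] (m : ℕ) (hm : 1 ≤ m) (f : Fin m → R)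
    (hf : ∀ i, f i ∈ IsLocalRing.maximalIdeal R) (D : Fin m → Derivation ℤ R R)
    (hdet : IsUnit (Matrix.det (Matrix.of (fun i j : Fin m => D i (f j))))) :
    IsRegularLocalRing (R ⧸ Ideal.span (Set.range f)) ∧
      RingTheory.Sequence.IsRegular R (List.ofFn f) := by
  classical
  have hli : LinearIndependent (ResidueField R) (fun i => (maximalIdeal R).toCotangent ⟨f i, hf i⟩) := by
    rw [Fintype.linearIndependent_iff]
    intro g hg
    choose a ha using fun i => IsLocalRing.residue_surjective (g i)
    have h0 : (maximalIdeal R).toCotangent (∑ i, a i • (⟨f i, hf i⟩ : maximalIdeal R)) = 0 := by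
      rw [map_sum, ← hg]
      refine Finset.sum_congr rfl fun i _ => ?_
      rw [map_smul, ← ha i]
      exact (algebraMap_smul (ResidueField R) (a i) _).symm
    rw [Ideal.toCotangent_eq_zero] at h0
    simp only [Submodule.coe_sum, Submodule.coe_smul, smul_eq_mul] at h0
    have hD2 : ∀ j, ∀ b ∈ maximalIdeal R ^ 2, D j b ∈ maximalIdeal R := by
      intro j b hb
      rw [pow_two] at hb
      refine Submodule.mul_induction_on hb (fun b hb c hc => ?_) (fun b c hb hc => ?_)
      · rw [Derivation.leibniz]; exact add_mem (Ideal.mul_mem_right _ _ hb) (Ideal.mul_mem_right _ _ hc)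
      · rw [map_add]; exact add_mem hb hc
    have hmul : ∀ j, ∑ i, D j (f i) * a i ∈ maximalIdeal R := by
      intro j
      have h1 := hD2 j _ h0
      rw [map_sum] at h1
      simp only [Derivation.leibniz, smul_eq_mul, Finset.sum_add_distrib] at h1
      have h2 : ∑ i, f i * D j (a i) ∈ maximalIdeal R := sum_mem fun i _ => Ideal.mul_mem_right _ _ (hf i)
      simpa [mul_comm] using sub_mem h1 h2
    have hres : (Matrix.of fun i j : Fin m => residue R (D i (f j))).mulVec g = 0 := by
      ext j
      simp only [Matrix.mulVec, dotProduct, Matrix.of_apply, Pi.zero_apply]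
      rw [← (residue_eq_zero_iff _).mpr (hmul j), map_sum]
      simp [ha]
    have hdet' : IsUnit (Matrix.of fun i j : Fin m => residue R (D i (f j))).det := by
      have := hdet.map (residue R)
      rwa [RingHom.map_det] at this
    exact congrFun (Matrix.eq_zero_of_mulVec_eq_zero hdet'.ne_zero hres)
  refine ⟨(RegLocal.quotient_of_linearIndependent f hf hli).1, ?_⟩
  obtain ⟨hinj, t, hspan, hcard⟩ := RegLocal.exists_complement f hf hli
  refine RegLocal.isRegular_of_span_eq (List.ofFn f) t.toList ?_ (by rw [← hcard]; simp)
  rw [← hspan]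
  refine congrArg Ideal.span (Set.ext fun z => ?_)
  simp [List.mem_ofFn]

end Groth.Agent.S9226
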