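import Groth.Statements.S9233
import Mathlib
import Groth.Prelude.Def_EGA4b
import Groth.Prelude.Def_CAlg
import Groth.Prelude.Def_Hensel
import Groth.Agent.Lib.H2HenzApply

set_option autoImplicit false
universe u
open Hensel

namespace Groth.Agent.S9233
open IsLocalRing Groth.Agent.H4Henzn Groth.Agent.H2HenzApply
set_option maxHeartbeats 1000000
set_option synthInstance.maxHeartbeats 400000
set_option backward.isDefEq.respectTransparency.types false

/-- The henselization S of a Noetherian local ring R has the same depth as R. -/
theorem result (R S : Type u) [CommRing R] [IsLocalRing R] [IsNoetherianRing R]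
    [CommRing S] [IsLocalRing S] [Algebra R S] [IsLocalHom (algebraMap R S)]
    [Hensel.IsHenselization R S] : LocCoh.depth S S = LocCoh.depth R R := by
  obtain ⟨e⟩ := exists_algEquiv_henselization R S
  exact depth_eq' e

end Groth.Agent.S9233
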