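import Groth.Statements.S9250
import Mathlib
import Groth.Prelude.Def_Found
import Groth.Prelude.Def_CAlg
import Groth.Prelude.Def_CAlgX
import Groth.Prelude.Def_EGA4b
import Groth.Agent.Lib.H2GeomRegMore
import Groth.Agent.Lib.H2RegDescend
import Groth.Agent.S2451
import Groth.Agent.S4573

set_option autoImplicit false
universe u
open CAlg

namespace Groth.Agent.S9250
open TensorProduct IsLocalRing
open Groth.Agent.H2GeomRegMore
set_option backward.isDefEq.respectTransparency.types false
set_option synthInstance.maxHeartbeats 400000
set_option maxHeartbeats 1000000

/-- Let R → S be a regular ring map with S Noetherian and R regular. Then S is regular. -/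
theorem result (R S : Type u) [CommRing R] [CommRing S] [Algebra R S]
    [IsRegularRing R] [IsNoetherianRing S] (h : CAlg.IsRegularHom R S) : IsRegularRing S := by
  exact isRegularRing_of_adicFS_over (R := R) (isRegularHom_iff.1 h)

end Groth.Agent.S9250
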