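import Groth.Statements.S9256
import Mathlib
import Groth.Prelude.Def_Found
import Groth.Prelude.Def_CAlg
import Groth.Prelude.Def_CAlgX
import Groth.Prelude.Def_EGA4b
import Groth.Agent.Lib.H2GeomRegMore
import Groth.Agent.Lib.H2RegDescend
import Groth.Agent.S2451
import Groth.Agent.S4573

set_option autoImplicit false
universe u
open CAlg

namespace Groth.Agent.S9256
open TensorProduct IsLocalRing
open Groth.Agent.H2GeomRegMore
set_option backward.isDefEq.respectTransparency.types false
set_option synthInstance.maxHeartbeats 400000
set_option maxHeartbeats 1000000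

/-- For a field extension K of k, the ring map k → K is regular exactly when K is separable over k, that
is, geometrically reduced over k. -/
theorem result (k K : Type u) [Field k] [Field K]
    [Algebra k K] : CAlg.IsRegularHom k K ↔ Algebra.IsGeometricallyReduced k K := by
  rw [isRegularHom_iff, ← Groth.Agent.S2451.result]
  constructor
  · intro h
    let L := Localization.AtPrime (⊥ : Ideal K)
    let e : K ≃ₐ[K] L := IsLocalization.atUnits K ((⊥ : Ideal K).primeCompl) (fun x hx => isUnit_iff_ne_zero.2 fun hx0 => hx (hx0 ▸ zero_mem _))
    have hmax : maximalIdeal L = ⊥ := by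
      rw [← IsLocalization.AtPrime.map_eq_maximalIdeal (⊥ : Ideal K) L, Ideal.map_bot]
    haveI : Algebra.FormallySmooth k L := Algebra.FormallySmooth.of_comp_surjective fun C _ _ J hJ ψ =>
      h ⊥ C J hJ ψ ⟨1, fun x hx => by rw [pow_one, hmax] at hx; rw [(Submodule.mem_bot L).1 hx, map_zero]⟩
    exact Algebra.FormallySmooth.of_equiv (e.restrictScalars k).symm
  · intro h q _
    haveI := h
    haveI : Algebra.FormallySmooth K (Localization.AtPrime q) := Algebra.FormallySmooth.of_isLocalization q.primeCompl
    haveI : Algebra.FormallySmooth k (Localization.AtPrime q) := Algebra.FormallySmooth.comp k K _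
    exact adicFS_of_formallySmooth _

end Groth.Agent.S9256
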