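import Groth.Statements.S9258
import Groth.Prelude.Def_CAlgX
import Groth.Prelude.Def_EGA41
import Groth.Agent.Lib.H2AdicLift
import Groth.Agent.Lib.H2AdicNilp
import Groth.Agent.Lib.CompleteSemilocal
import Mathlib

set_option autoImplicit false
universe u
open CAlg

namespace Groth.Agent.S9258
open IsLocalRing
set_option backward.isDefEq.respectTransparency.types false
set_option maxHeartbeats 400000

/-- Suppose A → B is a local map of Noetherian local rings, B is complete, and A → B is formally smooth
for the adic topology of the maximal ideal of B. Then each derivation D of A extends to a derivation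
D' of B, in the sense that D' restricted along A → B equals D followed by A → B. -/
theorem result (A B : Type u) [CommRing A]
    [CommRing B] [IsLocalRing A] [IsLocalRing B] [IsNoetherianRing A] [IsNoetherianRing B]
    [Algebra A B] [IsLocalHom (algebraMap A B)]
    [IsAdicComplete (IsLocalRing.maximalIdeal B) B]
    (hfs : CAlgX.IsAdicFormallySmooth A B (IsLocalRing.maximalIdeal B)) (D : Derivation ℤ A A) :
    ∃ D' : Derivation ℤ B B, ∀ a : A, D' (algebraMap A B a) = algebraMap A B (D a) := by
  let M := IsLocalRing.maximalIdeal B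
  let φ : A →+* (TrivSqZeroExt B B) :=
    { toFun := fun a => TrivSqZeroExt.inl (algebraMap A B a) + TrivSqZeroExt.inr (algebraMap A B (D a))
      map_one' := TrivSqZeroExt.ext (by simp) (by simp)
      map_zero' := TrivSqZeroExt.ext (by simp) (by simp)
      map_add' := fun x y => TrivSqZeroExt.ext (by simp only [TrivSqZeroExt.fst_add, TrivSqZeroExt.fst_inl, TrivSqZeroExt.fst_inr, map_add]; ring)
        (by simp only [TrivSqZeroExt.snd_add, TrivSqZeroExt.snd_inl, TrivSqZeroExt.snd_inr, map_add]; ring)
      map_mul' := fun x y => TrivSqZeroExt.ext (by simp only [TrivSqZeroExt.fst_add, TrivSqZeroExt.fst_mul, TrivSqZeroExt.fst_inl, TrivSqZeroExt.fst_inr, map_mul]; ring)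
        (by simp only [TrivSqZeroExt.fst_add, TrivSqZeroExt.snd_add, TrivSqZeroExt.snd_mul, TrivSqZeroExt.fst_inl, TrivSqZeroExt.snd_inl, TrivSqZeroExt.fst_inr, TrivSqZeroExt.snd_inr, Derivation.leibniz, smul_eq_mul, map_mul, map_add, op_smul_eq_smul]; ring) }
  letI : Algebra A (TrivSqZeroExt B B) := φ.toAlgebra
  have : Module.Finite B (TrivSqZeroExt B B) := inferInstanceAs (Module.Finite B (B × B))
  have : IsAdicComplete M (TrivSqZeroExt B B) := Groth.Agent.CompleteSemilocal.isAdicComplete_finite M (TrivSqZeroExt B B)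
  let M' : Ideal (TrivSqZeroExt B B) := M.map (algebraMap B (TrivSqZeroExt B B))
  have : IsAdicComplete M' (TrivSqZeroExt B B) := (IsAdicComplete.map_algebraMap_iff _ _).mpr inferInstance
  let π : (TrivSqZeroExt B B) →ₐ[A] B :=
    { toRingHom := (TrivSqZeroExt.fstHom B B B).toRingHom
      commutes' := fun a => by
        show TrivSqZeroExt.fst (φ a) = _
        simp [φ] }
  haveI : IsHausdorff M B := inferInstance
  obtain ⟨v, hfst'⟩ := Groth.Agent.H2AdicLift.exists_section (t := 2) M M'
    (Groth.Agent.H2AdicNilp.isFormallySmoothAdic_of_isAdicFormallySmooth _ _ hfs) π (fun b => ⟨TrivSqZeroExt.inl b, rfl⟩)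
    (by
      show (M.map (algebraMap B (TrivSqZeroExt B B))).map π.toRingHom = M
      rw [Ideal.map_map]
      exact Ideal.map_id M)
    (by
      rw [show (2 : ℕ) = 1 + 1 from rfl, Submodule.pow_succ, Submodule.pow_one, Ideal.mul_le]
      intro x hx y hy
      have hx' : TrivSqZeroExt.fst x = 0 := hx
      have hy' : TrivSqZeroExt.fst y = 0 := hy
      have : x * y = 0 := TrivSqZeroExt.ext (by simp [hx', TrivSqZeroExt.fst_mul]) (by simp [hx', hy', TrivSqZeroExt.snd_mul])
      rw [this]
      exact zero_mem _)
  have hfst : ∀ b, TrivSqZeroExt.fst (v b) = b := hfst'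
  let d : B →+ B :=
    { toFun := fun y => TrivSqZeroExt.snd (v y)
      map_zero' := by rw [map_zero]; rfl
      map_add' := fun y z => by rw [map_add]; rfl }
  refine ⟨Derivation.mk' d.toIntLinearMap fun y z => ?_, fun a => ?_⟩
  · show TrivSqZeroExt.snd (v (y * z)) = y • TrivSqZeroExt.snd (v z) + z • TrivSqZeroExt.snd (v y)
    rw [map_mul, TrivSqZeroExt.snd_mul, hfst, hfst]
    simp [smul_eq_mul, mul_comm]
  · show TrivSqZeroExt.snd (v (algebraMap A B a)) = _
    rw [v.commutes]
    show TrivSqZeroExt.snd (φ a) = _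
    simp only [φ, RingHom.coe_mk, MonoidHom.coe_mk, OneHom.coe_mk, TrivSqZeroExt.snd_add, TrivSqZeroExt.snd_inl, TrivSqZeroExt.snd_inr, zero_add]

end Groth.Agent.S9258
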