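import Groth.Statements.S9264
import Mathlib

set_option autoImplicit false
universe u
attribute [local instance] HasDerivedCategory.standard
open CategoryTheory
open DerCA

namespace Groth.Agent.S9264
open CategoryTheory Limits in
lemma aux (R : Type u) [CommRing R] (M : ModuleCat.{u} R) : ∀ (fs : List R) (q : ℤ), (q < 0 ∨ (fs.length : ℤ) < q) →
    IsZero ((DerCA.extCech M fs).X q)
  | [], q, hq => HomologicalComplex.isZero_single_obj_X _ _ _ _ (by simp at hq; omega)
  | f :: fs, q, hq => by
    refine IsZero.of_iso ?_ (DerCA.mappingCoconeXIso (DerCA.locCxUnit (Submonoid.powers f) (DerCA.extCech M fs)) q)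
    simp only [List.length_cons, Nat.cast_add, Nat.cast_one] at hq
    exact (biprod_isZero_iff _ _).2 ⟨aux R M fs q (by omega), (DerCA.locFunctor (Submonoid.powers f)).map_isZero (aux R M fs (q - 1) (by omega))⟩

/-- The cohomology of the extended alternating Cech complex of a module M with respect to f_1, ..., f_r
vanishes in degrees outside [0, r]. -/
theorem result (R : Type u) [CommRing R] (fs : List R)
    (M : ModuleCat.{u} R) (q : ℤ) (hq : q < 0 ∨ (fs.length : ℤ) < q) :
    Limits.IsZero (DerCA.extCechH fs M q) := by
  exact ((DerCA.extCech M fs).exactAt_iff_isZero_homology q).1 (HomologicalComplex.ExactAt.of_isZero (aux R M fs q hq))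

end Groth.Agent.S9264
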