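import Groth.Statements.S9268
import Mathlib
import Groth.Prelude.Def_Found
import Groth.Prelude.Def_CAlgX
import Groth.Agent.Lib.H2AdicFSLocal
import Groth.Agent.Lib.H2GeomRegular
import Groth.Agent.Lib.H2RegularLoc
import Groth.Agent.S2035
import Groth.Agent.S2036

set_option autoImplicit false
universe u
open CAlg

namespace Groth.Agent.S9268
open TensorProduct IsLocalRing
set_option backward.isDefEq.respectTransparency.types false

/-- Suppose A is a Noetherian ring and B is a finitely generated A-algebra, and consider a prime q of B
lying over p in A. Then A → B is smooth at q (meaning some g not in q makes A → B_g smooth) exactly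
when the induced map A_p → B_q is formally smooth with respect to the adic topology defined by the
maximal ideal of B_q. -/
theorem result (A B : Type u) [CommRing A] [IsNoetherianRing A]
    [CommRing B] [Algebra A B] [Algebra.FiniteType A B] (q : Ideal B) [q.IsPrime] :
    (∃ g : B, g ∉ q ∧ Algebra.Smooth A (Localization.Away g)) ↔
      letI := (Localization.localRingHom (Ideal.comap (algebraMap A B) q) q (algebraMap A B) rfl).toAlgebra
      CAlgX.IsAdicFormallySmooth (Localization.AtPrime (Ideal.comap (algebraMap A B) q))
        (Localization.AtPrime q) (IsLocalRing.maximalIdeal (Localization.AtPrime q)) := by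
  let S := Localization.AtPrime q
  let p := Ideal.comap (algebraMap A B) q
  let Ap := Localization.AtPrime p
  letI : Algebra Ap S := (Localization.localRingHom p q (algebraMap A B) rfl).toAlgebra
  haveI : IsScalarTower A Ap S := IsScalarTower.of_algebraMap_eq fun x => by
    refine Eq.trans ?_ (Localization.localRingHom_to_map p q (algebraMap A B) rfl x).symm
    exact IsScalarTower.algebraMap_apply A B S x
  haveI : Algebra.FinitePresentation A B := Algebra.FinitePresentation.of_finiteType.1 inferInstance
  constructor
  · rintro ⟨g, hg, hsm⟩
    haveI := hsm
    letI : Algebra (Localization.Away g) S := (IsLocalization.Away.lift g (g := algebraMap B S)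
      (IsLocalization.map_units S (⟨g, hg⟩ : q.primeCompl))).toAlgebra
    haveI : IsScalarTower B (Localization.Away g) S := IsScalarTower.of_algebraMap_eq fun x => (IsLocalization.Away.lift_eq g _ x).symm
    haveI : IsScalarTower A (Localization.Away g) S := IsScalarTower.of_algebraMap_eq fun x => by
      rw [IsScalarTower.algebraMap_apply A B (Localization.Away g), ← IsScalarTower.algebraMap_apply B (Localization.Away g) S]
      exact IsScalarTower.algebraMap_apply A B S x
    haveI : IsLocalization (q.primeCompl.map (algebraMap B (Localization.Away g))) S :=
      IsLocalization.isLocalization_of_submonoid_le (Localization.Away g) S (Submonoid.powers g) q.primeCompl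
        (Submonoid.powers_le.2 hg)
    haveI : Algebra.FormallySmooth (Localization.Away g) S := Algebra.FormallySmooth.of_isLocalization (q.primeCompl.map (algebraMap B (Localization.Away g)))
    haveI : Algebra.FormallySmooth A S := Algebra.FormallySmooth.comp A (Localization.Away g) S
    haveI : Algebra.FormallySmooth Ap S := Algebra.FormallySmooth.localization_base p.primeCompl
    exact fun C _ _ J hJ ψ _ => Algebra.FormallySmooth.exists_lift J ⟨2, hJ⟩ ψ
  · intro h
    haveI : IsNoetherianRing Ap := IsLocalization.isNoetherianRing p.primeCompl _ inferInstance
    haveI : Algebra.EssFiniteType B S := Algebra.EssFiniteType.of_isLocalization S q.primeCompl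
    haveI : Algebra.EssFiniteType A S := Algebra.EssFiniteType.comp A B S
    haveI : Algebra.EssFiniteType Ap S := Algebra.EssFiniteType.of_comp A Ap S
    haveI := Groth.Agent.H2AdicFSLocal.formallySmooth_of_adic Ap S h
    haveI : Algebra.FormallySmooth A Ap := Algebra.FormallySmooth.of_isLocalization p.primeCompl
    haveI : Algebra.IsSmoothAt A q := Algebra.FormallySmooth.comp A Ap S
    exact Algebra.IsSmoothAt.exists_notMem_smooth A q

end Groth.Agent.S9268
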