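import Groth.Statements.S9275
import Mathlib
import Groth.Agent.Lib.H2ZarNbhd

set_option autoImplicit false
universe u
open EtAlg

namespace Groth.Agent.S9275


/-- Let A → B be a ring map and J an ideal of B such that A → B is étale at every prime of V(J), in the
sense that every prime q ⊇ J has some h ∉ q with A → B_h étale. Then there is g ∈ B mapping to a
unit of B/J such that A → B_g is étale. -/
theorem result (A B : Type u) [CommRing A] [CommRing B]
    [Algebra A B] (J : Ideal B)
    (h : ∀ (q : Ideal B) [q.IsPrime], J ≤ q → ∃ h : B, h ∉ q ∧ Algebra.Etale A (Localization.Away h)) :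
    ∃ g : B, IsUnit (Ideal.Quotient.mk J g) ∧ Algebra.Etale A (Localization.Away g) := by
  let s : Set B := {h | Algebra.Etale A (Localization.Away h)}
  obtain ⟨g, hgU, -, hbij⟩ := Groth.Agent.H2ZarNbhd.exists_nbhd J (⋃ x ∈ s, (PrimeSpectrum.basicOpen x : Set (PrimeSpectrum B))) (isOpen_biUnion fun x _ => (PrimeSpectrum.basicOpen x).isOpen) (fun q hq => by
    obtain ⟨x, hx, he⟩ := h q.asIdeal hq
    exact Set.mem_biUnion he hx)
  refine ⟨g, ?_, ?_⟩
  · obtain ⟨w, hw⟩ := (IsLocalization.Away.algebraMap_isUnit (S := Localization.Away g) g).map (Ideal.Quotient.mk (J.map (algebraMap B (Localization.Away g)))) |>.exists_right_inv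
    obtain ⟨a, ha⟩ := hbij.2 w
    refine IsUnit.of_mul_eq_one a (hbij.1 ?_)
    rw [map_mul, map_one, Ideal.quotientMap_mk, ha]
    exact hw
  · let t : Set (Localization.Away g) := algebraMap B _ '' s
    have ht : Ideal.span t = ⊤ := by
      by_contra hne
      obtain ⟨M, hM, hle⟩ := Ideal.exists_le_maximal _ hne
      obtain ⟨x, hx, hxq⟩ := Set.mem_iUnion₂.1 (hgU ⟨M, hM.isPrime⟩)
      exact hxq (hle (Ideal.subset_span ⟨x, hx, rfl⟩))
    rw [← RingHom.etale_algebraMap]
    apply RingHom.Etale.ofLocalizationSpanTarget (algebraMap A (Localization.Away g)) t ht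
    rintro ⟨_, x, hx, rfl⟩
    haveI : Algebra.Etale A (Localization.Away x) := hx
    haveI : Algebra.Etale (Localization.Away x) (Localization.Away (algebraMap B (Localization.Away x) g)) := Algebra.Etale.of_isLocalizationAway (algebraMap B (Localization.Away x) g)
    haveI : Algebra.Etale A (Localization.Away (algebraMap B (Localization.Away x) g)) := Algebra.Etale.comp A (Localization.Away x) _
    haveI h1 : IsLocalization.Away (g * x) (Localization.Away (algebraMap B (Localization.Away x) g)) := IsLocalization.Away.mul (Localization.Away x) _ x g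
    haveI h2 : IsLocalization.Away (g * x) (Localization.Away (algebraMap B (Localization.Away g) x)) := IsLocalization.Away.mul' (Localization.Away g) _ g x
    let e := IsLocalization.algEquiv (Submonoid.powers (g * x)) (Localization.Away (algebraMap B (Localization.Away x) g)) (Localization.Away (algebraMap B (Localization.Away g) x))
    dsimp only
    rw [← IsScalarTower.algebraMap_eq, RingHom.etale_algebraMap]
    exact Algebra.Etale.of_equiv (e.restrictScalars A)

end Groth.Agent.S9275
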