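import Groth.Statements.S9277
import Mathlib
import Groth.Prelude.Def_CAlgX
import Groth.Agent.Lib.McCoy

set_option autoImplicit false
universe u
open Matrix
open Groth.Agent.McCoy
open CAlgX

namespace Groth.Agent.S9277

/-- Let R be a local ring and φ : R^m → R^n a map of finite free modules with matrix M. Then φ is
injective if and only if the rank of M is m and the annihilator of the determinantal ideal I(M)
(generated by the minors of size the rank) is zero. -/
theorem result (R : Type u) [CommRing R] [IsLocalRing R]
    (m n : ℕ) (M : Matrix (Fin n) (Fin m) R) :
    Function.Injective (Matrix.mulVecLin M) ↔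
      CAlgX.matrixRank M = m ∧ (CAlgX.detIdeal M).annihilator = ⊥ := by
  exact rank_iff M

end Groth.Agent.S9277
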