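import Groth.Statements.S9278
import Mathlib
import Groth.Prelude.Def_CAlgX
import Groth.Agent.Lib.McCoy

set_option autoImplicit false
universe u
open Matrix
open Groth.Agent.McCoy
open CAlgX

namespace Groth.Agent.S9278

/-- Let R be a Noetherian local ring and φ : R^m → R^n a map of finite free modules with matrix M. Then
φ is injective if and only if the rank of M is m and the determinantal ideal I(M) is the unit ideal
or contains a nonzerodivisor. -/
theorem result (R : Type u) [CommRing R]
    [IsLocalRing R] [IsNoetherianRing R] (m n : ℕ) (M : Matrix (Fin n) (Fin m) R) :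
    Function.Injective (Matrix.mulVecLin M) ↔
      CAlgX.matrixRank M = m ∧ (CAlgX.detIdeal M = ⊤ ∨ ∃ a ∈ CAlgX.detIdeal M, IsRegular a) := by
  rw [rank_iff, ann_eq_bot_iff]
  refine and_congr_right fun _ => ⟨Or.inr, fun h => h.elim (fun h => ⟨1, h ▸ Submodule.mem_top, isRegular_one⟩) id⟩

end Groth.Agent.S9278
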