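import Groth.Statements.S9283
import Mathlib

set_option autoImplicit false
universe u
open TensorProduct
open CAlg

namespace Groth.Agent.S9283

/-- Let R be an auto-associated ring, that is, a local ring whose maximal ideal is weakly associated to
R: some nonzero x ∈ R is killed by a power of every element of the maximal ideal. Then every proper
finitely generated ideal of R has a nonzero annihilator. -/
theorem result (R : Type u) [CommRing R] [IsLocalRing R]
    (h : ∃ x : R, x ≠ 0 ∧ ∀ f ∈ IsLocalRing.maximalIdeal R, ∃ n : ℕ, f ^ n * x = 0)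
    (I : Ideal R) (hI : I.FG) (hI' : I ≠ ⊤) : I.annihilator ≠ ⊥ := by
  classical
  obtain ⟨x, hx, hx'⟩ := h
  have hle := IsLocalRing.le_maximalIdeal hI'
  obtain ⟨N, hN⟩ : ∃ N, I ^ N * Ideal.span {x} = ⊥ := by
    obtain ⟨s, hs⟩ := hI
    obtain ⟨N, hN⟩ := Ideal.exists_pow_le_of_le_radical_of_fg (I := I) (J := (Ideal.span {x}).annihilator) (by
      intro a ha
      obtain ⟨n, hn⟩ := hx' a (hle ha)
      exact ⟨n, by rw [Submodule.mem_annihilator_span_singleton]; simpa using hn⟩) ⟨s, hs⟩
    refine ⟨N, ?_⟩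
    rw [eq_bot_iff, Ideal.mul_le]
    intro a ha b hb
    obtain ⟨c, rfl⟩ := Ideal.mem_span_singleton.mp hb
    have := Submodule.mem_annihilator_span_singleton _ _ |>.mp (hN ha)
    rw [← mul_assoc]; simp [smul_eq_mul] at this; simp [this]
  have hex : ∃ N, I ^ N * Ideal.span {x} = ⊥ := ⟨N, hN⟩
  obtain ⟨m, hm⟩ : ∃ m, Nat.find hex = m + 1 := Nat.exists_eq_succ_of_ne_zero fun e => by
    have := Nat.find_spec hex; rw [e] at this; simp [hx] at this
  have h1 := Nat.find_spec hex
  rw [hm, pow_succ', mul_assoc] at h1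
  have h2 : I ^ m * Ideal.span {x} ≠ ⊥ := Nat.find_min hex (by omega)
  intro hann
  apply h2
  rw [eq_bot_iff, ← hann]
  intro z hz
  rw [Submodule.mem_annihilator]
  intro i hi
  have : i * z ∈ I * (I ^ m * Ideal.span {x}) := Ideal.mul_mem_mul hi hz
  rw [h1] at this
  rw [smul_eq_mul, mul_comm]; exact this

end Groth.Agent.S9283
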