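import Groth.Statements.S9284
import Mathlib
import Groth.Agent.Lib.UnivInjective

set_option autoImplicit false
universe u
open TensorProduct Groth.Agent
open CAlgX

namespace Groth.Agent.S9284

/-- Let R be a ring such that every proper finitely generated ideal of R has a nonzero annihilator, and
let u : N → M be an R-linear map between projective R-modules. Then u stays injective after
tensoring with every R-module exactly when u is injective. -/
theorem result (R : Type u) [CommRing R]
    (hP : (∀ I : Ideal R, I.FG → I ≠ ⊤ → I.annihilator ≠ ⊥))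
    (N M : Type u) [AddCommGroup N] [Module R N] [Module.Projective R N] [AddCommGroup M]
    [Module R M] [Module.Projective R M] (u : N →ₗ[R] M) :
    CAlgX.UniversallyInjective R u ↔ Function.Injective u := by
  classical
  constructor
  · intro h a b hab
    exact (TensorProduct.rid R N).symm.injective (h R (by simp [hab]))
  intro hu
  obtain ⟨sN, hsN⟩ := Module.projective_def'.mp ‹Module.Projective R N›
  obtain ⟨sM, hsM⟩ := Module.projective_def'.mp ‹Module.Projective R M›
  let pN : (N →₀ R) →ₗ[R] N := Finsupp.linearCombination R id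
  let pM : (M →₀ R) →ₗ[R] M := Finsupp.linearCombination R id
  have e1 : ∀ x, pN (sN x) = x := fun x => DFunLike.congr_fun hsN x
  have e2 : ∀ x, pM (sM x) = x := fun x => DFunLike.congr_fun hsM x
  let w : (N →₀ R) →ₗ[R] (M ⊕ N →₀ R) := (Finsupp.sumFinsuppLEquivProdFinsupp R).symm.toLinearMap ∘ₗ ((sM ∘ₗ u ∘ₗ pN).prod (LinearMap.id - sN ∘ₗ pN))
  have hw : Function.Injective w := by
    simp only [w, LinearMap.coe_comp, LinearEquiv.coe_coe]
    refine (LinearEquiv.injective _).comp ?_
    rw [injective_iff_map_eq_zero]
    intro x hx
    have hx1 : sM (u (pN x)) = 0 := congrArg Prod.fst hx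
    have hx2 : x - sN (pN x) = 0 := congrArg Prod.snd hx
    have h1 : pN x = 0 := by
      apply hu; rw [map_zero, ← e2 (u (pN x)), hx1, map_zero]
    simpa [h1] using hx2
  have hwUI : CAlgX.UniversallyInjective R w := by
    apply UI.of_eqCrit
    intro n m x z a h
    let S : Finset N := Finset.univ.biUnion fun i => (x i).support
    let eS := S.equivFin
    let ι : (Fin S.card → R) →ₗ[R] (N →₀ R) := Fintype.linearCombination R (fun k => Finsupp.single (eS.symm k : N) (1 : R))
    let res : (N →₀ R) →ₗ[R] (Fin S.card → R) := LinearMap.pi fun k => Finsupp.lapply (eS.symm k : N)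
    have hres : ∀ v, res (ι v) = v := fun v => by
      ext k
      simp [res, ι, Fintype.linearCombination_apply, Finsupp.finsetSum_apply, Finsupp.single_apply, Subtype.coe_inj]
    have hx : ∀ i, ι (res (x i)) = x i := fun i => by
      ext p
      simp only [ι, res, Fintype.linearCombination_apply, Finsupp.finsetSum_apply, LinearMap.pi_apply, Finsupp.lapply_apply]
      by_cases hp : p ∈ S
      · rw [Finset.sum_eq_single (eS ⟨p, hp⟩)]
        · simp
        · intro k _ hk
          have : (eS.symm k : N) ≠ p := fun e => hk (by simp [← e])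
          simp [Finsupp.single_eq_of_ne this.symm]
        · simp
      · rw [Finset.sum_eq_zero]
        · by_contra h0
          exact hp (Finset.mem_biUnion.mpr ⟨i, Finset.mem_univ _, by simpa [eq_comm] using h0⟩)
        · intro k _
          have : (eS.symm k : N) ≠ p := fun e => hp (e ▸ (eS.symm k).2)
          simp [Finsupp.single_eq_of_ne this.symm]
    let T : Finset (M ⊕ N) := S.attach.biUnion fun p => (w (Finsupp.single p.1 1)).support
    let eT := T.equivFin
    let resT : (M ⊕ N →₀ R) →ₗ[R] (Fin T.card → R) := LinearMap.pi fun k => Finsupp.lapply (eT.symm k : M ⊕ N)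
    have hT : Function.Injective (resT ∘ₗ w ∘ₗ ι) := by
      rw [injective_iff_map_eq_zero]
      intro v hv
      have h0 : w (ι v) = 0 := by
        ext p
        by_cases hp : p ∈ T
        · have := congrFun hv (eT ⟨p, hp⟩)
          simpa [resT] using this
        · simp only [ι, Fintype.linearCombination_apply, map_sum, map_smul, Finsupp.finsetSum_apply, Finsupp.smul_apply, Finsupp.coe_zero, Pi.zero_apply]
          refine Finset.sum_eq_zero fun k _ => ?_
          have : (w (Finsupp.single (eS.symm k : N) (1:R))) p = 0 := by
            by_contra h0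
            exact hp (Finset.mem_biUnion.mpr ⟨eS.symm k, Finset.mem_attach _ _, by simpa using h0⟩)
          simp [this]
      rw [← hres v, (injective_iff_map_eq_zero w).mp hw _ h0, map_zero]
    obtain ⟨v, hv⟩ := UI.split_of_propertyP R hP _ _ _ hT
    refine ⟨fun j => ι (v (resT (z j))), fun i => ?_⟩
    rw [show ∑ j, a i j • ι (v (resT (z j))) = ι (v (resT (∑ j, a i j • z j))) by simp, ← h, ← hx i,
      show v (resT (w (ι (res (x i))))) = res (x i) from DFunLike.congr_fun hv _]
  have h4 : w ∘ₗ sN = ((Finsupp.sumFinsuppLEquivProdFinsupp R).symm.toLinearMap ∘ₗ LinearMap.inl R (M →₀ R) (N →₀ R) ∘ₗ sM) ∘ₗ u := by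
    apply LinearMap.ext
    intro x
    simp [w, e1]
  exact UI.of_comp (h4 ▸ UI.comp (UI.of_retraction (r := pN) (LinearMap.ext e1)) hwUI)

end Groth.Agent.S9284
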