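import Groth.Statements.S9285
import Mathlib
import Groth.Agent.Lib.UnivInjective

set_option autoImplicit false
universe u
open TensorProduct Groth.Agent
open CAlg

namespace Groth.Agent.S9285

/-- A ring R has the property that every proper finitely generated ideal has a nonzero annihilator if
and only if every injective linear map R → R^n admits a retraction. -/
theorem result (R : Type u) [CommRing R] :
    (∀ I : Ideal R, I.FG → I ≠ ⊤ → I.annihilator ≠ ⊥) ↔
      ∀ (n : ℕ) (u : R →ₗ[R] (Fin n → R)), Function.Injective u →
        ∃ v : (Fin n → R) →ₗ[R] R, v.comp u = LinearMap.id := by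
  constructor
  · exact UI.split_one_of_propertyP R
  · intro h I hI hne hann
    obtain ⟨n, a, ha⟩ := Submodule.fg_iff_exists_fin_generating_family.mp hI
    obtain ⟨v, hv⟩ := h n (LinearMap.toSpanSingleton R _ a) (by
      rw [injective_iff_map_eq_zero]
      intro r hr
      have : r ∈ I.annihilator := by
        rw [← ha, Submodule.mem_annihilator_span]
        rintro ⟨_, i, rfl⟩
        simpa using congrFun hr i
      simpa [hann] using this)
    apply hne
    rw [Ideal.eq_top_iff_one]
    have h1 : v a = 1 := by simpa using DFunLike.congr_fun hv 1
    rw [← h1, pi_eq_sum_univ a, map_sum]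
    refine sum_mem fun i _ => ?_
    rw [map_smul, smul_eq_mul]
    exact I.mul_mem_right _ (ha ▸ Ideal.subset_span ⟨i, rfl⟩)

end Groth.Agent.S9285
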