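import Groth.Statements.S9286
import Mathlib
import Groth.Agent.Lib.UnivInjective

set_option autoImplicit false
universe u
open TensorProduct Groth.Agent
open CAlg

namespace Groth.Agent.S9286

/-- Let R be a ring in which every proper finitely generated ideal has a nonzero annihilator. Given an
injective R-linear map u : N → M, where both N and M are finite and projective over R, the quotient
Coker(u) = M/u(N) is again projective as an R-module. -/
theorem result (R : Type u) [CommRing R]
    (hP : (∀ I : Ideal R, I.FG → I ≠ ⊤ → I.annihilator ≠ ⊥))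
    (N M : Type u) [AddCommGroup N] [Module R N] [Module.Finite R N] [Module.Projective R N]
    [AddCommGroup M] [Module R M] [Module.Finite R M] [Module.Projective R M]
    (u : N →ₗ[R] M) (hu : Function.Injective u) :
    Module.Projective R (M ⧸ LinearMap.range u) := by
  obtain ⟨n, f, g, hf, hg, hfg⟩ := Module.Finite.exists_comp_eq_id_of_projective R N
  obtain ⟨m, f', g', hf', hg', hfg'⟩ := Module.Finite.exists_comp_eq_id_of_projective R M
  have e1 : ∀ x, f (g x) = x := fun x => DFunLike.congr_fun hfg x
  have e2 : ∀ x, f' (g' x) = x := fun x => DFunLike.congr_fun hfg' x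
  let w : (Fin n → R) →ₗ[R] (Fin (m + n) → R) :=
    (LinearEquiv.funCongrLeft R R finSumFinEquiv.symm).toLinearMap ∘ₗ (LinearEquiv.sumArrowLequivProdArrow (Fin m) (Fin n) R R).symm.toLinearMap ∘ₗ ((g' ∘ₗ u ∘ₗ f).prod (LinearMap.id - g ∘ₗ f))
  have hw : Function.Injective w := by
    simp only [w, LinearMap.coe_comp, LinearEquiv.coe_coe]
    refine (LinearEquiv.injective _).comp ((LinearEquiv.injective _).comp ?_)
    rw [injective_iff_map_eq_zero]
    intro x hx
    have hx1 : g' (u (f x)) = 0 := congrArg Prod.fst hx
    have hx2 : x - g (f x) = 0 := congrArg Prod.snd hx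
    have h1 : f x = 0 := by
      apply hu; rw [map_zero, ← e2 (u (f x)), hx1, map_zero]
    have := hx2
    simpa [h1] using this
  obtain ⟨v, hv⟩ := UI.split_of_propertyP R hP n (m + n) w hw
  let r : M →ₗ[R] N := f ∘ₗ v ∘ₗ (LinearEquiv.funCongrLeft R R finSumFinEquiv.symm).toLinearMap ∘ₗ (LinearEquiv.sumArrowLequivProdArrow (Fin m) (Fin n) R R).symm.toLinearMap ∘ₗ g'.prod 0
  have hr : ∀ x, r (u x) = x := by
    intro x
    have h3 : w (g x) = (LinearEquiv.funCongrLeft R R finSumFinEquiv.symm) ((LinearEquiv.sumArrowLequivProdArrow (Fin m) (Fin n) R R).symm (g' (u x), 0)) := by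
      simp [w, e1]
    simp only [r, LinearMap.comp_apply, LinearMap.prod_apply, LinearMap.zero_apply, LinearEquiv.coe_toLinearMap]
    erw [← h3]
    rw [show v (w (g x)) = g x from DFunLike.congr_fun hv (g x), e1]
  have hs : LinearMap.range u ≤ LinearMap.ker (LinearMap.id - u ∘ₗ r) := by
    rintro _ ⟨x, rfl⟩; simp [hr]
  refine Module.Projective.of_split ((LinearMap.range u).liftQ (LinearMap.id - u ∘ₗ r) hs) (LinearMap.range u).mkQ ?_
  refine Submodule.linearMap_qext _ (LinearMap.ext fun x => ?_)
  simp [(Submodule.Quotient.mk_eq_zero _).mpr (LinearMap.mem_range_self u (r x))]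

end Groth.Agent.S9286
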