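import Groth.Statements.S9294
import Mathlib
import Groth.Prelude.Def_Found
import Groth.Prelude.Def_CAlgX
import Groth.Agent.Lib.H2GeomRegBase
import Groth.Agent.Lib.H2AdicFSLocal

set_option autoImplicit false
universe u
open CAlg

namespace Groth.Agent.S9294
open TensorProduct IsLocalRing
open Groth.Agent.H2GeomRegMore Groth.Agent.H2GeomRegBase
set_option backward.isDefEq.respectTransparency.types false
set_option synthInstance.maxHeartbeats 400000
set_option synthInstance.maxSize 1024
set_option maxHeartbeats 1000000

attribute [local instance] Algebra.TensorProduct.rightAlgebra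
/-- If A → B and B → C are regular ring maps and every fibre ring of the composite A → C is Noetherian,
the composite is regular. -/
theorem result (A B C : Type u) [CommRing A] [CommRing B] [CommRing C]
    [Algebra A B] [Algebra B C] [Algebra A C] [IsScalarTower A B C]
    (hAB : CAlg.IsRegularHom A B) (hBC : CAlg.IsRegularHom B C)
    (hN : ∀ (p : Ideal A) [p.IsPrime], IsNoetherianRing (p.Fiber C)) :
    CAlg.IsRegularHom A C := by
  haveI := hAB.1
  haveI := hBC.1
  refine ⟨Module.Flat.trans A B C, fun p _ => ⟨hN p, ?_⟩⟩
  haveI := hN p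
  let κ := p.ResidueField
  let Bp := p.Fiber B
  haveI hNB : IsNoetherianRing Bp := (hAB.2 p).1
  let e : (Bp ⊗[B] C) ≃+* p.Fiber C :=
    (((Algebra.TensorProduct.comm B Bp C).toRingEquiv.trans
      (Algebra.TensorProduct.congr (AlgEquiv.refl : C ≃ₐ[B] C) (Algebra.TensorProduct.commRight A B κ).symm).toRingEquiv).trans
      (Algebra.TensorProduct.cancelBaseChange A B C C κ).toRingEquiv).trans (Algebra.TensorProduct.comm A C κ).toRingEquiv
  haveI : IsNoetherianRing (Bp ⊗[B] C) := isNoetherianRing_of_ringEquiv _ e.symm
  have hT : CAlg.IsGeometricallyRegular κ (Bp ⊗[B] C) := by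
    haveI : Algebra.EssFiniteType B (B ⊗[A] κ) := Algebra.EssFiniteType.baseChange A κ B
    haveI : Algebra.EssFiniteType B Bp := (Algebra.EssFiniteType.iff_of_algEquiv (Algebra.TensorProduct.commRight A B κ)).1 inferInstance
    have hreg : CAlg.IsRegularHom Bp (Bp ⊗[B] C) := isRegularHom_baseChange_eft Bp hBC
    exact geomReg_iff_forall.2 fun Q _ => adicFS_comp_localization (B := Bp) (adicFS_of_geomReg (hAB.2 p).2 _) (isRegularHom_iff.1 hreg Q)
  refine geomReg_of_ringEquiv e (fun c => ?_) hT
  simp [e, Bp, Algebra.TensorProduct.algebraMap_apply]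

end Groth.Agent.S9294
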