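import Groth.Statements.S9300
import Mathlib

set_option autoImplicit false
universe u
open TensorProduct
open CAlg

namespace Groth.Agent.S9300

/-- Let A and B be domains and A → B a ring map for which the generic point of Spec(A) has a unique
preimage in Spec(B). Then every nonzero ideal of B has nonzero preimage in A. -/
theorem result (A B : Type u) [CommRing A] [IsDomain A]
    [CommRing B] [IsDomain B] (φ : A →+* B)
    (h : ∃! q : PrimeSpectrum B, Ideal.comap φ q.asIdeal = ⊥) (J : Ideal B) (hJ : J ≠ ⊥) :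
    Ideal.comap φ J ≠ ⊥ := by
  intro hJ0
  obtain ⟨q, hq, huniq⟩ := h
  have hinj : Function.Injective φ := by
    rw [RingHom.injective_iff_ker_eq_bot, eq_bot_iff, ← hJ0]
    intro a ha; simp [Ideal.mem_comap, RingHom.mem_ker.mp ha]
  obtain ⟨p, hp, hJp, hdis⟩ := Ideal.exists_le_prime_disjoint J ((nonZeroDivisors A).map φ) (by
    rw [Set.disjoint_left]
    rintro x hx ⟨a, ha, rfl⟩
    have : a ∈ Ideal.comap φ J := hx
    rw [hJ0] at this
    exact zero_notMem_nonZeroDivisors ((show a = 0 from this) ▸ ha))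
  have h1 : Ideal.comap φ p = ⊥ := by
    rw [eq_bot_iff]; intro a ha
    by_contra h0
    exact Set.disjoint_left.mp hdis ha ⟨a, mem_nonZeroDivisors_of_ne_zero h0, rfl⟩
  have h2 : Ideal.comap φ (⊥ : Ideal B) = ⊥ := (RingHom.injective_iff_ker_eq_bot φ).mp hinj
  have e1 := huniq ⟨p, hp⟩ h1
  have e2 := huniq ⟨⊥, Ideal.isPrime_bot⟩ h2
  have : p = ⊥ := congrArg PrimeSpectrum.asIdeal (e1.trans e2.symm)
  exact hJ (le_bot_iff.mp (this ▸ hJp))

end Groth.Agent.S9300
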