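import Groth.Statements.S9301
import Mathlib
-- import your own Groth.Agent.* helpers here

set_option autoImplicit false
set_option synthInstance.maxHeartbeats 400000
universe u
open CAlg

namespace Groth.Agent.S9301

/-- Let A and B be domains and A → B a flat ring map which is the localization of a quasi-finite ring
map A → B₀ (of finite type with finite fibres). Then every nonzero ideal of B has nonzero preimage
in A. -/
theorem result (A B₀ B : Type u) [CommRing A] [IsDomain A]
    [CommRing B₀] [CommRing B] [IsDomain B] [Algebra A B₀] [Algebra.FiniteType A B₀]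
    [Algebra.QuasiFinite A B₀] (S : Submonoid B₀) [Algebra B₀ B] [IsLocalization S B] [Algebra A B]
    [IsScalarTower A B₀ B] [Module.Flat A B] (J : Ideal B) (hJ : J ≠ ⊥) :
    Ideal.comap (algebraMap A B) J ≠ ⊥ := by
  haveI : Algebra.QuasiFinite A B := Algebra.QuasiFinite.of_isLocalization S
  have hinj : Function.Injective (algebraMap A B) := by
    rw [injective_iff_map_eq_zero]
    intro a ha
    by_contra h0
    have h1 : a • (1 : B) = a • (0 : B) := by rw [Algebra.smul_def, ha, zero_mul, smul_zero]
    have hreg : IsSMulRegular A a := fun x y hxy => mul_left_cancel₀ h0 (by simpa [smul_eq_mul] using hxy)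
    exact one_ne_zero ((hreg.of_flat_of_isBaseChange (f := Algebra.linearMap A B)
      (IsBaseChange.linearMap A B)) (by simpa [Algebra.smul_def] using h1))
  haveI : (⊥ : Ideal B).LiesOver (⊥ : Ideal A) := ⟨by
    ext a; simp [Ideal.under_def, map_eq_zero_iff _ hinj]⟩
  letI := Localization.AtPrime.algebraOfLiesOver (⊥ : Ideal A) (⊥ : Ideal B)
  haveI : Localization.AtPrime.IsLiesOverAlgebra (⊥ : Ideal A) (⊥ : Ideal B) := ⟨rfl⟩
  haveI : Module.Finite (⊥ : Ideal A).ResidueField (⊥ : Ideal B).ResidueField := inferInstance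
  haveI := Algebra.IsAlgebraic.of_finite (⊥ : Ideal A).ResidueField (⊥ : Ideal B).ResidueField
  haveI : Algebra.IsAlgebraic A (⊥ : Ideal B).ResidueField :=
    IsFractionRing.comap_isAlgebraic_iff.mpr
      (inferInstance : Algebra.IsAlgebraic (⊥ : Ideal A).ResidueField (⊥ : Ideal B).ResidueField)
  obtain ⟨b, hbJ, hb0⟩ := Submodule.exists_mem_ne_zero_of_ne_bot hJ
  exact Ideal.comap_ne_bot_of_algebraic_mem hb0 hbJ
    ((isAlgebraic_algebraMap_iff (IsFractionRing.injective B (⊥ : Ideal B).ResidueField)).mp
      (Algebra.IsAlgebraic.isAlgebraic _))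

end Groth.Agent.S9301
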