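import Groth.Statements.S9302
import Mathlib
import Groth.Agent.Lib.H4Hensel


set_option autoImplicit false
universe u
open CategoryTheory
open EtAlg

namespace Groth.Agent.S9302

open Limits in
theorem henselian_limit (J : Type u) [Preorder J] (F : J ⥤ CommRingCat.{u})
    (I : ∀ j : J, Ideal (F.obj j))
    (hI : ∀ (i j : J) (φ : i ⟶ j), Ideal.map (F.map φ).hom (I i) ≤ I j)
    (h : ∀ j : J, HenselianRing (F.obj j) (I j)) :
    HenselianRing ((limit F : CommRingCat.{u}) : Type u)
      (⨅ j : J, Ideal.comap (limit.π F j).hom (I j)) := by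
  have hlim := isLimitOfPreserves (forget CommRingCat.{u}) (limit.isLimit F)
  have hmk : ∀ a : ∀ j, F.obj j, (∀ (i j : J) (φ : i ⟶ j), F.map φ (a i) = a j) →
      ∃ x : (limit F : CommRingCat.{u}), ∀ j, limit.π F j x = a j := by
    intro a ha
    obtain ⟨x, hx, -⟩ := (Types.isLimit_iff _).mp ⟨hlim⟩ a (fun φ => ha _ _ φ)
    exact ⟨x, hx⟩
  have hext : ∀ x y : (limit F : CommRingCat.{u}), (∀ j, limit.π F j x = limit.π F j y) → x = y :=
    fun x y h => Concrete.limit_ext F x y h
  have hw : ∀ (i j : J) (φ : i ⟶ j) (x : (limit F : CommRingCat.{u})),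
      F.map φ (limit.π F i x) = limit.π F j x := fun i j φ x => by
    rw [← limit.w F φ]; rfl
  refine ⟨fun x hx => ?_, fun f hf a₀ h₁ h₂ => ?_⟩
  · rw [Ideal.mem_jacobson_bot]
    intro y
    rw [Ideal.mem_iInf] at hx
    have hu : ∀ j, IsUnit (limit.π F j (x * y + 1)) := fun j => by
      rw [map_add, map_mul, map_one]
      exact Ideal.mem_jacobson_bot.mp ((h j).jac (hx j)) _
    choose v hv using fun j => (hu j).exists_right_inv
    obtain ⟨z, hz⟩ := hmk v fun i j φ => by
      refine (hu j).mul_left_cancel ?_
      rw [hv j, ← hw i j φ, ← map_mul, hv i, map_one]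
    exact IsUnit.of_mul_eq_one z (hext _ _ fun j => by rw [map_mul, hz, hv, map_one])
  · rw [Ideal.mem_iInf] at h₁
    let fj := fun j => f.map (limit.π F j).hom
    have hu : ∀ j, IsUnit (Ideal.Quotient.mk (I j)
        ((fj j).derivative.eval (limit.π F j a₀))) := fun j => by
      rw [Polynomial.derivative_map, Polynomial.eval_map, Polynomial.eval₂_at_apply]
      exact h₂.map (Ideal.quotientMap (I j) (limit.π F j).hom (iInf_le _ j))
    have hroot : ∀ j, ∃ a, (fj j).IsRoot a ∧ a - limit.π F j a₀ ∈ I j := fun j =>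
      (h j).is_henselian _ (hf.map _) _ (by
        rw [Polynomial.eval_map, Polynomial.eval₂_at_apply]; exact h₁ j) (hu j)
    choose a ha ha' using hroot
    have hder : ∀ j, IsUnit ((fj j).derivative.eval (a j)) := fun j => by
      refine H4Hensel.isUnit_of_isUnit_mk (h j).jac ?_
      convert hu j using 1
      rw [Ideal.Quotient.eq]
      exact Ideal.mem_of_dvd _ (Polynomial.sub_dvd_eval_sub _ _ _) (ha' j)
    obtain ⟨z, hz⟩ := hmk a fun i j φ => by
      refine H4Hensel.root_unique (h j).jac (fj j) (ha j) ?_ ?_ (hder j)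
      · have hr := (ha i).map (f := (F.map φ).hom)
        rw [Polynomial.map_map] at hr
        have : (F.map φ).hom.comp (limit.π F i).hom = (limit.π F j).hom := by
          rw [← CommRingCat.hom_comp, limit.w F φ]
        rwa [this] at hr
      · have h1 := hI i j φ (Ideal.mem_map_of_mem _ (ha' i))
        rw [map_sub] at h1
        have h2 := (I j).sub_mem h1 (ha' j)
        convert h2 using 1
        show _ = (F.map φ) (a i) - (F.map φ) (limit.π F i a₀) - (a j - limit.π F j a₀)
        rw [hw]; ring
    refine ⟨z, hext _ _ fun j => ?_, Ideal.mem_iInf.mpr fun j => ?_⟩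
    · have := ha j
      rw [Polynomial.IsRoot, Polynomial.eval_map, ← hz j, Polynomial.eval₂_at_apply] at this
      rw [map_zero]; exact this
    · show limit.π F j (z - a₀) ∈ I j
      rw [map_sub, hz]; exact ha' j

/-- Henselian pairs are preserved under limits: for an inverse system (A_j, I_j) of henselian pairs over
a preordered set J, the limit A = lim A_j with the ideal I = lim I_j (elements all of whose
projections lie in the I_j) is a henselian pair. -/
theorem result (J : Type u) [Preorder J] (F : J ⥤ CommRingCat.{u})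
    (I : ∀ j : J, Ideal (F.obj j))
    (hI : ∀ (i j : J) (φ : i ⟶ j), Ideal.map (F.map φ).hom (I i) ≤ I j)
    (h : ∀ j : J, HenselianRing (F.obj j) (I j)) :
    HenselianRing ((Limits.limit F : CommRingCat.{u}) : Type u)
      (⨅ j : J, Ideal.comap (Limits.limit.π F j).hom (I j)) := by
  exact henselian_limit J F I hI h

end Groth.Agent.S9302
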