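import Groth.Statements.S9303
import Mathlib

set_option autoImplicit false
universe u
open CAlg

namespace Groth.Agent.S9303

section aux
variable {A C : Type u} [CommRing A] [CommRing C] [Algebra A C]

theorem local_facts (f : A) (e : Localization.Away f) (he : IsIdempotentElem e)
    (hloc : IsLocalization.Away e (Localization (Algebra.algebraMapSubmonoid C (Submonoid.powers f)))) :
    ∃ (b : A) (N m : ℕ), (∀ x : A, algebraMap A C x = 0 → ∃ n : ℕ, f ^ n * (b * x) = 0) ∧
      algebraMap A C (f ^ m * b) = algebraMap A C (f ^ m * f ^ N) ∧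
      (∀ u : C, ∃ (k : ℕ) (a : A), algebraMap A C (f ^ k) * u = algebraMap A C a) := by
  haveI := hloc
  let Af := Localization.Away f
  let Cf := Localization (Algebra.algebraMapSubmonoid C (Submonoid.powers f))
  have hcomm : ∀ a : A, algebraMap Af Cf (algebraMap A Af a) = algebraMap C Cf (algebraMap A C a) := fun a => by
    rw [← IsScalarTower.algebraMap_apply A Af Cf, ← IsScalarTower.algebraMap_apply A C Cf]
  have he1 : algebraMap Af Cf e = 1 := by
    have hu : IsUnit (algebraMap Af Cf e) := IsLocalization.Away.algebraMap_isUnit e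
    exact hu.mul_left_cancel (by rw [← map_mul, he, mul_one])
  obtain ⟨⟨b, ⟨_, N, rfl⟩⟩, hb⟩ := IsLocalization.surj (Submonoid.powers f) e
  have hbC : algebraMap C Cf (algebraMap A C b) = algebraMap C Cf (algebraMap A C (f ^ N)) := by
    rw [← hcomm, ← hcomm, ← hb, map_mul, he1, one_mul]
  obtain ⟨⟨_, ⟨_, ⟨m, rfl⟩, rfl⟩⟩, hm⟩ :=
    (IsLocalization.eq_iff_exists (Algebra.algebraMapSubmonoid C (Submonoid.powers f)) Cf).mp hbC
  refine ⟨b, N, m, fun x hx => ?_, by rw [map_mul, map_mul]; exact hm, fun u => ?_⟩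
  · have h1 : algebraMap Af Cf (algebraMap A Af x) = algebraMap Af Cf 0 := by rw [hcomm, hx, map_zero, map_zero]
    obtain ⟨⟨_, n, rfl⟩, hn⟩ := (IsLocalization.eq_iff_exists (Submonoid.powers e) Cf).mp h1
    have h2 : e * algebraMap A Af x = 0 := by
      have := congrArg (e * ·) hn
      simp only [mul_zero] at this
      rwa [← mul_assoc, ← pow_succ', he.pow_succ_eq] at this
    have h3 : algebraMap A Af (b * x) = algebraMap A Af 0 := by
      rw [map_mul, ← hb, mul_right_comm, h2, zero_mul, map_zero]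
    obtain ⟨⟨_, k, rfl⟩, hk⟩ := (IsLocalization.eq_iff_exists (Submonoid.powers f) Af).mp h3
    exact ⟨k, by simpa using hk⟩
  · obtain ⟨⟨α, ⟨_, n, rfl⟩⟩, hα⟩ := IsLocalization.surj (Submonoid.powers e) (algebraMap C Cf u)
    rw [map_pow, he1, one_pow, mul_one] at hα
    obtain ⟨⟨a, ⟨_, k, rfl⟩⟩, ha⟩ := IsLocalization.surj (Submonoid.powers f) α
    have h1 : algebraMap C Cf (algebraMap A C (f ^ k) * u) = algebraMap C Cf (algebraMap A C a) := by
      rw [map_mul, hα, ← hcomm, ← hcomm, ← ha, map_mul, mul_comm]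
    obtain ⟨⟨_, ⟨_, ⟨l, rfl⟩, rfl⟩⟩, hl⟩ :=
      (IsLocalization.eq_iff_exists (Algebra.algebraMapSubmonoid C (Submonoid.powers f)) Cf).mp h1
    refine ⟨l + k, f ^ l * a, ?_⟩
    rw [pow_add, map_mul, map_mul, mul_assoc]
    exact hl

end aux


/-- Let A be a ring, I a finitely generated ideal and A → C a ring map such that for every f ∈ I the map
A_f → C_f is the localization of A_f at an idempotent. Then there is a surjection A → C' (C' = A/K
for an ideal K) such that A_f → (C × C')_f is an isomorphism for every f ∈ I. -/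
theorem result (A : Type u) [CommRing A]
    (I : Ideal A) (hI : I.FG) (C : Type u) [CommRing C] [Algebra A C]
    (h : ∀ f ∈ I, ∃ e : Localization.Away f, IsIdempotentElem e ∧
      IsLocalization.Away e (Localization (Algebra.algebraMapSubmonoid C (Submonoid.powers f)))) :
    ∃ K : Ideal A, ∀ f ∈ I, Function.Bijective
      (algebraMap (Localization.Away f)
        (Localization (Algebra.algebraMapSubmonoid (C × (A ⧸ K)) (Submonoid.powers f)))) := by
  classical
  obtain ⟨G, hG⟩ := hI
  have hGI : ∀ g ∈ G, g ∈ I := fun g hg => hG ▸ Ideal.subset_span hg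
  have hF : ∀ f ∈ I, _ := fun f hf => let ⟨e, he, hl⟩ := h f hf; local_facts (C := C) f e he hl
  choose b N m hb hm hu using hF
  let y : ∀ f ∈ I, A := fun f hf => f ^ (m f hf) * b f hf - f ^ (m f hf) * f ^ (N f hf)
  have hyJ : ∀ f hf, algebraMap A C (y f hf) = 0 := fun f hf => by rw [map_sub, hm f hf, sub_self]
  have hgen : ∀ f hf (x : A), algebraMap A C x = 0 → ∃ (t : ℕ) (c : A), f ^ t * x = c * y f hf := fun f hf x hx => by
    obtain ⟨s, hs⟩ := hb f hf x hx
    exact ⟨s + m f hf + N f hf, -(f ^ s * x), by simp only [y, pow_add]; linear_combination (f ^ (m f hf)) * hs⟩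
  let K : Ideal A :=
    { carrier := {a | ∀ g ∈ G, ∀ x, algebraMap A C x = 0 → ∃ n : ℕ, g ^ n * (a * x) = 0}
      zero_mem' := fun g _ x _ => ⟨0, by simp⟩
      add_mem' := fun {a a'} ha ha' g hg x hx => by
        obtain ⟨n, hn⟩ := ha g hg x hx
        obtain ⟨n', hn'⟩ := ha' g hg x hx
        exact ⟨n + n', by linear_combination (norm := ring_nf) g ^ n' * hn + g ^ n * hn'⟩
      smul_mem' := fun c a ha g hg x hx => by
        obtain ⟨n, hn⟩ := ha g hg x hx
        exact ⟨n, by rw [smul_eq_mul]; linear_combination c * hn⟩ }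
  have hKf : ∀ a ∈ K, ∀ f ∈ I, ∀ x, algebraMap A C x = 0 → ∃ n : ℕ, f ^ n * (a * x) = 0 := by
    intro a ha f hf x hx
    let An : Ideal A := LinearMap.ker (LinearMap.mulRight A (a * x))
    have hle : I ≤ An.radical := by
      rw [← hG]
      refine Ideal.span_le.mpr fun g hg => ?_
      obtain ⟨n, hn⟩ := ha g hg x hx
      exact ⟨n, hn⟩
    obtain ⟨n, hn⟩ := hle hf
    exact ⟨n, hn⟩
  refine ⟨K, fun f hf => ?_⟩
  -- an element of `K` becoming a power of `f` in `C`
  have hM : ∀ g : {g // g ∈ G}, ∃ M : ℕ, f ^ M * (b f hf * y g.1 (hGI g.1 g.2)) = 0 := fun g =>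
    hb f hf _ (hyJ g.1 (hGI g.1 g.2))
  choose M hM using hM
  let M0 := Finset.univ.sup M
  have hbK : f ^ M0 * b f hf ∈ K := by
    intro g hg x hx
    obtain ⟨t, c, htc⟩ := hgen g (hGI g hg) x hx
    obtain ⟨d, hd⟩ := Nat.exists_eq_add_of_le (Finset.le_sup (f := M) (Finset.mem_univ ⟨g, hg⟩))
    refine ⟨t, ?_⟩
    show g ^ t * (f ^ M0 * b f hf * x) = 0
    rw [show M0 = M ⟨g, hg⟩ + d from hd, pow_add]
    linear_combination (f ^ (M ⟨g, hg⟩) * f ^ d * b f hf) * htc + (c * f ^ d) * hM ⟨g, hg⟩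
  let e' := f ^ (m f hf) * (f ^ M0 * b f hf)
  have heK : e' ∈ K := Ideal.mul_mem_left _ _ hbK
  let P := m f hf + M0 + N f hf
  have heC : algebraMap A C e' = algebraMap A C (f ^ P) := by
    rw [show e' = f ^ M0 * (f ^ (m f hf) * b f hf) by simp only [e']; ring, map_mul, hm f hf, ← map_mul]
    congr 1
    simp only [P]; ring
  let T := C × (A ⧸ K)
  let Tf := Localization (Algebra.algebraMapSubmonoid T (Submonoid.powers f))
  let Af := Localization.Away f
  have hcomm : ∀ a : A, algebraMap Af Tf (algebraMap A Af a) = algebraMap T Tf (algebraMap A T a) := fun a => by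
    rw [← IsScalarTower.algebraMap_apply A Af Tf, ← IsScalarTower.algebraMap_apply A T Tf]
  refine ⟨(injective_iff_map_eq_zero _).mpr fun z hz => ?_, fun w => ?_⟩
  · obtain ⟨⟨a, t⟩, hat⟩ := IsLocalization.surj (Submonoid.powers f) z
    have h1 : algebraMap T Tf (algebraMap A T a) = algebraMap T Tf 0 := by
      rw [← hcomm, ← hat, map_mul, hz, zero_mul, map_zero]
    obtain ⟨⟨_, ⟨_, ⟨n, rfl⟩, rfl⟩⟩, hn⟩ :=
      (IsLocalization.eq_iff_exists (Algebra.algebraMapSubmonoid T (Submonoid.powers f)) Tf).mp h1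
    simp only [mul_zero] at hn
    rw [← map_mul] at hn
    have hC : algebraMap A C (f ^ n * a) = 0 := congrArg Prod.fst hn
    have hK : f ^ n * a ∈ K := Ideal.Quotient.eq_zero_iff_mem.mp (congrArg Prod.snd hn)
    obtain ⟨s, hs⟩ := hKf _ hK f hf _ (hyJ f hf)
    obtain ⟨s', hs'⟩ := hb f hf _ hC
    have hz0 : algebraMap A Af a = algebraMap A Af 0 := by
      refine (IsLocalization.eq_iff_exists (Submonoid.powers f) Af).mpr ⟨⟨f ^ (s + s' + m f hf + N f hf + n), _, rfl⟩, ?_⟩
      show f ^ (s + s' + m f hf + N f hf + n) * a = f ^ _ * 0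
      simp only [y] at hs
      rw [mul_zero]
      simp only [pow_add]
      linear_combination (f ^ s * f ^ (m f hf)) * hs' - f ^ s' * hs
    rw [map_zero] at hz0
    rw [hz0] at hat
    exact (IsLocalization.map_units Af t).mul_left_eq_zero.mp hat
  · obtain ⟨⟨x, ⟨_, ⟨_, ⟨n, rfl⟩, rfl⟩⟩⟩, hw⟩ := IsLocalization.surj (Algebra.algebraMapSubmonoid T (Submonoid.powers f)) w
    obtain ⟨u, v⟩ := x
    obtain ⟨v, rfl⟩ := Ideal.Quotient.mk_surjective v
    obtain ⟨k, a, hka⟩ := hu f hf u
    let c := e' * a + (f ^ P - e') * (f ^ k * v)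
    have hc : algebraMap A T (f ^ (P + k)) * (u, Ideal.Quotient.mk K v) = algebraMap A T c := by
      refine Prod.ext ?_ ?_
      · show algebraMap A C (f ^ (P + k)) * u = algebraMap A C c
        simp only [c, map_add, map_mul, map_sub, heC, sub_self, zero_mul, add_zero, pow_add, mul_assoc, hka]
      · show Ideal.Quotient.mk K (f ^ (P + k)) * Ideal.Quotient.mk K v = Ideal.Quotient.mk K c
        simp only [c, map_add, map_mul, map_sub, Ideal.Quotient.eq_zero_iff_mem.mpr heK, zero_mul, zero_add, sub_zero, pow_add]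
        ring
    let tt : Submonoid.powers f := ⟨f ^ (P + k + n), P + k + n, rfl⟩
    refine ⟨IsLocalization.mk' Af c tt, ?_⟩
    have hu' : IsUnit (algebraMap T Tf (algebraMap A T (f ^ (P + k + n)))) := by
      exact IsLocalization.map_units Tf (⟨_, ⟨_, ⟨P + k + n, rfl⟩, rfl⟩⟩ : Algebra.algebraMapSubmonoid T (Submonoid.powers f))
    refine hu'.mul_left_injective ?_
    show _ * _ = w * _
    conv_lhs => rw [← hcomm, ← map_mul, IsLocalization.mk'_spec Af c tt, hcomm, ← hc, map_mul, ← hw]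
    rw [pow_add f (P + k) n, map_mul, map_mul, map_pow, map_pow]
    ring

end Groth.Agent.S9303
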