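import Groth.Statements.S9310
import Groth.Prelude.Def_Coh
import Groth.Prelude.Def_Pic
import Groth.Prelude.Def_CohB1
import Groth.Prelude.Def_Curv2
import Mathlib.AlgebraicGeometry.Morphisms.Proper
import Mathlib.Topology.KrullDimension
import Mathlib.LinearAlgebra.Dimension.Finrank
import Mathlib.RingTheory.AdicCompletion.Algebra
import Mathlib.RingTheory.MvPowerSeries.Basic
import Mathlib.RingTheory.LocalRing.ResidueField.Basic
import Mathlib.FieldTheory.Separable
import Mathlib.RingTheory.Noetherian.Basic
import Mathlib.RingTheory.Nilpotent.GeometricallyReduced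
import Groth.Prelude.Def_EGA41
import Mathlib
import Groth.Agent.Lib.H2CohenField

set_option autoImplicit false
universe u
open CAlg

namespace Groth.Agent.S9310
open CategoryTheory CategoryTheory.Limits AlgebraicGeometry
open IsLocalRing Groth.Agent.H2PowerSeries
set_option backward.isDefEq.respectTransparency.types false

/-- Let K be a field, A = K[[x_1, ..., x_n]], and y_1, ..., y_n ∈ A a regular system of parameters (n
elements generating the maximal ideal). Then the substitution map K[[y_1, ..., y_n]] → A is an
isomorphism: f ↦ f(y_1, ..., y_n) is a bijection of K[[x_1, ..., x_n]] onto itself. -/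
theorem result (K : Type u) [Field K] (n : ℕ)
    (y : Fin n → MvPowerSeries (Fin n) K)
    (hy : Ideal.span (Set.range y) = IsLocalRing.maximalIdeal (MvPowerSeries (Fin n) K)) :
    Function.Bijective (MvPowerSeries.subst y : MvPowerSeries (Fin n) K → MvPowerSeries (Fin n) K) := by
  have hy0 : ∀ i, MvPowerSeries.constantCoeff (y i) = 0 := fun i => by
    by_contra h
    exact (show y i ∈ IsLocalRing.maximalIdeal _ from hy ▸ Ideal.subset_span ⟨i, rfl⟩)
      (MvPowerSeries.isUnit_iff_constantCoeff.2 (isUnit_iff_ne_zero.2 h))
  have ha := MvPowerSeries.hasSubst_of_constantCoeff_zero hy0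
  rw [← MvPowerSeries.coe_substAlgHom ha]
  have hX : ∀ i, MvPowerSeries.substAlgHom (R := K) ha (MvPowerSeries.X i) = y i := fun i => MvPowerSeries.substAlgHom_X ha i
  haveI : IsAdicComplete (IsLocalRing.maximalIdeal (MvPowerSeries (Fin n) K)) (MvPowerSeries (Fin n) K) := by
    rw [maximalIdeal_eq]; infer_instance
  have hs : Function.Surjective (MvPowerSeries.substAlgHom ha) := surjective_of (IsLocalRing.maximalIdeal _) _
    ((congrArg Ideal.span (congrArg Set.range (funext hX))).trans hy) fun z => by
      obtain ⟨f, rfl⟩ := Ideal.Quotient.mk_surjective z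
      refine ⟨MvPowerSeries.constantCoeff f, Ideal.Quotient.eq.2 fun hu => ?_⟩
      simp [MvPowerSeries.isUnit_iff_constantCoeff, MvPowerSeries.algebraMap_apply] at hu
  exact ⟨injective_of_dim (MvPowerSeries.substAlgHom ha).toRingHom hs (regular K n).2, hs⟩

end Groth.Agent.S9310
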