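import Groth.Statements.S9311
import Groth.Prelude.Def_EGA41
import Groth.Prelude.Def_CAlgX
import Groth.Prelude.Def_Found
import Mathlib
import Groth.Agent.S0578
import Groth.Agent.Lib.H2CohenLift
import Groth.Agent.Lib.H2CohenFinite

set_option autoImplicit false
universe u
open CAlg

namespace Groth.Agent.S9311
open IsLocalRing Groth.Agent.H2CohenLift Groth.Agent.H2CohenFinite
set_option backward.isDefEq.respectTransparency.types false

/-- Let Λ be a Cohen ring (a complete discrete valuation ring whose maximal ideal is generated by a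
prime number p), B = Λ[[x_1, ..., x_n]], and y_1, ..., y_n ∈ B with zero constant terms such that p,
y_1, ..., y_n is a regular system of parameters of B (these n + 1 elements generate the maximal
ideal). Then the substitution map Λ[[y_1, ..., y_n]] → B is an isomorphism: f ↦ f(y_1, ..., y_n) is
a bijection of Λ[[x_1, ..., x_n]] onto itself. (The published statement allows the y_i to have
constant terms in pΛ, the substitution being defined through the (p, x)-adic topology of B; this row
asks the constant terms to vanish, the case in which substitution is defined coefficientwise with no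
topology on Λ.) -/
theorem result (Λ : Type u) [CommRing Λ] [IsDomain Λ]
    [IsDiscreteValuationRing Λ] [IsAdicComplete (IsLocalRing.maximalIdeal Λ) Λ] (p : ℕ) (hp : p.Prime)
    (hm : IsLocalRing.maximalIdeal Λ = Ideal.span {(p : Λ)}) (n : ℕ)
    (y : Fin n → MvPowerSeries (Fin n) Λ) (hy0 : ∀ i, MvPowerSeries.constantCoeff (y i) = 0)
    (hy : Ideal.span (insert (p : MvPowerSeries (Fin n) Λ) (Set.range y)) =
      IsLocalRing.maximalIdeal (MvPowerSeries (Fin n) Λ)) :
    Function.Bijective (MvPowerSeries.subst y : MvPowerSeries (Fin n) Λ → MvPowerSeries (Fin n) Λ) := by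
  have ha := MvPowerSeries.hasSubst_of_constantCoeff_zero hy0
  rw [← MvPowerSeries.coe_substAlgHom ha]
  let φ := MvPowerSeries.substAlgHom (R := Λ) ha
  have hX : ∀ i, φ (MvPowerSeries.X i) = y i := fun i => MvPowerSeries.substAlgHom_X ha i
  let P := MvPowerSeries (Fin n) Λ
  let J : Ideal P := Ideal.span (Set.range MvPowerSeries.X)
  have hyJ : Ideal.span (Set.range y) = J := by
    refine le_antisymm (Ideal.span_le.2 (Set.range_subset_iff.2 fun i => Groth.Agent.H2PowerSeries.mem_J (hy0 i))) ?_
    refine Submodule.le_of_le_smul_of_le_jacobson_bot (I := Ideal.span {(p : P)}) (Submodule.fg_span (Set.finite_range _)) ?_ ?_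
    · refine le_trans ?_ (IsLocalRing.maximalIdeal_le_jacobson _)
      rw [Ideal.span_singleton_le_iff_mem, ← hy]
      exact Ideal.subset_span (Set.mem_insert _ _)
    · rw [Ideal.span_le]
      rintro _ ⟨j, rfl⟩
      have hj : (MvPowerSeries.X j : P) ∈ Ideal.span (insert (p : P) (Set.range y)) := by
        rw [hy, maximalIdeal_powerSeries]
        exact Submodule.mem_sup_right (Ideal.subset_span ⟨j, rfl⟩)
      obtain ⟨a, w, hw, hxw⟩ := Ideal.mem_span_insert.1 hj
      have hw0 : MvPowerSeries.constantCoeff w = 0 :=
        (Ideal.span_le.2 (Set.range_subset_iff.2 hy0) : Ideal.span (Set.range y) ≤ RingHom.ker MvPowerSeries.constantCoeff) hw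
      have ha0 : MvPowerSeries.constantCoeff a = 0 := by
        have h := congrArg MvPowerSeries.constantCoeff hxw
        rw [MvPowerSeries.constantCoeff_X, map_add, map_mul, hw0, add_zero, map_natCast] at h
        have hp0 : (p : Λ) ≠ 0 := fun h => IsDiscreteValuationRing.not_a_field Λ (by rw [hm, h, Ideal.span_singleton_eq_bot])
        exact (mul_eq_zero.1 h.symm).resolve_right hp0
      rw [SetLike.mem_coe, Ideal.smul_eq_mul, hxw]
      exact add_mem (Submodule.mem_sup_right (mul_comm (p : P) a ▸ Ideal.mul_mem_mul (Ideal.mem_span_singleton_self _)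
        (Groth.Agent.H2PowerSeries.mem_J ha0))) (Submodule.mem_sup_left hw)
  have hs : Function.Surjective φ := Groth.Agent.H2PowerSeries.surjective_of J φ
    ((congrArg Ideal.span (congrArg Set.range (funext hX))).trans hyJ) fun z => by
      obtain ⟨f, rfl⟩ := Ideal.Quotient.mk_surjective z
      refine ⟨MvPowerSeries.constantCoeff f, Ideal.Quotient.eq.2 (Groth.Agent.H2PowerSeries.mem_J ?_)⟩
      rw [map_sub, sub_eq_zero]
      exact MvPowerSeries.constantCoeff_C _
  refine ⟨?_, hs⟩
  let ψ : P →ₐ[Λ] P := φ
  let K : ℕ →o Ideal P := ⟨fun m => RingHom.ker (ψ ^ m).toRingHom, monotone_nat_of_le_succ fun m x hx => by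
    simp only [RingHom.mem_ker] at hx ⊢
    show (ψ ^ (m + 1)) x = 0
    rw [pow_succ']
    show ψ ((ψ ^ m) x) = 0
    rw [show (ψ ^ m) x = 0 from hx, map_zero]⟩
  obtain ⟨m, hm'⟩ := monotone_stabilizes_iff_noetherian.2 inferInstance K
  rw [injective_iff_map_eq_zero]
  intro x hx
  have hsm : ∀ j : ℕ, Function.Surjective (fun z : P => (ψ ^ j) z) := fun j => by
    induction j with
    | zero => exact fun z => ⟨z, rfl⟩
    | succ j ih => rw [pow_succ]; exact ih.comp hs
  obtain ⟨z, rfl⟩ := hsm m x
  have hz : z ∈ K (m + 1) := by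
    show (ψ ^ (m + 1)) z = 0
    rw [pow_succ']
    exact hx
  rw [← hm' (m + 1) m.le_succ] at hz
  exact hz

end Groth.Agent.S9311
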