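import Groth.Statements.S9315
import Groth.Prelude.Def_CAlgX
import Groth.Prelude.Def_EGA41
import Groth.Agent.Lib.H2AdicTest
import Mathlib

set_option autoImplicit false
universe u
open CAlg

namespace Groth.Agent.S9315
open IsLocalRing
set_option backward.isDefEq.respectTransparency.types false

open IsLocalRing in
/-- Let `R → S` be a local homomorphism of local rings (no Noetherian hypothesis). Then `R → S` is
formally smooth for the adic topology of the maximal ideal of `S` if and only if the following
lifting property holds: for every local ring `A` with a local structure map `R → A`, every ideal `J`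
of `A` of square zero such that some power of the maximal ideal of `A` is zero, and every local
`R`-algebra homomorphism `ψ : S → A/J` inducing a bijection on residue fields, there is an
`R`-algebra homomorphism `S → A` lifting `ψ`. -/
theorem result {R S : Type u} [CommRing R] [CommRing S]
    [IsLocalRing R] [IsLocalRing S] [Algebra R S] [IsLocalHom (algebraMap R S)] :
    CAlgX.IsAdicFormallySmooth R S (maximalIdeal S) ↔
      ∀ (A : Type u) [CommRing A] [IsLocalRing A] [Algebra R A] [IsLocalHom (algebraMap R A)]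
        (J : Ideal A), J ^ 2 = ⊥ → (∃ n : ℕ, maximalIdeal A ^ n = ⊥) →
        ∀ [IsLocalRing (A ⧸ J)] (ψ : S →ₐ[R] A ⧸ J) [IsLocalHom ψ.toRingHom],
          Function.Bijective (ResidueField.map ψ.toRingHom) →
          ∃ χ : S →ₐ[R] A, (Ideal.Quotient.mkₐ R J).comp χ = ψ := by
  constructor
  · intro h A _ _  _ _ J hJ hn0 _ ψ _ _
    obtain ⟨n, hn⟩ := hn0
    refine h A J hJ ψ ⟨n, fun x hx => ?_⟩
    haveI : IsLocalHom (Ideal.Quotient.mk J) := IsLocalHom.of_surjective _ Ideal.Quotient.mk_surjective
    have hle : (maximalIdeal S).map ψ.toRingHom ≤ (maximalIdeal A).map (Ideal.Quotient.mk J) := by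
      rw [Ideal.map_le_iff_le_comap]
      intro y hy
      obtain ⟨c, hc⟩ := Ideal.Quotient.mk_surjective (ψ y)
      show ψ y ∈ (maximalIdeal A).map (Ideal.Quotient.mk J)
      rw [← hc]
      refine Ideal.mem_map_of_mem _ ((mem_maximalIdeal c).2 fun hu => (mem_maximalIdeal y).1 hy ?_)
      exact isUnit_of_map_unit ψ.toRingHom y (by
        show IsUnit (ψ y)
        rw [← hc]; exact hu.map _)
    have h2 := Ideal.pow_right_mono hle n
    rw [← Ideal.map_pow, ← Ideal.map_pow, hn] at h2
    simp only [Ideal.zero_eq_bot, Ideal.map_bot] at h2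
    exact h2 (Ideal.mem_map_of_mem ψ.toRingHom hx)
  · intro H A _ _ J hJ ψ hψ
    obtain ⟨k, hk⟩ := hψ
    obtain ⟨A', _, _, π, q, hπ, hsq, hloc, hpq, -, -⟩ :=
      Groth.Agent.H2AdicTest.exists_pullback J hJ k ψ fun x hx => hk x (Ideal.pow_le_pow_right k.le_succ hx)
    haveI := hloc
    obtain ⟨h1, h2, h3, φ, h4, hb, hφ⟩ := Groth.Agent.H2AdicTest.test_data k π hπ hsq
    haveI := h1
    haveI := h3
    haveI := h4
    obtain ⟨χ, hχ⟩ := H A' _ hsq ⟨_, h2⟩ φ hb
    exact ⟨q.comp χ, AlgHom.ext fun s => hpq _ _ (hφ _ _ (AlgHom.congr_fun hχ s))⟩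

end Groth.Agent.S9315
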