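import Groth.Statements.S9316
import Groth.Prelude.Def_CAlgX
import Groth.Prelude.Def_EGA41
import Groth.Agent.Lib.H2AdicTest
import Mathlib

set_option autoImplicit false
universe u
open CAlg

namespace Groth.Agent.S9316
open IsLocalRing
set_option backward.isDefEq.respectTransparency.types false

open IsLocalRing in
/-- Let `R → S` be a local homomorphism of local rings with `S` Noetherian. Then `R → S` is formally
smooth for the adic topology of the maximal ideal of `S` if and only if lifts exist along small
extensions: for every Artinian local ring `A` with a local structure map `R → A`, every ideal `J` of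
`A` of square zero which has length one as an `A`-module, and every local `R`-algebra homomorphism
`ψ : S → A/J` inducing a bijection on residue fields, there is an `R`-algebra homomorphism `S → A`
lifting `ψ`. -/
theorem result {R S : Type u} [CommRing R] [CommRing S]
    [IsLocalRing R] [IsLocalRing S] [IsNoetherianRing S] [Algebra R S] [IsLocalHom (algebraMap R S)] :
    CAlgX.IsAdicFormallySmooth R S (maximalIdeal S) ↔
      ∀ (A : Type u) [CommRing A] [IsLocalRing A] [IsArtinianRing A] [Algebra R A]
        [IsLocalHom (algebraMap R A)] (J : Ideal A), J ^ 2 = ⊥ → Module.length A J = 1 →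
        ∀ [IsLocalRing (A ⧸ J)] (ψ : S →ₐ[R] A ⧸ J) [IsLocalHom ψ.toRingHom],
          Function.Bijective (ResidueField.map ψ.toRingHom) →
          ∃ χ : S →ₐ[R] A, (Ideal.Quotient.mkₐ R J).comp χ = ψ := by
  constructor
  · intro h A _ _ _ _ _ J hJ _ _ ψ _ _
    obtain ⟨n, hn⟩ := ((isArtinianRing_iff_isNilpotent_maximalIdeal A).1 inferInstance)
    refine h A J hJ ψ ⟨n, fun x hx => ?_⟩
    haveI : IsLocalHom (Ideal.Quotient.mk J) := IsLocalHom.of_surjective _ Ideal.Quotient.mk_surjective
    have hle : (maximalIdeal S).map ψ.toRingHom ≤ (maximalIdeal A).map (Ideal.Quotient.mk J) := by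
      rw [Ideal.map_le_iff_le_comap]
      intro y hy
      obtain ⟨c, hc⟩ := Ideal.Quotient.mk_surjective (ψ y)
      show ψ y ∈ (maximalIdeal A).map (Ideal.Quotient.mk J)
      rw [← hc]
      refine Ideal.mem_map_of_mem _ ((mem_maximalIdeal c).2 fun hu => (mem_maximalIdeal y).1 hy ?_)
      exact isUnit_of_map_unit ψ.toRingHom y (by
        show IsUnit (ψ y)
        rw [← hc]; exact hu.map _)
    have h2 := Ideal.pow_right_mono hle n
    rw [← Ideal.map_pow, ← Ideal.map_pow, hn] at h2
    simp only [Ideal.zero_eq_bot, Ideal.map_bot] at h2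
    exact h2 (Ideal.mem_map_of_mem ψ.toRingHom hx)
  · intro H
    refine Groth.Agent.H2AdicTest.isAdicFormallySmooth_of_length_one fun A _ _ _ _ k π hπ hsq hlen => ?_
    obtain ⟨h1, h2, h3, φ, h4, hb, hφ⟩ := Groth.Agent.H2AdicTest.test_data k π hπ hsq
    haveI := h1
    haveI := h3
    haveI := h4
    obtain ⟨χ, hχ⟩ := H A _ hsq hlen φ hb
    exact ⟨χ, AlgHom.ext fun s => hφ _ _ (AlgHom.congr_fun hχ s)⟩

end Groth.Agent.S9316
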