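import Groth.Statements.S9317
import Groth.Prelude.Def_CAlgX
import Groth.Prelude.Def_EGA41
import Groth.Agent.Lib.H2AdicComplFS
import Mathlib

set_option autoImplicit false
universe u
open CAlg

namespace Groth.Agent.S9317
open IsLocalRing
set_option backward.isDefEq.respectTransparency.types false

/-- Let `R → S` be a ring map, let `𝔪 ⊆ R` and `𝔫 ⊆ S` be finitely generated ideals such that some power
of `𝔪` maps into `𝔫`, and let `R^`, `S^` be the `𝔪`-adic and `𝔫`-adic completions. Let `ψ : R^ → S^`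
be a ring map whose composite with `R → R^` is the composite `R → S → S^` (there is exactly one such
map, the canonical one, since any such map is continuous for the adic topologies). Then `R → S` is
formally smooth for the `𝔫`-adic topology if and only if `R^ → S^`, i.e. `S^` viewed as an
`R^`-algebra through `ψ`, is formally smooth for the adic topology of the extension of `𝔫` to `S^`. -/
theorem result {R S : Type u} [CommRing R] [CommRing S]
    [Algebra R S] (𝔪 : Ideal R) (𝔫 : Ideal S) (h𝔪 : 𝔪.FG) (h𝔫 : 𝔫.FG)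
    (hc : ∃ c : ℕ, (𝔪 ^ c).map (algebraMap R S) ≤ 𝔫)
    (ψ : AdicCompletion 𝔪 R →+* AdicCompletion 𝔫 S)
    (hψ : ψ.comp (algebraMap R (AdicCompletion 𝔪 R)) =
      (algebraMap S (AdicCompletion 𝔫 S)).comp (algebraMap R S)) :
    CAlgX.IsAdicFormallySmooth R S 𝔫 ↔
      letI : Algebra (AdicCompletion 𝔪 R) (AdicCompletion 𝔫 S) := ψ.toAlgebra
      CAlgX.IsAdicFormallySmooth (AdicCompletion 𝔪 R) (AdicCompletion 𝔫 S)
        (𝔫.map (algebraMap S (AdicCompletion 𝔫 S))) := by
  obtain ⟨c, hc⟩ := hc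
  letI : Algebra (AdicCompletion 𝔪 R) (AdicCompletion 𝔫 S) := ψ.toAlgebra
  show _ ↔ CAlgX.IsAdicFormallySmooth (AdicCompletion 𝔪 R) (AdicCompletion 𝔫 S) (𝔫.map (algebraMap S (AdicCompletion 𝔫 S)))
  have hψR : ∀ r : R, ψ (algebraMap R _ r) = algebraMap S _ (algebraMap R S r) := fun r => RingHom.congr_fun hψ r
  have hcS : ∀ (j : ℕ) (r : R), r ∈ 𝔪 ^ (c * j) → algebraMap R S r ∈ 𝔫 ^ j := fun j r hr => by
    refine Ideal.pow_right_mono hc j ?_
    rw [← Ideal.map_pow, ← pow_mul]
    exact Ideal.mem_map_of_mem _ hr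
  have hψj : ∀ (j : ℕ) (x : AdicCompletion 𝔪 R), x ∈ 𝔪.map (algebraMap R (AdicCompletion 𝔪 R)) ^ (c * j) →
      ψ x ∈ 𝔫.map (algebraMap S (AdicCompletion 𝔫 S)) ^ j := fun j x hx => by
    rw [← Ideal.map_pow] at hx
    have h1 := Ideal.mem_map_of_mem ψ hx
    rw [Ideal.map_map] at h1
    refine (Ideal.map_le_iff_le_comap.2 fun r hr => ?_ : (𝔪 ^ (c * j)).map (ψ.comp (algebraMap R _)) ≤ _) h1
    show ψ (algebraMap R _ r) ∈ 𝔫.map (algebraMap S (AdicCompletion 𝔫 S)) ^ j
    rw [hψR]
    exact Groth.Agent.H2AdicComplFS.algebraMap_mem (hcS j r hr)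
  constructor
  · intro h C _ _ J hJ u hu
    obtain ⟨k, hk⟩ := hu
    letI : Algebra R C := ((algebraMap (AdicCompletion 𝔪 R) C).comp (algebraMap R (AdicCompletion 𝔪 R))).toAlgebra
    let u' : S →ₐ[R] C ⧸ J := { u.toRingHom.comp (algebraMap S (AdicCompletion 𝔫 S)) with
      commutes' := fun r => by
        show u (algebraMap S _ (algebraMap R S r)) = _
        rw [← hψR]
        exact u.commutes (algebraMap R _ r) }
    obtain ⟨v, hv⟩ := h C J hJ u' ⟨k, fun s hs => hk _ (Groth.Agent.H2AdicComplFS.algebraMap_mem hs)⟩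
    have hvk : ∀ x ∈ 𝔫 ^ (k * 2), v.toRingHom x = 0 := Groth.Agent.H2AdicComplFS.kill_of_quotient v.toRingHom J _ k 2 hJ
      fun s hs => (AlgHom.congr_fun hv s).trans (hk _ (Groth.Agent.H2AdicComplFS.algebraMap_mem hs))
    obtain ⟨w, hw1, hw2⟩ := Groth.Agent.H2AdicComplFS.exists_extend h𝔫 v.toRingHom (k * 2) hvk
    have hbase : algebraMap (AdicCompletion 𝔪 R) C = w.comp ψ :=
      Groth.Agent.H2AdicComplFS.hom_ext h𝔪 (c * k * 2)
        (Groth.Agent.H2AdicComplFS.kill_of_quotient (algebraMap (AdicCompletion 𝔪 R) C) J _ (c * k) 2 hJ fun x hx => by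
          have := hk _ (hψj k x hx)
          rwa [show ψ x = algebraMap (AdicCompletion 𝔪 R) (AdicCompletion 𝔫 S) x from rfl, u.commutes] at this)
        (fun x hx => hw2 _ (hψj (k * 2) x (by rwa [← mul_assoc])))
        (fun r => by
          show algebraMap R C r = w (ψ (algebraMap R _ r))
          rw [hψR, hw1]
          exact (v.commutes r).symm)
    let wA : AdicCompletion 𝔫 S →ₐ[AdicCompletion 𝔪 R] C := { w with
      commutes' := fun x => (RingHom.congr_fun hbase x).symm }
    refine ⟨wA, AlgHom.ext fun x => ?_⟩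
    have hext := Groth.Agent.H2AdicComplFS.hom_ext h𝔫 (φ := (Ideal.Quotient.mk J).comp w) (ψ := u.toRingHom) (k * 2 + k)
      (fun x hx => by rw [RingHom.comp_apply, hw2 x (Ideal.pow_le_pow_right (Nat.le_add_right _ _) hx), map_zero])
      (fun x hx => hk x (Ideal.pow_le_pow_right (Nat.le_add_left _ _) hx))
      (fun s => by rw [RingHom.comp_apply, hw1]; exact AlgHom.congr_fun hv s)
    exact RingHom.congr_fun hext x
  · intro h C _ _ J hJ u hu
    obtain ⟨k, hk⟩ := hu
    have hgk : ∀ r ∈ 𝔪 ^ (c * k * 2), algebraMap R C r = 0 :=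
      Groth.Agent.H2AdicComplFS.kill_of_quotient (algebraMap R C) J 𝔪 (c * k) 2 hJ fun r hr => by
        have := hk _ (hcS k r hr)
        rwa [u.commutes] at this
    obtain ⟨g, hg1, hg2⟩ := Groth.Agent.H2AdicComplFS.exists_extend h𝔪 (algebraMap R C) (c * k * 2) hgk
    letI : Algebra (AdicCompletion 𝔪 R) C := g.toAlgebra
    obtain ⟨w, hw1, hw2⟩ := Groth.Agent.H2AdicComplFS.exists_extend h𝔫 u.toRingHom k hk
    have hbase : (Ideal.Quotient.mk J).comp g = w.comp ψ :=
      Groth.Agent.H2AdicComplFS.hom_ext h𝔪 (c * k * 2)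
        (fun x hx => by rw [RingHom.comp_apply, hg2 x hx, map_zero])
        (fun x hx => hw2 _ (hψj k x (Ideal.pow_le_pow_right (Nat.le_mul_of_pos_right _ two_pos) hx)))
        (fun r => by
          rw [RingHom.comp_apply, hg1, RingHom.comp_apply, hψR, hw1]
          exact (u.commutes r).symm)
    let wA : AdicCompletion 𝔫 S →ₐ[AdicCompletion 𝔪 R] C ⧸ J := { w with
      commutes' := fun x => (RingHom.congr_fun hbase x).symm }
    obtain ⟨v, hv⟩ := h C J hJ wA ⟨k, hw2⟩
    let vA : S →ₐ[R] C := { v.toRingHom.comp (algebraMap S (AdicCompletion 𝔫 S)) with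
      commutes' := fun r => by
        show v (algebraMap S _ (algebraMap R S r)) = _
        rw [← hψR, ← hg1 r]
        exact v.commutes _ }
    exact ⟨vA, AlgHom.ext fun s => (AlgHom.congr_fun hv _).trans (hw1 s)⟩

end Groth.Agent.S9317
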