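import Mathlib
import Groth.Statements.S9319
import Groth.Agent.Lib.H2PerfectSmooth
-- import your own Groth.Agent.* helpers here

set_option autoImplicit false
universe u
open CAlg

namespace Groth.Agent.S9319

open TensorProduct in
set_option backward.isDefEq.respectTransparency false in
open Algebra Algebra.Generators TensorProduct in
theorem δ_natural {R S T T' : Type u} [CommRing R] [CommRing S] [Algebra R S]
    [CommRing T] [Algebra R T] [Algebra S T] [IsScalarTower R S T]
    [CommRing T'] [Algebra R T'] [Algebra S T'] [IsScalarTower R S T'] [Algebra T T'] [IsScalarTower S T T']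
    (x : Algebra.H1Cotangent S T) :
    Algebra.H1Cotangent.δ R S T' (Algebra.H1Cotangent.map S S T T' x) =
      (IsScalarTower.toAlgHom S T T').toLinearMap.rTensor (Ω[S⁄R]) (Algebra.H1Cotangent.δ R S T x) := by
  obtain ⟨x, hx⟩ := x
  obtain ⟨⟨y, hy⟩, rfl⟩ := Extension.Cotangent.mk_surjective x
  let f := (Generators.defaultHom (Generators.self S T) (Generators.self S T'))
  have hy' : f.toExtensionHom.toAlgHom y ∈ (Generators.self S T').toExtension.ker := by
    show MvPolynomial.aeval (Generators.self S T').val (f.toAlgHom y) = 0
    rw [Generators.Hom.algebraMap_toAlgHom, show MvPolynomial.aeval (Generators.self S T).val y = 0 from hy, map_zero]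
  refine Eq.trans (Generators.H1Cotangent.δ_eq_δAux (Generators.self S T') (Generators.self R S) ⟨_, hy'⟩ ?_) ?_
  · exact (Extension.H1Cotangent.map f.toExtensionHom ⟨Extension.Cotangent.mk ⟨y, hy⟩, hx⟩).2
  erw [Generators.H1Cotangent.δ_eq_δAux]
  show Generators.H1Cotangent.δAux R _ (f.toAlgHom y) = (IsScalarTower.toAlgHom S T T').toLinearMap.rTensor (Ω[S⁄R]) (Generators.H1Cotangent.δAux R _ y)
  clear hx hy hy'
  induction y using MvPolynomial.induction_on with
  | C s => simp [Generators.H1Cotangent.δAux_C]
  | add p q hp hq => simp only [map_add]; exact congr_arg₂ (· + ·) hp hq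
  | mul_X p i hp =>
    rw [map_mul, Generators.Hom.toAlgHom_X, Generators.H1Cotangent.δAux_mul, Generators.H1Cotangent.δAux_mul, hp]
    have hmul : ∀ (a : T) (z : T ⊗[S] Ω[S⁄R]), (IsScalarTower.toAlgHom S T T').toLinearMap.rTensor (Ω[S⁄R]) (a • z) =
        algebraMap T T' a • (IsScalarTower.toAlgHom S T T').toLinearMap.rTensor (Ω[S⁄R]) z := fun a z => by
      induction z with
      | zero => simp
      | tmul b w => simp [TensorProduct.smul_tmul', map_mul, Algebra.smul_def]
      | add z w hz hw => simp only [smul_add, map_add, hz, hw]
    simp only [Generators.H1Cotangent.δAux_X, smul_zero, zero_add, map_add, map_zero]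
    have hval : f.val i = MvPolynomial.X (algebraMap T T' i) := by simp [f, Generators.defaultHom]
    rw [hval]
    erw [Generators.H1Cotangent.δAux_X]
    simp only [smul_zero, zero_add]
    have h1 : ∀ (j : T') (z : T' ⊗[S] Ω[S⁄R]), (show (Generators.self S T').Ring from MvPolynomial.X j) • z = j • z := fun j z => by
      rw [← IsScalarTower.algebraMap_smul (R := (Generators.self S T').Ring) T']
      simp
    have h2 : ∀ (j : T) (z : T ⊗[S] Ω[S⁄R]), (show (Generators.self S T).Ring from MvPolynomial.X j) • z = j • z := fun j z => by
      rw [← IsScalarTower.algebraMap_smul (R := (Generators.self S T).Ring) T]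
      simp
    erw [h1, h2, hmul]

/-- For a tower of fields `K ⊆ L ⊆ M`, the first map of the Jacobi–Zariski sequence, from `H_1(L_{L/K})
⊗_L M` to `H_1(L_{M/K})`, is injective; here `H_1(L)` denotes the first homology of the naive
cotangent complex and the map is the `M`-linear extension of the functoriality map. (The rest of the
six-term sequence is exact for any three rings, so for fields it is exact with a zero on the left.) -/
theorem result {K L M : Type u} [Field K] [Field L]
    [Field M] [Algebra K L] [Algebra L M] [Algebra K M] [IsScalarTower K L M] :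
    Function.Injective ((Algebra.H1Cotangent.map K K L M).liftBaseChange M) := by
  let F := (⊥ : Subfield K)
  haveI : PerfectField F := by
    obtain ⟨q, hq⟩ := ExpChar.exists K
    haveI := hq
    cases hq with
    | zero =>
      haveI : CharZero F := (algebraMap F K).charZero
      infer_instance
    | prime hp =>
      haveI := Fact.mk hp
      haveI : CharP F q := (algebraMap F K).charP Subtype.val_injective q
      haveI : ExpChar F q := ExpChar.prime hp
      haveI : PerfectRing F q := PerfectRing.ofSurjective F q fun a => by
        let E : Subfield K := RingHom.eqLocusField (frobenius K q) (RingHom.id K)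
        exact ⟨a, Subtype.ext ((bot_le : (⊥ : Subfield K) ≤ E) a.2)⟩
      exact PerfectRing.toPerfectField F q
  haveI : IsScalarTower F L M := IsScalarTower.of_algebraMap_eq fun x => IsScalarTower.algebraMap_apply K L M (x : K)
  have hinj : ∀ (E : Type u) [Field E] [Algebra K E],
      Function.Injective (Algebra.H1Cotangent.δ F K E) := fun E _ _ => by
    haveI := H2PerfectSmooth.formallySmooth F E
    rw [injective_iff_map_eq_zero]
    intro x hx
    obtain ⟨y, rfl⟩ := (Algebra.H1Cotangent.exact_map_δ F K E x).mp hx
    rw [Subsingleton.elim y 0, map_zero]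
  let ψ := (IsScalarTower.toAlgHom K L M).toLinearMap.rTensor (Ω[K⁄F])
  have hψ : ∀ (m : M) (y : TensorProduct K L (Ω[K⁄F])),
      TensorProduct.AlgebraTensorModule.cancelBaseChange K L M M (Ω[K⁄F]) (m ⊗ₜ[L] y) = m • ψ y := fun m y => by
    induction y with
    | zero => simp
    | tmul b w => simp [ψ, TensorProduct.smul_tmul', Algebra.smul_def, mul_comm]
    | add z w hz hw => simp only [TensorProduct.tmul_add, map_add, hz, hw, smul_add]
  have key : ∀ z, Algebra.H1Cotangent.δ F K M ((Algebra.H1Cotangent.map K K L M).liftBaseChange M z) =
      TensorProduct.AlgebraTensorModule.cancelBaseChange K L M M (Ω[K⁄F]) ((Algebra.H1Cotangent.δ F K L).baseChange M z) := fun z => by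
    induction z with
    | zero => simp
    | tmul m x => rw [LinearMap.liftBaseChange_tmul, map_smul, δ_natural, LinearMap.baseChange_tmul, hψ]
    | add z w hz hw => simp only [map_add, hz, hw]
  intro a b h
  have h1 := congrArg (Algebra.H1Cotangent.δ F K M) h
  rw [key, key] at h1
  exact Module.Flat.lTensor_preserves_injective_linearMap (M := M) _ (hinj L)
    ((TensorProduct.AlgebraTensorModule.cancelBaseChange K L M M (Ω[K⁄F])).injective h1)

end Groth.Agent.S9319
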