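import Groth.Statements.S9323
import Groth.Prelude.Def_EGA41
import Groth.Prelude.Def_CAlgX
import Groth.Prelude.Def_Found
import Mathlib
import Groth.Agent.S0578
import Groth.Agent.Lib.H2CohenLift
import Groth.Agent.Lib.H2CohenFinite

set_option autoImplicit false
open CAlg

namespace Groth.Agent.S9323
open IsLocalRing Groth.Agent.H2CohenLift Groth.Agent.H2CohenFinite
set_option backward.isDefEq.respectTransparency.types false

/-- Let `Λ` be a Cohen ring (a complete discrete valuation ring whose maximal ideal is generated by a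
prime number) and `n ≥ 0`. Then `ℤ → Λ[[x_1, …, x_n]]` is formally smooth for the adic topology of
the maximal ideal of the power series ring. (`Λ` is taken in the lowest universe, where `ℤ` lives.) -/
theorem result (Λ : Type) [CommRing Λ] [IsLocalRing Λ]
    (hΛ : CAlg.IsCohenRing Λ) (n : ℕ) :
    CAlgX.IsAdicFormallySmooth ℤ (MvPowerSeries (Fin n) Λ)
      (IsLocalRing.maximalIdeal (MvPowerSeries (Fin n) Λ)) := by
  obtain ⟨hd, hdvr, hcomp, p, hp, hm⟩ := hΛ
  haveI := hd
  haveI := hdvr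
  intro A _ _ J hJ ψ ⟨k, hk⟩
  let P := MvPowerSeries (Fin n) Λ
  have hJp : ∀ x : A, Ideal.Quotient.mk J x ^ k = 0 → x ^ (2 * k) = 0 := fun x hx => by
    rw [← map_pow, Ideal.Quotient.eq_zero_iff_mem] at hx
    rw [mul_comm, pow_mul, ← Ideal.mem_bot, ← hJ]
    exact Ideal.pow_mem_pow hx 2
  have hker : ∀ z ∈ maximalIdeal P, ψ z ^ k = 0 := fun z hz => by rw [← map_pow]; exact hk _ (Ideal.pow_mem_pow hz k)
  have hpA : IsNilpotent (p : A) := ⟨2 * k, hJp _ (by
    rw [map_natCast, ← map_natCast ψ]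
    refine hker _ ?_
    rw [maximalIdeal_powerSeries, ← map_natCast (MvPowerSeries.C : Λ →+* P)]
    exact Submodule.mem_sup_left (Ideal.mem_map_of_mem _ (hm ▸ Ideal.mem_span_singleton_self _)))⟩
  obtain ⟨g, hg⟩ := hasLift_cohen Λ p hp hm A J hJ hpA (ψ.toRingHom.comp MvPowerSeries.C)
  letI : Algebra Λ A := g.toAlgebra
  choose t ht using fun i => Ideal.Quotient.mk_surjective (ψ (MvPowerSeries.X i))
  have htn : ∀ i, IsNilpotent (t i) := fun i => ⟨2 * k, hJp _ (by
    rw [ht]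
    refine hker _ ?_
    rw [maximalIdeal_powerSeries]
    exact Submodule.mem_sup_right (Ideal.subset_span ⟨i, rfl⟩))⟩
  let I : Ideal A := Ideal.span (Set.range t)
  have hIle : I ≤ (⊥ : Ideal A).radical := Ideal.span_le.2 (Set.range_subset_iff.2 fun i => by
    obtain ⟨m, hm⟩ := htn i
    exact ⟨m, hm⟩)
  obtain ⟨N, hN⟩ := Ideal.exists_pow_le_of_le_radical_of_fg hIle (Submodule.fg_span (Set.finite_range t))
  haveI := Groth.Agent.H2PowerSeries.isAdicComplete_of_pow I (le_bot_iff.1 hN)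
  obtain ⟨φ, hφ, -⟩ := Groth.Agent.H2PowerSeries.exists_aeval (R := Λ) I t (fun i => Ideal.subset_span ⟨i, rfl⟩)
  let φ1 : P →ₐ[Λ] A ⧸ J := (Ideal.Quotient.mkₐ Λ J).comp φ
  let φ2 : P →ₐ[Λ] A ⧸ J := { toRingHom := ψ.toRingHom, commutes' := fun a => (RingHom.congr_fun hg a).symm }
  let I' : Ideal (A ⧸ J) := I.map (Ideal.Quotient.mk J)
  haveI := Groth.Agent.H2PowerSeries.isAdicComplete_of_pow I' (N := N)
    (by rw [← Ideal.map_pow, le_bot_iff.1 hN, Ideal.map_bot])
  have heq : φ1 = φ2 := Groth.Agent.H2PowerSeries.ext_of_X I'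
    (fun i => by
      show Ideal.Quotient.mk J (φ (MvPowerSeries.X i)) ∈ I'
      rw [hφ]
      exact Ideal.mem_map_of_mem _ (Ideal.subset_span ⟨i, rfl⟩))
    fun i => by
      show Ideal.Quotient.mk J (φ (MvPowerSeries.X i)) = ψ (MvPowerSeries.X i)
      rw [hφ, ht]
  let χ : P →ₐ[ℤ] A :=
    { toRingHom := φ.toRingHom, commutes' := fun r => RingHom.congr_fun (Subsingleton.elim (φ.toRingHom.comp (algebraMap ℤ P)) (algebraMap ℤ A)) r }
  exact ⟨χ, AlgHom.ext fun z => AlgHom.congr_fun heq z⟩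

end Groth.Agent.S9323
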