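import Groth.Statements.S9330
import Mathlib
import Groth.Prelude.Def_Hens2

set_option autoImplicit false
universe u
open Hensel

namespace Groth.Agent.S9330
open Polynomial
set_option maxHeartbeats 1000000
set_option synthInstance.maxHeartbeats 400000
set_option backward.isDefEq.respectTransparency.types false

/-- Let `(A_i, I_i)` be a directed system of pairs (rings `A_i` with ideals `I_i`, the transition maps
sending `I_i` into `I_j`), with colimit ring `A` and `I ⊆ A` the ideal generated by (equivalently,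
the union of) the images of the `I_i`. For each `i` let `B_i` be a henselization of the pair `(A_i,
I_i)`, with the compatible transition maps `B_i → B_j` over `A_i → A_j` (these are the induced ones,
being unique), and give the colimit of the `B_i` the `A`-algebra structure induced by the maps `A_i
→ B_i`. Then `colim B_i`, with the extension of `I`, is a henselization of the pair `(A, I)`. (The
index set is taken in the universe of the rings; the statement fails for non-filtered colimits.) -/
theorem result {ι : Type u} [Preorder ι] [IsDirectedOrder ι] [Nonempty ι]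
    (G : ι → Type u) [∀ i, CommRing (G i)] (f : ∀ i j : ι, i ≤ j → (G i →+* G j))
    [DirectedSystem G (fun i j h => f i j h)] (I : ∀ i, Ideal (G i))
    (hI : ∀ (i j : ι) (h : i ≤ j), (I i).map (f i j h) ≤ I j)
    (B : ι → Type u) [∀ i, CommRing (B i)] [∀ i, Algebra (G i) (B i)]
    (hB : ∀ i, Hens2.IsPairHenselization (G i) (I i) (B i))
    (g : ∀ i j : ι, i ≤ j → (B i →+* B j)) [DirectedSystem B (fun i j h => g i j h)]
    (hg : ∀ (i j : ι) (h : i ≤ j), (g i j h).comp (algebraMap (G i) (B i)) = (algebraMap (G j) (B j)).comp (f i j h))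
    [Algebra (DirectLimit G f) (DirectLimit B g)]
    (halg : ∀ (i : ι) (x : G i), algebraMap (DirectLimit G f) (DirectLimit B g) (DirectLimit.Ring.of G f i x) =
      DirectLimit.Ring.of B g i (algebraMap (G i) (B i) x)) :
    Hens2.IsPairHenselization (DirectLimit G f) (⨆ i, (I i).map (DirectLimit.Ring.of G f i))
      (DirectLimit B g) := by
  let oG := fun i => DirectLimit.Ring.of G f i
  let oB := fun i => DirectLimit.Ring.of B g i
  let J : ∀ i, Ideal (B i) := fun i => (I i).map (algebraMap (G i) (B i))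
  have hJ : ∀ i j (h : i ≤ j), (J i).map (g i j h) ≤ J j := fun i j h => by
    rw [Ideal.map_map, hg i j h, ← Ideal.map_map]
    exact Ideal.map_mono (hI i j h)
  have hof : ∀ i j (h : i ≤ j) (x : B i), oB j (g i j h x) = oB i x := fun i j h x => DirectLimit.Ring.of_f (f := g) h x
  let T : Ideal (DirectLimit B g) := (⨆ i, (I i).map (oG i)).map (algebraMap (DirectLimit G f) (DirectLimit B g))
  have hcomp : ∀ i, (algebraMap (DirectLimit G f) (DirectLimit B g)).comp (oG i) = (oB i).comp (algebraMap (G i) (B i)) :=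
    fun i => RingHom.ext (halg i)
  have hT : T = ⨆ i, (J i).map (oB i) := by
    show Ideal.map _ (⨆ i, (I i).map (oG i)) = _
    rw [Ideal.map_iSup]
    refine iSup_congr fun i => ?_
    rw [Ideal.map_map, hcomp i, ← Ideal.map_map]
  have hrep : ∀ x ∈ T, ∃ i, ∃ z ∈ J i, oB i z = x := by
    let S : Ideal (DirectLimit B g) :=
      { carrier := {x | ∃ i, ∃ z ∈ J i, oB i z = x}
        zero_mem' := ⟨Classical.arbitrary ι, 0, zero_mem _, map_zero _⟩
        add_mem' := fun {x y} hx hy => by
          obtain ⟨i, a, ha, rfl⟩ := hx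
          obtain ⟨j, b, hb, rfl⟩ := hy
          obtain ⟨k, hik, hjk⟩ := exists_ge_ge i j
          exact ⟨k, g i k hik a + g j k hjk b, add_mem (hJ i k hik (Ideal.mem_map_of_mem _ ha)) (hJ j k hjk (Ideal.mem_map_of_mem _ hb)),
            by rw [map_add, hof, hof]⟩
        smul_mem' := fun c x hx => by
          obtain ⟨i, a, ha, rfl⟩ := hx
          obtain ⟨j, b, rfl⟩ := DirectLimit.exists_eq_mk _ c
          obtain ⟨k, hik, hjk⟩ := exists_ge_ge i j
          refine ⟨k, g j k hjk b * g i k hik a, Ideal.mul_mem_left _ _ (hJ i k hik (Ideal.mem_map_of_mem _ ha)), ?_⟩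
          rw [map_mul, hof, hof]
          rfl }
    intro x hx
    rw [hT] at hx
    have hle : ⨆ i, (J i).map (oB i) ≤ S :=
      iSup_le fun i => Ideal.map_le_iff_le_comap.2 fun z hz => ⟨i, z, hz, rfl⟩
    exact hle hx
  have heq : ∀ i (x y : B i), oB i x = oB i y → ∃ j, ∃ h : i ≤ j, g i j h x = g i j h y := fun i x y h => by
    obtain ⟨j, h1, _, h2⟩ := Quotient.exact h
    exact ⟨j, h1, h2⟩
  have hrel : ∀ i (x : B i), oB i x ∈ T → ∃ j, ∃ h : i ≤ j, g i j h x ∈ J j := fun i x hx => by
    obtain ⟨j, z, hz, hzx⟩ := hrep _ hx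
    obtain ⟨k, hik, hjk⟩ := exists_ge_ge i j
    obtain ⟨l, hkl, hl⟩ := heq k (g j k hjk z) (g i k hik x) (by rw [hof, hof, hzx])
    refine ⟨l, hik.trans hkl, ?_⟩
    have e : g i l (hik.trans hkl) x = g k l hkl (g i k hik x) := (DirectedSystem.map_map' (f := fun i j h => g i j h) hik hkl x).symm
    rw [e, ← hl]
    exact hJ k l hkl (Ideal.mem_map_of_mem _ (hJ j k hjk (Ideal.mem_map_of_mem _ hz)))
  have hTB : ∀ i z, z ∈ J i → oB i z ∈ T := fun i z hz => by
    rw [hT]; exact Ideal.mem_iSup_of_mem i (Ideal.mem_map_of_mem _ hz)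
  refine ⟨⟨fun x hx => ?_, fun p hp a₀ h₁ h₂ => ?_⟩, fun C _ K φ hC hφ => ?_⟩
  · rw [Ideal.mem_jacobson_bot]
    intro y
    obtain ⟨i, z, hz, rfl⟩ := hrep x hx
    obtain ⟨j, b, rfl⟩ := DirectLimit.exists_eq_mk _ y
    obtain ⟨k, hik, hjk⟩ := exists_ge_ge i j
    have hu := Ideal.mem_jacobson_bot.1 ((hB k).1.jac (hJ i k hik (Ideal.mem_map_of_mem _ hz))) (g j k hjk b)
    have := hu.map (oB k)
    rw [map_add, map_mul, hof, hof, map_one] at this
    exact this
  · classical
    have hlift : ∀ q : (DirectLimit B g)[X], ∃ i, q ∈ Polynomial.lifts (oB i) := fun q => by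
      induction q using Polynomial.induction_on' with
      | add q r hq hr =>
        obtain ⟨i, q', rfl⟩ := hq
        obtain ⟨j, r', rfl⟩ := hr
        obtain ⟨k, hik, hjk⟩ := exists_ge_ge i j
        refine ⟨k, q'.map (g i k hik) + r'.map (g j k hjk), ?_⟩
        show Polynomial.map (oB k) _ = Polynomial.map (oB i) q' + Polynomial.map (oB j) r'
        rw [Polynomial.map_add, Polynomial.map_map, Polynomial.map_map]
        congr 2 <;> exact RingHom.ext fun x => hof _ _ _ x
      | monomial n c =>
        obtain ⟨i, b, rfl⟩ := DirectLimit.exists_eq_mk _ c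
        exact ⟨i, monomial n b, Polynomial.map_monomial _⟩
    rcases subsingleton_or_nontrivial (DirectLimit B g) with hs | hs
    · exact ⟨a₀, Subsingleton.elim _ _, by rw [sub_self]; exact zero_mem _⟩
    obtain ⟨i0, hi0⟩ := hlift p
    obtain ⟨P, hP, -, hPm⟩ := Polynomial.lifts_and_degree_eq_and_monic hi0 hp
    obtain ⟨j0, b0, rfl⟩ := DirectLimit.exists_eq_mk _ a₀
    obtain ⟨c, hc⟩ := h₂.exists_left_inv
    obtain ⟨c, rfl⟩ := Ideal.Quotient.mk_surjective c
    rw [← map_mul, ← (Ideal.Quotient.mk _).map_one, Ideal.Quotient.eq] at hc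
    obtain ⟨j1, c1, rfl⟩ := DirectLimit.exists_eq_mk _ c
    obtain ⟨k0, hi0k, hj0k⟩ := exists_ge_ge i0 j0
    obtain ⟨k, hk0k, hj1k⟩ := exists_ge_ge k0 j1
    let P' := P.map (g i0 k (hi0k.trans hk0k))
    let b := g j0 k (hj0k.trans hk0k) b0
    have hP' : P'.map (oB k) = p := by
      rw [Polynomial.map_map, ← hP]
      congr 1
      exact RingHom.ext fun x => hof _ _ _ x
    have hb : oB k b = ⟦⟨j0, b0⟩⟧ := hof _ _ _ _
    have hev : oB k (P'.eval b) = p.eval ⟦⟨j0, b0⟩⟧ := by rw [← hP', ← hb, Polynomial.eval_map_apply]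
    have hev' : oB k (P'.derivative.eval b) = p.derivative.eval ⟦⟨j0, b0⟩⟧ := by
      rw [← hP', ← hb, derivative_map P' (oB k), Polynomial.eval_map_apply]
    obtain ⟨l, hkl, hl⟩ := hrel k (P'.eval b) (by rw [hev]; exact h₁)
    obtain ⟨l', hkl', hl'⟩ := hrel k (g j1 k hj1k c1 * P'.derivative.eval b - 1) (by
      rw [map_sub, map_mul, map_one, hev', hof]; exact hc)
    obtain ⟨n, hln, hl'n⟩ := exists_ge_ge l l'
    haveI := (hB n).1
    have hkn : k ≤ n := hkl.trans hln
    have e1 : g k n hkn (P'.eval b) ∈ J n := by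
      rw [show g k n hkn (P'.eval b) = g l n hln (g k l hkl (P'.eval b)) from (DirectedSystem.map_map' (f := fun i j h => g i j h) hkl hln _).symm]
      exact hJ l n hln (Ideal.mem_map_of_mem _ hl)
    have e2 : g k n hkn (g j1 k hj1k c1 * P'.derivative.eval b - 1) ∈ J n := by
      rw [show g k n hkn (g j1 k hj1k c1 * P'.derivative.eval b - 1) = g l' n hl'n (g k l' hkl' (g j1 k hj1k c1 * P'.derivative.eval b - 1)) from
        (DirectedSystem.map_map' (f := fun i j h => g i j h) hkl' hl'n _).symm]
      exact hJ l' n hl'n (Ideal.mem_map_of_mem _ hl')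
    obtain ⟨a, ha, haJ⟩ := HenselianRing.is_henselian (I := J n) (P'.map (g k n hkn)) ((hPm.map _).map _) (g k n hkn b)
      (by rw [Polynomial.eval_map_apply]; exact e1) (by
        rw [derivative_map P' (g k n hkn), Polynomial.eval_map_apply]
        refine IsUnit.of_mul_eq_one (Ideal.Quotient.mk _ (g k n hkn (g j1 k hj1k c1))) ?_
        rw [← map_mul, ← (Ideal.Quotient.mk _).map_one, Ideal.Quotient.eq]
        rw [map_sub, map_mul, map_one] at e2
        rwa [mul_comm])
    refine ⟨oB n a, ?_, ?_⟩
    · have : p = (P'.map (g k n hkn)).map (oB n) := by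
        rw [← hP', Polynomial.map_map (g k n hkn)]
        congr 1
        exact RingHom.ext fun x => (hof _ _ _ x).symm
      rw [this]
      exact ha.map
    · have := hTB n _ haJ
      rw [map_sub, hof, hb] at this
      exact this
  · haveI := hC
    have hφi : ∀ i, (I i).map (φ.comp (oG i)) ≤ K := fun i => by
      rw [← Ideal.map_map]
      exact (Ideal.map_mono (le_iSup (fun i => (I i).map (oG i)) i)).trans hφ
    choose h hh hu using fun i => (hB i).2 C K (φ.comp (oG i)) hC (hφi i)
    have hcompat : ∀ i j hij x, h j (g i j hij x) = h i x := fun i j hij x => RingHom.congr_fun (hu i ((h j).comp (g i j hij)) (by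
      show ((h j).comp (g i j hij)).comp (algebraMap (G i) (B i)) = φ.comp (oG i)
      rw [RingHom.comp_assoc, hg i j hij, ← RingHom.comp_assoc, hh j, RingHom.comp_assoc]
      exact congrArg φ.comp (RingHom.ext fun z => DirectLimit.Ring.of_f (f := f) hij z))) x
    refine ⟨DirectLimit.Ring.lift B g C h hcompat, ?_, fun H hH => ?_⟩
    · refine DirectLimit.Ring.hom_ext _ fun i => ?_
      rw [RingHom.comp_assoc, hcomp i, ← RingHom.comp_assoc]
      exact hh i
    · refine DirectLimit.Ring.hom_ext _ fun i => ?_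
      rw [show (DirectLimit.Ring.lift B g C h hcompat).comp (DirectLimit.Ring.of B g i) = h i from rfl]
      refine hu i _ ?_
      show (H.comp (oB i)).comp (algebraMap (G i) (B i)) = φ.comp (oG i)
      rw [RingHom.comp_assoc, ← hcomp i, ← RingHom.comp_assoc, hH]

end Groth.Agent.S9330
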