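import Groth.Statements.S9343
import Mathlib

set_option autoImplicit false
universe u
open Dom

namespace Groth.Agent.S9343
open AlgebraicGeometry CategoryTheory Limits TopologicalSpace

open AlgebraicGeometry CategoryTheory in
/-- The base change of a quasi-compact dominant morphism f : X → S along a morphism g : S' → S along
which generalizations lift is dominant. -/
theorem result {X S X' S' : Scheme.{u}} (f : X ⟶ S) [QuasiCompact f] [IsDominant f]
    (g : S' ⟶ S) (g' : X' ⟶ X) (f' : X' ⟶ S') (hsq : IsPullback g' f' f g) (hg : GeneralizingMap g.base) :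
    IsDominant f' := by
  have key : ∀ s : S, ∃ x : X, f x ⤳ s := by
    intro s
    obtain ⟨_, ⟨V, hV, rfl⟩, hsV, -⟩ := S.isBasis_affineOpens.exists_subset_of_mem_open (Set.mem_univ s) isOpen_univ
    change IsAffineOpen V at hV
    haveI : CompactSpace (Scheme.Opens.toScheme (f ⁻¹ᵁ V)) := isCompact_iff_compactSpace.1 (f.isCompact_preimage hV.isCompact)
    obtain ⟨R, π, hπ⟩ := compactSpace_iff_exists.1 (inferInstance : CompactSpace (Scheme.Opens.toScheme (f ⁻¹ᵁ V)))
    let h : Spec R ⟶ Spec Γ(S, V) := π ≫ (f ∣_ V) ≫ hV.isoSpec.hom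
    obtain ⟨φ, hφ⟩ : ∃ φ, Spec.map φ = h := ⟨_, Spec.map_preimage h⟩
    have hcomp : h ≫ hV.fromSpec = π ≫ (Scheme.Opens.ι (f ⁻¹ᵁ V)) ≫ f := by
      simp only [h, Category.assoc, IsAffineOpen.isoSpec_hom_fromSpec, morphismRestrict_ι]
    have hrange : hV.fromSpec ⁻¹' (Set.range f) ⊆ Set.range h := by
      rintro p ⟨x, hx⟩
      have hxV : x ∈ f ⁻¹ᵁ V := by
        show f x ∈ V
        rw [hx, ← SetLike.mem_coe, ← hV.range_fromSpec]; exact ⟨p, rfl⟩
      obtain ⟨r, hr⟩ := hπ ⟨x, hxV⟩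
      refine ⟨r, hV.fromSpec.isOpenEmbedding.injective ?_⟩
      rw [← Scheme.Hom.comp_apply, hcomp, Scheme.Hom.comp_apply, hr]
      exact hx
    have hden : DenseRange h := (f.denseRange.preimage hV.fromSpec.isOpenEmbedding.isOpenMap).mono hrange
    rw [← hφ] at hden
    obtain ⟨p, hp⟩ : ∃ p, hV.fromSpec p = s := by
      rw [← Set.mem_range, hV.range_fromSpec]; exact hsV
    haveI := p.isPrime
    obtain ⟨q, hq, hqp⟩ := Ideal.exists_minimalPrimes_le (I := (⊥ : Ideal Γ(S, V))) (J := p.asIdeal) bot_le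
    obtain ⟨r, hr⟩ := (PrimeSpectrum.denseRange_comap_iff_minimalPrimes φ.hom).1 hden q hq
    let r' : Spec R := r
    refine ⟨(Scheme.Opens.ι (f ⁻¹ᵁ V)) (π r'), ?_⟩
    have e : f ((Scheme.Opens.ι (f ⁻¹ᵁ V)) (π r')) = hV.fromSpec ((Spec.map φ) r') := by
      have := congr($hcomp r')
      simp only [Scheme.Hom.comp_apply] at this
      rw [hφ]; exact this.symm
    rw [e, ← hp]
    refine Specializes.map ?_ hV.fromSpec.continuous
    refine (PrimeSpectrum.le_iff_specializes _ _).1 ?_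
    show (PrimeSpectrum.comap φ.hom r).asIdeal ≤ p.asIdeal
    rw [hr]; exact hqp
  refine ⟨fun s' => ?_⟩
  obtain ⟨x, hx⟩ := key (g s')
  obtain ⟨z, hz, hgz⟩ := hg hx
  obtain ⟨p, hp1, hp2⟩ := Scheme.Pullback.exists_preimage_pullback (f := f) (g := g) x z hgz.symm
  refine hz.mem_closed isClosed_closure (subset_closure ⟨hsq.isoPullback.inv p, ?_⟩)
  rw [← Scheme.Hom.comp_apply, hsq.isoPullback_inv_snd, hp2]

end Groth.Agent.S9343
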