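import Groth.Statements.S9344
import Mathlib

set_option autoImplicit false
universe u
open Dom

namespace Groth.Agent.S9344
open AlgebraicGeometry CategoryTheory TopologicalSpace Limits

open AlgebraicGeometry CategoryTheory in
/-- The base change of a dominant morphism f : X → S along an open morphism g : S' → S is dominant. -/
theorem result {X S X' S' : Scheme.{u}} (f : X ⟶ S) [IsDominant f]
    (g : S' ⟶ S) (g' : X' ⟶ X) (f' : X' ⟶ S') (hsq : IsPullback g' f' f g) (hg : IsOpenMap g.base) :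
    IsDominant f' := by
  refine ⟨dense_iff_inter_open.2 fun W hW ⟨w, hw⟩ => ?_⟩
  obtain ⟨_, ⟨x, rfl⟩, ⟨z, hz, hzx⟩⟩ := dense_iff_inter_open.1 f.denseRange _ (hg _ hW) ⟨_, w, hw, rfl⟩ |> fun ⟨p, h1, h2⟩ => (⟨p, h2, h1⟩ : ∃ p, p ∈ Set.range f ∧ p ∈ g.base '' W)
  obtain ⟨p, hp1, hp2⟩ := Scheme.Pullback.exists_preimage_pullback (f := f) (g := g) x z hzx.symm
  refine ⟨z, hz, hsq.isoPullback.inv p, ?_⟩
  rw [← Scheme.Hom.comp_apply, hsq.isoPullback_inv_snd]
  exact hp2

end Groth.Agent.S9344
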