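import Groth.Statements.S9345
import Groth.Prelude.Def_CInt
import Groth.Prelude.Def_Pi1
import Groth.Prelude.Def_Flat
import Mathlib

set_option autoImplicit false
universe u
open Dom

namespace Groth.Agent.S9345
open CategoryTheory CategoryTheory.Limits AlgebraicGeometry TopologicalSpace Opposite

open AlgebraicGeometry CategoryTheory in
/-- For a morphism f : X → S whose source has only finitely many irreducible components, the image of f
is dense exactly when it contains the generic point of each irreducible component of S, and then S
too has finitely many. -/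
theorem result {X S : Scheme.{u}} (f : X ⟶ S)
    (hX : (irreducibleComponents (↑X : Type u)).Finite) :
    (IsDominant f ↔ ∀ s : ↑S, closure {s} ∈ irreducibleComponents (↑S : Type u) → s ∈ Set.range f.base) ∧
      (IsDominant f → (irreducibleComponents (↑S : Type u)).Finite) := by
  have key : IsDominant f → ∀ s : ↑S, closure {s} ∈ irreducibleComponents (↑S : Type u) →
      ∃ C ∈ irreducibleComponents (↑X : Type u), ∃ η, IsGenericPoint η C ∧ f.base η = s := by
    intro hf s hs
    have hcl : Dense (Set.range f.base) := f.denseRange
    let g : (irreducibleComponents (↑X : Type u)) → ↑S := fun C =>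
      f.base (QuasiSober.sober C.2.1 (isClosed_of_mem_irreducibleComponents _ C.2)).choose
    have hfin : Finite (irreducibleComponents (↑X : Type u)) := hX.to_subtype
    have hcov : Set.range f.base ⊆ ⋃ C, closure {g C} := by
      rintro _ ⟨x, rfl⟩
      obtain ⟨C, hC, hxC⟩ := exists_mem_irreducibleComponents_subset_of_isIrreducible {x} isIrreducible_singleton
      refine Set.mem_iUnion.2 ⟨⟨C, hC⟩, ?_⟩
      have hgen := (QuasiSober.sober hC.1 (isClosed_of_mem_irreducibleComponents _ hC)).choose_spec
      exact ((hgen.specializes (hxC rfl)).map f.base.hom.continuous).mem_closure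
    have huniv : (Set.univ : Set S) ⊆ ⋃ C, closure {g C} := by
      rw [← hcl.closure_eq]
      exact closure_minimal hcov (isClosed_iUnion_of_finite fun _ => isClosed_closure)
    obtain ⟨C, hC⟩ := Set.mem_iUnion.1 (huniv (Set.mem_univ s))
    have heq : closure {s} = closure {g C} :=
      hs.eq_of_le isIrreducible_singleton.closure (closure_minimal (Set.singleton_subset_iff.2 hC) isClosed_closure)
    refine ⟨C, C.2, _, (QuasiSober.sober C.2.1 (isClosed_of_mem_irreducibleComponents _ C.2)).choose_spec, ?_⟩
    exact ((IsGenericPoint.eq (S := closure {s}) (isGenericPoint_closure) (by rw [heq]; exact isGenericPoint_closure))).symm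
  refine ⟨⟨fun hf s hs => ?_, fun h => ⟨?_⟩⟩, fun hf => ?_⟩
  · obtain ⟨C, _, η, _, rfl⟩ := key hf s hs
    exact ⟨η, rfl⟩
  · show Dense (Set.range f.base)
    intro s
    obtain ⟨D, hD, hsD⟩ := exists_mem_irreducibleComponents_subset_of_isIrreducible {s} isIrreducible_singleton
    obtain ⟨t, ht⟩ := QuasiSober.sober hD.1 (isClosed_of_mem_irreducibleComponents _ hD)
    have htt : closure {t} = D := ht
    have := closure_mono (Set.singleton_subset_iff.2 (h t (htt ▸ hD)))
    exact this (htt ▸ hsD rfl)
  · let g : (irreducibleComponents (↑X : Type u)) → Set ↑S := fun C =>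
      closure {f.base (QuasiSober.sober C.2.1 (isClosed_of_mem_irreducibleComponents _ C.2)).choose}
    have hfin : Finite (irreducibleComponents (↑X : Type u)) := hX.to_subtype
    refine (Set.finite_range g).subset ?_
    intro D hD
    obtain ⟨t, ht⟩ := QuasiSober.sober hD.1 (isClosed_of_mem_irreducibleComponents _ hD)
    have htt : closure {t} = D := ht
    obtain ⟨C, hC, η, hη, rfl⟩ := key hf t (htt ▸ hD)
    refine ⟨⟨C, hC⟩, ?_⟩
    rw [← htt]
    have := (QuasiSober.sober hC.1 (isClosed_of_mem_irreducibleComponents _ hC)).choose_spec
    simp only [g]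
    rw [this.eq hη]

end Groth.Agent.S9345
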