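import Groth.Statements.S9347
import Mathlib

set_option autoImplicit false
set_option backward.isDefEq.respectTransparency.types false
set_option maxHeartbeats 1000000
set_option linter.all false
universe u
open Dom

namespace Groth.Agent.S9347
open Groth.Agent AlgebraicGeometry

open AlgebraicGeometry CategoryTheory in
/-- Let f : X → S be quasi-compact and let η ∈ S be a point whose closure is an irreducible component of
S (a maximal point of S). If η is not in the image of f, then η has an open neighbourhood V with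
f⁻¹(V) empty. -/
theorem result {X S : Scheme.{u}} (f : X ⟶ S) [QuasiCompact f]
    (η : ↑S) (hη : closure {η} ∈ irreducibleComponents (↑S : Type u)) (hnot : η ∉ Set.range f.base) :
    ∃ V : S.Opens, η ∈ V ∧ f ⁻¹ᵁ V = ⊥ := by
  obtain ⟨_, ⟨(U : S.Opens), (hU : IsAffineOpen U), rfl⟩, hηU, -⟩ := S.isBasis_affineOpens.exists_subset_of_mem_open (Set.mem_univ η) isOpen_univ
  haveI : CompactSpace (f ⁻¹ᵁ U) := isCompact_iff_compactSpace.1 (f.isCompact_preimage hU.isCompact)
  obtain ⟨R, g, hg⟩ := compactSpace_iff_exists.1 (inferInstance : CompactSpace (f ⁻¹ᵁ U).toScheme)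
  let h := g ≫ (f ∣_ U) ≫ hU.isoSpec.hom
  obtain ⟨φ, hφ⟩ := Spec.homEquiv.symm.surjective h
  have hmax : ∀ x : X, ¬ (f x) ⤳ η := by
    intro x hx
    apply hnot
    have hle : closure ({η} : Set S) ⊆ closure {f x} := closure_minimal (Set.singleton_subset_iff.2 hx.mem_closure) isClosed_closure
    have hge : closure ({f x} : Set S) ⊆ closure {η} := hη.2 isIrreducible_singleton.closure hle
    exact ⟨x, (inseparable_iff_closure_eq.2 (le_antisymm hge hle)).eq⟩
  have key : hU.isoSpec.hom ⟨η, hηU⟩ ∉ closure (Set.range h) := by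
    intro hc
    rw [← hφ] at hc
    replace hc : hU.isoSpec.hom ⟨η, hηU⟩ ∈ closure (Set.range (PrimeSpectrum.comap φ.hom)) := hc
    replace hc : RingHom.ker φ.hom ≤ (hU.isoSpec.hom ⟨η, hηU⟩).asIdeal := (PrimeSpectrum.closure_range_comap (f := φ.hom)).le hc
    obtain ⟨q, -, hq, hqle⟩ := (hU.isoSpec.hom ⟨η, hηU⟩).asIdeal.exists_ideal_comap_le_prime (f := φ.hom) ⊥ hc
    have h1 : h ⟨q, hq⟩ ⤳ hU.isoSpec.hom ⟨η, hηU⟩ := by
      rw [← hφ]
      exact (PrimeSpectrum.le_iff_specializes ⟨q.comap φ.hom, inferInstance⟩ (hU.isoSpec.hom ⟨η, hηU⟩)).1 hqle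
    have h2 := h1.map (Scheme.Hom.continuous (hU.isoSpec.inv ≫ U.ι))
    simp only [h, ← Scheme.Hom.comp_apply, Category.assoc, Iso.hom_inv_id_assoc, morphismRestrict_ι] at h2
    exact hmax _ h2
  refine ⟨U.ι ''ᵁ (hU.isoSpec.hom ⁻¹ᵁ ⟨(closure (Set.range h))ᶜ, isClosed_closure.isOpen_compl⟩), ⟨⟨η, hηU⟩, key, rfl⟩, ?_⟩
  rw [eq_bot_iff]
  rintro x ⟨y, hy, hyx⟩
  have hxU : x ∈ f ⁻¹ᵁ U := by
    show f x ∈ U
    rw [show f x = U.ι y from hyx.symm]
    exact y.2
  obtain ⟨z, hz⟩ := hg ⟨x, hxU⟩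
  refine hy (subset_closure ⟨z, ?_⟩)
  show hU.isoSpec.hom ((f ∣_ U) (g z)) = hU.isoSpec.hom y
  rw [hz]
  refine congrArg _ (U.ι.isOpenEmbedding.injective ?_)
  rw [← Scheme.Hom.comp_apply, morphismRestrict_ι]
  exact hyx.symm

end Groth.Agent.S9347
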