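import Groth.Statements.S9348
import Mathlib
import Groth.Prelude.Def_W4c2azumayainvolQEt

set_option autoImplicit false
universe u
open Dom

namespace Groth.Agent.S9348
open AlgebraicGeometry CategoryTheory Limits TopologicalSpace

open AlgebraicGeometry CategoryTheory in
/-- Let f : X → Y be a morphism and g : Y' → Y open and surjective. If the base change f' : X ×_Y Y' →
Y' of f is quasi-compact, then so is f. -/
theorem result {X Y X' Y' : Scheme.{u}} (f : X ⟶ Y) (g : Y' ⟶ Y) [Surjective g]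
    (hg : IsOpenMap g.base) (g' : X' ⟶ X) (f' : X' ⟶ Y') (hsq : IsPullback g' f' f g) [QuasiCompact f'] :
    QuasiCompact f := by
  refine (quasiCompact_iff _).2 fun U hU hc => ?_
  let O : {W : Y'.affineOpens // (W : Set Y') ⊆ g ⁻¹' U} → Set Y := fun W => g '' (W.1 : Set Y')
  obtain ⟨t, ht⟩ := hc.elim_finite_subcover O (fun W => hg _ W.1.1.2) fun y hy => by
    obtain ⟨y', rfl⟩ := g.surjective y
    obtain ⟨_, ⟨W, hW, rfl⟩, hyW, hWU⟩ := Y'.isBasis_affineOpens.exists_subset_of_mem_open (show y' ∈ g ⁻¹' U from hy) (hU.preimage g.continuous)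
    exact Set.mem_iUnion.2 ⟨⟨⟨W, hW⟩, hWU⟩, y', hyW, rfl⟩
  have hcK : IsCompact (⋃ W ∈ t, g' '' (f' ⁻¹' (W.1 : Set Y'))) := t.isCompact_biUnion fun W _ =>
    ((quasiCompact_iff f').1 inferInstance _ W.1.1.2 W.1.2.isCompact).image g'.continuous
  convert hcK using 1
  ext x
  simp only [Set.mem_preimage, Set.mem_iUnion, Set.mem_image]
  constructor
  · intro hx
    obtain ⟨W, hW, y', hy', hgy⟩ := Set.mem_iUnion₂.1 (ht hx)
    obtain ⟨z, hz1, hz2⟩ := Scheme.Pullback.exists_preimage_pullback (f := f) (g := g) x y' hgy.symm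
    refine ⟨W, hW, hsq.isoPullback.inv z, ?_, ?_⟩
    · rw [← Scheme.Hom.comp_apply, hsq.isoPullback_inv_snd, hz2]; exact hy'
    · rw [← Scheme.Hom.comp_apply, hsq.isoPullback_inv_fst, hz1]
  · rintro ⟨W, -, x', hx', rfl⟩
    rw [← Scheme.Hom.comp_apply, hsq.w, Scheme.Hom.comp_apply]
    exact W.2 hx'

end Groth.Agent.S9348
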