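import Groth.Statements.S9370
import Mathlib

set_option autoImplicit false
set_option backward.isDefEq.respectTransparency.types false
set_option linter.all false
universe u
open OmegaSh

namespace Groth.Agent.S9370

open AlgebraicGeometry CategoryTheory Opposite in
/-- derivation of `X/S` into a pushforward. -/
noncomputable def pushDer {X S X' S' : Scheme.{u}} {f : X ⟶ S} {f' : X' ⟶ S'} (h : X' ⟶ X) (b : S' ⟶ S)
    (hsq : f' ≫ b = h ≫ f) {Ω' : X'.Modules} (d' : OmegaSh.Der f' Ω') :
    OmegaSh.Der f ((Scheme.Modules.pushforward h).obj Ω') where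
  d {U} := (d'.app (h ⁻¹ᵁ U.unop)).comp (h.app U.unop).hom.toAddMonoidHom
  d_mul {U} s t := by
    show d'.d (X := op (h ⁻¹ᵁ U.unop)) (h.app U.unop (s * t)) = _
    rw [map_mul]
    exact d'.d_mul (h.app U.unop s) (h.app U.unop t)
  d_map {U V} i s := by
    show d'.d (X := op (h ⁻¹ᵁ V.unop)) (h.app V.unop (X.presheaf.map i s)) = _
    have := congrArg (fun k => k s) (congrArg (fun k => (ConcreteCategory.hom k)) (h.naturality i))
    erw [this]
    exact d'.d_map ((TopologicalSpace.Opens.map h.base).map i.unop).op (h.app U.unop s)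
  d_app {W} s := by
    show d'.d (X := op (h ⁻¹ᵁ (f ⁻¹ᵁ W.unop))) (h.app (f ⁻¹ᵁ W.unop) (f.app W.unop s)) = 0
    have key : ∀ (g : X' ⟶ S), g = f' ≫ b → d'.d (X := op (g ⁻¹ᵁ W.unop)) (g.app W.unop s) = 0 := by
      rintro g rfl
      exact d'.d_app (X := op (b ⁻¹ᵁ W.unop)) (b.app W.unop s)
    exact key (h ≫ f) hsq.symm

open AlgebraicGeometry CategoryTheory in
/-- For a commutative square h : X' → X over S' → S, with d : O_X → Ω the universal derivation of X/S
and d' : O_{X'} → Ω' the universal derivation of X'/S', there is a unique O_{X'}-linear c : h^*Ω →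
Ω' with c(h^* d s) = d'(h♯ s) for all local functions s on X. -/
theorem result {X S X' S' : Scheme.{u}} (f : X ⟶ S) (f' : X' ⟶ S') (h : X' ⟶ X) (b : S' ⟶ S)
    (hsq : f' ≫ b = h ≫ f) (Ω : X.Modules) (d : OmegaSh.Der f Ω) (hd : OmegaSh.IsUniversal d)
    (Ω' : X'.Modules) (d' : OmegaSh.Der f' Ω') (hd' : OmegaSh.IsUniversal d') :
    ∃! c : (Scheme.Modules.pullback h).obj Ω ⟶ Ω', OmegaSh.IsDiffCompat h d d' c := by
  let D := pushDer h b hsq d'
  obtain ⟨α, hα, huniq⟩ := hd _ D
  let adj := Scheme.Modules.pullbackPushforwardAdjunction h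
  have key : ∀ (c : (Scheme.Modules.pullback h).obj Ω ⟶ Ω') (U : X.Opens) (m : Γ(Ω, U)),
      (adj.homEquiv _ _ c).app U m = c.app (h ⁻¹ᵁ U) (OmegaSh.pullSect h Ω U m) := fun c U m => by
    rw [Adjunction.homEquiv_unit]; rfl
  refine ⟨(adj.homEquiv _ _).symm α, fun U s => ?_, fun c hc => ?_⟩
  · have h1 := congrArg (fun E => E.d (X := Opposite.op U) s) hα
    rw [← key, Equiv.apply_symm_apply]
    exact h1
  · refine ((adj.homEquiv _ _).symm_apply_eq.2 (huniq _ ?_).symm).symm
    ext U s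
    exact (key c U.unop _).trans (hc U.unop s)

end Groth.Agent.S9370
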