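import Groth.Statements.S9373
import Mathlib
import Groth.Agent.Lib.LGlobGen

set_option autoImplicit false
universe u
open QCohSub

namespace Groth.Agent.S9373

open Groth.Agent TopologicalSpace


open AlgebraicGeometry CategoryTheory in
/-- The support of a quasi-coherent O_X-module is closed under specialization. -/
theorem result (X : Scheme.{u}) (F : X.Modules) (hF : Coh.IsQCoh F) :
    StableUnderSpecialization (CohB1.support F) := by
  haveI : F.IsQuasicoherent := hF
  intro x y hxy hx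
  show ¬ Subsingleton _
  intro hy
  refine hx (subsingleton_of_forall_eq 0 fun z => ?_)
  obtain ⟨V, hV, hyV, -⟩ := exists_isAffineOpen_mem_and_subset (x := y) (U := ⊤) trivial
  obtain ⟨W, hxW, c, rfl⟩ := F.presheaf.exists_germ_eq (x := x) z
  obtain ⟨g, hgW, hxg⟩ := hV.exists_basicOpen_le ⟨x, hxW⟩ (hxy.mem_open V.2 hyV)
  obtain ⟨N, a, ha⟩ := (LQcoh.exists_pow_of_affine hV F g).1 (LQcoh.res F hgW c)
  have h0 : F.presheaf.germ V y hyV a = 0 := hy.elim _ _
  rw [← map_zero (F.presheaf.germ V y hyV).hom] at h0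
  obtain ⟨O, hyO, i, j, hO⟩ := TopCat.Presheaf.germ_eq F.presheaf y hyV hyV a 0 h0
  rw [map_zero] at hO
  have hxO : x ∈ O ⊓ X.basicOpen g := ⟨hxy.mem_open O.2 hyO, hxg⟩
  have h1 : LQcoh.res F (inf_le_right : O ⊓ X.basicOpen g ≤ X.basicOpen g) (LQcoh.res F (X.basicOpen_le g) a) = 0 := by
    rw [LQcoh.res_res, ← LQcoh.res_res F i.le (inf_le_left : O ⊓ X.basicOpen g ≤ O)]
    rw [show LQcoh.res F i.le a = 0 from hO, LQcoh.res, map_zero]
  rw [ha, LQcoh.res_smul] at h1
  have hu : IsUnit (LQcoh.resO (inf_le_right : O ⊓ X.basicOpen g ≤ X.basicOpen g) (LQcoh.resO (X.basicOpen_le g) (g ^ N))) := by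
    rw [LQcoh.resO, LQcoh.resO, map_pow, map_pow]
    exact ((LQcoh.isUnit_resO V g).map _).pow N
  rw [hu.smul_eq_zero, LQcoh.res_res] at h1
  rw [← TopCat.Presheaf.germ_res_apply F.presheaf (homOfLE ((inf_le_right : O ⊓ X.basicOpen g ≤ X.basicOpen g).trans hgW)) x hxO c]
  refine (congrArg (F.presheaf.germ (O ⊓ X.basicOpen g) x hxO).hom h1).trans (map_zero _)

end Groth.Agent.S9373
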