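import Groth.Statements.S9382
import Mathlib

set_option autoImplicit false
universe u
open QCohSub

namespace Groth.Agent.S9382

open AlgebraicGeometry CategoryTheory in
/-- For closed subschemes Z, Y ⊆ X with ideal sheaves I, J, the scheme-theoretic intersection (ideal
sheaf I ⊔ J) together with its inclusions into Z and Y forms a cartesian square over X. -/
theorem result (X : Scheme.{u}) (I J : X.IdealSheafData) :
    IsPullback (Scheme.IdealSheafData.inclusion (le_sup_left : I ≤ I ⊔ J))
      (Scheme.IdealSheafData.inclusion (le_sup_right : J ≤ I ⊔ J)) I.subschemeι J.subschemeι := by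
  apply IsPullback.flip
  have : IsClosedImmersion (Scheme.IdealSheafData.inclusion (le_sup_right : J ≤ I ⊔ J)) :=
    IsClosedImmersion.of_comp _ J.subschemeι
  have hk : (Scheme.IdealSheafData.inclusion (le_sup_right : J ≤ I ⊔ J)).ker = I.comap J.subschemeι := by
    apply le_antisymm
    · have hI : I ≤ (I.comap J.subschemeι).map J.subschemeι := Scheme.IdealSheafData.le_map_comap _ _
      have hJ : J ≤ (I.comap J.subschemeι).map J.subschemeι :=
        (J.ker_subschemeι.symm.trans_le (Scheme.Hom.le_ker_comp _ _))
      have hsup : (I ⊔ J).subschemeι.ker ≤ ((I.comap J.subschemeι).subschemeι ≫ J.subschemeι).ker := by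
        rw [Scheme.IdealSheafData.ker_subschemeι]; exact sup_le hI hJ
      have hm : IsClosedImmersion.lift (I ⊔ J).subschemeι
          ((I.comap J.subschemeι).subschemeι ≫ J.subschemeι) hsup ≫
          Scheme.IdealSheafData.inclusion (le_sup_right : J ≤ I ⊔ J) = (I.comap J.subschemeι).subschemeι := by
        rw [← cancel_mono J.subschemeι, Category.assoc, Scheme.IdealSheafData.inclusion_subschemeι,
          IsClosedImmersion.lift_fac]
      calc _ ≤ _ := Scheme.Hom.le_ker_comp _ _
        _ = (I.comap J.subschemeι).subschemeι.ker := by rw [hm]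
        _ = _ := Scheme.IdealSheafData.ker_subschemeι _
    · rw [← Scheme.IdealSheafData.le_map_iff_comap_le, Scheme.IdealSheafData.map_ker,
        Scheme.IdealSheafData.inclusion_subschemeι, Scheme.IdealSheafData.ker_subschemeι]
      exact le_sup_left
  exact AlgebraicGeometry.isPullback_of_isClosedImmersion _ _ _ _ (by simp) (by simpa using hk.symm)

end Groth.Agent.S9382
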