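import Groth.Statements.S9390
import Mathlib
import Groth.Agent.Lib.LGlobGen

set_option autoImplicit false
universe u
open QCohSub

namespace Groth.Agent.S9390

open Groth.Agent CategoryTheory


open AlgebraicGeometry CategoryTheory in
/-- For a quasi-coherent O_X-module F, an affine open U = Spec A of X, M = F(U) and x ∈ U with prime p ⊆
A, the prime p is in Supp(M) if and only if x is in Supp(F). -/
theorem result (X : Scheme.{u}) (F : X.Modules) (hF : Coh.IsQCoh F)
    (U : X.affineOpens) (x : X) (hx : x ∈ U.1) :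
    U.2.primeIdealOf ⟨x, hx⟩ ∈ Module.support Γ(X, U.1) Γ(F, U.1) ↔ x ∈ CohB1.support F := by
  haveI : F.IsQuasicoherent := hF
  have hmem : ∀ g : Γ(X, U.1), x ∈ X.basicOpen g ↔ g ∉ (U.2.primeIdealOf ⟨x, hx⟩).asIdeal := fun g => by
    show _ ↔ U.2.primeIdealOf ⟨x, hx⟩ ∈ PrimeSpectrum.basicOpen g
    rw [← U.2.fromSpec_preimage_basicOpen g]
    exact ((iff_of_eq (congrArg (· ∈ X.basicOpen g) (U.2.fromSpec_primeIdealOf ⟨x, hx⟩))).symm)
  rw [Module.mem_support_iff']
  constructor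
  · rintro ⟨m, hm⟩ hsub
    have h0 : F.presheaf.germ U.1 x hx m = 0 := hsub.elim _ _
    rw [← map_zero (F.presheaf.germ U.1 x hx).hom] at h0
    obtain ⟨O, hxO, i, j, hO⟩ := TopCat.Presheaf.germ_eq F.presheaf x hx hx m 0 h0
    rw [map_zero] at hO
    obtain ⟨g, hgO, hxg⟩ := U.2.exists_basicOpen_le ⟨x, hxO⟩ hx
    obtain ⟨N, hN⟩ := (LQcoh.exists_pow_of_affine U.2 F g).2 m (by
      rw [← LQcoh.res_res F i.le hgO, show LQcoh.res F i.le m = 0 from hO, LQcoh.res, map_zero])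
    exact hm (g ^ N) (fun h => (hmem g).1 hxg (((U.2.primeIdealOf ⟨x, hx⟩).isPrime).mem_of_pow_mem N h)) hN
  · intro hs
    by_contra hc
    push Not at hc
    refine hs (subsingleton_of_forall_eq 0 fun z => ?_)
    obtain ⟨W, hxW, c, rfl⟩ := F.presheaf.exists_germ_eq (x := x) z
    obtain ⟨g, hgW, hxg⟩ := U.2.exists_basicOpen_le ⟨x, hxW⟩ hx
    obtain ⟨N, a, ha⟩ := (LQcoh.exists_pow_of_affine U.2 F g).1 (LQcoh.res F hgW c)
    obtain ⟨r, hr, hra⟩ := hc a
    have hxO : x ∈ X.basicOpen r ⊓ X.basicOpen g := ⟨(hmem r).2 hr, hxg⟩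
    have h1 := congrArg (LQcoh.res F ((inf_le_right : X.basicOpen r ⊓ X.basicOpen g ≤ X.basicOpen g).trans (X.basicOpen_le g))) hra
    rw [LQcoh.res_smul, ← LQcoh.res_res F (X.basicOpen_le g) (inf_le_right : X.basicOpen r ⊓ X.basicOpen g ≤ X.basicOpen g),
      ha, LQcoh.res_smul, LQcoh.res_res, show LQcoh.res F ((inf_le_right : X.basicOpen r ⊓ X.basicOpen g ≤ X.basicOpen g).trans (X.basicOpen_le g)) (0 : Γ(F, U.1)) = 0 from map_zero _] at h1
    have hu : IsUnit (LQcoh.resO ((inf_le_right : X.basicOpen r ⊓ X.basicOpen g ≤ X.basicOpen g).trans (X.basicOpen_le g)) r) := by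
      have := ((LQcoh.isUnit_resO U.1 r).map (X.presheaf.map (homOfLE (inf_le_left : X.basicOpen r ⊓ X.basicOpen g ≤ X.basicOpen r)).op).hom)
      rw [LQcoh.resO, ← CommRingCat.comp_apply, ← X.presheaf.map_comp] at this
      exact this
    have hu' : IsUnit (LQcoh.resO (inf_le_right : X.basicOpen r ⊓ X.basicOpen g ≤ X.basicOpen g) (LQcoh.resO (X.basicOpen_le g) (g ^ N))) := by
      rw [LQcoh.resO, LQcoh.resO, map_pow, map_pow]
      exact ((LQcoh.isUnit_resO U.1 g).map _).pow N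
    rw [hu.smul_eq_zero, hu'.smul_eq_zero] at h1
    rw [← TopCat.Presheaf.germ_res_apply F.presheaf (homOfLE ((inf_le_right : X.basicOpen r ⊓ X.basicOpen g ≤ X.basicOpen g).trans hgW)) x hxO c]
    exact (congrArg (F.presheaf.germ _ x hxO).hom h1).trans (map_zero _)

end Groth.Agent.S9390
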