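import Groth.Statements.S9397
import Mathlib
import Groth.Prelude.Def_Found
import Groth.Agent.Lib.JapaneseBasic
import Groth.Agent.S9392
import Groth.Agent.Lib.JapaneseLocal

set_option autoImplicit false
universe u
open Groth.Agent.JapaneseBasic
open Groth.Agent.JapaneseLocal
open CAlg

namespace Groth.Agent.S9397

/-- A ring R is universally Japanese provided that each R-algebra of finite type which is a domain is
N-1. -/
theorem result (R : Type u) [CommRing R]
    (h : ∀ (S : Type u) [CommRing S] [IsDomain S] [Algebra R S], Algebra.FiniteType R S → CAlg.IsN1 S) :
    CAlg.IsUniversallyJapanese R := by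
  intro S _ _ _ hS
  haveI := hS
  exact n2_of_n1_extensions h S

end Groth.Agent.S9397
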