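import Groth.Statements.S9398
import Mathlib
import Groth.Prelude.Def_Found
import Groth.Agent.Lib.JapaneseBasic
import Groth.Agent.S9392
import Groth.Agent.Lib.JapaneseLocal

set_option autoImplicit false
universe u
open Groth.Agent.JapaneseBasic
open Groth.Agent.JapaneseLocal
open CAlg

namespace Groth.Agent.S9398

/-- An algebra essentially of finite type over a universally Japanese ring is universally Japanese. -/
theorem result (R : Type u) [CommRing R]
    (hR : CAlg.IsUniversallyJapanese R) (T : Type u) [CommRing T] [Algebra R T]
    [Algebra.EssFiniteType R T] : CAlg.IsUniversallyJapanese T := by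
  intro S _ _ _ hS
  haveI := hS
  letI : Algebra R S := Algebra.compHom S (algebraMap R T)
  haveI : IsScalarTower R T S := IsScalarTower.of_algebraMap_eq' rfl
  have hess : Algebra.EssFiniteType R S := Algebra.EssFiniteType.comp R T S
  obtain ⟨S₀, M, hft, hloc⟩ := (Algebra.essFiniteType_iff_exists_subalgebra R S).mp hess
  exact Groth.Agent.S9392.result S₀ M S (hR S₀ hft)

end Groth.Agent.S9398
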