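import Groth.Statements.S9399
import Mathlib
import Groth.Prelude.Def_Found
import Groth.Agent.Lib.JapaneseBasic
import Groth.Agent.S9392
import Groth.Agent.Lib.JapaneseLocal

set_option autoImplicit false
universe u
open Groth.Agent.JapaneseBasic
open Groth.Agent.JapaneseLocal
open CAlg

namespace Groth.Agent.S9399

/-- Being universally Japanese can be checked on a finite cover of Spec R by principal opens. -/
theorem result (R : Type u) [CommRing R]
    {ι : Type u} [Finite ι] (f : ι → R) (hf : Ideal.span (Set.range f) = ⊤)
    (h : ∀ i, CAlg.IsUniversallyJapanese (Localization.Away (f i))) :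
    CAlg.IsUniversallyJapanese R := by
  intro S _ _ _ hS
  haveI := hS
  refine n2_of_cover (fun i => algebraMap R S (f i)) ?_ fun i hi => ?_
  · have := congrArg (Ideal.map (algebraMap R S)) hf
    rw [Ideal.map_span, Ideal.map_top, ← Set.range_comp] at this
    exact this
  intro _
  let A := Localization.Away (f i)
  let B := Localization.Away (algebraMap R S (f i))
  letI : Algebra A B := (Localization.awayMap (algebraMap R S) (f i)).toAlgebra
  haveI : IsScalarTower R A B := IsScalarTower.of_algebraMap_eq' (RingHom.ext fun r => by
    show algebraMap R B r = Localization.awayMap (algebraMap R S) (f i) (algebraMap R A r)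
    exact ((IsLocalization.map_eq _ r).trans (IsScalarTower.algebraMap_apply R S B r).symm).symm)
  haveI : Algebra.FiniteType R B := Algebra.FiniteType.trans hS
    (IsLocalization.finiteType_of_monoid_fg (Submonoid.powers (algebraMap R S (f i))) B)
  exact h i B (Algebra.FiniteType.of_restrictScalars_finiteType R A B)

end Groth.Agent.S9399
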