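import Groth.Statements.S9400
import Mathlib
import Groth.Prelude.Def_Found
import Groth.Agent.Lib.JapaneseBasic
import Groth.Agent.S9392
import Groth.Agent.Lib.JapaneseLocal

set_option autoImplicit false
universe u
open Groth.Agent.JapaneseBasic
open Groth.Agent.JapaneseLocal
open CAlg

namespace Groth.Agent.S9400

/-- Being a Nagata ring can be checked on a finite cover of Spec R by principal opens. -/
theorem result (R : Type u) [CommRing R]
    {ι : Type u} [Finite ι] (f : ι → R) (hf : Ideal.span (Set.range f) = ⊤)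
    (h : ∀ i, CAlg.IsNagata (Localization.Away (f i))) : CAlg.IsNagata R := by
  classical
  haveI := Fintype.ofFinite ι
  refine ⟨AlgebraicGeometry.isNoetherianRing_of_away (Finset.univ.image f) (by simpa using hf) ?_, fun p hp => ?_⟩
  · rintro ⟨x, hx⟩
    obtain ⟨i, -, rfl⟩ := Finset.mem_image.mp hx
    exact (h i).1
  refine n2_of_cover (fun i => Ideal.Quotient.mk p (f i)) ?_ fun i hi => ?_
  · have := congrArg (Ideal.map (Ideal.Quotient.mk p)) hf
    rw [Ideal.map_span, Ideal.map_top, ← Set.range_comp] at this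
    exact this
  intro _
  let A := Localization.Away (f i)
  let B := Localization.Away (Ideal.Quotient.mk p (f i))
  let φ : A →+* B := Localization.awayMap (Ideal.Quotient.mk p) (f i)
  have hφ : ∀ r, φ (algebraMap R A r) = algebraMap (R ⧸ p) B (Ideal.Quotient.mk p r) := fun r =>
    IsLocalization.map_eq _ r
  have hsurj : Function.Surjective φ := by
    intro z
    obtain ⟨⟨c, ⟨_, n, rfl⟩⟩, hz⟩ := IsLocalization.surj (Submonoid.powers (Ideal.Quotient.mk p (f i))) z
    obtain ⟨a, rfl⟩ := Ideal.Quotient.mk_surjective c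
    obtain ⟨u, hu⟩ := IsLocalization.map_units A (⟨f i ^ n, n, rfl⟩ : Submonoid.powers (f i))
    refine ⟨algebraMap R A a * (↑u⁻¹ : A), ?_⟩
    have h1 : φ u = algebraMap (R ⧸ p) B (Ideal.Quotient.mk p (f i) ^ n) := by rw [hu, hφ, map_pow]
    have h2 : φ (↑u⁻¹ : A) * φ u = 1 := by rw [← map_mul, Units.inv_mul, map_one]
    simp only at hz
    rw [map_mul, hφ, ← hz, ← h1, mul_assoc, mul_comm (φ u), h2, mul_one]
  haveI hq : (RingHom.ker φ).IsPrime := RingHom.ker_isPrime φ
  exact n2_of_ringEquiv (RingHom.quotientKerEquivOfSurjective hsurj) ((h i).2 (RingHom.ker φ))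

end Groth.Agent.S9400
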