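import Groth.Statements.S9402
import Mathlib
import Groth.Agent.Lib.TorsionFreeEmbed
import Groth.Agent.Lib.CAlgSmall1

set_option autoImplicit false
universe u
open TensorProduct Groth.Agent.TorsionFreeEmbed
open Groth.Agent.CAlgSmall1
open CAlg

namespace Groth.Agent.S9402

/-- Let R → S be a ring map with S a nonzero algebra over the rationals and f ∈ S such that some
S-linear form on the module of differentials of S over R sends df to 1 (that is, df spans a free
direct summand of rank one). Then f is not nilpotent. (The published statement asks only that S·df
be a direct summand of the module of differentials, which also holds for the rationals with a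
square-zero element adjoined and for the zero ring, where f is nilpotent; this row asks for an
S-linear form on the differentials sending df to 1, as the published proof uses, and S nonzero.) -/
theorem result (R : Type u) [CommRing R] (S : Type u)
    [CommRing S] [Nontrivial S] [Algebra R S] [Algebra ℚ S] (f : S)
    (θ : Ω[S⁄R] →ₗ[S] S) (hθ : θ (KaehlerDifferential.D R S f) = 1) : ¬ IsNilpotent f := by
  rintro ⟨n, hn⟩
  induction n with
  | zero => simp at hn
  | succ n ih =>
    refine ih ?_
    have h := congrArg θ (congrArg (KaehlerDifferential.D R S) hn)
    rw [Derivation.leibniz_pow, map_zero, map_zero, ← Nat.cast_smul_eq_nsmul S, map_smul, map_smul, hθ,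
      smul_eq_mul, smul_eq_mul, mul_one, Nat.add_sub_cancel] at h
    have hu : IsUnit ((n + 1 : ℕ) : S) := by
      rw [← map_natCast (algebraMap ℚ S)]
      exact (IsUnit.mk0 _ (by exact_mod_cast n.succ_ne_zero)).map _
    exact hu.mul_right_eq_zero.mp h

end Groth.Agent.S9402
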