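import Mathlib
import Groth.Statements.S9403
-- import your own Groth.Agent.* helpers here

set_option autoImplicit false
universe u
open CAlg

namespace Groth.Agent.S9403

/-- Let R → S be a ring map with S a Noetherian local ring which is an algebra over the rationals, and f
∈ S such that some S-linear form on the module of differentials of S over R sends df to 1 (df spans
a free direct summand of rank one). Then f is a nonzerodivisor of S. (The published statement asks
only that S·df be a direct summand of the module of differentials, which also holds for the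
rationals with a square-zero element adjoined, where f is a zero divisor; this row asks for an
S-linear form on the differentials sending df to 1, as the published proof uses.) -/
theorem result (R : Type u) [CommRing R]
    (S : Type u) [CommRing S] [IsLocalRing S] [IsNoetherianRing S] [Algebra R S] [Algebra ℚ S]
    (f : S) (θ : Ω[S⁄R] →ₗ[S] S) (hθ : θ (KaehlerDifferential.D R S f) = 1) : f ∈ nonZeroDivisors S := by
  let d : Derivation R S S := θ.compDer (KaehlerDifferential.D R S)
  have hd : d f = 1 := hθ
  by_cases hf : IsUnit f
  · exact hf.mem_nonZeroDivisors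
  rw [mem_nonZeroDivisors_iff_right]
  intro g hg
  have key : ∀ n : ℕ, ∃ h, g = f ^ n * h := by
    intro n
    induction n with
    | zero => exact ⟨g, by simp⟩
    | succ n ih =>
      obtain ⟨h, hh⟩ := ih
      have h0 : f ^ (n + 1) * h = 0 := by rw [← hg, hh]; ring
      have h1 := congrArg d h0
      rw [Derivation.map_zero, Derivation.leibniz, Derivation.leibniz_pow, hd] at h1
      simp only [add_tsub_cancel_right, smul_eq_mul, nsmul_eq_mul, Nat.cast_add, Nat.cast_one, mul_one] at h1
      obtain ⟨c, hc⟩ : IsUnit ((n : S) + 1) := by
        have h2 : IsUnit ((n : ℚ) + 1) := IsUnit.mk0 _ (by positivity)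
        simpa using h2.map (algebraMap ℚ S)
      refine ⟨-(↑c⁻¹ * d h), ?_⟩
      have hc' : (↑c⁻¹ : S) * ((n : S) + 1) = 1 := by rw [← hc]; exact c.inv_mul
      rw [hh]
      linear_combination (↑c⁻¹ : S) * h1 - (f ^ n * h) * hc'
  have hm : g ∈ ⨅ n : ℕ, Ideal.span {f} ^ n := by
    simp only [Ideal.mem_iInf, Ideal.span_singleton_pow, Ideal.mem_span_singleton]
    intro n
    obtain ⟨h, hh⟩ := key n
    exact ⟨h, hh⟩
  rw [Ideal.iInf_pow_eq_bot_of_isLocalRing _ (by rwa [ne_eq, Ideal.span_singleton_eq_top])] at hm
  exact hm

end Groth.Agent.S9403
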