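import Groth.Statements.S9405
import Mathlib
import Groth.Agent.Lib.CompleteSemilocal

set_option autoImplicit false
universe u
open TensorProduct
open Groth.Agent.CompleteSemilocal
open CAlg

namespace Groth.Agent.S9405

/-- A module-finite algebra S over a complete Noetherian local ring R is a finite product of complete
Noetherian local rings; precisely, S has finitely many maximal ideals, S maps bijectively onto the
product of its localizations at them, and each of these localizations is Noetherian and complete for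
its maximal ideal. -/
theorem result (R : Type u) [CommRing R]
    [IsLocalRing R] [IsNoetherianRing R] [IsAdicComplete (IsLocalRing.maximalIdeal R) R]
    (S : Type u) [CommRing S] [Algebra R S] [Module.Finite R S] :
    Finite (MaximalSpectrum S) ∧
      Function.Bijective
        (algebraMap S ((m : MaximalSpectrum S) → Localization.AtPrime m.asIdeal)) ∧
      ∀ m : MaximalSpectrum S, IsNoetherianRing (Localization.AtPrime m.asIdeal) ∧
        IsAdicComplete (IsLocalRing.maximalIdeal (Localization.AtPrime m.asIdeal))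
          (Localization.AtPrime m.asIdeal) := by
  classical
  haveI : IsNoetherianRing S := isNoetherian_of_tower R inferInstance
  set 𝔪 := IsLocalRing.maximalIdeal R with h𝔪
  haveI hSc : IsAdicComplete (𝔪.map (algebraMap R S)) S :=
    (IsAdicComplete.map_algebraMap_iff _ _).mpr (isAdicComplete_finite 𝔪 S)
  set I := 𝔪.map (algebraMap R S) with hI
  haveI : IsArtinianRing (S ⧸ I) := by
    haveI : Module.Finite (R ⧸ 𝔪) (S ⧸ I) := Module.Finite.of_restrictScalars_finite R (R ⧸ 𝔪) (S ⧸ I)
    haveI : IsArtinianRing (R ⧸ 𝔪) :=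
      letI := Ideal.Quotient.field 𝔪
      inferInstance
    exact isArtinian_of_tower (R ⧸ 𝔪) inferInstance
  have hle : ∀ m : MaximalSpectrum S, I ≤ m.asIdeal := fun m => by
    rw [hI, Ideal.map_le_iff_le_comap]
    haveI := Ideal.isMaximal_comap_of_isIntegral_of_isMaximal (R := R) m.asIdeal
    exact le_of_eq (IsLocalRing.eq_maximalIdeal this).symm
  let q : MaximalSpectrum S → MaximalSpectrum (S ⧸ I) := fun m =>
    ⟨m.asIdeal.map (Ideal.Quotient.mk I), Ideal.IsMaximal.map_of_surjective_of_ker_le
      Ideal.Quotient.mk_surjective (by rw [Ideal.mk_ker]; exact hle m)⟩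
  have hq : Function.Injective q := fun m m' h => by
    have h' := congrArg (fun x : MaximalSpectrum (S ⧸ I) => x.asIdeal.comap (Ideal.Quotient.mk I)) h
    simp only [q, Ideal.comap_map_of_surjective _ Ideal.Quotient.mk_surjective,
      ← RingHom.ker_eq_comap_bot, Ideal.mk_ker, sup_eq_left.mpr (hle m), sup_eq_left.mpr (hle m')] at h'
    exact MaximalSpectrum.ext h'
  haveI hfin : Finite (MaximalSpectrum S) := Finite.of_injective q hq
  have hjac : ∀ x : S, (∀ m : MaximalSpectrum S, x ∈ m.asIdeal) → ∃ N, x ^ N ∈ I := by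
    intro x hx
    have : x ∈ I.radical := by
      rw [Ideal.radical_eq_sInf, Submodule.mem_sInf]
      intro (p : Ideal S) ⟨hp, hpp⟩
      haveI := hpp
      haveI : (p.map (Ideal.Quotient.mk I)).IsPrime :=
        Ideal.map_isPrime_of_surjective Ideal.Quotient.mk_surjective (by rwa [Ideal.mk_ker])
      have hmax : p.IsMaximal := by
        haveI := IsArtinianRing.isMaximal_of_isPrime (p.map (Ideal.Quotient.mk I))
        have := Ideal.comap_isMaximal_of_surjective (Ideal.Quotient.mk I) Ideal.Quotient.mk_surjective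
          (K := p.map (Ideal.Quotient.mk I))
        rwa [Ideal.comap_map_of_surjective _ Ideal.Quotient.mk_surjective, ← RingHom.ker_eq_comap_bot,
          Ideal.mk_ker, sup_eq_left.mpr hp] at this
      exact hx ⟨p, hmax⟩
    exact this
  -- idempotents
  have he : ∀ m : MaximalSpectrum S, ∃ e : S, IsIdempotentElem e ∧ e ∉ m.asIdeal ∧
      ∀ m' : MaximalSpectrum S, m' ≠ m → e ∈ m'.asIdeal := by
    intro m
    have hcop : Pairwise (Function.onFun IsCoprime fun m : MaximalSpectrum S => m.asIdeal) :=
      fun a b hab => Ideal.isCoprime_iff_sup_eq.mpr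
        (a.isMaximal.coprime_of_ne b.isMaximal fun h => hab (MaximalSpectrum.ext h))
    obtain ⟨a, ha⟩ := Ideal.exists_forall_sub_mem_ideal hcop (fun m' => if m' = m then 1 else 0)
    obtain ⟨N, hN⟩ := hjac (a * a - a) fun m' => by
      have := ha m'
      split at this
      · have h2 : a * a - a = a * (a - 1) := by ring
        rw [h2]; exact Ideal.mul_mem_left _ _ this
      · rw [sub_zero] at this
        exact Ideal.sub_mem _ (Ideal.mul_mem_left _ _ this) this
    obtain ⟨e', he'⟩ : ∃ e' : S ⧸ I, IsIdempotentElem e' ∧ IsNilpotent (e' - Ideal.Quotient.mk I a) := by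
      let J : Ideal (S ⧸ I) := nilradical (S ⧸ I)
      obtain ⟨e', h1, h2⟩ := exists_isIdempotentElem_eq_of_ker_isNilpotent (Ideal.Quotient.mk J)
        (fun x hx => by rwa [Ideal.mk_ker, mem_nilradical] at hx)
        (Ideal.Quotient.mk J (Ideal.Quotient.mk I a)) ⟨_, rfl⟩ (by
          rw [IsIdempotentElem, ← map_mul, Ideal.Quotient.eq, mem_nilradical, ← map_mul, ← map_sub]
          exact ⟨N, by rw [← map_pow, Ideal.Quotient.eq_zero_iff_mem]; exact hN⟩)
      exact ⟨e', h1, mem_nilradical.mp (Ideal.Quotient.eq.mp h2)⟩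
    obtain ⟨a', rfl⟩ := Ideal.Quotient.mk_surjective e'
    obtain ⟨e, he1, he2⟩ := exists_idem I a' (Ideal.Quotient.eq.mp (by rw [map_mul]; exact he'.1.eq))
    obtain ⟨hi, N', hN'⟩ := he'
    rw [← map_sub, ← map_pow, Ideal.Quotient.eq_zero_iff_mem] at hN'
    have hea : ∀ m' : MaximalSpectrum S, e - a ∈ m'.asIdeal := fun m' => by
      have h1 : a' - a ∈ m'.asIdeal := m'.isMaximal.isPrime.mem_of_pow_mem N' (hle m' hN')
      have := add_mem (hle m' he2) h1
      simpa using this
    refine ⟨e, he1, fun hem => ?_, fun m' hm' => ?_⟩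
    · have h1 := ha m
      rw [if_pos rfl] at h1
      have h2 := sub_mem (sub_mem hem (hea m)) h1
      rw [show e - (e - a) - (a - 1) = 1 by ring] at h2
      exact m.isMaximal.ne_top ((Ideal.eq_top_iff_one _).mpr h2)
    · have h1 := ha m'
      rw [if_neg hm', sub_zero] at h1
      simpa using add_mem (hea m') h1
  choose e he1 he2 he3 using he
  haveI : Fintype (MaximalSpectrum S) := Fintype.ofFinite _
  have hone : ∀ m, algebraMap S (Localization.AtPrime m.asIdeal) (e m) = 1 := fun m =>
    ((IsIdempotentElem.iff_eq_one_of_isUnit (IsLocalization.map_units (Localization.AtPrime m.asIdeal)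
      (⟨e m, he2 m⟩ : m.asIdeal.primeCompl))).mp ((he1 m).map _))
  have hzero : ∀ m m', m' ≠ m → algebraMap S (Localization.AtPrime m'.asIdeal) (e m) = 0 := fun m m' h => by
    have h1 : IsUnit (algebraMap S (Localization.AtPrime m'.asIdeal) (1 - e m)) :=
      IsLocalization.map_units (Localization.AtPrime m'.asIdeal) (⟨1 - e m, fun hc =>
        m'.isMaximal.ne_top ((Ideal.eq_top_iff_one _).mpr (by simpa using add_mem hc (he3 m m' h)))⟩ :
          m'.asIdeal.primeCompl)
    refine h1.mul_right_eq_zero.mp ?_
    rw [← map_mul, sub_mul, one_mul, (he1 m).eq, sub_self, map_zero]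
  have hsurj : ∀ m : MaximalSpectrum S, Function.Surjective (algebraMap S (Localization.AtPrime m.asIdeal)) := by
    intro m x
    obtain ⟨⟨s, t⟩, hst⟩ := IsLocalization.surj m.asIdeal.primeCompl x
    have hu : IsUnit ((t : S) * e m + (1 - e m)) := by
      by_contra hu
      obtain ⟨M, hM, hmem⟩ := exists_max_ideal_of_mem_nonunits (mem_nonunits_iff.mpr hu)
      by_cases hMm : (⟨M, hM⟩ : MaximalSpectrum S) = m
      · subst hMm
        have h2 : (t : S) * e ⟨M, hM⟩ ∈ M := by
          have := Ideal.mul_mem_right (e ⟨M, hM⟩) M hmem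
          rwa [add_mul, sub_mul, one_mul, mul_assoc, (he1 _).eq, sub_self, add_zero] at this
        exact (hM.isPrime.mem_or_mem h2).elim t.2 (he2 ⟨M, hM⟩)
      · have h1 : e m ∈ M := he3 m _ hMm
        have := sub_mem hmem (Ideal.mul_mem_left M (t : S) h1)
        have h2 : (1 : S) ∈ M := by simpa using add_mem this h1
        exact hM.ne_top ((Ideal.eq_top_iff_one _).mpr h2)
    refine ⟨s * (hu.unit⁻¹ : Sˣ), ?_⟩
    have h1 := congrArg (algebraMap S (Localization.AtPrime m.asIdeal)) (hu.mul_val_inv)
    simp only [map_mul, map_add, map_sub, hone, mul_one, map_one, sub_self, add_zero] at h1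
    rw [map_mul, ← hst, mul_assoc, h1, mul_one]
  refine ⟨hfin, ⟨?_, fun x => ?_⟩, fun m => ⟨inferInstance, ?_⟩⟩
  · exact MaximalSpectrum.toPiLocalization_injective S
  · choose s hs using fun m => hsurj m (x m)
    refine ⟨∑ m, e m * s m, funext fun m => ?_⟩
    rw [Pi.algebraMap_apply, map_sum, Finset.sum_eq_single m (fun b _ hb => by rw [map_mul, hzero b m hb.symm, zero_mul])
      (by simp), map_mul, hone, one_mul, hs]
  · set L := Localization.AtPrime m.asIdeal
    haveI : Module.Finite R L :=
      Module.Finite.of_surjective (IsScalarTower.toAlgHom R S L).toLinearMap (hsurj m)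
    haveI : IsAdicComplete (𝔪.map (algebraMap R L)) L :=
      (IsAdicComplete.map_algebraMap_iff _ _).mpr (isAdicComplete_finite 𝔪 L)
    have hml : 𝔪.map (algebraMap R L) ≤ IsLocalRing.maximalIdeal L := by
      rw [IsScalarTower.algebraMap_eq R S L, ← Ideal.map_map, ← hI, ← Localization.AtPrime.map_eq_maximalIdeal]
      exact Ideal.map_mono (hle m)
    have hrad : IsLocalRing.maximalIdeal L ≤ (𝔪.map (algebraMap R L)).radical := by
      intro y hy
      obtain ⟨x, rfl⟩ := hsurj m y
      rw [IsScalarTower.algebraMap_eq R S L, ← Ideal.map_map, ← hI]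
      obtain ⟨N, hN⟩ := hjac (x * e m) fun m' => by
        by_cases h : m' = m
        · subst h
          refine Ideal.mul_mem_right _ _ ?_
          rwa [← IsLocalization.AtPrime.to_map_mem_maximal_iff L m'.asIdeal]
        · exact Ideal.mul_mem_left _ _ (he3 m m' h)
      refine ⟨N, ?_⟩
      have := Ideal.mem_map_of_mem (algebraMap S L) hN
      rwa [map_pow, map_mul, hone, mul_one] at this
    obtain ⟨N, hN⟩ := Ideal.exists_pow_le_of_le_radical_of_fg hrad (IsNoetherian.noetherian _)
    exact isAdicComplete_of_between _ _ N hN hml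

end Groth.Agent.S9405
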