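import Groth.Statements.S9406
import Mathlib
import Groth.Agent.Lib.RegularLocalSerre

set_option autoImplicit false
universe u
open IsLocalRing CategoryTheory Groth.Agent
open CAlg

namespace Groth.Agent.S9406

/-- Regularity descends along faithfully flat ring maps: whenever S is a faithfully flat R-algebra whose
underlying ring is regular, the base ring R is regular as well. -/
theorem result (R : Type u) [CommRing R] (S : Type u) [CommRing S]
    [Algebra R S] [Module.FaithfullyFlat R S] [IsRegularRing S] : IsRegularRing R := by
  have : IsNoetherianRing R := Submodule.IsNoetherian.of_isNoetherian_tensorProduct_of_faithfullyFlat (A := S) (R := R) (M := R)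
    (isNoetherian_of_linearEquiv (TensorProduct.AlgebraTensorModule.rid R S S).symm)
  refine isRegularRing_iff.mpr fun p hp => ?_
  obtain ⟨q, hq⟩ := PrimeSpectrum.comap_surjective_of_faithfullyFlat (A := R) (B := S) ⟨p, hp⟩
  have hq' : p = q.asIdeal.comap (algebraMap R S) := (congrArg PrimeSpectrum.asIdeal hq).symm
  let f := Localization.localRingHom p q.asIdeal (algebraMap R S) hq'
  letI := f.toAlgebra
  have : IsLocalHom (algebraMap (Localization.AtPrime p) (Localization.AtPrime q.asIdeal)) :=
    Localization.isLocalHom_localRingHom _ _ _ _
  have : q.asIdeal.LiesOver p := ⟨hq'⟩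
  have : Module.Flat (Localization.AtPrime p) (Localization.AtPrime q.asIdeal) :=
    RingHom.flat_algebraMap_iff.mp ((RingHom.Flat.localRingHom (RingHom.flat_algebraMap_iff.mpr inferInstance) ..))
  exact RegLocal.regular_of_flat (S := Localization.AtPrime q.asIdeal)

end Groth.Agent.S9406
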