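import Groth.Statements.S9408
import Mathlib
import Groth.Prelude.Def_Found
import Groth.Prelude.Def_CAlg
import Groth.Prelude.Def_CAlgX
import Groth.Prelude.Def_EGA4b
import Groth.Agent.Lib.H2GeomRegMore
import Groth.Agent.Lib.H2RegDescend
import Groth.Agent.S2451
import Groth.Agent.S4573

set_option autoImplicit false
universe u
open CAlg

namespace Groth.Agent.S9408
open TensorProduct IsLocalRing
open Groth.Agent.H2GeomRegMore
set_option backward.isDefEq.respectTransparency.types false
set_option synthInstance.maxHeartbeats 400000
set_option maxHeartbeats 1000000

/-- Over a field k, geometric regularity ascends along smooth maps of k-algebras: for A Noetherian and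
geometrically regular over k and B smooth over A, B is geometrically regular over k. -/
theorem result (k : Type u) [Field k] (A : Type u) [CommRing A]
    [Algebra k A] [IsNoetherianRing A] (B : Type u) [CommRing B] [Algebra k B] [Algebra A B]
    [IsScalarTower k A B] [Algebra.Smooth A B] (hA : CAlg.IsGeometricallyRegular k A) :
    CAlg.IsGeometricallyRegular k B := by
  haveI : IsNoetherianRing B := Algebra.FiniteType.isNoetherianRing A B
  refine geomReg_iff_forall.2 fun r _ => adicFS_comp_localization (B := A) (adicFS_of_geomReg hA _) ?_
  haveI : Algebra.FormallySmooth B (Localization.AtPrime r) := Algebra.FormallySmooth.of_isLocalization r.primeCompl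
  haveI : Algebra.FormallySmooth A (Localization.AtPrime r) := Algebra.FormallySmooth.comp A B _
  exact adicFS_of_formallySmooth _

end Groth.Agent.S9408
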