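import Groth.Statements.S9409
import Mathlib
import Groth.Prelude.Def_Found
import Groth.Prelude.Def_CAlgX
import Groth.Prelude.Def_EtRam
import Groth.Agent.Lib.H2GeomRegBase
import Groth.Agent.Lib.H2DerFinite
import Groth.Agent.Lib.RegularLocalBasic
import Groth.Agent.S2451

set_option autoImplicit false
universe u
open CAlg

namespace Groth.Agent.S9409
open TensorProduct IsLocalRing
open Groth.Agent.H2GeomRegMore Groth.Agent.H2GeomRegBase
set_option backward.isDefEq.respectTransparency.types false
set_option synthInstance.maxHeartbeats 400000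
set_option maxHeartbeats 1000000

/-- Let k be a field written as a directed union of subfields k_i (given as fields mapping to k whose
images form a directed family covering k) and A a Noetherian k-algebra. Geometric regularity of A
over every one of the k_i implies that A is also geometrically regular as a k-algebra. -/
theorem result (k : Type u) [Field k] {ι : Type u}
    (K : ι → Type u) [∀ i, Field (K i)] [∀ i, Algebra (K i) k]
    (hdir : ∀ i j, ∃ l, Set.range (algebraMap (K i) k) ⊆ Set.range (algebraMap (K l) k) ∧
      Set.range (algebraMap (K j) k) ⊆ Set.range (algebraMap (K l) k))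
    (hcov : ∀ x : k, ∃ i, x ∈ Set.range (algebraMap (K i) k))
    (A : Type u) [CommRing A] [Algebra k A] [IsNoetherianRing A] [∀ i, Algebra (K i) A]
    [∀ i, IsScalarTower (K i) k A] (h : ∀ i, CAlg.IsGeometricallyRegular (K i) A) :
    CAlg.IsGeometricallyRegular k A := by
  classical
  refine geomReg_iff_forall.2 fun p _ => ?_
  let S := Localization.AtPrime p
  haveI : IsNoetherianRing S := IsLocalization.isNoetherianRing p.primeCompl _ inferInstance
  have hi : ∀ i, CAlgX.IsAdicFormallySmooth (K i) S (maximalIdeal S) := fun i => adicFS_of_geomReg (h i) p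
  obtain ⟨i0, -⟩ := hcov 0
  refine Groth.Agent.H2DerExtend.adicFS_iff.2 ⟨Groth.Agent.H2AdicFSField.isRegularLocalRing_of_adicFS (hi i0),
    fun δ => Groth.Agent.H2DerFinite.ext_of_finite (fun n a δ => ?_) δ⟩
  have hfin : ∀ t : Finset k, ∃ l, ∀ x ∈ t, x ∈ Set.range (algebraMap (K l) k) := by
    intro t
    induction t using Finset.induction_on with
    | empty => exact ⟨i0, fun x hx => absurd hx (Finset.notMem_empty x)⟩
    | insert x t _ iht =>
      obtain ⟨l, hl⟩ := iht
      obtain ⟨i, hx⟩ := hcov x
      obtain ⟨m, h1, h2⟩ := hdir i l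
      refine ⟨m, fun y hy => ?_⟩
      obtain rfl | hy := Finset.mem_insert.1 hy
      exacts [h1 hx, h2 (hl y hy)]
  obtain ⟨l, hl⟩ := hfin (Finset.univ.image a)
  haveI : IsScalarTower (K l) k S := IsScalarTower.of_algebraMap_eq fun x => by
    rw [IsScalarTower.algebraMap_apply (K l) A S, IsScalarTower.algebraMap_apply (K l) k A, ← IsScalarTower.algebraMap_apply k A S]
  obtain ⟨-, hext⟩ := Groth.Agent.H2DerExtend.adicFS_iff.1 (hi l)
  obtain ⟨D, hD⟩ := hext (δ.compAlgebraMap (K l))
  refine ⟨D, fun i => ?_⟩
  obtain ⟨y, hy⟩ := hl (a i) (Finset.mem_image_of_mem a (Finset.mem_univ i))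
  rw [← hy, ← IsScalarTower.algebraMap_apply]
  exact hD y

end Groth.Agent.S9409
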