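import Groth.Statements.S9410
import Mathlib
import Groth.Prelude.Def_Found
import Groth.Prelude.Def_CAlg
import Groth.Prelude.Def_CAlgX
import Groth.Prelude.Def_EGA4b
import Groth.Agent.Lib.H2GeomRegMore
import Groth.Agent.Lib.H2RegDescend
import Groth.Agent.S2451
import Groth.Agent.S4573

set_option autoImplicit false
universe u
open CAlg

namespace Groth.Agent.S9410
open TensorProduct IsLocalRing
open Groth.Agent.H2GeomRegMore
set_option backward.isDefEq.respectTransparency.types false
set_option synthInstance.maxHeartbeats 400000
set_option maxHeartbeats 1000000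

/-- Given a separable algebraic field extension k'/k and a Noetherian k'-algebra A, geometric regularity
of A over k' is equivalent to geometric regularity of A over k. -/
theorem result (k : Type u) [Field k] (k' : Type u)
    [Field k'] [Algebra k k'] [Algebra.IsSeparable k k'] (A : Type u) [CommRing A] [Algebra k' A]
    [Algebra k A] [IsScalarTower k k' A] [IsNoetherianRing A] :
    CAlg.IsGeometricallyRegular k A ↔ CAlg.IsGeometricallyRegular k' A := by
  haveI : Algebra.FormallyEtale k k' := Algebra.FormallyEtale.of_isSeparable k k'
  rw [geomReg_iff_forall, geomReg_iff_forall]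
  refine forall_congr' fun p => forall_congr' fun hp => ⟨fun h C _ _ J hJ ψ hψ => ?_, fun h => ?_⟩
  · letI : Algebra k C := ((algebraMap k' C).comp (algebraMap k k')).toAlgebra
    haveI : IsScalarTower k k' C := IsScalarTower.of_algebraMap_eq' rfl
    obtain ⟨χ, hχ⟩ := h C J hJ (ψ.restrictScalars k) hψ
    have hext : χ.comp (IsScalarTower.toAlgHom k k' (Localization.AtPrime p)) = IsScalarTower.toAlgHom k k' C := by
      refine Algebra.FormallyUnramified.ext J ⟨2, hJ⟩ fun r => ?_
      refine (AlgHom.congr_fun hχ (algebraMap k' (Localization.AtPrime p) r)).trans ?_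
      exact ψ.commutes r
    exact ⟨{ χ.toRingHom with commutes' := fun r => AlgHom.congr_fun hext r }, AlgHom.ext fun c => AlgHom.congr_fun hχ c⟩
  · exact adicFS_trans (𝔟 := (⊥ : Ideal k')) (by rw [Ideal.map_bot]; exact bot_le) (adicFS_of_formallySmooth _) h

end Groth.Agent.S9410
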