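import Groth.Statements.S9412
import Mathlib
import Groth.Prelude.Def_EGA4b
import Groth.Prelude.Def_CAlg
import Groth.Prelude.Def_Found
import Groth.Agent.Lib.H2SkHom
import Groth.Agent.Lib.H2ComplReg
import Groth.Agent.Lib.CompleteNoetherian
import Groth.Agent.Lib.H2FormalFibreDomain

set_option autoImplicit false
universe u
open EGA4

namespace Groth.Agent.S9412
open IsLocalRing TensorProduct Groth.Agent.H2SerreAscent Groth.Agent.H2NormalHom Groth.Agent.H2SkHom
set_option maxHeartbeats 1000000
set_option synthInstance.maxHeartbeats 400000
set_option backward.isDefEq.respectTransparency.types false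

/-- A localization of a geometrically normal algebra over a field k is geometrically normal over k. -/
theorem result (k : Type u) [Field k] (A : Type u) [CommRing A]
    [Algebra k A] (M : Submonoid A) (B : Type u) [CommRing B] [Algebra A B] [IsLocalization M B]
    [Algebra k B] [IsScalarTower k A B] (h : EGA4.IsGeomNormal k A) :
    EGA4.IsGeomNormal k B := by
  intro k' _ _ hf
  let R := A ⊗[k] k'
  haveI : IsLocalization (Algebra.algebraMapSubmonoid R M) (R ⊗[A] B) :=
    isLocalizedModule_iff_isLocalization.1 inferInstance
  exact normal_congr (((Algebra.TensorProduct.comm A R B).toRingEquiv.trans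
    (Algebra.TensorProduct.cancelBaseChange k A A B k').toRingEquiv).trans
      (Algebra.TensorProduct.comm k B k').toRingEquiv)
    (normal_localization (Algebra.algebraMapSubmonoid R M)
      (normal_congr (Algebra.TensorProduct.comm k k' A).toRingEquiv (h k' hf)))

end Groth.Agent.S9412
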