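import Groth.Statements.S9435
import Mathlib

set_option autoImplicit false
universe u
open CAlg

namespace Groth.Agent.S9435

/-- Given a prime p of a ring R and a finite separable extension L of κ(p), there is an étale R-algebra
R' with a prime p' over p whose residue field is κ(p)-isomorphic to L. Stated through an R-algebra
map ψ : R' → L whose image generates the field L: its kernel is such a prime p' and the induced
κ(p') → L is then an isomorphism over κ(p). -/
theorem result (R : Type u) [CommRing R]
    (p : Ideal R) [p.IsPrime] (L : Type u) [Field L] [Algebra p.ResidueField L] [Algebra R L]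
    [IsScalarTower R p.ResidueField L] [Module.Finite p.ResidueField L]
    [Algebra.IsSeparable p.ResidueField L] :
    ∃ (R' : Type u) (_ : CommRing R') (_ : Algebra R R') (_ : Algebra.Etale R R') (ψ : R' →ₐ[R] L),
      Subfield.closure (Set.range ψ) = ⊤ := by
  classical
  let K := p.ResidueField
  obtain ⟨α, hα⟩ := Field.exists_primitive_element K L
  have hint : IsIntegral K α := Algebra.IsIntegral.isIntegral α
  obtain ⟨b, hb⟩ := IsLocalization.exist_integer_multiples (nonZeroDivisors (R ⧸ p))
    ((minpoly K α).support) (fun i => (minpoly K α).coeff i)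
  let c : K := algebraMap (R ⧸ p) K (b : R ⧸ p)
  have hc : c ≠ 0 := IsFractionRing.to_map_ne_zero_of_mem_nonZeroDivisors b.2
  let β : L := c • α
  have hβint : IsIntegral K β := Algebra.IsIntegral.isIntegral β
  have htop : IntermediateField.adjoin K {β} = ⊤ := by
    rw [eq_top_iff, ← hα, IntermediateField.adjoin_simple_le_iff]
    have : α = c⁻¹ • β := by simp [β, inv_smul_smul₀ hc]
    rw [this]
    exact IntermediateField.smul_mem _ (IntermediateField.mem_adjoin_simple_self K β)
  have hm : (minpoly K α).scaleRoots c = minpoly K β := by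
    have hdeg : (minpoly K β).natDegree = (minpoly K α).natDegree := by
      rw [← IntermediateField.adjoin.finrank hβint, ← IntermediateField.adjoin.finrank hint, htop, hα]
    refine minpoly.unique' _ _ ((Polynomial.monic_scaleRoots_iff c).2 (minpoly.monic hint)) ?_ ?_
    · rw [show β = algebraMap K L c * α from Algebra.smul_def c α]
      exact Polynomial.scaleRoots_aeval_eq_zero (minpoly.aeval K α)
    · intro q hq
      by_contra hne
      push_neg at hne
      rw [Polynomial.degree_scaleRoots, Polynomial.degree_eq_natDegree (minpoly.ne_zero hint), ← hdeg,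
        ← Polynomial.degree_eq_natDegree (minpoly.ne_zero hβint)] at hq
      exact absurd (minpoly.degree_le_of_ne_zero K β hne.1 hne.2) (not_le.2 hq)
  have hlift : minpoly K β ∈ Polynomial.lifts (algebraMap R K) := by
    rw [← hm, Polynomial.lifts_iff_coeff_lifts]
    intro i
    rw [Polynomial.coeff_scaleRoots]
    rcases lt_trichotomy i (minpoly K α).natDegree with hi | hi | hi
    · by_cases hs : i ∈ (minpoly K α).support
      · obtain ⟨z, hz⟩ := hb i hs
        obtain ⟨z', rfl⟩ := Ideal.Quotient.mk_surjective z
        obtain ⟨b', hb'⟩ := Ideal.Quotient.mk_surjective (b : R ⧸ p)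
        refine ⟨z' * b' ^ ((minpoly K α).natDegree - i - 1), ?_⟩
        have h1 : algebraMap R K z' = c * (minpoly K α).coeff i := by
          rw [IsScalarTower.algebraMap_apply R (R ⧸ p) K]
          exact hz.trans (Algebra.smul_def _ _)
        have h2 : algebraMap R K b' = c := by
          rw [IsScalarTower.algebraMap_apply R (R ⧸ p) K]
          exact congrArg _ hb'
        obtain ⟨e, he⟩ : ∃ e, (minpoly K α).natDegree - i = e + 1 := ⟨(minpoly K α).natDegree - i - 1, by omega⟩
        rw [map_mul, map_pow, h1, h2, he, Nat.add_sub_cancel, pow_succ]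
        ring
      · exact ⟨0, by rw [Polynomial.notMem_support_iff.1 hs, zero_mul, map_zero]⟩
    · exact ⟨1, by rw [hi, Polynomial.coeff_natDegree, (minpoly.monic hint).leadingCoeff, Nat.sub_self, pow_zero, one_mul, map_one]⟩
    · exact ⟨0, by rw [Polynomial.coeff_eq_zero_of_natDegree_lt hi, zero_mul, map_zero]⟩
  obtain ⟨f, hf, -, hfm⟩ := Polynomial.lifts_and_degree_eq_and_monic hlift (minpoly.monic hβint)
  let P : StandardEtalePair R := ⟨f, hfm, Polynomial.derivative f, ⟨1, 0, 1, by simp⟩⟩
  have hev : ∀ q : Polynomial R, Polynomial.aeval β q = Polynomial.aeval β (q.map (algebraMap R K)) :=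
    fun q => (Polynomial.aeval_map_algebraMap K β q).symm
  have hP : P.HasMap β := by
    refine ⟨by rw [hev]; change Polynomial.aeval β (f.map _) = 0; rw [hf, minpoly.aeval], ?_⟩
    rw [hev]
    change IsUnit (Polynomial.aeval β ((Polynomial.derivative f).map (algebraMap R K)))
    rw [← Polynomial.derivative_map, hf, isUnit_iff_ne_zero]
    exact (Algebra.IsSeparable.isSeparable K β).aeval_derivative_ne_zero (minpoly.aeval K β)
  refine ⟨P.Ring, inferInstance, inferInstance, inferInstance, P.lift β hP, ?_⟩
  rw [eq_top_iff]
  intro x _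
  let S := Subfield.closure (Set.range (P.lift β hP))
  have hK : ∀ k : K, algebraMap K L k ∈ S := by
    intro k
    obtain ⟨u, v, hv, rfl⟩ := IsFractionRing.div_surjective (R ⧸ p) k
    obtain ⟨u, rfl⟩ := Ideal.Quotient.mk_surjective u
    obtain ⟨v, rfl⟩ := Ideal.Quotient.mk_surjective v
    rw [map_div₀]
    have hr : ∀ r : R, algebraMap K L (algebraMap (R ⧸ p) K (Ideal.Quotient.mk p r)) ∈ S := fun r => by
      have e : algebraMap K L (algebraMap (R ⧸ p) K (Ideal.Quotient.mk p r)) = algebraMap R L r := by
        rw [IsScalarTower.algebraMap_apply R K L, IsScalarTower.algebraMap_apply R (R ⧸ p) K]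
        rfl
      rw [e, ← (P.lift β hP).commutes r]
      exact Subfield.subset_closure ⟨_, rfl⟩
    exact div_mem (hr u) (hr v)
  have hβ : β ∈ S := Subfield.subset_closure ⟨P.X, P.lift_X β hP⟩
  have hle : IntermediateField.adjoin K {β} ≤
      Subfield.toIntermediateField S hK :=
    IntermediateField.adjoin_simple_le_iff.2 hβ
  rw [htop] at hle
  exact hle (IntermediateField.mem_top (x := x))

end Groth.Agent.S9435
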