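import Groth.Statements.S9438
import Mathlib
import Groth.Prelude.Def_CAlg
import Groth.Agent.Lib.H2RegNormal

set_option autoImplicit false
universe u
open CAlg

namespace Groth.Agent.S9438


/-- The condition (R_k) descends along faithfully flat ring maps: if S is faithfully flat over R,
Noetherian and (R_k), then R is Noetherian and (R_k). -/
theorem result (k : ℕ) (R : Type u) [CommRing R] (S : Type u) [CommRing S]
    [Algebra R S] [Module.FaithfullyFlat R S] [IsNoetherianRing S] (hS : LocCoh.HasRk k S) :
    IsNoetherianRing R ∧ LocCoh.HasRk k R := by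
  have hR : IsNoetherianRing R := Groth.Agent.H2RegNormal.isNoetherian_descent (S := S)
  refine ⟨hR, fun p _ hp => ?_⟩
  obtain ⟨q, _, _, -, hh⟩ := Groth.Agent.H2RegNormal.exists_prime_over (S := S) p
  haveI := hS q (hh ▸ hp)
  exact Groth.Agent.H2RegNormal.regular_descent p q

end Groth.Agent.S9438
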