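import Groth.Statements.S9442
import Groth.Prelude.Def_CAlgX
import Groth.Prelude.Def_Found
import Groth.Agent.Lib.H2SmoothRegular
import Groth.Agent.Lib.H2CohenField
import Groth.Agent.Lib.H2PerfectSmooth
import Mathlib

set_option autoImplicit false
universe u
open CAlg

namespace Groth.Agent.S9442
open IsLocalRing
set_option backward.isDefEq.respectTransparency.types false

/-- For a finite type algebra S over a field k and a prime q of S with κ(q) separable over k, S is
smooth over k at q if and only if S_q is a regular local ring. -/
theorem result (k : Type u) [Field k]
    (S : Type u) [CommRing S] [Algebra k S] [Algebra.FiniteType k S] (q : Ideal S) [q.IsPrime]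
    [Algebra.IsGeometricallyReduced k q.ResidueField] :
    Algebra.IsSmoothAt k q ↔ IsRegularLocalRing (Localization.AtPrime q) := by
  haveI : Algebra.FormallySmooth k q.ResidueField := Groth.Agent.H2CohenField.formallySmooth_of_geometricallyReduced k q.ResidueField
  exact Groth.Agent.H2SmoothRegular.isSmoothAt_iff_regular q

end Groth.Agent.S9442
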