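import Groth.Statements.S9445
import Mathlib

set_option autoImplicit false
universe u
open CAlg

namespace Groth.Agent.S9445
open TensorProduct
set_option backward.isDefEq.respectTransparency.types false

open TensorProduct in
/-- For ring maps R → S → S' with S → S' formally étale and k ≥ 0, let J' ⊆ S' ⊗_R S' be the kernel of
multiplication and I ⊆ S' ⊗_R S its preimage under the map induced by S → S' (I is the kernel of S'
⊗_R S → S', and (S' ⊗_R S)/I^{k+1} is S' ⊗_S P^k_{S/R}); then (S' ⊗_R S)/I^{k+1} → (S' ⊗_R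
S')/J'^{k+1} is bijective. (The consequence S' ⊗_S Ω_{S/R} ≅ Ω_{S'/R} is Mathlib's
KaehlerDifferential.isBaseChange_of_formallyEtale.) -/
theorem result (R : Type u) [CommRing R]
    (S : Type u) [CommRing S] [Algebra R S] (S' : Type u) [CommRing S'] [Algebra R S']
    [Algebra S S'] [IsScalarTower R S S'] [Algebra.FormallyEtale S S'] (k : ℕ) :
    Function.Bijective (Ideal.quotientMap (KaehlerDifferential.ideal R S' ^ (k + 1))
      (Algebra.TensorProduct.map (AlgHom.id S' S') (IsScalarTower.toAlgHom R S S')).toRingHom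
      (Ideal.le_comap_pow
        (Algebra.TensorProduct.map (AlgHom.id S' S') (IsScalarTower.toAlgHom R S S')).toRingHom
        (K := KaehlerDifferential.ideal R S') (k + 1))) := by
  let φ : S' ⊗[R] S →ₐ[S'] S' ⊗[R] S' := Algebra.TensorProduct.map (AlgHom.id S' S') (IsScalarTower.toAlgHom R S S')
  let J := KaehlerDifferential.ideal R S'
  let I : Ideal (S' ⊗[R] S) := J.comap φ.toRingHom
  let Q := (S' ⊗[R] S) ⧸ I ^ (k + 1)
  let T := (S' ⊗[R] S') ⧸ J ^ (k + 1)
  let Φ : Q →+* T := Ideal.quotientMap (J ^ (k + 1)) φ.toRingHom (Ideal.le_comap_pow φ.toRingHom (K := J) (k + 1))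
  show Function.Bijective Φ
  let μ : S' ⊗[R] S' →ₐ[R] S' := Algebra.TensorProduct.lmul' R
  have hJ : ∀ z, z ∈ J ↔ μ z = 0 := fun z => Iff.rfl
  let inR : S →ₐ[R] S' ⊗[R] S := Algebra.TensorProduct.includeRight
  letI : Algebra S Q := ((Ideal.Quotient.mk (I ^ (k + 1))).comp inR.toRingHom).toAlgebra
  let inR' : S →+* S' ⊗[R] S' := ((Algebra.TensorProduct.includeRight : S' →ₐ[R] S' ⊗[R] S').toRingHom).comp (algebraMap S S')
  letI : Algebra S T := ((Ideal.Quotient.mk (J ^ (k + 1))).comp inR').toAlgebra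
  let g0 : Q →+* S' := Ideal.Quotient.lift (I ^ (k + 1)) (μ.toRingHom.comp φ.toRingHom) fun z hz =>
    (hJ _).1 (show z ∈ I from Ideal.pow_le_self k.succ_ne_zero hz)
  let g : Q →ₐ[S] S' := { g0 with
    commutes' := fun s => by
      show μ (φ ((1 : S') ⊗ₜ[R] s)) = algebraMap S S' s
      simp [μ, φ] }
  have hg : Function.Surjective g := fun x => ⟨Ideal.Quotient.mk _ (x ⊗ₜ[R] (1 : S)), by
    show μ (φ (x ⊗ₜ[R] (1 : S))) = x
    simp [μ, φ]⟩
  have hker : RingHom.ker (g : Q →+* S') ≤ I.map (Ideal.Quotient.mk (I ^ (k + 1))) := fun z hz => by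
    obtain ⟨z, rfl⟩ := Ideal.Quotient.mk_surjective z
    exact Ideal.mem_map_of_mem _ ((hJ _).2 hz)
  have hnil : IsNilpotent (RingHom.ker (g : Q →+* S')) := ⟨k + 1, le_bot_iff.1 ((Ideal.pow_right_mono hker _).trans (by
    rw [← Ideal.map_pow, Ideal.map_quotient_self]))⟩
  let β : S' →ₐ[S] Q := Algebra.FormallySmooth.liftOfSurjective (AlgHom.id S S') g hg hnil
  have hβ : ∀ x, g (β x) = x := fun x => Algebra.FormallySmooth.liftOfSurjective_apply (AlgHom.id S S') g hg hnil x
  have hRQ : ∀ r : R, algebraMap S Q (algebraMap R S r) = algebraMap R Q r := fun r => by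
    show Ideal.Quotient.mk _ (inR (algebraMap R S r)) = _
    rw [inR.commutes]; rfl
  let βR : S' →ₐ[R] Q := { β.toRingHom with
    commutes' := fun r => by
      show β (algebraMap R S' r) = _
      rw [IsScalarTower.algebraMap_apply R S S', β.commutes, hRQ] }
  let ψ : S' ⊗[R] S' →ₐ[R] Q := Algebra.TensorProduct.lift ((Ideal.Quotient.mkₐ R _).comp Algebra.TensorProduct.includeLeft) βR
    (fun _ _ => Commute.all _ _)
  have hgψ : ∀ z, g (ψ z) = μ z := fun z => by
    induction z with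
    | zero => simp
    | add x y hx hy => rw [map_add, map_add, map_add, hx, hy]
    | tmul x y =>
      show g (Ideal.Quotient.mk _ (x ⊗ₜ[R] (1 : S)) * β y) = _
      rw [map_mul, hβ]
      show μ (φ (x ⊗ₜ[R] (1 : S))) * y = _
      simp [μ, φ]
  have hψJ : J ^ (k + 1) ≤ RingHom.ker ψ.toRingHom := by
    rw [← Ideal.map_eq_bot_iff_le_ker, Ideal.map_pow, ← le_bot_iff]
    refine (Ideal.pow_right_mono ?_ _).trans ((Ideal.pow_right_mono hker _).trans (by rw [← Ideal.map_pow, Ideal.map_quotient_self]))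
    rw [Ideal.map_le_iff_le_comap]
    intro z hz
    show g (ψ z) = 0
    rw [hgψ]; exact hz
  let Ψ : T →+* Q := Ideal.Quotient.lift _ ψ.toRingHom hψJ
  have hΨΦ : ∀ z, Ψ (Φ z) = z := fun z => by
    obtain ⟨z, rfl⟩ := Ideal.Quotient.mk_surjective z
    show ψ (φ z) = Ideal.Quotient.mk _ z
    induction z with
    | zero => simp
    | add x y hx hy => rw [map_add, map_add, map_add, hx, hy]
    | tmul x s =>
      show Ideal.Quotient.mk _ (x ⊗ₜ[R] (1 : S)) * β (algebraMap S S' s) = _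
      rw [β.commutes]
      show Ideal.Quotient.mk _ (x ⊗ₜ[R] (1 : S)) * Ideal.Quotient.mk _ ((1 : S') ⊗ₜ[R] s) = _
      rw [← map_mul, Algebra.TensorProduct.tmul_mul_tmul, mul_one, one_mul]
  let Φa : Q →ₐ[S] T := { Φ with
    commutes' := fun s => by
      show Ideal.Quotient.mk _ (φ ((1 : S') ⊗ₜ[R] s)) = Ideal.Quotient.mk _ ((1 : S') ⊗ₜ[R] algebraMap S S' s)
      simp [φ] }
  let r' : S' →ₐ[S] T :=
    { (Ideal.Quotient.mk (J ^ (k + 1))).comp (Algebra.TensorProduct.includeRight : S' →ₐ[R] S' ⊗[R] S').toRingHom with commutes' := fun s => rfl }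
  have heq : Φa.comp β = r' := by
    refine Algebra.FormallyUnramified.ext (J.map (Ideal.Quotient.mk (J ^ (k + 1)))) ⟨k + 1, by
      rw [← Ideal.map_pow, Ideal.map_quotient_self]; rfl⟩ fun x => ?_
    obtain ⟨z, hz⟩ := Ideal.Quotient.mk_surjective (β x)
    show Ideal.Quotient.mk _ (Φ (β x)) = Ideal.Quotient.mk _ (Ideal.Quotient.mk _ ((1 : S') ⊗ₜ[R] x))
    rw [← hz, Ideal.Quotient.eq]
    show Ideal.Quotient.mk _ (φ z) - Ideal.Quotient.mk _ ((1 : S') ⊗ₜ[R] x) ∈ _
    rw [← map_sub]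
    refine Ideal.mem_map_of_mem _ ((hJ _).2 ?_)
    have h1 := hβ x
    rw [← hz] at h1
    rw [map_sub, show μ (φ z) = x from h1]
    simp [μ]
  have hΦΨ : ∀ z, Φ (Ψ z) = z := fun z => by
    obtain ⟨z, rfl⟩ := Ideal.Quotient.mk_surjective z
    show Φ (ψ z) = Ideal.Quotient.mk _ z
    induction z with
    | zero => simp
    | add x y hx hy => rw [map_add, map_add, map_add, hx, hy]
    | tmul x y =>
      show Φ (Ideal.Quotient.mk _ (x ⊗ₜ[R] (1 : S)) * β y) = _
      rw [map_mul, show Φ (β y) = r' y from AlgHom.congr_fun heq y]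
      show Ideal.Quotient.mk _ (φ (x ⊗ₜ[R] (1 : S))) * Ideal.Quotient.mk _ ((1 : S') ⊗ₜ[R] y) = _
      rw [← map_mul]
      simp [φ]
  exact Function.bijective_iff_has_inverse.2 ⟨Ψ, hΨΦ, hΦΨ⟩

end Groth.Agent.S9445
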