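import Groth.Statements.S9446
import Mathlib
import Groth.Prelude.Def_Smoothing
import Groth.Agent.Lib.H2IndSmoothTensor

set_option autoImplicit false
universe u
open CAlg

namespace Groth.Agent.S9446
open TensorProduct
set_option maxHeartbeats 1000000

/-- If S is ind-smooth over R (every R-algebra map into S from a finitely presented R-algebra factors
through a smooth R-algebra) then for every R-algebra B the canonical map S ⊗_R A → A', from the base
change of the integral closure A of R in B to the integral closure A' of S in S ⊗_R B, is bijective. -/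
theorem result (R : Type u) [CommRing R] (S : Type u)
    [CommRing S] [Algebra R S] (hS : Smoothing.IndSmooth R S) (B : Type u) [CommRing B]
    [Algebra R B] : Function.Bijective (TensorProduct.toIntegralClosure R S B) := by
  have hsq : ∀ {U V : Type u} [CommRing U] [CommRing V] [Algebra R U] [Algebra R V] (h : U →ₐ[R] V)
      (x : U ⊗[R] integralClosure R B), ((TensorProduct.toIntegralClosure R V B
        (Algebra.TensorProduct.map h (.id R _) x)) : V ⊗[R] B) =
      Algebra.TensorProduct.map h (.id R B) (TensorProduct.toIntegralClosure R U B x : U ⊗[R] B) := by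
    intro U V _ _ _ _ h x
    induction x with
    | zero => simp
    | add x y hx hy => simp only [map_add, AddMemClass.coe_add, hx, hy]
    | tmul u b => simp [TensorProduct.toIntegralClosure]
  let τ := Groth.Agent.H2IndSmoothTensor.taut R S
  have hτ : Function.Surjective τ := fun s => ⟨MvPolynomial.X s, MvPolynomial.aeval_X _ _⟩
  have hsl : ∀ (C : Type u) [CommRing C] [Algebra R C], Function.Surjective (Algebra.TensorProduct.map τ (AlgHom.id R C)) := by
    intro C _ _ x
    induction x with
    | zero => exact ⟨0, map_zero _⟩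
    | tmul s c => exact ⟨MvPolynomial.X s ⊗ₜ c, by simp [τ]⟩
    | add x y hx hy => obtain ⟨u, rfl⟩ := hx; obtain ⟨v, rfl⟩ := hy; exact ⟨u + v, map_add _ _ _⟩
  rcases subsingleton_or_nontrivial S with hS0 | hS0
  · haveI : Subsingleton (S ⊗[R] integralClosure R B) := Module.subsingleton S _
    haveI : Subsingleton (S ⊗[R] B) := Module.subsingleton S _
    exact ⟨Function.injective_of_subsingleton _, fun y => ⟨0, Subsingleton.elim _ _⟩⟩
  refine ⟨(injective_iff_map_eq_zero _).2 fun x hx => ?_, fun y => ?_⟩
  · obtain ⟨w, rfl⟩ := hsl _ x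
    let z := (TensorProduct.toIntegralClosure R (MvPolynomial S R) B w : MvPolynomial S R ⊗[R] B)
    have hz : Algebra.TensorProduct.map τ (.id R B) z = 0 := by
      rw [← hsq, hx]; rfl
    obtain ⟨A, _, _, hA, g, f, hg, hw⟩ := Groth.Agent.H2IndSmoothTensor.exists_fp R S B z w hz
    obtain ⟨T, _, _, hT, a, h, rfl⟩ := hS A hA f
    have hb := TensorProduct.toIntegralClosure_bijective_of_smooth (R := R) (S := T) (B := B)
    have h0 : Algebra.TensorProduct.map a (.id R _) (Algebra.TensorProduct.map g (.id R _) w) = 0 :=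
      hb.1 (Subtype.ext (by
        rw [hsq, hsq, map_zero]
        show Algebra.TensorProduct.map a (.id R B) (Algebra.TensorProduct.map g (.id R B) z) = _
        rw [hg, map_zero]; rfl))
    rw [← hw]
    have h1 : Algebra.TensorProduct.map (h.comp a) (.id R (integralClosure R B)) =
      (Algebra.TensorProduct.map h (.id R _)).comp (Algebra.TensorProduct.map a (.id R _)) := by
      rw [← Algebra.TensorProduct.map_comp, AlgHom.id_comp]
    rw [h1, AlgHom.comp_apply, h0, map_zero]
  · obtain ⟨y, hy⟩ := y
    obtain ⟨P, hP, hPy⟩ := hy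
    obtain ⟨w, rfl⟩ := hsl _ y
    obtain ⟨Q, hQm, hQ⟩ : ∃ Q : Polynomial (MvPolynomial S R), Q.map τ.toRingHom = P ∧ Q.Monic := by
      obtain ⟨Q, h1, -, h2⟩ := Polynomial.lifts_and_degree_eq_and_monic
        ((Polynomial.mem_lifts P).2 (Polynomial.map_surjective τ.toRingHom hτ P)) hP
      exact ⟨Q, h1, h2⟩
    let z : MvPolynomial S R ⊗[R] B := Q.eval₂ (algebraMap _ _) w
    have hev : ∀ {U : Type u} [CommRing U] [Algebra R U] (g : MvPolynomial S R →ₐ[R] U),
        Algebra.TensorProduct.map g (.id R B) z =
          (Q.map g.toRingHom).eval₂ (algebraMap U (U ⊗[R] B)) (Algebra.TensorProduct.map g (.id R B) w) := by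
      intro U _ _ g
      rw [Polynomial.eval₂_map]
      show (Algebra.TensorProduct.map g (AlgHom.id R B)).toRingHom (Q.eval₂ _ w) = _
      rw [Polynomial.hom_eval₂]
      congr 1
    have hz : Algebra.TensorProduct.map τ (.id R B) z = 0 := by
      rw [hev τ, hQm]; exact hPy
    obtain ⟨A, _, _, hA, g, f, hg, hw⟩ := Groth.Agent.H2IndSmoothTensor.exists_fp R S B z w hz
    obtain ⟨T, _, _, hT, a, h, rfl⟩ := hS A hA f
    have hb := TensorProduct.toIntegralClosure_bijective_of_smooth (R := R) (S := T) (B := B)
    have hcomp : ∀ {U V W : Type u} [CommRing U] [CommRing V] [CommRing W] [Algebra R U] [Algebra R V] [Algebra R W]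
        (p : V →ₐ[R] W) (q : U →ₐ[R] V) (v : U ⊗[R] B), Algebra.TensorProduct.map (p.comp q) (.id R B) v =
          Algebra.TensorProduct.map p (.id R B) (Algebra.TensorProduct.map q (.id R B) v) := by
      intro U V W _ _ _ _ _ _ p q v
      rw [← AlgHom.comp_apply, ← Algebra.TensorProduct.map_comp, AlgHom.id_comp]
    have hint : Algebra.TensorProduct.map (a.comp g) (.id R B) w ∈ integralClosure T (T ⊗[R] B) := by
      refine ⟨Q.map (a.comp g).toRingHom, hQ.map _, ?_⟩
      rw [← hev, hcomp, hg, map_zero]
    obtain ⟨t, ht⟩ := hb.2 ⟨_, hint⟩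
    refine ⟨Algebra.TensorProduct.map h (.id R _) t, Subtype.ext ?_⟩
    rw [hsq, ht]
    show Algebra.TensorProduct.map h (.id R B) _ = Algebra.TensorProduct.map τ (.id R B) w
    rw [← hw, ← hcomp, ← hcomp, AlgHom.comp_assoc]

end Groth.Agent.S9446
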