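import Mathlib
import Groth.Statements.S9447
import Groth.Agent.S0585
-- import your own Groth.Agent.* helpers here

set_option autoImplicit false
universe u
open CAlg

namespace Groth.Agent.S9447

open TensorProduct in
/-- Formal smoothness descends along faithfully flat base change: for R → S arbitrary and R → R'
faithfully flat, the R-algebra S is formally smooth exactly when the R'-algebra R' ⊗_R S is formally
smooth. No finiteness hypothesis on S. -/
theorem result (R : Type u) [CommRing R]
    (S : Type u) [CommRing S] [Algebra R S] (R' : Type u) [CommRing R'] [Algebra R R']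
    [Module.FaithfullyFlat R R'] :
    Algebra.FormallySmooth R S ↔ Algebra.FormallySmooth R' (R' ⊗[R] S) := by
  refine ⟨fun h => inferInstance, fun h => ?_⟩
  haveI := h
  letI : Algebra S (R' ⊗[R] S) := Algebra.TensorProduct.rightAlgebra
  haveI : Module.FaithfullyFlat S (R' ⊗[R] S) :=
    Module.FaithfullyFlat.of_linearEquiv _ (S ⊗[R] R')
      { (Algebra.TensorProduct.comm R R' S).toAddEquiv with
        map_smul' := fun s x => by
          induction x with
          | zero => simp
          | add a b ha hb => simp_all [smul_add]
          | tmul a b =>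
            simp [Algebra.smul_def, Algebra.TensorProduct.algebraMap_apply,
              show algebraMap S (R' ⊗[R] S) s = 1 ⊗ₜ s from rfl] }
  haveI : Subsingleton (Algebra.H1Cotangent R S) := by
    haveI : Subsingleton (R' ⊗[R] Algebra.H1Cotangent R S) :=
      (Algebra.tensorH1CotangentOfFlat (R := R) (S := S) R').subsingleton
    exact (Module.FaithfullyFlat.subsingleton_tensorProduct_iff_right R R').1 inferInstance
  haveI : Module.Projective (R' ⊗[R] S) ((R' ⊗[R] S) ⊗[S] Ω[S⁄R]) :=
    Module.Projective.of_equiv (KaehlerDifferential.tensorKaehlerEquiv R R' S (R' ⊗[R] S)).symm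
  exact ⟨Groth.Agent.S0585.result S (R' ⊗[R] S) Ω[S⁄R], inferInstance⟩

end Groth.Agent.S9447
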