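import Groth.Statements.S9451
import Mathlib

set_option autoImplicit false
universe u
open CategoryTheory CategoryTheory.Limits TensorProduct
open CAlg

namespace Groth.Agent.S9451

/-- Let (A_i) be a filtered system of rings with colimit A and B a smooth A-algebra. Then some stage A_i
carries a smooth A_i-algebra B_i with B isomorphic to A ⊗_{A_i} B_i as A-algebras (the base change
along the colimit map A_i → A; existence of an isomorphism). -/
theorem result {I : Type u} [SmallCategory I] [IsFiltered I]
    (D : I ⥤ CommRingCat.{u}) (c : Cocone D) (hc : IsColimit c) (B : Type u) [CommRing B]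
    [Algebra c.pt B] [Algebra.Smooth c.pt B] :
    ∃ (i : I) (Bi : Type u) (_ : CommRing Bi) (_ : Algebra (D.obj i) Bi),
      Algebra.Smooth (D.obj i) Bi ∧
      (letI : Algebra (D.obj i) c.pt := (c.ι.app i).hom.toAlgebra
       Nonempty (B ≃ₐ[c.pt] (c.pt ⊗[D.obj i] Bi))) := by
  classical
  let Z := ULift.{u} ℤ
  haveI : IsNoetherianRing Z := isNoetherianRing_of_ringEquiv ℤ (ULift.ringEquiv).symm
  letI : Algebra Z c.pt := ((Int.castRingHom c.pt).comp (ULift.ringEquiv : Z ≃+* ℤ).toRingHom).toAlgebra
  obtain ⟨A₀, B₀, _, _, hfg, hsm, ⟨e⟩⟩ := Algebra.Smooth.exists_subalgebra_fg Z c.pt B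
  haveI : Algebra.FiniteType Z A₀ := (Subalgebra.fg_iff_finiteType A₀).mp hfg
  have hfp : Algebra.FinitePresentation Z A₀ := Algebra.FinitePresentation.of_finiteType.mp inferInstance
  let α : (Functor.const _).obj (CommRingCat.of Z) ⟶ D :=
    { app := fun j => CommRingCat.ofHom ((Int.castRingHom (D.obj j)).comp (ULift.ringEquiv : Z ≃+* ℤ).toRingHom)
      naturality := fun j j' φ => by
        ext x
        simp }
  have huniq : ∀ (S : CommRingCat.{u}) (a b : CommRingCat.of Z ⟶ S), a = b := fun S a b => by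
    ext x
    obtain ⟨n⟩ := x
    have : (ULift.up n : Z) = (n : Z) := rfl
    show a (ULift.up n) = b (ULift.up n)
    rw [this, map_intCast, map_intCast]
  obtain ⟨i, g', hg', hg⟩ := RingHom.EssFiniteType.exists_eq_comp_ι_app_of_isColimit
    (CommRingCat.of Z) D α (CommRingCat.ofHom (algebraMap Z A₀)) c hc
    (RingHom.finitePresentation_algebraMap.mpr hfp) (CommRingCat.ofHom (A₀.val.toRingHom))
    (fun j => huniq _ _ _)
  letI : Algebra A₀ (D.obj i) := g'.hom.toAlgebra
  letI : Algebra (D.obj i) c.pt := (c.ι.app i).hom.toAlgebra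
  haveI : IsScalarTower A₀ (D.obj i) c.pt := IsScalarTower.of_algebraMap_eq (fun x => by
    have := congrArg (fun φ => φ.hom x) hg
    exact this)
  refine ⟨i, (D.obj i) ⊗[A₀] B₀, inferInstance, inferInstance, inferInstance, ?_⟩
  exact ⟨e.trans (Algebra.TensorProduct.cancelBaseChange A₀ (D.obj i) c.pt c.pt B₀).symm⟩

end Groth.Agent.S9451
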