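import Groth.Statements.S9462
import Mathlib
import Groth.Agent.Lib.H2LocalCrit
import Groth.Agent.Lib.H2FlatThickening

set_option autoImplicit false
universe u
open CAlg

namespace Groth.Agent.S9462
open TensorProduct
set_option backward.isDefEq.respectTransparency.types false

open TensorProduct in
/-- Consider surjections A' → A and B' → B with square-zero kernels I and J and a commutative square A'
→ B', A → B. If A → B is étale and J = I ⊗_A B — that is, J = IB' and the multiplication map B'
⊗_{A'} I → B' is injective — then A' → B' is étale. -/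
theorem result (A' : Type u) [CommRing A'] (A : Type u) [CommRing A]
    [Algebra A' A] (hA : Function.Surjective (algebraMap A' A))
    (hI : RingHom.ker (algebraMap A' A) ^ 2 = ⊥)
    (B' : Type u) [CommRing B'] [Algebra A' B'] (B : Type u) [CommRing B] [Algebra B' B]
    [Algebra A B] [Algebra A' B] [IsScalarTower A' A B] [IsScalarTower A' B' B]
    (hB : Function.Surjective (algebraMap B' B)) (hJ : RingHom.ker (algebraMap B' B) ^ 2 = ⊥)
    [Algebra.Etale A B]
    (hJI : RingHom.ker (algebraMap B' B) = (RingHom.ker (algebraMap A' A)).map (algebraMap A' B'))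
    (hinj : Function.Injective ((RingHom.ker (algebraMap A' A)).subtype.baseChange B')) :
    Algebra.Etale A' B' := by
  let I := RingHom.ker (algebraMap A' A)
  -- flatness of the closed fibre over the quotient
  let e : A' ⧸ I ≃+* A := RingHom.quotientKerEquivOfSurjective hA
  letI : Algebra (A' ⧸ I) A := e.toRingHom.toAlgebra
  letI : Algebra (A' ⧸ I) B := ((algebraMap A B).comp e.toRingHom).toAlgebra
  haveI : IsScalarTower (A' ⧸ I) A B := IsScalarTower.of_algebraMap_eq' rfl
  haveI : IsScalarTower A' (A' ⧸ I) B := IsScalarTower.of_algebraMap_eq fun x => by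
    show _ = algebraMap A B (e (Ideal.Quotient.mk I x))
    exact IsScalarTower.algebraMap_apply A' A B x
  haveI : Module.Flat (A' ⧸ I) A :=
    Module.Flat.of_linearEquiv (LinearEquiv.ofBijective (Algebra.linearMap (A' ⧸ I) A) e.bijective).symm
  haveI : Module.Flat (A' ⧸ I) B := Module.Flat.trans (A' ⧸ I) A B
  let f : (A' ⧸ I) ⊗[A'] B' →ₗ[A' ⧸ I] B := (IsScalarTower.toAlgHom A' B' B).toLinearMap.liftBaseChange (A' ⧸ I)
  have hf : Function.Bijective f := by
    refine ⟨?_, fun b => ?_⟩
    · rw [injective_iff_map_eq_zero]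
      intro z hz
      obtain ⟨y, rfl⟩ := TensorProduct.mk_surjective A' B' (A' ⧸ I) Ideal.Quotient.mk_surjective z
      have hy : y ∈ I.map (algebraMap A' B') := hJI ▸ (show algebraMap B' B y = 0 by simpa [f] using hz)
      have hy' : y ∈ (I • ⊤ : Submodule A' B') := by rw [Ideal.smul_top_eq_map]; exact hy
      refine Submodule.smul_induction_on hy' (fun a ha x _ => ?_) (fun x x' hx hx' => by
        simp only [TensorProduct.mk_apply] at hx hx' ⊢; rw [TensorProduct.tmul_add, hx, hx', add_zero])
      simp only [TensorProduct.mk_apply]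
      rw [← TensorProduct.smul_tmul, Algebra.smul_def, mul_one, Ideal.Quotient.algebraMap_eq,
        Ideal.Quotient.eq_zero_iff_mem.2 ha, TensorProduct.zero_tmul]
    · obtain ⟨y, rfl⟩ := hB b
      exact ⟨1 ⊗ₜ y, by simp [f]⟩
  haveI : Module.Flat (A' ⧸ I) ((A' ⧸ I) ⊗[A'] B') := Module.Flat.of_linearEquiv (LinearEquiv.ofBijective f hf)
  have h1 : Function.Injective (I.subtype.rTensor B') := by
    rw [injective_iff_map_eq_zero]
    intro z hz
    have key : ∀ z, (I.subtype.baseChange B') (TensorProduct.comm A' I B' z) = TensorProduct.comm A' A' B' (I.subtype.rTensor B' z) := fun z => by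
      induction z with
      | zero => simp
      | add x y hx hy => simp only [map_add, hx, hy]
      | tmul a b => rfl
    have h2 := key z
    rw [hz, map_zero] at h2
    exact (TensorProduct.comm A' I B').map_eq_zero_iff.1 (hinj (h2.trans (map_zero _).symm))
  haveI hflat : Module.Flat A' B' := by
    rw [Module.Flat.iff_rTensor_injective']
    intro J
    exact (Groth.Agent.H2LocalCrit.Inj.of_killed_pow I h1 2 (A' ⧸ J) fun a ha x => by
      rw [show a = 0 from (Submodule.mem_bot A').1 (hI ▸ ha), zero_smul]).of_exact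
      (Submodule.injective_subtype J) (LinearMap.exact_subtype_mkQ J) (Submodule.mkQ_surjective J)
  haveI : Algebra.FormallySmooth A' B' := Groth.Agent.H2FlatThickening.formallySmooth_of_flat I 2 hI hA rfl hB hJI
  -- unramified
  haveI : Algebra.FormallyUnramified A' A := Algebra.FormallyUnramified.of_surjective (Algebra.ofId A' A) hA
  haveI : Algebra.FormallyUnramified A' B := Algebra.FormallyUnramified.comp A' A B
  haveI : Algebra.FormallyUnramified A' B' := by
    have hzero : ∀ z : B ⊗[B'] Ω[B'⁄A'], z = 0 := fun z => by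
      have hex := KaehlerDifferential.exact_kerCotangentToTensor_mapBaseChange A' B' B hB
      obtain ⟨w, rfl⟩ := (hex z).1 (Subsingleton.elim _ _)
      obtain ⟨⟨y, hy⟩, rfl⟩ := Ideal.toCotangent_surjective _ w
      rw [KaehlerDifferential.kerCotangentToTensor_toCotangent]
      have hy' : y ∈ (I • ⊤ : Submodule A' B') := by rw [Ideal.smul_top_eq_map]; exact hJI ▸ hy
      refine Submodule.smul_induction_on (p := fun y => (1 : B) ⊗ₜ[B'] KaehlerDifferential.D A' B' y = 0) hy' (fun a ha x _ => ?_)
        (fun x x' hx hx' => by rw [map_add, TensorProduct.tmul_add, hx, hx', add_zero])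
      rw [Derivation.map_smul, ← IsScalarTower.algebraMap_smul B' a, TensorProduct.tmul_smul, TensorProduct.smul_tmul',
        Algebra.smul_def, ← IsScalarTower.algebraMap_apply, IsScalarTower.algebraMap_apply A' A B, RingHom.mem_ker.1 ha, map_zero,
        zero_mul, TensorProduct.zero_tmul]
    refine ⟨⟨fun w w' => ?_⟩⟩
    suffices h : ∀ w : Ω[B'⁄A'], w = 0 by rw [h w, h w']
    let J := RingHom.ker (algebraMap B' B)
    let θ : B ⊗[B'] Ω[B'⁄A'] →ₗ[B'] Ω[B'⁄A'] ⧸ (J • ⊤ : Submodule B' Ω[B'⁄A']) :=
      (TensorProduct.quotTensorEquivQuotSMul Ω[B'⁄A'] J).toLinearMap.comp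
        (((Ideal.quotientKerAlgEquivOfSurjective (f := Algebra.ofId B' B) hB).symm.toLinearMap).rTensor Ω[B'⁄A'])
    have h1 : ∀ w, w ∈ (J • ⊤ : Submodule B' Ω[B'⁄A']) := fun w => by
      refine (Submodule.Quotient.mk_eq_zero _).1 ?_
      have e1 : θ ((1 : B) ⊗ₜ[B'] w) = Submodule.Quotient.mk w := by
        show TensorProduct.quotTensorEquivQuotSMul _ J ((Ideal.quotientKerAlgEquivOfSurjective (f := Algebra.ofId B' B) hB).symm 1 ⊗ₜ[B'] w) = _
        rw [map_one]
        show TensorProduct.quotTensorEquivQuotSMul Ω[B'⁄A'] J (Ideal.Quotient.mk J 1 ⊗ₜ[B'] w) = _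
        rw [TensorProduct.quotTensorEquivQuotSMul_mk_tmul, one_smul]
      rw [← e1, hzero ((1 : B) ⊗ₜ[B'] w), map_zero]
    intro w
    have htop : (J • ⊤ : Submodule B' Ω[B'⁄A']) = ⊤ := eq_top_iff.2 fun w _ => h1 w
    have h2 : w ∈ ((J ^ 2) • ⊤ : Submodule B' Ω[B'⁄A']) := by
      rw [pow_two, ← smul_eq_mul, Submodule.smul_assoc, htop, htop]; trivial
    rw [hJ, Submodule.bot_smul, Submodule.mem_bot] at h2
    exact h2
  haveI : Algebra.FinitePresentation A' B' := by
    classical
    obtain ⟨n, π, hπ⟩ := Algebra.FiniteType.iff_quotient_mvPolynomial''.1 (inferInstance : Algebra.FiniteType A B)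
    choose g hg using fun i => hB (π (MvPolynomial.X i))
    let φ : MvPolynomial (Fin n) A' →ₐ[A'] B' := MvPolynomial.aeval g
    let M : MvPolynomial (Fin n) A' →+* MvPolynomial (Fin n) A := MvPolynomial.map (algebraMap A' A)
    have hM : ∀ p, algebraMap B' B (φ p) = π (M p) := fun p => by
      induction p using MvPolynomial.induction_on with
      | C a => simp [φ, M, ← IsScalarTower.algebraMap_apply]
      | add p q hp hq => simp only [map_add, hp, hq]
      | mul_X p i hp => simp only [map_mul, hp]; simp [φ, M, hg]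
    have hMs : Function.Surjective M := MvPolynomial.map_surjective _ hA
    have hcov : ∀ b : B', ∃ p, b - φ p ∈ (I • ⊤ : Submodule A' B') := fun b => by
      obtain ⟨q, hq⟩ := hπ (algebraMap B' B b)
      obtain ⟨p, rfl⟩ := hMs q
      refine ⟨p, ?_⟩
      rw [Ideal.smul_top_eq_map]
      show b - φ p ∈ I.map (algebraMap A' B')
      rw [← hJI, RingHom.mem_ker, map_sub, hM, hq, sub_self]
    let R := LinearMap.range φ.toLinearMap
    have hsup : (⊤ : Submodule A' B') ≤ R ⊔ I • ⊤ := fun b _ => by
      obtain ⟨p, hp⟩ := hcov b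
      exact Submodule.mem_sup.2 ⟨φ p, ⟨p, rfl⟩, _, hp, add_sub_cancel _ _⟩
    have hφ : Function.Surjective φ := fun b => by
      have : (⊤ : Submodule A' B') ≤ R := by
        refine hsup.trans (sup_le le_rfl ((Submodule.smul_mono le_rfl hsup).trans ?_))
        rw [Submodule.smul_sup, ← Submodule.smul_assoc, smul_eq_mul, ← pow_two, hI, Submodule.bot_smul, sup_bot_eq]
        exact Submodule.smul_le.2 fun a _ x hx => R.smul_mem a hx
      exact this (Submodule.mem_top (x := b))
    obtain ⟨t, ht⟩ : (RingHom.ker π.toRingHom).FG := Algebra.FinitePresentation.ker_fG_of_surjective π hπ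
    have hlift : ∀ q, π q = 0 → ∃ p, φ p = 0 ∧ M p = q := fun q hq => by
      obtain ⟨p, rfl⟩ := hMs q
      have h2 : φ p ∈ (I.map (MvPolynomial.C : A' →+* MvPolynomial (Fin n) A')).map φ.toRingHom := by
        rw [Ideal.map_map, show φ.toRingHom.comp MvPolynomial.C = algebraMap A' B' from φ.comp_algebraMap, ← hJI, RingHom.mem_ker, hM, hq]
      obtain ⟨r, hr, hr'⟩ := (Ideal.mem_map_iff_of_surjective φ.toRingHom hφ).1 h2
      refine ⟨p - r, by rw [map_sub, show φ r = φ p from hr', sub_self], ?_⟩
      rw [map_sub, show M r = 0 from ?_, sub_zero]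
      rw [← RingHom.mem_ker, MvPolynomial.ker_map]; exact hr
    choose lift hlift0 hliftM using hlift
    let K := RingHom.ker φ.toRingHom
    let K' : Ideal (MvPolynomial (Fin n) A') :=
      Ideal.span (Set.range fun q : t => lift q.1 (ht.le (Ideal.subset_span q.2)))
    have hle : K ≤ K' ⊔ I.map MvPolynomial.C * K := fun p hp => by
      have h1 : M p ∈ K'.map M := by
        have h0 : M p ∈ RingHom.ker π.toRingHom := by rw [RingHom.mem_ker]; exact (hM p).symm.trans (by rw [show φ p = 0 from hp, map_zero])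
        rw [← ht] at h0
        refine Ideal.span_le.2 (fun q hq => ?_) h0
        rw [← hliftM q (ht.le (Ideal.subset_span hq))]
        exact Ideal.mem_map_of_mem M (Ideal.subset_span ⟨⟨q, hq⟩, rfl⟩)
      obtain ⟨k, hk, hk'⟩ := (Ideal.mem_map_iff_of_surjective M hMs).1 h1
      have hkK : k ∈ K := (show K' ≤ K from Ideal.span_le.2 (by rintro _ ⟨q, rfl⟩; exact hlift0 _ _)) hk
      have hd : p - k ∈ I.map MvPolynomial.C := by
        rw [show (I.map MvPolynomial.C) = RingHom.ker M from (MvPolynomial.ker_map _).symm, RingHom.mem_ker, map_sub, hk', sub_self]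
      have h2 : p - k ∈ φ.toLinearMap.ker ⊓ (I • ⊤ : Submodule A' (MvPolynomial (Fin n) A')) :=
        ⟨(sub_mem hp hkK : p - k ∈ K), by rw [Ideal.smul_top_eq_map]; exact hd⟩
      rw [LinearMap.ker_inf_smul_top_eq_smul_of_flat I φ.toLinearMap hφ] at h2
      refine Submodule.mem_sup.2 ⟨k, hk, p - k, ?_, add_sub_cancel _ _⟩
      refine Submodule.smul_induction_on h2 (fun a ha x hx => ?_) (fun x y hx hy => add_mem hx hy)
      rw [MvPolynomial.smul_eq_C_mul]
      exact Ideal.mul_mem_mul (Ideal.mem_map_of_mem _ ha) hx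
    have hKK' : K = K' := by
      refine le_antisymm ?_ (Ideal.span_le.2 (by rintro _ ⟨q, rfl⟩; exact hlift0 _ _))
      refine hle.trans (sup_le le_rfl ((Ideal.mul_mono le_rfl hle).trans ?_))
      rw [Ideal.mul_sup, ← mul_assoc, ← pow_two, ← Ideal.map_pow, hI, Ideal.map_bot, Ideal.bot_mul, sup_bot_eq]
      exact Ideal.mul_le_right
    exact Algebra.FinitePresentation.of_surjective hφ (show K.FG by rw [hKK']; exact Submodule.fg_span (Set.finite_range _))
  exact { formallyEtale := Algebra.FormallyEtale.of_formallyUnramified_and_formallySmooth }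

end Groth.Agent.S9462
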