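import Groth.Statements.S9469
import Mathlib
import Groth.Agent.Lib.H4EtalePoint


set_option autoImplicit false
universe u
open Hensel

namespace Groth.Agent.S9469

/-- Let R be a ring and p a prime of R. Consider pairs (S, q) with S an étale R-algebra and q a prime of
S lying over p such that κ(p) → κ(q) is bijective; a morphism of pairs is an R-algebra map pulling
the second prime back to the first. Then any two parallel morphisms of pairs φ, ψ : (S₁, q₁) → (S₂,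
q₂) are coequalized by a morphism of pairs (S₂, q₂) → (S₃, q₃). -/
theorem result (R : Type u) [CommRing R]
    (p : Ideal R) [p.IsPrime] (S₁ : Type u) [CommRing S₁] [Algebra R S₁] [Algebra.Etale R S₁] (q₁ : Ideal S₁) [q₁.IsPrime] (hq₁ : p = q₁.comap (algebraMap R S₁))
    (hq₁κ : Function.Bijective (Ideal.ResidueField.map p q₁ (algebraMap R S₁) hq₁))
    (S₂ : Type u) [CommRing S₂] [Algebra R S₂] [Algebra.Etale R S₂] (q₂ : Ideal S₂) [q₂.IsPrime] (hq₂ : p = q₂.comap (algebraMap R S₂))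
    (hq₂κ : Function.Bijective (Ideal.ResidueField.map p q₂ (algebraMap R S₂) hq₂))
    (φ ψ : S₁ →ₐ[R] S₂) (hφ : q₂.comap φ.toRingHom = q₁) (hψ : q₂.comap ψ.toRingHom = q₁) :
    ∃ (S₃ : Type u) (_ : CommRing S₃) (_ : Algebra R S₃) (_ : Algebra.Etale R S₃) (q₃ : Ideal S₃)
      (_ : q₃.IsPrime) (hq₃ : p = q₃.comap (algebraMap R S₃)),
      Function.Bijective (Ideal.ResidueField.map p q₃ (algebraMap R S₃) hq₃) ∧
        ∃ χ : S₂ →ₐ[R] S₃, q₃.comap χ.toRingHom = q₂ ∧ χ.comp φ = χ.comp ψ := by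
  obtain ⟨σ₁, h₁, hu₁⟩ := H4EtPoint.exists_point p q₁ hq₁ hq₁κ
  obtain ⟨σ₂, h₂, -⟩ := H4EtPoint.exists_point p q₂ hq₂ hq₂κ
  obtain ⟨X, eX, hX⟩ := H4Henzn.exists_nbhd S₁ σ₁
  obtain ⟨Y, eY, hY⟩ := H4Henzn.exists_nbhd S₂ σ₂
  have key : ∀ f : S₁ →ₐ[R] S₂, q₂.comap f.toRingHom = q₁ → σ₂.comp f = σ₁ := fun f hf =>
    hu₁ _ <| by rw [← hf, ← h₂]; rfl
  let φ' : X ⟶ Y := ⟨eY.symm.toAlgHom.comp (φ.comp eX.toAlgHom), AlgHom.ext fun x => by
    simpa [hY, hX] using AlgHom.congr_fun (key φ hφ) (eX x)⟩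
  let ψ' : X ⟶ Y := ⟨eY.symm.toAlgHom.comp (ψ.comp eX.toAlgHom), AlgHom.ext fun x => by
    simpa [hY, hX] using AlgHom.congr_fun (key ψ hψ) (eX x)⟩
  obtain ⟨Z, h, hh⟩ := H4Henzn.exists_equalizer φ' ψ'
  obtain ⟨hp, hc, hb⟩ := H4EtPoint.residueField_map_bijective_of_point p Z.σ
  refine ⟨Z.ring, inferInstance, inferInstance, inferInstance, _, hp, hc, hb,
    h.f.comp eY.symm.toAlgHom, ?_, AlgHom.ext fun s => ?_⟩
  · rw [← h₂]; ext s
    show Z.σ (h.f (eY.symm s)) = 0 ↔ σ₂ s = 0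
    rw [H4Henzn.σ_f, hY, AlgEquiv.apply_symm_apply]
  · have := AlgHom.congr_fun (congrArg H4Henzn.Nbhd.Hom.f hh) (eX.symm s)
    simpa [φ', ψ'] using this

end Groth.Agent.S9469
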