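import Groth.Statements.S9508
import Mathlib

set_option autoImplicit false
universe u
open SchMor

namespace Groth.Agent.S9508
open CategoryTheory CategoryTheory.Limits AlgebraicGeometry

open AlgebraicGeometry in
open CategoryTheory in
/-- (1) ⇔ (2): A morphism of schemes f : X → S is quasi-separated if and only if, whenever two affine
opens U and V of X both lie in the preimage f⁻¹(W) of one affine open W of S, their intersection U ∩
V is quasi-compact (equivalently, is covered by finitely many affine opens). -/
theorem result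
    {X S : Scheme.{u}} (f : X ⟶ S) :
    QuasiSeparated f ↔
      ∀ (U V : X.affineOpens) (W : S.affineOpens),
        (U : X.Opens) ≤ f ⁻¹ᵁ (W : S.Opens) → (V : X.Opens) ≤ f ⁻¹ᵁ (W : S.Opens) →
          IsCompact ((U : Set X) ∩ (V : Set X)) := by
  open CategoryTheory CategoryTheory.Limits in
  constructor
  · intro h U V W hU hV
    exact (f.isQuasiSeparated_preimage W.2.isQuasiSeparated) _ _ hU U.1.2 U.2.isCompact hV V.1.2 V.2.isCompact
  · intro h
    set_option backward.isDefEq.respectTransparency.types false in
    refine (HasAffineProperty.iff_of_iSup_eq_top (P := @QuasiSeparated) (fun W : S.affineOpens => W) (iSup_affineOpens_eq_top S)).2 fun W => ?_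
    refine quasiSeparatedSpace_iff_forall_affineOpens.2 fun A B => ?_
    let iW := (f ⁻¹ᵁ W.1).ι
    have hle : ∀ C : (f ⁻¹ᵁ W.1).toScheme.affineOpens, iW ''ᵁ C.1 ≤ f ⁻¹ᵁ W.1 := fun C => by
      rintro _ ⟨c, _, rfl⟩; exact c.2
    have hc := h ⟨iW ''ᵁ A.1, A.2.image_of_isOpenImmersion iW⟩ ⟨iW ''ᵁ B.1, B.2.image_of_isOpenImmersion iW⟩ W (hle A) (hle B)
    rw [iW.isOpenEmbedding.isInducing.isCompact_iff, Set.image_inter iW.isOpenEmbedding.injective]
    exact hc

end Groth.Agent.S9508
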