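import Groth.Statements.S9581
import Mathlib
import Groth.Prelude.Def_FlatCA
import Groth.Agent.Lib.H2WeakAss
import Groth.Agent.S9590
import Groth.Agent.S9595

set_option autoImplicit false
universe u
open CAlg

namespace Groth.Agent.S9581
open scoped TensorProduct
open Groth.Agent.H2WeakAss
set_option linter.style.haveILetI false

/-- (1) ⇔ (3): for a ring R, an R-module M and a prime p of R, the prime p is weakly associated to M
(minimal among the primes containing the annihilator of some element of M) if and only if the
localization M_p contains an element whose annihilator in R_p has radical equal to the maximal ideal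
p R_p. -/
theorem result {R : Type u} [CommRing R] (M : Type u) [AddCommGroup M] [Module R M] (p : Ideal R) [p.IsPrime] :
    p ∈ FlatCA.weakAss R M ↔ IsAssociatedPrime (IsLocalRing.maximalIdeal (Localization.AtPrime p)) (LocalizedModule p.primeCompl M) := by
  have hd : Disjoint (p.primeCompl : Set R) (p : Set R) := Set.disjoint_left.2 fun a ha hap => ha hap
  rw [← weakAss_localizedModule_iff p.primeCompl (M := M) (p := p) inferInstance hd, mem_weakAss_iff inferInstance]
  set L := Localization.AtPrime p
  have hcm : (IsLocalRing.maximalIdeal L).comap (algebraMap R L) = p := IsLocalization.AtPrime.comap_maximalIdeal L p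
  constructor
  · rintro ⟨x, h1, h2⟩
    refine ⟨inferInstance, x, ?_⟩
    refine le_antisymm (fun z hz => ?_) (IsLocalRing.le_maximalIdeal fun ht => ?_)
    · obtain ⟨⟨a, t⟩, ha⟩ := IsLocalization.surj p.primeCompl z
      have hap : a ∈ p := by
        rw [← hcm, Ideal.mem_comap, ← ha]
        exact Ideal.mul_mem_right _ _ hz
      obtain ⟨s, hs, n, hn⟩ := h2 a hap
      refine ⟨n, Submodule.mem_colon_singleton.2 ((Submodule.mem_bot L).2 ?_)⟩
      have hu : IsUnit (algebraMap R L s * algebraMap R L (t : R) ^ n) :=
        (IsLocalization.map_units L (⟨s, hs⟩ : p.primeCompl)).mul ((IsLocalization.map_units L t).pow n)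
      refine hu.smul_eq_zero.1 ?_
      rw [smul_smul, show algebraMap R L s * algebraMap R L (t : R) ^ n * z ^ n = algebraMap R L (s * a ^ n) by
        rw [map_mul, map_pow, ← ha, mul_pow]; ring, algebraMap_smul, hn]
    · obtain ⟨n, hn⟩ := (Ideal.eq_top_iff_one _).1 ht
      rw [one_pow] at hn
      have := (Submodule.mem_bot L).1 (Submodule.mem_colon_singleton.1 hn)
      rw [one_smul] at this
      exact Ideal.IsPrime.ne_top (inferInstance : p.IsPrime) ((Ideal.eq_top_iff_one _).2 (h1 1 (by rw [one_smul, this])))
  · rintro ⟨-, x, hx⟩
    refine ⟨x, fun r hr => ?_, fun a ha => ?_⟩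
    · rw [← hcm, Ideal.mem_comap, hx]
      exact Ideal.le_radical (Submodule.mem_colon_singleton.2 ((Submodule.mem_bot L).2 (by rw [algebraMap_smul, hr])))
    · rw [← hcm, Ideal.mem_comap, hx] at ha
      obtain ⟨n, hn⟩ := ha
      have := (Submodule.mem_bot L).1 (Submodule.mem_colon_singleton.1 hn)
      rw [← map_pow, algebraMap_smul] at this
      exact ⟨1, fun h => Ideal.IsPrime.ne_top (inferInstance : p.IsPrime) ((Ideal.eq_top_iff_one _).2 h), n, by rwa [one_mul]⟩

end Groth.Agent.S9581
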