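import Groth.Statements.S9582
import Mathlib
import Groth.Prelude.Def_FlatCA
import Groth.Agent.Lib.H2MinPrime

set_option autoImplicit false
universe u
open CAlg

namespace Groth.Agent.S9582
set_option linter.style.haveILetI false

/-- For a reduced ring R, the primes weakly associated to the R-module R (primes minimal over the
annihilator of some element) are exactly the minimal primes of R. -/
theorem result {R : Type u} [CommRing R] [IsReduced R] :
    FlatCA.weakAss R R = minimalPrimes R := by
  ext p
  constructor
  · rintro ⟨a, hp⟩
    haveI := hp.1.1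
    have hap : a ∉ p := fun ha => by
      obtain ⟨s, hs, n, hn⟩ := Groth.Agent.H2MinPrime.exists_notMem_mul_pow_mem hp ha
      rw [Submodule.mem_annihilator_span_singleton, smul_eq_mul, mul_assoc, ← pow_succ] at hn
      have : (s * a) ^ (n + 1) = 0 := by rw [mul_pow, pow_succ s, mul_assoc, hn, mul_zero]
      have h0 := eq_zero_of_pow_eq_zero this
      exact hs (hp.1.2 ((Submodule.mem_annihilator_span_singleton _ _).2 h0))
    refine ⟨⟨hp.1.1, bot_le⟩, fun q hq hqp => ?_⟩
    refine hp.2 ⟨hq.1, fun b hb => ?_⟩ hqp
    rw [Submodule.mem_annihilator_span_singleton, smul_eq_mul] at hb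
    exact (hq.1.mem_or_mem (hb ▸ q.zero_mem)).resolve_right fun h => hap (hqp h)
  · intro hp
    refine ⟨1, ?_⟩
    have : (Submodule.span R {(1 : R)}).annihilator = ⊥ := by
      ext b; rw [Submodule.mem_annihilator_span_singleton, smul_eq_mul, mul_one]; rfl
    rw [this]; exact hp

end Groth.Agent.S9582
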