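import Groth.Statements.S9583
import Mathlib
import Groth.Prelude.Def_FlatCA
import Groth.Agent.Lib.H2WeakAss
import Groth.Agent.S9590
import Groth.Agent.S9595

set_option autoImplicit false
universe u
open CAlg

namespace Groth.Agent.S9583
open scoped TensorProduct
open Groth.Agent.H2WeakAss
set_option linter.style.haveILetI false

/-- For a ring R and a short exact sequence 0 → M' → M → M'' → 0 of R-modules, every prime weakly
associated to M' is weakly associated to M, and every prime weakly associated to M is weakly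
associated to M' or to M''. -/
theorem result {R : Type u} [CommRing R] {M' M M'' : Type u} [AddCommGroup M'] [Module R M'] [AddCommGroup M] [Module R M] [AddCommGroup M''] [Module R M''] (f : M' →ₗ[R] M) (g : M →ₗ[R] M'') (hf : Function.Injective f) (hg : Function.Surjective g) (hfg : Function.Exact f g) :
    FlatCA.weakAss R M' ⊆ FlatCA.weakAss R M ∧ FlatCA.weakAss R M ⊆ FlatCA.weakAss R M' ∪ FlatCA.weakAss R M'' := by
  constructor
  · rintro p ⟨m, hm⟩
    refine ⟨f m, ?_⟩
    have h : (Submodule.span R {f m}).annihilator = (Submodule.span R {m}).annihilator := by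
      ext r
      rw [Submodule.mem_annihilator_span_singleton, Submodule.mem_annihilator_span_singleton, ← map_smul]
      exact map_eq_zero_iff f hf
    rwa [h]
  · intro p hp
    obtain ⟨m₀, hm₀⟩ := hp
    have hP := hm₀.1.1
    obtain ⟨m, h1, h2⟩ := (mem_weakAss_iff hP).1 (⟨m₀, hm₀⟩ : p ∈ FlatCA.weakAss R M)
    by_cases h : ∀ r : R, r • g m = 0 → r ∈ p
    · refine Or.inr ((mem_weakAss_iff hP).2 ⟨g m, h, fun a ha => ?_⟩)
      obtain ⟨s, hs, n, hn⟩ := h2 a ha
      exact ⟨s, hs, n, by rw [← map_smul, hn, map_zero]⟩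
    · push Not at h
      obtain ⟨r, hr, hrp⟩ := h
      obtain ⟨m', hm'⟩ := (hfg (r • m)).1 (by rw [map_smul]; exact hr)
      refine Or.inl ((mem_weakAss_iff hP).2 ⟨m', fun v hv => ?_, fun a ha => ?_⟩)
      · refine (hP.mem_or_mem (h1 (v * r) ?_)).resolve_right hrp
        rw [mul_smul, ← hm', ← map_smul, hv, map_zero]
      · obtain ⟨s, hs, n, hn⟩ := h2 a ha
        refine ⟨s, hs, n, hf ?_⟩
        rw [map_smul, hm', smul_comm, hn, smul_zero, map_zero]

end Groth.Agent.S9583
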