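import Groth.Statements.S9584
import Mathlib
import Groth.Prelude.Def_FlatCA
import Groth.Agent.Lib.H2MinPrime

set_option autoImplicit false
universe u
open CAlg

namespace Groth.Agent.S9584
set_option linter.style.haveILetI false

/-- For a ring R and an R-module M, M has no weakly associated prime (no prime minimal over the
annihilator of an element) if and only if M = 0. -/
theorem result {R : Type u} [CommRing R] (M : Type u) [AddCommGroup M] [Module R M] :
    FlatCA.weakAss R M = ∅ ↔ Subsingleton M := by
  constructor
  · intro h
    refine subsingleton_of_forall_eq 0 fun m => ?_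
    by_contra hm
    have hne : (Submodule.span R {m}).annihilator ≠ ⊤ := fun h1 => hm (by
      have := (Ideal.eq_top_iff_one _).1 h1
      rwa [Submodule.mem_annihilator_span_singleton, one_smul] at this)
    obtain ⟨J, hJ, hle⟩ := Ideal.exists_le_maximal _ hne
    obtain ⟨p, hp, -⟩ := Ideal.exists_minimalPrimes_le hle
    have : p ∈ FlatCA.weakAss R M := ⟨m, hp⟩
    rw [h] at this; exact this
  · intro h
    refine Set.eq_empty_iff_forall_notMem.2 fun p hp => ?_
    obtain ⟨m, hm⟩ := hp
    have : (Submodule.span R {m}).annihilator = ⊤ := (Ideal.eq_top_iff_one _).2 (by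
      rw [Submodule.mem_annihilator_span_singleton]; exact Subsingleton.elim _ _)
    exact hm.1.1.ne_top (top_le_iff.1 (this ▸ hm.1.2))

end Groth.Agent.S9584
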