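import Groth.Statements.S9585
import Mathlib
import Groth.Prelude.Def_FlatCA
import Groth.Agent.Lib.H2MinPrime

set_option autoImplicit false
universe u
open CAlg

namespace Groth.Agent.S9585
set_option linter.style.haveILetI false

/-- For a ring R and an R-module M, an element of R lies in some weakly associated prime of M exactly
when multiplication by it on M is not injective; in other words the union of the weakly associated
primes of M equals the set of zerodivisors on M. -/
theorem result {R : Type u} [CommRing R] (M : Type u) [AddCommGroup M] [Module R M] :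
    ⋃ q ∈ FlatCA.weakAss R M, (q : Set R) = {f : R | ¬ IsSMulRegular M f} := by
  ext f
  simp only [Set.mem_iUnion, Set.mem_setOf_eq, isSMulRegular_iff_right_eq_zero_of_smul, not_forall, exists_prop, SetLike.mem_coe]
  constructor
  · rintro ⟨q, ⟨m, hm⟩, hf⟩
    obtain ⟨s, hs, n, hn⟩ := Groth.Agent.H2MinPrime.exists_notMem_mul_pow_mem hm hf
    rw [Submodule.mem_annihilator_span_singleton] at hn
    have hsm : s • m ≠ 0 := fun h => hs (hm.1.2 ((Submodule.mem_annihilator_span_singleton _ _).2 h))
    by_contra hc
    push Not at hc
    have : ∀ k, f ^ k • (s • m) ≠ 0 := by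
      intro k; induction k with
      | zero => simpa using hsm
      | succ k ih => rw [pow_succ', mul_smul]; exact fun h => ih (hc _ h)
    exact this n (by rw [smul_smul, mul_comm]; exact hn)
  · rintro ⟨m, hf, hm⟩
    have hne : (Submodule.span R {m}).annihilator ≠ ⊤ := fun h1 => hm (by
      have := (Ideal.eq_top_iff_one _).1 h1
      rwa [Submodule.mem_annihilator_span_singleton, one_smul] at this)
    obtain ⟨J, hJ, hle⟩ := Ideal.exists_le_maximal _ hne
    obtain ⟨p, hp, -⟩ := Ideal.exists_minimalPrimes_le hle
    exact ⟨p, ⟨m, hp⟩, hp.1.2 ((Submodule.mem_annihilator_span_singleton _ _).2 hf)⟩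

end Groth.Agent.S9585
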