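import Groth.Statements.S9586
import Mathlib
import Groth.Prelude.Def_FlatCA
import Groth.Agent.Lib.H2MinPrime

set_option autoImplicit false
universe u
open CAlg

namespace Groth.Agent.S9586
set_option linter.style.haveILetI false

/-- For a ring R, an R-module M and a finitely generated prime ideal p of R, p is associated to M (equal
to the annihilator of an element) if and only if p is weakly associated to M (minimal over the
annihilator of an element). -/
theorem result {R : Type u} [CommRing R] (M : Type u) [AddCommGroup M] [Module R M] (p : Ideal R) [p.IsPrime] (hp : p.FG) :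
    p ∈ FlatCA.ass R M ↔ p ∈ FlatCA.weakAss R M := by
  classical
  constructor
  · rintro ⟨_, m, rfl⟩
    exact ⟨m, Ideal.minimalPrimes_eq_subsingleton_self (I := (Submodule.span R {m}).annihilator) ▸ Set.mem_singleton _⟩
  · rintro ⟨m, hm⟩
    refine ⟨inferInstance, ?_⟩
    set a := (Submodule.span R {m}).annihilator
    obtain ⟨S, hS⟩ := hp
    have hex : ∃ n : ℕ, ∃ s ∉ p, ∀ x ∈ p ^ n, s * x ∈ a := by
      have h1 : ∀ x ∈ S, ∃ s ∉ p, ∃ n : ℕ, s * x ^ n ∈ a := fun x hx =>
        Groth.Agent.H2MinPrime.exists_notMem_mul_pow_mem hm (hS ▸ Ideal.subset_span hx)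
      choose! s hs n hn using h1
      let c := ∏ x ∈ S, s x
      have hc : c ∉ p := fun h => by
        obtain ⟨x, hx, hxp⟩ := (Ideal.IsPrime.prod_mem_iff).1 h
        exact hs x hx hxp
      have hle : p ≤ (a.colon {c}).radical := by
        rw [← hS, Ideal.span_le]
        intro x hx
        refine ⟨n x, Submodule.mem_colon_singleton.2 ?_⟩
        obtain ⟨d, hd⟩ : s x ∣ c := Finset.dvd_prod_of_mem s hx
        rw [smul_eq_mul, hd, ← mul_assoc, mul_comm (x ^ n x) (s x)]
        exact a.mul_mem_right _ (hn x hx)
      obtain ⟨k, hk⟩ := Ideal.exists_pow_le_of_le_radical_of_fg hle ⟨S, hS⟩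
      exact ⟨k, c, hc, fun x hx => by simpa [mul_comm, Submodule.mem_colon_singleton] using Submodule.mem_colon_singleton.1 (hk hx)⟩
    obtain ⟨s, hs, hsn⟩ := Nat.find_spec hex
    rcases hk : Nat.find hex with _ | k
    · exact absurd (hm.1.2 (by simpa [hk] using hsn 1 (by simp [hk]))) hs
    · have hmin := Nat.find_min hex (m := k) (by omega)
      push Not at hmin
      obtain ⟨T, hT⟩ := Submodule.FG.pow (M := p) ⟨S, hS⟩ k
      have : ∃ y ∈ T, ∀ t ∉ p, t * (s * y) ∉ a := by
        by_contra hc
        push Not at hc
        choose! t ht htm using hc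
        have hc' : (∏ y ∈ T, t y) * s ∉ p := fun h => by
          rcases Ideal.IsPrime.mem_or_mem inferInstance h with h | h
          · obtain ⟨y, hy, hyp⟩ := (Ideal.IsPrime.prod_mem_iff).1 h
            exact ht y hy hyp
          · exact hs h
        obtain ⟨x, hx, hxa⟩ := hmin _ hc'
        apply hxa
        have : p ^ k ≤ a.colon {(∏ y ∈ T, t y) * s} := by
          rw [← hT, Submodule.span_le]
          intro y hy
          refine Submodule.mem_colon_singleton.2 ?_
          obtain ⟨d, hd⟩ : t y ∣ ∏ y ∈ T, t y := Finset.dvd_prod_of_mem t hy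
          rw [smul_eq_mul, hd, show y * (t y * d * s) = t y * (s * y) * d by ring]
          exact a.mul_mem_right _ (htm y hy)
        simpa [mul_comm] using Submodule.mem_colon_singleton.1 (this hx)
      obtain ⟨y, hy, hyt⟩ := this
      refine ⟨(s * y) • m, le_antisymm (fun x hx => ?_) (fun x hx => ?_)⟩
      · rw [Submodule.mem_annihilator_span_singleton, smul_smul]
        refine (Submodule.mem_annihilator_span_singleton _ _).1 ?_
        rw [show x * (s * y) = s * (y * x) by ring]
        refine hsn _ ?_
        rw [hk, pow_succ]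
        exact Ideal.mul_mem_mul (hT ▸ Submodule.subset_span hy) hx
      · rw [Submodule.mem_annihilator_span_singleton, smul_smul] at hx
        by_contra hxp
        exact hyt x hxp ((Submodule.mem_annihilator_span_singleton _ _).2 hx)

end Groth.Agent.S9586
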