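import Groth.Statements.S9587
import Mathlib
import Groth.Prelude.Def_FlatCA
import Groth.Agent.Lib.H2WeakAss
import Groth.Agent.S9590
import Groth.Agent.S9595

set_option autoImplicit false
universe u
open CAlg

namespace Groth.Agent.S9587
open scoped TensorProduct
open Groth.Agent.H2WeakAss
set_option linter.style.haveILetI false

/-- For a ring R, an ideal I of R and an R/I-module M, regarded as an R-module through R → R/I, the
primes of R weakly associated to M are exactly the inverse images of the primes of R/I weakly
associated to M. -/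
theorem result {R : Type u} [CommRing R] (I : Ideal R) (M : Type u) [AddCommGroup M] [Module (R ⧸ I) M] [Module R M] [IsScalarTower R (R ⧸ I) M] :
    FlatCA.weakAss R M = Ideal.comap (Ideal.Quotient.mk I) '' FlatCA.weakAss (R ⧸ I) M := by
  have key : ∀ m : M, (Submodule.span R {m}).annihilator.minimalPrimes = Ideal.comap (Ideal.Quotient.mk I) '' (Submodule.span (R ⧸ I) {m}).annihilator.minimalPrimes := fun m => by
    rw [show (Submodule.span R {m}).annihilator = _ from ann_tower (A := R ⧸ I) m]
    exact Ideal.comap_minimalPrimes_eq_of_surjective Ideal.Quotient.mk_surjective _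
  ext p
  constructor
  · rintro ⟨m, hm⟩
    rw [key m] at hm
    obtain ⟨Q, hQ, rfl⟩ := hm
    exact ⟨Q, ⟨m, hQ⟩, rfl⟩
  · rintro ⟨Q, ⟨m, hm⟩, rfl⟩
    exact ⟨m, (key m).symm ▸ ⟨Q, hm, rfl⟩⟩

end Groth.Agent.S9587
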