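import Groth.Statements.S9589
import Mathlib
import Groth.Prelude.Def_FlatCA
import Groth.Agent.Lib.H2WeakAss
import Groth.Agent.S9590
import Groth.Agent.S9595

set_option autoImplicit false
universe u
open CAlg

namespace Groth.Agent.S9589
open scoped TensorProduct
open Groth.Agent.H2WeakAss
set_option linter.style.haveILetI false

/-- For a ring R, an R-module M, a multiplicative subset S of R and a prime p of R not meeting S, p is
weakly associated to M if and only if the extended prime p S⁻¹R is weakly associated to the
S⁻¹R-module S⁻¹M. -/
theorem result {R : Type u} [CommRing R] (S : Submonoid R) (M : Type u) [AddCommGroup M] [Module R M] (p : Ideal R) [p.IsPrime] (hS : Disjoint (S : Set R) (p : Set R)) :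
    p ∈ FlatCA.weakAss R M ↔ Ideal.map (algebraMap R (Localization S)) p ∈ FlatCA.weakAss (Localization S) (LocalizedModule S M) := by
  have hcm : (p.map (algebraMap R (Localization S))).comap (algebraMap R (Localization S)) = p :=
    IsLocalization.comap_map_of_isPrime_disjoint S (Localization S) inferInstance hS
  rw [← weakAss_localizedModule_iff S (M := M) (p := p) inferInstance hS, weakAss_localization S (L := Localization S) (N := LocalizedModule S M)]
  constructor
  · rintro ⟨Q, hQ, rfl⟩
    rwa [IsLocalization.map_comap S (Localization S) Q]
  · exact fun h => ⟨_, h, hcm⟩

end Groth.Agent.S9589
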