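import Groth.Statements.S9596
import Mathlib
import Groth.Agent.Lib.H2Decay

set_option autoImplicit false
universe u
open CAlg

namespace Groth.Agent.S9596
open scoped TensorProduct
set_option linter.style.haveILetI false

/-- For a Noetherian ring R and any R-module M, a prime which is minimal among the primes in the support
of M is an associated prime of M. -/
theorem result {R : Type u} [CommRing R] [IsNoetherianRing R] (M : Type u) [AddCommGroup M] [Module R M] (p : PrimeSpectrum R) (hp : Minimal (fun q : PrimeSpectrum R => q ∈ Module.support R M) p) :
    p.asIdeal ∈ associatedPrimes R M := by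
  obtain ⟨m, hm⟩ := Module.mem_support_iff'.1 hp.1
  let N := Submodule.span R {m}
  haveI : Module.Finite R N := Module.Finite.iff_fg.2 (Submodule.fg_span_singleton m)
  have hsub : ∀ q : PrimeSpectrum R, q ∈ Module.support R N → q ∈ Module.support R M := fun q hq =>
    Module.support_subset_of_injective N.subtype N.injective_subtype hq
  have hpN : p ∈ Module.support R N := Module.mem_support_iff'.2
    ⟨⟨m, Submodule.mem_span_singleton_self m⟩, fun r hr h => hm r hr (congrArg Subtype.val h)⟩
  have hmin : p.asIdeal ∈ (Module.annihilator R N).minimalPrimes := by
    refine ⟨⟨p.2, Module.mem_support_iff_of_finite.1 hpN⟩, fun q hq hqp => ?_⟩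
    exact hp.2 (y := ⟨q, hq.1⟩) (hsub _ (Module.mem_support_iff_of_finite.2 hq.2)) hqp
  exact associatedPrimes.subset_of_injective N.injective_subtype
    (Module.associatedPrimes.minimalPrimes_annihilator_subset_associatedPrimes R N hmin)

end Groth.Agent.S9596
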