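import Groth.Statements.S9597
import Mathlib

set_option autoImplicit false
universe u
open CAlg

namespace Groth.Agent.S9597
open scoped TensorProduct
set_option linter.style.haveILetI false

/-- Let R be a Noetherian ring, M a finite R-module whose associated primes are pairwise incomparable
under inclusion (M has no embedded associated primes), and I the annihilator of M. Then the
associated primes of R/I, viewed as a module over itself, are again pairwise incomparable: R/I has
no embedded primes either. -/
theorem result {R : Type u} [CommRing R] [IsNoetherianRing R] (M : Type u) [AddCommGroup M] [Module R M] [Module.Finite R M] (hM : ∀ p ∈ associatedPrimes R M, ∀ q ∈ associatedPrimes R M, p ≤ q → p = q) :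
    ∀ p ∈ associatedPrimes (R ⧸ Module.annihilator R M) (R ⧸ Module.annihilator R M), ∀ q ∈ associatedPrimes (R ⧸ Module.annihilator R M) (R ⧸ Module.annihilator R M), p ≤ q → p = q := by
  classical
  set J := Module.annihilator R M
  obtain ⟨G, hG⟩ := (Module.Finite.fg_top : (⊤ : Submodule R M).FG)
  have key : ∀ p ∈ associatedPrimes (R ⧸ J) (R ⧸ J), p.comap (Ideal.Quotient.mk J) ∈ associatedPrimes R M := by
    intro p hp
    obtain ⟨hpp, x, hx⟩ := isAssociatedPrime_iff.1 hp
    obtain ⟨c, rfl⟩ := Ideal.Quotient.mk_surjective x
    have heq : p.comap (Ideal.Quotient.mk J) = G.inf fun g => (Submodule.span R {c • g}).annihilator := by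
      ext r
      rw [Ideal.mem_comap, hx, Submodule.mem_colon_singleton, Submodule.mem_bot, smul_eq_mul, ← map_mul, Ideal.Quotient.eq_zero_iff_mem, Submodule.mem_finsetInf, Module.mem_annihilator]
      refine ⟨fun h g _ => ?_, fun h m => ?_⟩
      · rw [Submodule.mem_annihilator_span_singleton, smul_smul]; exact h g
      · have hm : m ∈ Submodule.span R (G : Set M) := hG.ge trivial
        induction hm using Submodule.span_induction with
        | mem g hg => have := h g hg; rwa [Submodule.mem_annihilator_span_singleton, smul_smul] at this
        | zero => rw [smul_zero]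
        | add a b _ _ ha hb => rw [smul_add, ha, hb, add_zero]
        | smul t a _ ha => rw [smul_comm, ha, smul_zero]
    haveI hcp : (p.comap (Ideal.Quotient.mk J)).IsPrime := hpp.comap _
    obtain ⟨g, hg, hle⟩ := (Ideal.IsPrime.inf_le' hcp).1 heq.ge
    refine isAssociatedPrime_iff.2 ⟨hcp, c • g, le_antisymm ?_ fun r hr => hle ?_⟩
    · intro r hr
      have h2 := (Submodule.mem_finsetInf.1 (heq.le hr)) g hg
      rw [Submodule.mem_annihilator_span_singleton] at h2
      rwa [Submodule.mem_colon_singleton, Submodule.mem_bot]
    · rw [Submodule.mem_annihilator_span_singleton]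
      rwa [Submodule.mem_colon_singleton, Submodule.mem_bot] at hr
  intro p hp q hq hpq
  exact Ideal.comap_injective_of_surjective _ Ideal.Quotient.mk_surjective (hM _ (key p hp) _ (key q hq) (Ideal.comap_mono hpq))

end Groth.Agent.S9597
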