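import Groth.Statements.S9598
import Mathlib
import Groth.Agent.Lib.H2Decay

set_option autoImplicit false
universe u
open CAlg

namespace Groth.Agent.S9598
open scoped TensorProduct
set_option linter.style.haveILetI false

/-- For a field k and a finite type k-algebra S with dim S > 0, some element of S is a nonzerodivisor
and a nonunit. -/
theorem result {k S : Type u} [Field k] [CommRing S] [Algebra k S] [Algebra.FiniteType k S] (hdim : 0 < ringKrullDim S) :
    ∃ f : S, f ∈ nonZeroDivisors S ∧ ¬ IsUnit f := by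
  haveI : IsNoetherianRing S := Algebra.FiniteType.isNoetherianRing k S
  haveI : IsJacobsonRing S := isJacobsonRing_of_finiteType (A := k)
  by_contra hcon
  push Not at hcon
  have hfin := associatedPrimes.finite S S
  have hsub : ∀ m : Ideal S, m.IsMaximal → m ∈ associatedPrimes S S := by
    intro m hm
    classical
    have h1 : (m : Set S) ⊆ ⋃ p ∈ (hfin.toFinset : Set (Ideal S)), (p : Set S) := fun f hf => by
      have : f ∉ nonZeroDivisors S := fun hf' => hm.ne_top (Ideal.eq_top_of_isUnit_mem _ hf (hcon f hf'))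
      have h2 : f ∈ ⋃ p ∈ associatedPrimes S S, (p : Set S) := by
        rw [biUnion_associatedPrimes_eq_compl_nonZeroDivisors]; exact this
      simpa using h2
    obtain ⟨p, hp, hmp⟩ := (Ideal.subset_union_prime (f := id) ⊥ ⊥ fun p hp _ _ => ((hfin.mem_toFinset.1 hp).isPrime : p.IsPrime)).1 h1
    exact (hm.eq_of_le (hfin.mem_toFinset.1 hp).isPrime.ne_top hmp) ▸ hfin.mem_toFinset.1 hp
  refine hdim.not_ge ?_
  haveI : Ring.KrullDimLE 0 S := by
    rw [Ring.krullDimLE_zero_iff]
    intro P hP
    haveI := hP
    classical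
    let T := hfin.toFinset.filter fun m => m.IsMaximal ∧ P ≤ m
    have h1 : T.inf id ≤ P := by
      conv_rhs => rw [← IsJacobsonRing.out (R := S) inferInstance hP.isRadical]
      refine le_sInf fun m hm => Finset.inf_le (Finset.mem_filter.2 ⟨hfin.mem_toFinset.2 (hsub m hm.2), hm.2, hm.1⟩)
    obtain ⟨m, hm, hmP⟩ := (Ideal.IsPrime.inf_le' hP).1 h1
    obtain ⟨-, hmax, hPm⟩ := Finset.mem_filter.1 hm
    exact (le_antisymm hmP hPm : id m = P) ▸ hmax
  exact (Order.krullDimLE_iff 0 (PrimeSpectrum S)).1 inferInstance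

end Groth.Agent.S9598
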