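import Groth.Statements.S9601
import Mathlib
import Groth.Prelude.Def_W4c5adicflatcomplDec
import Groth.Agent.Lib.H2Decay
import Groth.Agent.Lib.H2Decay2
import Groth.Agent.Lib.H2Decay3
import Groth.Agent.Lib.H2Decay4

set_option autoImplicit false
universe u
open CAlg

namespace Groth.Agent.S9601
open W4c5adicflatcompl TensorProduct
set_option backward.isDefEq.respectTransparency.types false

/-- For a ring R, an ideal I of R and an R-module M, let M^ be the I-adic completion and K_n the kernel
of the projection M^ → M/IⁿM. The completion M^ is I-adically complete exactly when K_n = Iⁿ M^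
holds for every n ≥ 1. -/
theorem result {R : Type u} [CommRing R] (I : Ideal R) (M : Type u) [AddCommGroup M] [Module R M] :
    IsAdicComplete I (AdicCompletion I M) ↔ ∀ n : ℕ, 1 ≤ n → LinearMap.ker (AdicCompletion.eval I M n) = I ^ n • (⊤ : Submodule R (AdicCompletion I M)) := by
  exact Groth.Agent.H2Decay.isAdicComplete_iff_ker

end Groth.Agent.S9601
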