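import Groth.Statements.S9604
import Mathlib

set_option autoImplicit false
universe u
open CAlg

namespace Groth.Agent.S9604
set_option linter.style.haveILetI false
open TensorProduct Polynomial

/-- Let R be a ring and I, J ideals of R with I^c ⊆ J and J^d ⊆ I for some integers c, d > 0. Then for
an R-module, being complete in the I-adic topology is equivalent to being complete in the J-adic
topology. -/
theorem result {R : Type u} [CommRing R] (I J : Ideal R) (c d : ℕ) (hc : 0 < c) (hd : 0 < d) (hI : I ^ c ≤ J) (hJ : J ^ d ≤ I) (M : Type u) [AddCommGroup M] [Module R M] :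
    IsAdicComplete I M ↔ IsAdicComplete J M := by
  have key : ∀ (I J : Ideal R) (c d : ℕ), 0 < c → 0 < d → I ^ c ≤ J → J ^ d ≤ I → IsAdicComplete I M → IsAdicComplete J M := by
    intro I J c d hc hd hI hJ h
    have s1 : ∀ n, (J ^ (d * n) • ⊤ : Submodule R M) ≤ I ^ n • ⊤ := fun n =>
      Submodule.smul_mono_left (by rw [pow_mul]; exact Ideal.pow_right_mono hJ n)
    have s2 : ∀ n, (I ^ (c * n) • ⊤ : Submodule R M) ≤ J ^ n • ⊤ := fun n =>
      Submodule.smul_mono_left (by rw [pow_mul]; exact Ideal.pow_right_mono hI n)
    have hH : IsHausdorff J M := ⟨fun x hx => IsHausdorff.haus (I := I) inferInstance x fun n => by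
      have := hx (d * n); rw [SModEq.zero] at this ⊢; exact s1 n this⟩
    have hP : IsPrecomplete J M := ⟨fun f hf => by
      obtain ⟨L, hL⟩ := IsPrecomplete.prec (I := I) inferInstance (f := fun n => f (d * n)) (fun {m n} hmn => by
        have := hf (Nat.mul_le_mul_left d hmn); rw [SModEq.sub_mem] at this ⊢; exact s1 m this)
      refine ⟨L, fun n => ?_⟩
      have h1 := hL (c * n)
      have h2 : n ≤ d * (c * n) := by
        rw [← mul_assoc]
        exact Nat.le_mul_of_pos_left n (Nat.mul_pos hd hc)
      have h3 := hf h2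
      rw [SModEq.sub_mem] at h1 h3 ⊢
      simpa using Submodule.add_mem _ h3 (s2 n h1)⟩
    exact {}
  exact ⟨key I J c d hc hd hI hJ, key J I d c hd hc hJ hI⟩

end Groth.Agent.S9604
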