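import Groth.Statements.S9605
import Mathlib
import Groth.Agent.Lib.H2Decay

set_option autoImplicit false
universe u
open CAlg

namespace Groth.Agent.S9605
open scoped TensorProduct
set_option linter.style.haveILetI false

/-- For a ring R, an ideal I of R, an I-adically complete R-module M and a submodule K of M, the
quotient M/K is I-adically complete if and only if K = ⋂ₙ (K + IⁿM). -/
theorem result {R : Type u} [CommRing R] (I : Ideal R) (M : Type u) [AddCommGroup M] [Module R M] [IsAdicComplete I M] (K : Submodule R M) :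
    IsAdicComplete I (M ⧸ K) ↔ K = ⨅ n : ℕ, K ⊔ I ^ n • (⊤ : Submodule R M) := by
  constructor
  · intro hc
    refine le_antisymm (le_iInf fun n => le_sup_left) fun x hx => ?_
    rw [Submodule.mem_iInf] at hx
    rw [← Submodule.Quotient.mk_eq_zero]
    refine IsHausdorff.haus' (I := I) _ fun n => SModEq.zero.2 ?_
    obtain ⟨k, hk, t, ht, rfl⟩ := Submodule.mem_sup.1 (hx n)
    rw [Submodule.Quotient.mk_add, (Submodule.Quotient.mk_eq_zero K).2 hk, zero_add]
    exact Groth.Agent.H2Decay.map_mem K.mkQ ht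
  · intro hK
    have hmap : ∀ n (x : M), Submodule.Quotient.mk x ∈ (I ^ n • ⊤ : Submodule R (M ⧸ K)) ↔ x ∈ K ⊔ I ^ n • (⊤ : Submodule R M) := by
      intro n x
      rw [show (I ^ n • ⊤ : Submodule R (M ⧸ K)) = Submodule.map K.mkQ (I ^ n • ⊤ : Submodule R M) by
        rw [Submodule.map_smul'', Submodule.map_top, Submodule.range_mkQ]]
      rw [← Submodule.comap_map_mkQ]
      rfl
    haveI : IsHausdorff I (M ⧸ K) := ⟨fun y hy => by
      obtain ⟨x, rfl⟩ := Submodule.Quotient.mk_surjective _ y
      rw [Submodule.Quotient.mk_eq_zero, hK, Submodule.mem_iInf]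
      exact fun n => (hmap n x).1 (SModEq.zero.1 (hy n))⟩
    refine { prec' := fun f hf => ?_ }
    have step : ∀ n (x : M), Submodule.Quotient.mk x = f n → ∃ x', Submodule.Quotient.mk x' = f (n + 1) ∧ x - x' ∈ (I ^ n • ⊤ : Submodule R M) := by
      intro n x hx
      obtain ⟨z, hz⟩ := Submodule.Quotient.mk_surjective _ (f (n + 1))
      have h := SModEq.sub_mem.1 (hf (Nat.le_succ n))
      rw [← hx, show f (n + 1) = Submodule.Quotient.mk z from hz.symm, ← Submodule.Quotient.mk_sub, hmap] at h
      obtain ⟨k, hk, t, ht, he⟩ := Submodule.mem_sup.1 h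
      refine ⟨z + k, ?_, ?_⟩
      · rw [Submodule.Quotient.mk_add, (Submodule.Quotient.mk_eq_zero K).2 hk, add_zero, hz]
      · have : x - (z + k) = t := by rw [← sub_sub, ← he]; abel
        rwa [this]
    choose g hg hg' using step
    obtain ⟨x0, hx0⟩ := Submodule.Quotient.mk_surjective _ (f 0)
    let s : ∀ n, {x : M // Submodule.Quotient.mk x = f n} := fun n => Nat.rec ⟨x0, hx0⟩ (fun k p => ⟨g k p.1 p.2, hg k p.1 p.2⟩) n
    have hs : ∀ {m n}, m ≤ n → (s m).1 - (s n).1 ∈ (I ^ m • ⊤ : Submodule R M) := by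
      intro m n hmn
      induction n, hmn using Nat.le_induction with
      | base => simp
      | succ n hn ih =>
        have := Submodule.add_mem _ ih (Submodule.smul_mono (Ideal.pow_le_pow_right hn) le_rfl (hg' n (s n).1 (s n).2))
        rwa [sub_add_sub_cancel] at this
    obtain ⟨L, hL⟩ := IsPrecomplete.prec (I := I) (M := M) inferInstance (f := fun n => (s n).1) fun h => SModEq.sub_mem.2 (hs h)
    refine ⟨Submodule.Quotient.mk L, fun n => SModEq.sub_mem.2 ?_⟩
    rw [← (s n).2, ← Submodule.Quotient.mk_sub]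
    exact Groth.Agent.H2Decay.map_mem K.mkQ (SModEq.sub_mem.1 (hL n))

end Groth.Agent.S9605
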