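import Groth.Statements.S9610
import Mathlib

set_option autoImplicit false
universe u
open CAlg

namespace Groth.Agent.S9610

/-- Let k be a field and V a nonzero k-vector space with dim_k V < #k as cardinals. Then every k-linear
endomorphism T of V admits a monic polynomial P over k for which P(T) is not invertible. -/
theorem result {k V : Type u} [Field k] [AddCommGroup V] [Module k V] [Nontrivial V] (hV : Module.rank k V < Cardinal.mk k) (T : Module.End k V) :
    ∃ P : Polynomial k, P.Monic ∧ ¬ IsUnit (Polynomial.aeval T P) := by
  classical
  by_contra hall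
  push_neg at hall
  have hu : ∀ c : k, IsUnit (Polynomial.aeval T (Polynomial.X - Polynomial.C c)) := fun c => hall _ (Polynomial.monic_X_sub_C c)
  obtain ⟨v, hv⟩ := exists_ne (0 : V)
  let f : k → V := fun c => ((hu c).unit⁻¹ : (Module.End k V)ˣ).1 v
  have hf : LinearIndependent k f := by
    rw [linearIndependent_iff']
    intro s a ha c hc
    let Q : Polynomial k := ∑ i ∈ s, Polynomial.C (a i) * ∏ j ∈ s.erase i, (Polynomial.X - Polynomial.C j)
    have hQv : Polynomial.aeval T Q v = 0 := by
      have h0 := congrArg (fun w => Polynomial.aeval T (∏ j ∈ s, (Polynomial.X - Polynomial.C j)) w) ha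
      simp only [map_sum, map_zero, map_smul] at h0
      rw [← h0]
      simp only [Q, map_sum, LinearMap.sum_apply, map_mul, Polynomial.aeval_C, Module.End.mul_apply, Module.algebraMap_end_apply]
      refine Finset.sum_congr rfl fun i hi => ?_
      congr 1
      rw [← Finset.prod_erase_mul s _ hi, map_mul, Module.End.mul_apply]
      congr 1
      show v = (Polynomial.aeval T (Polynomial.X - Polynomial.C i) * ((hu i).unit⁻¹ : (Module.End k V)ˣ).1) v
      rw [IsUnit.mul_val_inv]
      rfl
    have hQ : Q = 0 := by
      by_contra hne
      have hu' := hall _ (Polynomial.monic_mul_leadingCoeff_inv hne)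
      rw [map_mul, Polynomial.aeval_C] at hu'
      have h2 := congrArg (fun e => e v) (IsUnit.val_inv_mul hu')
      simp only [Module.End.mul_apply, Module.algebraMap_end_apply, map_smul, hQv, smul_zero, map_zero, Module.End.one_apply] at h2
      exact hv h2.symm
    have h1 := congrArg (Polynomial.eval c) hQ
    simp only [Q, Polynomial.eval_finsetSum, Polynomial.eval_mul, Polynomial.eval_C, Polynomial.eval_prod, Polynomial.eval_zero] at h1
    rw [Finset.sum_eq_single c (fun i _ hi => by rw [Finset.prod_eq_zero (Finset.mem_erase.2 ⟨Ne.symm hi, hc⟩) (by simp), mul_zero]) (by simp [hc])] at h1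
    rcases mul_eq_zero.1 h1 with h | h
    · exact h
    · simp only [Finset.prod_eq_zero_iff, Polynomial.eval_sub, Polynomial.eval_X, Polynomial.eval_C, sub_eq_zero] at h
      obtain ⟨j, hj, e⟩ := h
      exact absurd e.symm (Finset.ne_of_mem_erase hj)
  have := hf.cardinal_lift_le_rank
  exact absurd hV (not_lt.2 (by simpa using this))

end Groth.Agent.S9610
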