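import Groth.Statements.S9611
import Mathlib
import Groth.Agent.Lib.H2FiniteAlgClosed

set_option autoImplicit false
universe u
open CAlg

namespace Groth.Agent.S9611
open scoped TensorProduct
open Polynomial
set_option linter.style.haveILetI false

/-- Let R be a Jacobson ring, p a prime ideal of R which is not maximal, and f an element of R not in p.
Then the set of primes of R containing p and not containing f is infinite. -/
theorem result {R : Type u} [CommRing R] [IsJacobsonRing R] (p : Ideal R) [p.IsPrime] (hp : ¬ p.IsMaximal) (f : R) (hf : f ∉ p) :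
    {q : PrimeSpectrum R | p ≤ q.asIdeal ∧ f ∉ q.asIdeal}.Infinite := by
  classical
  intro hfin
  let M := hfin.toFinset.filter fun q => q.asIdeal.IsMaximal
  let I : Ideal R := Ideal.span {f} * M.inf PrimeSpectrum.asIdeal
  have hI : I ≤ p := by
    conv_rhs => rw [← IsJacobsonRing.out (R := R) inferInstance (Ideal.IsPrime.isRadical (inferInstance : p.IsPrime))]
    refine le_sInf fun m hm => ?_
    by_cases h : f ∈ m
    · exact Ideal.mul_le_left.trans (Ideal.span_le.2 (Set.singleton_subset_iff.2 h))
    · exact Ideal.mul_le_right.trans (Finset.inf_le (b := (⟨m, hm.2.isPrime⟩ : PrimeSpectrum R))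
        (Finset.mem_filter.2 ⟨hfin.mem_toFinset.2 ⟨hm.1, h⟩, hm.2⟩))
  rcases (inferInstance : p.IsPrime).mul_le.1 hI with h | h
  · exact hf (h (Ideal.subset_span rfl))
  · obtain ⟨q, hq, hle⟩ := (Ideal.IsPrime.inf_le' (inferInstance : p.IsPrime)).1 h
    obtain ⟨hq1, hq2⟩ := Finset.mem_filter.1 hq
    exact hp ((le_antisymm hle (hfin.mem_toFinset.1 hq1).1) ▸ hq2)

end Groth.Agent.S9611
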