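import Groth.Statements.S9615
import Mathlib

set_option autoImplicit false
universe u
open CAlg

namespace Groth.Agent.S9615
open AlgebraicGeometry CategoryTheory Limits TopologicalSpace
set_option backward.isDefEq.respectTransparency.types false
set_option linter.style.haveILetI false

/-- Let R → S be a homomorphism of ℕ-graded rings, i.e. the structure map carries each graded piece R_i
into S_i. If an element s of S is integral over R, then each homogeneous component of s is integral
over R; so the integral closure of R in S is a graded subring of S. -/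
theorem result {R S : Type u} [CommRing R] [CommRing S] [Algebra R S] (ℛ : ℕ → AddSubgroup R) [GradedRing ℛ] (𝒮 : ℕ → AddSubgroup S) [GradedRing 𝒮]
    (hmap : ∀ i : ℕ, ∀ r ∈ ℛ i, algebraMap R S r ∈ 𝒮 i) (s : S) (hs : IsIntegral R s) (i : ℕ) :
    IsIntegral R ((DirectSum.decompose 𝒮 s i : 𝒮 i) : S) := by
  classical
  open Polynomial in
  -- grading homomorphisms
  let ψR : R →+* Polynomial R := (DirectSum.toSemiring (fun j => (Polynomial.monomial j).toAddMonoidHom.comp (ℛ j).subtype)
      (by simp [Polynomial.monomial_zero_one]) (fun {j k} a b => by simp [Polynomial.monomial_mul_monomial])).comp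
      (DirectSum.decomposeRingEquiv ℛ).toRingHom
  let ψS : S →+* Polynomial S := (DirectSum.toSemiring (fun j => (Polynomial.monomial j).toAddMonoidHom.comp (𝒮 j).subtype)
      (by simp [Polynomial.monomial_zero_one]) (fun {j k} a b => by simp [Polynomial.monomial_mul_monomial])).comp
      (DirectSum.decomposeRingEquiv 𝒮).toRingHom
  have hS : ∀ (j) (x : S), x ∈ 𝒮 j → ψS x = Polynomial.monomial j x := by
    intro j x hx
    simp only [ψS, RingHom.comp_apply]
    rw [show (DirectSum.decomposeRingEquiv 𝒮).toRingHom x = DirectSum.of _ j ⟨x, hx⟩ from DirectSum.decompose_of_mem 𝒮 hx,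
      DirectSum.toSemiring_of]
    rfl
  have hR : ∀ (j) (x : R), x ∈ ℛ j → ψR x = Polynomial.monomial j x := by
    intro j x hx
    simp only [ψR, RingHom.comp_apply]
    rw [show (DirectSum.decomposeRingEquiv ℛ).toRingHom x = DirectSum.of _ j ⟨x, hx⟩ from DirectSum.decompose_of_mem ℛ hx,
      DirectSum.toSemiring_of]
    rfl
  have hcomm : ψS.comp (algebraMap R S) = (Polynomial.mapRingHom (algebraMap R S)).comp ψR := by
    ext r : 1
    induction r using DirectSum.Decomposition.inductionOn ℛ with
    | zero => simp
    | homogeneous m => simp [hR _ _ m.2, hS _ _ (hmap _ _ m.2)]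
    | add a b ha hb => simp only [map_add, ha, hb]
  letI := (Polynomial.mapRingHom (algebraMap R S)).toAlgebra
  have hint : _root_.IsIntegral (Polynomial R) (ψS s) := by
    obtain ⟨p, hp, hp0⟩ := hs
    refine ⟨p.map ψR, hp.map _, ?_⟩
    rw [Polynomial.eval₂_map, RingHom.algebraMap_toAlgebra, ← hcomm, ← Polynomial.hom_eval₂, hp0, map_zero]
  have := hint.coeff i
  convert this
  have hc : ψS s = ∑ j ∈ (DirectSum.decompose 𝒮 s).support, Polynomial.monomial j ((DirectSum.decompose 𝒮 s j : 𝒮 j) : S) := by
    conv_lhs => rw [← DirectSum.sum_support_decompose 𝒮 s, map_sum]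
    exact Finset.sum_congr rfl fun j _ => hS j _ (DirectSum.decompose 𝒮 s j).2
  rw [hc, Polynomial.finsetSum_coeff]
  rw [Finset.sum_eq_single i (fun j _ hj => by simp [Polynomial.coeff_monomial, hj]) (fun hi => by rw [DFinsupp.notMem_support_iff] at hi; simp [hi])]
  simp

end Groth.Agent.S9615
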