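import Groth.Statements.S9619
import Mathlib
import Groth.Agent.Lib.H2Decay

set_option autoImplicit false
universe u
open CAlg

namespace Groth.Agent.S9619
open scoped TensorProduct
set_option linter.style.haveILetI false

/-- For a ring R and two sets E, E' of idempotent elements of R with the same zero locus in Spec R, the
ideals generated by E and by E' are equal. -/
theorem result {R : Type u} [CommRing R] (E E' : Set R) (hE : ∀ e ∈ E, IsIdempotentElem e) (hE' : ∀ e ∈ E', IsIdempotentElem e) (h : PrimeSpectrum.zeroLocus E = PrimeSpectrum.zeroLocus E') :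
    Ideal.span E = Ideal.span E' := by
  have key : ∀ (E E' : Set R), (∀ e ∈ E, IsIdempotentElem e) → PrimeSpectrum.zeroLocus E' ⊆ PrimeSpectrum.zeroLocus E →
      Ideal.span E ≤ Ideal.span E' := by
    intro E E' hE hsub
    refine Ideal.span_le.2 fun e he => ?_
    have h1 : e ∈ (Ideal.span E').radical := by
      rw [← PrimeSpectrum.vanishingIdeal_zeroLocus_eq_radical, PrimeSpectrum.mem_vanishingIdeal]
      intro x hx
      exact hsub (fun a ha => hx (Ideal.subset_span ha)) he
    obtain ⟨n, hn⟩ := h1
    rcases n with _ | n
    · rw [pow_zero] at hn; simp [(Ideal.eq_top_iff_one _).2 hn]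
    · rwa [(hE e he).pow_succ_eq n] at hn
  exact le_antisymm (key E E' hE h.ge) (key E' E hE' h.le)

end Groth.Agent.S9619
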