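import Mathlib
import Groth.Statements.S9620
-- import your own Groth.Agent.* helpers here

set_option autoImplicit false
universe u
open CAlg

namespace Groth.Agent.S9620

/-- For a ring R and a point p of Spec R, the connected component of p is the zero locus of the ideal I
generated by the idempotents of R contained in p, and every idempotent e of R satisfies e ∈ I or 1 -
e ∈ I (e maps to 0 or 1 in R/I). -/
theorem result {R : Type u} [CommRing R] (p : PrimeSpectrum R) :
    connectedComponent p = PrimeSpectrum.zeroLocus {e : R | IsIdempotentElem e ∧ e ∈ p.asIdeal} ∧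
      ∀ e : R, IsIdempotentElem e → (e ∈ Ideal.span {e : R | IsIdempotentElem e ∧ e ∈ p.asIdeal} ∨ 1 - e ∈ Ideal.span {e : R | IsIdempotentElem e ∧ e ∈ p.asIdeal}) := by
  let E : Set R := {e : R | IsIdempotentElem e ∧ e ∈ p.asIdeal}
  let J := Ideal.span E
  have hdec : ∀ e : R, IsIdempotentElem e → e ∈ J ∨ 1 - e ∈ J := by
    intro e he
    rcases p.isPrime.mem_or_mem (show e * (1 - e) ∈ p.asIdeal by rw [mul_sub, mul_one, he.eq, sub_self]; exact zero_mem _) with h | h
    · exact Or.inl (Ideal.subset_span ⟨he, h⟩)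
    · exact Or.inr (Ideal.subset_span ⟨he.one_sub, h⟩)
  refine ⟨?_, hdec⟩
  have hone : ∀ z ∈ J, ∃ e ∈ E, z * (1 - e) = 0 := by
    intro z hz
    induction hz using Submodule.span_induction with
    | mem e he => exact ⟨e, he, by rw [mul_sub, mul_one, he.1.eq, sub_self]⟩
    | zero => exact ⟨0, ⟨IsIdempotentElem.zero, zero_mem _⟩, zero_mul _⟩
    | add u v _ _ iu iv =>
      obtain ⟨a, ⟨ha, hap⟩, hau⟩ := iu; obtain ⟨b, ⟨hb, hbp⟩, hbv⟩ := iv
      refine ⟨a + b - a * b, ⟨?_, sub_mem (add_mem hap hbp) (Ideal.mul_mem_left _ _ hbp)⟩, ?_⟩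
      · have := (ha.one_sub.mul hb.one_sub).one_sub
        rwa [show 1 - (1 - a) * (1 - b) = a + b - a * b by ring] at this
      · linear_combination (1 - b) * hau + (1 - a) * hbv
    | smul c u _ iu =>
      obtain ⟨a, ha, hau⟩ := iu
      exact ⟨a, ha, by rw [smul_eq_mul, mul_assoc, hau, mul_zero]⟩
  apply Set.Subset.antisymm
  · intro x hx e he
    have hc : IsClopen (PrimeSpectrum.zeroLocus ({e} : Set R)) := PrimeSpectrum.isClopen_iff_zeroLocus.2 ⟨e, he.1, rfl⟩
    exact (hc.connectedComponent_subset (by simpa using he.2) hx) rfl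
  · haveI : PreconnectedSpace (PrimeSpectrum (R ⧸ J)) := by
      rw [preconnectedSpace_iff_clopen]
      intro s hs
      obtain ⟨e', he', rfl⟩ := PrimeSpectrum.isClopen_iff.1 hs
      obtain ⟨e, rfl⟩ := Ideal.Quotient.mk_surjective e'
      have hm : e * e - e ∈ J := by
        rw [← Ideal.Quotient.eq, map_mul]
        exact he'.eq
      obtain ⟨a, ha, hae⟩ := hone _ hm
      have hi : IsIdempotentElem (e * (1 - a)) := by
        show e * (1 - a) * (e * (1 - a)) = e * (1 - a)
        linear_combination (1 - a) * hae + e * ha.1.one_sub.eq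
      have haJ : Ideal.Quotient.mk J a = 0 := Ideal.Quotient.eq_zero_iff_mem.2 (Ideal.subset_span ha)
      have heq : Ideal.Quotient.mk J e = Ideal.Quotient.mk J (e * (1 - a)) := by
        rw [map_mul, map_sub, map_one, haJ, sub_zero, mul_one]
      rcases hdec _ hi with h | h
      · left
        rw [heq, Ideal.Quotient.eq_zero_iff_mem.2 h, PrimeSpectrum.basicOpen_zero]
        rfl
      · right
        have h' := Ideal.Quotient.eq_zero_iff_mem.2 h
        rw [map_sub, map_one, sub_eq_zero] at h'
        rw [heq, ← h', PrimeSpectrum.basicOpen_one]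
        rfl
    have hr : Set.range (PrimeSpectrum.comap (Ideal.Quotient.mk J)) = PrimeSpectrum.zeroLocus E := by
      rw [range_comap_of_surjective _ _ Ideal.Quotient.mk_surjective, Ideal.mk_ker, PrimeSpectrum.zeroLocus_span]
    show PrimeSpectrum.zeroLocus E ⊆ connectedComponent p
    refine IsPreconnected.subset_connectedComponent ?_ (fun e he => he.2)
    rw [← hr]
    exact isPreconnected_range (PrimeSpectrum.continuous_comap _)

end Groth.Agent.S9620
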