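import Groth.Statements.S9621
import Mathlib
import Groth.Agent.Lib.H2MinPrime

set_option autoImplicit false
universe u
open CAlg

namespace Groth.Agent.S9621
set_option linter.style.haveILetI false
open TensorProduct Polynomial Matrix

/-- Let R be a ring, p a minimal prime of R and W a quasi-compact open subset of Spec R not containing
p. Then there is an f ∈ R, f ∉ p, whose basic open D(f) is disjoint from W. -/
theorem result {R : Type u} [CommRing R] (p : PrimeSpectrum R) (hp : p.asIdeal ∈ minimalPrimes R) (W : Set (PrimeSpectrum R)) (hWo : IsOpen W) (hWc : IsCompact W) (hpW : p ∉ W) :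
    ∃ f : R, f ∉ p.asIdeal ∧ Disjoint (PrimeSpectrum.basicOpen f : Set (PrimeSpectrum R)) W := by
  classical
  obtain ⟨t, rfl⟩ := (PrimeSpectrum.isCompact_isOpen_iff).1 ⟨hWc, hWo⟩
  rw [Set.mem_compl_iff, not_not, PrimeSpectrum.mem_zeroLocus] at hpW
  choose! s hs n hn using fun (x : R) (hx : x ∈ t) => Groth.Agent.H2MinPrime.exists_notMem_mul_pow_mem hp (hpW hx)
  refine ⟨∏ x ∈ t, s x, fun h => ?_, Set.disjoint_left.2 fun q hq hqW => ?_⟩
  · obtain ⟨x, hx, hxp⟩ := (Ideal.IsPrime.prod_mem_iff).1 h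
    exact hs x hx hxp
  · rw [Set.mem_compl_iff, PrimeSpectrum.mem_zeroLocus, Set.not_subset] at hqW
    obtain ⟨x, hx, hxq⟩ := hqW
    have h1 : s x ∉ q.asIdeal := fun h => hq (Ideal.mem_of_dvd _ (Finset.dvd_prod_of_mem s hx) h)
    have h0 : s x * x ^ n x = 0 := hn x hx
    rcases q.isPrime.mem_or_mem (show s x * x ^ n x ∈ q.asIdeal from h0 ▸ q.asIdeal.zero_mem) with h | h
    · exact h1 h
    · exact hxq (q.isPrime.mem_of_pow_mem _ h)

end Groth.Agent.S9621
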