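import Mathlib
import Groth.Statements.S9622
-- import your own Groth.Agent.* helpers here

set_option autoImplicit false
universe u
open CAlg

namespace Groth.Agent.S9622

theorem finite_aux {R S : Type u} [CommRing R] [CommRing S] [Algebra R S] [IsNoetherianRing S] (I : Ideal S)
    [Module.Finite R (S ⧸ I)] (k : ℕ) : ∀ (M : Type u) [AddCommGroup M] [Module S M] [Module R M] [IsScalarTower R S M]
    [Module.Finite S M], (I ^ k • (⊤ : Submodule S M) = ⊥) → Module.Finite R M := by
  induction k with
  | zero =>
    intro M _ _ _ _ _ h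
    have : Subsingleton M := Submodule.subsingleton_iff S |>.1 (subsingleton_of_bot_eq_top (by simpa using h.symm))
    infer_instance
  | succ k ih =>
    intro M _ _ _ _ _ h
    let N : Submodule S M := I • ⊤
    haveI : Module.Finite R N := ih N (by
      apply Submodule.map_injective_of_injective N.injective_subtype
      rw [Submodule.map_smul'', Submodule.map_top, Submodule.range_subtype, Submodule.map_bot, ← h, pow_succ, Submodule.mul_smul])
    letI : Module (S ⧸ I) (M ⧸ N) := inferInstanceAs (Module (S ⧸ I) (M ⧸ (I • ⊤ : Submodule S M)))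
    haveI : IsScalarTower S (S ⧸ I) (M ⧸ N) := inferInstanceAs (IsScalarTower S (S ⧸ I) (M ⧸ (I • ⊤ : Submodule S M)))
    haveI : IsScalarTower R (S ⧸ I) (M ⧸ N) := IsScalarTower.of_algebraMap_smul fun r x => by
      obtain ⟨m, rfl⟩ := Submodule.mkQ_surjective N x
      rw [IsScalarTower.algebraMap_apply R S (S ⧸ I), algebraMap_smul, algebraMap_smul]
    haveI : Module.Finite (S ⧸ I) (M ⧸ N) := Module.Finite.of_restrictScalars_finite S _ _
    haveI : Module.Finite R (M ⧸ N) := Module.Finite.trans (S ⧸ I) _
    haveI : Module.Finite R (N.restrictScalars R) := ‹Module.Finite R N›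
    haveI : Module.Finite R (M ⧸ N.restrictScalars R) :=
      Module.Finite.equiv (Submodule.Quotient.restrictScalarsEquiv R N).symm
    exact Module.Finite.of_submodule_quotient (N.restrictScalars R)

theorem finite_of_residue {R S : Type u} [CommRing R] [CommRing S] [Algebra R S] [IsArtinianRing S] [IsLocalRing S]
    [Module.Finite R (S ⧸ IsLocalRing.maximalIdeal S)] : Module.Finite R S := by
  obtain ⟨k, hk⟩ := IsArtinianRing.isNilpotent_jacobson_bot (R := S)
  rw [IsLocalRing.jacobson_eq_maximalIdeal ⊥ bot_ne_top] at hk
  exact finite_aux (IsLocalRing.maximalIdeal S) k S (by rw [hk, Submodule.zero_eq_bot, Submodule.bot_smul])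

/-- Let R → S be a ring map whose target S is a local Artinian ring, and write m for the maximal ideal
of S. Then S is a finite R-module exactly when S/m is, and S is an R-algebra of finite type exactly
when S/m is. -/
theorem result {R S : Type u} [CommRing R] [CommRing S] [Algebra R S] [IsArtinianRing S] [IsLocalRing S] :
    (Module.Finite R S ↔ Module.Finite R (S ⧸ IsLocalRing.maximalIdeal S)) ∧
      (Algebra.FiniteType R S ↔ Algebra.FiniteType R (S ⧸ IsLocalRing.maximalIdeal S)) := by
  refine ⟨⟨fun h => Module.Finite.of_surjective ((Ideal.Quotient.mkₐ R (IsLocalRing.maximalIdeal S)).toLinearMap)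
      Ideal.Quotient.mk_surjective, fun h => finite_of_residue⟩, fun h => ?_, fun h => ?_⟩
  · exact h.of_surjective (Ideal.Quotient.mkₐ R (IsLocalRing.maximalIdeal S)) Ideal.Quotient.mk_surjective
  · classical
    obtain ⟨s, hs⟩ := h
    let q := Ideal.Quotient.mkₐ R (IsLocalRing.maximalIdeal S)
    let g : S ⧸ IsLocalRing.maximalIdeal S → S := Function.surjInv Ideal.Quotient.mk_surjective
    let T : Subalgebra R S := Algebra.adjoin R ((s.image g : Finset S) : Set S)
    haveI : Algebra.FiniteType R T := (Subalgebra.fg_iff_finiteType _).1 (Subalgebra.fg_adjoin_finset _)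
    have hsurj : Function.Surjective (q.comp T.val) := by
      rw [← AlgHom.range_eq_top, eq_top_iff, ← hs]
      refine Algebra.adjoin_le fun x hx => ?_
      exact ⟨⟨g x, Algebra.subset_adjoin (by simpa using ⟨x, hx, rfl⟩)⟩, Function.surjInv_eq Ideal.Quotient.mk_surjective x⟩
    haveI : Module.Finite T (S ⧸ IsLocalRing.maximalIdeal S) :=
      Module.Finite.of_surjective (Algebra.linearMap T (S ⧸ IsLocalRing.maximalIdeal S)) hsurj
    haveI : Module.Finite T S := finite_of_residue
    exact Algebra.FiniteType.trans (S := T) inferInstance inferInstance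

end Groth.Agent.S9622
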