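import Groth.Statements.S9631
import Mathlib

set_option autoImplicit false
universe u
open CAlg

namespace Groth.Agent.S9631

/-- For a ring map φ : R → S the following are equivalent: (1) the induced map Spec(S) → Spec(R) is
surjective; (2) every ideal I of R satisfies φ⁻¹(√(IS)) = √I; (3) every radical ideal I of R
satisfies φ⁻¹(IS) = I; (4) every prime ideal p of R satisfies φ⁻¹(pS) = p. -/
theorem result {R S : Type u} [CommRing R] [CommRing S] (φ : R →+* S) :
    [Function.Surjective (PrimeSpectrum.comap φ),
      ∀ I : Ideal R, ((I.map φ).radical).comap φ = I.radical,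
      ∀ I : Ideal R, I.IsRadical → (I.map φ).comap φ = I,
      ∀ p : Ideal R, p.IsPrime → (p.map φ).comap φ = p].TFAE := by
  tfae_have 1 → 4 := fun h p hp => by
    obtain ⟨q, hq⟩ := h ⟨p, hp⟩
    have := (PrimeSpectrum.mem_range_comap_iff φ).1 ⟨q, hq⟩
    exact this
  tfae_have 4 → 1 := fun h p => (PrimeSpectrum.mem_range_comap_iff φ).2 (h p.asIdeal p.isPrime)
  tfae_have 4 → 2 := fun h I => by
    refine le_antisymm (fun x hx => ?_) ?_
    · rw [Ideal.radical_eq_sInf, Submodule.mem_sInf]
      rintro p ⟨hIp, hp⟩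
      haveI := hp
      rw [Ideal.mem_comap] at hx
      obtain ⟨n, hn⟩ := hx
      have : x ^ n ∈ Ideal.comap φ (Ideal.map φ p) := by rw [Ideal.mem_comap, map_pow]; exact Ideal.map_mono hIp hn
      rw [h p hp] at this
      exact hp.mem_of_pow_mem n this
    · rw [Ideal.comap_radical]; exact Ideal.radical_mono Ideal.le_comap_map
  tfae_have 2 → 3 := fun h I hI => le_antisymm
    (fun x hx => hI ((h I).le (Ideal.le_radical hx))) Ideal.le_comap_map
  tfae_have 3 → 4 := fun h p hp => h p hp.isRadical
  tfae_finish

end Groth.Agent.S9631
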