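import Groth.Statements.S9637
import Groth.Agent.Lib.H2Depth

set_option autoImplicit false
universe u
open CAlg

namespace Groth.Agent.S9637

/-- Let R be a local Noetherian ring, I an ideal contained in its maximal ideal, and M a finite
R-module. Then I contains an M-regular element (one acting injectively on M) if and only if no
associated prime of M contains I. -/
theorem result {R : Type u} [CommRing R] [IsNoetherianRing R] [IsLocalRing R] (I : Ideal R) (hI : I ≤ IsLocalRing.maximalIdeal R) (M : Type u) [AddCommGroup M] [Module R M] [Module.Finite R M] :
    (∃ x ∈ I, IsSMulRegular M x) ↔ ∀ q ∈ associatedPrimes R M, ¬ I ≤ q := by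
  exact ⟨fun ⟨x, hx, hreg⟩ q hq => Groth.Agent.H2Depth.exists_notMem_of_hasRegElem I hx hreg q hq,
    Groth.Agent.H2Depth.exists_regular_of_forall_not_le I⟩

end Groth.Agent.S9637
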