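import Groth.Statements.S9641
import Mathlib
import Groth.Agent.Lib.H2FiniteAlgClosed

set_option autoImplicit false
universe u
open CAlg

namespace Groth.Agent.S9641
open scoped TensorProduct
open Polynomial
set_option linter.style.haveILetI false

open TensorProduct in
/-- Let k be a field and R, S two k-algebras. If R ⊗_k S is not reduced then there are finitely
generated k-subalgebras R' ⊆ R and S' ⊆ S such that R' ⊗_k S' is not reduced. -/
theorem result {k R S : Type u} [Field k] [CommRing R] [CommRing S] [Algebra k R] [Algebra k S] (h : ¬ IsReduced (R ⊗[k] S)) :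
    ∃ (R' : Subalgebra k R) (S' : Subalgebra k S), R'.FG ∧ S'.FG ∧ ¬ IsReduced (R' ⊗[k] S') := by
  classical
  obtain ⟨z, hz, hz0⟩ : ∃ z : R ⊗[k] S, IsNilpotent z ∧ z ≠ 0 := by
    by_contra hcon; push Not at hcon; exact h ⟨hcon⟩
  obtain ⟨T, hT⟩ := TensorProduct.exists_finset z
  refine ⟨Algebra.adjoin k ↑(T.image Prod.fst), Algebra.adjoin k ↑(T.image Prod.snd), Subalgebra.fg_adjoin_finset _, Subalgebra.fg_adjoin_finset _, fun hred => ?_⟩
  set R' := Algebra.adjoin k (↑(T.image Prod.fst) : Set R)
  set S' := Algebra.adjoin k (↑(T.image Prod.snd) : Set S)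
  let ψ := Algebra.TensorProduct.map R'.val S'.val
  have hψ : Function.Injective ψ := by
    have h1 : (ψ : (R' ⊗[k] S') → R ⊗[k] S) = LinearMap.rTensor S R'.val.toLinearMap ∘ LinearMap.lTensor R' S'.val.toLinearMap := by
      funext x
      induction x using TensorProduct.induction_on with
      | zero => simp
      | tmul a b => rfl
      | add a b ha hb => simp only [Function.comp_apply, map_add] at ha hb ⊢; rw [ha, hb]
    rw [h1]
    exact (Module.Flat.rTensor_preserves_injective_linearMap (M := S) _ Subtype.val_injective).comp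
      (Module.Flat.lTensor_preserves_injective_linearMap (M := R') _ Subtype.val_injective)
  obtain ⟨z', hz'⟩ : ∃ z', ψ z' = z := by
    refine ⟨∑ i ∈ T.attach, (⟨i.1.1, Algebra.subset_adjoin (Finset.mem_coe.2 (Finset.mem_image_of_mem _ i.2))⟩ : R') ⊗ₜ[k] (⟨i.1.2, Algebra.subset_adjoin (Finset.mem_coe.2 (Finset.mem_image_of_mem _ i.2))⟩ : S'), ?_⟩
    rw [hT, map_sum, ← Finset.sum_attach T]
    exact Finset.sum_congr rfl fun i _ => rfl
  apply hz0
  rw [← hz', @IsReduced.eq_zero _ _ _ hred z' ((IsNilpotent.map_iff hψ).1 (hz' ▸ hz)), map_zero]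

end Groth.Agent.S9641
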