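import Groth.Statements.S9642
import Mathlib

set_option autoImplicit false
universe u
open CAlg

namespace Groth.Agent.S9642


/-- In the general form stated there: let R → S be a ring map inducing an open map Spec(S) → Spec(R),
with Spec(R) irreducible, such that for a dense set of primes p of R the fibre ring κ(p) ⊗_R S has
irreducible spectrum. Then Spec(S) is irreducible. The flat and finitely presented case is the
special case in which the map on spectra is open by fppf-openness. -/
theorem result {R S : Type u} [CommRing R] [CommRing S] [Algebra R S]
    (hopen : IsOpenMap (PrimeSpectrum.comap (algebraMap R S))) [IrreducibleSpace (PrimeSpectrum R)]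
    (D : Set (PrimeSpectrum R)) (hD : Dense D) (hfib : ∀ p ∈ D, IrreducibleSpace (PrimeSpectrum (p.asIdeal.Fiber S))) :
    IrreducibleSpace (PrimeSpectrum S) := by
  have hp : ∀ p ∈ D, IsPreirreducible (PrimeSpectrum.comap (algebraMap R S) ⁻¹' {p}) := by
    intro p hpD
    haveI := hfib p hpD
    let e := PrimeSpectrum.preimageHomeomorphFiber R S p
    haveI : PreirreducibleSpace (PrimeSpectrum.comap (algebraMap R S) ⁻¹' {p}) :=
      ⟨by rw [← e.symm.surjective.range_eq, ← Set.image_univ]; exact (PreirreducibleSpace.isPreirreducible_univ).image _ e.symm.continuous.continuousOn⟩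
    have := (PreirreducibleSpace.isPreirreducible_univ (X := (PrimeSpectrum.comap (algebraMap R S) ⁻¹' {p} : Set (PrimeSpectrum S)))).image Subtype.val continuous_subtype_val.continuousOn
    rwa [Set.image_univ, Subtype.range_coe] at this
  haveI : PreirreducibleSpace (PrimeSpectrum S) := ⟨by
    have h := (PreirreducibleSpace.isPreirreducible_univ (X := PrimeSpectrum R)).preimage_of_dense_isPreirreducible_fiber (PrimeSpectrum.comap (algebraMap R S)) hopen (by
      rw [Set.univ_inter, ← hD.closure_eq]
      exact closure_mono hp)
    simpa using h⟩
  obtain ⟨p, hpD⟩ := hD.nonempty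
  haveI := hfib p hpD
  exact { toNonempty := Nonempty.map (fun q => ((PrimeSpectrum.preimageHomeomorphFiber R S p).symm q).1) inferInstance }

end Groth.Agent.S9642
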