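import Groth.Statements.S9644
import Mathlib

set_option autoImplicit false
universe u
open CAlg

namespace Groth.Agent.S9644
open Module

/-- Let R be a Noetherian ring and M a finite R-module. Among the submodules K' of M whose support is
nowhere dense inside Supp(M) there is a largest one, K. The quotient M' = M/K then satisfies
Supp(M') = Supp(M), its associated primes are pairwise incomparable (no embedded ones), and whenever
f ∈ R belongs to every embedded associated prime of M the localized map M_f → M'_f is bijective. -/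
theorem result {R : Type u} [CommRing R] [IsNoetherianRing R] (M : Type u) [AddCommGroup M] [Module R M] [Module.Finite R M] :
    ∃ K : Submodule R M,
      IsGreatest {K' : Submodule R M | ∀ U : Set (PrimeSpectrum R), IsOpen U → U ∩ Module.support R M ⊆ closure (Module.support R ↥K') → U ∩ Module.support R M = ∅} K ∧
      Module.support R (M ⧸ K) = Module.support R M ∧
      (∀ p ∈ associatedPrimes R (M ⧸ K), ∀ q ∈ associatedPrimes R (M ⧸ K), p ≤ q → p = q) ∧
      ∀ f : R, (∀ p ∈ associatedPrimes R M, ¬ Minimal (fun x => x ∈ associatedPrimes R M) p → f ∈ p) →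
        Function.Bijective (LocalizedModule.map (Submonoid.powers f) K.mkQ) := by
  classical
  let A := Module.annihilator R M
  let Mins := A.minimalPrimes
  have hprime : ∀ P ∈ Mins, P.IsPrime := fun P hP => hP.1.1
  let K : Submodule R M :=
    { carrier := {x | ∀ P ∈ Mins, ∃ s, s ∉ P ∧ s • x = 0}
      zero_mem' := fun P hP => ⟨1, (hprime P hP).one_notMem, smul_zero _⟩
      add_mem' := fun {a b} ha hb P hP => by
        obtain ⟨s, hs, hsa⟩ := ha P hP; obtain ⟨t, ht, htb⟩ := hb P hP
        refine ⟨s * t, fun h => ((hprime P hP).mem_or_mem h).elim hs ht, ?_⟩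
        rw [smul_add, mul_comm, mul_smul, hsa, smul_zero, zero_add, mul_comm, mul_smul, htb, smul_zero]
      smul_mem' := fun c x hx P hP => by
        obtain ⟨s, hs, hsx⟩ := hx P hP
        exact ⟨s, hs, by rw [smul_comm, hsx, smul_zero]⟩ }
  have hK : ∀ x, x ∈ K ↔ ∀ P ∈ Mins, ∃ s, s ∉ P ∧ s • x = 0 := fun x => Iff.rfl
  have hsupp : ∀ p : PrimeSpectrum R, p ∈ Module.support R M ↔ A ≤ p.asIdeal := fun p => Module.mem_support_iff_of_finite
  have hmin_exists : ∀ p : PrimeSpectrum R, p ∈ Module.support R M → ∃ P ∈ Mins, P ≤ p.asIdeal := fun p hp =>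
    Ideal.exists_minimalPrimes_le ((hsupp p).mp hp)
  have hMem : ∀ (x : M) (P : Ideal R), P ∈ Mins → ∀ s ∉ P, s • x ∈ K → ∃ t ∉ P, t • x = 0 := by
    intro x P hP s hs hsx
    obtain ⟨t, ht, h⟩ := (hK _).mp hsx P hP
    exact ⟨t * s, fun h' => ((hprime P hP).mem_or_mem h').elim ht hs, by rw [mul_smul]; exact h⟩
  have hsq : Module.support R (M ⧸ K) = Module.support R M := by
    refine Set.Subset.antisymm (Module.support_subset_of_surjective K.mkQ K.mkQ_surjective) fun p hp => ?_
    obtain ⟨P, hP, hPp⟩ := hmin_exists p hp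
    haveI := hprime P hP
    have hP' : (⟨P, inferInstance⟩ : PrimeSpectrum R) ∈ Module.support R (M ⧸ K) := by
      obtain ⟨x, hx⟩ := Module.mem_support_iff'.mp ((hsupp ⟨P, inferInstance⟩).mpr hP.1.2)
      refine Module.mem_support_iff'.mpr ⟨K.mkQ x, fun s hs h => ?_⟩
      rw [← map_smul, Submodule.mkQ_apply, Submodule.Quotient.mk_eq_zero] at h
      obtain ⟨t, ht, htx⟩ := hMem x P hP s hs h
      exact hx t ht htx
    exact Module.mem_support_mono hPp hP'
  refine ⟨K, ⟨?_, ?_⟩, hsq, ?_, ?_⟩
  · intro U hU hsub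
    by_contra hne
    obtain ⟨q, hqU, hqS⟩ := Set.nonempty_iff_ne_empty.mpr hne
    obtain ⟨P, hP, hPq⟩ := hmin_exists q hqS
    haveI := hprime P hP
    let p0 : PrimeSpectrum R := ⟨P, inferInstance⟩
    have hp0U : p0 ∈ U := hU.stableUnderGeneralization ((PrimeSpectrum.le_iff_specializes p0 q).mp hPq) hqU
    have hcl := hsub ⟨hp0U, (hsupp p0).mpr hP.1.2⟩
    rw [(Module.isClosed_support).closure_eq] at hcl
    obtain ⟨x, hx⟩ := Module.mem_support_iff'.mp hcl
    obtain ⟨s, hs, hsx⟩ := (hK _).mp x.2 P hP
    exact hx s hs (Subtype.ext hsx)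
  · intro K' hK' x hxK P hP
    haveI := hprime P hP
    by_contra hcon
    push Not at hcon
    let p0 : PrimeSpectrum R := ⟨P, inferInstance⟩
    have hp0 : p0 ∈ Module.support R K' := by
      refine Module.mem_support_iff'.mpr ⟨⟨x, hxK⟩, fun s hs h => hcon s hs (congrArg Subtype.val h)⟩
    have hfin : Mins.Finite := Ideal.finite_minimalPrimes_of_isNoetherianRing R A
    let C : Set (PrimeSpectrum R) := ⋃ Q ∈ Mins \ {P}, PrimeSpectrum.zeroLocus (Q : Set R)
    have hC : IsClosed C := Set.Finite.isClosed_biUnion (hfin.sdiff) (fun Q _ => PrimeSpectrum.isClosed_zeroLocus _)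
    have hp0C : p0 ∉ C := by
      simp only [C, Set.mem_iUnion, not_exists]
      intro Q hQ hQP
      exact hQ.2 (le_antisymm hQP (hP.2 ⟨hQ.1.1.1, hQ.1.1.2⟩ hQP))
    have := hK' Cᶜ hC.isOpen_compl (fun q ⟨hqC, hqS⟩ => by
      obtain ⟨Q, hQ, hQq⟩ := hmin_exists q hqS
      have hQP : Q = P := by
        by_contra hne
        exact hqC (Set.mem_biUnion (⟨hQ, hne⟩ : Q ∈ Mins \ {P}) hQq)
      subst hQP
      exact subset_closure (Module.mem_support_mono (show p0 ≤ q from hQq) hp0))
    exact absurd (show p0 ∈ Cᶜ ∩ Module.support R M from ⟨hp0C, (hsupp p0).mpr hP.1.2⟩) (by rw [this]; exact fun h => h)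
  · have hass : ∀ p ∈ associatedPrimes R (M ⧸ K), p ∈ Mins := by
      intro p hp
      obtain ⟨hpp, x, hx⟩ := isAssociatedPrime_iff.mp hp
      obtain ⟨x, rfl⟩ := K.mkQ_surjective x
      have hxK : x ∉ K := by
        intro h
        rw [show K.mkQ x = 0 from (Submodule.Quotient.mk_eq_zero K).mpr h] at hx
        exact hpp.ne_top (by rw [hx]; exact eq_top_iff.mpr fun r _ => by simp)
      have hxK' : ¬ ∀ P ∈ Mins, ∃ s, s ∉ P ∧ s • x = 0 := hxK
      push Not at hxK'
      obtain ⟨P, hP, hPx⟩ := hxK'
      have hle : p ≤ P := by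
        intro r hr
        by_contra hrP
        rw [hx] at hr
        have hr' : r • K.mkQ x = 0 := by simpa using hr
        rw [← map_smul, Submodule.mkQ_apply, Submodule.Quotient.mk_eq_zero] at hr'
        obtain ⟨t, ht, htx⟩ := hMem x P hP r hrP hr'
        exact hPx t ht htx
      have hAp : A ≤ p := by
        refine (hsupp ⟨p, hpp⟩).mp ?_
        rw [← hsq]
        refine Module.mem_support_iff'.mpr ⟨K.mkQ x, fun s hs h => hs ?_⟩
        show s ∈ p
        rw [hx]; simpa using h
      exact le_antisymm hle (hP.2 ⟨hpp, hAp⟩ hle) ▸ hP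
    intro p hp q hq hpq
    exact le_antisymm hpq ((hass q hq).2 ⟨(hass p hp).1.1, (hass p hp).1.2⟩ hpq)
  · intro f hf
    refine ⟨?_, LocalizedModule.map_surjective _ _ K.mkQ_surjective⟩
    rw [injective_iff_map_eq_zero]
    intro z hz
    induction z using LocalizedModule.induction_on with
    | h x s =>
      rw [LocalizedModule.map_mk] at hz
      obtain ⟨t, ht⟩ := LocalizedModule.mk_eq.mp (hz.trans (LocalizedModule.zero_mk 1).symm)
      simp only [smul_zero, one_smul] at ht
      rw [Submonoid.smul_def, ← map_smul, Submodule.mkQ_apply, Submodule.Quotient.mk_eq_zero] at ht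
      have key : ∀ y ∈ K, ∃ n : ℕ, f ^ n • y = 0 := by
        intro y hy
        let N : Submodule R M := Submodule.span R {y}
        have hfr : f ∈ (Module.annihilator R N).radical := by
          rw [← Ideal.sInf_minimalPrimes, Submodule.mem_sInf]
          intro q hq
          by_contra hfq
          have hqN : q ∈ associatedPrimes R N := Module.associatedPrimes.minimalPrimes_annihilator_subset_associatedPrimes R N hq
          have hqM : q ∈ associatedPrimes R M := associatedPrimes.subset_of_injective N.injective_subtype hqN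
          have hqmin : Minimal (fun x => x ∈ associatedPrimes R M) q := by
            by_contra hn; exact hfq (hf q hqM hn)
          haveI := hq.1.1
          have hAq : A ≤ q := le_trans (LinearMap.annihilator_le_of_injective N.subtype N.injective_subtype) hq.1.2
          obtain ⟨P, hP, hPq⟩ := Ideal.exists_minimalPrimes_le hAq
          have hPM : P ∈ associatedPrimes R M := Module.associatedPrimes.minimalPrimes_annihilator_subset_associatedPrimes R M hP
          have hqP : q ≤ P := hqmin.2 hPM hPq
          obtain ⟨s', hs', hsy⟩ := (hK y).mp hy P hP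
          refine hs' (hPq.antisymm hqP ▸ hq.1.2 ?_)
          rw [Module.mem_annihilator]
          rintro ⟨w, hw⟩
          obtain ⟨c, rfl⟩ := Submodule.mem_span_singleton.mp hw
          apply Subtype.ext
          show s' • c • y = 0
          rw [smul_comm, hsy, smul_zero]
        obtain ⟨n, hn⟩ := hfr
        exact ⟨n, congrArg Subtype.val (Module.mem_annihilator.mp hn ⟨y, Submodule.mem_span_singleton_self y⟩)⟩
      obtain ⟨n, hn⟩ := key _ ht
      rw [← LocalizedModule.zero_mk 1]
      refine LocalizedModule.mk_eq.mpr ⟨⟨f ^ n, n, rfl⟩ * t, ?_⟩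
      simp only [smul_zero, one_smul, mul_smul]
      exact hn

end Groth.Agent.S9644
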