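import Groth.Statements.S9645
import Mathlib

set_option autoImplicit false
universe u
open CAlg

namespace Groth.Agent.S9645
open scoped TensorProduct
set_option linter.style.haveILetI false

/-- Integral closure commutes with localization. Let A → B be a ring map, S a multiplicative subset of
A, and A_S, B_S the localizations of A at S and of B at the image of S. Then an element x of B_S is
integral over A_S if and only if x·s = b for some s ∈ S and some b ∈ B integral over A (images taken
in B_S); that is, the integral closure of A_S in B_S is S⁻¹B' for B' the integral closure of A in B. -/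
theorem result {A B As Bs : Type u} [CommRing A] [CommRing B] [CommRing As] [CommRing Bs] [Algebra A B] [Algebra A As] [Algebra B Bs] [Algebra As Bs] [Algebra A Bs] [IsScalarTower A B Bs] [IsScalarTower A As Bs]
    (S : Submonoid A) [IsLocalization S As] [IsLocalization (Algebra.algebraMapSubmonoid B S) Bs] (x : Bs) :
    IsIntegral As x ↔ ∃ b : B, IsIntegral A b ∧ ∃ s ∈ S, x * algebraMap A Bs s = algebraMap B Bs b := by
  constructor
  · intro hx
    obtain ⟨t, ht⟩ := IsIntegral.exists_multiple_integral_of_isLocalization S x hx
    obtain ⟨⟨b, ⟨_, c, hc, rfl⟩⟩, hb⟩ := IsLocalization.surj (Algebra.algebraMapSubmonoid B S) (t • x)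
    obtain ⟨P, hP, hP0⟩ : IsIntegral A (algebraMap B Bs b) := by
      rw [← hb]
      exact ht.mul (by rw [← IsScalarTower.algebraMap_apply]; exact isIntegral_algebraMap)
    obtain ⟨⟨_, c', hc', rfl⟩, hc0⟩ := (IsLocalization.map_eq_zero_iff (Algebra.algebraMapSubmonoid B S) Bs (Polynomial.aeval b P)).1 (by
      rw [← Polynomial.aeval_algebraMap_apply]; exact hP0)
    refine ⟨algebraMap A B c' * b, ?_, c' * c * t, S.mul_mem (S.mul_mem hc' hc) t.2, ?_⟩
    · rcases Nat.eq_zero_or_pos P.natDegree with hdeg | hdeg
      · rw [(hP.natDegree_eq_zero).1 hdeg, map_one] at hc0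
        simp only [mul_one] at hc0
        rw [hc0, zero_mul]; exact isIntegral_zero
      · refine ⟨P.scaleRoots c', (Polynomial.monic_scaleRoots_iff c').2 hP, ?_⟩
        rw [← Polynomial.aeval_def, Polynomial.aeval_def, Polynomial.scaleRoots_eval₂_mul, ← Polynomial.aeval_def]
        obtain ⟨k, hk⟩ := Nat.exists_eq_succ_of_ne_zero hdeg.ne'
        rw [hk, pow_succ, mul_assoc, hc0, mul_zero]
    · rw [map_mul, map_mul, map_mul, ← IsScalarTower.algebraMap_apply, ← hb, ← IsScalarTower.algebraMap_apply, Submonoid.smul_def, Algebra.smul_def]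
      ring
  · rintro ⟨b, hb, s, hs, h⟩
    have hu : IsUnit (algebraMap A As s) := IsLocalization.map_units As (⟨s, hs⟩ : S)
    obtain ⟨v, hv⟩ := hu
    have hx : x = algebraMap As Bs (↑v⁻¹) * algebraMap B Bs b := by
      rw [← h, IsScalarTower.algebraMap_apply A As Bs, ← hv, mul_left_comm, ← map_mul, Units.inv_mul, map_one, mul_one]
    rw [hx]
    exact isIntegral_algebraMap.mul ((hb.algebraMap (B := Bs)).tower_top)

end Groth.Agent.S9645
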