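import Groth.Statements.S9646
import Mathlib

set_option autoImplicit false
universe u
open CAlg

namespace Groth.Agent.S9646
open scoped TensorProduct
set_option linter.style.haveILetI false

/-- (2) ⇒ (1): let R → S be a ring map and x ∈ S. If for every prime ideal p of R the image of x in S_p
(the localization of S at the image of R ∖ p) is integral over R_p, then x is integral over R. Here
R_p and S_p are any rings satisfying the localization universal properties. -/
theorem result {R S : Type u} [CommRing R] [CommRing S] [Algebra R S] (x : S)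
    (h : ∀ (p : Ideal R) [p.IsPrime] (Rp Sp : Type u) [CommRing Rp] [CommRing Sp] [Algebra R Rp] [Algebra S Sp] [Algebra Rp Sp] [Algebra R Sp] [IsScalarTower R S Sp] [IsScalarTower R Rp Sp] [IsLocalization.AtPrime Rp p] [IsLocalization (Algebra.algebraMapSubmonoid S p.primeCompl) Sp], IsIntegral Rp (algebraMap S Sp x)) :
    IsIntegral R x := by
  let I : Ideal R := (Subalgebra.toSubmodule (integralClosure R S)).comap (LinearMap.toSpanSingleton R S x)
  suffices hI : I = ⊤ by
    have h1 : (1 : R) ∈ I := hI ▸ trivial
    simpa [I, mem_integralClosure_iff] using h1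
  by_contra hne
  obtain ⟨p, hp, hle⟩ := Ideal.exists_le_maximal I hne
  haveI := hp.isPrime
  letI : Algebra (Localization.AtPrime p) (Localization (Algebra.algebraMapSubmonoid S p.primeCompl)) :=
    localizationAlgebra p.primeCompl S
  haveI : IsScalarTower R (Localization.AtPrime p) (Localization (Algebra.algebraMapSubmonoid S p.primeCompl)) :=
    IsScalarTower.of_algebraMap_eq' (by
      rw [RingHom.algebraMap_toAlgebra, IsLocalization.map_comp, ← IsScalarTower.algebraMap_eq])
  obtain ⟨t, ht⟩ := IsIntegral.exists_multiple_integral_of_isLocalization p.primeCompl _ (h p (Localization.AtPrime p) (Localization (Algebra.algebraMapSubmonoid S p.primeCompl)))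
  obtain ⟨P, hP, hP0⟩ := ht
  rw [← Polynomial.aeval_def, Submonoid.smul_def, ← IsScalarTower.coe_toAlgHom' R S (Localization (Algebra.algebraMapSubmonoid S p.primeCompl)), ← map_smul, Polynomial.aeval_algHom_apply, IsScalarTower.coe_toAlgHom'] at hP0
  obtain ⟨⟨_, c, hc, rfl⟩, hc0⟩ := (IsLocalization.map_eq_zero_iff (Algebra.algebraMapSubmonoid S p.primeCompl) _ _).1 hP0
  have hmem : c * (t : R) ∈ I := by
    show IsIntegral R ((c * (t : R)) • x)
    rw [mul_smul, Algebra.smul_def]
    rcases Nat.eq_zero_or_pos P.natDegree with hdeg | hdeg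
    · rw [(hP.natDegree_eq_zero).1 hdeg] at hc0
      simp only [map_one, mul_one] at hc0
      rw [hc0, zero_mul]; exact isIntegral_zero
    · refine ⟨P.scaleRoots c, (Polynomial.monic_scaleRoots_iff c).2 hP, ?_⟩
      rw [Polynomial.scaleRoots_eval₂_mul, ← Polynomial.aeval_def]
      obtain ⟨k, hk⟩ := Nat.exists_eq_succ_of_ne_zero hdeg.ne'
      rw [hk, pow_succ, mul_assoc, hc0, mul_zero]
  exact (hp.isPrime.mem_or_mem (hle hmem)).elim hc t.2

end Groth.Agent.S9646
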