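import Groth.Statements.S9648
import Mathlib
import Groth.Prelude.Def_FlatCA
import Groth.Agent.Lib.H2FiberMod

set_option autoImplicit false
universe u
open CAlg

namespace Groth.Agent.S9648
open scoped TensorProduct
open Groth.Agent.H2WeakAss Groth.Agent.H2FiberMod
set_option linter.style.haveILetI false

open TensorProduct in
/-- The inclusion, valid for any ring R: let R → S be a ring map, M an R-module and N an S-module which
is flat over R. For an associated prime p of M (a prime equal to the annihilator of an element) and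
an associated prime Q of the fibre module N ⊗_R κ(p) over the fibre ring S ⊗_R κ(p), the inverse
image of Q in S is an associated prime of N ⊗_R M. -/
theorem result {R S : Type u} [CommRing R] [CommRing S] [Algebra R S] (M : Type u) [AddCommGroup M] [Module R M] (N : Type u) [AddCommGroup N] [Module S N] [Module R N] [IsScalarTower R S N] [Module.Flat R N]
    (p : Ideal R) [p.IsPrime] (hp : p ∈ FlatCA.ass R M) (Q : Ideal (p.Fiber S)) (hQ : Q ∈ FlatCA.ass (p.Fiber S) (FlatCA.fiberMod p S N)) :
    Q.comap (Algebra.TensorProduct.includeRight (R := R) (A := p.ResidueField) (B := S)).toRingHom ∈ FlatCA.ass S (N ⊗[R] M) := by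
  obtain ⟨hQp, x, hx⟩ := hQ
  obtain ⟨-, m, hm⟩ := hp
  obtain ⟨r, hr, n, hn⟩ := exists_smul_eq p x
  haveI := hQp
  refine ⟨inferInstance, n ⊗ₜ[R] m, ?_⟩
  have h1 : Q.comap (Algebra.TensorProduct.includeRight (R := R) (A := p.ResidueField) (B := S)).toRingHom = ann S x := by
    rw [hx]
    ext s
    rw [Ideal.mem_comap, Submodule.mem_annihilator_span_singleton, mem_ann, ← includeRight_smul p s x]
    rfl
  rw [h1, ← ann_eq_of_smul_eq p hr hn]
  let f : (R ⧸ p) →ₗ[R] M := Submodule.liftQ p (LinearMap.toSpanSingleton R M m) (fun a ha => mem_ann.1 (hm.le ha))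
  have hf : Function.Injective f := (injective_iff_map_eq_zero _).2 fun a ha => by
    obtain ⟨a, rfl⟩ := Ideal.Quotient.mk_surjective a
    exact Ideal.Quotient.eq_zero_iff_mem.2 (hm.ge (mem_ann.2 ha))
  ext s
  rw [mem_ann, Submodule.mem_annihilator_span_singleton, ← map_smul, toFib_eq_zero_iff]
  have key : ∀ y : N, y ⊗ₜ[R] m = 0 ↔ y ∈ (p.map (algebraMap R S)) • (⊤ : Submodule S N) := fun y => by
    rw [mem_map_smul_top, ← Submodule.Quotient.mk_eq_zero,
      show (Submodule.Quotient.mk y : N ⧸ (p • ⊤ : Submodule R N)) = TensorProduct.quotTensorEquivQuotSMul N p ((1 : R ⧸ p) ⊗ₜ y) by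
        rw [show (1 : R ⧸ p) = Ideal.Quotient.mk p 1 from rfl, TensorProduct.quotTensorEquivQuotSMul_mk_tmul, one_smul],
      LinearEquiv.map_eq_zero_iff, ← map_eq_zero_iff _ (Module.Flat.rTensor_preserves_injective_linearMap (M := N) f hf),
      ← (TensorProduct.comm R N M).map_eq_zero_iff, LinearMap.rTensor_tmul, TensorProduct.comm_tmul,
      show f 1 = m from one_smul R m]
  rw [TensorProduct.smul_tmul', key]
  refine ⟨fun ⟨c, hc, h⟩ => ?_, fun h => ⟨1, fun h => (inferInstance : p.IsPrime).ne_top ((Ideal.eq_top_iff_one _).2 h), by rwa [map_one, one_smul]⟩⟩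
  rw [mem_map_smul_top, algebraMap_smul] at h
  rw [mem_map_smul_top]
  exact mem_smul_top_of_smul_mem p hc h

end Groth.Agent.S9648
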