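import Groth.Statements.S9649
import Mathlib
import Groth.Agent.Lib.H2LiPow

set_option autoImplicit false
universe u
open CAlg

namespace Groth.Agent.S9649
set_option backward.isDefEq.respectTransparency.types false
open MvPolynomial

/-- A separably generated field extension is separable. Precisely: let K/k be a field extension
admitting a transcendence basis x over whose generated subfield k(x) the field K is separable
algebraic; then every finitely generated subextension K' of K/k also admits such a transcendence
basis. -/
theorem result {k K : Type u} [Field k] [Field K] [Algebra k K]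
    (h : ∃ (ι : Type u) (x : ι → K), IsTranscendenceBasis k x ∧ Algebra.IsSeparable (IntermediateField.adjoin k (Set.range x)) K)
    (K' : IntermediateField k K) (hK' : ∃ s : Finset K, IntermediateField.adjoin k (s : Set K) = K') :
    ∃ (ι : Type u) (x : ι → K'), IsTranscendenceBasis k x ∧ Algebra.IsSeparable (IntermediateField.adjoin k (Set.range x)) K' := by
  haveI : Algebra.EssFiniteType k K' := by
    rw [IntermediateField.essFiniteType_iff]
    obtain ⟨s, hs⟩ := hK'
    exact ⟨s, hs⟩
  suffices H : ∃ s : Finset K', IsTranscendenceBasis k ((↑) : s → K') ∧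
      Algebra.IsSeparable (IntermediateField.adjoin k (s : Set K')) K' by
    obtain ⟨s, h1, h2⟩ := H
    refine ⟨s, (↑), h1, ?_⟩
    have : Set.range ((↑) : s → K') = (s : Set K') := Subtype.range_coe
    rw [this]; exact h2
  obtain ⟨p, hpk⟩ := ExpChar.exists k
  cases hpk with
  | zero => exact exists_isTranscendenceBasis_and_isSeparable_of_perfectField k K'
  | prime hp =>
    haveI := Fact.mk hp
    haveI : ExpChar k p := ExpChar.prime hp
    haveI : ExpChar K p := expChar_of_injective_algebraMap (algebraMap k K).injective p
    obtain ⟨ι, x, hx, hsep⟩ := h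
    refine exists_isTranscendenceBasis_and_isSeparable_of_linearIndepOn_pow_of_essFiniteType p hp fun s hs => ?_
    let F := IntermediateField.adjoin k (Set.range x)
    haveI : ExpChar F p := expChar_of_injective_algebraMap (algebraMap k F).injective p
    let w := Module.Basis.ofVectorSpace F K
    let z : (ι →₀ ℕ) × _ → K := fun mj => aeval x (monomial mj.1 (1:k)) * w mj.2
    let S := Submodule.span k (Set.range z)
    have hmul : ∀ (r : MvPolynomial ι k), ∀ u ∈ S, aeval x r * u ∈ S := by
      intro r u hu
      induction hu using Submodule.span_induction with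
      | mem u hu =>
        obtain ⟨⟨m, j⟩, rfl⟩ := hu
        induction r using MvPolynomial.induction_on' with
        | monomial n a =>
          have : aeval x (monomial n a) * z (m, j) = a • z (n + m, j) := by
            have e : monomial (n+m) (1:k) = monomial n 1 * monomial m 1 := by rw [monomial_mul, one_mul]
            simp only [z]
            rw [e, map_mul, show monomial n a = a • monomial n (1:k) by rw [smul_monomial, smul_eq_mul, mul_one], map_smul]
            simp only [Algebra.smul_def]; ring
          rw [this]; exact S.smul_mem _ (Submodule.subset_span ⟨_, rfl⟩)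
        | add r₁ r₂ h₁ h₂ => rw [map_add, add_mul]; exact S.add_mem h₁ h₂
      | zero => rw [mul_zero]; exact S.zero_mem
      | add u v _ _ h₁ h₂ => rw [mul_add]; exact S.add_mem h₁ h₂
      | smul a u _ h₁ => rw [mul_smul_comm]; exact S.smul_mem _ h₁
    have hgood : ∀ u : K, ∃ r : MvPolynomial ι k, aeval x r ≠ 0 ∧ aeval x r * u ∈ S := by
      intro u
      induction w.mem_span u using Submodule.span_induction with
      | mem u hu =>
        obtain ⟨j, rfl⟩ := hu
        refine ⟨1, by simp, ?_⟩
        rw [map_one, one_mul]
        exact Submodule.subset_span ⟨(0, j), by simp [z]⟩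
      | zero => exact ⟨1, by simp, by simp⟩
      | add u v _ _ h₁ h₂ =>
        obtain ⟨r₁, n₁, m₁⟩ := h₁; obtain ⟨r₂, n₂, m₂⟩ := h₂
        refine ⟨r₁ * r₂, by simp [n₁, n₂], ?_⟩
        rw [map_mul, mul_add]
        exact S.add_mem (by rw [mul_comm (aeval x r₁), mul_assoc]; exact hmul _ _ m₁) (by rw [mul_assoc]; exact hmul _ _ m₂)
      | smul c u _ h₁ =>
        obtain ⟨r, n, m⟩ := h₁
        obtain ⟨a, b, hab⟩ := (IntermediateField.mem_adjoin_range_iff k _ _).mp c.2
        rw [IntermediateField.smul_def, smul_eq_mul, hab]
        by_cases hb : aeval x b = 0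
        · exact ⟨1, by simp, by simp [hb]⟩
        · refine ⟨b * r, by simp [hb, n], ?_⟩
          rw [map_mul]
          convert hmul a _ m using 1
          field_simp
    have hz : LinearIndependent k (fun mj => z mj ^ p) := by
      have hf : LinearIndependent k (fun m : ι →₀ ℕ => (⟨aeval x (monomial (p • m) (1:k)),
          IntermediateField.algebra_adjoin_le_adjoin k _ ((Algebra.adjoin_range_eq_range_aeval k x).ge ⟨_, rfl⟩)⟩ : F)) := by
        apply LinearIndependent.of_comp F.val.toLinearMap
        have := ((basisMonomials ι k).linearIndependent.comp (fun m => p • m)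
          (smul_right_injective _ hp.ne_zero)).map' (aeval x).toLinearMap (LinearMap.ker_eq_bot.mpr hx.1)
        convert this using 1 <;> first | rfl | (funext m; simp [basisMonomials]) 
      have := linearIndependent_smul hf (by simpa using w.linearIndependent.map_pow_expChar_pow_of_isSeparable p 1)
      convert this using 1
      funext ⟨m, j⟩
      simp [z, IntermediateField.smul_def, mul_pow, ← map_pow, monomial_pow]
    choose r hr hrS using fun i : (s : Set K') => hgood ((i : K') : K)
    have hv : LinearIndependent k (fun i : (s : Set K') => ((i : K') : K)) :=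
      (LinearIndepOn.linearIndependent hs).map' K'.val.toLinearMap (LinearMap.ker_eq_bot.mpr K'.val.injective)
    have hd : aeval x (∏ i, r i) ≠ 0 := by
      rw [map_prod]; exact Finset.prod_ne_zero_iff.mpr fun i _ => hr i
    have := Groth.Agent.H2LiPow.li_pow p z hz _ _ hd hv (fun i => by
      classical
      rw [← Finset.prod_erase_mul _ _ (Finset.mem_univ i), map_mul, mul_assoc]
      exact hmul _ _ (hrS i))
    exact LinearIndependent.of_comp K'.val.toLinearMap (by convert this using 1; funext i; simp)

end Groth.Agent.S9649
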