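import Groth.Statements.S9656
import Mathlib

set_option autoImplicit false
universe u
open CAlg

namespace Groth.Agent.S9656
set_option linter.style.haveILetI false
open TensorProduct Polynomial

/-- Let R_i → S_i be ring maps indexed by a finite type ι, with product map R = Π R_i → S = Π S_i. Then
an element (s_i) of S is integral over R exactly when s_i is integral over R_i for every i; so
integral closure in a finite product is computed factor by factor. -/
theorem result {ι : Type u} [Fintype ι] {R S : ι → Type u} [∀ i, CommRing (R i)] [∀ i, CommRing (S i)] (f : ∀ i, R i →+* S i) (s : ∀ i, S i) :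
    (RingHom.pi fun i => (f i).comp (Pi.evalRingHom R i)).IsIntegralElem s ↔ ∀ i, (f i).IsIntegralElem (s i) := by
  constructor
  · rintro ⟨p, hp, h⟩ i
    refine ⟨p.map (Pi.evalRingHom R i), hp.map _, ?_⟩
    rw [eval₂_map]
    have := congrArg (Pi.evalRingHom S i) h
    rwa [hom_eval₂, map_zero] at this
  · intro h
    classical
    choose p hp hp0 using h
    let N := Finset.univ.sup fun i => (p i).natDegree
    let q : ∀ i, (R i)[X] := fun i => p i * X ^ (N - (p i).natDegree)
    have hc : ∀ i, (q i).coeff N = 1 := fun i => by
      have hle : (p i).natDegree ≤ N := Finset.le_sup (f := fun i => (p i).natDegree) (Finset.mem_univ i)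
      simp only [q]
      conv_lhs => arg 2; rw [show N = (p i).natDegree + (N - (p i).natDegree) by omega]
      rw [coeff_mul_X_pow]
      exact hp i
    let P : (∀ i, R i)[X] := ∑ k ∈ Finset.range (N + 1), Polynomial.monomial k (fun i => (q i).coeff k)
    have hmap : ∀ i, P.map (Pi.evalRingHom R i) = q i := by
      intro i
      ext k
      simp only [P, coeff_map, finsetSum_coeff, coeff_monomial, Finset.sum_ite_eq', Finset.mem_range]
      split
      · rfl
      · rw [map_zero, eq_comm]
        refine coeff_eq_zero_of_natDegree_lt ?_
        have hle : (p i).natDegree ≤ N := Finset.le_sup (f := fun i => (p i).natDegree) (Finset.mem_univ i)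
        have : (q i).natDegree ≤ (p i).natDegree + (N - (p i).natDegree) :=
          natDegree_mul_le.trans (Nat.add_le_add_left (natDegree_X_pow_le _) _)
        omega
    refine ⟨P, monic_of_natDegree_le_of_coeff_eq_one N (natDegree_sum_le_of_forall_le _ _ fun k hk => (natDegree_monomial_le _).trans (by simp at hk; omega)) ?_, ?_⟩
    · funext i
      simp only [P, finsetSum_coeff, coeff_monomial, Finset.sum_ite_eq', Finset.mem_range, lt_add_one, if_true]
      exact hc i
    · funext i
      have := hom_eval₂ P (RingHom.pi fun i => (f i).comp (Pi.evalRingHom R i)) (Pi.evalRingHom S i) s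
      refine this.trans ?_
      rw [show (Pi.evalRingHom S i).comp (RingHom.pi fun i => (f i).comp (Pi.evalRingHom R i)) = (f i).comp (Pi.evalRingHom R i) from rfl,
        ← eval₂_map, hmap]
      simp [q, eval₂_mul, hp0]

end Groth.Agent.S9656
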