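import Groth.Statements.S9663
import Mathlib

set_option autoImplicit false
set_option backward.isDefEq.respectTransparency.types false
set_option maxHeartbeats 1000000
set_option linter.all false
universe u
open CAlg

namespace Groth.Agent.S9663
open Groth.Agent

/-- Let R be a ring and f_i, i in a finite index set, elements of R (no condition on the ideal they
generate). Suppose given for each i an R-module M_i on which f_i acts invertibly, for each pair (i,
j) an R-linear isomorphism ψ_ij : (M_i)_{f_j} → (M_j)_{f_i}, and suppose the cocycle condition ψ_jk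
∘ ψ_ij = ψ_ik holds as maps (M_i)_{f_j f_k} → (M_k)_{f_i f_j} for all triples (i, j, k). All
localizations are given through their universal properties: (M_i)_{f_j} with its map g from M_i;
(M_i)_{f_j f_k} with its map t from M_i and the compatible maps u from (M_i)_{f_j} and v from
(M_i)_{f_k}; and the three localized isomorphisms Ψ₁ (ψ_ij on (M_i)_{f_j f_k}), Ψ₂ (ψ_jk on
(M_j)_{f_i f_k}) and Ψ₃ (ψ_ik on (M_i)_{f_j f_k}) are given as maps compatible with the ψ's. Let M ⊆
Π_i M_i be the submodule of families (m_i) with m_i/1 = ψ_ji(m_j/1) in (M_i)_{f_j} for all i, j.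
Then for each i the projection M → M_i exhibits M_i as the localization of M at f_i. -/
theorem result {R : Type u} [CommRing R] {ι : Type u} [Finite ι] (f : ι → R)
    (Mi : ι → Type u) [∀ i, AddCommGroup (Mi i)] [∀ i, Module R (Mi i)]
    (hMi : ∀ i, IsUnit (algebraMap R (Module.End R (Mi i)) (f i)))
    (Mij : ι → ι → Type u) [∀ i j, AddCommGroup (Mij i j)] [∀ i j, Module R (Mij i j)]
    (g : ∀ i j, Mi i →ₗ[R] Mij i j) [∀ i j, IsLocalizedModule (Submonoid.powers (f j)) (g i j)]
    (ψ : ∀ i j, Mij i j ≃ₗ[R] Mij j i)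
    (T : ι → ι → ι → Type u) [∀ i j k, AddCommGroup (T i j k)] [∀ i j k, Module R (T i j k)]
    (t : ∀ i j k, Mi i →ₗ[R] T i j k) [∀ i j k, IsLocalizedModule (Submonoid.powers (f j * f k)) (t i j k)]
    (u : ∀ i j k, Mij i j →ₗ[R] T i j k) (hu : ∀ i j k, u i j k ∘ₗ g i j = t i j k)
    (v : ∀ i j k, Mij i k →ₗ[R] T i j k) (hv : ∀ i j k, v i j k ∘ₗ g i k = t i j k)
    (Ψ₁ : ∀ i j k, T i j k →ₗ[R] T j i k) (hΨ₁ : ∀ i j k, Ψ₁ i j k ∘ₗ u i j k = u j i k ∘ₗ (ψ i j).toLinearMap)
    (Ψ₂ : ∀ i j k, T j i k →ₗ[R] T k i j) (hΨ₂ : ∀ i j k, Ψ₂ i j k ∘ₗ v j i k = v k i j ∘ₗ (ψ j k).toLinearMap)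
    (Ψ₃ : ∀ i j k, T i j k →ₗ[R] T k i j) (hΨ₃ : ∀ i j k, Ψ₃ i j k ∘ₗ v i j k = u k i j ∘ₗ (ψ i k).toLinearMap)
    (hcoc : ∀ i j k, Ψ₂ i j k ∘ₗ Ψ₁ i j k = Ψ₃ i j k)
    (M : Submodule R (∀ i, Mi i)) (hM : ∀ m : ∀ i, Mi i, m ∈ M ↔ ∀ i j, g i j (m i) = ψ j i (g j i (m j))) (i : ι) :
    IsLocalizedModule (Submonoid.powers (f i)) ((LinearMap.proj i).comp M.subtype : ↥M →ₗ[R] Mi i) := by
    classical
    cases nonempty_fintype ι
    have upow : ∀ {N : Type u} [AddCommGroup N] [Module R N] {a : R}, IsUnit (algebraMap R (Module.End R N) a) →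
        ∀ x : Submonoid.powers a, IsUnit (algebraMap R (Module.End R N) x) := by
      rintro N _ _ a h ⟨_, n, rfl⟩
      show IsUnit (algebraMap R (Module.End R N) (a ^ n))
      rw [map_pow]
      exact h.pow n
    have ufac : ∀ {N : Type u} [AddCommGroup N] [Module R N] {a b : R}, IsUnit (algebraMap R (Module.End R N) (a * b)) →
        IsUnit (algebraMap R (Module.End R N) a) ∧ IsUnit (algebraMap R (Module.End R N) b) := by
      intro N _ _ a b h
      rw [map_mul] at h
      exact (Commute.isUnit_mul_iff ((Algebra.commute_algebraMap_left a _))).1 h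
    have cancel : ∀ {N : Type u} [AddCommGroup N] [Module R N] {a : R}, IsUnit (algebraMap R (Module.End R N) a) →
        ∀ (n : ℕ) {x y : N}, a ^ n • x = a ^ n • y → x = y := by
      intro N _ _ a h n x y hxy
      apply ((Module.End.isUnit_iff _).1 (h.pow n)).1
      rw [← map_pow]
      exact hxy
    have hTu : ∀ a b c, IsUnit (algebraMap R (Module.End R (T a b c)) (f b)) ∧ IsUnit (algebraMap R (Module.End R (T a b c)) (f c)) :=
      fun a b c => ufac (IsLocalizedModule.map_units (S := Submonoid.powers (f b * f c)) (t a b c) ⟨_, 1, pow_one _⟩)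
    have hMu : ∀ a b, IsUnit (algebraMap R (Module.End R (Mij a b)) (f b)) :=
      fun a b => IsLocalizedModule.map_units (S := Submonoid.powers (f b)) (g a b) ⟨_, 1, pow_one _⟩
    have kt : ∀ a b c x, t a b c x = 0 → ∃ n, (f b * f c) ^ n • x = 0 := by
      intro a b c x hx
      obtain ⟨⟨_, n, rfl⟩, hn⟩ := IsLocalizedModule.exists_of_eq (S := Submonoid.powers (f b * f c)) (f := t a b c)
        (hx.trans (map_zero _).symm)
      exact ⟨n, hn.trans (smul_zero _)⟩
    have kg : ∀ a b x, g a b x = 0 → ∃ n, f b ^ n • x = 0 := by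
      intro a b x hx
      obtain ⟨⟨_, n, rfl⟩, hn⟩ := IsLocalizedModule.exists_of_eq (S := Submonoid.powers (f b)) (f := g a b)
        (hx.trans (map_zero _).symm)
      exact ⟨n, hn.trans (smul_zero _)⟩
    have sg : ∀ a b (z : Mij a b), ∃ (m : Mi a) (n : ℕ), f b ^ n • z = g a b m := by
      intro a b z
      obtain ⟨⟨m, _, n, rfl⟩, hm⟩ := IsLocalizedModule.surj (Submonoid.powers (f b)) (g a b) z
      exact ⟨m, n, hm⟩
    have gi_inj : ∀ a, Function.Injective (g a a) := fun a => (injective_iff_map_eq_zero _).2 fun x hx => by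
      obtain ⟨n, hn⟩ := kg a a x hx
      exact cancel (hMi a) n (hn.trans (smul_zero _).symm)
    have hv_apply : ∀ a b c x, v a b c (g a c x) = t a b c x := fun a b c x => LinearMap.congr_fun (hv a b c) x
    have hu_apply : ∀ a b c x, u a b c (g a b x) = t a b c x := fun a b c x => LinearMap.congr_fun (hu a b c) x
    have h1 : ∀ a b c z, Ψ₁ a b c (u a b c z) = u b a c (ψ a b z) := fun a b c z => LinearMap.congr_fun (hΨ₁ a b c) z
    have h2 : ∀ a b c z, Ψ₂ a b c (v b a c z) = v c a b (ψ b c z) := fun a b c z => LinearMap.congr_fun (hΨ₂ a b c) z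
    have h3 : ∀ a b c z, Ψ₃ a b c (v a b c z) = u c a b (ψ a c z) := fun a b c z => LinearMap.congr_fun (hΨ₃ a b c) z
    have hcc : ∀ a b c q, Ψ₂ a b c (Ψ₁ a b c q) = Ψ₃ a b c q := fun a b c q => LinearMap.congr_fun (hcoc a b c) q
    have kv : ∀ a b c z, v a b c z = 0 → ∃ n, f b ^ n • z = 0 := by
      intro a b c z hz
      obtain ⟨m, n, hm⟩ := sg a c z
      obtain ⟨k, hk⟩ := kt a b c m (by rw [← hv_apply, ← hm, map_smul, hz, smul_zero])
      refine ⟨k, cancel (hMu a c) (k + n) (Eq.trans ?_ (smul_zero _).symm)⟩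
      have := congrArg (g a c) hk
      rw [map_zero, map_smul, ← hm, smul_smul] at this
      rw [smul_smul, ← this]
      congr 1
      ring
    have uveq : ∀ a b, u a b b = v a b b := fun a b =>
      IsLocalizedModule.ext (Submonoid.powers (f b)) (g a b) (upow (hTu a b b).1) (by rw [hu, hv])
    have hself : ∀ a z, ψ a a z = z := by
      intro a z
      have uinj : Function.Injective (u a a a) := (injective_iff_map_eq_zero _).2 fun z hz => by
        rw [uveq] at hz
        obtain ⟨n, hn⟩ := kv a a a z hz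
        exact cancel (hMu a a) n (hn.trans (smul_zero _).symm)
      have e := hcc a a a (u a a a z)
      rw [h1, uveq, h2, ← uveq] at e
      have e3 : Ψ₃ a a a (u a a a z) = u a a a (ψ a a z) := by
        conv_lhs => rw [uveq]
        exact h3 a a a z
      rw [e3] at e
      exact (ψ a a).injective (uinj e)
    have hsymm : ∀ a b z, ψ b a (ψ a b z) = z := by
      intro a b z
      have vinj : ∀ q, v a a b q = 0 → q = 0 := fun q hq => by
        obtain ⟨n, hn⟩ := kv a a b q hq
        obtain ⟨m, k, hm⟩ := sg a b q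
        have h0 : g a b m = 0 := by
          have hmn : f a ^ n • m = 0 → m = 0 := fun h => cancel (hMi a) n (h.trans (smul_zero _).symm)
          have hgz : g a b (f a ^ n • m) = 0 := by rw [map_smul, ← hm, smul_comm, hn, smul_zero]
          obtain ⟨l, hl⟩ := kg a b _ hgz
          rw [smul_comm] at hl
          obtain h := cancel (hMi a) n (hl.trans (smul_zero _).symm)
          exact cancel (hMu a b) l (by rw [← map_smul, h, map_zero, smul_zero])
        exact cancel (hMu a b) k (hm.trans (h0.trans (smul_zero _).symm))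
      have e3 : (Ψ₃ a b a).comp (u a b a) = v a a b := by
        refine IsLocalizedModule.ext (Submonoid.powers (f b)) (g a b) (upow (hTu a a b).2) (LinearMap.ext fun x => ?_)
        simp only [LinearMap.comp_apply]
        rw [hu_apply, ← hv_apply, h3, hself, hu_apply, hv_apply]
      have e := hcc a b a (u a b a z)
      rw [h1, uveq, h2, show Ψ₃ a b a (u a b a z) = v a a b z from LinearMap.congr_fun e3 z, ← sub_eq_zero, ← map_sub] at e
      exact sub_eq_zero.1 (vinj _ e)
    have Ψ2inj : ∀ a b c q, Ψ₂ a b c q = 0 → q = 0 := by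
      intro a b c q hq
      obtain ⟨⟨m, _, n, rfl⟩, hm⟩ := IsLocalizedModule.surj (Submonoid.powers (f a * f c)) (t b a c) q
      change (f a * f c) ^ n • q = t b a c m at hm
      have hz : v c a b (ψ b c (g b c m)) = 0 := by rw [← h2, hv_apply, ← hm, map_smul, hq, smul_zero]
      obtain ⟨k, hk⟩ := kv c a b _ hz
      rw [← map_smul, LinearEquiv.map_eq_zero_iff] at hk
      have : t b a c m = 0 := cancel (hTu b a c).1 k (by rw [← hv_apply, ← map_smul, hk, map_zero, smul_zero])
      rw [this] at hm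
      exact cancel (IsLocalizedModule.map_units (S := Submonoid.powers (f a * f c)) (t b a c) ⟨_, 1, pow_one _⟩) n (hm.trans (smul_zero _).symm)
    have hg_inv : ∀ j, ∀ x : ↥M, g i j (x.1 i) = ψ j i (g j i (x.1 j)) := fun j x => (hM _).1 x.2 i j
    constructor
    · exact upow (hMi i)
    · intro x
      have hy : ∀ j, ∃ (y : Mi j) (n : ℕ), f i ^ n • ψ i j (g i j x) = g j i y := fun j => sg j i _
      choose y N hN using hy
      let N₀ := Finset.univ.sup N
      let y' : ∀ j, Mi j := fun j => f i ^ (N₀ - N j) • y j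
      have hy' : ∀ j, g j i (y' j) = f i ^ N₀ • ψ i j (g i j x) := fun j => by
        rw [map_smul, ← hN, smul_smul, ← pow_add, Nat.sub_add_cancel (Finset.le_sup (Finset.mem_univ j))]
      have hc : ∀ p : ι × ι, ∃ n, f i ^ n • (g p.1 p.2 (y' p.1) - ψ p.2 p.1 (g p.2 p.1 (y' p.2))) = 0 := by
        rintro ⟨j, k⟩
        refine kv j i k _ (Ψ2inj i j k _ ?_)
        rw [map_sub, map_sub, hv_apply, ← hu_apply, hy', map_smul, map_smul, ← h1, hu_apply, hcc, ← hv_apply i j k, h3,
          h2, hsymm, hv_apply k i j, ← hu_apply k i j, hy', map_smul, sub_self]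
      choose A hA using hc
      let A₀ := Finset.univ.sup A
      let m : ∀ j, Mi j := fun j => f i ^ A₀ • y' j
      have hmM : m ∈ M := (hM m).2 fun j k => by
        have e := congrArg (fun z => f i ^ (A₀ - A (j, k)) • z) (hA (j, k))
        simp only [smul_zero] at e
        rw [smul_smul, ← pow_add, Nat.sub_add_cancel (Finset.le_sup (Finset.mem_univ (j, k))), smul_sub, sub_eq_zero] at e
        simp only [m, map_smul]
        exact e
      refine ⟨⟨⟨m, hmM⟩, ⟨_, A₀ + N₀, rfl⟩⟩, ?_⟩
      show f i ^ (A₀ + N₀) • x = m i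
      refine gi_inj i ?_
      simp only [m, map_smul, hy', hself, smul_smul, pow_add]
    · intro x₁ x₂ h
      have hd : ∀ j, g j i ((x₁ - x₂).1 j) = 0 := fun j => (ψ j i).injective (by
        rw [← hg_inv j (x₁ - x₂), map_zero]
        have : (x₁ - x₂).1 i = 0 := sub_eq_zero.2 h
        rw [this, map_zero])
      choose n hn using fun j => kg j i _ (hd j)
      refine ⟨⟨_, Finset.univ.sup n, rfl⟩, Subtype.ext (funext fun j => sub_eq_zero.1 ?_)⟩
      show f i ^ Finset.univ.sup n • x₁.1 j - f i ^ Finset.univ.sup n • x₂.1 j = 0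
      rw [← smul_sub]
      show f i ^ Finset.univ.sup n • (x₁ - x₂).1 j = 0
      rw [← Nat.sub_add_cancel (Finset.le_sup (f := n) (Finset.mem_univ j)), pow_add, mul_smul, hn j, smul_zero]

end Groth.Agent.S9663
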