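import Groth.Statements.S9665
import Mathlib
import Groth.Prelude.Def_FlatCA
import Groth.Agent.Lib.H2FiberMod

set_option autoImplicit false
universe u
open CAlg

namespace Groth.Agent.S9665
open scoped TensorProduct
open Groth.Agent.H2WeakAss Groth.Agent.H2FiberMod
set_option linter.style.haveILetI false

/-- Part (2): (A_fin ⊆ A): let R → S be a ring map, N an S-module, q a prime of S and p the prime of R
below q; an associated prime of a module is a prime ideal equal to the annihilator of some element.
If q is an associated prime of the S-module N/pN, then q is an associated prime of the S-module N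
⊗_R κ(p) (the fibre module over p, an S-module by restriction of scalars). -/
theorem result {R S : Type u} [CommRing R] [CommRing S] [Algebra R S] (N : Type u) [AddCommGroup N] [Module S N] [Module R N] [IsScalarTower R S N]
    (p : Ideal R) [p.IsPrime] (q : Ideal S) [q.IsPrime] (hq : q.comap (algebraMap R S) = p)
    (h : q ∈ FlatCA.ass S (N ⧸ (p.map (algebraMap R S)) • (⊤ : Submodule S N))) :
    q ∈ FlatCA.ass S (FlatCA.fiberMod p S N) := by
  obtain ⟨hqp, x, hx⟩ := h
  obtain ⟨n, rfl⟩ := Submodule.Quotient.mk_surjective _ x
  refine ⟨hqp, toFib p n, le_antisymm (fun s hs => mem_ann.2 ?_) fun s hs => ?_⟩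
  · rw [← map_smul, toFib_eq_zero_iff]
    refine ⟨1, fun h => (inferInstance : p.IsPrime).ne_top ((Ideal.eq_top_iff_one _).2 h), ?_⟩
    rw [map_one, one_smul, ← Submodule.Quotient.mk_eq_zero, Submodule.Quotient.mk_smul]
    exact mem_ann.1 (hx.le hs)
  · have h1 := mem_ann.1 hs
    rw [← map_smul, toFib_eq_zero_iff] at h1
    obtain ⟨r, hr, hmem⟩ := h1
    have h2 : algebraMap R S r * s ∈ q := hx.ge (mem_ann.2 (by
      rw [← Submodule.Quotient.mk_smul, Submodule.Quotient.mk_eq_zero, mul_smul]; exact hmem))
    exact (hqp.mem_or_mem h2).resolve_left fun h' => hr (hq ▸ h')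

end Groth.Agent.S9665
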