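import Groth.Statements.S9666
import Mathlib
import Groth.Prelude.Def_FlatCA
import Groth.Agent.Lib.H2FiberMod

set_option autoImplicit false
universe u
open CAlg

namespace Groth.Agent.S9666
open scoped TensorProduct
open Groth.Agent.H2WeakAss Groth.Agent.H2FiberMod
set_option linter.style.haveILetI false

/-- Part (3): (A ⊆ A_fin): let R → S be a ring map with S Noetherian, N an S-module, q a prime of S and
p the prime of R below q; an associated prime of a module is a prime ideal equal to the annihilator
of some element. If q is an associated prime of the S-module N ⊗_R κ(p) (the fibre module over p, an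
S-module by restriction of scalars), then q is an associated prime of the S-module N/pN. -/
theorem result {R S : Type u} [CommRing R] [CommRing S] [Algebra R S] (N : Type u) [AddCommGroup N] [Module S N] [Module R N] [IsScalarTower R S N] [IsNoetherianRing S]
    (p : Ideal R) [p.IsPrime] (q : Ideal S) [q.IsPrime] (hq : q.comap (algebraMap R S) = p)
    (h : q ∈ FlatCA.ass S (FlatCA.fiberMod p S N)) :
    q ∈ FlatCA.ass S (N ⧸ (p.map (algebraMap R S)) • (⊤ : Submodule S N)) := by
  classical
  obtain ⟨hqp, x, hx⟩ := h
  obtain ⟨r, hr, n, hn⟩ := exists_smul_eq p x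
  have hx' : q = ann S (toFib (S := S) p n) := by rw [ann_eq_of_smul_eq p hr hn]; exact hx
  obtain ⟨g, hg⟩ := IsNoetherian.noetherian q
  have hk : ∀ a ∈ g, ∃ c ∉ p, algebraMap R S c • a • n ∈ (p.map (algebraMap R S)) • (⊤ : Submodule S N) := fun a ha =>
    (toFib_eq_zero_iff p).1 (by rw [map_smul]; exact mem_ann.1 (hx'.le (hg.le (Submodule.subset_span ha))))
  choose! c hc hcn using hk
  have hP : ∏ a ∈ g, c a ∉ p := fun h' => by
    obtain ⟨a, ha, h''⟩ := Ideal.IsPrime.prod_mem_iff.1 h'
    exact hc a ha h''
  refine ⟨hqp, Submodule.Quotient.mk (algebraMap R S (∏ a ∈ g, c a) • n), le_antisymm ?_ fun s hs => ?_⟩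
  · rw [← hg, Submodule.span_le]
    intro a ha
    refine mem_ann.2 ?_
    rw [← Submodule.Quotient.mk_smul, Submodule.Quotient.mk_eq_zero, smul_comm, ← Finset.prod_erase_mul g c ha, map_mul, mul_smul]
    exact Submodule.smul_mem _ _ (hcn a ha)
  · have h1 := mem_ann.1 hs
    rw [← Submodule.Quotient.mk_smul, Submodule.Quotient.mk_eq_zero, ← mul_smul] at h1
    have h2 : s * algebraMap R S (∏ a ∈ g, c a) ∈ q := by
      refine hx'.ge (mem_ann.2 ?_)
      rw [← map_smul]
      exact (toFib_eq_zero_iff p).2 ⟨1, fun h => (inferInstance : p.IsPrime).ne_top ((Ideal.eq_top_iff_one _).2 h), by rwa [map_one, one_smul]⟩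
    exact (hqp.mem_or_mem h2).resolve_right fun h' => hP (hq ▸ h')

end Groth.Agent.S9666
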