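import Groth.Statements.S9667
import Mathlib
import Groth.Prelude.Def_FlatCA
import Groth.Agent.Lib.H2WeakAss
import Groth.Agent.S9590
import Groth.Agent.S9595

set_option autoImplicit false
universe u
open CAlg

namespace Groth.Agent.S9667
open scoped TensorProduct
open Groth.Agent.H2WeakAss
set_option linter.style.haveILetI false

open TensorProduct in
/-- Part (3): (B = B_fin): let R → S be a ring map with S Noetherian, N an S-module, M an R-module and q
a prime of S; an associated prime of a module is a prime ideal equal to the annihilator of some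
element. If q is an associated prime of the S-module N ⊗_R M, then there is a finitely generated
R-submodule M' ⊆ M such that q is an associated prime of the S-module N ⊗_R M'. -/
theorem result {R S : Type u} [CommRing R] [CommRing S] [Algebra R S] (N : Type u) [AddCommGroup N] [Module S N] [Module R N] [IsScalarTower R S N] [IsNoetherianRing S]
    (M : Type u) [AddCommGroup M] [Module R M] (q : Ideal S) [q.IsPrime] (h : q ∈ FlatCA.ass S (N ⊗[R] M)) :
    ∃ M' : Submodule R M, M'.FG ∧ q ∈ FlatCA.ass S (N ⊗[R] ↥M') := by
  classical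
  obtain ⟨hq, z, hz⟩ := h
  obtain ⟨M', hfin, hM⟩ := TensorProduct.exists_finite_submodule_right_of_setFinite {z} (Set.finite_singleton z)
  obtain ⟨z', hz'⟩ := hM rfl
  obtain ⟨g, hg⟩ := IsNoetherian.noetherian q
  have key : ∀ a ∈ g, ∃ (Q : Submodule R M) (hQ : M' ≤ Q), Q.FG ∧ (Submodule.inclusion hQ).lTensor N (a • z') = 0 := by
    intro a ha
    have h0 : M'.subtype.lTensor N (a • z') = 0 := by
      rw [show M'.subtype.lTensor N (a • z') = a • M'.subtype.lTensor N z' from
        (TensorProduct.AlgebraTensorModule.lTensor S N M'.subtype).map_smul a z', hz']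
      exact mem_ann.1 (hz.le (hg.le (Submodule.subset_span ha)))
    have h1 : M'.subtype.rTensor N (TensorProduct.comm R N M' (a • z')) = 0 := by
      rw [← LinearMap.comm_comp_lTensor_comp_comm_eq]
      simp [h0]
    obtain ⟨Q, hQ, hQfg, hQ0⟩ := TensorProduct.eq_zero_of_fg_of_subtype_eq_zero (Module.Finite.iff_fg.1 hfin) h1
    refine ⟨Q, hQ, hQfg, ?_⟩
    rw [← LinearMap.comm_comp_lTensor_comp_comm_eq] at hQ0
    simpa using hQ0
  choose! Q hQ hQfg hQ0 using key
  let P : Submodule R M := M' ⊔ g.sup Q
  have hP : P.FG := Submodule.FG.sup (Module.Finite.iff_fg.1 hfin) (Submodule.fg_finset_sup g Q hQfg)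
  refine ⟨P, hP, hq, (Submodule.inclusion (le_sup_left : M' ≤ P)).lTensor N z', le_antisymm ?_ ?_⟩
  · rw [← hg]
    refine Submodule.span_le.2 fun a ha => mem_ann.2 ?_
    rw [← show (Submodule.inclusion (le_sup_left : M' ≤ P)).lTensor N (a • z') = a • (Submodule.inclusion (le_sup_left : M' ≤ P)).lTensor N z' from
      (TensorProduct.AlgebraTensorModule.lTensor S N (Submodule.inclusion (le_sup_left : M' ≤ P))).map_smul a z']
    rw [show Submodule.inclusion (le_sup_left : M' ≤ P) = (Submodule.inclusion ((Finset.le_sup ha).trans le_sup_right : Q a ≤ P)) ∘ₗ Submodule.inclusion (hQ a ha) from rfl,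
      LinearMap.lTensor_comp_apply, hQ0 a ha, map_zero]
  · intro s hs
    refine hz.ge (mem_ann.2 ?_)
    have h2 := congrArg (P.subtype.lTensor N) (mem_ann.1 hs)
    rw [map_zero, show P.subtype.lTensor N (s • (Submodule.inclusion (le_sup_left : M' ≤ P)).lTensor N z') = s • P.subtype.lTensor N ((Submodule.inclusion (le_sup_left : M' ≤ P)).lTensor N z') from
      (TensorProduct.AlgebraTensorModule.lTensor S N P.subtype).map_smul s _, ← LinearMap.lTensor_comp_apply, Submodule.subtype_comp_inclusion, hz'] at h2
    exact h2


end Groth.Agent.S9667
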