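import Groth.Statements.S9671
import Mathlib

set_option autoImplicit false
universe u
open CAlg

namespace Groth.Agent.S9671
open DirectSum Polynomial

/-- Let R be a ring and R' an R-algebra of finite type. Then there are an ℕ-graded R-algebra S such that
R → S₀ is bijective and S is generated as an R-algebra by a finite set of degree-1 elements, an
element f ∈ S₁, and a ring isomorphism e between the degree-zero part S_(f) of the localization S_f
and R' which matches r/1 with the image of r in R' for every r ∈ R (so R' is identified with S_(f)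
as an R-algebra). The published statement also produces, from a finite R'-module, a finite graded
S-module whose degree-zero localization at f recovers it; that half is not part of this row. -/
theorem result (R R' : Type u) [CommRing R] [CommRing R'] [Algebra R R'] [Algebra.FiniteType R R'] :
    ∃ (S : Type u) (_ : CommRing S) (_ : Algebra R S) (𝒜 : ℕ → Submodule R S) (_ : GradedAlgebra 𝒜) (f : S) (_ : f ∈ 𝒜 1) (s : Finset S)
      (e : HomogeneousLocalization.Away 𝒜 f ≃+* R'),
      Function.Injective (algebraMap R S) ∧ (∀ x ∈ 𝒜 0, x ∈ Set.range (algebraMap R S)) ∧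
      (↑s ⊆ (𝒜 1 : Set S)) ∧ Algebra.adjoin R (s : Set S) = ⊤ ∧
      ∀ r : R, (e.symm (algebraMap R R' r)).val = algebraMap S (Localization.Away f) (algebraMap R S r) := by
  classical
  obtain ⟨gens, hgens⟩ := ‹Algebra.FiniteType R R'›.out
  let G : Set (R × R'[X]) := (fun a => ((0 : R), C a * X)) '' ((insert 1 gens : Finset R') : Set R')
  let S := Algebra.adjoin R G
  let G' : Set S := (Subtype.val) ⁻¹' G
  let s : Finset S := ((insert 1 gens : Finset R').attach.image fun (a : {y // y ∈ (insert 1 gens : Finset R')}) => (⟨((0 : R), C (a : R') * X), Algebra.subset_adjoin ⟨a, a.2, rfl⟩⟩ : S))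
  let 𝒜 : ℕ → Submodule R S := fun n => Submodule.span R (s : Set S) ^ n
  haveI hgm : SetLike.GradedMonoid 𝒜 :=
    { one_mem := by simp only [𝒜, pow_zero]; exact Submodule.one_le.mp le_rfl
      mul_mem := fun i j a b ha hb => by simp only [𝒜, pow_add]; exact Submodule.mul_mem_mul ha hb }
  let P : ℕ → S → Prop := fun n x => ∃ a : R', (x : R × R'[X]).2 = C a * X ^ n ∧ (0 < n → (x : R × R'[X]).1 = 0) ∧ (n = 0 → a = algebraMap R R' (x : R × R'[X]).1)
  have hP : ∀ n, ∀ x ∈ 𝒜 n, P n x := by
    intro n
    induction n with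
    | zero =>
      intro x hx
      simp only [𝒜, pow_zero] at hx
      obtain ⟨r, rfl⟩ := Submodule.mem_one.mp hx
      exact ⟨algebraMap R R' r, by simp [Prod.algebraMap_apply], by simp, fun _ => by simp [Prod.algebraMap_apply]⟩
    | succ n ih =>
      intro x hx
      simp only [𝒜, pow_succ] at hx
      induction hx using Submodule.mul_induction_on' with
      | mem_mul_mem a ha b hb =>
        obtain ⟨c, hc, -, -⟩ := ih a ha
        have hb' : (b : R × R'[X]).1 = 0 ∧ ∃ d : R', (b : R × R'[X]).2 = C d * X := by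
          induction hb using Submodule.span_induction with
          | mem b hb =>
            simp only [s, Finset.coe_image, Set.mem_image] at hb
            obtain ⟨a, -, rfl⟩ := hb
            exact ⟨rfl, a, rfl⟩
          | zero => exact ⟨rfl, 0, by simp⟩
          | add b b' _ _ h h' =>
            obtain ⟨h1, d, h2⟩ := h; obtain ⟨h1', d', h2'⟩ := h'
            exact ⟨by simp [h1, h1'], d + d', by simp [h2, h2', add_mul]⟩
          | smul r b _ h =>
            obtain ⟨h1, d, h2⟩ := h
            exact ⟨by simp [h1], r • d, by simp [h2, ← Polynomial.smul_C]⟩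
        obtain ⟨h1, d, h2⟩ := hb'
        exact ⟨c * d, by simp [hc, h2, pow_succ]; ring, fun _ => by simp [h1], fun h => absurd h (by omega)⟩
      | add a _ b _ ha hb =>
        obtain ⟨c, hc, hc', -⟩ := ha; obtain ⟨d, hd, hd', -⟩ := hb
        exact ⟨c + d, by simp [hc, hd, add_mul], fun h => by simp [hc' h, hd' h], fun h => absurd h (by omega)⟩
  let φ : ℕ → S →ₗ[R] R × R' := fun n =>
    if n = 0 then (LinearMap.inl R R R').comp ((LinearMap.fst R R R'[X]).comp S.val.toLinearMap)
    else (LinearMap.inr R R R').comp (((lcoeff R' n).restrictScalars R).comp ((LinearMap.snd R R R'[X]).comp S.val.toLinearMap))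
  have hφ0 : ∀ n m, m ≠ n → ∀ x ∈ 𝒜 m, φ n x = 0 := by
    intro n m hmn x hx
    obtain ⟨a, h2, h1, -⟩ := hP m x hx
    simp only [φ]; split_ifs with hn
    · simp [h1 (by omega)]
    · simp [h2, coeff_C_mul, coeff_X_pow, Ne.symm hmn]
  have hφi : ∀ n, ∀ x ∈ 𝒜 n, φ n x = 0 → x = 0 := by
    intro n x hx h
    obtain ⟨a, h2, h1, h0⟩ := hP n x hx
    apply Subtype.ext
    simp only [φ] at h; split_ifs at h with hn
    · simp at h
      exact Prod.ext (by simpa using h) (by simp [h2, h0 hn, h])
    · simp [h2, coeff_C_mul] at h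
      exact Prod.ext (by simpa using h1 (by omega)) (by simp [h2, h])
  have hind : iSupIndep 𝒜 := by
    rw [iSupIndep_def]
    intro n
    rw [disjoint_iff, eq_bot_iff]
    rintro x ⟨hx, hx'⟩
    refine hφi n x hx ?_
    exact (iSup₂_le (fun m hm => fun y hy => hφ0 n m hm y hy) : (⨆ (m) (_ : m ≠ n), 𝒜 m) ≤ LinearMap.ker (φ n)) hx'
  have hs1 : (s : Set S) ⊆ 𝒜 1 := fun x hx => by simp only [𝒜, pow_one]; exact Submodule.subset_span hx
  have hadj : Algebra.adjoin R (s : Set S) = ⊤ := by
    rw [eq_top_iff, ← Algebra.adjoin_adjoin_coe_preimage (R := R) (s := G)]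
    refine Algebra.adjoin_mono ?_
    rintro ⟨x, hx⟩ ⟨a, ha, rfl⟩
    simp only [s, Finset.coe_image, Set.mem_image]
    exact ⟨⟨a, ha⟩, Finset.mem_attach _ _, rfl⟩
  have hsup : iSup 𝒜 = ⊤ := by
    rw [eq_top_iff]
    rintro x -
    have hx : x ∈ Algebra.adjoin R (s : Set S) := by rw [hadj]; trivial
    have h1 : (1 : S) ∈ iSup 𝒜 := Submodule.mem_iSup_of_mem 0 hgm.one_mem
    have hm : iSup 𝒜 * iSup 𝒜 ≤ iSup 𝒜 := by
      simp only [Submodule.iSup_mul, Submodule.mul_iSup]
      exact iSup_le fun i => iSup_le fun j => le_trans (Submodule.mul_le.mpr fun a ha b hb => hgm.mul_mem ha hb) (le_iSup 𝒜 _)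
    exact Algebra.adjoin_le (S := (iSup 𝒜).toSubalgebra h1 (fun a b ha hb => hm (Submodule.mul_mem_mul ha hb)))
      (fun y hy => Submodule.mem_iSup_of_mem 1 (hs1 hy)) hx
  letI : DirectSum.Decomposition 𝒜 := (isInternal_submodule_of_iSupIndep_of_iSup_eq_top hind hsup).chooseDecomposition
  letI : GradedAlgebra 𝒜 := { hgm, (inferInstance : DirectSum.Decomposition 𝒜) with }
  let f : S := ⟨((0 : R), C (1 : R') * X), Algebra.subset_adjoin ⟨1, by simp, rfl⟩⟩
  have hf : f ∈ 𝒜 1 := hs1 (by
    simp only [s, Finset.coe_image, Set.mem_image]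
    exact ⟨⟨1, by simp⟩, Finset.mem_attach _ _, rfl⟩)
  let ψ : S →+* R' := (evalRingHom (1 : R')).comp ((RingHom.snd R R'[X]).comp S.val.toRingHom)
  have hψf : IsUnit (ψ f) := by simp [ψ, f]
  let L : Localization.Away f →+* R' := IsLocalization.Away.lift f hψf
  let θ : HomogeneousLocalization.Away 𝒜 f →+* R' :=
    L.comp (algebraMap (HomogeneousLocalization.Away 𝒜 f) (Localization.Away f))
  have hθ : ∀ n x hx, θ (HomogeneousLocalization.Away.mk 𝒜 hf n x hx) = ψ x := by
    intro n x hx
    show L (HomogeneousLocalization.Away.mk 𝒜 hf n x hx).val = _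
    rw [HomogeneousLocalization.Away.val_mk]
    have h : Localization.mk x (⟨f ^ n, n, rfl⟩ : Submonoid.powers f) * algebraMap S (Localization.Away f) (f ^ n) = algebraMap S _ x := by
      rw [Localization.mk_eq_mk']; exact IsLocalization.mk'_spec (Localization.Away f) x (⟨f ^ n, n, rfl⟩ : Submonoid.powers f)
    have := congrArg L h
    rw [map_mul] at this
    simp only [L, IsLocalization.Away.lift_eq] at this
    simpa [ψ, f, L] using this
  have hinj : Function.Injective θ := by
    rw [injective_iff_map_eq_zero]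
    intro z hz
    obtain ⟨n, x, hx, rfl⟩ := HomogeneousLocalization.Away.mk_surjective 𝒜 hf z
    rw [hθ] at hz
    obtain ⟨a, h2, -, -⟩ := hP _ x hx
    have ha : a = 0 := by simpa [ψ, h2] using hz
    have hfx : f * x = 0 := Subtype.ext (Prod.ext (by simp [f]) (by simp [f, h2, ha]))
    apply HomogeneousLocalization.val_injective
    rw [HomogeneousLocalization.Away.val_mk, HomogeneousLocalization.val_zero, Localization.mk_eq_mk', IsLocalization.mk'_eq_zero_iff]
    exact ⟨⟨f, 1, pow_one f⟩, hfx⟩
  have hval : ∀ r : R, ∃ z : HomogeneousLocalization.Away 𝒜 f, z.val = algebraMap S (Localization.Away f) (algebraMap R S r) ∧ θ z = algebraMap R R' r := by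
    intro r
    have hr : algebraMap R S r ∈ 𝒜 (0 • 1) := by simp only [zero_smul, 𝒜, pow_zero]; exact Submodule.mem_one.mpr ⟨r, rfl⟩
    refine ⟨HomogeneousLocalization.Away.mk 𝒜 hf 0 _ hr, ?_, ?_⟩
    · rw [HomogeneousLocalization.Away.val_mk]
      simp only [pow_zero]
      exact Localization.mk_one_eq_algebraMap _
    · rw [hθ]; simp [ψ, Prod.algebraMap_apply]
  have hsurj : Function.Surjective θ := by
    intro y
    have hy : y ∈ Algebra.adjoin R (gens : Set R') := by rw [hgens]; trivial
    induction hy using Algebra.adjoin_induction with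
    | mem a ha =>
      have hm : (⟨((0 : R), C a * X), Algebra.subset_adjoin ⟨a, Finset.mem_insert_of_mem ha, rfl⟩⟩ : S) ∈ 𝒜 (1 • 1) := by
        rw [one_smul]; apply hs1
        simp only [s, Finset.coe_image, Set.mem_image]
        exact ⟨⟨a, Finset.mem_insert_of_mem ha⟩, Finset.mem_attach _ _, rfl⟩
      exact ⟨HomogeneousLocalization.Away.mk 𝒜 hf 1 _ hm, by rw [hθ]; simp [ψ]⟩
    | algebraMap r => exact ⟨(hval r).choose, (hval r).choose_spec.2⟩
    | add a b _ _ ha hb => obtain ⟨a', rfl⟩ := ha; obtain ⟨b', rfl⟩ := hb; exact ⟨a' + b', map_add θ _ _⟩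
    | mul a b _ _ ha hb => obtain ⟨a', rfl⟩ := ha; obtain ⟨b', rfl⟩ := hb; exact ⟨a' * b', map_mul θ _ _⟩
  refine ⟨S, inferInstance, inferInstance, 𝒜, inferInstance, f, hf, s, RingEquiv.ofBijective θ ⟨hinj, hsurj⟩, ?_, ?_, hs1, hadj, fun r => ?_⟩
  · intro a b h
    have := congrArg (fun x : S => (x : R × R'[X]).1) h
    simpa [Prod.algebraMap_apply] using this
  · intro x hx
    simp only [𝒜, pow_zero] at hx
    obtain ⟨r, rfl⟩ := Submodule.mem_one.mp hx
    exact ⟨r, rfl⟩
  · obtain ⟨z, hz1, hz2⟩ := hval r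
    rw [← hz1]
    congr 1
    rw [RingEquiv.symm_apply_eq]
    exact hz2.symm

end Groth.Agent.S9671
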