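import Groth.Statements.S9681
import Groth.Agent.Lib.H6.BirSpread

set_option autoImplicit false
set_option backward.isDefEq.respectTransparency.types false
set_option maxHeartbeats 1000000
set_option linter.all false
universe u
open CategoryTheory CategoryTheory.Limits AlgebraicGeometry
open Mor

namespace Groth.Agent.S9681
open Groth.Agent

/-- Suppose X and Y are integral S-schemes, each locally of finite type over S, with generic points x
and y. Then X and Y are S-birational (they admit S-isomorphic nonempty opens) if and only if x and y
map to the same point s of S and the residue fields of x and y are isomorphic as extensions of the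
residue field of s. -/
theorem result {S X Y : Scheme.{u}}
    [IsIntegral X] [IsIntegral Y] (sX : X ⟶ S) (sY : Y ⟶ S)
    [LocallyOfFiniteType sX] [LocallyOfFiniteType sY] :
    Scheme.BirationalOver sX sY ↔
      ∃ (hs : sX.base (genericPoint ↥X) = sY.base (genericPoint ↥Y))
        (e : X.residueField (genericPoint ↥X) ≅ Y.residueField (genericPoint ↥Y)),
        sX.residueFieldMap (genericPoint ↥X) ≫ e.hom =
          eqToHom (congrArg S.residueField hs) ≫ sY.residueFieldMap (genericPoint ↥Y) := by
    rw [← H6.BirSpread.residue_cond_iff sX sY]
    refine ⟨H6.BirSpread.stalkCond_of_birationalOver sX sY, fun h => H6.BirSpread.birationalOver_of_stalkCond sX sY h ?_ ?_⟩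
    · exact fun φ hφ => spread_out_of_isGermInjective' sY sX φ hφ
    · exact fun φ hφ => spread_out_of_isGermInjective' sX sY φ hφ

end Groth.Agent.S9681
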