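import Groth.Statements.S9688
import Groth.Agent.Lib.H6.NormField

set_option autoImplicit false
set_option backward.isDefEq.respectTransparency.types false
set_option maxHeartbeats 1000000
open Groth.Agent
set_option linter.all false
universe u
open CategoryTheory CategoryTheory.Limits AlgebraicGeometry
open Mor

namespace Groth.Agent.S9688

/-- Let X be an integral Japanese scheme (every nonempty affine open has Japanese, i.e. N-2, coordinate
ring). Then the normalization morphism X^ν ⟶ X is finite. (The quasi-compactness and
quasi-separatedness binders on Spec K(X) ⟶ X always hold; they are only needed to form the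
normalization.) -/
theorem result (X : Scheme.{u}) [IsIntegral X] [QuasiCompact (X.fromSpecStalk (genericPoint ↥X))] [QuasiSeparated (X.fromSpecStalk (genericPoint ↥X))]
    (hJ : ∀ (U : X.Opens), IsAffineOpen U → ∀ (hne : Nonempty ↥U),
      @CAlg.IsN2 ↑Γ(X, U) _ (@IsIntegral.component_integral X _ U hne)) :
    IsFinite (Curv2.normalizationι X) := by
  refine H6.NormField.isFinite _ fun U hUa hU => ?_
  haveI hne : Nonempty U := ⟨⟨_, hU⟩⟩
  haveI := functionField_isFractionRing_of_isAffineOpen X U hUa
  haveI : IsLocalization (nonZeroDivisors Γ(X, U)) X.functionField := this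
  have key : Module.Finite Γ(X, U) (integralClosure Γ(X, U) X.functionField) := by
    letI : Algebra (FractionRing Γ(X, U)) X.functionField :=
      (IsLocalization.algEquiv (nonZeroDivisors Γ(X, U)) (FractionRing Γ(X, U)) X.functionField).toRingEquiv.toRingHom.toAlgebra
    haveI : IsScalarTower Γ(X, U) (FractionRing Γ(X, U)) X.functionField := IsScalarTower.of_algebraMap_eq fun a =>
      ((IsLocalization.algEquiv (nonZeroDivisors Γ(X, U)) (FractionRing Γ(X, U)) X.functionField).commutes a).symm
    exact hJ U hUa hne X.functionField (Module.Finite.of_surjective (Algebra.linearMap (FractionRing Γ(X, U)) X.functionField)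
      (IsLocalization.algEquiv (nonZeroDivisors Γ(X, U)) (FractionRing Γ(X, U)) X.functionField).surjective)
  rw [H6.NormField.ev_fromSpecStalk (X.fromSpecStalk (genericPoint X)) (RingHom.id X.functionField) (by simp) U hU, RingHom.id_comp]
  exact key

end Groth.Agent.S9688
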