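import Groth.Statements.S9693
-- import your own Groth.Agent.* helpers here

set_option autoImplicit false
set_option backward.isDefEq.respectTransparency.types false
universe u
open CategoryTheory CategoryTheory.Limits AlgebraicGeometry
open Mor

namespace Groth.Agent.S9693

/-- A base change of an H-projective morphism (a closed immersion into some P^n over the base followed
by the projection) is H-projective. -/
theorem result {X S S' : Scheme.{u}} (f : X ⟶ S) (hf : RelProj.IsHProjective f)
    (g : S' ⟶ S) : RelProj.IsHProjective (pullback.snd f g) := by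
  obtain ⟨n, i, hi, hif⟩ := hf
  let t := CohB1.ProjSpace.toSpec n (ULift.{u} ℤ)
  let q : CohB1.ProjSpaceOver n S' ⟶ CohB1.ProjSpaceOver n S :=
    pullback.lift (pullback.fst _ _) (CohB1.ProjSpaceOver.toBase n S' ≫ g) (specULiftZIsTerminal.hom_ext _ _)
  have hs : IsPullback q (CohB1.ProjSpaceOver.toBase n S') (CohB1.ProjSpaceOver.toBase n S) g := by
    refine IsPullback.of_right ?_ (pullback.lift_snd _ _ _) (IsPullback.of_hasPullback t (specULiftZIsTerminal.from S))
    have e : g ≫ specULiftZIsTerminal.from S = specULiftZIsTerminal.from S' := specULiftZIsTerminal.hom_ext _ _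
    erw [pullback.lift_fst]; rw [e]
    exact IsPullback.of_hasPullback t _
  let i' : pullback f g ⟶ CohB1.ProjSpaceOver n S' :=
    hs.lift (pullback.fst f g ≫ i) (pullback.snd f g) (by rw [Category.assoc, hif, pullback.condition])
  have h₁ : i' ≫ q = pullback.fst f g ≫ i := hs.lift_fst _ _ _
  have h₂ : i' ≫ CohB1.ProjSpaceOver.toBase n S' = pullback.snd f g := hs.lift_snd _ _ _
  refine ⟨n, i', ?_, h₂⟩
  have sq : IsPullback i' (pullback.fst f g) q i := by
    refine IsPullback.of_right ?_ h₁ hs.flip
    rw [h₂, hif]
    exact (IsPullback.of_hasPullback f g).flip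
  exact MorphismProperty.of_isPullback (P := @IsClosedImmersion) sq.flip hi

end Groth.Agent.S9693
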