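import Groth.Statements.S9700
import Groth.Agent.Lib.H6.ValDense

set_option autoImplicit false
set_option linter.all false
universe u
open CategoryTheory CategoryTheory.Limits AlgebraicGeometry
open Mor

namespace Groth.Agent.S9700

/-- Let f : X ⟶ S and h : U ⟶ X be quasi-compact with h(U) dense in X. Suppose each valuative square
over f, whose map Spec K ⟶ X factors through h, has a unique diagonal lift. Then f is universally
closed, and f is also separated provided it is quasi-separated. -/
theorem result {U X S : Scheme.{u}} (f : X ⟶ S) (h : U ⟶ X)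
    [QuasiCompact f] [QuasiCompact h] (hd : DenseRange h.base)
    (H : ∀ sq : ValuativeCommSq f, (∃ i : Spec (.of sq.K) ⟶ U, i ≫ h = sq.i₁) →
      Nonempty (Unique sq.commSq.LiftStruct)) :
    UniversallyClosed f ∧ (QuasiSeparated f → IsSeparated f) := by
  have hD : ∀ x : X, ∃ d ∈ Set.range h.base, d ⤳ x := fun x => by
    obtain ⟨u, hu⟩ := H6.SubtrVal.exists_specializes_of_mem_closure_range h (hd x)
    exact ⟨h u, ⟨u, rfl⟩, hu⟩
  have H₁ : ∀ d ∈ Set.range h.base, H6.ValDense.LiftAt f d := by
    rintro _ ⟨u, rfl⟩
    exact (H6.ValDense.atRange_of_squares f h H u).1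
  have H₂ : ∀ d ∈ Set.range h.base, H6.ValDense.UniqAt f d := by
    rintro _ ⟨u, rfl⟩
    exact (H6.ValDense.atRange_of_squares f h H u).2
  exact ⟨UniversallyClosed.of_valuativeCriterion f (H6.ValDense.existence_of_points f _ hD H₁ H₂),
    fun hqs => @H6.ValDense.isSeparated_of_points _ _ f hqs _ hD H₂⟩

end Groth.Agent.S9700
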