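import Groth.Statements.S9701
import Groth.Agent.Lib.H6.NormalExtend2
import Groth.Agent.Lib.H6.DVRPoints

set_option autoImplicit false
set_option linter.all false
set_option backward.isDefEq.respectTransparency.types false
universe u
open CategoryTheory CategoryTheory.Limits AlgebraicGeometry
open Mor

namespace Groth.Agent.S9701

/-- Let p : X ⟶ S and q : Y ⟶ S with q proper, let x be a point of X whose local ring is a valuation
ring, U ⊆ X an open with x in the closure of U, and f : U ⟶ Y a morphism over S. Assume that X is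
Noetherian, or else that X is reduced and has only finitely many irreducible components. Then there
are an open U' of X containing U and x and a morphism f' : U' ⟶ Y over S extending f. -/
theorem result {X Y S : Scheme.{u}} (p : X ⟶ S) (q : Y ⟶ S)
    [IsProper q] (x : X) (U : X.Opens) (f : (U : Scheme.{u}) ⟶ Y) (hf : f ≫ q = U.ι ≫ p)
    (hx : x ∈ closure (U : Set ↥X))
    (hX : (IsReduced X ∧ (irreducibleComponents ↥X).Finite) ∨ IsNoetherian X)
    (hdom : IsDomain (X.presheaf.stalk x)) (hval : @ValuationRing (X.presheaf.stalk x) _ hdom) :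
    ∃ (U' : X.Opens) (hUU' : U ≤ U'), x ∈ U' ∧
      ∃ f' : (U' : Scheme.{u}) ⟶ Y, f' ≫ q = U'.ι ≫ p ∧ X.homOfLE hUU' ≫ f' = f := by
  haveI := hdom
  haveI := hval
  by_cases hxU : x ∈ U
  · exact ⟨U, le_rfl, hxU, f, hf, by simp⟩
  have hfin : (irreducibleComponents ↥X).Finite := by
    rcases hX with h | h
    · exact h.2
    · haveI := h
      haveI : TopologicalSpace.NoetherianSpace X := IsNoetherian.noetherianSpace
      exact TopologicalSpace.NoetherianSpace.finite_irreducibleComponents
  obtain ⟨W, hxW, hW, hWi⟩ : ∃ W : X.Opens, x ∈ W ∧ IsAffineOpen W ∧ IsIntegral (W : Scheme.{u}) := by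
    rcases hX with h | h
    · haveI := h.1
      -- all components through `x` contain the image of the generic point of the stalk
      let ξ := H6.NormalExtend.jK x (IsLocalRing.closedPoint _)
      have hone : ∀ Z ∈ irreducibleComponents (X : Type u), x ∈ Z → Z = closure {ξ} := by
        intro Z hZ hxZ
        obtain ⟨η, hη⟩ := QuasiSober.sober hZ.1 (isClosed_of_mem_irreducibleComponents Z hZ)
        have h1 : ξ ⤳ η := H6.NormalExtend.jK_closedPoint_specializes x η (hη.specializes hxZ)
        have h2 : Z ⊆ closure {ξ} := by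
          rw [← hη.def]
          exact closure_minimal (Set.singleton_subset_iff.2 (specializes_iff_mem_closure.1 h1)) isClosed_closure
        exact (h2.antisymm (hZ.2 isIrreducible_singleton.closure h2))
      let O : X.Opens := ⟨(⋃ Z ∈ {Z | Z ∈ irreducibleComponents (X : Type u) ∧ x ∉ Z}, Z)ᶜ,
        ((hfin.subset fun Z hZ => hZ.1).isClosed_biUnion fun Z hZ => isClosed_of_mem_irreducibleComponents Z hZ.1).isOpen_compl⟩
      have hxO : x ∈ O := by
        intro h
        obtain ⟨Z, hZ, hxZ⟩ := Set.mem_iUnion₂.1 h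
        exact hZ.2 hxZ
      obtain ⟨W, hW, hxW, hWO⟩ := exists_isAffineOpen_mem_and_subset (X := X) (x := x) (U := O) hxO
      refine ⟨W, hxW, hW, ?_⟩
      haveI : Nonempty W := ⟨⟨x, hxW⟩⟩
      haveI : IsReduced (W : Scheme.{u}) := isReduced_of_isOpenImmersion W.ι
      have hξW : ξ ∈ W := (H6.NormalExtend.jK_specializes x).mem_open W.2 hxW
      haveI : IrreducibleSpace (W : Scheme.{u}) := by
        let ξW : (W : Scheme.{u}) := ⟨ξ, hξW⟩
        have hgen : closure ({ξW} : Set (W : Scheme.{u})) = Set.univ := Set.eq_univ_of_forall fun p => specializes_iff_mem_closure.1 ?_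
        · refine { isPreirreducible_univ := ?_, toNonempty := ⟨ξW⟩ }
          rw [← hgen]
          exact isIrreducible_singleton.closure.2
        refine (W.ι.isOpenEmbedding.isInducing.specializes_iff).1 ?_
        obtain ⟨Z, hZ, hpZ⟩ : ∃ Z ∈ irreducibleComponents (X : Type u), p.1 ∈ Z :=
          ⟨irreducibleComponent p.1, irreducibleComponent_mem_irreducibleComponents _, mem_irreducibleComponent⟩
        have hxZ : x ∈ Z := by
          by_contra hn
          exact hWO p.2 (Set.mem_biUnion ⟨hZ, hn⟩ hpZ)
        exact specializes_iff_mem_closure.2 (hone Z hZ hxZ ▸ hpZ)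
      exact isIntegral_of_irreducibleSpace_of_isReduced _
    · haveI := h
      exact H6.NormalExtend.exists_integral_nhd x
  have hjU : Set.range (H6.NormalExtend.jK x) ⊆ U := by
    rintro _ ⟨a, rfl⟩
    obtain ⟨p, hpW, hpU⟩ := mem_closure_iff.1 hx W W.2 hxW
    rw [Subsingleton.elim (α := PrimeSpectrum (FractionRing (X.presheaf.stalk x))) a (IsLocalRing.closedPoint _),
      ← H6.NormalExtend.genericPoint_eq x W hxW]
    exact (Specializes.map ((genericPoint_spec W).specializes (y := ⟨p, hpW⟩) trivial) W.ι.continuous).mem_open U.2 hpU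
  let P := pullback p q
  let π : P ⟶ X := pullback.fst p q
  let s : (U : Scheme.{u}) ⟶ P := pullback.lift U.ι f hf.symm
  have hs : s ≫ π = U.ι := pullback.lift_fst _ _ _
  obtain ⟨l, hl1, hl2⟩ := H6.DVRPoints.exists_lift_frac π (X.presheaf.stalk x) (H6.NormalExtend.gK x U s hjU) (X.fromSpecStalk x)
    (H6.NormalExtend.gK_comp x π U s hs hjU)
  have hcl : π (l (IsLocalRing.closedPoint (X.presheaf.stalk x))) = x :=
    (congrArg (fun k => k (IsLocalRing.closedPoint (X.presheaf.stalk x))) hl2).trans Scheme.fromSpecStalk_closedPoint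
  obtain ⟨V, hV, hlV, hVW⟩ := exists_isAffineOpen_mem_and_subset (X := P) (x := l (IsLocalRing.closedPoint (X.presheaf.stalk x)))
    (U := π ⁻¹ᵁ W) (show π (l _) ∈ W by rw [hcl]; exact hxW)
  obtain ⟨β, hβ⟩ := H6.DVRVal.exists_factor hV l (H6.DVRVal.mem_of_closed l hlV)
  obtain ⟨U', hUU', hxU', h', hq', hres, -⟩ := H6.NormalExtend.exists_extension' x π U s hs hjU W hxW hW hV β
    (by rw [hβ, hl2]) (by rw [Spec.map_comp, Category.assoc, hβ]; exact hl1) (Or.inl inferInstance)
  refine ⟨U', hUU', hxU', h' ≫ pullback.snd p q, ?_, ?_⟩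
  · rw [Category.assoc, ← pullback.condition, ← Category.assoc, hq']
  · rw [reassoc_of% hres, pullback.lift_snd]

end Groth.Agent.S9701
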