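import Groth.Statements.S9702
import Groth.Agent.Lib.H6.GenFinFF

set_option autoImplicit false
set_option backward.isDefEq.respectTransparency.types false
set_option maxHeartbeats 1000000
set_option linter.all false
universe u
open CategoryTheory CategoryTheory.Limits AlgebraicGeometry
open Mor

namespace Groth.Agent.S9702
open Groth.Agent

/-- Let X, Y be integral and f : X ⟶ Y dominant and locally of finite type, with ξ the generic point of
X (so f ξ is the generic point of Y). Then the following are equivalent: the residue field of ξ is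
finite over that of f ξ; some nonempty affine opens U ⊆ X and V ⊆ Y with f(U) ⊆ V have U ⟶ V finite;
every point of X that f sends to the generic point of Y equals ξ. Under the extra assumption that f
is quasi-compact or separated, these are also equivalent to: f⁻¹(V) ⟶ V is finite for some nonempty
affine open V ⊆ Y. (The published statement also lists transcendence degree 0 of the function field
extension, which for this finitely generated extension is equivalent to finiteness; this row omits
it.) -/
theorem result {X Y : Scheme.{u}} [IsIntegral X] [IsIntegral Y] (f : X ⟶ Y)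
    [IsDominant f] [LocallyOfFiniteType f] :
    let ξ := genericPoint ↥X
    let A := letI := (f.residueFieldMap ξ).hom.toAlgebra
      Module.Finite (Y.residueField (f.base ξ)) (X.residueField ξ)
    let B := ∃ (U : X.Opens) (V : Y.Opens) (hUV : U ≤ f ⁻¹ᵁ V), IsAffineOpen U ∧ IsAffineOpen V ∧
      Nonempty ↥U ∧ IsFinite (f.resLE V U hUV)
    let C := ∀ x : X, f.base x = genericPoint ↥Y → x = ξ
    let D := ∃ V : Y.Opens, IsAffineOpen V ∧ Nonempty ↥V ∧ IsFinite (f ∣_ V)
    (A ↔ B) ∧ (A ↔ C) ∧ (IsSeparated f ∨ QuasiCompact f → (A ↔ D)) := by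
    intro ξ A B C D
    have hiff : ∀ (U : X.Opens) (V : Y.Opens) (hUV : U ≤ f ⁻¹ᵁ V), IsAffineOpen U → IsAffineOpen V →
        (IsFinite (f.resLE V U hUV) ↔ (f.appLE V U hUV).hom.Finite) := by
      intro U V hUV hU hV
      haveI : IsAffine (U : Scheme.{u}) := hU
      haveI : IsAffine (V : Scheme.{u}) := hV
      rw [HasAffineProperty.iff_of_isAffine (P := @IsFinite), and_iff_right (show IsAffine (U : Scheme.{u}) from hU),
        RingHom.finite_respectsIso.arrow_mk_iso_iff (arrowResLEAppIso f V U hUV)]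
    have hAC : A → C := fun h => H6.GenFinFF.condC_of_condA f h
    have hCB : C → B := fun h => by
      obtain ⟨W, hW, hηW, -⟩ := exists_isAffineOpen_mem_and_subset (X := Y) (x := genericPoint Y) (U := ⊤) trivial
      obtain ⟨U, V, hUV, hU, hV, hξU, -, hfin⟩ := H6.GenFinFF.exists_piece f h hW hηW
      exact ⟨U, V, hUV, hU, hV, ⟨⟨_, hξU⟩⟩, (hiff U V hUV hU hV).2 hfin⟩
    have hBA : B → A := fun ⟨U, V, hUV, hU, hV, ⟨⟨z, hz⟩⟩, hfin⟩ =>
      H6.GenFinFF.condA_of_finite f hU hUV (((genericPoint_spec X).specializes trivial).mem_open U.2 hz) ((hiff U V hUV hU hV).1 hfin)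
    refine ⟨⟨fun h => hCB (hAC h), hBA⟩, ⟨hAC, fun h => hBA (hCB h)⟩, fun hf => ⟨fun h => ?_, ?_⟩⟩
    · have hC := hAC h
      obtain ⟨W, hW, hηW, -⟩ := exists_isAffineOpen_mem_and_subset (X := Y) (x := genericPoint Y) (U := ⊤) trivial
      rcases hf with hsep | hqc
      · haveI := hsep
        obtain ⟨U, V, hUV, hU, hV, hξU, hηV, hfin⟩ := H6.GenFinFF.exists_piece f hC hW hηW
        haveI : IsFinite (f.resLE V U hUV) := (hiff U V hUV hU hV).2 hfin
        haveI : IsSeparated (f ∣_ V) := IsZariskiLocalAtTarget.restrict hsep V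
        have e : X.homOfLE hUV ≫ (f ∣_ V) = f.resLE V U hUV := by
          rw [← cancel_mono V.ι, Category.assoc, morphismRestrict_ι, Scheme.Hom.resLE_comp_ι, ← Category.assoc, Scheme.homOfLE_ι]
        haveI : IsProper (X.homOfLE hUV ≫ (f ∣_ V)) := by rw [e]; infer_instance
        haveI : IsProper (X.homOfLE hUV) := IsProper.of_comp _ (f ∣_ V)
        have hle : f ⁻¹ᵁ V ≤ U := by
          intro w hw
          have hcl := (X.homOfLE hUV).isClosedMap.isClosed_range
          have hξ' : (⟨genericPoint X, hUV hξU⟩ : ((f ⁻¹ᵁ V : X.Opens) : Scheme.{u})) ∈ Set.range (X.homOfLE hUV) :=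
            ⟨⟨genericPoint X, hξU⟩, Subtype.ext (by rw [Scheme.homOfLE_apply])⟩
          obtain ⟨p, hp⟩ := (show (⟨genericPoint X, hUV hξU⟩ : ((f ⁻¹ᵁ V : X.Opens) : Scheme.{u})) ⤳ ⟨w, hw⟩ from
            (f ⁻¹ᵁ V).ι.isOpenEmbedding.isInducing.specializes_iff.1 ((genericPoint_spec X).specializes trivial)).mem_closed hcl hξ'
          have h2 := congrArg Subtype.val hp
          rw [Scheme.homOfLE_apply] at h2
          exact (show p.1 = w from h2) ▸ p.2
        obtain rfl : U = f ⁻¹ᵁ V := le_antisymm hUV hle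
        refine ⟨V, hV, ⟨⟨_, hηV⟩⟩, ?_⟩
        rw [← Scheme.Hom.resLE_eq_morphismRestrict]
        assumption
      · haveI := hqc
        obtain ⟨V, hV, hηV, hfin⟩ := H6.GenFinite.exists_finite_generic f hW hηW H6.GenFinFF.mem_genericPoints
          (by rw [irreducibleComponents_eq_singleton]; exact Set.finite_singleton _)
          (fun x hx => hC x hx ▸ H6.GenFinFF.mem_genericPoints)
        exact ⟨V, hV, ⟨⟨_, hηV⟩⟩, hfin⟩
    · rintro ⟨V, hV, ⟨⟨v, hv⟩⟩, hfin⟩
      haveI := hfin
      haveI : IsAffine (V : Scheme.{u}) := hV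
      have hU : IsAffineOpen (f ⁻¹ᵁ V) := isAffine_of_isAffineHom (f ∣_ V)
      refine hBA ⟨f ⁻¹ᵁ V, V, le_rfl, hU, hV, ⟨⟨genericPoint X, ?_⟩⟩, ?_⟩
      · show f (genericPoint X) ∈ V
        rw [H6.GenFinFF.map_generic f]
        exact ((genericPoint_spec Y).specializes trivial).mem_open V.2 hv
      · rw [Scheme.Hom.resLE_eq_morphismRestrict]; exact hfin

end Groth.Agent.S9702
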