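import Groth.Statements.S9714
import Groth.Agent.Lib.AlgSpLocal

set_option autoImplicit false
universe u
open CategoryTheory CategoryTheory.Limits AlgebraicGeometry
open Mor

namespace Groth.Agent.S9714

/-- Let k be a field and X a scheme over k. The structure morphism X ⟶ Spec k is unramified (formally
unramified and locally of finite type) if and only if X is isomorphic over k to a disjoint union of
spectra of finite separable field extensions of k. -/
theorem result (k : Type u) [Field k] {X : Scheme.{u}}
    (f : X ⟶ Spec (CommRingCat.of k)) :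
    (FormallyUnramified f ∧ LocallyOfFiniteType f) ↔
      ∃ (ι : Type u) (K : ι → Type u) (_ : ∀ i, Field (K i)) (_ : ∀ i, Algebra k (K i)),
        (∀ i, FiniteDimensional k (K i) ∧ Algebra.IsSeparable k (K i)) ∧
        ∃ e : X ≅ ∐ (fun i => Spec (CommRingCat.of (K i))),
          e.hom ≫ Sigma.desc (fun i => Spec.map (CommRingCat.ofHom (algebraMap k (K i)))) = f := by
  constructor
  · rintro ⟨hfu, hlft⟩
    haveI : Flat f := by
      rw [IsZariskiLocalAtSource.iff_of_openCover (P := @Flat) X.affineCover]
      intro i
      obtain ⟨φ, hφ⟩ : ∃ φ, Spec.map φ = X.affineCover.f i ≫ f := ⟨_, Spec.map_preimage _⟩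
      rw [← hφ]
      refine (Flat.SpecMap_iff (f := φ)).mpr ?_
      algebraize [φ.hom]
      exact @Module.Flat.of_free _ _ _ _ _ (Module.Free.of_divisionRing k _)
    haveI : LocallyOfFinitePresentation f := by
      rw [IsZariskiLocalAtSource.iff_of_openCover (P := @LocallyOfFinitePresentation) X.affineCover]
      intro i
      obtain ⟨φ, hφ⟩ : ∃ φ, Spec.map φ = X.affineCover.f i ≫ f := ⟨_, Spec.map_preimage _⟩
      have h1 : LocallyOfFiniteType (Spec.map φ) := hφ ▸ IsZariskiLocalAtSource.comp (P := @LocallyOfFiniteType) hlft (X.affineCover.f i)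
      rw [← hφ]
      exact (HasRingHomProperty.Spec_iff (P := @LocallyOfFinitePresentation)).mpr
        (RingHom.FinitePresentation.of_finiteType.mp ((HasRingHomProperty.Spec_iff (P := @LocallyOfFiniteType)).mp h1))
    haveI hE : Etale f := Etale.of_formallyUnramified_of_flat f
    haveI : LocallyQuasiFinite f := Agent.ASp.locallyQuasiFinite_of_etale f
    haveI : DiscreteTopology X := by
      rw [← isDiscrete_univ_iff]
      convert f.isDiscrete_preimage_singleton (IsLocalRing.closedPoint k)
      exact (Set.eq_univ_of_forall fun x => Subsingleton.elim (α := PrimeSpectrum k) (f x) _).symm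
    choose ψ hψ using fun x : X => (⟨_, Spec.map_preimage (X.fromSpecResidueField x ≫ f)⟩ :
      ∃ ψ, Spec.map ψ = X.fromSpecResidueField x ≫ f)
    letI := fun x : X => (ψ x).hom.toAlgebra
    have hcl : ∀ x : X, IsClosedImmersion (X.fromSpecResidueField x) := fun x =>
      isClosed_singleton_iff_isClosedImmersion.mp (isClosed_discrete _)
    have hK : ∀ x : X, FiniteDimensional k (X.residueField x) ∧ Algebra.IsSeparable k (X.residueField x) := by
      intro x
      haveI := hcl x
      haveI : LocallyOfFiniteType (Spec.map (ψ x)) := hψ x ▸ inferInstance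
      haveI : FormallyUnramified (Spec.map (ψ x)) := hψ x ▸ MorphismProperty.comp_mem @FormallyUnramified _ _ inferInstance hfu
      have h1 : (ψ x).hom.FiniteType := (HasRingHomProperty.Spec_iff (P := @LocallyOfFiniteType)).mp inferInstance
      have h2 : (ψ x).hom.FormallyUnramified := (HasRingHomProperty.Spec_iff (P := @FormallyUnramified)).mp inferInstance
      haveI : Algebra.FiniteType k (X.residueField x) := h1
      haveI : Algebra.FormallyUnramified k (X.residueField x) := RingHom.formallyUnramified_algebraMap.mp h2
      exact ⟨Algebra.FormallyUnramified.finite_of_free k _, Algebra.FormallyUnramified.isSeparable k _⟩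
    have hop : ∀ x : X, IsOpenImmersion (X.fromSpecResidueField x) := by
      intro x
      haveI := hcl x
      haveI : Etale (X.fromSpecResidueField x ≫ f) := by
        rw [← hψ x, HasRingHomProperty.Spec_iff (P := @Etale)]
        haveI := (hK x).1
        haveI := (hK x).2
        exact RingHom.etale_algebraMap.mpr { formallyEtale := Algebra.FormallyEtale.of_isSeparable _ _, finitePresentation := Algebra.FinitePresentation.of_finiteType.mp inferInstance }
      haveI := Etale.of_comp (X.fromSpecResidueField x) f
      exact IsOpenImmersion.of_flat_of_mono _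
    refine ⟨X, fun x => X.residueField x, fun x => inferInstance, fun x => (ψ x).hom.toAlgebra, hK, ?_⟩
    let c : (∐ fun x : X => Spec (X.residueField x)) ⟶ X := Sigma.desc fun x => X.fromSpecResidueField x
    haveI : IsOpenImmersion c := isOpenImmersion_sigmaDesc _ _ fun x y hxy => by
      simp only [Function.onFun, Scheme.range_fromSpecResidueField]
      simpa using hxy
    haveI : Surjective c := ⟨fun x => by
      obtain ⟨z, hz⟩ : x ∈ Set.range (X.fromSpecResidueField x) := by rw [Scheme.range_fromSpecResidueField]; rfl
      refine ⟨Sigma.ι (fun x : X => Spec (X.residueField x)) x z, ?_⟩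
      rw [← Scheme.Hom.comp_apply, Sigma.ι_desc, hz]⟩
    haveI : IsIso c := (isIso_iff_isOpenImmersion_and_surjective c).mpr ⟨inferInstance, inferInstance⟩
    refine ⟨(asIso c).symm, ?_⟩
    rw [Iso.symm_hom, Iso.inv_comp_eq]
    refine Sigma.hom_ext _ _ fun x => ?_
    simp only [asIso_hom, c, Sigma.ι_desc, Sigma.ι_desc_assoc]
    exact hψ x
  · rintro ⟨ι, K, _, _, hK, e, he⟩
    rw [← he, MorphismProperty.cancel_left_of_respectsIso (P := @FormallyUnramified),
      MorphismProperty.cancel_left_of_respectsIso (P := @LocallyOfFiniteType),
      IsZariskiLocalAtSource.iff_of_openCover (P := @FormallyUnramified) (sigmaOpenCover _),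
      IsZariskiLocalAtSource.iff_of_openCover (P := @LocallyOfFiniteType) (sigmaOpenCover _)]
    refine ⟨fun i => ?_, fun i => ?_⟩
    · haveI := (hK i).2
      haveI := (hK i).1
      show FormallyUnramified (Sigma.ι (fun i => Spec (CommRingCat.of (K i))) i ≫ _)
      rw [Sigma.ι_desc, HasRingHomProperty.Spec_iff (P := @FormallyUnramified)]
      exact RingHom.formallyUnramified_algebraMap.mpr (Algebra.FormallyUnramified.of_isSeparable _ _)
    · haveI := (hK i).1
      show LocallyOfFiniteType (Sigma.ι (fun i => Spec (CommRingCat.of (K i))) i ≫ _)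
      rw [Sigma.ι_desc, HasRingHomProperty.Spec_iff (P := @LocallyOfFiniteType)]
      exact RingHom.finiteType_algebraMap.mpr inferInstance

end Groth.Agent.S9714
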