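import Groth.Statements.S9716
import Groth.Agent.Lib.H6.ProjQCoh
import Groth.Agent.Lib.LSerre
import Groth.Agent.Lib.LQcqs

set_option autoImplicit false
set_option backward.isDefEq.respectTransparency.types false
set_option maxHeartbeats 1000000
set_option linter.all false
universe u
open CategoryTheory AlgebraicGeometry
open Mor

namespace Groth.Agent.S9716
open Groth.Agent

/-- (1) ⇔ (2): a morphism f : X ⟶ S is affine with direct image f_*O_X a finite locally free O_S-module
(locally on S isomorphic to a finite direct sum of copies of the structure sheaf, of possibly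
varying rank) if and only if f is finite, flat and locally of finite presentation. -/
theorem result {X S : Scheme.{u}} (f : X ⟶ S) :
    (IsAffineHom f ∧ FlatMod.IsFinLocFree ((Scheme.Modules.pushforward f).obj (Coh.structureModule X))) ↔
      Mor2.IsFinLocFree f := by
    constructor
    · rintro ⟨hA, hF⟩
      haveI : (Coh.structureModule X).IsQuasicoherent := LSerre.isQuasicoherent_structureModule X
      haveI : ((Scheme.Modules.pushforward f).obj (Coh.structureModule X)).IsQuasicoherent := LQcoh.isQuasicoherent_push f _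
      let P := (Scheme.Modules.pushforward f).obj (Coh.structureModule X)
      have key : ∀ (V : S.Opens), IsAffineOpen V → (f.app V).hom.Finite ∧ (f.app V).hom.Flat ∧ (f.app V).hom.FinitePresentation := by
        intro V hV
        obtain ⟨e⟩ := H6.PullDesc.nonempty_tildeIso P hV
        have h1 := H7FinFree.finLocFree_of_iso e (H7PerfPull.finLocFree_pullback hV.fromSpec hF)
        haveI := H6.PullDesc.finitePresentation_of_finLocFree_tilde _ h1
        haveI : Module.Flat Γ(S, V) (H6.PullDesc.secMod P hV) :=
          H7TildeAmp.flat_of_tilde (A := Γ(S, V)) (H6.PullDesc.secMod P hV) (H7PerfPull.flat_of_finLocFree h1)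
        obtain ⟨e'⟩ := H6.ProjQCoh.nonempty_secEquiv P hV
        letI := (f.app V).hom.toAlgebra
        let e'' : Γ(P, V) ≃ₗ[Γ(S, V)] Γ(X, f ⁻¹ᵁ V) :=
          { toFun := fun s => @id Γ(X, f ⁻¹ᵁ V) s
            invFun := fun s => @id Γ(P, V) s
            map_add' := fun _ _ => rfl
            map_smul' := fun _ _ => rfl
            left_inv := fun _ => rfl
            right_inv := fun _ => rfl }
        haveI : Module.FinitePresentation Γ(S, V) Γ(X, f ⁻¹ᵁ V) := Module.finitePresentation_of_surjective (e'.trans e'').toLinearMap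
          (e'.trans e'').surjective (by rw [LinearEquiv.ker]; exact Submodule.fg_bot)
        exact ⟨(inferInstance : Module.Finite Γ(S, V) Γ(X, f ⁻¹ᵁ V)), Module.Flat.of_linearEquiv (e'.trans e'').symm,
          Algebra.FinitePresentation.of_finitePresentation Γ(S, V) Γ(X, f ⁻¹ᵁ V)⟩
      refine ⟨⟨fun V hV => (key V hV).1⟩, ?_, ?_⟩
      · rw [HasRingHomProperty.iff_exists_appLE (P := @Flat) (RingHom.Flat.stableUnderComposition.stableUnderCompositionWithLocalizationAway RingHom.Flat.holdsForLocalizationAway).left]
        intro x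
        obtain ⟨V, hV, hxV, -⟩ := exists_isAffineOpen_mem_and_subset (X := S) (x := f x) (U := ⊤) trivial
        exact ⟨⟨V, hV⟩, ⟨f ⁻¹ᵁ V, hV.preimage f⟩, hxV, le_rfl, by rw [← Scheme.Hom.app_eq_appLE]; exact (key V hV).2.1⟩
      · rw [HasRingHomProperty.iff_exists_appLE (P := @LocallyOfFinitePresentation) (RingHom.finitePresentation_stableUnderComposition.stableUnderCompositionWithLocalizationAway RingHom.finitePresentation_holdsForLocalizationAway).left]
        intro x
        obtain ⟨V, hV, hxV, -⟩ := exists_isAffineOpen_mem_and_subset (X := S) (x := f x) (U := ⊤) trivial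
        exact ⟨⟨V, hV⟩, ⟨f ⁻¹ᵁ V, hV.preimage f⟩, hxV, le_rfl, by rw [← Scheme.Hom.app_eq_appLE]; exact (key V hV).2.2⟩
    · rintro ⟨hfin, hflat, hfp⟩
      haveI := hfin
      refine ⟨inferInstance, ?_⟩
      haveI : (Coh.structureModule X).IsQuasicoherent := LSerre.isQuasicoherent_structureModule X
      haveI : ((Scheme.Modules.pushforward f).obj (Coh.structureModule X)).IsQuasicoherent := LQcoh.isQuasicoherent_push f _
      let P := (Scheme.Modules.pushforward f).obj (Coh.structureModule X)
      refine H7LocFreeLocus.finLocFree_local fun x => ?_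
      obtain ⟨V, hV, hxV, -⟩ := exists_isAffineOpen_mem_and_subset (X := S) (x := x) (U := ⊤) trivial
      refine ⟨Spec Γ(S, V), hV.fromSpec, inferInstance, by rw [hV.range_fromSpec]; exact hxV, ?_⟩
      letI := (f.app V).hom.toAlgebra
      haveI : Module.Finite Γ(S, V) Γ(X, f ⁻¹ᵁ V) := IsFinite.finite_app (f := f) V hV
      haveI : Module.Flat Γ(S, V) Γ(X, f ⁻¹ᵁ V) := (by
        have := HasRingHomProperty.appLE (P := @Flat) f hflat ⟨V, hV⟩ ⟨f ⁻¹ᵁ V, hV.preimage f⟩ le_rfl
        rwa [← Scheme.Hom.app_eq_appLE] at this)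
      haveI : Algebra.FinitePresentation Γ(S, V) Γ(X, f ⁻¹ᵁ V) := (by
        have := HasRingHomProperty.appLE (P := @LocallyOfFinitePresentation) f hfp ⟨V, hV⟩ ⟨f ⁻¹ᵁ V, hV.preimage f⟩ le_rfl
        rwa [← Scheme.Hom.app_eq_appLE] at this)
      haveI := Module.FinitePresentation.of_finite_of_finitePresentation Γ(S, V) Γ(X, f ⁻¹ᵁ V)
      haveI : Module.Projective Γ(S, V) Γ(X, f ⁻¹ᵁ V) := Module.Flat.projective_of_finitePresentation
      let e'' : Γ(X, f ⁻¹ᵁ V) ≃ₗ[Γ(S, V)] Γ(P, V) :=
        { toFun := fun s => @id Γ(P, V) s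
          invFun := fun s => @id Γ(X, f ⁻¹ᵁ V) s
          map_add' := fun _ _ => rfl
          map_smul' := fun _ _ => rfl
          left_inv := fun _ => rfl
          right_inv := fun _ => rfl }
      obtain ⟨e'⟩ := H6.ProjQCoh.nonempty_secEquiv P hV
      haveI : Module.Finite Γ(S, V) (H6.PullDesc.secMod P hV) := Module.Finite.equiv (e''.trans e'.symm)
      haveI : Module.Projective Γ(S, V) (H6.PullDesc.secMod P hV) := Module.Projective.of_equiv' (e''.trans e'.symm)
      obtain ⟨e⟩ := H6.PullDesc.nonempty_tildeIso P hV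
      exact H7FinFree.finLocFree_of_iso e.symm (H7TildePerf.finLocFree_tilde (R := Γ(S, V)) _)

end Groth.Agent.S9716
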