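import Groth.Statements.S9720
import Groth.Agent.S9697

set_option autoImplicit false
universe u
open CategoryTheory CategoryTheory.Limits AlgebraicGeometry
open Mor

namespace Groth.Agent.S9720

/-- Let f : X ⟶ S be locally of finite type such that for every point s of S the fibre X_s is isomorphic
over κ(s) to a coproduct of schemes Spec K_i, each K_i a finite separable extension field of κ(s).
In that case f is formally unramified (so unramified, being locally of finite type). -/
theorem result {X S : Scheme.{u}} (f : X ⟶ S) [LocallyOfFiniteType f]
    (H : ∀ s : S, ∃ (ι : Type u) (K : ι → Type u) (_ : ∀ i, Field (K i))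
      (_ : ∀ i, Algebra (S.residueField s) (K i)),
      (∀ i, FiniteDimensional (S.residueField s) (K i) ∧ Algebra.IsSeparable (S.residueField s) (K i)) ∧
        ∃ e : f.fiber s ≅ ∐ (fun i => Spec (CommRingCat.of (K i))),
          e.hom ≫ Sigma.desc (fun i => Spec.map (CommRingCat.ofHom (algebraMap (S.residueField s) (K i)))) =
            f.fiberToSpecResidueField s) :
    FormallyUnramified f := by
  have hU : ∀ x : X, ∃ U : X.Opens, x ∈ U ∧ FormallyUnramified (U.ι ≫ f) := by
    intro x
    obtain ⟨ι, K, _, _, hK, e, he⟩ := H (f x)
    have hfib : FormallyUnramified (f.fiberToSpecResidueField (f x)) := by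
      rw [← he, MorphismProperty.cancel_left_of_respectsIso (P := @FormallyUnramified),
        IsZariskiLocalAtSource.iff_of_openCover (P := @FormallyUnramified) (sigmaOpenCover _)]
      intro i
      haveI := (hK i).2
      haveI := (hK i).1
      haveI : Algebra.FormallyUnramified (S.residueField (f x)) (K i) :=
        Algebra.FormallyUnramified.of_isSeparable _ _
      show FormallyUnramified (Sigma.ι (fun i => Spec (CommRingCat.of (K i))) i ≫ _)
      rw [Sigma.ι_desc]
      rw [HasRingHomProperty.Spec_iff (P := @FormallyUnramified)]
      exact RingHom.formallyUnramified_algebraMap.mpr inferInstance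
    obtain ⟨U, hxU, hU⟩ := (Agent.S9697.result f (S.fromSpecResidueField (f x)) (f.asFiber x)).mp
      ⟨⊤, trivial, by
        haveI : FormallyUnramified (pullback.snd f (S.fromSpecResidueField (f x))) := hfib
        exact MorphismProperty.comp_mem @FormallyUnramified _ _ inferInstance hfib⟩
    refine ⟨U, ?_, hU⟩
    rwa [show (pullback.fst f (S.fromSpecResidueField (f x))).base (f.asFiber x) = x from f.fiberι_asFiber x] at hxU
  choose U hxU hU using hU
  exact IsZariskiLocalAtSource.of_iSup_eq_top (P := @FormallyUnramified) U
    (eq_top_iff.mpr fun x _ => TopologicalSpace.Opens.mem_iSup.mpr ⟨x, hxU x⟩) hU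

end Groth.Agent.S9720
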