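import Groth.Statements.S9731
import Groth.Agent.Lib.H6.UnivThick

set_option autoImplicit false
set_option backward.isDefEq.respectTransparency.types false
set_option linter.all false
universe u
open OmegaSh

namespace Groth.Agent.S9731

open AlgebraicGeometry CategoryTheory Limits TopologicalSpace

section
variable {Z X : Scheme.{u}} (h : Z ⟶ X)

/-- affine opens of the source inside an affine open of the target. -/
def J : Type u := {W : Z.Opens // IsAffineOpen W ∧ ∃ V : X.Opens, IsAffineOpen V ∧ W ≤ h ⁻¹ᵁ V}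

instance : Preorder (J h) := Subtype.preorder _

theorem exists_mem (z : Z) : ∃ k : J h, z ∈ k.1 := by
  obtain ⟨V, hV, hzV, -⟩ := exists_isAffineOpen_mem_and_subset (X := X) (x := h z) (U := ⊤) trivial
  obtain ⟨W, hW, hzW, hWV⟩ := exists_isAffineOpen_mem_and_subset (X := Z) (x := z) (U := h ⁻¹ᵁ V) hzV
  exact ⟨⟨W, hW, V, hV, hWV⟩, hzW⟩

theorem exists_le (k k' : J h) (z : Z) (hz : z ∈ k.1) (hz' : z ∈ k'.1) : ∃ l : J h, l ≤ k ∧ l ≤ k' ∧ z ∈ l.1 := by
  obtain ⟨W, hW, hzW, hWle⟩ := exists_isAffineOpen_mem_and_subset (X := Z) (x := z) (U := k.1 ⊓ k'.1) ⟨hz, hz'⟩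
  obtain ⟨-, V, hV, e⟩ := k.2
  exact ⟨⟨W, hW, V, hV, fun y hy => e (hWle hy).1⟩, fun y hy => (hWle hy).1, fun y hy => (hWle hy).2, hzW⟩

variable (P : J h → Scheme.{u}) (i : ∀ k : J h, (k.1 : Scheme.{u}) ⟶ P k) (p : ∀ k, P k ⟶ X)
  (hu : ∀ k, OmegaSh.IsUnivThickening (k.1.ι ≫ h) (i k) (p k))

noncomputable def trans {k k' : J h} (e : k ≤ k') : P k ⟶ P k' :=
  ((hu k').2.2 _ _ (i k) (p k) (Z.homOfLE e) (hu k).1 (by rw [(hu k).2.1, Scheme.homOfLE_ι_assoc])).choose

theorem trans_spec {k k' : J h} (e : k ≤ k') :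
    i k ≫ trans h P i p hu e = Z.homOfLE e ≫ i k' ∧ trans h P i p hu e ≫ p k' = p k :=
  ((hu k').2.2 _ _ (i k) (p k) (Z.homOfLE e) (hu k).1 (by rw [(hu k).2.1, Scheme.homOfLE_ι_assoc])).choose_spec.1

theorem trans_unique {k k' : J h} (e : k ≤ k') (m : P k ⟶ P k') (h1 : i k ≫ m = Z.homOfLE e ≫ i k')
    (h2 : m ≫ p k' = p k) : m = trans h P i p hu e :=
  ((hu k').2.2 _ _ (i k) (p k) (Z.homOfLE e) (hu k).1 (by rw [(hu k).2.1, Scheme.homOfLE_ι_assoc])).choose_spec.2 m ⟨h1, h2⟩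

theorem trans_isOpenImmersion {k k' : J h} (e : k ≤ k') : IsOpenImmersion (trans h P i p hu e) := by
  obtain ⟨Q, o, r, ho, hr, -, hQ⟩ := H6.UnivThick.restrict (hu k') (Z.homOfLE e)
  rw [Scheme.homOfLE_ι_assoc] at hQ
  obtain ⟨φ, φ1, φ2⟩ := H6.UnivThick.exists_iso (hu k) hQ
  rw [← trans_unique h P i p hu e (φ.hom ≫ o) (by rw [reassoc_of% φ1, hr]) (by rw [Category.assoc, φ2])]
  infer_instance

noncomputable def F : J h ⥤ Scheme.{u} where
  obj := P
  map {k k'} f := trans h P i p hu (leOfHom f)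
  map_id k := (trans_unique h P i p hu le_rfl (𝟙 _) (by simp) (by simp)).symm
  map_comp {k k' k''} f g := (trans_unique h P i p hu (le_trans (leOfHom f) (leOfHom g)) _
    (by rw [reassoc_of% (trans_spec h P i p hu (leOfHom f)).1, (trans_spec h P i p hu (leOfHom g)).1, Scheme.homOfLE_homOfLE_assoc])
    (by rw [Category.assoc, (trans_spec h P i p hu (leOfHom g)).2, (trans_spec h P i p hu (leOfHom f)).2])).symm

theorem trans_apply {k k' : J h} (e : k ≤ k') (z : (k.1 : Scheme.{u})) :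
    trans h P i p hu e (i k z) = i k' (Z.homOfLE e z) :=
  congrArg (fun m : (k.1 : Scheme.{u}) ⟶ P k' => m z) (trans_spec h P i p hu e).1

instance {k k' : J h} (f : k ⟶ k') : IsOpenImmersion ((F h P i p hu).map f) := trans_isOpenImmersion h P i p hu _

include hu in
theorem pt_eq (k : J h) {z z' : (k.1 : Scheme.{u})} (e : i k z = i k z') : z = z' :=
  haveI := (hu k).1.1.1
  (i k).isClosedEmbedding.injective e

instance : (F h P i p hu ⋙ Scheme.forget).IsLocallyDirected := by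
  constructor
  intro a b c fa fb xa xb hab
  haveI := (hu a).1.1.2
  haveI := (hu b).1.1.2
  obtain ⟨za, rfl⟩ := (i a).surjective xa
  obtain ⟨zb, rfl⟩ := (i b).surjective xb
  change trans h P i p hu (leOfHom fa) (i a za) = trans h P i p hu (leOfHom fb) (i b zb) at hab
  rw [trans_apply, trans_apply] at hab
  have hz : za.1 = zb.1 := by
    have := congrArg (fun w : (c.1 : Scheme.{u}) => c.1.ι w) (pt_eq h P i p hu c hab)
    simpa [← Scheme.Hom.comp_apply] using this
  obtain ⟨l, la, lb, hl⟩ := exists_le h a b za.1 za.2 (hz ▸ zb.2)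
  refine ⟨l, homOfLE la, homOfLE lb, i l ⟨za.1, hl⟩, ?_, ?_⟩
  · refine (trans_apply h P i p hu la _).trans (congrArg (i a) ?_)
    exact a.1.ι.isOpenEmbedding.injective (by rw [← Scheme.Hom.comp_apply, Scheme.homOfLE_ι]; rfl)
  · refine (trans_apply h P i p hu lb _).trans (congrArg (i b) ?_)
    exact b.1.ι.isOpenEmbedding.injective (by rw [← Scheme.Hom.comp_apply, Scheme.homOfLE_ι]; exact hz)

include hu in
theorem exists_global : ∃ (Z' : Scheme.{u}) (i₀ : Z ⟶ Z') (h' : Z' ⟶ X), OmegaSh.IsUnivThickening h i₀ h' := by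
  let G := F h P i p hu
  let c : ∀ k, P k ⟶ colimit G := fun k => colimit.ι G k
  haveI hc : ∀ k, IsOpenImmersion (c k) := fun k => inferInstanceAs (IsOpenImmersion (colimit.ι G k))
  have hw : ∀ {k k' : J h} (e : k ≤ k'), trans h P i p hu e ≫ c k' = c k := fun e => colimit.w G (homOfLE e)
  obtain ⟨i₀, hi₀⟩ := H6.UnivThick.exists_glue (fun k : J h => k.1) (exists_mem h) (· ≤ ·) (fun _ _ e => e)
    (exists_le h) (fun k => i k ≫ c k) fun k k' e => by rw [← reassoc_of% (trans_spec h P i p hu e).1, hw]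
  let h' : colimit G ⟶ X := colimit.desc G ⟨X, { app := p, naturality := fun k k' f =>
      ((trans_spec h P i p hu (leOfHom f)).2).trans (Category.comp_id _).symm }⟩
  have hh' : ∀ k, c k ≫ h' = p k := fun k => colimit.ι_desc _ k
  have hpre : ∀ k, i₀ ⁻¹ᵁ (c k).opensRange = k.1.ι.opensRange := fun k => by
    ext z
    constructor
    · rintro ⟨y, hy⟩
      obtain ⟨k', hk'⟩ := exists_mem h z
      have hz' : i₀ z = c k' (i k' ⟨z, hk'⟩) := congrArg (fun m : (k'.1 : Scheme.{u}) ⟶ colimit G => m ⟨z, hk'⟩) (hi₀ k')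
      obtain ⟨l, fk, fk', x, hx, hx'⟩ := (Scheme.IsLocallyDirected.ι_eq_ι_iff G).1 (hy.trans hz')
      haveI := (hu l).1.1.2
      obtain ⟨w, rfl⟩ := (i l).surjective x
      change trans h P i p hu (leOfHom fk') (i l w) = i k' ⟨z, hk'⟩ at hx'
      rw [trans_apply] at hx'
      have := congrArg (fun v : (k'.1 : Scheme.{u}) => k'.1.ι v) (pt_eq h P i p hu k' hx')
      have hwz : w.1 = z := by simpa [← Scheme.Hom.comp_apply] using this
      exact ⟨⟨z, leOfHom fk (hwz ▸ w.2)⟩, rfl⟩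
    · rintro ⟨w, rfl⟩
      exact ⟨i k w, (congrArg (fun m : (k.1 : Scheme.{u}) ⟶ colimit G => m w) (hi₀ k)).symm⟩
  have hP : ∀ k, IsPullback (i k) k.1.ι (c k) i₀ := fun k => IsOpenImmersion.isPullback _ _ _ _ (hi₀ k) (hpre k)
  have hcov : ∀ y : (colimit G : Scheme.{u}), ∃ k, y ∈ (c k).opensRange := fun y => by
    obtain ⟨k, y', rfl⟩ := Scheme.IsLocallyDirected.ι_jointly_surjective G y
    exact ⟨k, y', rfl⟩
  have hfot : MoreMor.IsFirstOrderThickening i₀ := by
    have hcl : IsClosedImmersion i₀ := by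
      refine IsZariskiLocalAtTarget.of_openCover (P := @IsClosedImmersion) (Scheme.IsLocallyDirected.openCover G) fun k => ?_
      show IsClosedImmersion (pullback.snd i₀ (c k))
      haveI := (hu k).1.1.1
      rw [← (hP k).flip.isoPullback_inv_snd]
      infer_instance
    refine ⟨⟨hcl, ⟨fun y => ?_⟩⟩, ?_⟩
    · obtain ⟨k, y', rfl⟩ := hcov y
      haveI := (hu k).1.1.2
      obtain ⟨w, rfl⟩ := (i k).surjective y'
      exact ⟨k.1.ι w, congrArg (fun m : (k.1 : Scheme.{u}) ⟶ colimit G => m w) (hi₀ k)⟩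
    · haveI := hcl
      have hk : ∀ k, (i₀.ker * i₀.ker).comap (c k) = ⊥ := fun k => by
        have : i₀.ker.comap (c k) = (i k).ker := by
          rw [← Scheme.IdealSheafData.ker_fst_of_isClosedImmersion i₀, ← (hP k).isoPullback_hom_fst, Scheme.Hom.ker_comp_of_isIso]
        rw [H7Cartier.comap_mul, this, (hu k).1.2]
      refine bot_unique (Scheme.IdealSheafData.le_of_iSup_eq_top
        (fun q : (k : J h) × (P k).affineOpens => ⟨c q.1 ''ᵁ q.2.1, q.2.2.image_of_isOpenImmersion _⟩) ?_ fun q => ?_)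
      · refine eq_top_iff.2 fun y _ => ?_
        obtain ⟨k, y', rfl⟩ := hcov y
        obtain ⟨U, hU, hyU, -⟩ := exists_isAffineOpen_mem_and_subset (X := P k) (x := y') (U := ⊤) trivial
        exact Opens.mem_iSup.2 ⟨⟨k, U, hU⟩, y', hyU, rfl⟩
      · intro s hs
        obtain ⟨t, rfl⟩ := (ConcreteCategory.bijective_of_isIso ((c q.1).appIso q.2.1).inv).2 s
        have h1 : t ∈ ((i₀.ker * i₀.ker).comap (c q.1)).ideal q.2 := by
          rw [Scheme.IdealSheafData.ideal_comap_of_isOpenImmersion]; exact hs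
        rw [hk] at h1
        have ht : t = 0 := by simpa using h1
        rw [ht, map_zero]
        exact zero_mem _
  refine ⟨colimit G, i₀, h', hfot, ?_, fun T T' j b a hj hb => ?_⟩
  · refine Scheme.hom_ext_of_forall _ _ fun z => ?_
    obtain ⟨k, hk⟩ := exists_mem h z
    exact ⟨k.1, hk, by rw [reassoc_of% (hi₀ k), hh', (hu k).2.1]⟩
  haveI := hj.1.1
  haveI := hj.1.2
  have hbij : Function.Bijective j := ⟨j.isClosedEmbedding.injective, j.surjective⟩
  let O : J h → T'.Opens := fun k => ⟨j '' (a ⁻¹' (k.1 : Set Z)), by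
    rw [← compl_compl (a ⁻¹' (k.1 : Set Z)), Set.image_compl_eq hbij]
    exact (j.isClosedEmbedding.isClosedMap _ (k.1.2.preimage a.continuous).isClosed_compl).isOpen_compl⟩
  have hmem : ∀ (k : J h) (s : T), j s ∈ O k ↔ a s ∈ k.1 := fun k s => j.isClosedEmbedding.injective.mem_set_image
  have haW : ∀ k : J h, Set.range (pullback.fst j (O k).ι ≫ a) ⊆ Set.range k.1.ι := fun k => by
    rw [Scheme.Opens.range_ι]
    rintro _ ⟨s, rfl⟩
    refine (hmem k _).1 ?_
    have e : j (pullback.fst j (O k).ι s) = (O k).ι (pullback.snd j (O k).ι s) :=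
      congrArg (fun m : pullback j (O k).ι ⟶ T' => m s) pullback.condition
    show j (pullback.fst j (O k).ι s) ∈ O k
    rw [e]
    exact (pullback.snd j (O k).ι s).2
  let aW : ∀ k : J h, pullback j (O k).ι ⟶ (k.1 : Scheme.{u}) := fun k => IsOpenImmersion.lift k.1.ι _ (haW k)
  have haW' : ∀ k, aW k ≫ k.1.ι = pullback.fst j (O k).ι ≫ a := fun k => IsOpenImmersion.lift_fac _ _ _
  have htest : ∀ k, pullback.snd j (O k).ι ≫ (O k).ι ≫ b = aW k ≫ k.1.ι ≫ h := fun k => by
    rw [← pullback.condition_assoc, hb, reassoc_of% (haW' k)]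
  choose l hl hlu using fun k => (hu k).2.2 _ _ _ _ (aW k) (H6.UnivThick.fot_snd hj (O k).ι) (htest k)
  have hOle : ∀ {k k' : J h}, k ≤ k' → O k ≤ O k' := fun e => Set.image_mono (Set.preimage_mono e)
  have hcompat : ∀ (k k' : J h) (e : k ≤ k'), T'.homOfLE (hOle e) ≫ l k' ≫ c k' = l k ≫ c k := fun k k' e => by
    rw [← hw e, ← Category.assoc, ← Category.assoc]
    congr 1
    let m : pullback j (O k).ι ⟶ pullback j (O k').ι :=
      pullback.lift (pullback.fst _ _) (pullback.snd _ _ ≫ T'.homOfLE (hOle e)) (by rw [Category.assoc, Scheme.homOfLE_ι, pullback.condition])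
    have hm : m ≫ aW k' = aW k ≫ Z.homOfLE e := by
      rw [← cancel_mono k'.1.ι, Category.assoc, Category.assoc, haW', Scheme.homOfLE_ι, haW', pullback.lift_fst_assoc]
    obtain ⟨u0, -, hu0⟩ := (hu k').2.2 _ _ (pullback.snd j (O k).ι) ((O k).ι ≫ b) (aW k ≫ Z.homOfLE e)
      (H6.UnivThick.fot_snd hj (O k).ι) (by rw [htest, Category.assoc, Scheme.homOfLE_ι_assoc])
    refine (hu0 _ ⟨?_, ?_⟩).trans (hu0 _ ⟨?_, ?_⟩).symm
    · rw [← hm, Category.assoc, ← (hl k').1, pullback.lift_snd_assoc, Category.assoc]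
    · rw [Category.assoc, (hl k').2, Scheme.homOfLE_ι_assoc]
    · rw [reassoc_of% (hl k).1, (trans_spec h P i p hu e).1, Category.assoc]
    · rw [Category.assoc, (trans_spec h P i p hu e).2, (hl k).2]
  obtain ⟨g, hg⟩ := H6.UnivThick.exists_glue O (fun t => by
      obtain ⟨s, rfl⟩ := j.surjective t
      obtain ⟨k, hk⟩ := exists_mem h (a s)
      exact ⟨k, (hmem k s).2 hk⟩) (· ≤ ·) (fun _ _ e => hOle e) (fun k k' t ht ht' => by
      obtain ⟨s, rfl⟩ := j.surjective t
      obtain ⟨l0, h1, h2, h3⟩ := exists_le h k k' (a s) ((hmem k s).1 ht) ((hmem k' s).1 ht')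
      exact ⟨l0, h1, h2, (hmem l0 s).2 h3⟩) (fun k => l k ≫ c k) hcompat
  have hcovT : ∀ t : T', ∃ k, t ∈ O k := fun t => by
    obtain ⟨s, rfl⟩ := j.surjective t
    obtain ⟨k, hk⟩ := exists_mem h (a s)
    exact ⟨k, (hmem k s).2 hk⟩
  refine ⟨g, ⟨?_, ?_⟩, fun q hq => ?_⟩
  · refine Scheme.Cover.hom_ext ((T'.openCoverOfIsOpenCover O (eq_top_iff.2 fun t _ => Opens.mem_iSup.2 (hcovT t))).pullback₁ j) _ _ fun k => ?_
    show pullback.fst j (O k).ι ≫ j ≫ g = pullback.fst j (O k).ι ≫ a ≫ i₀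
    rw [pullback.condition_assoc, hg, reassoc_of% (hl k).1, ← hi₀ k, reassoc_of% (haW' k)]
  · refine Scheme.hom_ext_of_forall _ _ fun t => ?_
    obtain ⟨k, hk⟩ := hcovT t
    exact ⟨O k, hk, by rw [reassoc_of% (hg k), hh', (hl k).2]⟩
  · refine Scheme.hom_ext_of_forall _ _ fun t => ?_
    obtain ⟨k, hk⟩ := hcovT t
    refine ⟨O k, hk, ?_⟩
    have hr : Set.range ((O k).ι ≫ q) ⊆ Set.range (c k) := by
      rintro _ ⟨⟨t', ht'⟩, rfl⟩
      obtain ⟨s, rfl⟩ := j.surjective t'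
      have e1 : q (j s) = i₀ (a s) := congrArg (fun m : T ⟶ colimit G => m s) hq.1
      refine ⟨i k ⟨a s, (hmem k s).1 ht'⟩, ?_⟩
      exact (congrArg (fun m : (k.1 : Scheme.{u}) ⟶ colimit G => m ⟨a s, (hmem k s).1 ht'⟩) (hi₀ k)).symm.trans e1.symm
    have hlift := hlu k (IsOpenImmersion.lift (c k) _ hr) ⟨?_, ?_⟩
    · rw [hg, ← hlift, IsOpenImmersion.lift_fac]
    · rw [← cancel_mono (c k), Category.assoc, IsOpenImmersion.lift_fac, ← pullback.condition_assoc, hq.1,
        Category.assoc, ← hi₀ k, reassoc_of% (haW' k)]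
    · rw [← hh' k, ← Category.assoc, IsOpenImmersion.lift_fac, Category.assoc, hq.2]

end

open AlgebraicGeometry CategoryTheory Limits in
/-- A formally unramified morphism h : Z ⟶ X admits a universal first order thickening: a first order
thickening i : Z ⟶ Z' with h' : Z' ⟶ X, i ≫ h' = h, such that for every first order thickening j : T
⟶ T' with b : T' ⟶ X and every a : T ⟶ Z with j ≫ b = a ≫ h there is exactly one a' : T' ⟶ Z' with j
≫ a' = a ≫ i and a' ≫ h' = b. -/
theorem result {Z X : Scheme.{u}} (h : Z ⟶ X) [FormallyUnramified h] :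
    ∃ (Z' : Scheme.{u}) (i : Z ⟶ Z') (h' : Z' ⟶ X), OmegaSh.IsUnivThickening h i h' := by
  choose P i p hu using fun k : J h => H6.UnivThick.exists_affine h k.2.1 k.2.2.choose_spec.1 k.2.2.choose_spec.2
  exact exists_global h P i p hu

end Groth.Agent.S9731
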