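import Groth.Statements.S9732
import Groth.Agent.Lib.H6.Thick

set_option autoImplicit false
set_option maxHeartbeats 100000
set_option backward.isDefEq.respectTransparency.types false
set_option linter.all false
universe u
open OmegaSh

namespace Groth.Agent.S9732

open AlgebraicGeometry CategoryTheory in
theorem eq_of_univ {Z Z' X : Scheme.{u}} (h : Z ⟶ X) (i : Z ⟶ Z') (h' : Z' ⟶ X) (hu : OmegaSh.IsUnivThickening h i h')
    {A : Z'.Opens} (hA : IsAffineOpen A) {B : X.Opens} (hB : IsAffineOpen B) (e : A ≤ h' ⁻¹ᵁ B)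
    (I : Ideal Γ(Z', A)) (hIdef : I = RingHom.ker (i.app A).hom)
    (D : Type u) [CommRing D] (K : Ideal D) (hK : K ^ 2 = ⊥) :
    letI := (h'.appLE B A e).hom.toAlgebra
    ∀ [Algebra Γ(X, B) D] (p q : Γ(Z', A) →ₐ[Γ(X, B)] D), (∀ x, p x - q x ∈ K) → (∀ x ∈ I, p x ∈ K) → p = q := by
  letI := (h'.appLE B A e).hom.toAlgebra
  intro _ p q hpq hp
  subst hIdef
  haveI := hu.1.1.1
  have hsurj : Function.Surjective (i.app A).hom := i.app_surjective A hA
  let r : Γ(Z, i ⁻¹ᵁ A) →+* D ⧸ K := RingHom.liftOfSurjective (i.app A).hom hsurj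
    ⟨(Ideal.Quotient.mk K).comp p.toRingHom, fun x hx => by
      rw [RingHom.mem_ker, RingHom.comp_apply, Ideal.Quotient.eq_zero_iff_mem]; exact hp x hx⟩
  have hr : r.comp (i.app A).hom = (Ideal.Quotient.mk K).comp p.toRingHom := RingHom.liftOfSurjective_comp _ _ _
  let j := Spec.map (CommRingCat.ofHom (Ideal.Quotient.mk K))
  let a : Spec (.of (D ⧸ K)) ⟶ Z := Spec.map (CommRingCat.ofHom r) ≫ (hA.preimage i).fromSpec
  let P : (Γ(Z', A) →ₐ[Γ(X, B)] D) → (Spec (.of D) ⟶ Z') := fun g => Spec.map (CommRingCat.ofHom g.toRingHom) ≫ hA.fromSpec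
  have hai : ∀ g : Γ(Z', A) →ₐ[Γ(X, B)] D, (∀ x, Ideal.Quotient.mk K (g x) = Ideal.Quotient.mk K (p x)) → j ≫ P g = a ≫ i := fun g hg => by
    simp only [j, P, a, Category.assoc]
    rw [← IsAffineOpen.SpecMap_appLE_fromSpec i hA (hA.preimage i) le_rfl, ← Category.assoc, ← Category.assoc, ← Spec.map_comp, ← Spec.map_comp]
    congr 2
    ext x
    show Ideal.Quotient.mk K (g x) = r ((i.appLE A (i ⁻¹ᵁ A) le_rfl) x)
    rw [Scheme.Hom.appLE_eq_app]
    exact (hg x).trans (congrArg (fun k => k x) hr).symm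
  have hPh : ∀ g : Γ(Z', A) →ₐ[Γ(X, B)] D, P g ≫ h' = Spec.map (CommRingCat.ofHom (algebraMap Γ(X, B) D)) ≫ hB.fromSpec := fun g => by
    simp only [P, Category.assoc]
    rw [← IsAffineOpen.SpecMap_appLE_fromSpec h' hB hA e, ← Category.assoc, ← Spec.map_comp]
    congr 2
    ext x
    exact g.commutes x
  have hb : j ≫ (P p ≫ h') = a ≫ h := by rw [← Category.assoc, hai p (fun _ => rfl), Category.assoc, hu.2.1]
  obtain ⟨a', -, huniq⟩ := hu.2.2 _ _ j (P p ≫ h') a (H6.Thick.specMk (R := .of D) K hK) hb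
  have hq : ∀ x, Ideal.Quotient.mk K (q x) = Ideal.Quotient.mk K (p x) := fun x => (Ideal.Quotient.eq.2 (hpq x)).symm
  have heq : P p = P q := (huniq _ ⟨hai p (fun _ => rfl), rfl⟩).trans (huniq _ ⟨hai q hq, (hPh q).trans (hPh p).symm⟩).symm
  have h1 := Spec.map_injective ((cancel_mono hA.fromSpec).1 heq)
  exact AlgHom.ext fun x => congrArg (fun k => (CommRingCat.Hom.hom k) x) h1

open AlgebraicGeometry CategoryTheory Limits in
/-- Let h : Z ⟶ X be formally unramified and let (i : Z ⟶ Z', h' : Z' ⟶ X) be a universal first order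
thickening of Z over X. Then h' is formally unramified. -/
theorem result {Z Z' X : Scheme.{u}} (h : Z ⟶ X) [FormallyUnramified h]
    (i : Z ⟶ Z') (h' : Z' ⟶ X) (hu : OmegaSh.IsUnivThickening h i h') : FormallyUnramified h' := by
  rw [HasRingHomProperty.iff_appLE (P := @FormallyUnramified)]
  intro B A e
  letI := (h'.appLE B.1 A.1 e).hom.toAlgebra
  show Algebra.FormallyUnramified Γ(X, B.1) Γ(Z', A.1)
  rw [Algebra.FormallyUnramified.iff_comp_injective]
  intro C _ _ J hJ g1 g2 hg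
  haveI := hu.1.1.1
  let I : Ideal Γ(Z', A.1) := RingHom.ker (i.app A.1).hom
  have hI : ∀ x ∈ I, ∀ y ∈ I, x * y = 0 := fun x hx y hy => by
    have hm : x * y ∈ i.ker.ideal A * i.ker.ideal A := Ideal.mul_mem_mul (by rw [i.ker_apply]; exact hx) (by rw [i.ker_apply]; exact hy)
    rw [← Pi.mul_apply (f := i.ker.ideal) (g := i.ker.ideal), ← Scheme.IdealSheafData.ideal_mul, hu.1.2] at hm
    simpa using hm
  have hmk : ∀ (D : Type u) [CommRing D] [Algebra Γ(X, B.1) D] (K : Ideal D), K ^ 2 = ⊥ → ∀ (p q : Γ(Z', A.1) →ₐ[Γ(X, B.1)] D),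
      (∀ x, p x - q x ∈ K) → (∀ x ∈ I, p x ∈ K) → p = q := by
    intro D _ _ K hK p q hpq hp
    exact eq_of_univ h i h' hu A.2 B.2 e I rfl D K hK p q hpq hp
  let N : Ideal C := J * I.map g1.toRingHom
  have hd : ∀ x, g1 x - g2 x ∈ J := fun x => by
    rw [← Ideal.Quotient.eq_zero_iff_mem, map_sub, sub_eq_zero]
    exact congrArg (fun k => k x) hg
  have hgI : I.map g1.toRingHom * I.map g1.toRingHom = ⊥ := by
    rw [← Ideal.map_mul, Ideal.map_eq_bot_iff_le_ker]
    exact Ideal.mul_le.2 fun x hx y hy => by rw [hI x hx y hy]; exact Ideal.zero_mem _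
  have hJ' : J * J = ⊥ := by rw [← sq, hJ]
  have h12 : ∀ x, g1 x - g2 x ∈ N := by
    intro x
    rw [← Ideal.Quotient.eq_zero_iff_mem, map_sub, sub_eq_zero]
    have := hmk (C ⧸ N) ((J ⊔ I.map g1.toRingHom).map (Ideal.Quotient.mk N)) ?_ ((Ideal.Quotient.mkₐ Γ(X, B.1) N).comp g1) ((Ideal.Quotient.mkₐ Γ(X, B.1) N).comp g2) ?_ ?_
    · exact congrArg (fun k => k x) this
    · rw [← Ideal.map_pow, Ideal.map_eq_bot_iff_le_ker, Ideal.mk_ker, sq, Ideal.sup_mul, Ideal.mul_sup, Ideal.mul_sup, hJ', hgI]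
      simp only [bot_sup_eq, sup_bot_eq, sup_le_iff]
      exact ⟨le_rfl, le_of_eq (mul_comm _ _)⟩
    · intro y
      simp only [AlgHom.comp_apply, Ideal.Quotient.mkₐ_eq_mk, ← map_sub]
      exact Ideal.mem_map_of_mem _ (Ideal.mem_sup_left (hd y))
    · intro y hy
      exact Ideal.mem_map_of_mem _ (Ideal.mem_sup_right (Ideal.mem_map_of_mem g1.toRingHom hy))
  have hK : (I.map g1.toRingHom) ^ 2 = ⊥ := (pow_two _).trans hgI
  have hle : N ≤ I.map g1.toRingHom := Ideal.mul_le_right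
  have hp : ∀ x ∈ I, g1 x ∈ I.map g1.toRingHom := fun x hx => Ideal.mem_map_of_mem g1.toRingHom hx
  exact hmk C (I.map g1.toRingHom) hK g1 g2 (fun x => hle (h12 x)) hp

end Groth.Agent.S9732
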