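import Groth.Statements.S9733
import Groth.Agent.Lib.H7Cartier

set_option autoImplicit false
set_option backward.isDefEq.respectTransparency.types false
set_option linter.all false
universe u
open OmegaSh

namespace Groth.Agent.S9733

open AlgebraicGeometry CategoryTheory Limits in
/-- Let h : Z ⟶ X and f : Z ⟶ W make Z the fibre product of g : X ⟶ Y and a formally unramified h' : W ⟶
Y, and let (j : W ⟶ W', k : W' ⟶ Y) be universal first-order thickening data for h'. Then the map Z
⟶ X ×_Y W' with components h and f ≫ j, together with the first projection X ×_Y W' ⟶ X, is a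
universal first-order thickening for h. The published statement also asserts that h is formally
unramified and that the pullback along f of the conormal sheaf of W relative to Y surjects onto the
conormal sheaf of Z relative to X; this row states neither. -/
theorem result {Z X W Y W' : Scheme.{u}} (h : Z ⟶ X) (f : Z ⟶ W) (g : X ⟶ Y) (h' : W ⟶ Y)
    [FormallyUnramified h'] (hc : IsPullback h f g h') (j : W ⟶ W') (k : W' ⟶ Y) (hu : OmegaSh.IsUnivThickening h' j k) :
    OmegaSh.IsUnivThickening h (pullback.lift h (f ≫ j) (hc.w.trans (congrArg (f ≫ ·) hu.2.1).symm)) (pullback.fst g k) := by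
  set ι : Z ⟶ pullback g k := pullback.lift h (f ≫ j) (hc.w.trans (congrArg (f ≫ ·) hu.2.1).symm)
  have hP : IsPullback ι f (pullback.snd g k) j := by
    refine IsPullback.of_right ?_ (pullback.lift_snd _ _ _) (IsPullback.of_hasPullback g k)
    rw [pullback.lift_fst, hu.2.1]
    exact hc
  haveI := hu.1.1.1
  haveI := hu.1.1.2
  refine ⟨⟨⟨MorphismProperty.of_isPullback (P := @IsClosedImmersion) hP.flip hu.1.1.1, MorphismProperty.of_isPullback (P := @Surjective) hP.flip hu.1.1.2⟩, ?_⟩, pullback.lift_fst _ _ _, ?_⟩
  · have hk : ι.ker = j.ker.comap (pullback.snd g k) := by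
      rw [← Scheme.IdealSheafData.ker_fst_of_isClosedImmersion j, ← hP.isoPullback_hom_fst, Scheme.Hom.ker_comp_of_isIso]
    rw [hk, ← H7Cartier.comap_mul, hu.1.2, Scheme.IdealSheafData.comap_bot]
  intro T T' jj b a hjj hb
  obtain ⟨a'', ⟨h1, h2⟩, huniq⟩ := hu.2.2 T T' jj (b ≫ g) (a ≫ f) hjj (by rw [reassoc_of% hb, hc.w, Category.assoc])
  refine ⟨pullback.lift b a'' h2.symm, ⟨?_, pullback.lift_fst _ _ _⟩, fun a' ⟨e1, e2⟩ => ?_⟩
  · apply pullback.hom_ext
    · rw [Category.assoc, pullback.lift_fst, Category.assoc, pullback.lift_fst, hb]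
    · rw [Category.assoc, pullback.lift_snd, Category.assoc, pullback.lift_snd, h1, Category.assoc]
  · apply pullback.hom_ext
    · rw [pullback.lift_fst, e2]
    · rw [pullback.lift_snd]
      refine huniq _ ⟨?_, ?_⟩
      · rw [← Category.assoc, e1, Category.assoc, pullback.lift_snd, Category.assoc]
      · rw [Category.assoc, ← pullback.condition, reassoc_of% e2]

end Groth.Agent.S9733
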