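import Groth.Statements.S9740
import Groth.Agent.Lib.H6.Thick

set_option autoImplicit false
set_option backward.isDefEq.respectTransparency.types false
set_option linter.all false
universe u
open OmegaSh

namespace Groth.Agent.S9740

open AlgebraicGeometry CategoryTheory Limits in
/-- Let h : Z ⟶ X be formally unramified with universal first order thickening (i : Z ⟶ Z', h' : Z' ⟶
X), let V ⊆ Z and U ⊆ X be opens with h(V) ⊆ U, and let V' ⊆ Z' be the open with i⁻¹(V') = V (so
h'(V') ⊆ U). Then the restricted pair (V ⟶ V', V' ⟶ U) is a universal first-order thickening for the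
restriction V ⟶ U of h. The published statement also asserts that this restriction is formally
unramified and that the conormal sheaf of Z over X restricts on V to that of V over U; this row
states only the thickening part. -/
theorem result {Z Z' X : Scheme.{u}} (h : Z ⟶ X) [FormallyUnramified h] (i : Z ⟶ Z') (h' : Z' ⟶ X)
    (hu : OmegaSh.IsUnivThickening h i h') (V : Z.Opens) (U : X.Opens) (hVU : V ≤ h ⁻¹ᵁ U)
    (V' : Z'.Opens) (hV' : i ⁻¹ᵁ V' = V) (hV'U : V' ≤ h' ⁻¹ᵁ U) :
    OmegaSh.IsUnivThickening (h.resLE U V hVU) (i.resLE V' V hV'.ge) (h'.resLE U V' hV'U) := by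
  subst hV'
  haveI := hu.1.1.1
  haveI := hu.1.1.2
  refine ⟨?_, ?_, ?_⟩
  · refine H6.Thick.of_isPullback (f := (i ⁻¹ᵁ V').ι) (g := V'.ι) (j := i) ?_ hu.1
    rw [Scheme.Hom.resLE_eq_morphismRestrict]
    exact isPullback_morphismRestrict i V'
  · rw [← cancel_mono U.ι, Category.assoc, Scheme.Hom.resLE_comp_ι, Scheme.Hom.resLE_comp_ι, Scheme.Hom.resLE_comp_ι_assoc, hu.2.1]
  intro T T' j b a hj hjb
  haveI := hj.1.2
  obtain ⟨a'', ⟨h1, h2⟩, huniq⟩ := hu.2.2 T T' j (b ≫ U.ι) (a ≫ (i ⁻¹ᵁ V').ι) hj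
    (by rw [reassoc_of% hjb, Scheme.Hom.resLE_comp_ι, Category.assoc])
  have hr : Set.range a'' ⊆ Set.range V'.ι := by
    rintro _ ⟨t, rfl⟩
    obtain ⟨s, rfl⟩ := j.surjective t
    rw [← Scheme.Hom.comp_apply, h1, Scheme.Opens.range_ι]
    exact (a s).2
  refine ⟨IsOpenImmersion.lift V'.ι a'' hr, ⟨?_, ?_⟩, fun y ⟨y1, y2⟩ => ?_⟩
  · rw [← cancel_mono V'.ι, Category.assoc, IsOpenImmersion.lift_fac, h1, Category.assoc, Category.assoc, Scheme.Hom.resLE_comp_ι]
  · rw [← cancel_mono U.ι, Category.assoc, Scheme.Hom.resLE_comp_ι, IsOpenImmersion.lift_fac_assoc, h2]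
  · rw [← cancel_mono V'.ι, IsOpenImmersion.lift_fac]
    refine huniq _ ⟨?_, ?_⟩
    · rw [← Category.assoc, y1, Category.assoc, Category.assoc, Scheme.Hom.resLE_comp_ι]
    · rw [Category.assoc, ← Scheme.Hom.resLE_comp_ι h' hV'U, reassoc_of% y2]

end Groth.Agent.S9740
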