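import Groth.Statements.S9741
import Groth.Agent.Lib.H6.Thick

set_option autoImplicit false
set_option backward.isDefEq.respectTransparency.types false
set_option linter.all false
universe u
open OmegaSh

namespace Groth.Agent.S9741

open AlgebraicGeometry CategoryTheory Limits in
/-- Let a : Z ⟶ Y and b : Y ⟶ X be formally unramified, let (i : Z ⟶ Z', c : Z' ⟶ X) be universal among
first order thickenings of Z relative to X (for a ≫ b), and (j : Y ⟶ Y', d : Y' ⟶ X) likewise for Y
relative to X (for b). Then there is a morphism of thickenings m : Z' ⟶ Y' over X (i ≫ m = a ≫ j and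
m ≫ d = c) such that Z ⟶ Y ×_{Y'} Z' (components a and i), together with the projection to Y, is
universal among first order thickenings of Z relative to Y (for a). The published statement also
asserts an exact sequence of conormal sheaves; this row states only the thickening assertion. -/
theorem result {Z Y X Z' Y' : Scheme.{u}} (a : Z ⟶ Y) (b : Y ⟶ X)
    [FormallyUnramified a] [FormallyUnramified b] (i : Z ⟶ Z') (c : Z' ⟶ X) (hZ : OmegaSh.IsUnivThickening (a ≫ b) i c)
    (j : Y ⟶ Y') (d : Y' ⟶ X) (hY : OmegaSh.IsUnivThickening b j d) :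
    ∃ (m : Z' ⟶ Y') (hm : i ≫ m = a ≫ j), m ≫ d = c ∧
      OmegaSh.IsUnivThickening a (pullback.lift a i hm.symm) (pullback.fst j m) := by
  haveI := hY.1.1.1
  obtain ⟨m, ⟨hm, hmd⟩, hmu⟩ := hY.2.2 Z Z' i c a hZ.1 hZ.2.1
  haveI : IsClosedImmersion (pullback.snd j m) := inferInstance
  refine ⟨m, hm, hmd, ?_, pullback.lift_fst _ _ _, ?_⟩
  · refine H6.Thick.of_comp (p := pullback.snd j m) ?_
    rw [pullback.lift_snd]
    exact hZ.1
  intro T T' jj β α hjj hb
  obtain ⟨α', ⟨h1, h2⟩, huniq⟩ := hZ.2.2 T T' jj (β ≫ b) α hjj (by rw [reassoc_of% hb])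
  have e : β ≫ j = α' ≫ m := by
    obtain ⟨x, -, hx⟩ := hY.2.2 T T' jj (β ≫ b) (α ≫ a) hjj (by rw [reassoc_of% hb, Category.assoc])
    refine (hx _ ⟨?_, ?_⟩).trans (hx _ ⟨?_, ?_⟩).symm
    · rw [reassoc_of% hb, Category.assoc]
    · rw [Category.assoc, hY.2.1]
    · rw [reassoc_of% h1, hm, Category.assoc]
    · rw [Category.assoc, hmd, h2]
  refine ⟨pullback.lift β α' e, ⟨?_, pullback.lift_fst _ _ _⟩, fun y ⟨y1, y2⟩ => ?_⟩
  · apply pullback.hom_ext
    · rw [Category.assoc, Category.assoc, pullback.lift_fst, pullback.lift_fst, hb]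
    · rw [Category.assoc, Category.assoc, pullback.lift_snd, pullback.lift_snd, h1]
  · apply pullback.hom_ext
    · rw [pullback.lift_fst, y2]
    · rw [pullback.lift_snd]
      refine huniq _ ⟨?_, ?_⟩
      · rw [← Category.assoc, y1, Category.assoc, pullback.lift_snd]
      · rw [← hmd, ← Category.assoc, Category.assoc y, ← pullback.condition, Category.assoc, Category.assoc, hY.2.1, reassoc_of% y2]

end Groth.Agent.S9741
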