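import Groth.Statements.S9763
import Mathlib
import Groth.Prelude.Def_MoreMor
import Groth.Prelude.Def_Flat

set_option autoImplicit false
universe u
open FlatMor

namespace Groth.Agent.S9763
open AlgebraicGeometry CategoryTheory Limits
set_option backward.isDefEq.respectTransparency.types false

open AlgebraicGeometry CategoryTheory Limits in
/-- Let f : X ⟶ S be formally smooth (infinitesimal lifting against square-zero thickenings of affine
schemes), and let U be an open of X and V an open of S with U contained in the preimage of V under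
f. Then the induced morphism U ⟶ V is formally smooth. -/
theorem result {X S : Scheme.{u}} (f : X ⟶ S) (hf : MoreMor.IsFormallySmoothHom f)
    (U : X.Opens) (V : S.Opens) (h : U ≤ f ⁻¹ᵁ V) : MoreMor.IsFormallySmoothHom (f.resLE V U h) := by
  intro A _ I hI a b hab
  have key := congrArg (· ≫ V.ι) hab
  simp only [Category.assoc, Scheme.Hom.resLE_comp_ι] at key
  obtain ⟨l, hl1, hl2⟩ := hf A I hI (a ≫ U.ι) (b ≫ V.ι) (by rw [key, Category.assoc])
  have hs : Function.Surjective (Spec.map (CommRingCat.ofHom (Ideal.Quotient.mk I))) := fun p => by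
    have hp : I ≤ p.asIdeal := fun x hx => p.isPrime.mem_of_pow_mem 2 (by
      have := Ideal.pow_mem_pow hx 2; rw [hI] at this; simp at this; rw [this]; exact p.asIdeal.zero_mem)
    have : p ∈ Set.range (PrimeSpectrum.comap (Ideal.Quotient.mk I)) := by
      rw [range_comap_of_surjective _ _ Ideal.Quotient.mk_surjective, Ideal.mk_ker]; exact hp
    exact this
  have hr : Set.range l ⊆ Set.range U.ι := by
    rintro _ ⟨p, rfl⟩
    obtain ⟨q, rfl⟩ := hs p
    exact ⟨a q, by rw [← Scheme.Hom.comp_apply, ← hl1]; rfl⟩
  refine ⟨IsOpenImmersion.lift U.ι l hr, ?_, ?_⟩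
  · rw [← cancel_mono U.ι, Category.assoc, IsOpenImmersion.lift_fac, hl1]
  · rw [← cancel_mono V.ι, Category.assoc, Scheme.Hom.resLE_comp_ι, IsOpenImmersion.lift_fac_assoc, hl2]

end Groth.Agent.S9763
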