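import Groth.Statements.S9771
import Mathlib
import Groth.Prelude.Def_MoreMor
import Groth.Agent.Lib.H2FormallyEtale

set_option autoImplicit false
universe u
open FlatMor

namespace Groth.Agent.S9771
open CategoryTheory Limits AlgebraicGeometry

open AlgebraicGeometry CategoryTheory Limits in
/-- An unramified (formally unramified and locally of finite type) flat morphism of schemes is formally
étale. (When the morphism is moreover locally of finite presentation this is the statement that flat
unramified morphisms are étale; the content here is the case without finite presentation.) -/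
theorem result {X S : Scheme.{u}} (f : X ⟶ S)
    [Flat f] [FormallyUnramified f] [LocallyOfFiniteType f] : MoreMor.IsFormallyEtaleHom f := by
  refine Groth.Agent.H2FormallyEtale.isFormallyEtaleHom_of_local f fun U V hU hV hUV => ?_
  have h1 := f.formallyUnramified_appLE hV hU hUV
  have h2 := HasRingHomProperty.appLE @Flat f inferInstance ⟨V, hV⟩ ⟨U, hU⟩ hUV
  have h3 := f.finiteType_appLE hV hU hUV
  algebraize [(f.appLE V U hUV).hom]
  show Algebra.FormallyEtale Γ(S, V) Γ(X, U)
  haveI : Algebra.FormallyUnramified Γ(S, V) Γ(X, U) := h1
  haveI : Module.Flat Γ(S, V) Γ(X, U) := h2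
  haveI : Algebra.FiniteType Γ(S, V) Γ(X, U) := h3
  exact Groth.Agent.H2FlatUnramEtale.formallyEtale_of_flat_unramified

end Groth.Agent.S9771
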