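import Groth.Statements.S9795
import Groth.Agent.Lib.H6.Top

set_option autoImplicit false
set_option linter.all false
universe u
open CategoryTheory AlgebraicGeometry TopologicalSpace
open Props

namespace Groth.Agent.S9795

/-- A quasi-separated scheme of dimension at most zero is separated. -/
theorem result (X : Scheme.{u}) [QuasiSeparatedSpace X]
    (h : topologicalKrullDim X ≤ 0) : X.IsSeparated := by
  haveI := Groth.Agent.H6.scheme_t1_of_dim X h
  haveI := Groth.Agent.H6.t2_of_qs X
  exact Groth.Agent.H6.sep_of_t2 X

end Groth.Agent.S9795
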