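import Groth.Statements.S9798
import Groth.Prelude.Def_Flat
import Mathlib

set_option autoImplicit false
universe u
open CategoryTheory AlgebraicGeometry TopologicalSpace
open Props

namespace Groth.Agent.S9798
open CategoryTheory CategoryTheory.Limits AlgebraicGeometry TopologicalSpace Opposite

/-- A point of a locally Noetherian scheme has local dimension zero exactly when it is isolated. -/
theorem result (X : Scheme.{u}) [IsLocallyNoetherian X] (x : X) :
    FlatMor.localDim X x = 0 ↔ IsOpen ({x} : Set X) := by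
  constructor
  · intro h
    haveI : Nonempty {U : TopologicalSpace.Opens X // x ∈ U} := ⟨⟨⊤, trivial⟩⟩
    obtain ⟨m, hm, hmin⟩ := wellFounded_lt.has_min
      (Set.range fun U : {U : TopologicalSpace.Opens X // x ∈ U} => topologicalKrullDim (U.1 : Set X)) (Set.range_nonempty _)
    obtain ⟨⟨U, hxU⟩, rfl⟩ := hm
    have hU : topologicalKrullDim (U : Set X) ≤ 0 := by
      rw [← h]
      exact le_iInf fun V => not_lt.1 (hmin _ ⟨V, rfl⟩)
    obtain ⟨_, ⟨W, hW, rfl⟩, hxW, hWU⟩ := X.isBasis_affineOpens.exists_subset_of_mem_open hxU U.2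
    haveI : IsNoetherianRing Γ(X, W) := IsLocallyNoetherian.component_noetherian ⟨W, hW⟩
    let e : (W : Set X) ≃ₜ PrimeSpectrum Γ(X, W) := hW.isoSpec.schemeIsoToHomeo
    have hdim : ringKrullDim Γ(X, W) ≤ 0 := by
      rw [← PrimeSpectrum.topologicalKrullDim_eq_ringKrullDim]
      refine le_trans ?_ hU
      exact Topology.IsInducing.topologicalKrullDim_le
        (f := Set.inclusion hWU ∘ e.symm) ((Topology.IsEmbedding.inclusion hWU).isInducing.comp e.symm.isInducing)
    haveI : Ring.KrullDimLE 0 Γ(X, W) := Ring.krullDimLE_iff.2 (by exact_mod_cast hdim)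
    haveI : IsArtinianRing Γ(X, W) := isArtinianRing_iff_isNoetherianRing_krullDimLE_zero.2 ⟨‹_›, ‹_›⟩
    haveI : DiscreteTopology (W : Set X) := e.symm.discreteTopology
    have := W.2.isOpenMap_subtype_val _ (isOpen_discrete {(⟨x, hxW⟩ : (W : Set X))})
    simpa using this
  · intro hopen
    apply le_antisymm
    · refine (iInf_le _ ⟨⟨{x}, hopen⟩, rfl⟩).trans ?_
      haveI : Nonempty ({x} : Set X) := ⟨⟨x, rfl⟩⟩
      haveI : Subsingleton ({x} : Set X) := Set.Subsingleton.coe_sort Set.subsingleton_singleton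
      show topologicalKrullDim ({x} : Set X) ≤ 0
      exact topologicalKrullDim_zero_of_discreteTopology _
    · refine le_iInf fun U => ?_
      haveI : Nonempty (U.1 : Set X) := ⟨⟨x, U.2⟩⟩
      haveI : Nonempty (IrreducibleCloseds (U.1 : Set X)) :=
        ⟨⟨closure {⟨x, U.2⟩}, isIrreducible_singleton.closure, isClosed_closure⟩⟩
      exact Order.krullDim_nonneg

end Groth.Agent.S9798
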