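import Groth.Statements.S9799
import Groth.Agent.Lib.H6.CompDom

set_option autoImplicit false
set_option linter.all false
universe u
open CategoryTheory AlgebraicGeometry TopologicalSpace
open Props

namespace Groth.Agent.S9799

/-- Let X be a normal scheme (all local rings are integrally closed domains) such that every
quasi-compact open subset has finitely many irreducible components. Then the irreducible components
of X are open and pairwise disjoint; hence X is the disjoint union of its irreducible components,
each an open subscheme which is normal and integral. -/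
theorem result (X : Scheme.{u})
    (hfin : ∀ U : X.Opens, IsCompact (U : Set X) → (irreducibleComponents ↥U).Finite)
    (hN : Pi1.IsNormalScheme X) :
    (∀ Z ∈ irreducibleComponents X, IsOpen Z) ∧
      ∀ Z ∈ irreducibleComponents X, ∀ Z' ∈ irreducibleComponents X, Z ≠ Z' → Disjoint Z Z' := by
  have hX : ∀ x : X, IsDomain (X.presheaf.stalk x) := fun x => (hN x).1
  refine ⟨fun Z hZ => ?_, fun Z hZ Z' hZ' hne => Set.disjoint_left.2 fun x h1 h2 => ?_⟩
  · rw [isOpen_iff_forall_mem_open]
    intro x hx
    obtain ⟨U, hU, hxU, -⟩ := exists_isAffineOpen_mem_and_subset (X := X) (x := x) (U := ⊤) trivial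
    refine ⟨Z ∩ U, Set.inter_subset_left, H6.CompDom.isOpen_of_finite hZ hX U ?_, hx, hxU⟩
    refine Set.Finite.of_finite_image ((hfin U hU.isCompact).subset ?_) ?_ (f := fun W => ((↑) : ↥U → X) ⁻¹' W)
    · rintro _ ⟨W, ⟨hW, hWU⟩, rfl⟩
      exact preimage_mem_irreducibleComponents hW U.2.isOpenEmbedding_subtypeVal (by rw [Subtype.range_coe]; exact hWU)
    · rintro W ⟨hW, x1, hx1, hx1U⟩ W' ⟨hW', -⟩ e
      haveI := hX x1
      have : (⟨x1, hx1U⟩ : ↥U) ∈ ((↑) : ↥U → X) ⁻¹' W' := by
        rw [← show ((↑) : ↥U → X) ⁻¹' W = ((↑) : ↥U → X) ⁻¹' W' from e]; exact hx1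
      exact H6.CompDom.eq_of_mem x1 hW hW' hx1 this
  · haveI := hX x
    exact hne (H6.CompDom.eq_of_mem x hZ hZ' h1 h2)

end Groth.Agent.S9799
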