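import Groth.Statements.S9800
import Mathlib
import Groth.Prelude.Def_Pi1

set_option autoImplicit false
universe u
open CategoryTheory AlgebraicGeometry TopologicalSpace
open Props

namespace Groth.Agent.S9800
open AlgebraicGeometry CategoryTheory TopologicalSpace

/-- A locally Noetherian normal scheme of dimension at most one is regular, that is, all of its local
rings are regular local rings. -/
theorem result (X : Scheme.{u})
    [IsLocallyNoetherian X] (hN : Pi1.IsNormalScheme X) (hd : topologicalKrullDim X ≤ 1) (x : X) :
    IsRegularLocalRing (X.presheaf.stalk x) := by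
  obtain ⟨h1, h2⟩ := hN x
  haveI := h1; haveI := h2
  have hle : ringKrullDim (X.presheaf.stalk x) ≤ 1 := by
    rw [ringKrullDim_stalk_eq_coheight]
    refine le_trans ?_ hd
    show _ ≤ Order.krullDim (TopologicalSpace.IrreducibleCloseds X)
    rw [Order.krullDim_eq_of_orderIso (irreducibleSetEquivPoints (α := X))]
    exact Order.coheight_le_krullDim x
  haveI : Ring.KrullDimLE 1 (X.presheaf.stalk x) := Ring.krullDimLE_iff.2 (by exact_mod_cast hle)
  haveI : Ring.DimensionLEOne (X.presheaf.stalk x) := ⟨fun {p} hne hp => (Ring.krullDimLE_one_iff_of_noZeroDivisors.mp ‹_›) p hne hp⟩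
  haveI : IsDedekindDomain (X.presheaf.stalk x) := {}
  infer_instance

end Groth.Agent.S9800
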