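import Groth.Statements.S9805
import Groth.Agent.Lib.H7FPFlat
import Mathlib

set_option autoImplicit false
universe u
open CategoryTheory AlgebraicGeometry TopologicalSpace
open Props

namespace Groth.Agent.S9805

/-- A quasi-coherent module on a scheme is flat and of finite presentation if and only if it is finite
locally free. -/
theorem result (X : Scheme.{u}) (M : X.Modules) (hM : Coh.IsQCoh M) :
    (FlatMod.IsFlat M ∧ CohB1.IsFP M) ↔ FlatMod.IsFinLocFree M := by
  exact ⟨fun ⟨h, h'⟩ => H7FPFlat.finLocFree_of_flat h' h,
    fun h => ⟨H7PerfPull.flat_of_finLocFree h, H7FPFlat.isFP_of_finLocFree h⟩⟩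

end Groth.Agent.S9805
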