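import Groth.Statements.S9807
import Groth.Agent.Lib.RegularLocalSerre
import Groth.Agent.S4713

set_option autoImplicit false
set_option linter.all false
universe u
open CategoryTheory AlgebraicGeometry TopologicalSpace
open Props

namespace Groth.Agent.S9807

/-- A locally Noetherian scheme is regular (all local rings regular) as soon as its local rings at
closed points are regular, and conversely. -/
theorem result (X : Scheme.{u}) [IsLocallyNoetherian X] :
    (∀ x : X, IsRegularLocalRing (X.presheaf.stalk x)) ↔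
      ∀ x : X, IsClosed ({x} : Set X) → IsRegularLocalRing (X.presheaf.stalk x) := by
  refine ⟨fun h x _ => h x, fun h x => ?_⟩
  obtain ⟨y, hy, hc⟩ := Groth.Agent.S4713.result X (closure {x}) isClosed_closure ⟨x, subset_closure rfl⟩
  have hxy : x ⤳ y := specializes_iff_mem_closure.2 hy
  obtain ⟨V, hV, hyV, -⟩ := exists_isAffineOpen_mem_and_subset (X := X) (x := y) (U := ⊤) trivial
  have hxV : x ∈ V := hxy.mem_open V.2 hyV
  letI := (X.presheaf.germ V y hyV).hom.toAlgebra
  letI := (X.presheaf.germ V x hxV).hom.toAlgebra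
  letI := (X.presheaf.stalkSpecializes hxy).hom.toAlgebra
  haveI : IsScalarTower Γ(X, V) (X.presheaf.stalk y) (X.presheaf.stalk x) := IsScalarTower.of_algebraMap_eq' (congrArg CommRingCat.Hom.hom (TopCat.Presheaf.germ_stalkSpecializes X.presheaf hyV hxy)).symm
  haveI hlx : IsLocalization.AtPrime (X.presheaf.stalk x) (hV.primeIdealOf ⟨x, hxV⟩).asIdeal := hV.isLocalization_stalk ⟨x, hxV⟩
  haveI hly : IsLocalization.AtPrime (X.presheaf.stalk y) (hV.primeIdealOf ⟨y, hyV⟩).asIdeal := hV.isLocalization_stalk ⟨y, hyV⟩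
  let p := (hV.primeIdealOf ⟨x, hxV⟩).asIdeal
  let q := (hV.primeIdealOf ⟨y, hyV⟩).asIdeal
  have hpq : p ≤ q := by
    refine (PrimeSpectrum.le_iff_specializes (hV.primeIdealOf ⟨x, hxV⟩) (hV.primeIdealOf ⟨y, hyV⟩)).2 ?_
    refine hV.fromSpec.isOpenEmbedding.isInducing.specializes_iff.1 ?_
    rw [hV.fromSpec_primeIdealOf, hV.fromSpec_primeIdealOf]
    exact hxy
  haveI h1 : IsLocalization (p.primeCompl.map (algebraMap Γ(X, V) (X.presheaf.stalk y))) (X.presheaf.stalk x) :=
    IsLocalization.isLocalization_of_submonoid_le (X.presheaf.stalk y) (X.presheaf.stalk x) q.primeCompl p.primeCompl (fun r hr hp => hr (hpq hp))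
  let P := (IsLocalRing.maximalIdeal (X.presheaf.stalk x)).comap (algebraMap (X.presheaf.stalk y) (X.presheaf.stalk x))
  haveI : IsLocalization.AtPrime (X.presheaf.stalk x) P := by
    refine IsLocalization.of_le (p.primeCompl.map (algebraMap Γ(X, V) (X.presheaf.stalk y))) _ ?_ ?_
    · rintro _ ⟨r, hr, rfl⟩
      intro hP
      have hu : IsUnit (algebraMap Γ(X, V) (X.presheaf.stalk x) r) := IsLocalization.map_units (X.presheaf.stalk x) (⟨r, hr⟩ : p.primeCompl)
      rw [IsScalarTower.algebraMap_apply Γ(X, V) (X.presheaf.stalk y)] at hu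
      exact hP hu
    · intro r hr
      exact Classical.not_not.1 hr
  haveI := h y hc
  exact RegLocal.regular_localization P (X.presheaf.stalk x)

end Groth.Agent.S9807
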