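import Groth.Statements.S9821
import Mathlib
import Groth.Prelude.Def_Pi1

set_option autoImplicit false
universe u
open CategoryTheory CategoryTheory.Limits AlgebraicGeometry TopologicalSpace Opposite
open Props

namespace Groth.Agent.S9821
open AlgebraicGeometry CategoryTheory

/-- An integral scheme is normal if and only if the coordinate ring of every nonempty affine open is an
integrally closed domain. -/
theorem result (X : Scheme.{u}) [IsIntegral X] :
    Pi1.IsNormalScheme X ↔ ∀ (U : X.Opens) [Nonempty U], IsAffineOpen U → IsIntegrallyClosed Γ(X, U) := by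
  constructor
  · intro h U _ hU
    haveI : Nonempty (U : Scheme) := ‹Nonempty U›
    haveI : IsDomain Γ(X, U) := inferInstance
    refine IsIntegrallyClosed.of_localization_maximal fun P _ hP => ?_
    let y : PrimeSpectrum Γ(X, U) := ⟨P, hP.isPrime⟩
    have hm : hU.fromSpec y ∈ U := by rw [← SetLike.mem_coe, ← hU.range_fromSpec]; exact ⟨_, rfl⟩
    letI := TopCat.Presheaf.algebra_section_stalk X.presheaf (⟨hU.fromSpec y, hm⟩ : U)
    haveI : IsLocalization P.primeCompl (X.presheaf.stalk (hU.fromSpec y)) := hU.isLocalization_stalk' y hm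
    haveI := (h (hU.fromSpec y)).2
    exact IsIntegrallyClosed.of_equiv (IsLocalization.algEquiv P.primeCompl (X.presheaf.stalk (hU.fromSpec y)) (Localization.AtPrime P)).toRingEquiv
  · intro h x
    obtain ⟨_, ⟨U, hU, rfl⟩, hxU, -⟩ := X.isBasis_affineOpens.exists_subset_of_mem_open (Set.mem_univ x) isOpen_univ
    haveI : Nonempty U := ⟨⟨x, hxU⟩⟩
    haveI := h U hU
    haveI : IsDomain Γ(X, U) := inferInstance
    letI := TopCat.Presheaf.algebra_section_stalk X.presheaf (⟨x, hxU⟩ : U)
    haveI := hU.isLocalization_stalk ⟨x, hxU⟩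
    haveI : IsDomain (X.presheaf.stalk x) := IsLocalization.isDomain_of_le_nonZeroDivisors _ (hU.primeIdealOf ⟨x, hxU⟩).asIdeal.primeCompl_le_nonZeroDivisors
    exact ⟨inferInstance, isIntegrallyClosed_of_isLocalization _ (hU.primeIdealOf ⟨x, hxU⟩).asIdeal.primeCompl (Ideal.primeCompl_le_nonZeroDivisors _)⟩

end Groth.Agent.S9821
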