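import Groth.Statements.S9826
import Groth.Agent.Lib.LQFin

set_option autoImplicit false
set_option backward.isDefEq.respectTransparency.types false
set_option linter.all false
universe u
open CategoryTheory CategoryTheory.Limits AlgebraicGeometry TopologicalSpace Opposite
open Props

namespace Groth.Agent.S9826

/-- The sheaf associated to a module over a ring is of finite type on the spectrum if and only if the
module is finitely generated. -/
theorem result (R : CommRingCat.{u}) (M : ModuleCat.{u} R) :
    CohB1.IsFT (tilde M) ↔ Module.Finite R M := by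
  constructor
  · intro h
    haveI := h
    haveI h1 : Module.Finite Γ(Spec R, ⊤) Γ(tilde M, ⊤) := Groth.Agent.LQcoh.finite_sections (tilde M) (isAffineOpen_top _)
    haveI : IsScalarTower R Γ(Spec R, ⊤) Γ(tilde M, ⊤) := inferInstance
    haveI : Module.Finite R Γ(Spec R, ⊤) := Module.Finite.of_surjective (Algebra.linearMap R Γ(Spec R, ⊤)) (ConcreteCategory.bijective_of_isIso (Scheme.ΓSpecIso R).inv).2
    haveI : Module.Finite R Γ(tilde M, ⊤) := Module.Finite.trans Γ(Spec R, ⊤) _
    haveI : Module.Finite R ((modulesSpecToSheaf.obj (tilde M)).presheaf.obj (.op ⊤)) := ‹Module.Finite R Γ(tilde M, ⊤)›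
    exact Module.Finite.equiv (tilde.isoTop M).toLinearEquiv.symm
  · intro h
    haveI h0 : Module.Finite R Γ(tilde M, ⊤) := Module.Finite.equiv (tilde.isoTop M).toLinearEquiv
    haveI : IsScalarTower R Γ(Spec R, ⊤) Γ(tilde M, ⊤) := inferInstance
    haveI : Module.Finite Γ(Spec R, ⊤) Γ(tilde M, ⊤) := Module.Finite.of_restrictScalars_finite R _ _
    exact Groth.Agent.LQcoh.isFiniteType_of_finite (tilde M) (fun _ : PUnit.{u+1} => (⊤ : (Spec R).Opens)) (fun _ => isAffineOpen_top _) (by simp) (fun _ => inferInstance)

end Groth.Agent.S9826
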