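import Groth.Statements.S9832
import Groth.Agent.Lib.H4NoethTop

set_option autoImplicit false
set_option linter.all false
universe u
open Props

namespace Groth.Agent.S9832

/-- For a Noetherian ring R and an ideal I inside the Jacobson radical of R, the complement of V(I) in
Spec R is a Jacobson topological space. -/
theorem result (R : Type u) [CommRing R] [IsNoetherianRing R]
    (I : Ideal R) (hI : I ≤ (⊥ : Ideal R).jacobson) :
    JacobsonSpace ↥((PrimeSpectrum.zeroLocus (I : Set R))ᶜ) := by
  rw [jacobsonSpace_iff_locallyClosed]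
  intro Z hne hZ
  let U : Set (PrimeSpectrum R) := (PrimeSpectrum.zeroLocus (I : Set R))ᶜ
  have hU : IsOpen U := (PrimeSpectrum.isClosed_zeroLocus _).isOpen_compl
  let Z' : Set (PrimeSpectrum R) := Subtype.val '' Z
  have hZ' : IsLocallyClosed Z' := hZ.image Topology.IsInducing.subtypeVal (by rw [Subtype.range_coe]; exact hU.isLocallyClosed)
  haveI : IsNoetherianRing (CommRingCat.of R) := ‹IsNoetherianRing R›
  obtain ⟨p, ⟨x, hx, rfl⟩, hlc⟩ := H4NoethTop.exists_locallyClosed_point (X := AlgebraicGeometry.Spec (CommRingCat.of R)) (Z := Z') hZ' (hne.image _)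
  refine ⟨x, hx, ?_⟩
  show IsClosed ({x} : Set _)
  have hlc' : IsLocallyClosed ({(x : PrimeSpectrum R)} : Set (PrimeSpectrum R)) := hlc
  rw [← closure_subset_iff_isClosed]
  intro y hy
  have hsp : (x : PrimeSpectrum R) ⤳ (y : PrimeSpectrum R) := by
    have : x ⤳ y := specializes_iff_mem_closure.2 hy
    exact this.map continuous_subtype_val
  rcases eq_or_lt_of_le ((PrimeSpectrum.le_iff_specializes _ _).2 hsp) with e | e
  · exact Subtype.ext e.symm
  · exfalso
    refine y.2 ((PrimeSpectrum.mem_zeroLocus _ _).2 (hI.trans ((Ideal.jacobson_mono bot_le).trans (le_of_eq (@Ideal.jacobson_eq_self_of_isMaximal _ _ _ ?_)))))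
    exact PrimeSpectrum.isMax_iff.1 (H4NoethTop.isMax_of_gt hlc' e)

end Groth.Agent.S9832
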