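import Groth.Statements.S9833
import Groth.Agent.Lib.H6.NagataLoc
import Groth.Agent.S9400

set_option autoImplicit false
set_option linter.all false
universe u
open CategoryTheory AlgebraicGeometry TopologicalSpace
open Props

namespace Groth.Agent.S9833

/-- If a scheme has an affine open covering by spectra of Nagata rings, then the coordinate ring of
every affine open is Nagata. -/
theorem result (X : Scheme.{u}) {ι : Type u} (U : ι → X.Opens)
    (hU : iSup U = ⊤) (haff : ∀ i, IsAffineOpen (U i)) (hN : ∀ i, CAlg.IsNagata Γ(X, U i))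
    (V : X.Opens) (hV : IsAffineOpen V) : CAlg.IsNagata Γ(X, V) := by
  refine AlgebraicGeometry.of_affine_open_cover (P := fun W : X.affineOpens => CAlg.IsNagata Γ(X, W.1)) (fun i => (⟨U i, haff i⟩ : X.affineOpens)) hU ⟨V, hV⟩ (fun W f h => ?_) (fun W s hs h => ?_) hN
  · haveI := W.2.isLocalization_basicOpen f
    show CAlg.IsNagata Γ(X, X.basicOpen f)
    exact H6.NagataLoc.isNagata_localization (Submonoid.powers f) _ h
  · refine S9400.result Γ(X, W.1) (fun f : s => (f : Γ(X, W.1))) (by simpa using hs) fun f => ?_
    haveI := W.2.isLocalization_basicOpen f.1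
    exact H6.NagataLoc.isNagata_ringEquiv (IsLocalization.algEquiv (Submonoid.powers f.1) Γ(X, X.basicOpen f.1) (Localization.Away f.1)).toRingEquiv (h f)

end Groth.Agent.S9833
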