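import Groth.Statements.S9834
import Groth.Agent.Lib.H6.NagataLoc
import Groth.Agent.S9399

set_option autoImplicit false
set_option linter.all false
universe u
open CategoryTheory AlgebraicGeometry TopologicalSpace
open Props

namespace Groth.Agent.S9834

/-- If a scheme has an affine open covering by spectra of universally Japanese rings, then the
coordinate ring of every affine open is universally Japanese. -/
theorem result (X : Scheme.{u}) {ι : Type u} (U : ι → X.Opens)
    (hU : iSup U = ⊤) (haff : ∀ i, IsAffineOpen (U i)) (hJ : ∀ i, CAlg.IsUniversallyJapanese Γ(X, U i))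
    (V : X.Opens) (hV : IsAffineOpen V) : CAlg.IsUniversallyJapanese Γ(X, V) := by
  refine AlgebraicGeometry.of_affine_open_cover (P := fun W : X.affineOpens => CAlg.IsUniversallyJapanese Γ(X, W.1)) (fun i => (⟨U i, haff i⟩ : X.affineOpens)) hU ⟨V, hV⟩ (fun W f h => ?_) (fun W s hs h => ?_) hJ
  · haveI := W.2.isLocalization_basicOpen f
    show CAlg.IsUniversallyJapanese Γ(X, X.basicOpen f)
    haveI : Algebra.FiniteType Γ(X, W.1) Γ(X, X.basicOpen f) := by
      haveI : Algebra.FinitePresentation Γ(X, W.1) Γ(X, X.basicOpen f) := IsLocalization.Away.finitePresentation f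
      infer_instance
    exact H6.NagataLoc.isUJ_localization (Submonoid.powers f) _ h
  · refine S9399.result Γ(X, W.1) (fun f : s => (f : Γ(X, W.1))) (by simpa using hs) fun f => ?_
    haveI := W.2.isLocalization_basicOpen f.1
    exact H6.NagataLoc.isUJ_ringEquiv (IsLocalization.algEquiv (Submonoid.powers f.1) Γ(X, X.basicOpen f.1) (Localization.Away f.1)).toRingEquiv (h f)

end Groth.Agent.S9834
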