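import Groth.Statements.S9835
import Groth.Agent.Lib.JapaneseLocal

set_option autoImplicit false
set_option linter.all false
universe u
open CategoryTheory AlgebraicGeometry TopologicalSpace
open Props

namespace Groth.Agent.S9835

/-- If an integral scheme has an affine open covering by spectra of Japanese (N-2) domains, then the
coordinate ring of every nonempty affine open is a Japanese domain. -/
theorem result (X : Scheme.{u}) [IsIntegral X] {ι : Type u}
    (U : ι → X.Opens) [∀ i, Nonempty (U i)] (hU : iSup U = ⊤) (haff : ∀ i, IsAffineOpen (U i))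
    (hJ : ∀ i, CAlg.IsN2 Γ(X, U i)) (V : X.Opens) [Nonempty V] (hV : IsAffineOpen V) :
    CAlg.IsN2 Γ(X, V) := by
  refine AlgebraicGeometry.of_affine_open_cover (P := fun W : X.affineOpens => ∀ [Nonempty W.1], CAlg.IsN2 Γ(X, W.1)) (fun i => (⟨U i, haff i⟩ : X.affineOpens)) hU ⟨V, hV⟩ (fun W f h => ?_) (fun W s hs h => ?_) (fun i => hJ i)
  · intro hne
    haveI hW : Nonempty W.1 := hne.map fun x => ⟨x.1, X.basicOpen_le f x.2⟩
    haveI := W.2.isLocalization_basicOpen f
    haveI : Nonempty (X.basicOpen f) := hne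
    exact S9392.result Γ(X, W.1) (Submonoid.powers f) Γ(X, X.basicOpen f) h
  · intro hne
    refine JapaneseLocal.n2_of_cover (fun f : s => (f : Γ(X, W.1))) (by simpa using hs) fun f hf => ?_
    intro _
    haveI := W.2.isLocalization_basicOpen f.1
    haveI hb : Nonempty (X.basicOpen f.1) := by
      have : X.basicOpen f.1 ≠ ⊥ := fun e => hf (basicOpen_eq_bot_iff f.1 |>.1 e)
      obtain ⟨x, hx⟩ := (TopologicalSpace.Opens.ne_bot_iff_nonempty _).1 this
      exact ⟨⟨x, hx⟩⟩
    haveI : Nonempty (X.affineBasicOpen f.1).1 := hb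
    exact JapaneseLocal.n2_of_ringEquiv (IsLocalization.algEquiv (Submonoid.powers f.1) Γ(X, X.basicOpen f.1) (Localization.Away f.1)).toRingEquiv (h f)

end Groth.Agent.S9835
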