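import Groth.Statements.S9841
import Groth.Agent.Lib.H6.EtaleReduced
import Mathlib.RingTheory.LocalProperties.Reduced

set_option autoImplicit false
set_option linter.all false
open CategoryTheory CategoryTheory.Limits AlgebraicGeometry Opposite
universe u
open Desc

namespace Groth.Agent.S9841

/-- Being reduced is local in the smooth topology: for a jointly surjective family of smooth morphisms f
i : X i ⟶ S, the scheme S is reduced if and only if every X i is reduced. -/
theorem result {ι : Type u} {S : Scheme.{u}} {X : ι → Scheme.{u}} (f : ∀ i, X i ⟶ S)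
    (hf : Presieve.ofArrows X f ∈ Scheme.precoverage @Smooth S) :
    IsReduced S ↔ ∀ i, IsReduced (X i) := by
  rw [AlgebraicGeometry.Scheme.ofArrows_mem_precoverage_iff] at hf
  obtain ⟨hsurj, hsm⟩ := hf
  constructor
  · intro hS i
    haveI := hsm i
    haveI : ∀ x : X i, _root_.IsReduced ((X i).presheaf.stalk x) := fun x => by
      obtain ⟨W, hW, hxW, -⟩ := exists_isAffineOpen_mem_and_subset (X := S) (x := f i x) (U := ⊤) trivial
      obtain ⟨U, hU, hxU, hUW⟩ := exists_isAffineOpen_mem_and_subset (X := X i) (x := x) (U := f i ⁻¹ᵁ W) hxW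
      letI := ((f i).appLE W U hUW).hom.toAlgebra
      haveI : Algebra.Smooth Γ(S, W) Γ(X i, U) := (f i).smooth_appLE hW hU hUW
      haveI : _root_.IsReduced Γ(X i, U) := H6.EtaleReduced.isReduced_of_smooth Γ(S, W) _
      letI := TopCat.Presheaf.algebra_section_stalk (X i).presheaf ⟨x, hxU⟩
      haveI := hU.isLocalization_stalk ⟨x, hxU⟩
      exact isReduced_localizationPreserves (hU.primeIdealOf ⟨x, hxU⟩).asIdeal.primeCompl ((X i).presheaf.stalk x) inferInstance
    exact isReduced_of_isReduced_stalk _
  · intro hX
    haveI : ∀ s : S, _root_.IsReduced (S.presheaf.stalk s) := fun s => by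
      obtain ⟨i, x, rfl⟩ := hsurj s
      haveI := hsm i
      haveI := hX i
      refine isReduced_of_injective ((f i).stalkMap x).hom ?_
      letI := ((f i).stalkMap x).hom.toAlgebra
      haveI : Module.FaithfullyFlat (S.presheaf.stalk (f i x)) ((X i).presheaf.stalk x) :=
        @Module.FaithfullyFlat.of_flat_of_isLocalHom _ _ _ _ _ _ _ (Flat.stalkMap (f i) x) ((f i).toLRSHom.prop x)
      exact FaithfulSMul.algebraMap_injective (S.presheaf.stalk (f i x)) ((X i).presheaf.stalk x)
    exact isReduced_of_isReduced_stalk _

end Groth.Agent.S9841
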