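import Groth.Statements.S9842
import Groth.Agent.S4664
import Groth.Prelude.Def_CurvBase
import Mathlib

set_option autoImplicit false
open CategoryTheory CategoryTheory.Limits AlgebraicGeometry Opposite
universe u
open Desc

namespace Groth.Agent.S9842
open CategoryTheory CategoryTheory.Limits AlgebraicGeometry

/-- Let E/k be a field extension, Y a scheme over k and f : X ⟶ Y a morphism. Writing Y_E = Y ×_k Spec
E, the morphism f is dominant if and only if its base change X ×_Y Y_E ⟶ Y_E is dominant. -/
theorem result {k E : Type u} [Field k] [Field E] [Algebra k E]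
    {X Y : Scheme.{u}} (f : X ⟶ Y) (q : Y ⟶ Spec (.of k)) :
    IsDominant f ↔
      IsDominant (pullback.snd f (pullback.fst q (Spec.map (CommRingCat.ofHom (algebraMap k E))))) := by
  open CategoryTheory CategoryTheory.Limits in
  haveI : Surjective (Spec.map (CommRingCat.ofHom (algebraMap k E))) := ⟨fun a => ⟨Classical.arbitrary _, Subsingleton.elim _ _⟩⟩
  let p := pullback.fst q (Spec.map (CommRingCat.ofHom (algebraMap k E)))
  haveI : UniversallyOpen p := inferInstance
  have hr : Set.range (pullback.snd f p) = p ⁻¹' Set.range f := Scheme.Pullback.range_snd f p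
  constructor
  · intro hf
    refine ⟨?_⟩
    show Dense (Set.range (pullback.snd f p))
    rw [hr]
    exact f.denseRange.preimage p.isOpenMap
  · intro hf
    refine ⟨?_⟩
    have h1 : DenseRange (pullback.snd f p) := (pullback.snd f p).denseRange
    have h2 : Dense (p '' Set.range (pullback.snd f p)) := p.surjective.denseRange.dense_image p.continuous h1
    refine h2.mono ?_
    rw [hr]
    exact Set.image_preimage_subset _ _

end Groth.Agent.S9842
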