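import Groth.Statements.S9844
import Groth.Agent.Lib.H3SourceFppf

set_option autoImplicit false
open CategoryTheory CategoryTheory.Limits AlgebraicGeometry Opposite
universe u
open Desc

namespace Groth.Agent.S9844

/-- Being locally of finite type is fppf local on the source: for every fppf covering family g i : X i ⟶
X, a morphism f : X ⟶ Y is locally of finite type if and only if every composite g i ≫ f is. -/
theorem result :
    MorphismProperty.IsLocalAtSource (@LocallyOfFiniteType : MorphismProperty Scheme.{u}) Scheme.fppfPrecoverage := by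
  haveI : MorphismProperty.RespectsIso (@LocallyOfFiniteType : MorphismProperty Scheme.{u}) := inferInstance
  refine { comp := ?_, of_forall_comp := ?_ }
  · intro X Y f R hR U g hg hf
    haveI : LocallyOfFinitePresentation g := (hR.2 hg).2
    exact MorphismProperty.comp_mem @LocallyOfFiniteType g f inferInstance hf
  · intro X Y f R hR h
    obtain ⟨𝒱, hR'⟩ := R.exists_eq_preZeroHypercover
    subst hR'
    have hsurj : ∀ x : X, ∃ (A : Scheme.{u}) (k : A ⟶ X), 𝒱.presieve₀ k ∧ x ∈ Set.range k := fun x => by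
      obtain ⟨i, hi⟩ := ((Scheme.ofArrows_mem_precoverage_iff _ (f := 𝒱.f)).mp hR).1 x
      exact ⟨_, _, ⟨i⟩, hi⟩
    choose A k hk hx using hsurj
    let 𝒰 : PreZeroHypercover.{u} X := ⟨X, A, k⟩
    haveI : ∀ i, LocallyOfFinitePresentation (𝒰.f i) := fun i => (hR.2 (hk i)).2
    haveI : ∀ i, Flat (𝒰.f i) := fun i => (hR.2 (hk i)).1
    let d := Limits.Sigma.desc 𝒰.f
    have hd : ∀ i, Limits.Sigma.ι 𝒰.X i ≫ d = 𝒰.f i := Limits.Sigma.ι_desc _
    haveI : Flat d := (IsZariskiLocalAtSource.iff_of_openCover (P := @Flat) (sigmaOpenCover _)).2 fun i => by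
      change Flat (Limits.Sigma.ι 𝒰.X i ≫ d); rw [hd]; infer_instance
    haveI : LocallyOfFinitePresentation d := (IsZariskiLocalAtSource.iff_of_openCover (P := @LocallyOfFinitePresentation) (sigmaOpenCover _)).2 fun i => by
      change LocallyOfFinitePresentation (Limits.Sigma.ι 𝒰.X i ≫ d); rw [hd]; infer_instance
    haveI : Surjective d := ⟨fun x => by
      obtain ⟨w, hw⟩ := hx x
      exact ⟨Limits.Sigma.ι 𝒰.X x w, by rw [← Scheme.Hom.comp_apply, hd]; exact hw⟩⟩
    haveI : LocallyOfFiniteType (d ≫ f) := (IsZariskiLocalAtSource.iff_of_openCover (P := @LocallyOfFiniteType) (sigmaOpenCover _)).2 fun i => by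
      change LocallyOfFiniteType (Limits.Sigma.ι 𝒰.X i ≫ d ≫ f); rw [← Category.assoc, hd]; exact h (hk i)
    exact Agent.H3SourceFppf.lft_descend d f

end Groth.Agent.S9844
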