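import Groth.Statements.S9847
import Groth.Agent.Lib.SourceDescent

set_option autoImplicit false
set_option backward.isDefEq.respectTransparency.types false
open CategoryTheory CategoryTheory.Limits AlgebraicGeometry Opposite
universe u
open Desc

namespace Groth.Agent.S9847

/-- Being etale is etale local on the source: for every etale covering family g i : X i ⟶ X (etale,
jointly surjective), a morphism f : X ⟶ Y is etale if and only if every composite g i ≫ f is. -/
theorem result :
    MorphismProperty.IsLocalAtSource (@Etale : MorphismProperty Scheme.{u}) Scheme.etalePrecoverage := by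
  refine { (inferInstance : MorphismProperty.RespectsIso (@Etale : MorphismProperty Scheme.{u})) with comp := ?_, of_forall_comp := ?_ }
  · intro X Y f R hR U g hg hf
    have : Etale g := hR.2 hg
    have : Etale f := hf
    exact inferInstanceAs (Etale (g ≫ f))
  · intro X Y f R hR h
    obtain ⟨ι, Z, g, rfl⟩ := R.exists_eq_ofArrows
    have hR' := (Scheme.ofArrows_mem_precoverage_iff (P := @Etale)).1 hR
    choose i hi using hR'.1
    let d : (∐ fun x : X => Z (i x)) ⟶ X := Sigma.desc fun x => g (i x)
    have hd : ∀ x, Sigma.ι (fun x => Z (i x)) x ≫ d = g (i x) := Sigma.ι_desc _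
    have : Etale d := (IsZariskiLocalAtSource.iff_of_openCover (P := @Etale) (sigmaOpenCover _)).2 fun x => by
      change Etale (Sigma.ι (fun x => Z (i x)) x ≫ d)
      rw [hd]
      exact hR'.2 _
    have : Surjective d := ⟨fun x => by
      obtain ⟨z, hz⟩ := hi x
      exact ⟨Sigma.ι (fun x => Z (i x)) x z, by rw [← Scheme.Hom.comp_apply, hd, hz]⟩⟩
    have : Etale (d ≫ f) :=
      (IsZariskiLocalAtSource.iff_of_openCover (P := @Etale) (sigmaOpenCover _)).2 fun x => by
        change Etale (Sigma.ι (fun x => Z (i x)) x ≫ d ≫ f)
        rw [← Category.assoc, hd]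
        exact h ⟨i x⟩
    exact SourceDescent.etale_of_etale' d f

end Groth.Agent.S9847
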