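import Groth.Statements.S9886
import Groth.Agent.Lib.AlgSpFppf

set_option autoImplicit false
set_option backward.isDefEq.respectTransparency.types false
universe u
open CategoryTheory CategoryTheory.Limits AlgebraicGeometry
open AlgSp

namespace Groth.Agent.S9886

/-- Let `F` be an fppf sheaf of sets over `S` and `P` a property of morphisms of schemes stable under
base change. Assume that for all schemes `U`, `V` over `S` and all `a : h_U ⟶ F`, `b : h_V ⟶ F` the
fibre product `h_U ×_F h_V` is represented by some scheme `W` over `S` with its projections induced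
by morphisms `W ⟶ U`, `W ⟶ V`, and that for every such represented fibre product the morphism `W ⟶ U
×_S V` has `P`. Then the diagonal `F ⟶ F × F` is representable by schemes and has `P`. (The
published statement is for a presheaf of sets `F` and a property `P` that is also fppf local on the
base; this row takes `F` an fppf sheaf and `P` only stable under base change.) -/
theorem result (S : Scheme.{u}) (F : AlgSp.Sp S) (P : MorphismProperty Scheme.{u})
    [P.IsStableUnderBaseChange]
    (h₁ : ∀ ⦃U V : Over S⦄ (a : (AlgSp.yon S).obj U ⟶ F) (b : (AlgSp.yon S).obj V ⟶ F),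
      ∃ (W : Over S) (fst : W ⟶ U) (snd : W ⟶ V), IsPullback ((AlgSp.yon S).map fst) ((AlgSp.yon S).map snd) a b)
    (h₂ : ∀ ⦃U V W : Over S⦄ (a : (AlgSp.yon S).obj U ⟶ F) (b : (AlgSp.yon S).obj V ⟶ F) (fst : W ⟶ U)
      (snd : W ⟶ V), IsPullback ((AlgSp.yon S).map fst) ((AlgSp.yon S).map snd) a b → P (prod.lift fst snd).left) :
    AlgSp.RepWith P (Limits.diag F) := by
  have hrep : AlgSp.Representable (Limits.diag F) :=
    Functor.relativelyRepresentable.diag_of_map_from_obj fun U g V b => by
      obtain ⟨W, fst, snd, sq⟩ := h₁ g b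
      exact ⟨W, snd, (AlgSp.yon S).map fst, sq⟩
  refine ASp.repWith_of_forall hrep fun T V g fst snd sq => ?_
  obtain ⟨W, w₁, w₂, sqW⟩ := h₁ (g ≫ prod.fst) (g ≫ prod.snd)
  have hP : P (prod.lift w₁ w₂).left := h₂ _ _ _ _ sqW
  let W' := pullback (prod.lift w₁ w₂) (Limits.diag T)
  let p₁ : W' ⟶ W := pullback.fst _ _
  let p₂ : W' ⟶ T := pullback.snd _ _
  have sq' : IsPullback ((AlgSp.yon S).map p₁) ((AlgSp.yon S).map p₂) ((AlgSp.yon S).map (prod.lift w₁ w₂))
      ((AlgSp.yon S).map (Limits.diag T)) := (AlgSp.yon S).map_isPullback (IsPullback.of_hasPullback _ _)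
  have e₁ : p₁ ≫ w₁ = p₂ := by
    have := congrArg (fun k => k ≫ prod.fst) (pullback.condition (f := prod.lift w₁ w₂) (g := Limits.diag T))
    simp only [Limits.diag, Category.assoc, prod.lift_fst, Category.comp_id] at this
    exact this
  have e₂ : p₁ ≫ w₂ = p₂ := by
    have := congrArg (fun k => k ≫ prod.snd) (pullback.condition (f := prod.lift w₁ w₂) (g := Limits.diag T))
    simp only [Limits.diag, Category.assoc, prod.lift_snd, Category.comp_id] at this
    exact this
  have hw : ((AlgSp.yon S).map p₂ ≫ g ≫ prod.fst) ≫ Limits.diag F = (AlgSp.yon S).map p₂ ≫ g := by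
    apply prod.hom_ext
    · simp only [Limits.diag, Category.assoc]
      rw [prod.lift_fst]
      simp
    · have := congrArg (fun k => (AlgSp.yon S).map p₁ ≫ k) sqW.w
      simp only [← Functor.map_comp_assoc, e₁, e₂] at this
      simp only [Limits.diag, Category.assoc]
      rw [prod.lift_snd]
      simpa using this
  have c₁ : ∀ s : PullbackCone (Limits.diag F) g, s.snd ≫ g ≫ prod.fst = s.fst := fun s => by
    have := congrArg (fun k => k ≫ prod.fst) s.condition.symm
    simp only [Limits.diag, Category.assoc] at this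
    rw [prod.lift_fst] at this
    simpa using this
  have c₂ : ∀ s : PullbackCone (Limits.diag F) g, s.snd ≫ g ≫ prod.snd = s.fst := fun s => by
    have := congrArg (fun k => k ≫ prod.snd) s.condition.symm
    simp only [Limits.diag, Category.assoc] at this
    rw [prod.lift_snd] at this
    simpa using this
  let l := fun s : PullbackCone (Limits.diag F) g => sqW.lift s.snd s.snd (by rw [c₁, c₂])
  have hl : ∀ s, l s ≫ (AlgSp.yon S).map (prod.lift w₁ w₂) = s.snd ≫ (AlgSp.yon S).map (Limits.diag T) :=
    fun s => by
      apply ASp.yon_prod_hom_ext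
      · rw [Category.assoc, Category.assoc, ← Functor.map_comp, ← Functor.map_comp, prod.lift_fst, prod.lift_fst,
          sqW.lift_fst, CategoryTheory.Functor.map_id, Category.comp_id]
      · rw [Category.assoc, Category.assoc, ← Functor.map_comp, ← Functor.map_comp, prod.lift_snd, prod.lift_snd,
          sqW.lift_snd, CategoryTheory.Functor.map_id, Category.comp_id]
  have sq2 : IsPullback ((AlgSp.yon S).map p₂ ≫ g ≫ prod.fst) ((AlgSp.yon S).map p₂) (Limits.diag F) g :=
    ⟨⟨hw⟩, ⟨PullbackCone.IsLimit.mk hw (fun s => sq'.lift (l s) s.snd (hl s))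
      (fun s => by rw [← Category.assoc, sq'.lift_snd, c₁])
      (fun s => sq'.lift_snd _ _ _)
      fun s m _ h₂' => sq'.hom_ext (sqW.hom_ext
        (by rw [sq'.lift_fst, sqW.lift_fst, Category.assoc, ← Functor.map_comp, e₁, h₂'])
        (by rw [sq'.lift_fst, sqW.lift_snd, Category.assoc, ← Functor.map_comp, e₂, h₂']))
        (by rw [sq'.lift_snd, h₂'])⟩⟩
  let e := (AlgSp.yon S).preimageIso (sq.isoIsPullback _ _ sq2)
  have he : e.hom ≫ p₂ = snd := ASp.map_cancel (by
    rw [Functor.map_comp, Functor.preimageIso_hom, Functor.map_preimage, IsPullback.isoIsPullback_hom_snd])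
  have hp₂ : P p₂.left :=
    P.of_isPullback (((IsPullback.of_hasPullback (prod.lift w₁ w₂) (Limits.diag T))).map (Over.forget S)) hP
  rw [← he]
  have := MorphismProperty.IsStableUnderBaseChange.respectsIso (P := P)
  exact (P.cancel_left_of_respectsIso ((Over.forget S).map e.hom) _).2 hp₂

end Groth.Agent.S9886
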