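import Groth.Statements.S9902
import Groth.Agent.Lib.AlgSpDiag

set_option autoImplicit false
set_option backward.isDefEq.respectTransparency.types false
universe u
open CategoryTheory CategoryTheory.Limits AlgebraicGeometry
open AlgSp

namespace Groth.Agent.S9902

/-- Let s be a section of a morphism f : X -> T of algebraic spaces. Then s is representable by schemes
and, in the representable sense, a separated monomorphism that is locally of finite type and locally
quasi-finite; when f is separated s is a closed immersion, and when f is quasi-separated s is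
quasi-compact. (The published lemma also shows that s is an immersion when f is locally separated;
this row omits that clause.) -/
theorem result {S : Scheme.{u}} {X T : AlgSp.Space S} (f : X ⟶ T) (s : T ⟶ X)
    (hs : s ≫ f = 𝟙 T) :
    AlgSp.Representable s.hom ∧
    AlgSp.RepWith @LocallyOfFiniteType s.hom ∧
    AlgSp.RepWith (@LocallyQuasiFinite ⊓ @LocallyOfFiniteType) s.hom ∧
    AlgSp.RepWith @IsSeparated s.hom ∧
    AlgSp.RepWith (MorphismProperty.monomorphisms Scheme.{u}) s.hom ∧
    (AlgSp.IsSeparatedMor f.hom → AlgSp.RepWith @IsClosedImmersion s.hom) ∧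
    (AlgSp.IsQuasiSeparatedMor f.hom → AlgSp.RepWith @QuasiCompact s.hom) := by
  have hs' : s.hom ≫ f.hom = 𝟙 T.obj := congrArg (·.hom) hs
  have sq : IsPullback s.hom s.hom (pullback.diagonal f.hom)
      (pullback.lift (f.hom ≫ s.hom) (𝟙 X.obj) (by rw [Category.assoc, hs', Category.comp_id, Category.id_comp])) := by
    have hw : s.hom ≫ pullback.diagonal f.hom = s.hom ≫
        pullback.lift (f.hom ≫ s.hom) (𝟙 X.obj) (by rw [Category.assoc, hs', Category.comp_id, Category.id_comp]) := by
      apply pullback.hom_ext
      · rw [Category.assoc, Category.assoc, pullback.diagonal_fst, pullback.lift_fst, Category.comp_id,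
          reassoc_of% hs']
      · rw [Category.assoc, Category.assoc, pullback.diagonal_snd, pullback.lift_snd]
    have key : ∀ c : PullbackCone (pullback.diagonal f.hom) (pullback.lift (f.hom ≫ s.hom) (𝟙 X.obj)
        (by rw [Category.assoc, hs', Category.comp_id, Category.id_comp])),
        c.fst = c.snd ≫ f.hom ≫ s.hom ∧ c.fst = c.snd := fun c => by
      constructor
      · have := c.condition =≫ pullback.fst f.hom f.hom
        simp only [Category.assoc, pullback.diagonal_fst, pullback.lift_fst, Category.comp_id] at this
        exact this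
      · have := c.condition =≫ pullback.snd f.hom f.hom
        simp only [Category.assoc, pullback.diagonal_snd, pullback.lift_snd, Category.comp_id] at this
        exact this
    refine ⟨⟨hw⟩, ⟨PullbackCone.IsLimit.mk hw (fun c => c.snd ≫ f.hom) (fun c => ?_) (fun c => ?_)
      fun c m _ h₂ => ?_⟩⟩
    · exact (Category.assoc _ _ _).trans (key c).1.symm
    · exact (Category.assoc _ _ _).trans ((key c).1.symm.trans (key c).2)
    · calc m = m ≫ s.hom ≫ f.hom := (Category.comp_id _).symm.trans (congrArg (m ≫ ·) hs'.symm)
        _ = c.snd ≫ f.hom := by rw [← h₂]; exact (Category.assoc _ _ _).symm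
  obtain ⟨h₁, h₂, h₃, h₄, h₅⟩ := ASp.MonoLFT.props (ASp.repWith_baseChange sq (ASp.monoLFT_diagonal X.property f.hom))
  exact ⟨h₁, h₂, h₅, h₄, h₃, fun hs => ASp.repWith_baseChange sq hs, fun hs => ASp.repWith_baseChange sq hs⟩

end Groth.Agent.S9902
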