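import Groth.Statements.S9915
import Groth.Agent.Lib.AlgSpTop

set_option autoImplicit false
universe u
open CategoryTheory CategoryTheory.Limits AlgebraicGeometry
open AlgSp

namespace Groth.Agent.S9915

/-- In a commutative triangle of algebraic spaces with f : X -> Y surjective, if X -> Z is quasi-compact
then Y -> Z is quasi-compact. -/
theorem result {S : Scheme.{u}} {X Y Z : AlgSp.Space S} (f : X ⟶ Y)
    (p : X ⟶ Z) (q : Y ⟶ Z) (comm : f ≫ q = p) (hf : AlgSp.IsSurjectiveMor f.hom)
    (hp : AlgSp.IsQuasiCompactMor p.hom) : AlgSp.IsQuasiCompactMor q.hom := by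
  intro W W' hW hqc g fst snd sq
  have h1 := hp hW hqc g (pullback.fst p.hom g) (pullback.snd p.hom g) (IsPullback.of_hasPullback _ _)
  have hcomm : f.hom ≫ q.hom = p.hom := congrArg (·.hom) comm
  let m := sq.lift (pullback.fst p.hom g ≫ f.hom) (pullback.snd p.hom g)
    (by rw [Category.assoc, hcomm, pullback.condition])
  have hm : IsPullback m (pullback.fst p.hom g) fst f.hom :=
    (IsPullback.of_bot (v₂₁ := snd) (v₂₂ := q.hom) (h₃₁ := g)
      (by rw [sq.lift_snd, hcomm]; exact IsPullback.of_hasPullback _ _) (sq.lift_fst _ _ _).symm sq).flip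
  exact Groth.Agent.ASp.isQuasiCompactSp_of_cover
    (Groth.Agent.ASp.isAlgSpace_of_isPullback Z.property.diag sq Y.property hW) (κ := PUnit.{u+1})
    (fun _ => m) (fun _ => h1) fun x => ⟨⟨⟩, Groth.Agent.ASp.surjective_baseChange hm.flip hf x⟩

end Groth.Agent.S9915
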