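import Groth.Statements.S9916
import Groth.Agent.Lib.AlgSpTop

set_option autoImplicit false
set_option backward.isDefEq.respectTransparency.types false
universe u
open CategoryTheory CategoryTheory.Limits AlgebraicGeometry
open AlgSp

namespace Groth.Agent.S9916

/-- Quasi-compactness of a morphism of algebraic spaces descends along a universally open surjective
base change. -/
theorem result {S : Scheme.{u}} {X Y Y' X' : AlgSp.Space S}
    (f : X ⟶ Y) (g : Y' ⟶ Y) (fst : X' ⟶ X) (f' : X' ⟶ Y') (sq : IsPullback fst.hom f'.hom f.hom g.hom)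
    (hg : AlgSp.IsUnivOpenMor g.hom) (hgs : AlgSp.IsSurjectiveMor g.hom) (hf' : AlgSp.IsQuasiCompactMor f'.hom) :
    AlgSp.IsQuasiCompactMor f.hom := by
  refine ASp.isQuasiCompactMor_of_affine X.property Y.property fun Z hZ b P' s snd sqP => ?_
  have hs := IsPullback.of_hasPullback b g.hom
  have hAlg := ASp.isAlgSpace_pullback b g.hom (AlgSp.IsAlgSpace.yon_obj Z) Y'.property Y.property
  have hopen : AlgSp.IsOpenMor (pullback.fst b g.hom) := hg (AlgSp.IsAlgSpace.yon_obj Z) b _ _ hs.flip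
  have hsurj : AlgSp.IsSurjectiveMor (pullback.fst b g.hom) := ASp.surjective_baseChange hs.flip hgs
  obtain ⟨W, c, hce, hcs⟩ := hAlg.atlas
  have : CompactSpace Z.left := inferInstance
  let O : W.left.affineOpens → Set Z.left := fun V =>
    (AlgSp.Points.schemeHomeo Z).symm ''
      (AlgSp.Points.map (pullback.fst b g.hom) '' (AlgSp.Points.ofPt c '' (V.1 : Set W.left)))
  obtain ⟨t, ht⟩ := isCompact_univ.elim_finite_subcover O
    (fun V => (AlgSp.Points.schemeHomeo Z).symm.isOpenMap _ (hopen _ (ASp.isOpenMap_ofPt_of_etale hce _ V.1.2)))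
    (fun z _ => by
      obtain ⟨r, hr⟩ := hsurj (AlgSp.Points.schemeHomeo Z z)
      obtain ⟨w, rfl⟩ := ASp.surjective_ofPt_of_repWith hcs r
      obtain ⟨V, hV, hwV, -⟩ := exists_isAffineOpen_mem_and_subset (X := W.left) (x := w) (U := ⊤) trivial
      exact Set.mem_iUnion.2 ⟨⟨V, hV⟩, _, ⟨_, ⟨w, hwV, rfl⟩, rfl⟩, by rw [hr, Homeomorph.symm_apply_apply]⟩)
  let incl : ∀ V : W.left.affineOpens, Over.mk (V.1.ι ≫ W.hom) ⟶ W := fun V => Over.homMk V.1.ι
  let a : ∀ V : W.left.affineOpens, (AlgSp.yon S).obj (Over.mk (V.1.ι ≫ W.hom)) ⟶ pullback b g.hom :=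
    fun V => (AlgSp.yon S).map (incl V) ≫ c
  refine ASp.isQuasiCompactSp_of_cover
    (ASp.isAlgSpace_of_isPullback Y.property.diag sqP X.property (AlgSp.IsAlgSpace.yon_obj Z))
    (κ := (↑t : Set W.left.affineOpens)) (fun V => pullback.fst snd (a V.1 ≫ pullback.fst b g.hom))
    (fun V => ?_) fun x => ?_
  · have : IsAffine (V.1.1 : Scheme.{u}) := V.1.2
    have big := (IsPullback.of_hasPullback snd (a V.1 ≫ pullback.fst b g.hom)).paste_horiz sqP
    have ha : (a V.1 ≫ pullback.fst b g.hom) ≫ b = (a V.1 ≫ pullback.snd b g.hom) ≫ g.hom := by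
      simp only [a, Category.assoc, pullback.condition]
    have big : IsPullback (pullback.fst snd (a V.1 ≫ pullback.fst b g.hom) ≫ s)
        (pullback.snd snd (a V.1 ≫ pullback.fst b g.hom)) f.hom
        ((a V.1 ≫ pullback.snd b g.hom) ≫ g.hom) := ha ▸ big
    exact hf' (AlgSp.IsAlgSpace.yon_obj _)
      (ASp.isQuasiCompactSp_yon (show CompactSpace (V.1.1 : Scheme.{u}) from inferInstance))
      (a V.1 ≫ pullback.snd b g.hom)
      (sq.lift (pullback.fst _ _ ≫ s) (pullback.snd _ _ ≫ a V.1 ≫ pullback.snd b g.hom)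
        (by rw [big.w]; simp only [Category.assoc, a]))
      _ (IsPullback.of_right (by rw [sq.lift_fst]; exact big) (sq.lift_snd _ _ _) sq)
  · obtain ⟨V, hV, z, ⟨r, ⟨w, hw, rfl⟩, rfl⟩, hz⟩ := Set.mem_iUnion₂.1
      (ht (Set.mem_univ ((AlgSp.Points.schemeHomeo Z).symm (AlgSp.Points.map snd x))))
    have hz' := (AlgSp.Points.schemeHomeo Z).symm.injective hz
    obtain ⟨p, hp, -⟩ := ASp.exists_of_isPullback
      (IsPullback.of_hasPullback snd (a V ≫ pullback.fst b g.hom)) x
      (AlgSp.Points.ofScheme (Over.mk (V.1.ι ≫ W.hom)) (⟨w, hw⟩ : V.1)) (by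
        rw [← hz', ← AlgSp.Points.ofPt_eq_map_ofScheme, ← AlgSp.Points.map_ofPt, ASp.ofPt_yon_map_comp]
        rfl)
    exact ⟨⟨V, hV⟩, p, hp⟩

end Groth.Agent.S9916
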