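import Groth.Statements.S9918
import Groth.Agent.Lib.AlgSpTop

set_option autoImplicit false
universe u
open CategoryTheory CategoryTheory.Limits AlgebraicGeometry
open AlgSp

namespace Groth.Agent.S9918

/-- (5) ⇒ (1): quasi-compactness of a morphism of algebraic spaces descends along a surjective etale
base change of algebraic spaces. -/
theorem result {S : Scheme.{u}} {X Y Y' X' : AlgSp.Space S}
    (f : X ⟶ Y) (g : Y' ⟶ Y) (fst : X' ⟶ X) (f' : X' ⟶ Y') (sq : IsPullback fst.hom f'.hom f.hom g.hom)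
    (hg : AlgSp.IsEtaleMor g.hom) (hgs : AlgSp.IsSurjectiveMor g.hom) (hf' : AlgSp.IsQuasiCompactMor f'.hom) :
    AlgSp.IsQuasiCompactMor f.hom := by
  obtain ⟨U, p, hpe, hps⟩ := Y'.property.atlas
  have hsurj : ∀ y : Points Y.obj, ∃ _ : PUnit.{u+1}, y ∈ Set.range (Points.ofPt (p ≫ g.hom)) := fun y => by
    obtain ⟨y', rfl⟩ := hgs y
    obtain ⟨w, rfl⟩ := Groth.Agent.ASp.surjective_ofPt_of_repWith hps y'
    exact ⟨⟨⟩, w, (Points.map_ofPt _ _ _).symm⟩
  exact Groth.Agent.ASp.isQuasiCompactMor_of_refines X.property Y.property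
    (Groth.Agent.ASp.refines_of_etale (fun _ : PUnit.{u+1} => p ≫ g.hom) (fun _ => hg p hpe) hsurj)
    (q := fun _ => pullback.fst f'.hom p ≫ fst.hom) (p := fun _ => pullback.snd f'.hom p)
    (fun _ => (IsPullback.of_hasPullback f'.hom p).paste_horiz sq)
    (fun _ => Groth.Agent.ASp.isQuasiCompactMor_baseChange (IsPullback.of_hasPullback f'.hom p) hf')

end Groth.Agent.S9918
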