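import Groth.Statements.S9919
import Groth.Agent.Lib.AlgSpUnram

set_option autoImplicit false
set_option backward.isDefEq.respectTransparency.types false
universe u
open CategoryTheory CategoryTheory.Limits AlgebraicGeometry
open AlgSp

namespace Groth.Agent.S9919

/-- For morphisms f : X -> Y and g : Y -> Z of algebraic spaces, quasi-compactness of the composite
together with quasi-separatedness of g forces f to be quasi-compact. -/
theorem result {S : Scheme.{u}} {X Y Z : AlgSp.Space S} (f : X ⟶ Y)
    (g : Y ⟶ Z) (hgf : AlgSp.IsQuasiCompactMor (f ≫ g).hom) (hg : AlgSp.IsQuasiSeparatedMor g.hom) :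
    AlgSp.IsQuasiCompactMor f.hom := by
  have hP := ASp.isAlgSpace_pullback (f ≫ g).hom g.hom X.property Y.property Z.property
  change IsQuasiCompactMor (f.hom ≫ g.hom) at hgf
  rw [show f.hom = pullback.lift (𝟙 X.obj) f.hom (by simp) ≫ pullback.snd (f.hom ≫ g.hom) g.hom
    from (pullback.lift_snd _ _ _).symm]
  exact ASp.isQuasiCompactMor_comp
    (ASp.isAlgSpace_pullback (f.hom ≫ g.hom) g.hom X.property Y.property Z.property) Y.property
    (ASp.isQuasiCompactMor_of_repWith (ASp.repWith_graph hg))
    (ASp.isQuasiCompactMor_baseChange (IsPullback.of_hasPullback _ _) hgf)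

end Groth.Agent.S9919
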