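import Groth.Statements.S9926
import Groth.Agent.Lib.AlgSpUnivClosedQC
import Groth.Agent.Lib.AlgSpProper

set_option autoImplicit false
set_option backward.isDefEq.respectTransparency.types false
universe u
open CategoryTheory CategoryTheory.Limits AlgebraicGeometry
open AlgSp

namespace Groth.Agent.S9926

/-- Let B be an algebraic space and f : X -> Y a morphism over B that is surjective and universally
closed. Quasi-separatedness of X over B forces quasi-separatedness of Y over B, and likewise for
separatedness. (The published lemma also has absolute versions; this row states the versions over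
B.) -/
theorem result {S : Scheme.{u}} {X Y B : AlgSp.Space S} (f : X ⟶ Y) (p : X ⟶ B)
    (q : Y ⟶ B) (comm : f ≫ q = p) (hs : AlgSp.IsSurjectiveMor f.hom) (hc : AlgSp.IsUnivClosedMor f.hom) :
    (AlgSp.IsQuasiSeparatedMor p.hom → AlgSp.IsQuasiSeparatedMor q.hom) ∧
    (AlgSp.IsSeparatedMor p.hom → AlgSp.IsSeparatedMor q.hom) := by
  let F := f.hom
  let q' := q.hom
  let p' := p.hom
  have hfq : F ≫ q' = p' := congrArg (fun m => m.hom) comm
  have hXX := ASp.isAlgSpace_pullback p' p' X.property X.property B.property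
  have hYX := ASp.isAlgSpace_pullback q' p' Y.property X.property B.property
  have hYY := ASp.isAlgSpace_pullback q' q' Y.property Y.property B.property
  let m₁ : pullback p' p' ⟶ pullback q' p' :=
    pullback.lift (pullback.fst p' p' ≫ F) (pullback.snd p' p') (by
      rw [Category.assoc, hfq, pullback.condition])
  let m₂ : pullback q' p' ⟶ pullback q' q' :=
    pullback.lift (pullback.fst q' p') (pullback.snd q' p' ≫ F) (by
      rw [Category.assoc, hfq, pullback.condition])
  have sq₁ : IsPullback (pullback.fst p' p') m₁ F (pullback.fst q' p') :=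
    IsPullback.of_bot (v₂₁ := pullback.snd q' p') (v₂₂ := q') (h₃₁ := p')
      (by rw [pullback.lift_snd, hfq]; exact IsPullback.of_hasPullback p' p') (pullback.lift_fst _ _ _).symm
      (IsPullback.of_hasPullback q' p')
  have sq₂ : IsPullback (pullback.snd q' p') m₂ F (pullback.snd q' q') :=
    IsPullback.of_bot (v₂₁ := pullback.fst q' q') (v₂₂ := q') (h₃₁ := q')
      (by rw [pullback.lift_fst, hfq]; exact (IsPullback.of_hasPullback q' p').flip) (pullback.lift_snd _ _ _).symm
      (IsPullback.of_hasPullback q' q').flip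
  have hd : F ≫ pullback.diagonal q' = pullback.diagonal p' ≫ m₁ ≫ m₂ := by
    apply pullback.hom_ext <;> simp only [m₁, m₂, Category.assoc, pullback.diagonal_fst, pullback.diagonal_snd, Category.comp_id, pullback.lift_fst, pullback.lift_snd, pullback.lift_fst_assoc, pullback.lift_snd_assoc, pullback.diagonal_fst_assoc, pullback.diagonal_snd_assoc]
  have hm₁ : AlgSp.IsUnivClosedMor m₁ := ASp.univSp_baseChange sq₁ hc
  have hm₂ : AlgSp.IsUnivClosedMor m₂ := ASp.univSp_baseChange sq₂ hc
  obtain ⟨hrep, -⟩ := (ASp.monoLFT_diagonal Y.property q').props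
  refine ⟨fun h => ?_, fun h => ?_⟩
  · have hqc : AlgSp.IsQuasiCompactMor (F ≫ pullback.diagonal q') := by
      rw [hd]
      exact ASp.isQuasiCompactMor_comp hXX hYY (ASp.isQuasiCompactMor_of_repWith h)
        (ASp.isQuasiCompactMor_comp hYX hYY (ASp.isQuasiCompactMor_of_univClosed hXX hYX hm₁)
          (ASp.isQuasiCompactMor_of_univClosed hYX hYY hm₂))
    change AlgSp.RepWith @QuasiCompact (pullback.diagonal q')
    rw [ASp.repWith_quasiCompact_iff hrep]
    intro Z Z' hZ hqcZ g fst snd sq
    have sq' := IsPullback.of_hasPullback F fst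
    have hZ' : AlgSp.IsAlgSpace Z' := ASp.isAlgSpace_of_isPullback hYY.diag sq Y.property hZ
    refine ASp.isQuasiCompactSp_of_cover hZ' (κ := PUnit.{1}) (fun _ => pullback.snd F fst)
      (fun _ => hqc hZ hqcZ g _ _ (sq'.flip.paste_horiz sq.flip).flip) fun z => ?_
    obtain ⟨x, hx⟩ := hs (AlgSp.Points.map fst z)
    obtain ⟨w, -, hw⟩ := ASp.exists_of_isPullback sq' x z hx
    exact ⟨⟨⟩, w, hw⟩
  · refine ASp.isSeparatedMor_of_univClosed_diagonal Y.property ?_
    have hu : AlgSp.IsUnivClosedMor (F ≫ pullback.diagonal q') := by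
      rw [hd]
      exact ASp.univSp_comp hXX hYY (ASp.isProperMor_of_closedImmersion hXX h).2.2
        (ASp.univSp_comp hYX hYY hm₁ hm₂)
    intro Z Z' hZ g fst snd sq A hA
    have sq' := IsPullback.of_hasPullback F fst
    have hcl := hu hZ g _ _ (sq'.flip.paste_horiz sq.flip).flip
    have himg : AlgSp.Points.map snd '' A = AlgSp.Points.map (pullback.snd F fst ≫ snd) ''
        (AlgSp.Points.map (pullback.snd F fst) ⁻¹' A) := by
      ext y
      constructor
      · rintro ⟨a, ha, rfl⟩
        obtain ⟨x, hx⟩ := hs (AlgSp.Points.map fst a)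
        obtain ⟨w, -, hw⟩ := ASp.exists_of_isPullback sq' x a hx
        exact ⟨w, by rw [Set.mem_preimage, hw]; exact ha, by rw [AlgSp.Points.map_comp, hw]⟩
      · rintro ⟨w, hw, rfl⟩
        exact ⟨_, hw, (AlgSp.Points.map_comp _ _ _).symm⟩
    rw [himg]
    exact hcl _ (hA.preimage (AlgSp.Points.continuous_map _))

end Groth.Agent.S9926
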