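import Groth.Statements.S9931
import Groth.Agent.Lib.AlgSpImmersion

set_option autoImplicit false
set_option backward.isDefEq.respectTransparency.types false
universe u
open CategoryTheory CategoryTheory.Limits AlgebraicGeometry
open AlgSp

namespace Groth.Agent.S9931

/-- (3) ⇒ (1): for P = closed immersion, open immersion or immersion, a morphism of algebraic spaces
whose base change to every affine scheme over the target is representable with P is itself
representable with P. -/
theorem result {S : Scheme.{u}} (P : MorphismProperty Scheme.{u})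
    (hP : P = @IsClosedImmersion ∨ P = @IsOpenImmersion ∨ P = @IsImmersion) {X Y : AlgSp.Space S} (f : X ⟶ Y)
    (h : ∀ (Z : Over S), IsAffine Z.left → ∀ (g : (AlgSp.yon S).obj Z ⟶ Y.obj) (P₀ : AlgSp.Sp S)
      (fst : P₀ ⟶ X.obj) (snd : P₀ ⟶ (AlgSp.yon S).obj Z), IsPullback fst snd f.hom g → AlgSp.RepWith P snd) :
    AlgSp.RepWith P f.hom := by
  obtain ⟨κ, U, a, hU, ha, href⟩ := ASp.exists_refines_affine Y.property
  have hsq := fun k => IsPullback.of_hasPullback f.hom (a k)
  have h' := fun k => h (U k) (hU k) (a k) _ _ _ (hsq k)
  rcases hP with rfl | rfl | rfl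
  · exact ASp.repWith_of_refines_affine ASp.closedImmersion_le_affineHom X.property Y.property href
      _ _ hsq h'
  · exact ASp.repWith_isOpenImmersion_of_refines X.property Y.property href hsq h'
  · refine ASp.repWith_immersion_of_charts X.property Y.property f.hom a
      (fun k => ASp.repWith_mono (fun _ _ g (_ : Etale g) => show Flat g from inferInstance) (ha k))
      (fun k => ASp.repWith_mono ASp.etale_le_universallyOpen (ha k)) (fun y => ?_) _ _ hsq h'
    obtain ⟨k, z, hz⟩ := href.exists_pt y
    obtain ⟨u, rfl⟩ := (AlgSp.Points.schemeHomeo (U k)).surjective z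
    exact ⟨k, u, by rw [AlgSp.Points.ofPt_eq_map_ofScheme]; exact hz⟩

end Groth.Agent.S9931
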