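import Groth.Statements.S9933
import Groth.Agent.Lib.AlgSpDiag

set_option autoImplicit false
set_option backward.isDefEq.respectTransparency.types false
universe u
open CategoryTheory CategoryTheory.Limits AlgebraicGeometry
open AlgSp

namespace Groth.Agent.S9933

/-- Permanence for Z -> Y -> X: the five representable finiteness/separation properties of Z -> X pass
to Z -> Y, and a closed immersion Z -> X with Y -> X separated gives a closed immersion Z -> Y. -/
theorem result {S : Scheme.{u}} {Z Y X : AlgSp.Space S} (a : Z ⟶ Y) (b : Y ⟶ X) :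
    ((AlgSp.Representable (a ≫ b).hom ∧ AlgSp.RepWith @LocallyOfFiniteType (a ≫ b).hom ∧
        AlgSp.RepWith (@LocallyQuasiFinite ⊓ @LocallyOfFiniteType) (a ≫ b).hom ∧
        AlgSp.RepWith @IsSeparated (a ≫ b).hom ∧
        AlgSp.RepWith (MorphismProperty.monomorphisms Scheme.{u}) (a ≫ b).hom) →
      (AlgSp.Representable a.hom ∧ AlgSp.RepWith @LocallyOfFiniteType a.hom ∧
        AlgSp.RepWith (@LocallyQuasiFinite ⊓ @LocallyOfFiniteType) a.hom ∧
        AlgSp.RepWith @IsSeparated a.hom ∧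
        AlgSp.RepWith (MorphismProperty.monomorphisms Scheme.{u}) a.hom)) ∧
    (AlgSp.RepWith @IsClosedImmersion (a ≫ b).hom → AlgSp.IsSeparatedMor b.hom →
      AlgSp.RepWith @IsClosedImmersion a.hom) := by
  have hab : (a ≫ b).hom = a.hom ≫ b.hom := rfl
  let Γ : Z.obj ⟶ pullback (a.hom ≫ b.hom) b.hom := pullback.lift (𝟙 _) a.hom (by rw [Category.id_comp])
  have hΓ : Γ ≫ pullback.snd _ _ = a.hom := pullback.lift_snd _ _ _
  have sqΓ := pullback_lift_diagonal_isPullback a.hom b.hom
  have sqS := IsPullback.of_hasPullback (a.hom ≫ b.hom) b.hom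
  obtain ⟨g₁, g₂, g₃, g₄, g₅⟩ := ASp.MonoLFT.props (ASp.repWith_baseChange sqΓ (ASp.monoLFT_diagonal Y.property b.hom))
  constructor
  · rintro ⟨k₁, k₂, k₅, k₄, k₃⟩
    rw [hab] at k₁ k₂ k₃ k₄ k₅
    rw [← hΓ]
    exact ⟨MorphismProperty.comp_mem _ _ _ g₁ (ASp.representable_baseChange sqS k₁),
      ASp.repWith_comp g₂ (ASp.repWith_baseChange sqS k₂), ASp.repWith_comp g₅ (ASp.repWith_baseChange sqS k₅),
      ASp.repWith_comp g₄ (ASp.repWith_baseChange sqS k₄), ASp.repWith_comp g₃ (ASp.repWith_baseChange sqS k₃)⟩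
  · intro hc hsep
    rw [hab] at hc
    rw [← hΓ]
    exact ASp.repWith_comp (ASp.repWith_baseChange sqΓ hsep) (ASp.repWith_baseChange sqS hc)

end Groth.Agent.S9933
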