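import Groth.Statements.S9940
import Groth.Agent.Lib.AlgSpTop

set_option autoImplicit false
universe u
open CategoryTheory CategoryTheory.Limits AlgebraicGeometry
open AlgSp

namespace Groth.Agent.S9940

/-- (4) ⇒ (1): universal injectivity of a morphism of algebraic spaces descends along a surjective base
change from a scheme. -/
theorem result {S : Scheme.{u}} {X Y : AlgSp.Space S} (f : X ⟶ Y)
    (Z : Over S) (g : (AlgSp.yon S).obj Z ⟶ Y.obj) (hg : AlgSp.IsSurjectiveMor g) {P : AlgSp.Sp S}
    (fst : P ⟶ X.obj) (snd : P ⟶ (AlgSp.yon S).obj Z) (sq : IsPullback fst snd f.hom g)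
    (h : AlgSp.IsUnivInjectiveMor snd) : AlgSp.IsUnivInjectiveMor f.hom := by
  intro W W' hW b fst' snd' sq'
  have hc := Groth.Agent.ASp.surjective_baseChange (IsPullback.of_hasPullback g b) hg
  refine Groth.Agent.ASp.injective_of_jointlySurjective (κ := PUnit.{u+1})
    (fun _ => pullback.snd g b) (fun _ => pullback.fst snd' (pullback.snd g b))
    (fun _ => pullback.snd snd' (pullback.snd g b)) (fun _ => IsPullback.of_hasPullback _ _)
    (fun z => ⟨⟨⟩, hc z⟩) fun _ => ?_
  have big := (IsPullback.of_hasPullback snd' (pullback.snd g b)).paste_horiz sq'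
  rw [← pullback.condition] at big
  exact h (Groth.Agent.ASp.isAlgSpace_pullback g b (IsAlgSpace.yon_obj Z) hW Y.property) (pullback.fst g b)
    (sq.lift (pullback.fst _ _ ≫ fst') (pullback.snd _ _ ≫ pullback.fst g b)
      (by rw [big.w, Category.assoc])) _
    (IsPullback.of_right (by rw [sq.lift_fst]; exact big) (sq.lift_snd _ _ _) sq)

end Groth.Agent.S9940
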