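import Groth.Statements.S9942
import Groth.Agent.Lib.AlgSpAffineGlobal

set_option autoImplicit false
set_option backward.isDefEq.respectTransparency.types false
universe u
open CategoryTheory CategoryTheory.Limits AlgebraicGeometry
open AlgSp

namespace Groth.Agent.S9942

/-- (3) ⇒ (2): if X x_Y V is an affine scheme for every affine scheme V etale over Y, then f : X -> Y is
affine. -/
theorem result {S : Scheme.{u}} {X Y : AlgSp.Space S} (f : X ⟶ Y)
    (h : ∀ (V : Over S), IsAffine V.left → ∀ (b : (AlgSp.yon S).obj V ⟶ Y.obj), AlgSp.RepWith @Etale b →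
      ∀ (P : AlgSp.Sp S) (fst : P ⟶ X.obj) (snd : P ⟶ (AlgSp.yon S).obj V), IsPullback fst snd f.hom b →
      ∃ (W : Over S), IsAffine W.left ∧ Nonempty ((AlgSp.yon S).obj W ≅ P)) :
    AlgSp.IsAffineMor f.hom := by
  obtain ⟨κ, U, a, hU, ha, href⟩ := ASp.exists_refines_affine Y.property
  refine ASp.exists_affine_of_refines X.property Y.property href (fun k => pullback.fst f.hom (a k))
    (fun k => pullback.snd f.hom (a k)) (fun k => IsPullback.of_hasPullback _ _) fun k => ?_
  obtain ⟨W, hW, ⟨e⟩⟩ := h (U k) (hU k) (a k) (ha k) _ _ _ (IsPullback.of_hasPullback f.hom (a k))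
  obtain ⟨w, hw⟩ := ((AlgSp.yon S).map_surjective (e.hom ≫ pullback.snd f.hom (a k)))
  have : IsAffine (U k).left := hU k
  have hwa : IsAffineHom w.left := inferInstance
  have h1 : pullback.snd f.hom (a k) = e.inv ≫ (AlgSp.yon S).map w := by rw [hw, Iso.inv_hom_id_assoc]
  rw [h1]
  exact ASp.isAffineMor_of_repWith (ASp.repWith_comp (ASp.repWith_of_isIso @IsAffineHom)
    ((AlgSp.repWith_yon_map_iff _ w).2 hwa))

end Groth.Agent.S9942
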