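import Groth.Statements.S9944
import Groth.Agent.Lib.AlgSpImmersion
import Groth.Agent.Lib.AlgSpUnram

set_option autoImplicit false
set_option backward.isDefEq.respectTransparency.types false
universe u
open CategoryTheory CategoryTheory.Limits AlgebraicGeometry
open AlgSp

namespace Groth.Agent.S9944

/-- Let g : X -> Y be a morphism over a base algebraic space B with X affine over B. Then g is affine as
soon as the diagonal of Y over B is affine, and in particular as soon as Y is B-separated. (The
published lemma also has two versions with the absolute diagonal of Y; this row states the versions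
over B.) -/
theorem result {S : Scheme.{u}} {X Y B : AlgSp.Space S} (g : X ⟶ Y) (p : X ⟶ B)
    (q : Y ⟶ B) (comm : g ≫ q = p) (hp : AlgSp.IsAffineMor p.hom) :
    (AlgSp.IsAffineMor (pullback.diagonal q.hom) → AlgSp.IsAffineMor g.hom) ∧
    (AlgSp.IsSeparatedMor q.hom → AlgSp.IsAffineMor g.hom) := by
  have main : AlgSp.IsAffineMor (pullback.diagonal q.hom) → AlgSp.IsAffineMor g.hom := fun hd => by
    have hp' : AlgSp.RepWith @IsAffineHom p.hom :=
      ASp.repWith_isAffineHom_of_isAffineMor X.property B.property hp
    have hd' : AlgSp.RepWith @IsAffineHom (pullback.diagonal q.hom) :=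
      ASp.repWith_isAffineHom_of_isAffineMor Y.property
        (ASp.isAlgSpace_pullback q.hom q.hom Y.property Y.property B.property) hd
    have hgq : g.hom ≫ q.hom = p.hom := congrArg (fun m => m.hom) comm
    rw [show g.hom = pullback.lift (𝟙 X.obj) g.hom (by simp) ≫ pullback.snd (g.hom ≫ q.hom) q.hom from
      (pullback.lift_snd _ _ _).symm]
    exact ASp.isAffineMor_of_repWith (ASp.repWith_comp (ASp.repWith_graph hd')
      (ASp.repWith_baseChange (IsPullback.of_hasPullback _ _) (hgq ▸ hp')))
  exact ⟨main, fun h => main (ASp.isAffineMor_of_repWith (ASp.repWith_mono ASp.closedImmersion_le_affineHom h))⟩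

end Groth.Agent.S9944
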