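import Groth.Statements.S9957
import Groth.Agent.Lib.AlgSpUnram

set_option autoImplicit false
set_option backward.isDefEq.respectTransparency.types false
universe u
open CategoryTheory CategoryTheory.Limits AlgebraicGeometry
open AlgSp

namespace Groth.Agent.S9957

/-- The source of a morphism of finite presentation whose target is Noetherian is itself Noetherian,
Noetherian meaning quasi-compact, quasi-separated over S and locally Noetherian. (The published
statement uses quasi-separatedness in the absolute sense; this row uses quasi-separatedness over S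
in hypothesis and conclusion.) -/
theorem result {S : Scheme.{u}} {X Y : AlgSp.Space S} (f : X ⟶ Y)
    (hf : AlgSp.IsFinitePresentationMor f.hom)
    (hY : AlgSp.IsQuasiCompactSp Y.obj ∧ AlgSp.IsQuasiSeparatedSp Y.obj ∧ AlgSp.IsLocNoethSp Y.obj) :
    AlgSp.IsQuasiCompactSp X.obj ∧ AlgSp.IsQuasiSeparatedSp X.obj ∧ AlgSp.IsLocNoethSp X.obj := by
  obtain ⟨U, V, a, b, α, hV, hae, has, hbe, hab⟩ := ASp.exists_chart_noeth X.property Y.property f.hom hY.2.2
  have : LocallyOfFinitePresentation α.left := hf.1 a b α hae hbe hab
  refine ⟨hf.2.1 Y.property hY.1 (𝟙 _) (𝟙 _) f.hom (IsPullback.of_horiz_isIso ⟨by simp⟩),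
    ASp.repWith_diag_of_morphism hf.2.2 hY.2.1, U, a, hae, has, ?_⟩
  exact LocallyOfFiniteType.isLocallyNoetherian α.left

end Groth.Agent.S9957
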