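import Groth.Statements.S9958
import Groth.Agent.Lib.AlgSpLocalRows

set_option autoImplicit false
set_option backward.isDefEq.respectTransparency.types false
universe u
open CategoryTheory CategoryTheory.Limits AlgebraicGeometry
open AlgSp

namespace Groth.Agent.S9958

/-- Over a locally Noetherian algebraic space, locally of finite type implies locally of finite
presentation. -/
theorem result {S : Scheme.{u}} {X Y : AlgSp.Space S} (f : X ⟶ Y)
    (hY : AlgSp.IsLocNoethSp Y.obj) (hf : AlgSp.LocP @LocallyOfFiniteType f.hom) :
    AlgSp.LocP @LocallyOfFinitePresentation f.hom := by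
  obtain ⟨U, V, a, b, α, hV, hae, has, hbe, hab⟩ := ASp.exists_chart_noeth X.property Y.property f.hom hY
  have : LocallyOfFiniteType α.left := hf a b α hae hbe hab
  exact ASp.locP_of_chart hae has hbe hab (inferInstanceAs (LocallyOfFinitePresentation α.left))

end Groth.Agent.S9958
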