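import Groth.Statements.S9959
import Groth.Agent.Lib.AlgSpLocalRows

set_option autoImplicit false
set_option backward.isDefEq.respectTransparency.types false
universe u
open CategoryTheory CategoryTheory.Limits AlgebraicGeometry
open AlgSp

namespace Groth.Agent.S9959

/-- Given X -> Y -> Z with X -> Z locally finitely presented and Y -> Z locally of finite type, X -> Y
is locally finitely presented (all three etale locally on source and target). -/
theorem result {S : Scheme.{u}} {X Y Z : AlgSp.Space S} (f : X ⟶ Y) (g : Y ⟶ Z)
    (hX : AlgSp.LocP @LocallyOfFinitePresentation (f ≫ g).hom) (hY : AlgSp.LocP @LocallyOfFiniteType g.hom) :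
    AlgSp.LocP @LocallyOfFinitePresentation f.hom := by
  obtain ⟨U, V, W, a, b, c, α, β, hae, has, hbe, hce, hab, hbc, hac⟩ :=
    ASp.exists_chart₂ X.property Y.property Z.property f.hom g.hom
  have : LocallyOfFiniteType β.left := hY b c β hbe hce hbc
  have : LocallyOfFinitePresentation (α.left ≫ β.left) := hX a c (α ≫ β) hae hce hac
  exact ASp.locP_of_chart hae has hbe hab (ASp.locallyOfFinitePresentation_of_comp α.left β.left)

end Groth.Agent.S9959
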