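import Groth.Statements.S9960
import Groth.Agent.Lib.AlgSpUnram

set_option autoImplicit false
set_option backward.isDefEq.respectTransparency.types false
universe u
open CategoryTheory CategoryTheory.Limits AlgebraicGeometry
open AlgSp

namespace Groth.Agent.S9960

/-- The diagonal of a morphism locally of finite type is locally of finite presentation, and of finite
presentation when the morphism is also quasi-separated. -/
theorem result {S : Scheme.{u}} {X Y : AlgSp.Space S} (f : X ⟶ Y)
    (hf : AlgSp.LocP @LocallyOfFiniteType f.hom) :
    AlgSp.LocP @LocallyOfFinitePresentation (pullback.diagonal f.hom) ∧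
    (AlgSp.IsQuasiSeparatedMor f.hom → AlgSp.IsFinitePresentationMor (pullback.diagonal f.hom)) := by
  have hR := ASp.isAlgSpace_pullback f.hom f.hom X.property X.property Y.property
  have hfst : LocP @LocallyOfFiniteType (pullback.fst f.hom f.hom) :=
    ASp.locP_baseChange X.property Y.property X.property (IsPullback.of_hasPullback f.hom f.hom).flip hf
  have : MorphismProperty.ContainsIdentities (@LocallyOfFinitePresentation : MorphismProperty Scheme.{u}) :=
    ⟨fun _ => inferInstance⟩
  have hd : LocP @LocallyOfFinitePresentation (pullback.diagonal f.hom) := by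
    obtain ⟨U, V, W, a, b, c, α, β, hae, has, hbe, hce, hab, hbc, hac⟩ :=
      ASp.exists_chart₂ X.property hR X.property (pullback.diagonal f.hom) (pullback.fst f.hom f.hom)
    have : LocallyOfFiniteType β.left := hfst b c β hbe hce hbc
    have : LocallyOfFinitePresentation (α.left ≫ β.left) :=
      ASp.locP_of_repWith (P := @LocallyOfFinitePresentation) X.property
        (by rw [pullback.diagonal_fst]; exact ASp.repWith_of_isIso _) a c (α ≫ β) hae hce hac
    exact ASp.locP_of_chart hae has hbe hab (ASp.locallyOfFinitePresentation_of_comp α.left β.left)
  refine ⟨hd, fun hq => ⟨hd, ASp.isQuasiCompactMor_of_repWith hq, ?_⟩⟩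
  have := ASp.mono_of_repWith_mono (ASp.monoLFT_diagonal X.property f.hom).props.2.2.1
  exact ASp.repWith_of_isIso _

end Groth.Agent.S9960
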