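import Groth.Statements.S9963
import Groth.Agent.Lib.AlgSpMono

set_option autoImplicit false
set_option backward.isDefEq.respectTransparency.types false
universe u
open CategoryTheory CategoryTheory.Limits AlgebraicGeometry
open AlgSp

namespace Groth.Agent.S9963

/-- A morphism of algebraic spaces that is flat, quasi-compact and surjective is submersive, and
universally submersive. -/
theorem result {S : Scheme.{u}} {X Y : AlgSp.Space S} (f : X ⟶ Y)
    (hfl : AlgSp.LocP @Flat f.hom) (hqc : AlgSp.IsQuasiCompactMor f.hom) (hs : AlgSp.IsSurjectiveMor f.hom) :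
    AlgSp.IsSubmersiveMor f.hom ∧ AlgSp.IsUnivSubmersiveMor f.hom := by
  have key : ∀ {A B : Sp S} (g : A ⟶ B), IsAlgSpace A → IsAlgSpace B → LocP @Flat g →
      IsQuasiCompactMor g → IsSurjectiveMor g → IsSubmersiveMor g := fun g hA hB h₁ h₂ h₃ =>
    ⟨.of_isOpen_preimage_iff_isOpen fun W => ⟨fun hW => (ASp.refines_of_flat_qc_surj hA hB h₁ h₂ h₃).isOpen
      fun _ => hW, fun hW => hW.preimage (Points.continuous_map _)⟩, h₃⟩
  refine ⟨key f.hom X.property Y.property hfl hqc hs, fun Z Z' hZ b fst snd sq => ?_⟩
  exact key snd (ASp.isAlgSpace_of_isPullback Y.property.diag sq X.property hZ) hZ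
    (ASp.locP_baseChange X.property Y.property hZ sq hfl) (ASp.isQuasiCompactMor_baseChange sq hqc)
    (ASp.surjective_baseChange sq hs)

end Groth.Agent.S9963
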