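import Groth.Statements.S9972
import Groth.Agent.Lib.AlgSpDiag
import Groth.Agent.Lib.AlgSpTop
import Groth.Agent.Lib.AlgSpBasic

set_option autoImplicit false
set_option backward.isDefEq.respectTransparency.types false
universe u
open CategoryTheory CategoryTheory.Limits AlgebraicGeometry
open AlgSp

namespace Groth.Agent.S9972

/-- Two morphisms to an algebraic space separated over B that agree on an open subspace whose scheme
theoretic closure is everything are equal. -/
theorem result {S : Scheme.{u}} {U X Y B : AlgSp.Space S} (q : Y ⟶ B)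
    (hq : AlgSp.IsSeparatedMor q.hom) (f g : X ⟶ Y) (hfg : f ≫ q = g ≫ q) (j : U ⟶ X)
    (hj : AlgSp.RepWith @IsOpenImmersion j.hom) (hcl : AlgSp.IsSchImage j.hom (𝟙 X.obj)) (heq : j ≫ f = j ≫ g) :
    f = g := by
  have hfg' : f.hom ≫ q.hom = g.hom ≫ q.hom := congrArg InducedCategory.Hom.hom hfg
  let l : X.obj ⟶ pullback q.hom q.hom := pullback.lift f.hom g.hom hfg'
  have sq : IsPullback (pullback.fst (pullback.diagonal q.hom) l) (pullback.snd (pullback.diagonal q.hom) l)
      (pullback.diagonal q.hom) l := IsPullback.of_hasPullback _ _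
  have hE : AlgSp.IsAlgSpace (pullback (pullback.diagonal q.hom) l) :=
    Groth.Agent.ASp.isAlgSpace_pullback _ _ Y.property X.property (Groth.Agent.ASp.isAlgSpace_pullback _ _ Y.property Y.property B.property)
  have heq' : j.hom ≫ f.hom = j.hom ≫ g.hom := congrArg InducedCategory.Hom.hom heq
  have hfac : ∃ f'' : U.obj ⟶ pullback (pullback.diagonal q.hom) l,
      f'' ≫ pullback.snd (pullback.diagonal q.hom) l = j.hom := by
    refine ⟨pullback.lift (j.hom ≫ f.hom) j.hom ?_, pullback.lift_snd _ _ _⟩
    apply pullback.hom_ext
    · rw [Category.assoc, Category.assoc, Category.assoc, pullback.diagonal_fst]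
      exact (Category.comp_id (j.hom ≫ f.hom)).trans (congrArg (fun m => j.hom ≫ m) (pullback.lift_fst _ _ _).symm) |>.trans rfl
    · rw [Category.assoc, Category.assoc, Category.assoc, pullback.diagonal_snd]
      exact ((Category.comp_id (j.hom ≫ f.hom)).trans heq').trans (congrArg (fun m => j.hom ≫ m) (pullback.lift_snd _ _ _).symm)
  obtain ⟨k, hk⟩ := hcl.2.2 (pullback.snd (pullback.diagonal q.hom) l) hE (Groth.Agent.ASp.repWith_baseChange sq hq) hfac
  have h0 := congrArg (fun m => k ≫ m) (pullback.condition (f := pullback.diagonal q.hom) (g := l))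
  simp only [← Category.assoc, hk, Category.id_comp] at h0
  have hf : k ≫ pullback.fst (pullback.diagonal q.hom) l = f.hom := by
    have := congrArg (fun m => m ≫ pullback.fst q.hom q.hom) h0
    simp only [Category.assoc, pullback.diagonal_fst, pullback.diagonal_snd, Category.comp_id] at this
    exact this.trans (by first | exact pullback.lift_fst _ _ _ | exact pullback.lift_snd _ _ _)
  have hg : k ≫ pullback.fst (pullback.diagonal q.hom) l = g.hom := by
    have := congrArg (fun m => m ≫ pullback.snd q.hom q.hom) h0
    simp only [Category.assoc, pullback.diagonal_fst, pullback.diagonal_snd, Category.comp_id] at this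
    exact this.trans (by first | exact pullback.lift_fst _ _ _ | exact pullback.lift_snd _ _ _)
  exact InducedCategory.hom_ext (hf.symm.trans hg)

end Groth.Agent.S9972
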