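import Groth.Statements.S9973
import Groth.Agent.Lib.AlgSpSchImageSection
import Groth.Agent.Lib.AlgSpTop

set_option autoImplicit false
set_option backward.isDefEq.respectTransparency.types false
universe u
open CategoryTheory CategoryTheory.Limits AlgebraicGeometry
open AlgSp

namespace Groth.Agent.S9973

/-- The inverse image of a quasi-compact scheme theoretically dense open under a flat morphism of
algebraic spaces is scheme theoretically dense. -/
theorem result {S : Scheme.{u}} {X Y V V' : AlgSp.Space S} (f : X ⟶ Y)
    (hf : AlgSp.LocP @Flat f.hom) (j : V ⟶ Y) (hj : AlgSp.IsSchDense j.hom) (hjq : AlgSp.IsQuasiCompactMor j.hom)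
    (fst : V' ⟶ V) (jX : V' ⟶ X) (sq : IsPullback fst.hom jX.hom j.hom f.hom) : AlgSp.IsSchDense jX.hom := by
  have h0 := ASp.isSchImage_id_of_isSchDense hjq hj
  have hjX := ASp.repWith_baseChange sq hj.1
  have hq := ASp.isQuasiCompactMor_baseChange sq hjq
  have h1 := ASp.isSchImage_flat_baseChange V.property Y.property Y.property X.property hjq h0 hf sq
    (IsPullback.of_vert_isIso ⟨by simp⟩ : IsPullback f.hom (𝟙 X.obj) (𝟙 Y.obj) f.hom)
  exact (ASp.immersion_into_schImage V'.property X.property X.property
    (ASp.repWith_mono ASp.openImmersion_le_immersion hjX) (Or.inl hq) h1 (Category.comp_id jX.hom)).2.1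

end Groth.Agent.S9973
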